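import Groth.Agent.Lead.TildeTensor
import Groth.Agent.Helper4.TensorRes
import Groth.Agent.Helper4.QcohGlue
import Groth.Agent.Helper4.QcohLimits
import Groth.Agent.Helper4.SecDict
import Groth.Agent.Helper4.FTGlue
import Groth.Agent.Helper4.SuppDict
import Groth.Prelude.Def_PicGrp
import Mathlib

/-!
# Lead: the tensor product of quasi-coherent modules is quasi-coherent, with the expected sections
over affine opens
-/

set_option autoImplicit false
open CategoryTheory AlgebraicGeometry Opposite TopologicalSpace TensorProduct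
universe u

namespace Groth.Agent.Lead.QcohTensor
open Scheme.Modules Groth.Agent.Helper4 Groth.Agent.Lead.TildeTensor

theorem nontrivial_tensor_iff_of_field (K V W : Type u) [Field K] [AddCommGroup V] [Module K V]
    [AddCommGroup W] [Module K W] : Nontrivial (V ⊗[K] W) ↔ Nontrivial V ∧ Nontrivial W := by
  constructor
  · intro h
    constructor
    · by_contra hV
      rw [not_nontrivial_iff_subsingleton] at hV
      haveI := hV
      exact not_subsingleton (V ⊗[K] W) inferInstance
    · by_contra hW
      rw [not_nontrivial_iff_subsingleton] at hW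
      haveI := hW
      exact not_subsingleton (V ⊗[K] W) inferInstance
  · rintro ⟨hV, hW⟩
    obtain ⟨w, hw⟩ := exists_ne (0 : W)
    refine TensorProduct.nontrivial_of_linearMap_injective_of_flat_left K V W
      (LinearMap.toSpanSingleton K W w) ?_
    intro a b hab
    simp only [LinearMap.toSpanSingleton_apply] at hab
    exact smul_left_injective K hw hab

theorem support_tensorProduct (R M N : Type u) [CommRing R] [AddCommGroup M] [Module R M]
    [AddCommGroup N] [Module R N] [Module.Finite R M] [Module.Finite R N] :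
    Module.support R (M ⊗[R] N) = Module.support R M ∩ Module.support R N := by
  ext p
  rw [Set.mem_inter_iff, Module.mem_support_iff_nontrivial_residueField_tensorProduct,
    Module.mem_support_iff_nontrivial_residueField_tensorProduct,
    Module.mem_support_iff_nontrivial_residueField_tensorProduct]
  rw [(AlgebraTensorModule.distribBaseChange R p.asIdeal.ResidueField M N).nontrivial_congr]
  exact nontrivial_tensor_iff_of_field _ _ _

variable {X : Scheme.{u}} (F G : X.Modules) [F.IsQuasicoherent] [G.IsQuasicoherent]
  {U : X.Opens} (hU : IsAffineOpen U)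

/-- the counit iso for a quasi-coherent module on an affine scheme -/
noncomputable def tildeΓIso {R : CommRingCat.{u}} (H : (Spec R).Modules) [H.IsQuasicoherent] :
    tilde (moduleSpecΓFunctor.obj H) ≅ H := by
  have e := asIso (fromTildeΓ H)
  exact e

/-- the restriction of `F ⊗ G` to an affine open is the tilde of the tensor product of sections -/
noncomputable def restrictIso :
    (CohB1.tensorMod F G).restrict hU.fromSpec ≅
      tilde (ModuleCat.of Γ(X, U)
        ((moduleSpecΓFunctor.obj (F.restrict hU.fromSpec) : ModuleCat Γ(X, U)) ⊗[Γ(X, U)]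
          (moduleSpecΓFunctor.obj (G.restrict hU.fromSpec) : ModuleCat Γ(X, U)))) :=
  (TensorRes.resIso hU.fromSpec F G).symm ≪≫
    PicGrp.tensorModIso (tildeΓIso (F.restrict hU.fromSpec)).symm
      (tildeΓIso (G.restrict hU.fromSpec)).symm ≪≫
    tensorTildeIso _ _

theorem isQuasicoherent_tensorMod : (CohB1.tensorMod F G).IsQuasicoherent := by
  apply QcohGlue.isQuasicoherent_of_affine_cover
  intro x
  obtain ⟨_, ⟨U, hU : IsAffineOpen U, rfl⟩, hxU, -⟩ :=
    X.isBasis_affineOpens.exists_subset_of_mem_open (Set.mem_univ x) isOpen_univ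
  exact ⟨U, hU, hxU, QcohLimits.isQuasicoherent_of_iso (restrictIso F G hU).symm⟩

/-- sections of `F ⊗ G` over an affine open -/
noncomputable def sectionsTensorEquiv :
    Γ(CohB1.tensorMod F G, U) ≃ₗ[Γ(X, U)] Γ(F, U) ⊗[Γ(X, U)] Γ(G, U) :=
  SecDict.sectionsEquiv hU (CohB1.tensorMod F G) ≪≫ₗ
    ((moduleSpecΓFunctor (R := Γ(X, U))).mapIso (restrictIso F G hU)).toLinearEquiv ≪≫ₗ
    (tilde.toTildeΓNatIso.app (ModuleCat.of Γ(X, U)
        ((moduleSpecΓFunctor.obj (F.restrict hU.fromSpec) : ModuleCat Γ(X, U)) ⊗[Γ(X, U)]
          (moduleSpecΓFunctor.obj (G.restrict hU.fromSpec) : ModuleCat Γ(X, U))))).symm.toLinearEquiv ≪≫ₗ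
    TensorProduct.congr (SecDict.sectionsEquiv hU F).symm (SecDict.sectionsEquiv hU G).symm

theorem isFT_tensorMod (hF : SheafOfModules.IsFiniteType (R := X.ringCatSheaf) F)
    (hG : SheafOfModules.IsFiniteType (R := X.ringCatSheaf) G) :
    SheafOfModules.IsFiniteType (R := X.ringCatSheaf) (CohB1.tensorMod F G) := by
  haveI := isQuasicoherent_tensorMod F G
  apply FTGlue.isFiniteType_of_finite_sections
  intro x
  obtain ⟨_, ⟨U, hU : IsAffineOpen U, rfl⟩, hxU, -⟩ :=
    X.isBasis_affineOpens.exists_subset_of_mem_open (Set.mem_univ x) isOpen_univ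
  refine ⟨U, hU, hxU, ?_⟩
  haveI := SecDict.finite_sections hU F inferInstance hF
  haveI := SecDict.finite_sections hU G inferInstance hG
  exact Module.Finite.equiv (sectionsTensorEquiv F G hU).symm

theorem support_tensorMod (hF : SheafOfModules.IsFiniteType (R := X.ringCatSheaf) F)
    (hG : SheafOfModules.IsFiniteType (R := X.ringCatSheaf) G) :
    CohB1.support (CohB1.tensorMod F G) = CohB1.support F ∩ CohB1.support G := by
  haveI := isQuasicoherent_tensorMod F G
  ext x
  obtain ⟨_, ⟨U, hU : IsAffineOpen U, rfl⟩, hxU, -⟩ :=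
    X.isBasis_affineOpens.exists_subset_of_mem_open (Set.mem_univ x) isOpen_univ
  haveI := SecDict.finite_sections hU F inferInstance hF
  haveI := SecDict.finite_sections hU G inferInstance hG
  rw [Set.mem_inter_iff, ← SuppDict.mem_support_iff hU _ x hxU,
    ← SuppDict.mem_support_iff hU F x hxU, ← SuppDict.mem_support_iff hU G x hxU,
    (sectionsTensorEquiv F G hU).support_eq, support_tensorProduct]
  rfl

end Groth.Agent.Lead.QcohTensor
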