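import Mathlib
import Groth.Prelude.Def_CohTop

namespace Groth.Agent.Lead.CohTopB
open CategoryTheory TopologicalSpace Opposite Limits Abelian

universe u
variable {X : TopCat.{u}}

/-- free-sheafify functor on presheaves of sets -/
noncomputable abbrev LF (X : TopCat.{u}) : ((Opens X)ᵒᵖ ⥤ Type u) ⥤ CohTop.Ab X :=
  (Functor.whiskeringRight (Opens X)ᵒᵖ _ _).obj AddCommGrpCat.free.{u} ⋙
      presheafToSheaf (Opens.grothendieckTopology X) AddCommGrpCat.{u}

/-- forgetful functor to presheaves of sets -/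
noncomputable abbrev RF (X : TopCat.{u}) : CohTop.Ab X ⥤ ((Opens X)ᵒᵖ ⥤ Type u) :=
  sheafToPresheaf (Opens.grothendieckTopology X) AddCommGrpCat.{u} ⋙
      (Functor.whiskeringRight (Opens X)ᵒᵖ _ _).obj (forget AddCommGrpCat.{u})

/-- the adjunction free-sheafify ⊣ forget -/
noncomputable def adjF (X : TopCat.{u}) : LF X ⊣ RF X :=
  (Adjunction.whiskerRight _ AddCommGrpCat.adj).comp
    (sheafificationAdjunction (Opens.grothendieckTopology X) AddCommGrpCat.{u})

/-- `ℤ_U` -/
noncomputable abbrev freeU (U : Opens X) : CohTop.Ab X := (LF X).obj (yoneda.obj U)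

/-- `ℤ_V → ℤ_U` -/
noncomputable abbrev freeMap {U V : Opens X} (i : V ⟶ U) : freeU V ⟶ freeU U :=
  (LF X).map (yoneda.map i)

/-- `Hom(ℤ_U, G) ≃ G(U)` -/
noncomputable def homEquiv (U : Opens X) (G : CohTop.Ab X) :
    (freeU U ⟶ G) ≃ G.obj.obj (op U) :=
  ((adjF X).homEquiv (yoneda.obj U) G).trans yonedaEquiv

lemma homEquiv_comp (U : Opens X) {G G' : CohTop.Ab X} (φ : freeU U ⟶ G) (g : G ⟶ G') :
    homEquiv U G' (φ ≫ g) = g.hom.app (op U) (homEquiv U G φ) := by
  unfold homEquiv
  simp only [Equiv.trans_apply]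
  rw [Adjunction.homEquiv_naturality_right, yonedaEquiv_comp]
  rfl

lemma homEquiv_map {U V : Opens X} (i : V ⟶ U) {G : CohTop.Ab X} (φ : freeU U ⟶ G) :
    homEquiv V G (freeMap i ≫ φ) = G.obj.map i.op (homEquiv U G φ) := by
  unfold homEquiv
  simp only [Equiv.trans_apply]
  rw [Adjunction.homEquiv_naturality_left]
  exact (yonedaEquiv_naturality _ _).symm

instance mono_freeMap {U V : Opens X} (i : V ⟶ U) : Mono (freeMap i) := by
  have h1 : Mono (yoneda.map i) := inferInstance
  have h2 : Mono (((Functor.whiskeringRight (Opens X)ᵒᵖ _ _).obj AddCommGrpCat.free.{u}).map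
      (yoneda.map i)) := by
    rw [NatTrans.mono_iff_mono_app]
    intro W
    have : Mono ((yoneda.map i).app W) := by
      rw [NatTrans.mono_iff_mono_app] at h1
      exact h1 W
    simp only [Functor.whiskeringRight_obj_map, Functor.whiskerRight_app]
    infer_instance
  exact (presheafToSheaf (Opens.grothendieckTopology X) AddCommGrpCat.{u}).map_mono _

end Groth.Agent.Lead.CohTopB

namespace Groth.Agent.Lead.CohTopB
open CategoryTheory TopologicalSpace Opposite Limits Abelian
universe u
variable {X : TopCat.{u}}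

theorem isFlasque_of_injective (F : CohTop.Ab X) [Injective F] : TopCat.Sheaf.IsFlasque F where
  epi {U V} i := by
    rw [AddCommGrpCat.epi_iff_surjective]
    intro s
    let φ := (homEquiv V.unop F).symm s
    let ψ := Injective.factorThru φ (freeMap i.unop)
    refine ⟨homEquiv U.unop F ψ, ?_⟩
    have := homEquiv_map i.unop ψ
    rw [Injective.comp_factorThru] at this
    simp only [φ, Equiv.apply_symm_apply] at this
    exact this.symm

end Groth.Agent.Lead.CohTopB

namespace Groth.Agent.Lead.CohTopB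
open CategoryTheory TopologicalSpace Opposite Limits Abelian
universe u
variable {X : TopCat.{u}}

/-- the short exact sequence `0 → F → I → I/F → 0` with `I` injective. -/
noncomputable def injSC (F : CohTop.Ab X) : ShortComplex (CohTop.Ab X) :=
  ShortComplex.mk (Injective.ι F) (cokernel.π (Injective.ι F)) (cokernel.condition _)

lemma injSC_shortExact (F : CohTop.Ab X) : (injSC F).ShortExact where
  exact := ShortComplex.exact_cokernel _
  mono_f := by dsimp [injSC]; infer_instance
  epi_g := by dsimp [injSC]; infer_instance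

instance (F : CohTop.Ab X) : Injective (injSC F).X₂ := by dsimp [injSC]; infer_instance

theorem ext_eq_zero_of_flasque (P : CohTop.Ab X) (U : Opens X)
    (e : ∀ G : CohTop.Ab X, (P ⟶ G) ≃ G.obj.obj (op U))
    (he : ∀ {G G' : CohTop.Ab X} (φ : P ⟶ G) (g : G ⟶ G'),
      e G' (φ ≫ g) = g.hom.app (op U) (e G φ)) :
    ∀ (n : ℕ) (F : CohTop.Ab X) [TopCat.Sheaf.IsFlasque F] (x : Ext P F (n + 1)), x = 0 := by
  intro n
  induction n with
  | zero =>
    intro F _ x
    have hS := injSC_shortExact F
    have : TopCat.Sheaf.IsFlasque (injSC F).X₁ := by dsimp [injSC]; infer_instance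
    have h0 : x.comp (Ext.mk₀ (injSC F).f) (add_zero 1) = 0 := Ext.eq_zero_of_injective _
    obtain ⟨x₃, hx₃⟩ := Ext.covariant_sequence_exact₁ P hS x h0 (zero_add 1)
    obtain ⟨q, rfl⟩ := (Ext.mk₀_bijective P (injSC F).X₃).2 x₃
    have hepi : Epi ((injSC F).g.1.app (op U)) := TopCat.Sheaf.IsFlasque.epi_of_shortExact hS
    rw [AddCommGrpCat.epi_iff_surjective] at hepi
    obtain ⟨t, ht⟩ := hepi (e _ q)
    have hq : (e _).symm t ≫ (injSC F).g = q := by
      apply (e _).injective
      rw [he, Equiv.apply_symm_apply]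
      exact ht
    rw [← hx₃, ← hq, ← Ext.mk₀_comp_mk₀, Ext.comp_assoc_of_second_deg_zero,
      hS.comp_extClass, Ext.comp_zero]
    rfl
  | succ n ih =>
    intro F _ x
    have hS := injSC_shortExact F
    have : TopCat.Sheaf.IsFlasque (injSC F).X₁ := by dsimp [injSC]; infer_instance
    have : TopCat.Sheaf.IsFlasque (injSC F).X₂ := isFlasque_of_injective _
    have : TopCat.Sheaf.IsFlasque (injSC F).X₃ :=
      TopCat.Sheaf.IsFlasque.of_shortExact_of_isFlasque₁₂ hS
    have h0 : x.comp (Ext.mk₀ (injSC F).f) (add_zero _) = 0 := Ext.eq_zero_of_injective _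
    obtain ⟨x₃, hx₃⟩ := Ext.covariant_sequence_exact₁ P hS x h0 rfl
    rw [← hx₃, ih _ x₃, Ext.zero_comp]
    rfl

end Groth.Agent.Lead.CohTopB
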