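import Mathlib
import Groth.Prelude.Def_FlatMod2
import Groth.Agent.Helper4.QcqsMod
import Groth.Agent.Helper4.QcohGlue
import Groth.Agent.Helper4.StalkExact
import Groth.Agent.Helper4.FinLocFree2

set_option autoImplicit false
universe u
open CategoryTheory CategoryTheory.Limits AlgebraicGeometry TopologicalSpace Opposite

namespace Groth.Agent.Lead.ExtFree
open Groth.Agent.Helper4 Groth.Agent.Helper4.QcqsMod Groth.Agent.Helper4.StalkExact

variable {X : Scheme.{u}}

theorem res_res (E : X.Modules) {V₁ V₂ V₃ : X.Opens} (h₁ : V₂ ≤ V₁) (h₂ : V₃ ≤ V₂) (s : Γ(E, V₁)) :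
    E.presheaf.map (homOfLE h₂).op (E.presheaf.map (homOfLE h₁).op s) =
      E.presheaf.map (homOfLE (h₂.trans h₁)).op s :=
  QcohGlue.map_map_thin E _ _ _ s

theorem bij_congr (E : X.Modules) {V₁ V₂ V₁' V₂' : X.Opens} (e1 : V₁ = V₁') (e2 : V₂ = V₂')
    (h : V₂ ≤ V₁) (h' : V₂' ≤ V₁') :
    Function.Bijective (E.presheaf.map (homOfLE h).op) ↔
      Function.Bijective (E.presheaf.map (homOfLE h').op) := by
  subst e1 e2
  rfl

theorem bij_congrO {V₁ V₂ V₁' V₂' : X.Opens} (e1 : V₁ = V₁') (e2 : V₂ = V₂')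
    (h : V₂ ≤ V₁) (h' : V₂' ≤ V₁') :
    Function.Bijective (X.presheaf.map (homOfLE h).op) ↔
      Function.Bijective (X.presheaf.map (homOfLE h').op) := by
  subst e1 e2
  rfl

/-- Gluing: if restriction `E(V) → E(V ⊓ U)` is bijective for all small `V`, then for all `V`. -/
theorem glue_bijective (E : X.Modules) (U : X.Opens)
    (hloc : ∀ x : X, ∃ W : X.Opens, x ∈ W ∧ ∀ V : X.Opens, V ≤ W →
      Function.Bijective (E.presheaf.map (homOfLE (inf_le_left : V ⊓ U ≤ V)).op))
    (V : X.Opens) : Function.Bijective (E.presheaf.map (homOfLE (inf_le_left : V ⊓ U ≤ V)).op) := by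
  choose W hxW hW using hloc
  constructor
  · intro s s' hss'
    apply section_ext
    intro x hx
    have hle : V ⊓ W x ≤ V := inf_le_left
    have h1 : E.presheaf.map (homOfLE hle).op s = E.presheaf.map (homOfLE hle).op s' := by
      apply (hW x (V ⊓ W x) inf_le_right).1
      rw [res_res, res_res]
      have hle2 : (V ⊓ W x) ⊓ U ≤ V ⊓ U := inf_le_inf_right U inf_le_left
      have := congrArg (E.presheaf.map (homOfLE hle2).op) hss'
      rw [res_res, res_res] at this
      exact this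
    have h2 := congrArg (E.presheaf.germ (V ⊓ W x) x ⟨hx, hxW x⟩) h1
    rw [germ_res, germ_res] at h2
    exact h2
  · intro t
    -- local preimages
    have hex : ∀ x : V, ∃ sx : Γ(E, V ⊓ W x.1),
        E.presheaf.map (homOfLE (inf_le_left : (V ⊓ W x.1) ⊓ U ≤ V ⊓ W x.1)).op sx =
          E.presheaf.map (homOfLE (inf_le_inf_right U inf_le_left : (V ⊓ W x.1) ⊓ U ≤ V ⊓ U)).op t :=
      fun x => (hW x.1 (V ⊓ W x.1) inf_le_right).2 _
    choose sx hsx using hex
    have hcompat : TopCat.Presheaf.IsCompatible E.presheaf (fun x : V => V ⊓ W x.1) sx := by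
      intro x y
      have hle : (V ⊓ W x.1) ⊓ (V ⊓ W y.1) ≤ W x.1 := inf_le_left.trans inf_le_right
      apply (hW x.1 _ hle).1
      change E.presheaf.map (homOfLE _).op (E.presheaf.map (homOfLE _).op (sx x)) =
        E.presheaf.map (homOfLE _).op (E.presheaf.map (homOfLE _).op (sx y))
      rw [res_res, res_res]
      have hx1 : ((V ⊓ W x.1) ⊓ (V ⊓ W y.1)) ⊓ U ≤ (V ⊓ W x.1) ⊓ U := inf_le_inf_right U inf_le_left
      have hy1 : ((V ⊓ W x.1) ⊓ (V ⊓ W y.1)) ⊓ U ≤ (V ⊓ W y.1) ⊓ U := inf_le_inf_right U inf_le_right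
      have ex := congrArg (E.presheaf.map (homOfLE hx1).op) (hsx x)
      have ey := congrArg (E.presheaf.map (homOfLE hy1).op) (hsx y)
      rw [res_res, res_res] at ex ey
      exact ex.trans ey.symm
    have hcover : V ≤ iSup (fun x : V => V ⊓ W x.1) := by
      intro y hy
      exact Opens.mem_iSup.mpr ⟨⟨y, hy⟩, hy, hxW y⟩
    obtain ⟨s, hs, -⟩ := TopCat.Sheaf.existsUnique_gluing' (⟨E.presheaf, E.isSheaf⟩ : TopCat.Sheaf Ab X)
      (fun x : V => V ⊓ W x.1) V (fun x => homOfLE inf_le_left) hcover sx hcompat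
    refine ⟨s, ?_⟩
    apply section_ext
    intro y hy
    have hyV : y ∈ V := hy.1
    have hyVW : y ∈ V ⊓ W y := ⟨hyV, hxW y⟩
    have hyVWU : y ∈ (V ⊓ W y) ⊓ U := ⟨hyVW, hy.2⟩
    rw [germ_res]
    have h1 := hs ⟨y, hyV⟩
    have h2 := congrArg (E.presheaf.germ ((V ⊓ W y) ⊓ U) y hyVWU) (hsx ⟨y, hyV⟩)
    rw [germ_res, germ_res] at h2
    rw [← h2, ← h1]
    exact (germ_res E (inf_le_left : V ⊓ W y ≤ V) y hyVW s).symm


theorem sum_app {M N : X.Modules} {ι : Type*} (S : Finset ι) (φ : ι → (M ⟶ N)) (V : X.Opens)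
    (s : Γ(M, V)) :
    (Scheme.Modules.Hom.app (∑ i ∈ S, φ i) V) s = ∑ i ∈ S, (Scheme.Modules.Hom.app (φ i) V) s := by
  classical
  induction S using Finset.induction_on with
  | empty => simp
  | insert a S ha ih =>
    rw [Finset.sum_insert ha, Finset.sum_insert ha, ← ih]
    rfl

/-- structure sheaf case -/
theorem bij_unit {V' V : X.Opens} (h : V' ≤ V)
    (hb : Function.Bijective (X.presheaf.map (homOfLE h).op)) :
    Function.Bijective ((Coh.structureModule X).presheaf.map (homOfLE h).op) := hb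

/-- Additivity: bijectivity of restriction passes to finite coproducts of copies. -/
theorem bij_coprod (A : X.Modules) (n : ℕ) {V' V : X.Opens} (h : V' ≤ V)
    (hb : Function.Bijective (A.presheaf.map (homOfLE h).op)) :
    Function.Bijective ((∐ fun _ : Fin n => A).presheaf.map (homOfLE h).op) := by
  classical
  set f : Fin n → X.Modules := fun _ => A with hf
  set P : X.Modules := ∐ f with hP
  let inj : ∀ i : Fin n, A ⟶ P := fun i => Sigma.ι f i
  let prj : ∀ i : Fin n, P ⟶ A := fun i => Sigma.desc (fun j => if j = i then 𝟙 A else 0)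
  have hip : ∀ i j : Fin n, inj j ≫ prj i = if j = i then 𝟙 A else 0 := by
    intro i j
    exact Sigma.ι_desc _ _
  have hid : ∑ i : Fin n, prj i ≫ inj i = 𝟙 P := by
    apply Sigma.hom_ext
    intro j
    change inj j ≫ _ = inj j ≫ _
    rw [Preadditive.comp_sum]
    simp_rw [← Category.assoc, hip]
    rw [Category.comp_id]
    rw [Finset.sum_eq_single j]
    · simp
    · intro b _ hb
      rw [if_neg (Ne.symm hb)]
      simp
    · intro hj
      exact absurd (Finset.mem_univ j) hj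
  have hdecomp : ∀ (W : X.Opens) (s : Γ(P, W)),
      s = ∑ i : Fin n, (Scheme.Modules.Hom.app (inj i) W) ((Scheme.Modules.Hom.app (prj i) W) s) := by
    intro W s
    have := congrArg (fun φ : P ⟶ P => (Scheme.Modules.Hom.app φ W) s) hid
    simp only at this
    rw [sum_app] at this
    exact this.symm
  constructor
  · intro s s' hss'
    rw [hdecomp V s, hdecomp V s']
    refine Finset.sum_congr rfl (fun i _ => ?_)
    congr 1
    apply hb.1
    have e1 := app_res (prj i) (homOfLE h) s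
    have e2 := app_res (prj i) (homOfLE h) s'
    rw [← e1, ← e2, hss']
  · intro t
    have hex : ∀ i : Fin n, ∃ a : Γ(A, V), A.presheaf.map (homOfLE h).op a =
        (Scheme.Modules.Hom.app (prj i) V') t := fun i => hb.2 _
    choose a ha using hex
    refine ⟨∑ i : Fin n, (Scheme.Modules.Hom.app (inj i) V) (a i), ?_⟩
    rw [map_sum, hdecomp V' t]
    refine Finset.sum_congr rfl (fun i _ => ?_)
    rw [← app_res (inj i) (homOfLE h) (a i), ha i]

theorem bij_freeMod (n : ℕ) {V' V : X.Opens} (h : V' ≤ V)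
    (hb : Function.Bijective (X.presheaf.map (homOfLE h).op)) :
    Function.Bijective ((FlatMod.freeMod X n).presheaf.map (homOfLE h).op) :=
  bij_coprod (Coh.structureModule X) n h (bij_unit h hb)

/-- transport of bijectivity along an isomorphism of modules -/
theorem bij_of_iso {E E' : X.Modules} (φ : E ≅ E') {V' V : X.Opens} (h : V' ≤ V)
    (hb : Function.Bijective (E'.presheaf.map (homOfLE h).op)) :
    Function.Bijective (E.presheaf.map (homOfLE h).op) := by
  have hinv : ∀ (W : X.Opens) (s : Γ(E, W)),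
      (Scheme.Modules.Hom.app φ.inv W) ((Scheme.Modules.Hom.app φ.hom W) s) = s := by
    intro W s
    have := congrArg (fun ψ : E ⟶ E => (Scheme.Modules.Hom.app ψ W) s) φ.hom_inv_id
    exact this
  have hinv' : ∀ (W : X.Opens) (s : Γ(E', W)),
      (Scheme.Modules.Hom.app φ.hom W) ((Scheme.Modules.Hom.app φ.inv W) s) = s := by
    intro W s
    have := congrArg (fun ψ : E' ⟶ E' => (Scheme.Modules.Hom.app ψ W) s) φ.inv_hom_id
    exact this
  constructor
  · intro s s' hss'
    have h1 : (Scheme.Modules.Hom.app φ.hom V) s = (Scheme.Modules.Hom.app φ.hom V) s' := by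
      apply hb.1
      rw [← app_res φ.hom (homOfLE h) s, ← app_res φ.hom (homOfLE h) s', hss']
    rw [← hinv V s, ← hinv V s', h1]
  · intro t
    obtain ⟨a, ha⟩ := hb.2 ((Scheme.Modules.Hom.app φ.hom V') t)
    refine ⟨(Scheme.Modules.Hom.app φ.inv V) a, ?_⟩
    rw [← app_res φ.inv (homOfLE h) a, ha, hinv]


/-- Local freeness transports bijectivity of restriction from `O_X` to `E`. -/
theorem bij_of_free (E : X.Modules) (W : X.Opens) (n : ℕ)
    (φ : E.restrict W.ι ≅ FlatMod.freeMod (↑W) n) {V' V : X.Opens} (h : V' ≤ V) (hVW : V ≤ W)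
    (hb : Function.Bijective (X.presheaf.map (homOfLE h).op)) :
    Function.Bijective (E.presheaf.map (homOfLE h).op) := by
  have h₀ : W.ι ⁻¹ᵁ V' ≤ W.ι ⁻¹ᵁ V := fun x hx => h hx
  have e1 : W.ι ''ᵁ (W.ι ⁻¹ᵁ V) = V := by
    rw [Scheme.Hom.image_preimage_eq_opensRange_inf, Scheme.Opens.opensRange_ι]
    exact inf_eq_right.mpr hVW
  have e2 : W.ι ''ᵁ (W.ι ⁻¹ᵁ V') = V' := by
    rw [Scheme.Hom.image_preimage_eq_opensRange_inf, Scheme.Opens.opensRange_ι]
    exact inf_eq_right.mpr (h.trans hVW)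
  have hle : W.ι ''ᵁ (W.ι ⁻¹ᵁ V') ≤ W.ι ''ᵁ (W.ι ⁻¹ᵁ V) := Scheme.Hom.image_mono _ h₀
  have hbW : Function.Bijective ((W : Scheme.{u}).presheaf.map (homOfLE h₀).op) := by
    have := (bij_congrO e1 e2 hle h).mpr hb
    exact this
  have hbF := bij_freeMod (X := (W : Scheme.{u})) n h₀ hbW
  have hbR := bij_of_iso φ h₀ hbF
  have hbR' : Function.Bijective (E.presheaf.map (homOfLE hle).op) := hbR
  exact (bij_congr E e1 e2 hle h).mp hbR'

/-- For finite locally free `E` and `U` with `O(V) ≅ O(V ⊓ U)` for all `V`, the same holds for `E`. -/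
theorem bij_of_isFinLocFree (E : X.Modules) (hE : FlatMod.IsFinLocFree E) (U : X.Opens)
    (h : ∀ V : X.Opens, Function.Bijective (X.presheaf.map (homOfLE (inf_le_left : V ⊓ U ≤ V)).op))
    (V : X.Opens) : Function.Bijective (E.presheaf.map (homOfLE (inf_le_left : V ⊓ U ≤ V)).op) := by
  apply glue_bijective
  intro x
  obtain ⟨W, n, hxW, ⟨φ⟩⟩ := hE x
  exact ⟨W, hxW, fun V hVW => bij_of_free E W n φ _ hVW (h V)⟩

/-- The unit `E ⟶ j_* (E|_U)` is an isomorphism. -/
theorem isIso_unit (E : X.Modules) (hE : FlatMod.IsFinLocFree E) (U : X.Opens)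
    (h : ∀ V : X.Opens, Function.Bijective (X.presheaf.map (homOfLE (inf_le_left : V ⊓ U ≤ V)).op)) :
    IsIso ((Scheme.Modules.restrictAdjunction U.ι).unit.app E) := by
  rw [Scheme.Modules.Hom.isIso_iff_isIso_app]
  intro V
  rw [Scheme.Modules.restrictAdjunction_unit_app_app]
  rw [ConcreteCategory.isIso_iff_bijective]
  have e2 : U.ι ''ᵁ (U.ι ⁻¹ᵁ V) = V ⊓ U := by
    rw [Scheme.Hom.image_preimage_eq_opensRange_inf, Scheme.Opens.opensRange_ι, inf_comm]
  exact (bij_congr E rfl e2 _ _).mpr (bij_of_isFinLocFree E hE U h V)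

theorem main (U : X.Opens)
    (h : ∀ V : X.Opens, Function.Bijective (X.presheaf.map (homOfLE (inf_le_left : V ⊓ U ≤ V)).op))
    (F : (U : Scheme.{u}).Modules) :
    ((∃ E : X.Modules, FlatMod.IsFinLocFree E ∧ Nonempty (E.restrict U.ι ≅ F)) ↔
        FlatMod.IsFinLocFree ((Scheme.Modules.pushforward U.ι).obj F)) ∧
      (∀ E : X.Modules, FlatMod.IsFinLocFree E → Nonempty (E.restrict U.ι ≅ F) →
        Nonempty (E ≅ (Scheme.Modules.pushforward U.ι).obj F)) := by
  have hb : ∀ E : X.Modules, FlatMod.IsFinLocFree E → Nonempty (E.restrict U.ι ≅ F) →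
      Nonempty (E ≅ (Scheme.Modules.pushforward U.ι).obj F) := by
    rintro E hE ⟨e⟩
    haveI := isIso_unit E hE U h
    exact ⟨asIso ((Scheme.Modules.restrictAdjunction U.ι).unit.app E) ≪≫
      (Scheme.Modules.pushforward U.ι).mapIso e⟩
  refine ⟨⟨?_, ?_⟩, hb⟩
  · rintro ⟨E, hE, he⟩
    obtain ⟨e⟩ := hb E hE he
    exact FinLocFree2.isFinLocFree_of_iso e hE
  · intro hP
    exact ⟨_, hP, ⟨(Scheme.Modules.restrictFunctorAdjCounitIso U.ι).app F⟩⟩

end Groth.Agent.Lead.ExtFree
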