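import Mathlib
import Groth.Prelude.Def_DTor2
import Groth.Agent.Helper4.StalkExact
import Groth.Agent.Helper4.EpiStalk
import Groth.Agent.Helper4.FlatExact
import Groth.Agent.Helper4.FinLocFree4
import Groth.Agent.Helper8.FlatKer

/-!
# Flat `O_X`-modules: closure properties (towards S0913)
-/

set_option autoImplicit false
universe u
open CategoryTheory CategoryTheory.Limits AlgebraicGeometry

namespace Groth.Agent.Lead.FlatLib
open Scheme.Modules Groth.Agent.Helper4.StalkDict Groth.Agent.Helper4.StalkExact

section Algebra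

theorem flat_of_semilinearEquiv {R S : Type u} [CommRing R] [CommRing S] (σ : R ≃+* S)
    {M N : Type u} [AddCommGroup M] [Module R M] [AddCommGroup N] [Module S N]
    (e : M ≃+ N) (he : ∀ (r : R) (m : M), e (r • m) = σ r • e m) [Module.Flat R M] :
    Module.Flat S N := by
  letI : Module R N := Module.compHom N σ.toRingHom
  have hsm : ∀ (r : R) (n : N), r • n = σ r • n := fun _ _ => rfl
  let e' : M ≃ₗ[R] N := { e with map_smul' := fun r m => by simpa [hsm] using he r m }
  haveI : Module.Flat R N := Module.Flat.of_linearEquiv e'.symm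
  letI : Algebra S R := σ.symm.toRingHom.toAlgebra
  have hsr : ∀ (s : S) (r : R), s • r = σ.symm s * r := fun _ _ => rfl
  haveI : IsScalarTower S R N := ⟨fun s r n => by
    rw [hsm, hsm, hsr, map_mul, RingEquiv.apply_symm_apply, mul_smul]⟩
  let τ : R ≃ₗ[S] S :=
    { σ.toAddEquiv with
      map_smul' := fun s r => by
        change σ (σ.symm s * r) = s • σ r
        rw [map_mul, RingEquiv.apply_symm_apply, smul_eq_mul] }
  haveI : Module.Flat S R := Module.Flat.of_linearEquiv τ
  exact Module.Flat.trans S R N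

end Algebra

section Restrict

variable {X Z : Scheme.{u}} (j : Z ⟶ X) [IsOpenImmersion j] (M : X.Modules)

/-- the comparison of stalks of a restriction, as a map of abelian groups. -/
noncomputable def rsHom (z : Z) : (M.restrict j).presheaf.stalk z →+ M.presheaf.stalk (j z) :=
  ((restrictStalkNatIso j z).hom.app M).hom

theorem rsHom_germ (z : Z) (U : Z.Opens) (hz : z ∈ U) (m : Γ(M.restrict j, U)) :
    rsHom j M z ((M.restrict j).presheaf.germ U z hz m) =
      M.presheaf.germ (j ''ᵁ U) (j z) ⟨z, hz, rfl⟩ m := by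
  have := germ_restrictStalkNatIso_hom_app j z M hz
  exact congrArg (fun f => f.hom m) this

theorem rsHom_bijective (z : Z) : Function.Bijective (rsHom j M z) := by
  have : IsIso ((restrictStalkNatIso j z).hom.app M) := inferInstance
  exact (ConcreteCategory.isIso_iff_bijective _).mp this

theorem restrict_smul (U : Z.Opens) (r₀ : Γ(Z, U)) (m₀ : Γ(M.restrict j, U)) :
    (r₀ • m₀ : Γ(M.restrict j, U)) =
      (((j.appIso U).inv r₀ : Γ(X, j ''ᵁ U)) • (show Γ(M, j ''ᵁ U) from m₀) : Γ(M, j ''ᵁ U)) := rfl

theorem rsHom_smul (z : Z) (r : X.presheaf.stalk (j z))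
    (m' : (M.restrict j).presheaf.stalk z) :
    rsHom j M z ((j.stalkMap z).hom r • m') = r • rsHom j M z m' := by
  obtain ⟨U, hzU, r₀, m₀, hr, hm⟩ := exists_common (M.restrict j) z ((j.stalkMap z).hom r) m'
  rw [← hr, ← hm, ← germ_smul (M.restrict j), rsHom_germ, rsHom_germ, restrict_smul,
    germ_smul M]
  congr 1
  have hinj : Function.Injective (j.stalkMap z).hom :=
    ((ConcreteCategory.isIso_iff_bijective (j.stalkMap z)).mp inferInstance).1
  apply hinj
  rw [← hr]
  erw [Scheme.Hom.germ_stalkMap_apply]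
  rw [Scheme.Hom.appIso_inv_app_apply]
  exact TopCat.Presheaf.germ_res_apply Z.presheaf _ z _ r₀

theorem isFlat_restrict {M} (hM : FlatMod.IsFlat M) : FlatMod.IsFlat (M.restrict j) := by
  intro z
  haveI : Module.Flat (X.presheaf.stalk (j z)) (M.presheaf.stalk (j z)) := hM (j z)
  let σ : X.presheaf.stalk (j z) ≃+* Z.presheaf.stalk z :=
    (asIso (j.stalkMap z)).commRingCatIsoToRingEquiv
  let h : (M.restrict j).presheaf.stalk z ≃+ M.presheaf.stalk (j z) :=
    AddEquiv.ofBijective (rsHom j M z) (rsHom_bijective j M z)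
  refine flat_of_semilinearEquiv σ h.symm (fun r m => ?_)
  apply h.injective
  rw [AddEquiv.apply_symm_apply]
  have := rsHom_smul j M z r (h.symm m)
  change h (_ • h.symm m) = r • h (h.symm m) at this
  rw [AddEquiv.apply_symm_apply] at this
  exact this.symm

end Restrict

section Closure
variable {X : Scheme.{u}}

theorem isFlat_of_isZero {M : X.Modules} (hM : IsZero M) : FlatMod.IsFlat M := by
  intro x
  haveI := Groth.Agent.Helper4.FTLocal.subsingleton_stalk_of_isZero M hM x
  exact (inferInstance : Module.Flat (X.presheaf.stalk x) (M.presheaf.stalk x))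

theorem isFlat_of_iso {M N : X.Modules} (e : M ≅ N) (hM : FlatMod.IsFlat M) :
    FlatMod.IsFlat N := by
  intro x
  haveI : Module.Flat (X.presheaf.stalk x) (M.presheaf.stalk x) := hM x
  have hbij : Function.Bijective (stalkLin e.hom x) :=
    ⟨stalkLin_injective e.hom x, Groth.Agent.Helper4.EpiStalk.stalkLin_surjective_of_epi e.hom x⟩
  exact Module.Flat.of_linearEquiv (LinearEquiv.ofBijective (stalkLin e.hom x) hbij).symm

theorem isFlat_kernel_of_epi {A B : X.Modules} (g : A ⟶ B) [Epi g] (hA : FlatMod.IsFlat A)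
    (hB : FlatMod.IsFlat B) : FlatMod.IsFlat (kernel g) := by
  intro x
  haveI : Module.Flat (X.presheaf.stalk x) (A.presheaf.stalk x) := hA x
  haveI : Module.Flat (X.presheaf.stalk x) (B.presheaf.stalk x) := hB x
  let S : ShortComplex X.Modules := ShortComplex.mk (kernel.ι g) g (kernel.condition g)
  have hS : S.Exact := ShortComplex.exact_of_f_is_kernel _ (kernelIsKernel g)
  haveI : Mono S.f := inferInstanceAs (Mono (kernel.ι g))
  exact Groth.Agent.Helper8.FlatKer.flat_ker (stalkLin (kernel.ι g) x) (stalkLin g x)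
    (stalkLin_injective _ x) (Groth.Agent.Helper4.EpiStalk.stalkLin_surjective_of_epi g x)
    (stalkLin_exact S hS x)

theorem isFlat_biprod {A B : X.Modules} (hA : FlatMod.IsFlat A) (hB : FlatMod.IsFlat B) :
    FlatMod.IsFlat (A ⊞ B) := by
  intro x
  haveI : Module.Flat (X.presheaf.stalk x) (A.presheaf.stalk x) := hA x
  haveI : Module.Flat (X.presheaf.stalk x) (B.presheaf.stalk x) := hB x
  let S : ShortComplex X.Modules := ShortComplex.mk (biprod.inl : A ⟶ A ⊞ B) biprod.snd (by simp)
  have hS : S.Exact := (ShortComplex.Splitting.ofHasBinaryBiproduct A B).exact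
  haveI : Mono S.f := inferInstanceAs (Mono (biprod.inl : A ⟶ A ⊞ B))
  exact (Groth.Agent.Helper4.FlatExact.flat_iff_of_exact_of_flat (stalkLin (biprod.inl : A ⟶ A ⊞ B) x)
    (stalkLin (biprod.snd : A ⊞ B ⟶ B) x) (stalkLin_injective _ x)
    (Groth.Agent.Helper4.EpiStalk.stalkLin_surjective_of_epi _ x) (stalkLin_exact S hS x)).mpr
    inferInstance

theorem isFlat_of_isFinLocFree {M : X.Modules} (hM : FlatMod.IsFinLocFree M) :
    FlatMod.IsFlat M := by
  intro x
  haveI : M.IsQuasicoherent := Groth.Agent.Helper4.FinLocFree4.isQuasicoherent_of_isFinLocFree M hM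
  haveI := Groth.Agent.Helper4.FinLocFree2.free_stalk_of_isFinLocFree M hM x
  exact (inferInstance : Module.Flat (X.presheaf.stalk x) (M.presheaf.stalk x))

end Closure

end Groth.Agent.Lead.FlatLib
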