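import Mathlib
import Groth.Prelude.Def_FlatMod2
import Groth.Agent.Helper4.EpiStalk
import Groth.Agent.Helper4.FinLocFree

/-!
# Local lifting of maps out of finite locally free modules

Toolkit: maps `O_X ⟶ N` as global sections, maps out of restricted free modules, restriction of
morphisms between restricted modules (`res`), and the local lifting property of finite locally free
modules along epimorphisms.
-/

set_option autoImplicit false
universe u
open CategoryTheory CategoryTheory.Limits AlgebraicGeometry TopologicalSpace Opposite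

namespace Groth.Agent.Lead.LocLift
open Scheme.Modules

section Gen
variable {C D : Type*} [Category C] [Category D] (R : C ⥤ D) {ι : Type*} (f : ι → C)
  [HasCoproduct f] [PreservesColimit (Discrete.functor f) R]

noncomputable def descMap {N : D} (t : ∀ k, R.obj (f k) ⟶ N) : R.obj (∐ f) ⟶ N :=
  (isColimitOfPreserves R (coproductIsCoproduct f)).desc
    { pt := N, ι := Discrete.natTrans (fun k => t k.as) }

@[reassoc]
theorem ι_descMap {N : D} (t : ∀ k, R.obj (f k) ⟶ N) (k : ι) :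
    R.map (Sigma.ι f k) ≫ descMap R f t = t k :=
  (isColimitOfPreserves R (coproductIsCoproduct f)).fac
    { pt := N, ι := Discrete.natTrans (fun k => t k.as) } ⟨k⟩

theorem map_sigma_hom_ext {N : D} (a b : R.obj (∐ f) ⟶ N)
    (h : ∀ k, R.map (Sigma.ι f k) ≫ a = R.map (Sigma.ι f k) ≫ b) : a = b :=
  (isColimitOfPreserves R (coproductIsCoproduct f)).hom_ext (fun ⟨k⟩ => h k)
end Gen

variable {X : Scheme.{u}}

/-- the section of `N` determined by its value at `⊤`. -/
noncomputable def secOfTop (N : X.Modules) (t : Γ(N, ⊤)) : SheafOfModules.sections N :=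
  PresheafOfModules.sectionsMk (M := N.val)
    (fun W => N.presheaf.map (homOfLE le_top : W.unop ⟶ ⊤).op t)
    (by
      intro W W' f
      have h := N.presheaf.map_comp (homOfLE le_top : W.unop ⟶ ⊤).op f
      have h2 := congrArg (fun k => k.hom t) h
      exact h2.symm)

/-- the morphism `O_X ⟶ N` determined by a global section. -/
noncomputable def homOfTop (N : X.Modules) (t : Γ(N, ⊤)) : Coh.structureModule X ⟶ N :=
  (SheafOfModules.unitHomEquiv N).symm (secOfTop N t)

theorem homOfTop_app_one (N : X.Modules) (t : Γ(N, ⊤)) :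
    (homOfTop N t).app ⊤ (1 : Γ(X, ⊤)) = t := by
  have h := (SheafOfModules.unitHomEquiv N).apply_symm_apply (secOfTop N t)
  have h2 := congrArg (fun s => s.val (op ⊤)) h
  simp only [SheafOfModules.unitHomEquiv_apply_coe] at h2
  refine Eq.trans ?_ (h2.trans ?_)
  · rfl
  · change N.presheaf.map (𝟙 _) t = t
    simp

theorem hom_unit_ext {N : X.Modules} (f g : Coh.structureModule X ⟶ N)
    (h : f.app ⊤ (1 : Γ(X, ⊤)) = g.app ⊤ (1 : Γ(X, ⊤))) : f = g := by
  apply (SheafOfModules.unitHomEquiv N).injective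
  apply PresheafOfModules.sections_ext
  intro W
  simp only [SheafOfModules.unitHomEquiv_apply_coe]
  have key : ∀ k : Coh.structureModule X ⟶ N,
      k.val.app W (1 : X.ringCatSheaf.obj.obj W) =
        N.presheaf.map (homOfLE le_top : W.unop ⟶ ⊤).op (k.app ⊤ (1 : Γ(X, ⊤))) := by
    intro k
    have h1 := Groth.Agent.Helper4.StalkExact.app_res k (homOfLE le_top : W.unop ⟶ ⊤) (1 : Γ(X, ⊤))
    rw [← h1]
    have h2 : (Coh.structureModule X).presheaf.map (homOfLE le_top : W.unop ⟶ ⊤).op (1 : Γ(X, ⊤)) =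
        (1 : Γ(X, W.unop)) := by
      exact map_one (X.presheaf.map (homOfLE le_top : W.unop ⟶ ⊤).op).hom
    rw [h2]
    rfl
  rw [key f, key g, h]

section Restr
variable {Z : Scheme.{u}} (j : Z ⟶ X) [IsOpenImmersion j]

theorem restrictUnitIso_inv_app_one :
    (restrictUnitIso j).inv.app ⊤ (1 : Γ(Z, ⊤)) = (1 : Γ(X, j ''ᵁ ⊤)) := by
  have h : (restrictUnitIso j).hom.app ⊤ (1 : Γ(X, j ''ᵁ ⊤)) = (1 : Γ(Z, ⊤)) := by
    exact map_one (j.appIso ⊤).hom.hom
  have h2 : (restrictUnitIso j).inv.app ⊤ ((restrictUnitIso j).hom.app ⊤ (1 : Γ(X, j ''ᵁ ⊤))) =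
      (1 : Γ(X, j ''ᵁ ⊤)) := by
    have h3 : (restrictUnitIso j).hom.app ⊤ ≫ (restrictUnitIso j).inv.app ⊤ = 𝟙 _ := by
      rw [← Hom.comp_app, Iso.hom_inv_id]; rfl
    exact congrArg (fun k => k.hom (1 : Γ(X, j ''ᵁ ⊤))) h3
  rw [h] at h2
  exact h2

/-- a map out of a restricted free module built from sections lifting the component sections. -/
theorem exists_lift_of_sections {G F : X.Modules} (p : G ⟶ F) (n : ℕ)
    (φ : FlatMod.freeMod X n ⟶ F) (τ : Fin n → Γ(G, j ''ᵁ ⊤))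
    (hτ : ∀ k, p.app _ (τ k) = F.presheaf.map (homOfLE le_top : j ''ᵁ ⊤ ⟶ ⊤).op
      ((Sigma.ι (fun _ : Fin n => Coh.structureModule X) k ≫ φ).app ⊤ (1 : Γ(X, ⊤)))) :
    ∃ ψ : (FlatMod.freeMod X n).restrict j ⟶ G.restrict j,
      ψ ≫ (restrictFunctor j).map p = (restrictFunctor j).map φ := by
  refine ⟨descMap (restrictFunctor j) (fun _ : Fin n => Coh.structureModule X)
    (fun k => (restrictUnitIso j).hom ≫ homOfTop (G.restrict j) (τ k)), ?_⟩
  apply map_sigma_hom_ext (restrictFunctor j) (fun _ : Fin n => Coh.structureModule X)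
  intro k
  rw [ι_descMap_assoc, ← Functor.map_comp, Category.assoc, ← Iso.eq_inv_comp]
  apply hom_unit_ext
  have e1 : (homOfTop (G.restrict j) (τ k) ≫ (restrictFunctor j).map p).app ⊤ (1 : Γ(Z, ⊤)) =
      p.app (j ''ᵁ ⊤) (τ k) := by
    rw [Hom.comp_app]
    change ((restrictFunctor j).map p).app ⊤
      ((homOfTop (G.restrict j) (τ k)).app ⊤ (1 : Γ(Z, ⊤))) = _
    rw [homOfTop_app_one]
    rfl
  have e2 : ((restrictUnitIso j).inv ≫ (restrictFunctor j).map
      (Sigma.ι (fun _ : Fin n => Coh.structureModule X) k ≫ φ)).app ⊤ (1 : Γ(Z, ⊤)) =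
      (Sigma.ι (fun _ : Fin n => Coh.structureModule X) k ≫ φ).app (j ''ᵁ ⊤)
        (1 : Γ(X, j ''ᵁ ⊤)) := by
    rw [Hom.comp_app]
    change ((restrictFunctor j).map
      (Sigma.ι (fun _ : Fin n => Coh.structureModule X) k ≫ φ)).app ⊤
      ((restrictUnitIso j).inv.app ⊤ (1 : Γ(Z, ⊤))) = _
    rw [restrictUnitIso_inv_app_one]
    rfl
  rw [e1, e2, hτ k]
  have h1 := Groth.Agent.Helper4.StalkExact.app_res
    (Sigma.ι (fun _ : Fin n => Coh.structureModule X) k ≫ φ) (homOfLE le_top : j ''ᵁ ⊤ ⟶ ⊤)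
    (1 : Γ(X, ⊤))
  rw [← h1]
  congr 1
  exact map_one (X.presheaf.map (homOfLE le_top : j ''ᵁ ⊤ ⟶ ⊤).op).hom

end Restr

/-- local lifting of a map out of a free module along an epimorphism. -/
theorem exists_nhd_lift_free {G F : X.Modules} (p : G ⟶ F) [Epi p] (n : ℕ)
    (φ : FlatMod.freeMod X n ⟶ F) (x : X) :
    ∃ V : X.Opens, x ∈ V ∧ ∃ ψ : (FlatMod.freeMod X n).restrict V.ι ⟶ G.restrict V.ι,
      ψ ≫ (restrictFunctor V.ι).map p = (restrictFunctor V.ι).map φ := by
  have hl : ∀ k : Fin n, ∃ (W : X.Opens) (hWU : W ≤ ⊤) (_ : x ∈ W) (s : Γ(G, W)),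
      p.app W s = F.presheaf.map (homOfLE hWU).op
        ((Sigma.ι (fun _ : Fin n => Coh.structureModule X) k ≫ φ).app ⊤ (1 : Γ(X, ⊤))) :=
    fun k => Groth.Agent.Helper4.EpiStalk.exists_local_lift_of_epi p ⊤ _ x trivial
  choose W hWU hxW τ hτ using hl
  have hmem : (⋂ k, (W k : Set X)) ∈ nhds x :=
    Filter.iInter_mem.mpr (fun k => (W k).isOpen.mem_nhds (hxW k))
  obtain ⟨V0, hV0sub, hV0open, hxV0⟩ := mem_nhds_iff.mp hmem
  let V : X.Opens := ⟨V0, hV0open⟩
  have hle : ∀ k, V.ι ''ᵁ ⊤ ≤ W k := by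
    intro k
    rw [Scheme.Opens.ι_image_top]
    intro y hy
    exact Set.mem_iInter.mp (hV0sub hy) k
  refine ⟨V, hxV0, ?_⟩
  refine exists_lift_of_sections V.ι p n φ
    (fun k => G.presheaf.map (homOfLE (hle k)).op (τ k)) ?_
  intro k
  rw [Groth.Agent.Helper4.StalkExact.app_res p (homOfLE (hle k)) (τ k), hτ k]
  have h := F.presheaf.map_comp (homOfLE (hWU k)).op (homOfLE (hle k)).op
  exact (congrArg (fun m => m.hom
    ((Sigma.ι (fun _ : Fin n => Coh.structureModule X) k ≫ φ).app ⊤ (1 : Γ(X, ⊤)))) h).symm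

end Groth.Agent.Lead.LocLift
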