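import Mathlib
import Groth.Agent.Lead.LocLift

/-!
# Restriction of morphisms between restricted modules, and S0934
-/

set_option autoImplicit false
universe u
open CategoryTheory CategoryTheory.Limits AlgebraicGeometry TopologicalSpace Opposite

namespace Groth.Agent.Lead.LocLift
open Scheme.Modules

variable {X : Scheme.{u}}

instance additive_restrictFunctor' {U : Scheme.{u}} (j : U ⟶ X) [IsOpenImmersion j] :
    (Scheme.Modules.restrictFunctor j).Additive :=
  haveI : PreservesBinaryBiproducts (Scheme.Modules.restrictFunctor j) :=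
    preservesBinaryBiproducts_of_preservesBinaryCoproducts _
  Functor.additive_of_preservesBinaryBiproducts _

section Res
variable {Z Z' : Scheme.{u}} (j : Z ⟶ X) [IsOpenImmersion j] (k : Z' ⟶ Z) [IsOpenImmersion k]
  (j' : Z' ⟶ X) [IsOpenImmersion j'] (h : j' = k ≫ j)

/-- restriction along `j' = k ≫ j` is restriction along `j` followed by restriction along `k`. -/
noncomputable def resIso : restrictFunctor j' ≅ restrictFunctor j ⋙ restrictFunctor k :=
  restrictFunctorCongr h ≪≫ restrictFunctorComp k j

/-- conjugation of a morphism between twice restricted modules. -/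
noncomputable def conj {M N : X.Modules}
    (u : (M.restrict j).restrict k ⟶ (N.restrict j).restrict k) :
    M.restrict j' ⟶ N.restrict j' :=
  (resIso j k j' h).hom.app M ≫ u ≫ (resIso j k j' h).inv.app N

theorem conj_comp {M N P : X.Modules}
    (u : (M.restrict j).restrict k ⟶ (N.restrict j).restrict k)
    (v : (N.restrict j).restrict k ⟶ (P.restrict j).restrict k) :
    conj j k j' h (u ≫ v) = conj j k j' h u ≫ conj j k j' h v := by
  simp [conj]

theorem conj_map {M N : X.Modules} (φ : M ⟶ N) :
    conj j k j' h ((restrictFunctor k).map ((restrictFunctor j).map φ)) =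
      (restrictFunctor j').map φ := by
  unfold conj
  have := (resIso j k j' h).hom.naturality φ
  simp only [Functor.comp_map] at this
  rw [← Category.assoc, ← this, Category.assoc, Iso.hom_inv_id_app, Category.comp_id]

/-- restriction of a morphism between restricted modules to a smaller open. -/
noncomputable def res {M N : X.Modules} (u : M.restrict j ⟶ N.restrict j) :
    M.restrict j' ⟶ N.restrict j' :=
  conj j k j' h ((restrictFunctor k).map u)

theorem res_comp {M N P : X.Modules} (u : M.restrict j ⟶ N.restrict j)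
    (v : N.restrict j ⟶ P.restrict j) :
    res j k j' h (u ≫ v) = res j k j' h u ≫ res j k j' h v := by
  simp [res, conj_comp]

theorem res_map {M N : X.Modules} (φ : M ⟶ N) :
    res j k j' h ((restrictFunctor j).map φ) = (restrictFunctor j').map φ :=
  conj_map j k j' h φ

theorem res_add {M N : X.Modules} (u v : M.restrict j ⟶ N.restrict j) :
    res j k j' h (u + v) = res j k j' h u + res j k j' h v := by
  simp [res, conj, Functor.map_add]

theorem res_sub {M N : X.Modules} (u v : M.restrict j ⟶ N.restrict j) :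
    res j k j' h (u - v) = res j k j' h u - res j k j' h v := by
  simp [res, conj, Functor.map_sub]

theorem res_zero {M N : X.Modules} :
    res j k j' h (0 : M.restrict j ⟶ N.restrict j) = 0 := by
  simp [res, conj]

end Res

/-- transfer of a lifting from a twice restricted situation. -/
theorem transfer_lift_conj {Z Z' : Scheme.{u}} (j : Z ⟶ X) [IsOpenImmersion j] (k : Z' ⟶ Z)
    [IsOpenImmersion k] (j' : Z' ⟶ X) [IsOpenImmersion j'] (h : j' = k ≫ j)
    {E G F : X.Modules} (p : G ⟶ F) (φ : E ⟶ F)
    (ψ : (E.restrict j).restrict k ⟶ (G.restrict j).restrict k)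
    (hψ : ψ ≫ (restrictFunctor k).map ((restrictFunctor j).map p) =
      (restrictFunctor k).map ((restrictFunctor j).map φ)) :
    ∃ ψ' : E.restrict j' ⟶ G.restrict j',
      ψ' ≫ (restrictFunctor j').map p = (restrictFunctor j').map φ := by
  refine ⟨conj j k j' h ψ, ?_⟩
  rw [← conj_map j k j' h p, ← conj_comp, hψ, conj_map]

/-- transfer of a lifting along a further restriction. -/
theorem transfer_lift {Z Z' : Scheme.{u}} (j : Z ⟶ X) [IsOpenImmersion j] (k : Z' ⟶ Z)
    [IsOpenImmersion k] (j' : Z' ⟶ X) [IsOpenImmersion j'] (h : j' = k ≫ j)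
    {E G F : X.Modules} (p : G ⟶ F) (φ : E ⟶ F) (ψ : E.restrict j ⟶ G.restrict j)
    (hψ : ψ ≫ (restrictFunctor j).map p = (restrictFunctor j).map φ) :
    ∃ ψ' : E.restrict j' ⟶ G.restrict j',
      ψ' ≫ (restrictFunctor j').map p = (restrictFunctor j').map φ := by
  refine ⟨res j k j' h ψ, ?_⟩
  rw [← res_map j k j' h p, ← res_comp, hψ, res_map]

/-- **S0934**: local lifting of maps from a finite locally free module along an epimorphism. -/
theorem exists_nhd_lift {E F G : X.Modules} (p : G ⟶ F) [Epi p] (φ : E ⟶ F)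
    (hE : FlatMod.IsFinLocFree E) (x : X) :
    ∃ (V : X.Opens) (ψ : E.restrict V.ι ⟶ G.restrict V.ι), x ∈ V ∧
      ψ ≫ (restrictFunctor V.ι).map p = (restrictFunctor V.ι).map φ := by
  obtain ⟨U, n, hxU, ⟨c⟩⟩ := hE x
  haveI : Epi ((restrictFunctor U.ι).map p) := inferInstance
  obtain ⟨W, hxW, ψ0, hψ0⟩ := exists_nhd_lift_free ((restrictFunctor U.ι).map p) n
    (c.inv ≫ (restrictFunctor U.ι).map φ) (⟨x, hxU⟩ : ↥U)
  -- lifting for `E|_U` on `W`
  have h1 : ((restrictFunctor W.ι).map c.hom ≫ ψ0) ≫
      (restrictFunctor W.ι).map ((restrictFunctor U.ι).map p) =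
      (restrictFunctor W.ι).map ((restrictFunctor U.ι).map φ) := by
    rw [Category.assoc, hψ0, ← Functor.map_comp, Iso.hom_inv_id_assoc]
  obtain ⟨ψ2, hψ2⟩ := transfer_lift_conj U.ι W.ι (W.ι ≫ U.ι) rfl p φ _ h1
  obtain ⟨ψ3, hψ3⟩ := transfer_lift (W.ι ≫ U.ι) (W.ι ≫ U.ι).isoOpensRange.inv
    (W.ι ≫ U.ι).opensRange.ι (Scheme.Hom.isoOpensRange_inv_comp _).symm p φ ψ2 hψ2
  refine ⟨(W.ι ≫ U.ι).opensRange, ψ3, ?_, hψ3⟩
  exact ⟨⟨⟨x, hxU⟩, hxW⟩, rfl⟩

end Groth.Agent.Lead.LocLift
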