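import Mathlib
import Groth.Agent.Lead.LocLift2
import Groth.Agent.Helper4.QcohLimits

/-!
# Local lifting through exact sequences, and local null-homotopies (S0932)
-/

set_option autoImplicit false
universe u
open CategoryTheory CategoryTheory.Limits AlgebraicGeometry TopologicalSpace Opposite

namespace Groth.Agent.Lead.LocLift
open Scheme.Modules Groth.Agent.Helper4.FinLocFree

variable {X : Scheme.{u}}

theorem isFinLocFree_restrict {E : X.Modules} (hE : FlatMod.IsFinLocFree E) {Z : Scheme.{u}}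
    (j : Z ⟶ X) [IsOpenImmersion j] : FlatMod.IsFinLocFree (E.restrict j) := by
  intro z
  obtain ⟨U, n, hxU, hfree⟩ := hE (j z)
  refine ⟨j ⁻¹ᵁ U, n, hxU, ?_⟩
  have h1 : IsFreeAlong E ((j ∣_ U) ≫ U.ι) n := IsFreeAlong.comp U.ι hfree (j ∣_ U)
  have h2 : IsFreeAlong E ((j ⁻¹ᵁ U).ι ≫ j) n := h1.congr (morphismRestrict_ι j U)
  exact (IsFreeAlong.restrict_iff j (j ⁻¹ᵁ U).ι).mpr h2

/-- local lifting through an exact sequence. -/
theorem exists_nhd_lift_exact {E : X.Modules} (hE : FlatMod.IsFinLocFree E)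
    (S : ShortComplex X.Modules) (hS : S.Exact)
    {Z : Scheme.{u}} (j : Z ⟶ X) [IsOpenImmersion j] (z : Z)
    (u : E.restrict j ⟶ S.X₂.restrict j) (hu : u ≫ (restrictFunctor j).map S.g = 0) :
    ∃ W : Z.Opens, z ∈ W ∧ ∃ w : E.restrict (W.ι ≫ j) ⟶ S.X₁.restrict (W.ι ≫ j),
      w ≫ (restrictFunctor (W.ι ≫ j)).map S.f = res j W.ι (W.ι ≫ j) rfl u := by
  haveI : PreservesFiniteLimits (restrictFunctor j) := inferInstance
  haveI : PreservesFiniteColimits (restrictFunctor j) := inferInstance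
  have hS' : (S.map (restrictFunctor j)).Exact := hS.map (restrictFunctor j)
  have hepi : Epi (S.map (restrictFunctor j)).toCycles := hS'.epi_toCycles
  obtain ⟨W, ψ, hzW, hψ⟩ := @exists_nhd_lift _ (E := E.restrict j) (G := S.X₁.restrict j)
    (F := (S.map (restrictFunctor j)).cycles) (S.map (restrictFunctor j)).toCycles hepi
    ((S.map (restrictFunctor j)).liftCycles u hu) (isFinLocFree_restrict hE j) z
  refine ⟨W, hzW, conj j W.ι (W.ι ≫ j) rfl ψ, ?_⟩
  have h1 : ψ ≫ (restrictFunctor W.ι).map ((restrictFunctor j).map S.f) =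
      (restrictFunctor W.ι).map u := by
    obtain ⟨tc, htc⟩ : ∃ tc : S.X₁.restrict j ⟶ (S.map (restrictFunctor j)).cycles,
        tc = (S.map (restrictFunctor j)).toCycles := ⟨_, rfl⟩
    obtain ⟨ic, hic⟩ : ∃ ic : (S.map (restrictFunctor j)).cycles ⟶ S.X₂.restrict j,
        ic = (S.map (restrictFunctor j)).iCycles := ⟨_, rfl⟩
    obtain ⟨lc, hlc⟩ : ∃ lc : E.restrict j ⟶ (S.map (restrictFunctor j)).cycles,
        lc = (S.map (restrictFunctor j)).liftCycles u hu := ⟨_, rfl⟩
    have e1 : tc ≫ ic = (restrictFunctor j).map S.f := by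
      rw [htc, hic]; exact (S.map (restrictFunctor j)).toCycles_i
    have e2 : lc ≫ ic = u := by
      rw [hlc, hic]; exact (S.map (restrictFunctor j)).liftCycles_i u hu
    have hψ' : ψ ≫ (restrictFunctor W.ι).map tc = (restrictFunctor W.ι).map lc := by
      rw [htc, hlc]; exact hψ
    calc ψ ≫ (restrictFunctor W.ι).map ((restrictFunctor j).map S.f)
        = ψ ≫ (restrictFunctor W.ι).map (tc ≫ ic) := by rw [e1]
      _ = (ψ ≫ (restrictFunctor W.ι).map tc) ≫ (restrictFunctor W.ι).map ic := by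
          rw [Functor.map_comp, Category.assoc]
      _ = (restrictFunctor W.ι).map (lc ≫ ic) := by rw [hψ', Functor.map_comp]
      _ = (restrictFunctor W.ι).map u := by rw [e2]
  rw [← conj_map j W.ι (W.ι ≫ j) rfl S.f, ← conj_comp, h1]
  rfl

end Groth.Agent.Lead.LocLift

namespace Groth.Agent.Lead.LocLift
open Scheme.Modules

variable {X : Scheme.{u}}

section Htpy
variable {E F : CochainComplex X.Modules ℤ} (α : E ⟶ F)

/-- partial null-homotopy data for `α` restricted along `j`, valid in degrees `≥ i`. -/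
def HtpyFrom {Z : Scheme.{u}} (j : Z ⟶ X) [IsOpenImmersion j] (i : ℤ)
    (h : ∀ m : ℤ, (E.X (m + 1)).restrict j ⟶ (F.X m).restrict j) : Prop :=
  ∀ m : ℤ, i ≤ m → (restrictFunctor j).map (α.f (m + 1)) =
    (restrictFunctor j).map (E.d (m + 1) (m + 1 + 1)) ≫ h (m + 1) +
      h m ≫ (restrictFunctor j).map (F.d m (m + 1))

variable {α}

theorem HtpyFrom.res {Z Z' : Scheme.{u}} {j : Z ⟶ X} [IsOpenImmersion j] (k : Z' ⟶ Z)
    [IsOpenImmersion k] (j' : Z' ⟶ X) [IsOpenImmersion j'] (hj : j' = k ≫ j) {i : ℤ}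
    {h : ∀ m : ℤ, (E.X (m + 1)).restrict j ⟶ (F.X m).restrict j} (H : HtpyFrom α j i h) :
    HtpyFrom α j' i (fun m => LocLift.res j k j' hj (h m)) := by
  intro m hm
  have := congrArg (LocLift.res j k j' hj) (H m hm)
  rw [res_map, res_add, res_comp, res_comp, res_map, res_map] at this
  exact this

/-- one step of the downward induction. -/
theorem HtpyFrom.step (hE : ∀ i : ℤ, FlatMod.IsFinLocFree (E.X i)) {Z : Scheme.{u}} {j : Z ⟶ X}
    [IsOpenImmersion j] (z : Z) (m : ℤ) (hFm : IsZero (F.homology (m + 1)))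
    {h : ∀ t : ℤ, (E.X (t + 1)).restrict j ⟶ (F.X t).restrict j} (H : HtpyFrom α j (m + 1) h) :
    ∃ W : Z.Opens, z ∈ W ∧ ∃ h' : ∀ t : ℤ, (E.X (t + 1)).restrict (W.ι ≫ j) ⟶
      (F.X t).restrict (W.ι ≫ j), HtpyFrom α (W.ι ≫ j) m h' := by
  -- the obstruction
  let g : (E.X (m + 1)).restrict j ⟶ (F.X (m + 1)).restrict j :=
    (restrictFunctor j).map (α.f (m + 1)) -
      (restrictFunctor j).map (E.d (m + 1) (m + 1 + 1)) ≫ h (m + 1)
  have hg : g ≫ (restrictFunctor j).map (F.d (m + 1) (m + 1 + 1)) = 0 := by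
    have h1 := H (m + 1) le_rfl
    have h2 : (restrictFunctor j).map (α.f (m + 1)) ≫
        (restrictFunctor j).map (F.d (m + 1) (m + 1 + 1)) =
        (restrictFunctor j).map (E.d (m + 1) (m + 1 + 1)) ≫
          (restrictFunctor j).map (α.f (m + 1 + 1)) := by
      rw [← Functor.map_comp, ← Functor.map_comp, α.comm]
    have h3 : (restrictFunctor j).map (E.d (m + 1) (m + 1 + 1)) ≫
        (restrictFunctor j).map (E.d (m + 1 + 1) (m + 1 + 1 + 1)) = 0 := by
      rw [← Functor.map_comp, E.d_comp_d, Functor.map_zero]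
    simp only [g, Preadditive.sub_comp, Category.assoc]
    rw [h2, h1, Preadditive.comp_add, reassoc_of% h3, zero_comp, zero_add, sub_self]
  -- exactness of `F` at `m + 1`
  have hex : (F.sc' m (m + 1) (m + 1 + 1)).Exact := by
    have h1 : F.ExactAt (m + 1) := (F.exactAt_iff_isZero_homology (m + 1)).mpr hFm
    exact (F.exactAt_iff' m (m + 1) (m + 1 + 1) (by simp) (by simp)).mp h1
  obtain ⟨W, hzW, w, hw⟩ : ∃ W : Z.Opens, z ∈ W ∧
      ∃ w : (E.X (m + 1)).restrict (W.ι ≫ j) ⟶ (F.X m).restrict (W.ι ≫ j),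
        w ≫ (restrictFunctor (W.ι ≫ j)).map (F.d m (m + 1)) =
          LocLift.res j W.ι (W.ι ≫ j) rfl g :=
    exists_nhd_lift_exact (hE (m + 1)) (F.sc' m (m + 1) (m + 1 + 1)) hex j z g hg
  refine ⟨W, hzW, Function.update (fun t => LocLift.res j W.ι (W.ι ≫ j) rfl (h t)) m w, ?_⟩
  have Hres := H.res W.ι (W.ι ≫ j) rfl
  intro t ht
  rcases eq_or_lt_of_le ht with rfl | hlt
  · rw [Function.update_self, Function.update_of_ne (by omega)]
    rw [hw]
    simp only [g]
    rw [res_sub, res_map, res_comp, res_map]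
    abel
  · rw [Function.update_of_ne (by omega), Function.update_of_ne (by omega)]
    exact Hres t (by omega)

/-- extension of the homotopy data below a degree where `E` vanishes. -/
theorem HtpyFrom.of_isZero {Z : Scheme.{u}} {j : Z ⟶ X} [IsOpenImmersion j] (m : ℤ)
    (hz : IsZero (E.X (m + 1)))
    {h : ∀ t : ℤ, (E.X (t + 1)).restrict j ⟶ (F.X t).restrict j} (H : HtpyFrom α j (m + 1) h) :
    HtpyFrom α j m h := by
  intro t ht
  rcases eq_or_lt_of_le ht with rfl | hlt
  · exact (Functor.map_isZero (restrictFunctor j) hz).eq_of_src _ _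
  · exact H t (by omega)

/-- the homotopy built from complete homotopy data. -/
noncomputable def homotopyOfHtpy {Z : Scheme.{u}} (j : Z ⟶ X) [IsOpenImmersion j]
    (h : ∀ t : ℤ, (E.X (t + 1)).restrict j ⟶ (F.X t).restrict j)
    (H : ∀ i : ℤ, HtpyFrom α j i h) :
    Homotopy (((restrictFunctor j).mapHomologicalComplex (ComplexShape.up ℤ)).map α) 0 where
  hom i i' := if hi : i' + 1 = i then eqToHom (by subst hi; rfl) ≫ h i' else 0
  zero i i' hrel := dif_neg hrel
  comm i := by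
    obtain ⟨m, rfl⟩ : ∃ m, i = m + 1 := ⟨i - 1, by ring⟩
    rw [dNext_eq _ (show (ComplexShape.up ℤ).Rel (m + 1) (m + 1 + 1) from rfl),
      prevD_eq _ (show (ComplexShape.up ℤ).Rel m (m + 1) from rfl)]
    simp only [dif_pos, eqToHom_refl, Category.id_comp, HomologicalComplex.zero_f, add_zero]
    exact H m m le_rfl

end Htpy

/-- **S0932**: a map from a bounded complex of finite locally free modules to a complex which is
exact in the relevant range is locally null-homotopic. -/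
theorem exists_nhd_homotopy_zero {E F : CochainComplex X.Modules ℤ} (α : E ⟶ F)
    (hE : ∀ i : ℤ, FlatMod.IsFinLocFree (E.X i)) (a b : ℤ)
    (hEa : ∀ i : ℤ, i < a → IsZero (E.X i)) (hEb : ∀ i : ℤ, b < i → IsZero (E.X i))
    (hF : ∀ i : ℤ, a ≤ i → IsZero (F.homology i)) (x : X) :
    ∃ V : X.Opens, x ∈ V ∧ Nonempty (Homotopy
      (((restrictFunctor V.ι).mapHomologicalComplex (ComplexShape.up ℤ)).map α) 0) := by
  have key : ∀ k : ℕ, ∃ (Z : Scheme.{u}) (j : Z ⟶ X) (_ : IsOpenImmersion j) (z : Z), j z = x ∧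
      ∃ h : ∀ t : ℤ, (E.X (t + 1)).restrict j ⟶ (F.X t).restrict j,
        HtpyFrom α j (b - k) h := by
    intro k
    induction k with
    | zero =>
      refine ⟨X, 𝟙 X, inferInstance, x, rfl, fun _ => 0, ?_⟩
      intro m hm
      exact (Functor.map_isZero (restrictFunctor (𝟙 X)) (hEb (m + 1) (by push_cast at hm; omega))).eq_of_src _ _
    | succ k ih =>
      obtain ⟨Z, j, hj, z, hz, h, H⟩ := ih
      have e : b - ((k + 1 : ℕ) : ℤ) + 1 = b - (k : ℤ) := by push_cast; ring
      by_cases hlt : a ≤ b - (k : ℤ)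
      · have H' : HtpyFrom α j (b - ((k + 1 : ℕ) : ℤ) + 1) h := by rw [e]; exact H
        obtain ⟨W, hzW, h', H''⟩ := HtpyFrom.step hE z (b - ((k + 1 : ℕ) : ℤ))
          (hF _ (by rw [e]; exact hlt)) H'
        exact ⟨W, W.ι ≫ j, inferInstance, ⟨z, hzW⟩, hz, h', H''⟩
      · have H' : HtpyFrom α j (b - ((k + 1 : ℕ) : ℤ) + 1) h := by rw [e]; exact H
        exact ⟨Z, j, hj, z, hz, h, HtpyFrom.of_isZero _ (hEa _ (by rw [e]; omega)) H'⟩
  obtain ⟨Z, j, hj, z, hz, h, H⟩ := key (b - a + 1).toNat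
  have Hall : ∀ i : ℤ, HtpyFrom α j i h := by
    intro i m hm
    by_cases hma : a ≤ m + 1
    · exact H m (by have := Int.self_le_toNat (b - a + 1); omega)
    · exact (Functor.map_isZero (restrictFunctor j) (hEa (m + 1) (by omega))).eq_of_src _ _
  refine ⟨j.opensRange, ⟨z, hz⟩, ⟨homotopyOfHtpy j.opensRange.ι
    (fun t => LocLift.res j j.isoOpensRange.inv j.opensRange.ι
      (Scheme.Hom.isoOpensRange_inv_comp _).symm (h t)) ?_⟩⟩
  intro i
  exact (Hall i).res _ _ _

end Groth.Agent.Lead.LocLift
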