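import Mathlib
import Groth.Agent.Lead.LocLift3

/-!
# Local lifting through quasi-isomorphisms (S0933)
-/

set_option autoImplicit false
universe v u v' u'
open CategoryTheory CategoryTheory.Limits

namespace Groth.Agent.Lead.LocLift

theorem epi_conj {C : Type u} [Category.{v} C] {A B A' B' : C} (a : A' ⟶ A) (ha : IsIso a)
    (b : B ⟶ B') (hb : IsIso b) (g : A ⟶ B) (hg : Epi g) : Epi (a ≫ g ≫ b) := inferInstance

theorem mono_conj {C : Type u} [Category.{v} C] {A B A' B' : C} (a : A' ⟶ A) (ha : IsIso a)
    (b : B ⟶ B') (hb : IsIso b) (g : A ⟶ B) (hg : Mono g) : Mono (a ≫ g ≫ b) := inferInstance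

open HomotopyCategory CochainComplex ComplexShape in
/-- the cone of `f` has vanishing cohomology in degree `n` if `H^n(f)` is epi and `H^{n+1}(f)` mono -/
theorem isZero_homology_mappingCone {C : Type u} [Category.{v} C] [Abelian C]
    {G F : CochainComplex C ℤ} (f : G ⟶ F) (n : ℤ)
    (h1 : Epi (HomologicalComplex.homologyMap f n))
    (h2 : Mono (HomologicalComplex.homologyMap f (n + 1))) :
    IsZero ((mappingCone f).homology n) := by
  let Hf := homologyFunctor C (up ℤ) 0
  have hT := HomotopyCategory.mappingCone_triangleh_distinguished f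
  have e1 := (Hf.homologySequence_exact₃ _ hT n (n + 1) rfl).isZero_X₂_iff
  have e2 := Hf.homologySequence_mono_shift_map_mor₁_iff _ hT n (n + 1) rfl
  have e3 := Hf.homologySequence_epi_shift_map_mor₁_iff _ hT n
  dsimp at e1 e2 e3
  have key : ∀ m : ℤ, (Hf.shift m).map ((quotient C (up ℤ)).map f) =
      (homologyFunctorFactors C (up ℤ) m).hom.app G ≫
        (HomologicalComplex.homologyFunctor C (up ℤ) m).map f ≫
        (homologyFunctorFactors C (up ℤ) m).inv.app F := by
    intro m
    have := (homologyFunctorFactors C (up ℤ) m).hom.naturality f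
    rw [← Category.assoc, ← this, Category.assoc, Iso.hom_inv_id_app, Category.comp_id]
    rfl
  have E1 : Epi ((Hf.shift n).map (mappingCone.triangleh f).mor₁) := by
    change Epi ((Hf.shift n).map ((quotient C (up ℤ)).map f))
    rw [key n]
    haveI : Epi ((HomologicalComplex.homologyFunctor C (up ℤ) n).map f) := h1
    haveI i1 : IsIso ((homologyFunctorFactors C (up ℤ) n).hom.app G) :=
      ((homologyFunctorFactors C (up ℤ) n).app G).isIso_hom
    haveI i2 : IsIso ((homologyFunctorFactors C (up ℤ) n).inv.app F) :=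
      ((homologyFunctorFactors C (up ℤ) n).app F).isIso_inv
    exact epi_conj _ i1 _ i2 _ this
  have E2 : Mono ((Hf.shift (n + 1)).map (mappingCone.triangleh f).mor₁) := by
    change Mono ((Hf.shift (n + 1)).map ((quotient C (up ℤ)).map f))
    rw [key (n + 1)]
    haveI : Mono ((HomologicalComplex.homologyFunctor C (up ℤ) (n + 1)).map f) := h2
    haveI i1 : IsIso ((homologyFunctorFactors C (up ℤ) (n + 1)).hom.app G) :=
      ((homologyFunctorFactors C (up ℤ) (n + 1)).app G).isIso_hom
    haveI i2 : IsIso ((homologyFunctorFactors C (up ℤ) (n + 1)).inv.app F) :=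
      ((homologyFunctorFactors C (up ℤ) (n + 1)).app F).isIso_inv
    exact mono_conj _ i1 _ i2 _ this
  have hz := e1.mpr ⟨e3.mp E1, e2.mp E2⟩
  exact hz.of_iso ((homologyFunctorFactors C (up ℤ) n).app (mappingCone f)).symm

open CochainComplex HomComplex in
/-- a null-homotopy of `α ≫ inr f` (after applying an additive functor) gives a lift of `α`
through `f` up to homotopy. -/
theorem exists_lift_of_homotopy_inr {A : Type u} [Category.{v} A] [Abelian A]
    {B : Type u'} [Category.{v'} B] [Preadditive B] (R : A ⥤ B) [R.Additive]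
    {E G F : CochainComplex A ℤ} (f : G ⟶ F) (α : E ⟶ F)
    (hh : Homotopy ((R.mapHomologicalComplex (ComplexShape.up ℤ)).map (α ≫ mappingCone.inr f)) 0) :
    ∃ β : (R.mapHomologicalComplex (ComplexShape.up ℤ)).obj E ⟶
        (R.mapHomologicalComplex (ComplexShape.up ℤ)).obj G,
      Nonempty (Homotopy (β ≫ (R.mapHomologicalComplex (ComplexShape.up ℤ)).map f)
        ((R.mapHomologicalComplex (ComplexShape.up ℤ)).map α)) := by
  -- components
  let H : ∀ i j : ℤ, R.obj (E.X i) ⟶ R.obj ((mappingCone f).X j) := fun i j => hh.hom i j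
  have Hzero : ∀ i j : ℤ, ¬ (j + 1 = i) → H i j = 0 := fun i j hij => hh.zero i j hij
  let b : ∀ i : ℤ, R.obj (E.X i) ⟶ R.obj (G.X i) := fun i =>
    H i (i - 1) ≫ R.map ((mappingCone.fst f).1.v (i - 1) i (by lia))
  let s : ∀ i j : ℤ, R.obj (E.X i) ⟶ R.obj (F.X j) := fun i j =>
    H i j ≫ R.map ((mappingCone.snd f).v j j (add_zero j))
  -- the homotopy identity
  have hcomm : ∀ i : ℤ, R.map (α.f i ≫ (mappingCone.inr f).f i) =
      R.map (E.d i (i + 1)) ≫ H (i + 1) i +
        H i (i - 1) ≫ R.map ((mappingCone f).d (i - 1) i) := by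
    intro i
    have h := hh.comm i
    rw [dNext_eq _ (show (ComplexShape.up ℤ).Rel i (i + 1) from rfl),
      prevD_eq _ (show (ComplexShape.up ℤ).Rel (i - 1) i by simp)] at h
    simp only [Functor.mapHomologicalComplex_map_f, HomologicalComplex.comp_f,
      Functor.mapHomologicalComplex_obj_d, HomologicalComplex.zero_f, add_zero] at h
    exact h
  -- the two projected identities
  have hb : ∀ i : ℤ, b i ≫ R.map (G.d i (i + 1)) =
      R.map (E.d i (i + 1)) ≫ H (i + 1) i ≫ R.map ((mappingCone.fst f).1.v i (i + 1) rfl) := by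
    intro i
    have h := congrArg (fun t => t ≫ R.map ((mappingCone.fst f).1.v i (i + 1) rfl)) (hcomm i)
    simp only [Preadditive.add_comp, Category.assoc, ← Functor.map_comp,
      mappingCone.inr_f_fst_v, comp_zero, Functor.map_zero, mappingCone.d_fst_v',
      Functor.map_neg, Preadditive.comp_neg] at h
    have hb' : b i ≫ R.map (G.d i (i + 1)) =
        H i (i - 1) ≫ R.map ((mappingCone.fst f).1.v (i - 1) i (by lia) ≫ G.d i (i + 1)) := by
      simp only [b, Category.assoc, Functor.map_comp]
    rw [hb']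
    rw [← sub_eq_add_neg] at h
    exact (sub_eq_zero.mp h.symm).symm
  have hs : ∀ i : ℤ, R.map (α.f i) = R.map (E.d i (i + 1)) ≫ s (i + 1) i +
      (b i ≫ R.map (f.f i) + s i (i - 1) ≫ R.map (F.d (i - 1) i)) := by
    intro i
    have h := congrArg (fun t => t ≫ R.map ((mappingCone.snd f).v i i (add_zero i))) (hcomm i)
    simp only [Preadditive.add_comp, Category.assoc, ← Functor.map_comp,
      mappingCone.inr_f_snd_v, Category.comp_id, mappingCone.d_snd_v',
      Functor.map_add, Preadditive.comp_add] at h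
    simp only [Functor.map_comp] at h
    simp only [s, b, Category.assoc]
    exact h
  have bsucc : ∀ i : ℤ, b (i + 1) =
      H (i + 1) i ≫ R.map ((mappingCone.fst f).1.v i (i + 1) rfl) := by
    intro i
    have : ∀ (t : ℤ) (ht : t + 1 = i + 1), H (i + 1) t ≫ R.map ((mappingCone.fst f).1.v t (i + 1) ht) =
        H (i + 1) i ≫ R.map ((mappingCone.fst f).1.v i (i + 1) rfl) := by
      intro t ht
      obtain rfl : t = i := by lia
      rfl
    exact this (i + 1 - 1) (by lia)
  let β : (R.mapHomologicalComplex (ComplexShape.up ℤ)).obj E ⟶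
      (R.mapHomologicalComplex (ComplexShape.up ℤ)).obj G :=
    { f := b
      comm' := by
        intro i j hij
        obtain rfl : i + 1 = j := hij
        exact (hb i).trans (congrArg (fun t => R.map (E.d i (i + 1)) ≫ t) (bsucc i).symm) }
  refine ⟨β, ⟨{ hom := fun i j => -(s i j), zero := ?_, comm := ?_ }⟩⟩
  · intro i j hij
    change -(H i j ≫ R.map ((mappingCone.snd f).v j j (add_zero j))) = 0
    rw [Hzero i j hij, zero_comp, neg_zero]
  · intro i
    rw [dNext_eq _ (show (ComplexShape.up ℤ).Rel i (i + 1) from rfl),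
      prevD_eq _ (show (ComplexShape.up ℤ).Rel (i - 1) i by simp)]
    change b i ≫ R.map (f.f i) = R.map (E.d i (i + 1)) ≫ (-(s (i + 1) i)) +
      (-(s i (i - 1))) ≫ R.map (F.d (i - 1) i) + R.map (α.f i)
    rw [hs i, Preadditive.comp_neg, Preadditive.neg_comp]
    abel


open AlgebraicGeometry Scheme.Modules in
/-- **S0933** -/
theorem exists_nhd_lift_quasiIso {X : Scheme.{u}} {E F G : CochainComplex X.Modules ℤ}
    (α : E ⟶ F) (f : G ⟶ F) (hE : ∀ i : ℤ, FlatMod.IsFinLocFree (E.X i)) (a b : ℤ)
    (hEa : ∀ j : ℤ, j < a → IsZero (E.X j)) (hEb : ∀ j : ℤ, b < j → IsZero (E.X j))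
    (hf : ∀ j : ℤ, a < j → IsIso (HomologicalComplex.homologyMap f j))
    (hfa : Epi (HomologicalComplex.homologyMap f a)) (x : X) :
    ∃ (V : X.Opens) (β : ((restrictFunctor V.ι).mapHomologicalComplex (ComplexShape.up ℤ)).obj E ⟶
        ((restrictFunctor V.ι).mapHomologicalComplex (ComplexShape.up ℤ)).obj G), x ∈ V ∧
      Nonempty (Homotopy (β ≫ ((restrictFunctor V.ι).mapHomologicalComplex (ComplexShape.up ℤ)).map f)
        (((restrictFunctor V.ι).mapHomologicalComplex (ComplexShape.up ℤ)).map α)) := by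
  have hC : ∀ i : ℤ, a ≤ i → IsZero ((CochainComplex.mappingCone f).homology i) := by
    intro i hi
    apply isZero_homology_mappingCone f i
    · rcases eq_or_lt_of_le hi with rfl | hlt
      · exact hfa
      · haveI := hf i hlt
        infer_instance
    · haveI := hf (i + 1) (by omega)
      infer_instance
  obtain ⟨V, hxV, ⟨hh⟩⟩ := exists_nhd_homotopy_zero (α ≫ CochainComplex.mappingCone.inr f)
    hE a b hEa hEb hC x
  obtain ⟨β, hβ⟩ := exists_lift_of_homotopy_inr (restrictFunctor V.ι) f α hh
  exact ⟨V, β, hxV, hβ⟩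

end Groth.Agent.Lead.LocLift
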