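import Mathlib
import Groth.Agent.Lead.LocLift4

/-!
# Morphisms in the derived category out of strictly perfect complexes are locally chain maps (S0944)
-/

set_option autoImplicit false
universe w v u w' v' u'
open CategoryTheory CategoryTheory.Limits

namespace Groth.Agent.Lead.LocLift

theorem Q_map_eq_of_homotopy {C : Type u} [Category.{v} C] [Abelian C] [HasDerivedCategory.{w} C]
    {K L : CochainComplex C ℤ} {f g : K ⟶ L} (h : Homotopy f g) :
    DerivedCategory.Q.map f = DerivedCategory.Q.map g := by
  have h1 : (HomotopyCategory.quotient C (ComplexShape.up ℤ)).map f =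
      (HomotopyCategory.quotient C (ComplexShape.up ℤ)).map g := HomotopyCategory.eq_of_homotopy _ _ h
  have h2 := (DerivedCategory.quotientCompQhIso C).hom.naturality f
  have h3 := (DerivedCategory.quotientCompQhIso C).hom.naturality g
  simp only [Functor.comp_map] at h2 h3
  rw [h1] at h2
  have h4 := h2.symm.trans h3
  exact (cancel_epi _).mp h4

/-- the key computation for S0944, for an exact functor `R`. -/
theorem mapDerivedCategory_map_eq {C₁ : Type u} [Category.{v} C₁] [Abelian C₁]
    [HasDerivedCategory.{w} C₁] {C₂ : Type u'} [Category.{v'} C₂] [Abelian C₂]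
    [HasDerivedCategory.{w'} C₂] (R : C₁ ⥤ C₂) [R.Additive] [PreservesFiniteLimits R]
    [PreservesFiniteColimits R] {E F F' : CochainComplex C₁ ℤ}
    (α : DerivedCategory.Q.obj E ⟶ DerivedCategory.Q.obj F) (g : E ⟶ F') (s : F ⟶ F')
    (hs : IsIso (DerivedCategory.Q.map s)) (hα : α = DerivedCategory.Q.map g ≫ inv (DerivedCategory.Q.map s))
    (β : (R.mapHomologicalComplex (ComplexShape.up ℤ)).obj E ⟶
      (R.mapHomologicalComplex (ComplexShape.up ℤ)).obj F)
    (ho : Homotopy (β ≫ (R.mapHomologicalComplex (ComplexShape.up ℤ)).map s)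
      ((R.mapHomologicalComplex (ComplexShape.up ℤ)).map g)) :
    R.mapDerivedCategory.map α =
      R.mapDerivedCategoryFactors.hom.app E ≫ DerivedCategory.Q.map β ≫
        R.mapDerivedCategoryFactors.inv.app F := by
  have e1 := R.mapDerivedCategoryFactors_hom_naturality g
  have e2 := R.mapDerivedCategoryFactors_hom_naturality s
  have e3 := Q_map_eq_of_homotopy ho
  rw [Functor.map_comp] at e3
  haveI : IsIso (R.mapDerivedCategory.map (DerivedCategory.Q.map s)) := inferInstance
  rw [hα, Functor.map_comp, Functor.map_inv, IsIso.comp_inv_eq]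
  rw [← cancel_mono (R.mapDerivedCategoryFactors.hom.app F')]
  simp only [Category.assoc]
  rw [e1, e2, Iso.inv_hom_id_app_assoc, e3]

end Groth.Agent.Lead.LocLift
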