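import Mathlib
import Groth.Agent.Lead.LocLift3
import Groth.Agent.Helper4.FinLocFree2

set_option autoImplicit false
universe v u
open CategoryTheory CategoryTheory.Limits

namespace Groth.Agent.Lead.LocLift

section Gen
variable {C : Type u} [Category.{v} C] [Preadditive C] [HasBinaryBiproducts C] (O : C)
  (n m : ℕ) [HasCoproduct (fun _ : Fin n => O)] [HasCoproduct (fun _ : Fin m => O)]
  [HasCoproduct (fun _ : Fin (n + m) => O)]

/-- `O^n ⊞ O^m ≅ O^(n+m)`. -/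
noncomputable def biprodSigmaIso :
    (∐ fun _ : Fin n => O) ⊞ (∐ fun _ : Fin m => O) ≅ ∐ fun _ : Fin (n + m) => O where
  hom := biprod.desc (Sigma.desc (fun i => Sigma.ι (fun _ : Fin (n + m) => O) (Fin.castAdd m i)))
    (Sigma.desc (fun j => Sigma.ι (fun _ : Fin (n + m) => O) (Fin.natAdd n j)))
  inv := Sigma.desc (fun k => Fin.addCases
    (motive := fun _ => O ⟶ (∐ fun _ : Fin n => O) ⊞ (∐ fun _ : Fin m => O))
    (fun i => Sigma.ι (fun _ : Fin n => O) i ≫ biprod.inl)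
    (fun j => Sigma.ι (fun _ : Fin m => O) j ≫ biprod.inr) k)
  hom_inv_id := by
    apply biprod.hom_ext'
    · apply Sigma.hom_ext
      intro i
      simp
    · apply Sigma.hom_ext
      intro j
      simp
  inv_hom_id := by
    apply Sigma.hom_ext
    intro k
    induction k using Fin.addCases with
    | left i => simp
    | right j => simp

end Gen

open AlgebraicGeometry Scheme.Modules Groth.Agent.Helper4.FinLocFree

variable {X : Scheme.{u}}

theorem isFinLocFree_biprod {A B : X.Modules} (hA : FlatMod.IsFinLocFree A)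
    (hB : FlatMod.IsFinLocFree B) : FlatMod.IsFinLocFree (A ⊞ B) := by
  intro x
  obtain ⟨U₁, n, hx₁, h₁⟩ := hA x
  obtain ⟨U₂, m, hx₂, h₂⟩ := hB x
  have h₁' : IsFreeAlong A (U₁ ⊓ U₂).ι n := IsFreeAlong.of_le inf_le_left h₁
  have h₂' : IsFreeAlong B (U₁ ⊓ U₂).ι m := IsFreeAlong.of_le inf_le_right h₂
  obtain ⟨e₁⟩ := h₁'
  obtain ⟨e₂⟩ := h₂'
  refine ⟨U₁ ⊓ U₂, n + m, ⟨hx₁, hx₂⟩, ⟨?_⟩⟩
  haveI : PreservesBinaryBiproducts (restrictFunctor (U₁ ⊓ U₂).ι) :=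
    preservesBinaryBiproducts_of_preservesBinaryCoproducts _
  exact (restrictFunctor (U₁ ⊓ U₂).ι).mapBiprod A B ≪≫ biprod.mapIso e₁ e₂ ≪≫
    biprodSigmaIso (Coh.structureModule (↑(U₁ ⊓ U₂) : Scheme.{u})) n m

theorem isZero_biprod' {C : Type*} [Category C] [Preadditive C] [HasBinaryBiproducts C]
    {A B : C} (hA : IsZero A) (hB : IsZero B) : IsZero (A ⊞ B) := by
  rw [IsZero.iff_id_eq_zero]
  apply biprod.hom_ext
  · exact hA.eq_of_tgt _ _
  · exact hB.eq_of_tgt _ _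

/-- **S6516** -/
theorem isStrictlyPerfect_mappingCone {E F : CochainComplex X.Modules ℤ} (φ : E ⟶ F)
    (hE : (∃ a b : ℤ, ∀ i : ℤ, i < a ∨ b < i → IsZero (E.X i)) ∧
      ∀ i : ℤ, FlatMod.IsFinLocFree (E.X i))
    (hF : (∃ a b : ℤ, ∀ i : ℤ, i < a ∨ b < i → IsZero (F.X i)) ∧
      ∀ i : ℤ, FlatMod.IsFinLocFree (F.X i)) :
    (∃ a b : ℤ, ∀ i : ℤ, i < a ∨ b < i → IsZero ((CochainComplex.mappingCone φ).X i)) ∧
      ∀ i : ℤ, FlatMod.IsFinLocFree ((CochainComplex.mappingCone φ).X i) := by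
  obtain ⟨⟨a₁, b₁, h₁⟩, hE'⟩ := hE
  obtain ⟨⟨a₂, b₂, h₂⟩, hF'⟩ := hF
  have iso : ∀ i : ℤ, (CochainComplex.mappingCone φ).X i ≅ E.X (i + 1) ⊞ F.X i := fun i =>
    HomologicalComplex.homotopyCofiber.XIsoBiprod φ i (i + 1) rfl
  refine ⟨⟨min (a₁ - 1) a₂, max b₁ b₂, ?_⟩, ?_⟩
  · intro i hi
    refine (isZero_biprod' (h₁ (i + 1) ?_) (h₂ i ?_)).of_iso (iso i)
    · rcases hi with hi | hi
      · left; have := min_le_left (a₁ - 1) a₂; omega
      · right; have := le_max_left b₁ b₂; omega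
    · rcases hi with hi | hi
      · left; have := min_le_right (a₁ - 1) a₂; omega
      · right; have := le_max_right b₁ b₂; omega
  · intro i
    exact Groth.Agent.Helper4.FinLocFree2.isFinLocFree_of_iso (iso i).symm
      (isFinLocFree_biprod (hE' (i + 1)) (hF' i))

end Groth.Agent.Lead.LocLift

namespace Groth.Agent.Lead.LocLift
open AlgebraicGeometry Scheme.Modules

theorem isFinLocFree_pullback {X Y : Scheme.{u}} (f : X ⟶ Y) {F : Y.Modules}
    (hF : FlatMod.IsFinLocFree F) : FlatMod.IsFinLocFree ((Scheme.Modules.pullback f).obj F) := by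
  intro x
  obtain ⟨U, n, hxU, ⟨e⟩⟩ := hF (f x)
  refine ⟨f ⁻¹ᵁ U, n, hxU, ⟨?_⟩⟩
  exact (restrictFunctorIsoPullback (f ⁻¹ᵁ U).ι).app _ ≪≫
    (pullbackComp (f ⁻¹ᵁ U).ι f).app F ≪≫
    (pullbackCongr (morphismRestrict_ι f U).symm).app F ≪≫
    ((pullbackComp (f ∣_ U) U.ι).app F).symm ≪≫
    (Scheme.Modules.pullback (f ∣_ U)).mapIso ((restrictFunctorIsoPullback U.ι).app F).symm ≪≫
    (Scheme.Modules.pullback (f ∣_ U)).mapIso e ≪≫
    Groth.Agent.Helper8.TildeBC.pullbackFreeIso (f ∣_ U) n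

/-- **S6517** -/
theorem isStrictlyPerfect_pullback {X Y : Scheme.{u}} (f : X ⟶ Y) (F : CochainComplex Y.Modules ℤ)
    (hF : (∃ a b : ℤ, ∀ i : ℤ, i < a ∨ b < i → IsZero (F.X i)) ∧
      ∀ i : ℤ, FlatMod.IsFinLocFree (F.X i)) :
    (∃ a b : ℤ, ∀ i : ℤ, i < a ∨ b < i → IsZero
      ((((Scheme.Modules.pullback f).mapHomologicalComplex (ComplexShape.up ℤ)).obj F).X i)) ∧
      ∀ i : ℤ, FlatMod.IsFinLocFree
        ((((Scheme.Modules.pullback f).mapHomologicalComplex (ComplexShape.up ℤ)).obj F).X i) := by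
  obtain ⟨⟨a, b, h⟩, hF'⟩ := hF
  refine ⟨⟨a, b, fun i hi => ?_⟩, fun i => isFinLocFree_pullback f (hF' i)⟩
  exact Functor.map_isZero (Scheme.Modules.pullback f) (h i hi)

end Groth.Agent.Lead.LocLift
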