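import Mathlib
import Groth.Agent.Lead.LocLift6
import Groth.Agent.Lead.LocLift5

/-!
# Restriction of complexes and the derived category; perfect complexes
-/

set_option autoImplicit false
universe u
open CategoryTheory CategoryTheory.Limits AlgebraicGeometry

attribute [local instance] HasDerivedCategory.standard

namespace Groth.Agent.Lead.PerfLib
open Scheme.Modules Groth.Agent.Lead.LocLift

variable {X : Scheme.{u}}

/-- restriction of complexes along an open immersion. -/
noncomputable abbrev Rc {Z : Scheme.{u}} (j : Z ⟶ X) [IsOpenImmersion j] :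
    CochainComplex X.Modules ℤ ⥤ CochainComplex Z.Modules ℤ :=
  (restrictFunctor j).mapHomologicalComplex (ComplexShape.up ℤ)

/-- an isomorphism in `D(X)` between complexes restricts to an isomorphism in `D(Z)`. -/
noncomputable def qRestrictIso {Z : Scheme.{u}} (j : Z ⟶ X) [IsOpenImmersion j]
    {F F' : CochainComplex X.Modules ℤ}
    (e : DerivedCategory.Q.obj F ≅ DerivedCategory.Q.obj F') :
    DerivedCategory.Q.obj ((Rc j).obj F) ≅ DerivedCategory.Q.obj ((Rc j).obj F') :=
  ((restrictFunctor j).mapDerivedCategoryFactors.app F).symm ≪≫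
    (restrictFunctor j).mapDerivedCategory.mapIso e ≪≫
    (restrictFunctor j).mapDerivedCategoryFactors.app F'

/-- transitivity of restriction of complexes. -/
noncomputable def rcCompIso {Z Z' : Scheme.{u}} (j : Z ⟶ X) [IsOpenImmersion j] (k : Z' ⟶ Z)
    [IsOpenImmersion k] (j' : Z' ⟶ X) [IsOpenImmersion j'] (h : j' = k ≫ j)
    (F : CochainComplex X.Modules ℤ) :
    (Rc j').obj F ≅ (Rc k).obj ((Rc j).obj F) :=
  (NatIso.mapHomologicalComplex (resIso j k j' h) (ComplexShape.up ℤ)).app F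

open Groth.Agent.Helper4.FinLocFree

theorem isZero_freeMod_zero (Y : Scheme.{u}) : IsZero (FlatMod.freeMod Y 0) := by
  rw [IsZero.iff_id_eq_zero]
  apply Sigma.hom_ext
  intro i
  exact i.elim0

theorem isFreeAlong_of_isZero {Y Z : Scheme.{u}} {M : Y.Modules} (hM : IsZero M) (j : Z ⟶ Y)
    [IsOpenImmersion j] : IsFreeAlong M j 0 :=
  ⟨(Functor.map_isZero (restrictFunctor j) hM).iso (isZero_freeMod_zero Z)⟩

/-- a bounded complex of finite locally free modules has free terms near any point. -/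
theorem exists_free_nhd {Y : Scheme.{u}} (E : CochainComplex Y.Modules ℤ) (a b : ℤ)
    (hvan : ∀ i : ℤ, i < a ∨ b < i → IsZero (E.X i))
    (hfree : ∀ i : ℤ, FlatMod.IsFinLocFree (E.X i)) (y : Y) :
    ∃ W : Y.Opens, y ∈ W ∧ ∀ i : ℤ, ∃ n : ℕ, IsFreeAlong (E.X i) W.ι n := by
  choose U n hyU hU using fun i : ℤ => hfree i y
  have hmem : (⋂ i ∈ Finset.Icc a b, (U i : Set Y)) ∈ nhds y :=
    (Filter.biInter_finset_mem _).mpr (fun i _ => (U i).isOpen.mem_nhds (hyU i))
  obtain ⟨W0, hW0sub, hW0open, hyW0⟩ := mem_nhds_iff.mp hmem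
  refine ⟨⟨W0, hW0open⟩, hyW0, fun i => ?_⟩
  by_cases hi : i ∈ Finset.Icc a b
  · refine ⟨n i, IsFreeAlong.of_le ?_ (hU i)⟩
    intro z hz
    exact Set.mem_iInter₂.mp (hW0sub hz) i hi
  · refine ⟨0, isFreeAlong_of_isZero (hvan i ?_) _⟩
    rw [Finset.mem_Icc] at hi
    omega

end Groth.Agent.Lead.PerfLib
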