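import Mathlib
import Groth.Prelude.Def_DCoh2
import Groth.Agent.Lead.PerfLib

/-!
# Perfect objects: two out of three (S0887)
-/

set_option autoImplicit false
universe u
open CategoryTheory CategoryTheory.Limits AlgebraicGeometry

attribute [local instance] HasDerivedCategory.standard

namespace Groth.Agent.Lead.PerfLib
open Scheme.Modules Groth.Agent.Lead.LocLift Groth.Agent.Helper4.FinLocFree

theorem isStrictlyPerfect_restrict {Y Z : Scheme.{u}} (j : Z ⟶ Y) [IsOpenImmersion j]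
    {E : CochainComplex Y.Modules ℤ} (hE : DCoh.IsStrictlyPerfect E) :
    DCoh.IsStrictlyPerfect ((Rc j).obj E) := by
  obtain ⟨⟨a, b, h⟩, hf⟩ := hE
  exact ⟨⟨a, b, fun i hi => Functor.map_isZero (restrictFunctor j) (h i hi)⟩,
    fun i => isFinLocFree_restrict (hf i) j⟩

/-- `F` is, near `y`, isomorphic in the derived category to a strictly perfect complex. -/
def LocSP {Y : Scheme.{u}} (F : CochainComplex Y.Modules ℤ) (y : Y) : Prop :=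
  ∃ (Z : Scheme.{u}) (j : Z ⟶ Y) (_ : IsOpenImmersion j), y ∈ Set.range j ∧
    ∃ E : CochainComplex Z.Modules ℤ, DCoh.IsStrictlyPerfect E ∧
      Nonempty (DerivedCategory.Q.obj ((Rc j).obj F) ≅ DerivedCategory.Q.obj E)

theorem LocSP.of_iso {Y : Scheme.{u}} {F F' : CochainComplex Y.Modules ℤ}
    (e : DerivedCategory.Q.obj F ≅ DerivedCategory.Q.obj F') {y : Y} (h : LocSP F y) :
    LocSP F' y := by
  obtain ⟨Z, j, hj, hy, E, hE, ⟨ψ⟩⟩ := h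
  exact ⟨Z, j, hj, hy, E, hE, ⟨qRestrictIso j e.symm ≪≫ ψ⟩⟩

theorem LocSP.of_restrict {Y Z : Scheme.{u}} (j : Z ⟶ Y) [IsOpenImmersion j]
    {F : CochainComplex Y.Modules ℤ} {z : Z} (h : LocSP ((Rc j).obj F) z) : LocSP F (j z) := by
  obtain ⟨Z', j', hj', hz, E, hE, ⟨ψ⟩⟩ := h
  haveI := hj'
  refine ⟨Z', j' ≫ j, inferInstance, ?_, E, hE,
    ⟨DerivedCategory.Q.mapIso (rcCompIso j j' (j' ≫ j) rfl F) ≪≫ ψ⟩⟩
  obtain ⟨z', rfl⟩ := hz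
  exact ⟨z', rfl⟩

theorem LocSP.common {Y : Scheme.{u}} {F₁ F₂ : CochainComplex Y.Modules ℤ} {y : Y}
    (h₁ : LocSP F₁ y) (h₂ : LocSP F₂ y) :
    ∃ (Z : Scheme.{u}) (j : Z ⟶ Y) (_ : IsOpenImmersion j) (z : Z), j z = y ∧
      ∃ E₁ E₂ : CochainComplex Z.Modules ℤ, DCoh.IsStrictlyPerfect E₁ ∧
        DCoh.IsStrictlyPerfect E₂ ∧
        Nonempty (DerivedCategory.Q.obj ((Rc j).obj F₁) ≅ DerivedCategory.Q.obj E₁) ∧
        Nonempty (DerivedCategory.Q.obj ((Rc j).obj F₂) ≅ DerivedCategory.Q.obj E₂) := by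
  obtain ⟨Z₁, j₁, hj₁, ⟨z₁, hz₁⟩, E₁, hE₁, ⟨ψ₁⟩⟩ := h₁
  obtain ⟨Z₂, j₂, hj₂, ⟨z₂, hz₂⟩, E₂, hE₂, ⟨ψ₂⟩⟩ := h₂
  haveI := hj₁
  haveI := hj₂
  obtain ⟨z, hz1, hz2⟩ := Scheme.Pullback.exists_preimage_pullback z₁ z₂ (hz₁.trans hz₂.symm)
  refine ⟨pullback j₁ j₂, pullback.fst j₁ j₂ ≫ j₁, inferInstance, z, ?_,
    (Rc (pullback.fst j₁ j₂)).obj E₁, (Rc (pullback.snd j₁ j₂)).obj E₂,
    isStrictlyPerfect_restrict _ hE₁, isStrictlyPerfect_restrict _ hE₂, ⟨?_⟩, ⟨?_⟩⟩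
  · rw [← hz₁, ← hz1]
    rfl
  · exact DerivedCategory.Q.mapIso (rcCompIso j₁ (pullback.fst j₁ j₂) _ rfl F₁) ≪≫
      qRestrictIso (pullback.fst j₁ j₂) ψ₁
  · exact DerivedCategory.Q.mapIso (rcCompIso j₂ (pullback.snd j₁ j₂) _ pullback.condition F₂) ≪≫
      qRestrictIso (pullback.snd j₁ j₂) ψ₂

theorem isPerfect_iff_locSP {X : Scheme.{u}} (K : DCoh.D X) (F₀ : CochainComplex X.Modules ℤ)
    (e₀ : DerivedCategory.Q.obj F₀ ≅ K) : DCoh.IsPerfect K ↔ ∀ x : X, LocSP F₀ x := by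
  constructor
  · intro hK x
    obtain ⟨V, hxV, hV⟩ := hK x
    obtain ⟨E, hE, hψ⟩ := hV F₀ ⟨e₀⟩
    exact ⟨V, V.ι, inferInstance, ⟨⟨x, hxV⟩, rfl⟩, E, hE, hψ⟩
  · intro h x
    obtain ⟨Z, j, hj, ⟨z, hz⟩, E, hE, ⟨ψ⟩⟩ := h x
    haveI := hj
    let V : X.Opens := j.opensRange
    let k : (V : Scheme.{u}) ⟶ Z := j.isoOpensRange.inv
    have hk : V.ι = k ≫ j := (Scheme.Hom.isoOpensRange_inv_comp j).symm
    refine ⟨V, ⟨z, hz⟩, ?_⟩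
    intro F ⟨e⟩
    refine ⟨(Rc k).obj E, isStrictlyPerfect_restrict k hE, ⟨?_⟩⟩
    exact qRestrictIso V.ι (e ≪≫ e₀.symm) ≪≫
      DerivedCategory.Q.mapIso (rcCompIso j k V.ι hk F₀) ≪≫ qRestrictIso k ψ

theorem isPerfect_of_iso {X : Scheme.{u}} {K K' : DCoh.D X} (e : K ≅ K')
    (hK : DCoh.IsPerfect K) : DCoh.IsPerfect K' := by
  intro x
  obtain ⟨V, hxV, hV⟩ := hK x
  refine ⟨V, hxV, fun F ⟨e'⟩ => hV F ⟨e' ≪≫ e.symm⟩⟩

end Groth.Agent.Lead.PerfLib
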