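import Mathlib
import Groth.Prelude.Def_DCoh2
import Groth.Agent.Lead.PerfLib3

/-!
# Perfect objects: two out of three (S0887), part 2
-/

set_option autoImplicit false
universe u
open CategoryTheory CategoryTheory.Limits AlgebraicGeometry

attribute [local instance] HasDerivedCategory.standard

namespace Groth.Agent.Lead.PerfLib
open Scheme.Modules Groth.Agent.Lead.LocLift Groth.Agent.Helper4.FinLocFree

/-- S0944 with the exactness of restriction discharged. -/
theorem exists_nhd_chain_map {Y : Scheme.{u}} {E F : CochainComplex Y.Modules ℤ}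
    (hE : DCoh.IsStrictlyPerfect E) (α : DerivedCategory.Q.obj E ⟶ DerivedCategory.Q.obj F)
    (y : Y) :
    ∃ W : Y.Opens, y ∈ W ∧ ∃ β : (Rc W.ι).obj E ⟶ (Rc W.ι).obj F,
      (restrictFunctor W.ι).mapDerivedCategory.map α =
        (restrictFunctor W.ι).mapDerivedCategoryFactors.hom.app E ≫ DerivedCategory.Q.map β ≫
          (restrictFunctor W.ι).mapDerivedCategoryFactors.inv.app F := by
  obtain ⟨⟨a', b', hab⟩, hfree⟩ := hE
  obtain ⟨F', g, s, hs, hα⟩ := DerivedCategory.left_fac α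
  haveI hqis : QuasiIso s := (DerivedCategory.isIso_Q_map_iff_quasiIso (φ := s)).mp hs
  obtain ⟨V, β, hxV, ⟨ho⟩⟩ := exists_nhd_lift_quasiIso g s hfree a' b'
    (fun j hj => hab j (Or.inl hj)) (fun j hj => hab j (Or.inr hj))
    (fun j _ => inferInstance) inferInstance y
  exact ⟨V, hxV, β, mapDerivedCategory_map_eq _ α g s hs hα β ho⟩

theorem qRestrictIso_comm {Y Z : Scheme.{u}} (j : Z ⟶ Y) [IsOpenImmersion j]
    {K L E₁ E₂ : CochainComplex Y.Modules ℤ} (g : K ⟶ L)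
    (ψ₁ : DerivedCategory.Q.obj K ≅ DerivedCategory.Q.obj E₁)
    (ψ₂ : DerivedCategory.Q.obj L ≅ DerivedCategory.Q.obj E₂)
    (β : (Rc j).obj E₁ ⟶ (Rc j).obj E₂)
    (hβ : (restrictFunctor j).mapDerivedCategory.map (ψ₁.inv ≫ DerivedCategory.Q.map g ≫ ψ₂.hom) =
      (restrictFunctor j).mapDerivedCategoryFactors.hom.app E₁ ≫ DerivedCategory.Q.map β ≫
        (restrictFunctor j).mapDerivedCategoryFactors.inv.app E₂) :
    DerivedCategory.Q.map ((Rc j).map g) ≫ (qRestrictIso j ψ₂).hom =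
      (qRestrictIso j ψ₁).hom ≫ DerivedCategory.Q.map β := by
  have e1 := (restrictFunctor j).mapDerivedCategoryFactors.inv.naturality g
  simp only [Functor.comp_map] at e1
  simp only [qRestrictIso, Iso.trans_hom, Iso.symm_hom, Iso.app_inv, Iso.app_hom,
    Functor.mapIso_hom]
  rw [reassoc_of% e1]
  simp only [Functor.map_comp] at hβ
  have h2 : (restrictFunctor j).mapDerivedCategory.map (DerivedCategory.Q.map g) ≫
      (restrictFunctor j).mapDerivedCategory.map ψ₂.hom =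
      (restrictFunctor j).mapDerivedCategory.map ψ₁.hom ≫
        (restrictFunctor j).mapDerivedCategoryFactors.hom.app E₁ ≫ DerivedCategory.Q.map β ≫
        (restrictFunctor j).mapDerivedCategoryFactors.inv.app E₂ := by
    rw [← hβ, ← Functor.map_comp_assoc, Iso.hom_inv_id, CategoryTheory.Functor.map_id,
      Category.id_comp]
  simp only [Category.assoc]
  rw [reassoc_of% h2]
  simp


open CochainComplex in
/-- the cone of a chain map between complexes locally isomorphic (in `D`) to strictly perfect complexes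
is locally isomorphic to a strictly perfect complex. -/
theorem LocSP.mappingCone {Y : Scheme.{u}} {K L : CochainComplex Y.Modules ℤ} (g : K ⟶ L) {y : Y}
    (hK : LocSP K y) (hL : LocSP L y) : LocSP (CochainComplex.mappingCone g) y := by
  obtain ⟨Z, j, hj, z, rfl, E₁, E₂, hE₁, hE₂, ⟨ψ₁⟩, ⟨ψ₂⟩⟩ := LocSP.common hK hL
  haveI := hj
  apply LocSP.of_restrict j
  refine LocSP.of_iso (DerivedCategory.Q.mapIso
    (CochainComplex.mappingCone.mapHomologicalComplexIso g (restrictFunctor j)).symm) ?_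
  -- now on `Z`
  obtain ⟨g', hg'⟩ : ∃ g' : (Rc j).obj K ⟶ (Rc j).obj L, g' = (Rc j).map g := ⟨_, rfl⟩
  rw [← hg']
  obtain ⟨W, hzW, β, hβ⟩ := exists_nhd_chain_map hE₁
    (ψ₁.inv ≫ DerivedCategory.Q.map g' ≫ ψ₂.hom) z
  have comm := qRestrictIso_comm W.ι g' ψ₁ ψ₂ β hβ
  have hT₁ : DerivedCategory.Q.mapTriangle.obj (mappingCone.triangle ((Rc W.ι).map g')) ∈
      distTriang _ := (DerivedCategory.mem_distTriang_iff _).mpr ⟨_, _, _, ⟨Iso.refl _⟩⟩
  have hT₂ : DerivedCategory.Q.mapTriangle.obj (mappingCone.triangle β) ∈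
      distTriang _ := (DerivedCategory.mem_distTriang_iff _).mpr ⟨_, _, _, ⟨Iso.refl _⟩⟩
  have e := Pretriangulated.isoTriangleOfIso₁₂ _ _ hT₁ hT₂ (qRestrictIso W.ι ψ₁)
    (qRestrictIso W.ι ψ₂) comm
  refine ⟨W, W.ι, inferInstance, ⟨⟨z, hzW⟩, rfl⟩, CochainComplex.mappingCone β,
    isStrictlyPerfect_mappingCone β (isStrictlyPerfect_restrict _ hE₁)
      (isStrictlyPerfect_restrict _ hE₂), ⟨?_⟩⟩
  exact DerivedCategory.Q.mapIso
    (CochainComplex.mappingCone.mapHomologicalComplexIso g' (restrictFunctor W.ι)) ≪≫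
    Pretriangulated.Triangle.π₃.mapIso e


theorem isStrictlyPerfect_shift {Y : Scheme.{u}} {E : CochainComplex Y.Modules ℤ}
    (hE : DCoh.IsStrictlyPerfect E) (n : ℤ) : DCoh.IsStrictlyPerfect (E⟦n⟧) := by
  obtain ⟨⟨a, b, h⟩, hf⟩ := hE
  refine ⟨⟨a - n, b - n, fun i hi => ?_⟩, fun i => hf (i + n)⟩
  exact h (i + n) (by omega)

theorem LocSP.shift {Y : Scheme.{u}} {F : CochainComplex Y.Modules ℤ} {y : Y} (h : LocSP F y)
    (n : ℤ) : LocSP (F⟦n⟧) y := by
  obtain ⟨Z, j, hj, hy, E, hE, ⟨ψ⟩⟩ := h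
  haveI := hj
  refine ⟨Z, j, hj, hy, E⟦n⟧, isStrictlyPerfect_shift hE n, ⟨?_⟩⟩
  exact DerivedCategory.Q.mapIso (((restrictFunctor j).mapCochainComplexShiftIso n).app F) ≪≫
    (DerivedCategory.Q.commShiftIso n).app _ ≪≫ (shiftFunctor _ n).mapIso ψ ≪≫
    ((DerivedCategory.Q.commShiftIso n).app E).symm

theorem isPerfect_shift {X : Scheme.{u}} {K : DCoh.D X} (hK : DCoh.IsPerfect K) (n : ℤ) :
    DCoh.IsPerfect (K⟦n⟧) := by
  let F₀ : CochainComplex X.Modules ℤ := DerivedCategory.Q.objPreimage K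
  let e₀ : DerivedCategory.Q.obj F₀ ≅ K := DerivedCategory.Q.objObjPreimageIso K
  rw [isPerfect_iff_locSP K F₀ e₀] at hK
  rw [isPerfect_iff_locSP (K⟦n⟧) (F₀⟦n⟧)
    ((DerivedCategory.Q.commShiftIso n).app F₀ ≪≫ (shiftFunctor _ n).mapIso e₀)]
  exact fun x => (hK x).shift n

theorem isPerfect_cone {X : Scheme.{u}} {K L : CochainComplex X.Modules ℤ} (φ : K ⟶ L)
    (hK : DCoh.IsPerfect (DerivedCategory.Q.obj K)) (hL : DCoh.IsPerfect (DerivedCategory.Q.obj L)) :
    DCoh.IsPerfect (DerivedCategory.Q.obj (CochainComplex.mappingCone φ)) := by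
  rw [isPerfect_iff_locSP _ _ (Iso.refl _)] at hK hL ⊢
  exact fun x => LocSP.mappingCone φ (hK x) (hL x)

open Pretriangulated in
theorem isPerfect_obj₃ {X : Scheme.{u}} (T : Triangle (DCoh.D X)) (hT : T ∈ distTriang _)
    (h₁ : DCoh.IsPerfect T.obj₁) (h₂ : DCoh.IsPerfect T.obj₂) : DCoh.IsPerfect T.obj₃ := by
  obtain ⟨K, L, φ, ⟨e⟩⟩ := (DerivedCategory.mem_distTriang_iff T).mp hT
  have e1 : T.obj₁ ≅ DerivedCategory.Q.obj K := Triangle.π₁.mapIso e
  have e2 : T.obj₂ ≅ DerivedCategory.Q.obj L := Triangle.π₂.mapIso e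
  have e3 : T.obj₃ ≅ DerivedCategory.Q.obj (CochainComplex.mappingCone φ) := Triangle.π₃.mapIso e
  exact isPerfect_of_iso e3.symm
    (isPerfect_cone φ (isPerfect_of_iso e1 h₁) (isPerfect_of_iso e2 h₂))

open Pretriangulated in
theorem isPerfect_two_out_of_three {X : Scheme.{u}} (T : Triangle (DCoh.D X))
    (hT : T ∈ distTriang _) :
    (DCoh.IsPerfect T.obj₁ → DCoh.IsPerfect T.obj₂ → DCoh.IsPerfect T.obj₃) ∧
    (DCoh.IsPerfect T.obj₁ → DCoh.IsPerfect T.obj₃ → DCoh.IsPerfect T.obj₂) ∧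
    (DCoh.IsPerfect T.obj₂ → DCoh.IsPerfect T.obj₃ → DCoh.IsPerfect T.obj₁) := by
  refine ⟨isPerfect_obj₃ T hT, fun h₁ h₃ => ?_, fun h₂ h₃ => ?_⟩
  · exact isPerfect_obj₃ T.invRotate (inv_rot_of_distTriang T hT) (isPerfect_shift h₃ (-1)) h₁
  · have h := isPerfect_obj₃ T.rotate (rot_of_distTriang T hT) h₂ h₃
    have h' := isPerfect_shift h (-1)
    exact isPerfect_of_iso ((shiftEquiv (DCoh.D X) (1 : ℤ)).unitIso.symm.app T.obj₁) h'

end Groth.Agent.Lead.PerfLib
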