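import Mathlib
import Groth.Prelude.Def_DCoh2
import Groth.Agent.Lead.PerfLib4
import Groth.Agent.Helper4.QcohEpi
import Groth.Agent.Helper4.FinLocFree4

/-!
# Cohomology sheaves of perfect complexes (S1006, S7240)
-/

set_option autoImplicit false
universe u
open CategoryTheory CategoryTheory.Limits AlgebraicGeometry

attribute [local instance] HasDerivedCategory.standard

namespace Groth.Agent.Lead.PerfLib
open Scheme.Modules Groth.Agent.Lead.LocLift Groth.Agent.Helper4.FinLocFree

/-- restriction commutes with homology of complexes. -/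
noncomputable def homologyRestrictIso {Y Z : Scheme.{u}} (j : Z ⟶ Y) [IsOpenImmersion j]
    (F : CochainComplex Y.Modules ℤ) (i : ℤ) :
    ((Rc j).obj F).homology i ≅ (F.homology i).restrict j :=
  ShortComplex.mapHomologyIso (F.sc i) (restrictFunctor j)

/-- the homology of a complex computes the cohomology objects of its image in `D`. -/
noncomputable def homologyIsoOfQIso {Y : Scheme.{u}} {F F' : CochainComplex Y.Modules ℤ}
    (e : DerivedCategory.Q.obj F ≅ DerivedCategory.Q.obj F') (i : ℤ) :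
    F.homology i ≅ F'.homology i :=
  ((DerivedCategory.homologyFunctorFactors Y.Modules i).app F).symm ≪≫
    (DerivedCategory.homologyFunctor Y.Modules i).mapIso e ≪≫
    (DerivedCategory.homologyFunctorFactors Y.Modules i).app F'

theorem LocSP.exists_homology_iso {X : Scheme.{u}} {F₀ : CochainComplex X.Modules ℤ} {x : X}
    (h : LocSP F₀ x) :
    ∃ (Z : Scheme.{u}) (j : Z ⟶ X) (_ : IsOpenImmersion j), x ∈ Set.range j ∧
      ∃ E : CochainComplex Z.Modules ℤ, DCoh.IsStrictlyPerfect E ∧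
        ∀ i : ℤ, Nonempty ((F₀.homology i).restrict j ≅ E.homology i) := by
  obtain ⟨Z, j, hj, hx, E, hE, ⟨ψ⟩⟩ := h
  haveI := hj
  exact ⟨Z, j, hj, hx, E, hE, fun i => ⟨(homologyRestrictIso j F₀ i).symm ≪≫ homologyIsoOfQIso ψ i⟩⟩

theorem isCoh_of_iso {X : Scheme.{u}} {M N : X.Modules} (e : M ≅ N) (hM : Coh.IsCoh M) :
    Coh.IsCoh N := by
  obtain ⟨hq, hf⟩ := hM
  haveI : M.IsQuasicoherent := hq
  haveI : SheafOfModules.IsFiniteType (R := X.ringCatSheaf) M := hf
  exact ⟨Groth.Agent.Helper4.QcohLimits.isQuasicoherent_of_iso e,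
    Groth.Agent.Helper4.FTRestrict.SoM.isFiniteType_of_iso (R := X.ringCatSheaf) (M := M) (N := N) e⟩

theorem isCoh_of_isFinLocFree {X : Scheme.{u}} {M : X.Modules} (hM : FlatMod.IsFinLocFree M) :
    Coh.IsCoh M := by
  haveI : M.IsQuasicoherent := Groth.Agent.Helper4.FinLocFree4.isQuasicoherent_of_isFinLocFree M hM
  exact ⟨inferInstance, Groth.Agent.Helper4.FinLocFree2.isFiniteType_of_isFinitePresentation _
    (Groth.Agent.Helper4.FinLocFree2.isFinitePresentation_of_isFinLocFree M hM)⟩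

theorem isCoh_kernel {X : Scheme.{u}} [IsLocallyNoetherian X] {F G : X.Modules}
    (hF : Coh.IsCoh F) (hG : Coh.IsCoh G) (φ : F ⟶ G) : Coh.IsCoh (kernel φ) := by
  obtain ⟨hFq, hFf⟩ := hF
  obtain ⟨hGq, hGf⟩ := hG
  haveI : F.IsQuasicoherent := hFq
  haveI : G.IsQuasicoherent := hGq
  haveI hk : (kernel φ).IsQuasicoherent := Groth.Agent.Helper4.QcohLimits.isQuasicoherent_kernel φ
  exact ⟨hk, Groth.Agent.Helper4.QcohEpi.isFiniteType_of_mono (kernel.ι φ) hFf⟩

theorem isCoh_cokernel {X : Scheme.{u}} {F G : X.Modules}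
    (hF : Coh.IsCoh F) (hG : Coh.IsCoh G) (φ : F ⟶ G) : Coh.IsCoh (cokernel φ) := by
  obtain ⟨hFq, hFf⟩ := hF
  obtain ⟨hGq, hGf⟩ := hG
  haveI : F.IsQuasicoherent := hFq
  haveI : G.IsQuasicoherent := hGq
  haveI hc : (cokernel φ).IsQuasicoherent :=
    Groth.Agent.Helper4.QcohLimits.isQuasicoherent_cokernel φ
  exact ⟨hc, Groth.Agent.Helper4.QcohEpi.isFiniteType_of_epi (cokernel.π φ) hGf⟩

theorem isCoh_homology {X : Scheme.{u}} [IsLocallyNoetherian X] (E : CochainComplex X.Modules ℤ)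
    (hE : ∀ i, Coh.IsCoh (E.X i)) (i : ℤ) : Coh.IsCoh (E.homology i) := by
  refine isCoh_of_iso (E.sc i).homologyIsoCokernelLift.symm ?_
  exact isCoh_cokernel (hE _) (isCoh_kernel (hE _) (hE _) _) _


/-- affine neighbourhoods inside the range of an open immersion, with the factorisation. -/
theorem exists_affine_lift {X Z : Scheme.{u}} (j : Z ⟶ X) [IsOpenImmersion j] (x : X)
    (hx : x ∈ Set.range j) :
    ∃ (U : X.Opens) (hU : IsAffineOpen U) (ℓ : Spec Γ(X, U) ⟶ Z) (_ : IsOpenImmersion ℓ),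
      x ∈ U ∧ ℓ ≫ j = hU.fromSpec := by
  obtain ⟨U, hU, hxU, hUV⟩ := Groth.Agent.Helper4.FinLocFree2.exists_affine_nhd_le x j.opensRange hx
  have hr : Set.range hU.fromSpec ⊆ Set.range j := by
    rw [hU.range_fromSpec]
    exact hUV
  have hℓ : IsOpenImmersion.lift j hU.fromSpec hr ≫ j = hU.fromSpec :=
    IsOpenImmersion.lift_fac _ _ _
  haveI : IsOpenImmersion (IsOpenImmersion.lift j hU.fromSpec hr ≫ j) := by
    rw [hℓ]
    infer_instance
  exact ⟨U, hU, IsOpenImmersion.lift j hU.fromSpec hr,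
    IsOpenImmersion.of_comp (IsOpenImmersion.lift j hU.fromSpec hr) j, hxU, hℓ⟩

theorem isQuasicoherent_of_locally {X : Scheme.{u}} (M : X.Modules)
    (h : ∀ x : X, ∃ (Z : Scheme.{u}) (j : Z ⟶ X) (_ : IsOpenImmersion j), x ∈ Set.range j ∧
      (M.restrict j).IsQuasicoherent) : M.IsQuasicoherent := by
  apply Groth.Agent.Helper4.QcohGlue.isQuasicoherent_of_affine_cover
  intro x
  obtain ⟨Z, j, hj, hx, hq⟩ := h x
  haveI := hj
  obtain ⟨U, hU, ℓ, hℓi, hxU, hℓ⟩ := exists_affine_lift j x hx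
  haveI := hℓi
  refine ⟨U, hU, hxU, ?_⟩
  have iso : (M.restrict j).restrict ℓ ≅ M.restrict hU.fromSpec :=
    (restrictFunctorComp ℓ j).symm.app M ≪≫ (restrictFunctorCongr hℓ).app M
  haveI : ((M.restrict j).restrict ℓ).IsQuasicoherent := inferInstance
  exact Groth.Agent.Helper4.QcohLimits.isQuasicoherent_of_iso iso

set_option backward.isDefEq.respectTransparency false in
theorem isFiniteType_of_locally {X : Scheme.{u}} (M : X.Modules) [M.IsQuasicoherent]
    (h : ∀ x : X, ∃ (Z : Scheme.{u}) (j : Z ⟶ X) (_ : IsOpenImmersion j), x ∈ Set.range j ∧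
      SheafOfModules.IsFiniteType (R := Z.ringCatSheaf) (M.restrict j)) :
    SheafOfModules.IsFiniteType (R := X.ringCatSheaf) M := by
  apply Groth.Agent.Helper4.FTGlue.isFiniteType_of_finite_sections
  intro x
  obtain ⟨Z, j, hj, hx, hft⟩ := h x
  haveI := hj
  obtain ⟨U, hU, ℓ, hℓi, hxU, hℓ⟩ := exists_affine_lift j x hx
  haveI := hℓi
  refine ⟨U, hU, hxU, ?_⟩
  have iso : (M.restrict j).restrict ℓ ≅ M.restrict hU.fromSpec :=
    (restrictFunctorComp ℓ j).symm.app M ≪≫ (restrictFunctorCongr hℓ).app M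
  let A : CommRingCat.{u} := Γ(X, U)
  let N : (Spec A).Modules := M.restrict hU.fromSpec
  haveI : N.IsQuasicoherent := inferInstance
  have hN' : SheafOfModules.IsFiniteType (R := (Spec A).ringCatSheaf) ((M.restrict j).restrict ℓ) :=
    Groth.Agent.Helper4.FTRestrict.isFT_restrict _ _ hft
  have hN : SheafOfModules.IsFiniteType (R := (Spec A).ringCatSheaf) N :=
    haveI := hN'
    Groth.Agent.Helper4.FTRestrict.SoM.isFiniteType_of_iso (R := (Spec A).ringCatSheaf)
      (M := (M.restrict j).restrict ℓ) (N := N) iso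
  haveI : IsIso N.fromTildeΓ := inferInstance
  let ΓN : ModuleCat.{u} A := moduleSpecΓFunctor.obj N
  let e : tilde ΓN ≅ N := asIso N.fromTildeΓ
  have hT : SheafOfModules.IsFiniteType (R := (Spec A).ringCatSheaf) (tilde ΓN) :=
    haveI := hN
    Groth.Agent.Helper4.FTRestrict.SoM.isFiniteType_of_iso (R := (Spec A).ringCatSheaf)
      (M := N) (N := tilde ΓN) e.symm
  haveI : Module.Finite A ΓN := Groth.Agent.Helper4.FTTilde.finite_of_isFT_tilde A ΓN hT
  exact Module.Finite.equiv (Groth.Agent.Helper4.SecDict.sectionsEquiv hU M).symm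

theorem isCoh_of_locally {X : Scheme.{u}} (M : X.Modules)
    (h : ∀ x : X, ∃ (Z : Scheme.{u}) (j : Z ⟶ X) (_ : IsOpenImmersion j), x ∈ Set.range j ∧
      Coh.IsCoh (M.restrict j)) : Coh.IsCoh M := by
  haveI : M.IsQuasicoherent := isQuasicoherent_of_locally M (fun x => by
    obtain ⟨Z, j, hj, hx, hc⟩ := h x
    exact ⟨Z, j, hj, hx, hc.1⟩)
  refine ⟨inferInstance, isFiniteType_of_locally M (fun x => ?_)⟩
  obtain ⟨Z, j, hj, hx, hc⟩ := h x
  exact ⟨Z, j, hj, hx, hc.2⟩


set_option backward.isDefEq.respectTransparency false in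
theorem isZero_of_locally {X : Scheme.{u}} (M : X.Modules)
    (h : ∀ x : X, ∃ (Z : Scheme.{u}) (j : Z ⟶ X) (_ : IsOpenImmersion j), x ∈ Set.range j ∧
      IsZero (M.restrict j)) : IsZero M := by
  apply Groth.Agent.Helper4.AssDict.isZero_of_subsingleton_stalks
  intro x
  obtain ⟨Z, j, hj, ⟨z, rfl⟩, hz⟩ := h x
  haveI := hj
  have h1 := Groth.Agent.Helper4.FTLocal.subsingleton_stalk_of_isZero _ hz z
  let e := (restrictStalkNatIso j z).app M
  have h2 : Subsingleton ((forget Ab).obj ((restrictFunctor j ⋙ toPresheaf _ ⋙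
      TopCat.Presheaf.stalkFunctor Ab (X := Z.toTopCat) z).obj M)) := h1
  exact ((forget Ab).mapIso e).toEquiv.symm.subsingleton


theorem isZero_homology_of_isZero {C : Type*} [Category C] [Abelian C] (K : CochainComplex C ℤ)
    (i : ℤ) (h : IsZero (K.X i)) : IsZero (K.homology i) :=
  (ShortComplex.exact_iff_isZero_homology _).mp (ShortComplex.exact_of_isZero_X₂ (K.sc i) h)

/-- the cohomology object of `K ∈ D(O_X)` in terms of a representing complex. -/
noncomputable def hdIso {X : Scheme.{u}} {K : DCoh.D X} {F₀ : CochainComplex X.Modules ℤ}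
    (e₀ : DerivedCategory.Q.obj F₀ ≅ K) (i : ℤ) : DCoh.HD K i ≅ F₀.homology i :=
  (DerivedCategory.homologyFunctor X.Modules i).mapIso e₀.symm ≪≫
    (DerivedCategory.homologyFunctorFactors X.Modules i).app F₀

theorem isPerfect_bounded_coherent (X : Scheme.{u}) [IsNoetherian X] (E : DCoh.D X)
    (hE : DCoh.IsPerfect E) : DCoh.IsCohD E ∧ ∃ a b : ℤ, E.IsGE a ∧ E.IsLE b := by
  let F₀ : CochainComplex X.Modules ℤ := DerivedCategory.Q.objPreimage E
  let e₀ : DerivedCategory.Q.obj F₀ ≅ E := DerivedCategory.Q.objObjPreimageIso E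
  rw [isPerfect_iff_locSP E F₀ e₀] at hE
  choose Z j hj hx P hP hiso using fun x => (hE x).exists_homology_iso
  constructor
  · intro i
    refine isCoh_of_iso (hdIso e₀ i).symm ?_
    apply isCoh_of_locally
    intro x
    haveI := hj x
    haveI : IsLocallyNoetherian (Z x) := isLocallyNoetherian_of_isOpenImmersion (j x)
    exact ⟨Z x, j x, hj x, hx x, isCoh_of_iso (hiso x i).some.symm
      (isCoh_homology (P x) (fun k => isCoh_of_isFinLocFree ((hP x).2 k)) i)⟩
  · choose a b hab using fun x => (hP x).1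
    obtain ⟨t, ht⟩ := isCompact_univ.elim_finite_subcover
      (fun x => ((j x).opensRange : Set X)) (fun x => (j x).opensRange.isOpen)
      (fun y _ => Set.mem_iUnion.mpr ⟨y, hx y⟩)
    obtain ⟨B, hB⟩ := (t.image b).exists_le
    obtain ⟨A, hA⟩ := (t.image (fun x => - a x)).exists_le
    have hcov : ∀ y : X, ∃ x ∈ t, y ∈ Set.range (j x) := by
      intro y
      have := ht (Set.mem_univ y)
      simp only [Set.mem_iUnion] at this
      obtain ⟨x, hxt, hy⟩ := this
      exact ⟨x, hxt, hy⟩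
    have key : ∀ i : ℤ, i < -A ∨ B < i → IsZero (DCoh.HD E i) := by
      intro i hi
      refine IsZero.of_iso ?_ (hdIso e₀ i)
      apply isZero_of_locally
      intro y
      obtain ⟨x, hxt, hy⟩ := hcov y
      refine ⟨Z x, j x, hj x, hy, IsZero.of_iso ?_ (hiso x i).some⟩
      apply isZero_homology_of_isZero
      apply hab x i
      have h1 := hB (b x) (Finset.mem_image_of_mem _ hxt)
      have h2 := hA (- a x) (Finset.mem_image_of_mem (fun x => - a x) hxt)
      omega
    refine ⟨-A, B, ?_, ?_⟩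
    · rw [DerivedCategory.isGE_iff]
      exact fun i hi => key i (Or.inl hi)
    · rw [DerivedCategory.isLE_iff]
      exact fun i hi => key i (Or.inr hi)

end Groth.Agent.Lead.PerfLib
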