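import Mathlib
import Groth.Agent.Lead.FlatLib1
import Groth.Agent.Lead.PerfLib5
import Groth.Agent.Helper4.AssMono
import Groth.Agent.Helper4.QcohLocal
import Groth.Agent.Helper4.StalkExact
import Groth.Agent.Helper4.EpiStalk
import Groth.Agent.S0020

/-!
# Spreading out stalk properties of coherent modules to neighbourhoods (S9525)
-/

set_option autoImplicit false
universe u
open CategoryTheory CategoryTheory.Limits AlgebraicGeometry TopologicalSpace

namespace Groth.Agent.Lead.StalkNhd

open Groth.Agent.Helper4.StalkDict Groth.Agent.Helper4 Groth.Agent.Lead.FlatLib Scheme.Modules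

variable {X : Scheme.{u}}

theorem rsHom_stalkLin {F G : X.Modules} (φ : F ⟶ G) (U : X.Opens) (z : U)
    (t : (F.restrict U.ι).presheaf.stalk z) :
    rsHom U.ι G z (stalkLin ((Scheme.Modules.restrictFunctor U.ι).map φ) z t) =
      stalkLin φ (U.ι z) (rsHom U.ι F z t) := by
  obtain ⟨V, hzV, m, rfl⟩ := TopCat.Presheaf.exists_germ_eq _ t
  rw [StalkExact.stalkLin_germ, rsHom_germ, rsHom_germ, StalkExact.stalkLin_germ]
  rfl

theorem stalkLin_restrict_injective {F G : X.Modules} (φ : F ⟶ G) (U : X.Opens) (z : U)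
    (h : Function.Injective (stalkLin φ (U.ι z))) :
    Function.Injective (stalkLin ((Scheme.Modules.restrictFunctor U.ι).map φ) z) := by
  intro a b hab
  apply (rsHom_bijective U.ι F z).1
  apply h
  rw [← rsHom_stalkLin, ← rsHom_stalkLin, hab]

theorem stalkLin_restrict_surjective {F G : X.Modules} (φ : F ⟶ G) (U : X.Opens) (z : U)
    (h : Function.Surjective (stalkLin φ (U.ι z))) :
    Function.Surjective (stalkLin ((Scheme.Modules.restrictFunctor U.ι).map φ) z) := by
  intro b
  obtain ⟨a, ha⟩ := h (rsHom U.ι G z b)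
  obtain ⟨a', rfl⟩ := (rsHom_bijective U.ι F z).2 a
  refine ⟨a', ?_⟩
  apply (rsHom_bijective U.ι G z).1
  rw [rsHom_stalkLin, ha]

theorem isZero_restrict_of_subsingleton_stalks (F : X.Modules) (U : X.Opens)
    (h : ∀ x ∈ U, Subsingleton (F.presheaf.stalk x)) :
    IsZero ((Scheme.Modules.restrictFunctor U.ι).obj F) := by
  rw [IsZero.iff_id_eq_zero]
  apply QcohLocal.eq_zero_of_stalkLin_eq_zero
  intro z t
  haveI := h (U.ι z) z.2
  haveI : Subsingleton ((F.restrict U.ι).presheaf.stalk z) :=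
    (rsHom_bijective U.ι F z).1.subsingleton
  exact Subsingleton.elim _ _

/-- a finite type module with vanishing stalk at `x` vanishes near `x`. -/
theorem exists_nhd_subsingleton (F : X.Modules)
    (hF : SheafOfModules.IsFiniteType (R := X.ringCatSheaf) F) (x : X)
    (hx : Subsingleton (F.presheaf.stalk x)) :
    ∃ U : X.Opens, x ∈ U ∧ ∀ u ∈ U, Subsingleton (F.presheaf.stalk u) := by
  have hcl := Groth.Agent.S0020.result X F hF
  refine ⟨⟨(CohB1.support F)ᶜ, hcl.isOpen_compl⟩, fun h => h hx, ?_⟩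
  intro u hu
  by_contra hns
  exact hu hns

theorem stalkLin_comp {F G H : X.Modules} (φ : F ⟶ G) (ψ : G ⟶ H) (x : X)
    (t : F.presheaf.stalk x) :
    stalkLin (φ ≫ ψ) x t = stalkLin ψ x (stalkLin φ x t) := by
  obtain ⟨V, hxV, m, rfl⟩ := TopCat.Presheaf.exists_germ_eq _ t
  rw [StalkExact.stalkLin_germ, StalkExact.stalkLin_germ, StalkExact.stalkLin_germ]
  rfl

theorem stalkLin_zero {F G : X.Modules} (x : X) (t : F.presheaf.stalk x) :
    stalkLin (0 : F ⟶ G) x t = 0 := by
  obtain ⟨V, hxV, m, rfl⟩ := TopCat.Presheaf.exists_germ_eq _ t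
  rw [StalkExact.stalkLin_germ]
  exact map_zero _

/-- the kernel has trivial stalk where the stalk map is injective -/
theorem subsingleton_stalk_kernel {F G : X.Modules} (φ : G ⟶ F) (x : X)
    (h : Function.Injective (stalkLin φ x)) :
    Subsingleton ((kernel φ).presheaf.stalk x) := by
  refine ⟨fun a b => ?_⟩
  apply StalkExact.stalkLin_injective (kernel.ι φ) x
  apply h
  rw [← stalkLin_comp, ← stalkLin_comp, kernel.condition, stalkLin_zero, stalkLin_zero]

/-- the stalk map is injective where the kernel has trivial stalk -/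
theorem stalkLin_injective_of_subsingleton_kernel {F G : X.Modules} (φ : G ⟶ F) (x : X)
    (h : Subsingleton ((kernel φ).presheaf.stalk x)) :
    Function.Injective (stalkLin φ x) := by
  have hex : (ShortComplex.mk (kernel.ι φ) φ (kernel.condition φ)).Exact :=
    ShortComplex.exact_of_f_is_kernel _ (kernelIsKernel φ)
  haveI : Mono (ShortComplex.mk (kernel.ι φ) φ (kernel.condition φ)).f :=
    inferInstanceAs (Mono (kernel.ι φ))
  have h2 := StalkExact.stalkLin_exact _ hex x
  rw [injective_iff_map_eq_zero]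
  intro t ht
  obtain ⟨k, rfl⟩ := (h2 t).mp ht
  rw [Subsingleton.elim k 0, map_zero]

/-- the cokernel has trivial stalk where the stalk map is surjective -/
theorem subsingleton_stalk_cokernel {F G : X.Modules} (φ : G ⟶ F) (x : X)
    (h : Function.Surjective (stalkLin φ x)) :
    Subsingleton ((cokernel φ).presheaf.stalk x) := by
  refine ⟨fun a b => ?_⟩
  suffices h0 : ∀ c : (cokernel φ).presheaf.stalk x, c = 0 by rw [h0 a, h0 b]
  intro c
  obtain ⟨f, rfl⟩ := EpiStalk.stalkLin_surjective_of_epi (cokernel.π φ) x c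
  obtain ⟨g, rfl⟩ := h f
  rw [← stalkLin_comp, cokernel.condition, stalkLin_zero]

/-- **S9525** -/
theorem main [IsLocallyNoetherian X]
    (F G : X.Modules) (hF : Coh.IsCoh F) (hG : Coh.IsCoh G) (φ : G ⟶ F) (x : X) :
    (Subsingleton ↑(F.presheaf.stalk x) →
      ∃ U : X.Opens, x ∈ U ∧ IsZero ((Scheme.Modules.restrictFunctor U.ι).obj F)) ∧
    (Function.Injective (stalkLin φ x) →
      ∃ U : X.Opens, x ∈ U ∧ Mono ((Scheme.Modules.restrictFunctor U.ι).map φ)) ∧
    (Function.Bijective (stalkLin φ x) →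
      ∃ U : X.Opens, x ∈ U ∧ IsIso ((Scheme.Modules.restrictFunctor U.ι).map φ)) := by
  have hK := Groth.Agent.Lead.PerfLib.isCoh_kernel hG hF φ
  have hC := Groth.Agent.Lead.PerfLib.isCoh_cokernel hG hF φ
  have key_mono : Function.Injective (stalkLin φ x) →
      ∃ U : X.Opens, x ∈ U ∧ ∀ u ∈ U, Function.Injective (stalkLin φ u) := by
    intro h
    obtain ⟨U, hxU, hU⟩ := exists_nhd_subsingleton (kernel φ) hK.2 x
      (subsingleton_stalk_kernel φ x h)
    exact ⟨U, hxU, fun u hu => stalkLin_injective_of_subsingleton_kernel φ u (hU u hu)⟩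
  have key_epi : Function.Surjective (stalkLin φ x) →
      ∃ U : X.Opens, x ∈ U ∧ ∀ u ∈ U, Subsingleton ((cokernel φ).presheaf.stalk u) := by
    intro h
    exact exists_nhd_subsingleton (cokernel φ) hC.2 x (subsingleton_stalk_cokernel φ x h)
  refine ⟨?_, ?_, ?_⟩
  · intro h
    obtain ⟨U, hxU, hU⟩ := exists_nhd_subsingleton F hF.2 x h
    exact ⟨U, hxU, isZero_restrict_of_subsingleton_stalks F U hU⟩
  · intro h
    obtain ⟨U, hxU, hU⟩ := key_mono h
    refine ⟨U, hxU, AssMono.mono_of_stalkLin_injective _ fun z => ?_⟩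
    exact stalkLin_restrict_injective φ U z (hU _ z.2)
  · intro h
    obtain ⟨U, hxU, hU⟩ := key_mono h.1
    obtain ⟨V, hxV, hV⟩ := key_epi h.2
    refine ⟨U ⊓ V, ⟨hxU, hxV⟩, ?_⟩
    haveI : Mono ((Scheme.Modules.restrictFunctor (U ⊓ V).ι).map φ) :=
      AssMono.mono_of_stalkLin_injective _ fun z =>
        stalkLin_restrict_injective φ (U ⊓ V) z (hU _ z.2.1)
    haveI : Epi ((Scheme.Modules.restrictFunctor (U ⊓ V).ι).map φ) := by
      have hz : IsZero ((Scheme.Modules.restrictFunctor (U ⊓ V).ι).obj (cokernel φ)) :=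
        isZero_restrict_of_subsingleton_stalks _ _ (fun u hu => hV u hu.2)
      have e := PreservesCokernel.iso (Scheme.Modules.restrictFunctor (U ⊓ V).ι) φ
      exact Preadditive.epi_of_isZero_cokernel _ (hz.of_iso e.symm)
    exact isIso_of_mono_of_epi _

end Groth.Agent.Lead.StalkNhd
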