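import Mathlib
import Groth.Prelude.Def_FlatMod2
import Groth.Agent.Helper4.PullUnit
import Groth.Agent.Helper4.FinLocFree2
import Groth.Agent.Lead.ExtFree
import Groth.Agent.Lead.StalkNhd

set_option autoImplicit false
universe u
open CategoryTheory CategoryTheory.Limits AlgebraicGeometry TopologicalSpace Opposite

namespace Groth.Agent.Lead.PullFF
open Groth.Agent.Helper4

section Formal

universe v₁ v₂ u₁ u₂
variable {C : Type u₁} {D : Type u₂} [Category.{v₁} C] [Category.{v₂} D]

theorem homEquiv_map {L : C ⥤ D} {P : D ⥤ C} (adj : L ⊣ P) {N N' : C} (φ : N ⟶ N') :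
    adj.homEquiv N (L.obj N') (L.map φ) = φ ≫ adj.unit.app N' := by
  rw [Adjunction.homEquiv_unit]
  exact (adj.unit.naturality φ).symm

/-- If the unit at `N'` is an isomorphism, the left adjoint is bijective on `Hom(N, N')`. -/
theorem bijective_map_of_isIso_unit {L : C ⥤ D} {P : D ⥤ C} (adj : L ⊣ P)
    (N N' : C) [IsIso (adj.unit.app N')] : Function.Bijective (fun φ : N ⟶ N' => L.map φ) := by
  constructor
  · intro φ ψ h
    have h' : L.map φ = L.map ψ := h
    have := congrArg (adj.homEquiv N (L.obj N')) h'
    rw [homEquiv_map, homEquiv_map] at this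
    exact (cancel_mono _).mp this
  · intro g
    refine ⟨adj.homEquiv N (L.obj N') g ≫ inv (adj.unit.app N'), ?_⟩
    apply (adj.homEquiv N (L.obj N')).injective
    change adj.homEquiv N (L.obj N') (L.map _) = _
    rw [homEquiv_map, Category.assoc, IsIso.inv_hom_id, Category.comp_id]

/-- Natural transformations between additive functors: being an isomorphism at `A` passes to
finite coproducts of copies of `A`. -/
theorem isIso_app_coprod [Preadditive C] [Preadditive D] {G₁ G₂ : C ⥤ D} [G₁.Additive] [G₂.Additive]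
    (τ : G₁ ⟶ G₂) (A : C) (n : ℕ) [HasCoproduct (fun _ : Fin n => A)] [IsIso (τ.app A)] :
    IsIso (τ.app (∐ fun _ : Fin n => A)) := by
  classical
  set f : Fin n → C := fun _ => A with hf
  set P : C := ∐ f with hP
  let inj : ∀ i : Fin n, A ⟶ P := fun i => Sigma.ι f i
  let prj : ∀ i : Fin n, P ⟶ A := fun i => Sigma.desc (fun j => if j = i then 𝟙 A else 0)
  have hip : ∀ i j : Fin n, inj j ≫ prj i = if j = i then 𝟙 A else 0 := by
    intro i j
    exact Sigma.ι_desc _ _
  have hid : ∑ i : Fin n, prj i ≫ inj i = 𝟙 P := by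
    apply Sigma.hom_ext
    intro j
    change inj j ≫ _ = inj j ≫ _
    rw [Preadditive.comp_sum]
    simp_rw [← Category.assoc, hip]
    rw [Category.comp_id]
    rw [Finset.sum_eq_single j]
    · simp
    · intro b _ hb
      rw [if_neg (Ne.symm hb)]
      simp
    · intro hj
      exact absurd (Finset.mem_univ j) hj
  refine ⟨∑ i : Fin n, G₂.map (prj i) ≫ inv (τ.app A) ≫ G₁.map (inj i), ?_, ?_⟩
  · rw [Preadditive.comp_sum]
    have : ∀ i : Fin n, τ.app P ≫ G₂.map (prj i) ≫ inv (τ.app A) ≫ G₁.map (inj i) =
        G₁.map (prj i ≫ inj i) := by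
      intro i
      rw [← Category.assoc, ← τ.naturality (prj i), Category.assoc, IsIso.hom_inv_id_assoc,
        Functor.map_comp]
    simp_rw [this]
    rw [← Functor.map_sum, hid, CategoryTheory.Functor.map_id]
  · rw [Preadditive.sum_comp]
    have : ∀ i : Fin n, (G₂.map (prj i) ≫ inv (τ.app A) ≫ G₁.map (inj i)) ≫ τ.app P =
        G₂.map (prj i ≫ inj i) := by
      intro i
      rw [Category.assoc, Category.assoc, τ.naturality (inj i), IsIso.inv_hom_id_assoc,
        Functor.map_comp]
    simp_rw [this]
    rw [← Functor.map_sum, hid, CategoryTheory.Functor.map_id]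

theorem isIso_of_comp {A B E : C} (a : A ⟶ B) (b : B ⟶ E) (h : IsIso (a ≫ b)) (hb : IsIso b) :
    IsIso a := by
  have : a = (a ≫ b) ≫ inv b := by simp
  rw [this]
  infer_instance

theorem isIso_app_of_iso {G₁ G₂ : C ⥤ D} (τ : G₁ ⟶ G₂) {A B : C} (e : A ≅ B) [IsIso (τ.app A)] :
    IsIso (τ.app B) := by
  have : τ.app B = G₁.map e.inv ≫ τ.app A ≫ G₂.map e.hom := by
    rw [← τ.naturality e.hom, ← Category.assoc, ← Functor.map_comp, e.inv_hom_id,
      CategoryTheory.Functor.map_id, Category.id_comp]
  rw [this]
  infer_instance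

end Formal


section Unit

variable {X S : Scheme.{u}} (f : X ⟶ S)

/-- the canonical map `O_S ⟶ f_* O_X` as a morphism of modules -/
noncomputable def toPush : Coh.structureModule S ⟶ (Scheme.Modules.pushforward f).obj (Coh.structureModule X) :=
  SheafOfModules.unitToPushforwardObjUnit f.toRingCatSheafHom

theorem toPush_app_apply (U : S.Opens) (a : Γ(S, U)) :
    (Scheme.Modules.Hom.app (toPush f) U) a = f.app U a := rfl

theorem isIso_toPush (hf : ∀ U : S.Opens, Function.Bijective (f.app U)) : IsIso (toPush f) := by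
  rw [Scheme.Modules.Hom.isIso_iff_isIso_app]
  intro U
  rw [ConcreteCategory.isIso_iff_bijective]
  exact hf U

set_option backward.isDefEq.respectTransparency.types false in
theorem unit_comp_eq :
    (Scheme.Modules.pullbackPushforwardAdjunction f).unit.app (Coh.structureModule S) ≫
      (Scheme.Modules.pushforward f).map (PullUnit.pullbackUnitIso f).hom = toPush f := by
  have h := SheafOfModules.pullbackPushforwardAdjunction_homEquiv_pullbackObjUnitToUnit
    f.toRingCatSheafHom
  rw [Adjunction.homEquiv_unit] at h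
  exact h

theorem isIso_unit_structure (hf : ∀ U : S.Opens, Function.Bijective (f.app U)) :
    IsIso ((Scheme.Modules.pullbackPushforwardAdjunction f).unit.app (Coh.structureModule S)) := by
  haveI := isIso_toPush f hf
  have h := unit_comp_eq f
  have h2 : (Scheme.Modules.pullbackPushforwardAdjunction f).unit.app (Coh.structureModule S) =
      toPush f ≫ (Scheme.Modules.pushforward f).map (PullUnit.pullbackUnitIso f).inv := by
    rw [← h, Category.assoc, ← Functor.map_comp, Iso.hom_inv_id, CategoryTheory.Functor.map_id]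
    exact (Category.comp_id _).symm
  rw [h2]
  infer_instance

theorem isIso_unit_freeMod (hf : ∀ U : S.Opens, Function.Bijective (f.app U)) (n : ℕ) :
    IsIso ((Scheme.Modules.pullbackPushforwardAdjunction f).unit.app (FlatMod.freeMod S n)) := by
  haveI := isIso_unit_structure f hf
  exact isIso_app_coprod (Scheme.Modules.pullbackPushforwardAdjunction f).unit
    (Coh.structureModule S) n

end Unit


section Locality

open Groth.Agent.Helper4.StalkDict Groth.Agent.Lead.FlatLib Groth.Agent.Lead.StalkNhd

variable {S : Scheme.{u}}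

theorem stalkLin_id (F : S.Modules) (x : S) (t : F.presheaf.stalk x) :
    stalkLin (𝟙 F) x t = t := by
  obtain ⟨V, hxV, m, rfl⟩ := TopCat.Presheaf.exists_germ_eq _ t
  rw [StalkExact.stalkLin_germ]
  rfl

theorem stalkLin_bijective_of_isIso {F G : S.Modules} (φ : F ⟶ G) [IsIso φ] (x : S) :
    Function.Bijective (stalkLin φ x) := by
  refine Function.bijective_iff_has_inverse.mpr ⟨stalkLin (inv φ) x, ?_, ?_⟩
  · intro t
    rw [← stalkLin_comp, IsIso.hom_inv_id, stalkLin_id]
  · intro t
    rw [← stalkLin_comp, IsIso.inv_hom_id, stalkLin_id]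

theorem isIso_of_locally {F G : S.Modules} (φ : F ⟶ G)
    (h : ∀ x : S, ∃ V : S.Opens, x ∈ V ∧ IsIso ((Scheme.Modules.restrictFunctor V.ι).map φ)) :
    IsIso φ := by
  apply QcohLocal.isIso_of_stalkLin_bijective
  intro x
  obtain ⟨V, hxV, hV⟩ := h x
  have hb := stalkLin_bijective_of_isIso ((Scheme.Modules.restrictFunctor V.ι).map φ) ⟨x, hxV⟩
  have key : Function.Bijective (stalkLin φ (V.ι ⟨x, hxV⟩)) := by
    constructor
    · intro a b hab
      obtain ⟨a', rfl⟩ := (rsHom_bijective V.ι F ⟨x, hxV⟩).2 a
      obtain ⟨b', rfl⟩ := (rsHom_bijective V.ι F ⟨x, hxV⟩).2 b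
      rw [← rsHom_stalkLin, ← rsHom_stalkLin] at hab
      have := hb.1 ((rsHom_bijective V.ι G ⟨x, hxV⟩).1 hab)
      rw [this]
    · intro c
      obtain ⟨c', rfl⟩ := (rsHom_bijective V.ι G ⟨x, hxV⟩).2 c
      obtain ⟨a', rfl⟩ := hb.2 c'
      exact ⟨_, (rsHom_stalkLin φ V ⟨x, hxV⟩ a').symm⟩
  exact key

end Locality


section Local

variable {X S : Scheme.{u}} (f : X ⟶ S) (V : S.Opens)

/-- `f^*` followed by restriction to `f⁻¹V` is left adjoint to `f_* ∘ j'_*`. -/
noncomputable def adj1 : Scheme.Modules.pullback f ⋙ Scheme.Modules.restrictFunctor (f ⁻¹ᵁ V).ι ⊣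
    Scheme.Modules.pushforward (f ⁻¹ᵁ V).ι ⋙ Scheme.Modules.pushforward f :=
  (Scheme.Modules.pullbackPushforwardAdjunction f).comp
    (Scheme.Modules.restrictAdjunction (f ⁻¹ᵁ V).ι)

noncomputable def θ : Scheme.Modules.pushforward (f ∣_ V) ⋙ Scheme.Modules.pushforward V.ι ≅
    Scheme.Modules.pushforward (f ⁻¹ᵁ V).ι ⋙ Scheme.Modules.pushforward f :=
  Scheme.Modules.pushforwardComp _ _ ≪≫
    Scheme.Modules.pushforwardCongr (morphismRestrict_ι f V) ≪≫
    (Scheme.Modules.pushforwardComp _ _).symm

noncomputable def adj2 : Scheme.Modules.restrictFunctor V.ι ⋙ Scheme.Modules.pullback (f ∣_ V) ⊣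
    Scheme.Modules.pushforward (f ⁻¹ᵁ V).ι ⋙ Scheme.Modules.pushforward f :=
  ((Scheme.Modules.restrictAdjunction V.ι).comp
    (Scheme.Modules.pullbackPushforwardAdjunction (f ∣_ V))).ofNatIsoRight (θ f V)

theorem adj1_unit_app (N : S.Modules) :
    (adj1 f V).unit.app N = (Scheme.Modules.pullbackPushforwardAdjunction f).unit.app N ≫
      (Scheme.Modules.pushforward f).map
        ((Scheme.Modules.restrictAdjunction (f ⁻¹ᵁ V).ι).unit.app
          ((Scheme.Modules.pullback f).obj N)) := by
  simp [adj1]

theorem adj2_unit_app (N : S.Modules) :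
    (adj2 f V).unit.app N = ((Scheme.Modules.restrictAdjunction V.ι).unit.app N ≫
      (Scheme.Modules.pushforward V.ι).map
        ((Scheme.Modules.pullbackPushforwardAdjunction (f ∣_ V)).unit.app
          ((Scheme.Modules.restrictFunctor V.ι).obj N))) ≫ (θ f V).hom.app _ := by
  rw [← Adjunction.homEquiv_id, adj2, Adjunction.homEquiv_ofNatIsoRight_apply,
    Adjunction.homEquiv_id]
  simp


theorem isIso_map_of_eq {Y : Scheme.{u}} (M : Y.Modules) {U₁ U₂ : Y.Opens} (h : U₂ ≤ U₁)
    (e : U₂ = U₁) : IsIso (M.presheaf.map (homOfLE h).op) := by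
  subst e
  have : (homOfLE h).op = 𝟙 (op U₂) := Subsingleton.elim _ _
  rw [this, CategoryTheory.Functor.map_id]
  infer_instance

/-- restriction of the unit of `restrictAdjunction` is an isomorphism (triangle identity) -/
theorem isIso_restrict_unit_restrict (N : S.Modules) :
    IsIso ((Scheme.Modules.restrictFunctor V.ι).map
      ((Scheme.Modules.restrictAdjunction V.ι).unit.app N)) := by
  have h := (Scheme.Modules.restrictAdjunction V.ι).left_triangle_components N
  haveI : IsIso ((Scheme.Modules.restrictFunctor V.ι).map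
      ((Scheme.Modules.restrictAdjunction V.ι).unit.app N) ≫
      (Scheme.Modules.restrictAdjunction V.ι).counit.app
        ((Scheme.Modules.restrictFunctor V.ι).obj N)) := by rw [h]; infer_instance
  exact IsIso.of_isIso_comp_right _
    ((Scheme.Modules.restrictAdjunction V.ι).counit.app ((Scheme.Modules.restrictFunctor V.ι).obj N))

theorem isIso_restrict_push_unit (M : X.Modules) :
    IsIso ((Scheme.Modules.restrictFunctor V.ι).map ((Scheme.Modules.pushforward f).map
      ((Scheme.Modules.restrictAdjunction (f ⁻¹ᵁ V).ι).unit.app M))) := by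
  rw [Scheme.Modules.Hom.isIso_iff_isIso_app]
  intro W
  change IsIso (Scheme.Modules.Hom.app ((Scheme.Modules.restrictAdjunction (f ⁻¹ᵁ V).ι).unit.app M)
    (f ⁻¹ᵁ (V.ι ''ᵁ W)))
  rw [Scheme.Modules.restrictAdjunction_unit_app_app]
  apply isIso_map_of_eq
  rw [Scheme.Hom.image_preimage_eq_opensRange_inf, Scheme.Opens.opensRange_ι]
  apply inf_eq_right.mpr
  intro x hx
  obtain ⟨w, hw, hwx⟩ := hx
  change f.base x ∈ V
  rw [← hwx]
  exact w.2


/-- Key local statement: if the unit for `f ∣_ V` at `N|_V` is an isomorphism, then the unit for `f`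
at `N` restricts to an isomorphism over `V`. -/
theorem isIso_restrict_unit (N : S.Modules)
    (hN : IsIso ((Scheme.Modules.pullbackPushforwardAdjunction (f ∣_ V)).unit.app
      ((Scheme.Modules.restrictFunctor V.ι).obj N))) :
    IsIso ((Scheme.Modules.restrictFunctor V.ι).map
      ((Scheme.Modules.pullbackPushforwardAdjunction f).unit.app N)) := by
  have key := Adjunction.unit_leftAdjointUniq_hom_app (adj1 f V) (adj2 f V) N
  rw [adj1_unit_app, adj2_unit_app] at key
  have key' := congrArg (fun ψ => (Scheme.Modules.restrictFunctor V.ι).map ψ) key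
  simp only [Functor.map_comp, Category.assoc] at key'
  haveI := isIso_restrict_unit_restrict V N
  haveI := isIso_restrict_push_unit f V ((Scheme.Modules.pullback f).obj N)
  haveI hR : IsIso ((Scheme.Modules.restrictFunctor V.ι).map
      ((Scheme.Modules.restrictAdjunction V.ι).unit.app N) ≫
    (Scheme.Modules.restrictFunctor V.ι).map ((Scheme.Modules.pushforward V.ι).map
        ((Scheme.Modules.pullbackPushforwardAdjunction (f ∣_ V)).unit.app
          ((Scheme.Modules.restrictFunctor V.ι).obj N))) ≫
    (Scheme.Modules.restrictFunctor V.ι).map ((θ f V).hom.app _)) := inferInstance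
  rw [← key'] at hR
  exact isIso_of_comp _ _ hR inferInstance

end Local


section Main

variable {X S : Scheme.{u}} (f : X ⟶ S)

theorem bijective_app_morphismRestrict (hf : ∀ U : S.Opens, Function.Bijective (f.app U))
    (V : S.Opens) (W : (V : Scheme.{u}).Opens) : Function.Bijective ((f ∣_ V).app W) := by
  rw [morphismRestrict_app]
  have h2 : Function.Bijective (X.presheaf.map
      (eqToHom (image_morphismRestrict_preimage f V W)).op) :=
    (ConcreteCategory.isIso_iff_bijective _).mp inferInstance
  exact h2.comp (hf _)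

theorem isIso_unit_of_isFinLocFree (hf : ∀ U : S.Opens, Function.Bijective (f.app U))
    (N : S.Modules) (hN : FlatMod.IsFinLocFree N) :
    IsIso ((Scheme.Modules.pullbackPushforwardAdjunction f).unit.app N) := by
  apply isIso_of_locally
  intro x
  obtain ⟨V, n, hxV, ⟨e⟩⟩ := hN x
  refine ⟨V, hxV, isIso_restrict_unit f V N ?_⟩
  haveI := isIso_unit_freeMod (f ∣_ V) (bijective_app_morphismRestrict f hf V) n
  exact isIso_app_of_iso (Scheme.Modules.pullbackPushforwardAdjunction (f ∣_ V)).unit e.symm

/-- S3222 -/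
theorem main_ff (hf : ∀ U : S.Opens, Function.Bijective (f.app U))
    (N N' : S.Modules) (hN' : FlatMod.IsFinLocFree N') :
    Function.Bijective (fun φ : N ⟶ N' => (Scheme.Modules.pullback f).map φ) := by
  haveI := isIso_unit_of_isFinLocFree f hf N' hN'
  exact bijective_map_of_isIso_unit (Scheme.Modules.pullbackPushforwardAdjunction f) N N'

/-- S7816 -/
theorem main_iff (hf : ∀ U : S.Opens, Function.Bijective (f.app U))
    (E : X.Modules) :
    (∃ M : S.Modules, FlatMod.IsFinLocFree M ∧ Nonempty (E ≅ (Scheme.Modules.pullback f).obj M)) ↔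
      (FlatMod.IsFinLocFree ((Scheme.Modules.pushforward f).obj E) ∧
        IsIso ((Scheme.Modules.pullbackPushforwardAdjunction f).counit.app E)) := by
  constructor
  · rintro ⟨M, hM, ⟨e⟩⟩
    haveI := isIso_unit_of_isFinLocFree f hf M hM
    constructor
    · exact FinLocFree2.isFinLocFree_of_iso
        (asIso ((Scheme.Modules.pullbackPushforwardAdjunction f).unit.app M) ≪≫
          (Scheme.Modules.pushforward f).mapIso e.symm) hM
    · have htri := (Scheme.Modules.pullbackPushforwardAdjunction f).left_triangle_components M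
      haveI h1 : IsIso ((Scheme.Modules.pullbackPushforwardAdjunction f).counit.app
          ((Scheme.Modules.pullback f).obj M)) := by
        have : (Scheme.Modules.pullbackPushforwardAdjunction f).counit.app
            ((Scheme.Modules.pullback f).obj M) =
            inv ((Scheme.Modules.pullback f).map
              ((Scheme.Modules.pullbackPushforwardAdjunction f).unit.app M)) := by
          rw [← cancel_epi ((Scheme.Modules.pullback f).map
              ((Scheme.Modules.pullbackPushforwardAdjunction f).unit.app M)), htri,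
            IsIso.hom_inv_id]
          rfl
        rw [this]
        infer_instance
      exact isIso_app_of_iso (Scheme.Modules.pullbackPushforwardAdjunction f).counit e.symm
  · rintro ⟨hP, hI⟩
    exact ⟨_, hP, ⟨(asIso ((Scheme.Modules.pullbackPushforwardAdjunction f).counit.app E)).symm⟩⟩

end Main

end Groth.Agent.Lead.PullFF
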