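import Mathlib
import Groth.Agent.Lead.PullFF
import Groth.Agent.Lead.ExtFree
import Groth.Agent.Helper4.Scalar
import Groth.Agent.Helper4.PullUnit
import Groth.Prelude.Def_ParaF

set_option autoImplicit false
universe u
open CategoryTheory CategoryTheory.Limits AlgebraicGeometry TopologicalSpace Opposite

namespace Groth.Agent.Lead.ParaFLib
open Groth.Agent.Helper4

section General
variable {Y : Scheme.{u}}

theorem isInvertible_of_iso {L L' : Y.Modules} (e : L ≅ L') (h : PicF.IsInvertible L) :
    PicF.IsInvertible L' := by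
  intro y
  obtain ⟨U, hy, ⟨i⟩⟩ := h y
  exact ⟨U, hy, ⟨(Scheme.Modules.restrictFunctor U.ι).mapIso e.symm ≪≫ i⟩⟩

theorem isFinLocFree_of_isInvertible (L : Y.Modules) (hL : PicF.IsInvertible L) :
    FlatMod.IsFinLocFree L := by
  intro x
  obtain ⟨U, hxU, ⟨e⟩⟩ := hL x
  exact ⟨U, 1, hxU, ⟨e ≪≫ (Limits.coproductUniqueIso
    (fun _ : Fin 1 => Coh.structureModule (↑U))).symm⟩⟩

theorem isInvertible_structureModule : PicF.IsInvertible (Coh.structureModule Y) := by
  intro y
  exact ⟨⊤, trivial, ⟨Scheme.Modules.restrictUnitIso (⊤ : Y.Opens).ι⟩⟩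

end General

section OpenImm

variable {U' V' : Scheme.{u}} (j : U' ⟶ V') [IsOpenImmersion j]

/-- the unit of the restriction adjunction is an iso on finite locally free modules when
`O(W) ≅ O(j⁻¹ W)` for all `W`. -/
theorem isIso_restrict_unit (hj : ∀ W : V'.Opens, Function.Bijective (j.app W))
    (N : V'.Modules) (hN : FlatMod.IsFinLocFree N) :
    IsIso ((Scheme.Modules.restrictAdjunction j).unit.app N) := by
  haveI := PullFF.isIso_unit_of_isFinLocFree j hj N hN
  have key := Adjunction.unit_leftAdjointUniq_hom_app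
    (Scheme.Modules.pullbackPushforwardAdjunction j) (Scheme.Modules.restrictAdjunction j) N
  rw [← key]
  infer_instance

theorem bijective_restrict_map (hj : ∀ W : V'.Opens, Function.Bijective (j.app W))
    (L L' : V'.Modules) (hL' : FlatMod.IsFinLocFree L') :
    Function.Bijective (fun φ : L ⟶ L' => (Scheme.Modules.restrictFunctor j).map φ) := by
  haveI := isIso_restrict_unit j hj L' hL'
  exact PullFF.bijective_map_of_isIso_unit (Scheme.Modules.restrictAdjunction j) L L'

/-- full faithfulness on `End(O)` gives bijectivity of global sections -/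
theorem bijective_appTop_of_bijective_map
    (h : Function.Bijective (fun φ : Coh.structureModule V' ⟶ Coh.structureModule V' =>
      (Scheme.Modules.restrictFunctor j).map φ)) :
    Function.Bijective j.appTop := by
  -- transfer to the pullback functor
  let θ := Scheme.Modules.restrictFunctorIsoPullback j
  have hp : Function.Bijective (fun φ : Coh.structureModule V' ⟶ Coh.structureModule V' =>
      (Scheme.Modules.pullback j).map φ) := by
    have heq : (fun φ : Coh.structureModule V' ⟶ Coh.structureModule V' =>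
        (Scheme.Modules.pullback j).map φ) =
        (fun ψ => θ.inv.app _ ≫ ψ ≫ θ.hom.app _) ∘
          (fun φ : Coh.structureModule V' ⟶ Coh.structureModule V' =>
            (Scheme.Modules.restrictFunctor j).map φ) := by
      funext φ
      simp only [Function.comp_apply]
      rw [θ.hom.naturality φ, ← Category.assoc, Iso.inv_hom_id_app, Category.id_comp]
    rw [heq]
    refine Function.Bijective.comp ?_ h
    refine Function.bijective_iff_has_inverse.mpr ⟨fun ψ => θ.hom.app _ ≫ ψ ≫ θ.inv.app _, ?_, ?_⟩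
    · intro ψ
      simp
    · intro ψ
      simp
  let η := PullUnit.pullbackUnitIso j
  have hinjsc : ∀ c d : Γ(U', ⊤),
      Scalar.scalar c ((Scheme.Modules.pullback j).obj (Coh.structureModule V')) =
        Scalar.scalar d ((Scheme.Modules.pullback j).obj (Coh.structureModule V')) → c = d := by
    intro c d hcd
    have h1 := PullUnit.conj_scalar c η.symm
    have h2 := PullUnit.conj_scalar d η.symm
    rw [hcd, h2] at h1
    have := congrArg GenLoc.fn h1
    rw [Scalar.fn_scalar, Scalar.fn_scalar] at this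
    exact this.symm
  constructor
  · intro a b hab
    have h1 : (Scheme.Modules.pullback j).map (Scalar.scalar a (Coh.structureModule V')) =
        (Scheme.Modules.pullback j).map (Scalar.scalar b (Coh.structureModule V')) := by
      rw [Scalar.pullback_scalar, Scalar.pullback_scalar, hab]
    have h2 := hp.1 h1
    have := congrArg GenLoc.fn h2
    rw [Scalar.fn_scalar, Scalar.fn_scalar] at this
    exact this
  · intro c
    obtain ⟨φ, hφ⟩ := hp.2 (Scalar.scalar c ((Scheme.Modules.pullback j).obj (Coh.structureModule V')))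
    refine ⟨GenLoc.fn φ, ?_⟩
    apply hinjsc
    rw [← Scalar.pullback_scalar, ← Scalar.eq_scalar]
    exact hφ

end OpenImm

section Main

variable {X : Scheme.{u}}

theorem star_of_bij (U : X.Opens)
    (h : ∀ V : X.Opens, Function.Bijective (X.presheaf.map (homOfLE (inf_le_left : V ⊓ U ≤ V)).op))
    (V : X.Opens) (W : (V : Scheme.{u}).Opens) :
    Function.Bijective ((X.homOfLE (inf_le_left : V ⊓ U ≤ V)).app W) := by
  rw [Scheme.homOfLE_app]
  have e2 : (V ⊓ U).ι ''ᵁ (X.homOfLE (inf_le_left : V ⊓ U ≤ V) ⁻¹ᵁ W) = V.ι ''ᵁ W ⊓ U := by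
    rw [Scheme.ι_image_homOfLE_eq_ι_image_inf, ← inf_assoc, inf_eq_left.mpr (V.ι_image_le W)]
  exact (ExtFree.bij_congrO rfl e2 _ inf_le_left).mpr (h (V.ι ''ᵁ W))

theorem bij_of_appTop (U V : X.Opens)
    (h : Function.Bijective (X.homOfLE (inf_le_left : V ⊓ U ≤ V)).appTop) :
    Function.Bijective (X.presheaf.map (homOfLE (inf_le_left : V ⊓ U ≤ V)).op) := by
  rw [Scheme.homOfLE_appTop] at h
  have e1 : V.ι ''ᵁ ⊤ = V := V.ι_image_top
  have e2 : (V ⊓ U).ι ''ᵁ (X.homOfLE (inf_le_left : V ⊓ U ≤ V) ⁻¹ᵁ ⊤) = V ⊓ U := by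
    rw [Scheme.Hom.preimage_top, Scheme.Opens.ι_image_top]
  exact (ExtFree.bij_congrO e1 e2 _ inf_le_left).mp h

/-- S2826 -/
theorem main (X : Scheme.{u}) (Y : Closeds ↥X) :
    ParaF.IsParafactorialPair X Y ↔
      ((∀ V : X.Opens, Function.Bijective (X.presheaf.map (homOfLE (inf_le_left : V ⊓ Y.compl ≤ V)).op)) ∧
        ∀ (V : X.Opens) (L : ((V ⊓ Y.compl : X.Opens) : Scheme.{u}).Modules), PicF.IsInvertible L →
          PicF.IsInvertible ((Scheme.Modules.pushforward (X.homOfLE (inf_le_left : V ⊓ Y.compl ≤ V))).obj L)) := by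
  constructor
  · intro hP
    have h1 : ∀ V : X.Opens, Function.Bijective
        (X.presheaf.map (homOfLE (inf_le_left : V ⊓ Y.compl ≤ V)).op) := by
      intro V
      apply bij_of_appTop
      exact bijective_appTop_of_bijective_map _
        ((hP V).1 _ _ isInvertible_structureModule isInvertible_structureModule)
    refine ⟨h1, ?_⟩
    intro V L hL
    obtain ⟨L1, hL1, ⟨e⟩⟩ := (hP V).2 L hL
    haveI := isIso_restrict_unit (X.homOfLE (inf_le_left : V ⊓ Y.compl ≤ V))
      (star_of_bij Y.compl h1 V) L1 (isFinLocFree_of_isInvertible L1 hL1)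
    exact isInvertible_of_iso
      (asIso ((Scheme.Modules.restrictAdjunction
        (X.homOfLE (inf_le_left : V ⊓ Y.compl ≤ V))).unit.app L1) ≪≫
        (Scheme.Modules.pushforward (X.homOfLE (inf_le_left : V ⊓ Y.compl ≤ V))).mapIso e) hL1
  · rintro ⟨h1, h2⟩ V
    constructor
    · intro L L' hL hL'
      exact bijective_restrict_map _ (star_of_bij Y.compl h1 V) L L'
        (isFinLocFree_of_isInvertible L' hL')
    · intro L₀ hL₀
      refine ⟨_, h2 V L₀ hL₀, ⟨?_⟩⟩
      exact asIso ((Scheme.Modules.restrictAdjunction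
        (X.homOfLE (inf_le_left : V ⊓ Y.compl ≤ V))).counit.app L₀)

end Main

end Groth.Agent.Lead.ParaFLib
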