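import Mathlib
import Groth.Agent.Helper4.StalkDict

/-!
# Stalks of the pushforward of a module along an (inducing) morphism, e.g. a closed immersion
-/

universe u

open CategoryTheory Limits AlgebraicGeometry TopologicalSpace Opposite

namespace Groth.Agent.Lead.PushStalk

open Groth.Agent.Helper4.StalkDict

variable {C S : Scheme.{u}} (j : C ⟶ S) (M : C.Modules)

/-- comparison `(j_* M)_{j c} → M_c` as an additive map -/
noncomputable def psHom (c : C) :
    ((Scheme.Modules.pushforward j).obj M).presheaf.stalk (j c) →+ M.presheaf.stalk c :=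
  (TopCat.Presheaf.stalkPushforward Ab j.base M.presheaf c).hom

theorem psHom_germ (c : C) (U : S.Opens) (hc : j c ∈ U)
    (m : Γ((Scheme.Modules.pushforward j).obj M, U)) :
    psHom j M c (((Scheme.Modules.pushforward j).obj M).presheaf.germ U (j c) hc m) =
      M.presheaf.germ (j ⁻¹ᵁ U) c hc m := by
  have := TopCat.Presheaf.stalkPushforward_germ Ab j.base M.presheaf U c hc
  exact congrArg (fun f => f.hom m) this

theorem psHom_bijective (hj : Topology.IsInducing j.base) (c : C) :
    Function.Bijective (psHom j M c) := by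
  have : IsIso (TopCat.Presheaf.stalkPushforward Ab j.base M.presheaf c) :=
    TopCat.Presheaf.stalkPushforward.stalkPushforward_iso_of_isInducing Ab hj M.presheaf c
  exact (ConcreteCategory.isIso_iff_bijective _).mp this

theorem push_smul (U : S.Opens) (a : Γ(S, U)) (m : Γ((Scheme.Modules.pushforward j).obj M, U)) :
    (a • m : Γ((Scheme.Modules.pushforward j).obj M, U)) =
      ((j.app U a : Γ(C, j ⁻¹ᵁ U)) • (show Γ(M, j ⁻¹ᵁ U) from m) : Γ(M, j ⁻¹ᵁ U)) := rfl

theorem psHom_smul (c : C) (r : S.presheaf.stalk (j c))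
    (n : ((Scheme.Modules.pushforward j).obj M).presheaf.stalk (j c)) :
    psHom j M c (r • n) = (j.stalkMap c).hom r • psHom j M c n := by
  obtain ⟨U, hU, a, m, rfl, rfl⟩ := exists_common ((Scheme.Modules.pushforward j).obj M) (j c) r n
  rw [← germ_smul, psHom_germ, psHom_germ, push_smul, germ_smul M]
  congr 1
  exact (Scheme.Hom.germ_stalkMap_apply j U c hU a).symm

/-- sections over an empty open vanish -/
theorem eq_zero_of_eq_bot {V : C.Opens} (hV : V = ⊥) (m : Γ(M, V)) : m = 0 := by
  have hT : IsTerminal (M.presheaf.obj (op V)) :=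
    TopCat.Sheaf.isTerminalOfEqEmpty ⟨M.presheaf, M.isSheaf⟩ hV
  have h := hT.hom_ext (𝟙 (M.presheaf.obj (op V))) 0
  have := congrArg (fun f => f.hom m) h
  simpa using this

/-- the stalks of the pushforward vanish off the (closed) range -/
theorem subsingleton_stalk_of_notMem_range (hcl : IsClosed (Set.range j.base)) (s : S)
    (hs : s ∉ Set.range j.base) :
    Subsingleton (((Scheme.Modules.pushforward j).obj M).presheaf.stalk s) := by
  refine ⟨fun a b => ?_⟩
  suffices h : ∀ a : ((Scheme.Modules.pushforward j).obj M).presheaf.stalk s, a = 0 by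
    rw [h a, h b]
  intro a
  obtain ⟨U, hsU, m, rfl⟩ := TopCat.Presheaf.exists_germ_eq _ a
  let W : S.Opens := U ⊓ ⟨(Set.range j.base)ᶜ, hcl.isOpen_compl⟩
  have hsW : s ∈ W := ⟨hsU, hs⟩
  have hW : j ⁻¹ᵁ W = ⊥ := by
    ext c
    simp only [W, Scheme.Hom.mem_preimage, Opens.coe_bot, Set.mem_empty_iff_false, iff_false]
    rintro ⟨-, h2⟩
    exact h2 ⟨c, rfl⟩
  rw [← TopCat.Presheaf.germ_res_apply _ (homOfLE (inf_le_left : W ≤ U)) s hsW m]
  have h0 : ((Scheme.Modules.pushforward j).obj M).presheaf.map (homOfLE (inf_le_left : W ≤ U)).op m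
      = 0 := eq_zero_of_eq_bot M hW _
  rw [h0, map_zero]

end Groth.Agent.Lead.PushStalk
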