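import Mathlib
open TensorProduct

namespace Groth.Agent.Lead.FamDescent

section
variable {A : Type*} [CommRing A] {ι : Type*} (B : ι → Type*) [∀ k, CommRing (B k)]
  [∀ k, Algebra A (B k)] [∀ k, Module.Flat A (B k)]
  (hsurj : ∀ p : PrimeSpectrum A, ∃ k, ∃ q : PrimeSpectrum (B k),
    q.comap (algebraMap A (B k)) = p)

include hsurj in
/-- a module killed by a jointly faithfully flat family is zero -/
theorem subsingleton_of_forall_tensor (Q : Type*) [AddCommGroup Q] [Module A Q]
    (h : ∀ k, Subsingleton (B k ⊗[A] Q)) : Subsingleton Q := by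
  by_contra hQ
  rw [not_subsingleton_iff_nontrivial] at hQ
  obtain ⟨x, hx⟩ := exists_ne (0 : Q)
  let g : A →ₗ[A] Q := LinearMap.toSpanSingleton A Q x
  set I : Ideal A := LinearMap.ker g with hI
  have hI1 : I ≠ ⊤ := by
    intro h
    have h1 : (1 : A) ∈ I := h ▸ Submodule.mem_top
    rw [hI, LinearMap.mem_ker] at h1
    simp [g] at h1
    exact hx h1
  obtain ⟨m, hm, hIm⟩ := Ideal.exists_le_maximal I hI1
  obtain ⟨k, q, hq⟩ := hsurj ⟨m, hm.isPrime⟩
  let g' : (A ⧸ I) →ₗ[A] Q := Submodule.liftQ I g le_rfl
  have hg' : Function.Injective g' := by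
    rw [← LinearMap.ker_eq_bot]
    exact Submodule.ker_liftQ_eq_bot _ _ _ le_rfl
  have h1 := Module.Flat.lTensor_preserves_injective_linearMap (M := B k) g' hg'
  haveI := h k
  have h2 : Subsingleton (B k ⊗[A] (A ⧸ I)) := h1.subsingleton
  have h3 : Subsingleton (B k ⧸ (I • (⊤ : Submodule A (B k)))) :=
    (TensorProduct.tensorQuotEquivQuotSMul (B k) I).symm.toEquiv.subsingleton
  rw [Submodule.Quotient.subsingleton_iff] at h3
  have h4 : (1 : B k) ∈ I • (⊤ : Submodule A (B k)) := by rw [h3]; exact Submodule.mem_top
  have h5 : I • (⊤ : Submodule A (B k)) ≤ q.asIdeal.restrictScalars A := by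
    rw [Submodule.smul_le]
    intro r hr b _
    change r • b ∈ q.asIdeal
    rw [Algebra.smul_def]
    apply Ideal.mul_mem_right
    have h6 : r ∈ m := hIm hr
    have hq' : m = q.asIdeal.comap (algebraMap A (B k)) := by
      have := congrArg PrimeSpectrum.asIdeal hq
      exact this.symm
    rw [hq'] at h6
    exact h6
  exact q.isPrime.ne_top ((Ideal.eq_top_iff_one _).mpr (h5 h4))

include hsurj in
/-- finiteness descends along a jointly faithfully flat finite family -/
theorem finite_of_forall_tensor [Finite ι] (N : Type*) [AddCommGroup N] [Module A N]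
    (h : ∀ k, Module.Finite (B k) (B k ⊗[A] N)) : Module.Finite A N := by
  classical
  have key : ∀ k, ∃ S : Finset N,
      Submodule.span (B k) ((fun n => (1 : B k) ⊗ₜ[A] n) '' (S : Set N)) = ⊤ := by
    intro k
    have htop : Submodule.span (B k) (Set.range fun n : N => (1 : B k) ⊗ₜ[A] n) = ⊤ := by
      rw [eq_top_iff]
      rintro z -
      induction z using TensorProduct.induction_on with
      | zero => exact Submodule.zero_mem _
      | tmul b n =>
        have : b ⊗ₜ[A] n = b • ((1 : B k) ⊗ₜ[A] n) := by
          rw [TensorProduct.smul_tmul', smul_eq_mul, mul_one]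
        rw [this]
        exact Submodule.smul_mem _ _ (Submodule.subset_span ⟨n, rfl⟩)
      | add z₁ z₂ h₁ h₂ => exact Submodule.add_mem _ h₁ h₂
    have hfg : (Submodule.span (B k) (Set.range fun n : N => (1 : B k) ⊗ₜ[A] n)).FG := by
      rw [htop]; exact (h k).fg_top
    obtain ⟨T, hT, hspan⟩ := (Submodule.fg_span_iff_fg_span_finset_subset _).mp hfg
    have hT' : ∀ t : B k ⊗[A] N, t ∈ T → ∃ n : N, (1 : B k) ⊗ₜ[A] n = t := fun t ht => hT ht
    choose! pre hpre using hT'
    refine ⟨T.image pre, ?_⟩
    rw [eq_top_iff, ← htop, hspan]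
    apply Submodule.span_mono
    intro t ht
    refine ⟨pre t, ?_, hpre t ht⟩
    simp only [Finset.coe_image]
    exact ⟨t, ht, rfl⟩
  choose S hS using key
  haveI := Fintype.ofFinite ι
  let N' : Submodule A N := Submodule.span A (⋃ k, (S k : Set N))
  have hN'fg : N'.FG := Submodule.fg_span (Set.finite_iUnion fun k => (S k).finite_toSet)
  suffices hQ : Subsingleton (N ⧸ N') by
    rw [Submodule.Quotient.subsingleton_iff] at hQ
    rw [Module.finite_def, ← hQ]
    exact hN'fg
  apply subsingleton_of_forall_tensor B hsurj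
  intro k
  let π := (N'.mkQ).baseChange (B k)
  have hπs : Function.Surjective π := by
    change Function.Surjective ((N'.mkQ).baseChange (B k) : B k ⊗[A] N → B k ⊗[A] (N ⧸ N'))
    rw [LinearMap.baseChange_eq_ltensor]
    exact LinearMap.lTensor_surjective _ (Submodule.mkQ_surjective _)
  have hπ0 : π = 0 := by
    rw [← LinearMap.ker_eq_top, eq_top_iff, ← hS k, Submodule.span_le]
    rintro _ ⟨n, hn, rfl⟩
    rw [SetLike.mem_coe, LinearMap.mem_ker, LinearMap.baseChange_tmul]
    have : N'.mkQ n = 0 := (Submodule.Quotient.mk_eq_zero _).mpr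
      (Submodule.subset_span (Set.mem_iUnion.mpr ⟨k, hn⟩))
    rw [this, TensorProduct.tmul_zero]
  refine ⟨fun a b => ?_⟩
  obtain ⟨a', rfl⟩ := hπs a
  obtain ⟨b', rfl⟩ := hπs b
  rw [hπ0]
  rfl

include hsurj in
/-- finite presentation descends along a jointly faithfully flat finite family -/
theorem finitePresentation_of_forall_tensor [Finite ι] (N : Type*) [AddCommGroup N] [Module A N]
    (h : ∀ k, Module.FinitePresentation (B k) (B k ⊗[A] N)) :
    Module.FinitePresentation A N := by
  haveI : Module.Finite A N := finite_of_forall_tensor B hsurj N (fun k => inferInstance)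
  obtain ⟨m, π, hπ⟩ := Module.Finite.exists_fin' A N
  refine Module.finitePresentation_of_surjective π hπ ?_
  rw [← Module.Finite.iff_fg]
  apply finite_of_forall_tensor B hsurj
  intro k
  have hex : Function.Exact (LinearMap.ker π).subtype π := LinearMap.exact_subtype_ker_map π
  have hex' := Module.Flat.lTensor_exact (B k) hex
  have hinj := Module.Flat.lTensor_preserves_injective_linearMap (M := B k)
    (LinearMap.ker π).subtype (LinearMap.ker π).injective_subtype
  let i := (LinearMap.ker π).subtype.baseChange (B k)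
  let p := π.baseChange (B k)
  have hp : Function.Surjective p := by
    change Function.Surjective (π.baseChange (B k) : B k ⊗[A] (Fin m → A) → B k ⊗[A] N)
    rw [LinearMap.baseChange_eq_ltensor]
    exact LinearMap.lTensor_surjective _ hπ
  have hker : (LinearMap.ker p).FG := Module.FinitePresentation.fg_ker p hp
  have hrange : LinearMap.range i = LinearMap.ker p := by
    ext z
    rw [LinearMap.mem_range, LinearMap.mem_ker]
    exact (hex' z).symm
  have hi : Function.Injective i := hinj
  haveI : Module.Finite (B k) (LinearMap.range i) := by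
    rw [hrange]; exact Module.Finite.iff_fg.mpr hker
  exact Module.Finite.equiv (LinearEquiv.ofInjective i hi).symm

end

section flat
universe u
variable {A : Type u} [CommRing A] {ι : Type*} (B : ι → Type u) [∀ k, CommRing (B k)]
  [∀ k, Algebra A (B k)] [∀ k, Module.Flat A (B k)]
  (hsurj : ∀ p : PrimeSpectrum A, ∃ k, ∃ q : PrimeSpectrum (B k),
    q.comap (algebraMap A (B k)) = p)

include hsurj in
/-- flatness descends along a jointly faithfully flat family -/
theorem flat_of_forall_tensor (N : Type u) [AddCommGroup N] [Module A N]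
    (h : ∀ k, Module.Flat (B k) (B k ⊗[A] N)) : Module.Flat A N := by
  rw [Module.Flat.iff_lTensor_preserves_injective_linearMap'.{u, u, u}]
  intro P P' _ _ _ _ φ hφ
  rw [← LinearMap.ker_eq_bot]
  let ψ := φ.lTensor N
  suffices Subsingleton (LinearMap.ker ψ) from Submodule.eq_bot_of_subsingleton
  apply subsingleton_of_forall_tensor B hsurj
  intro k
  haveI := h k
  haveI : Module.Flat A (B k ⊗[A] N) := Module.Flat.trans A (B k) _
  let i := (LinearMap.ker ψ).subtype
  have h1 : Function.Injective (i.lTensor (B k)) :=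
    Module.Flat.lTensor_preserves_injective_linearMap _ (Submodule.injective_subtype _)
  have h2 : Function.Injective (φ.lTensor (B k ⊗[A] N)) :=
    Module.Flat.lTensor_preserves_injective_linearMap _ hφ
  let α := (TensorProduct.assoc A (B k) N P).symm
  let α' := (TensorProduct.assoc A (B k) N P').symm
  have hnat : ∀ z, φ.lTensor (B k ⊗[A] N) (α z) = α' (ψ.lTensor (B k) z) := by
    intro z
    induction z using TensorProduct.induction_on with
    | zero => simp
    | tmul b y =>
      induction y using TensorProduct.induction_on with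
      | zero => simp
      | tmul n p => simp [α, α', ψ]
      | add y₁ y₂ h₁ h₂ => simp only [TensorProduct.tmul_add, map_add, h₁, h₂]
    | add z₁ z₂ h₁ h₂ => simp only [map_add, h₁, h₂]
  have h0 : ∀ c, ψ.lTensor (B k) (i.lTensor (B k) c) = 0 := by
    intro c
    rw [← LinearMap.comp_apply, ← LinearMap.lTensor_comp]
    have : ψ ∘ₗ i = 0 := by
      ext x
      exact x.2
    rw [this, LinearMap.lTensor_zero]
    rfl
  refine ⟨fun a b => ?_⟩
  apply h1
  apply α.injective
  apply h2
  rw [hnat, hnat, h0, h0]

end flat

end Groth.Agent.Lead.FamDescent
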