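import Groth.Agent.Lead.ModDict18
import Groth.Agent.Lead.FamDescent
open CategoryTheory Limits AlgebraicGeometry TensorProduct

namespace Groth.Agent.Lead.ModDict
universe u
open Scheme.Modules Groth.Agent.Helper8.TildeBC

section objiso
variable {X Y : Scheme.{u}} (f : X ⟶ Y) {U : Y.Opens} (hU : IsAffineOpen U) {V : X.Opens}
  (hV : IsAffineOpen V) (e : V ≤ f ⁻¹ᵁ U) (F : Y.Modules) [F.IsQuasicoherent]

/-- sections of a pullback over an affine open `V ≤ f⁻¹U` are the base change of the sections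
over `U` -/
noncomputable def secFPullbackIso :
    (secF hV).obj ((Scheme.Modules.pullback f).obj F) ≅
      (ModuleCat.extendScalars.{u, u, u} (f.appLE U V e).hom).obj ((secF hU).obj F) :=
  (moduleSpecΓFunctor (R := Γ(X, V))).mapIso
    ((Θ f hU hV e).app F ≪≫
      (Scheme.Modules.pullback (Spec.map (f.appLE U V e))).mapIso (tildeIso hU F).symm ≪≫
      (tildePullbackIso (f.appLE U V e)).app ((secF hU).obj F)) ≪≫
  (asIso ((tilde.adjunction (R := Γ(X, V))).unit.app _)).symm

end objiso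

section descent
variable {X Y : Scheme.{u}} (f : X ⟶ Y)

/-- finite affine cover of the preimage of an affine open along a quasi-compact morphism -/
theorem exists_finite_affine_cover [QuasiCompact f] {U : Y.Opens} (hU : IsAffineOpen U) :
    ∃ (ι : Type u) (_ : Finite ι) (V : ι → X.Opens), (∀ k, IsAffineOpen (V k)) ∧
      (∀ k, V k ≤ f ⁻¹ᵁ U) ∧ ∀ x ∈ f ⁻¹ᵁ U, ∃ k, x ∈ V k := by
  have hc : IsCompact ((f ⁻¹ᵁ U : X.Opens) : Set X) := f.isCompact_preimage hU.isCompact
  have hx : ∀ x ∈ ((f ⁻¹ᵁ U : X.Opens) : Set X),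
      ∃ W : X.Opens, IsAffineOpen W ∧ x ∈ W ∧ W ≤ f ⁻¹ᵁ U := by
    intro x hx
    obtain ⟨_, ⟨W, hW : IsAffineOpen W, rfl⟩, hxW, hWU⟩ :=
      X.isBasis_affineOpens.exists_subset_of_mem_open hx (f ⁻¹ᵁ U).isOpen
    exact ⟨W, hW, hxW, hWU⟩
  choose! W hW hxW hWU using hx
  obtain ⟨t, ht⟩ := hc.elim_nhds_subcover' (fun x _ => (W x : Set X))
    (fun x hx => (W x).isOpen.mem_nhds (hxW x hx))
  refine ⟨t, inferInstance, fun k => W k.1.1, fun k => hW _ k.1.2, fun k => hWU _ k.1.2, ?_⟩
  intro x hx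
  obtain ⟨k, hk, hxk⟩ := Set.mem_iUnion₂.mp (ht hx)
  exact ⟨⟨k, hk⟩, hxk⟩

variable [Flat f] [Surjective f]

theorem exists_prime_over {U : Y.Opens} (hU : IsAffineOpen U) {ι : Type*} (V : ι → X.Opens)
    (hV : ∀ k, IsAffineOpen (V k)) (hle : ∀ k, V k ≤ f ⁻¹ᵁ U)
    (hcov : ∀ x ∈ f ⁻¹ᵁ U, ∃ k, x ∈ V k) (p : PrimeSpectrum Γ(Y, U)) :
    ∃ k, ∃ q : PrimeSpectrum Γ(X, V k), q.comap (f.appLE U (V k) (hle k)).hom = p := by
  have hy : hU.fromSpec p ∈ U := by
    rw [← SetLike.mem_coe, ← hU.range_fromSpec]; exact ⟨p, rfl⟩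
  obtain ⟨x, hx⟩ := f.surjective (hU.fromSpec p)
  have hxU : x ∈ f ⁻¹ᵁ U := by
    change f x ∈ U
    rw [hx]; exact hy
  obtain ⟨k, hk⟩ := hcov x hxU
  have hz : x ∈ Set.range (hV k).fromSpec := by
    rw [(hV k).range_fromSpec]; exact hk
  obtain ⟨z, rfl⟩ := hz
  refine ⟨k, z, ?_⟩
  apply hU.fromSpec.isOpenEmbedding.injective
  rw [← hx]
  have := IsAffineOpen.SpecMap_appLE_fromSpec f hU (hV k) (hle k)
  have h2 := congrArg (fun g => g z) this
  exact h2

variable [QuasiCompact f] (M : Y.Modules) [M.IsQuasicoherent]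

set_option backward.isDefEq.respectTransparency false in
/-- fpqc descent of finiteness of the modules of sections -/
theorem finite_secF_of_finite_pullback
    (hfin : ∀ {V : X.Opens} (hV : IsAffineOpen V),
      Module.Finite Γ(X, V) ((secF hV).obj ((Scheme.Modules.pullback f).obj M)))
    {U : Y.Opens} (hU : IsAffineOpen U) : Module.Finite Γ(Y, U) ((secF hU).obj M) := by
  obtain ⟨ι, _, V, hV, hle, hcov⟩ := exists_finite_affine_cover f hU
  letI : ∀ k, Algebra Γ(Y, U) Γ(X, V k) := fun k => (f.appLE U (V k) (hle k)).hom.toAlgebra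
  haveI : ∀ k, Module.Flat Γ(Y, U) Γ(X, V k) := fun k => f.flat_appLE hU (hV k) (hle k)
  refine FamDescent.finite_of_forall_tensor (fun k => Γ(X, V k)) ?_ _ ?_
  · intro p
    exact exists_prime_over f hU V hV hle hcov p
  · intro k
    haveI := hfin (hV k)
    exact Module.Finite.equiv (secFPullbackIso f hU (hV k) (hle k) M).toLinearEquiv

set_option backward.isDefEq.respectTransparency false in
/-- fpqc descent of finite presentation of the modules of sections -/
theorem fp_secF_of_fp_pullback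
    (hfp : ∀ {V : X.Opens} (hV : IsAffineOpen V),
      Module.FinitePresentation Γ(X, V) ((secF hV).obj ((Scheme.Modules.pullback f).obj M)))
    {U : Y.Opens} (hU : IsAffineOpen U) :
    Module.FinitePresentation Γ(Y, U) ((secF hU).obj M) := by
  obtain ⟨ι, _, V, hV, hle, hcov⟩ := exists_finite_affine_cover f hU
  letI : ∀ k, Algebra Γ(Y, U) Γ(X, V k) := fun k => (f.appLE U (V k) (hle k)).hom.toAlgebra
  haveI : ∀ k, Module.Flat Γ(Y, U) Γ(X, V k) := fun k => f.flat_appLE hU (hV k) (hle k)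
  refine FamDescent.finitePresentation_of_forall_tensor (fun k => Γ(X, V k)) ?_ _ ?_
  · intro p
    exact exists_prime_over f hU V hV hle hcov p
  · intro k
    haveI := hfp (hV k)
    exact Module.FinitePresentation.of_equiv
      (secFPullbackIso f hU (hV k) (hle k) M).toLinearEquiv

set_option backward.isDefEq.respectTransparency false in
/-- fpqc descent of flatness of the modules of sections -/
theorem flat_secF_of_flat_pullback
    (hfl : ∀ {V : X.Opens} (hV : IsAffineOpen V),
      Module.Flat Γ(X, V) ((secF hV).obj ((Scheme.Modules.pullback f).obj M)))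
    {U : Y.Opens} (hU : IsAffineOpen U) :
    Module.Flat Γ(Y, U) ((secF hU).obj M) := by
  obtain ⟨ι, _, V, hV, hle, hcov⟩ := exists_finite_affine_cover f hU
  letI : ∀ k, Algebra Γ(Y, U) Γ(X, V k) := fun k => (f.appLE U (V k) (hle k)).hom.toAlgebra
  haveI : ∀ k, Module.Flat Γ(Y, U) Γ(X, V k) := fun k => f.flat_appLE hU (hV k) (hle k)
  refine FamDescent.flat_of_forall_tensor (fun k => Γ(X, V k)) ?_ _ ?_
  · intro p
    exact exists_prime_over f hU V hV hle hcov p
  · intro k
    haveI := hfl (hV k)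
    exact Module.Flat.of_linearEquiv
      (secFPullbackIso f hU (hV k) (hle k) M).toLinearEquiv.symm

end descent

end Groth.Agent.Lead.ModDict
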