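import Mathlib
import Groth.Agent.Lead.ModDict19
import Groth.Agent.Helper4.StalkDict
import Groth.Agent.Helper4.QcohGlue
import Groth.Agent.Helper4.QcohLimits

set_option autoImplicit false
universe u
open CategoryTheory CategoryTheory.Limits AlgebraicGeometry TopologicalSpace Opposite TensorProduct

namespace Groth.Agent.Lead.StalkPull

open Groth.Agent.Lead.ModDict Groth.Agent.Helper4 Groth.Agent.Helper8.TildeBC Scheme.Modules

section Qcoh
variable {X Y : Scheme.{u}} (f : X ⟶ Y)

/-- the pullback of a quasi-coherent module is quasi-coherent -/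
theorem isQuasicoherent_pullbackObj (G : Y.Modules) [G.IsQuasicoherent] :
    ((Scheme.Modules.pullback f).obj G).IsQuasicoherent := by
  apply QcohGlue.isQuasicoherent_of_affine_cover
  intro x
  obtain ⟨_, ⟨U, hU : IsAffineOpen U, rfl⟩, hxU, -⟩ :=
    Y.isBasis_affineOpens.exists_subset_of_mem_open (Set.mem_univ (f x)) isOpen_univ
  obtain ⟨_, ⟨V, hV : IsAffineOpen V, rfl⟩, hxV, hVU⟩ :=
    X.isBasis_affineOpens.exists_subset_of_mem_open (show x ∈ ((f ⁻¹ᵁ U : X.Opens) : Set X) from hxU)
      (f ⁻¹ᵁ U).isOpen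
  refine ⟨V, hV, hxV, ?_⟩
  have e : V ≤ f ⁻¹ᵁ U := hVU
  have iso : (resF hV).obj ((Scheme.Modules.pullback f).obj G) ≅
      (tilde.functor Γ(X, V)).obj
        ((ModuleCat.extendScalars.{u, u, u} (f.appLE U V e).hom).obj ((secF hU).obj G)) :=
    (Θ f hU hV e).app G ≪≫
      (Scheme.Modules.pullback (Spec.map (f.appLE U V e))).mapIso (tildeIso hU G).symm ≪≫
      (tildePullbackIso (f.appLE U V e)).app ((secF hU).obj G)
  have hq : ((tilde.functor Γ(X, V)).obj
        ((ModuleCat.extendScalars.{u, u, u} (f.appLE U V e).hom).obj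
          ((secF hU).obj G))).IsQuasicoherent :=
    inferInstanceAs (tilde ((ModuleCat.extendScalars.{u, u, u} (f.appLE U V e).hom).obj
          ((secF hU).obj G))).IsQuasicoherent
  exact QcohLimits.isQuasicoherent_of_iso iso.symm (hF := hq)

end Qcoh

section Sec
variable {X : Scheme.{u}} {U : X.Opens} (hU : IsAffineOpen U) (F : X.Modules)

set_option backward.isDefEq.respectTransparency false in
/-- sections over an affine open, as a module, agree with `secF` -/
noncomputable def secFEquiv : Γ(F, U) ≃ₗ[Γ(X, U)] Γ(F.restrict hU.fromSpec, ⊤) where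
  toFun m := F.presheaf.map (homOfLE (StalkDict.image_le hU ⊤)).op m
  map_add' a b := map_add _ a b
  map_smul' a m := by
    simp only [RingHom.id_apply]
    rw [StalkDict.smul_restrict_fromSpec, Scheme.Modules.map_smul]
  invFun t := F.presheaf.map (homOfLE (StalkDict.image_top hU).ge).op t
  left_inv m := StalkDict.map_map_eq_self F (StalkDict.image_le hU ⊤) (StalkDict.image_top hU).ge m
  right_inv t := StalkDict.map_map_eq_self F (StalkDict.image_top hU).ge (StalkDict.image_le hU ⊤) t

theorem rank_secF : Module.rank Γ(X, U) ((secF hU).obj F) = Module.rank Γ(X, U) Γ(F, U) :=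
  (secFEquiv hU F).symm.rank_eq

end Sec

section Rank
variable {X : Scheme.{u}} [IsIntegral X] {U : X.Opens} (hU : IsAffineOpen U) (F : X.Modules)
  [F.IsQuasicoherent]

include hU in
/-- the rank of the generic stalk is the rank of the module of sections over a nonempty affine -/
theorem rank_stalk_generic (hη : genericPoint X ∈ U) :
    Module.rank (X.presheaf.stalk (genericPoint X)) (F.presheaf.stalk (genericPoint X)) =
      Module.rank Γ(X, U) Γ(F, U) := by
  haveI : Nonempty U := ⟨⟨genericPoint X, hη⟩⟩
  letI := StalkDict.sectionModStalk F (genericPoint X) hη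
  letI := X.presheaf.algebra_section_stalk ⟨genericPoint X, hη⟩
  haveI := hU.isLocalization_stalk ⟨genericPoint X, hη⟩
  haveI : IsScalarTower Γ(X, U) (X.presheaf.stalk (genericPoint X))
      (F.presheaf.stalk (genericPoint X)) := ⟨fun a s m => by
    change (X.presheaf.germ U (genericPoint X) hη a * s) • m =
      X.presheaf.germ U (genericPoint X) hη a • (s • m)
    rw [mul_smul]⟩
  haveI := StalkDict.isLocalizedModule_germ hU F (genericPoint X) hη
  have hp : (hU.primeIdealOf ⟨genericPoint X, hη⟩).asIdeal.primeCompl ≤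
      nonZeroDivisors Γ(X, U) := by
    intro s hs
    apply mem_nonZeroDivisors_of_ne_zero
    rintro rfl
    exact hs (Ideal.zero_mem _)
  rw [IsLocalization.rank_eq (X.presheaf.stalk (genericPoint X)) _ hp
    (N := F.presheaf.stalk (genericPoint X)),
    IsLocalizedModule.rank_eq (hU.primeIdealOf ⟨genericPoint X, hη⟩).asIdeal.primeCompl hp
      (StalkDict.germLin F (genericPoint X) hη)]

end Rank

section Dominant
variable {X Y : Scheme.{u}} [IsIntegral X] [IsIntegral Y] (f : X ⟶ Y) [IsDominant f]

theorem map_genericPoint : f (genericPoint X) = genericPoint Y := by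
  have h1 : IsGenericPoint (f (genericPoint X)) (closure (f '' Set.univ)) :=
    (genericPoint_spec X).image f.continuous
  have h2 : closure (f '' Set.univ) = Set.univ := by
    rw [Set.image_univ]
    exact f.denseRange.closure_range
  rw [h2] at h1
  exact h1.eq (genericPoint_spec Y)

theorem appLE_injective {U : Y.Opens} {V : X.Opens} (e : V ≤ f ⁻¹ᵁ U)
    (hη : genericPoint X ∈ V) : Function.Injective (f.appLE U V e) := by
  rw [injective_iff_map_eq_zero]
  intro b hb
  rw [← AlgebraicGeometry.basicOpen_eq_bot_iff]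
  by_contra hne
  have hne' : ((Y.basicOpen b : Y.Opens) : Set Y).Nonempty := by
    rw [Set.nonempty_iff_ne_empty]
    intro h
    apply hne
    ext1
    exact h
  have h1 : genericPoint Y ∈ Y.basicOpen b := by
    rw [← SetLike.mem_coe, (genericPoint_spec Y).mem_open_set_iff (Y.basicOpen b).isOpen]
    simpa using hne'
  rw [← map_genericPoint f] at h1
  have h2 : genericPoint X ∈ f ⁻¹ᵁ (Y.basicOpen b) := h1
  rw [Scheme.preimage_basicOpen] at h2
  have h3 : genericPoint X ∈ X.basicOpen (f.appLE U V e b) := by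
    rw [Scheme.Hom.appLE, CommRingCat.comp_apply, Scheme.basicOpen_res]
    exact ⟨hη, h2⟩
  rw [hb, Scheme.basicOpen_zero] at h3
  exact h3

set_option backward.isDefEq.respectTransparency false in
theorem rank_extendScalars {R S : Type u} [CommRing R] [CommRing S] [IsDomain S] (φ : R →+* S)
    (hφ : Function.Injective φ) (M : ModuleCat.{u} R) :
    Module.rank S ((ModuleCat.extendScalars φ).obj M) = Module.rank R M := by
  letI := φ.toAlgebra
  haveI : FaithfulSMul R S := (faithfulSMul_iff_algebraMap_injective R S).mpr hφ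
  have h := (TensorProduct.isBaseChange R M S).rank_eq
  exact h

/-- S8888 -/
theorem main (G : Y.Modules) (hG : Coh.IsQCoh G) :
    Module.rank ↑(X.presheaf.stalk (genericPoint ↥X))
        ↑(((Scheme.Modules.pullback f).obj G).presheaf.stalk (genericPoint ↥X)) =
      Module.rank ↑(Y.presheaf.stalk (genericPoint ↥Y)) ↑(G.presheaf.stalk (genericPoint ↥Y)) := by
  haveI : G.IsQuasicoherent := hG
  haveI := isQuasicoherent_pullbackObj f G
  obtain ⟨_, ⟨U, hU : IsAffineOpen U, rfl⟩, hxU, -⟩ :=
    Y.isBasis_affineOpens.exists_subset_of_mem_open (Set.mem_univ (genericPoint Y)) isOpen_univ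
  have hxU' : genericPoint X ∈ f ⁻¹ᵁ U := by
    change f (genericPoint X) ∈ U
    rw [map_genericPoint f]
    exact hxU
  obtain ⟨_, ⟨V, hV : IsAffineOpen V, rfl⟩, hxV, hVU⟩ :=
    X.isBasis_affineOpens.exists_subset_of_mem_open
      (show genericPoint X ∈ ((f ⁻¹ᵁ U : X.Opens) : Set X) from hxU') (f ⁻¹ᵁ U).isOpen
  have e : V ≤ f ⁻¹ᵁ U := hVU
  haveI : Nonempty V := ⟨⟨genericPoint X, hxV⟩⟩
  rw [rank_stalk_generic hV ((Scheme.Modules.pullback f).obj G) hxV, rank_stalk_generic hU G hxU,
    ← rank_secF hV, ← rank_secF hU,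
    (secFPullbackIso f hU hV e G).toLinearEquiv.rank_eq]
  exact rank_extendScalars (f.appLE U V e).hom (appLE_injective f e hxV) _

end Dominant

end Groth.Agent.Lead.StalkPull
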