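import Mathlib
import Groth.Agent.Helper8.TildeBC

set_option autoImplicit false
open CategoryTheory AlgebraicGeometry Limits Opposite TensorProduct
universe u

namespace Groth.Agent.Lead.UnitDict
open Groth.Agent.Helper8.TildeBC

theorem ofNatIsoRight_unit_app {C D : Type*} [Category C] [Category D] {F : C ⥤ D} {G H : D ⥤ C}
    (adj : F ⊣ G) (iso : G ≅ H) (X : C) :
    (adj.ofNatIsoRight iso).unit.app X = adj.unit.app X ≫ iso.hom.app (F.obj X) := by
  rw [← Adjunction.homEquiv_id, Adjunction.homEquiv_ofNatIsoRight_apply, Adjunction.homEquiv_id]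

section Alg
variable {R : Type*} [CommRing R] {S' M : Type*} [AddCommGroup S'] [Module R S'] [AddCommGroup M]
  [Module R M] (g : R →ₗ[R] S') (hg : Function.Surjective g)

include hg in
theorem alg_surj (z : S' ⊗[R] M) : ∃ m : M, z = g 1 ⊗ₜ[R] m := by
  induction z using TensorProduct.induction_on with
  | zero => exact ⟨0, by simp⟩
  | tmul s m =>
    obtain ⟨r, rfl⟩ := hg s
    refine ⟨r • m, ?_⟩
    rw [← TensorProduct.smul_tmul, ← map_smul, smul_eq_mul, mul_one]
  | add x y hx hy =>
    obtain ⟨m, rfl⟩ := hx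
    obtain ⟨m', rfl⟩ := hy
    exact ⟨m + m', by rw [TensorProduct.tmul_add]⟩

include hg in
theorem alg_ker (m : M) (h : g 1 ⊗ₜ[R] m = 0) :
    m ∈ (LinearMap.ker g : Submodule R R) • (⊤ : Submodule R M) := by
  have hex : Function.Exact (LinearMap.ker g).subtype g := by
    intro x
    constructor
    · intro hx; exact ⟨⟨x, hx⟩, rfl⟩
    · rintro ⟨y, rfl⟩; exact y.2
  have hex2 := rTensor_exact M hex hg
  have h1 : (LinearMap.rTensor M g) ((1 : R) ⊗ₜ[R] m) = 0 := by
    rw [LinearMap.rTensor_tmul]; exact h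
  obtain ⟨y, hy⟩ := (hex2 _).1 h1
  have key : ∀ y : (LinearMap.ker g) ⊗[R] M,
      TensorProduct.lid R M (LinearMap.rTensor M (LinearMap.ker g).subtype y) ∈
        (LinearMap.ker g : Submodule R R) • (⊤ : Submodule R M) := by
    intro y
    induction y using TensorProduct.induction_on with
    | zero => simp
    | tmul a m =>
      rw [LinearMap.rTensor_tmul, TensorProduct.lid_tmul]
      exact Submodule.smul_mem_smul a.2 trivial
    | add x y hx hy =>
      rw [map_add, map_add]
      exact Submodule.add_mem _ hx hy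
  have := key y
  rw [hy, TensorProduct.lid_tmul, one_smul] at this
  exact this

end Alg

variable {R S : CommRingCat.{u}} (φ : R ⟶ S)

noncomputable abbrev adj1 := ((tilde.adjunction (R := R)).comp (Scheme.Modules.pullbackPushforwardAdjunction (Spec.map φ)))
noncomputable abbrev adj2 := (((ModuleCat.extendRestrictScalarsAdj.{u, u, u} φ.hom).comp
      (tilde.adjunction (R := S))).ofNatIsoRight (pushforwardΓIso φ).symm)

theorem stepA (N : ModuleCat.{u} R) :
    (adj1 φ).unit.app N ≫ (Scheme.Modules.pushforward (Spec.map φ) ⋙ moduleSpecΓFunctor (R := R)).map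
      ((tildePullbackIso φ).hom.app N) = (adj2 φ).unit.app N :=
  Adjunction.unit_leftAdjointUniq_hom_app (adj1 φ) (adj2 φ) N

theorem stepA' (N : ModuleCat.{u} R) :
    ((tilde.adjunction (R := R)).unit.app N ≫ (moduleSpecΓFunctor (R := R)).map
      ((Scheme.Modules.pullbackPushforwardAdjunction (Spec.map φ)).unit.app ((tilde.functor R).obj N))) ≫
      (Scheme.Modules.pushforward (Spec.map φ) ⋙ moduleSpecΓFunctor (R := R)).map
      ((tildePullbackIso φ).hom.app N) =
    ((ModuleCat.extendRestrictScalarsAdj.{u, u, u} φ.hom).unit.app N ≫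
      (ModuleCat.restrictScalars φ.hom).map ((tilde.adjunction (R := S)).unit.app _)) ≫
      (pushforwardΓIso φ).inv.app _ := by
  have h := stepA φ N
  rw [Adjunction.comp_unit_app] at h
  rw [h, ofNatIsoRight_unit_app, Adjunction.comp_unit_app]
  rfl

/-- elementwise form of step A -/
theorem stepA_elem (N : ModuleCat.{u} R) (n : N) :
    ((tildePullbackIso φ).hom.app N).app ⊤
      (((Scheme.Modules.pullbackPushforwardAdjunction (Spec.map φ)).unit.app
        ((tilde.functor R).obj N)).app ⊤ (((tilde.adjunction (R := R)).unit.app N).hom n)) =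
    ((tilde.adjunction (R := S)).unit.app _).hom
      (((ModuleCat.extendRestrictScalarsAdj.{u, u, u} φ.hom).unit.app N).hom n) := by
  have h := congrArg (fun f => f.hom n) (stepA' φ N)
  exact h

end Groth.Agent.Lead.UnitDict

namespace Groth.Agent.Lead.UnitDict
open Groth.Agent.Helper8.TildeBC

variable {R S : CommRingCat.{u}} (φ : R ⟶ S) (G : (Spec R).Modules) [G.IsQuasicoherent]

instance isIso_eps : IsIso (Scheme.Modules.fromTildeΓNatTrans.app G) :=
  Scheme.Modules.isIso_fromTildeΓ_of_isQuasicoherent G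

/-- sections of the pullback of a quasi-coherent module along `Spec.map φ` -/
noncomputable def Ψ : (moduleSpecΓFunctor (R := S)).obj ((Scheme.Modules.pullback (Spec.map φ)).obj G) ≅
    (ModuleCat.extendScalars.{u, u, u} φ.hom).obj ((moduleSpecΓFunctor (R := R)).obj G) :=
  (moduleSpecΓFunctor (R := S)).mapIso
    ((Scheme.Modules.pullback (Spec.map φ)).mapIso (asIso (Scheme.Modules.fromTildeΓNatTrans.app G)).symm ≪≫
      (tildePullbackIso φ).app ((moduleSpecΓFunctor (R := R)).obj G)) ≪≫
  (asIso ((tilde.adjunction (R := S)).unit.app _)).symm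

theorem Ψ_unit (g : (moduleSpecΓFunctor (R := R)).obj G) :
    (Ψ φ G).hom.hom (((Scheme.Modules.pullbackPushforwardAdjunction (Spec.map φ)).unit.app G).app ⊤ g) =
      ((ModuleCat.extendRestrictScalarsAdj.{u, u, u} φ.hom).unit.app _).hom g := by
  have : IsIso (Scheme.Modules.fromTildeΓNatTrans.app G) := isIso_eps G
  have h2 : (Scheme.Modules.fromTildeΓNatTrans.app G).app ⊤
      (((tilde.adjunction (R := R)).unit.app ((moduleSpecΓFunctor (R := R)).obj G)).hom g) = g := by
    have := congrArg (fun f => f.hom g) ((tilde.adjunction (R := R)).right_triangle_components G)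
    exact this
  have h1 := (Scheme.Modules.pullbackPushforwardAdjunction (Spec.map φ)).unit.naturality
    (Scheme.Modules.fromTildeΓNatTrans.app G)
  have h1' := congrArg (fun f => (Scheme.Modules.Hom.app f ⊤)
    (((tilde.adjunction (R := R)).unit.app ((moduleSpecΓFunctor (R := R)).obj G)).hom g)) h1
  have h3 : ((Scheme.Modules.pullbackPushforwardAdjunction (Spec.map φ)).unit.app G).app ⊤ g =
      ((Scheme.Modules.pullback (Spec.map φ)).map (Scheme.Modules.fromTildeΓNatTrans.app G)).app ⊤
        (((Scheme.Modules.pullbackPushforwardAdjunction (Spec.map φ)).unit.app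
          ((tilde.functor R).obj ((moduleSpecΓFunctor (R := R)).obj G))).app ⊤
          (((tilde.adjunction (R := R)).unit.app ((moduleSpecΓFunctor (R := R)).obj G)).hom g)) := by
    conv_lhs => rw [← h2]
    exact h1'
  have key : ((Scheme.Modules.pullback (Spec.map φ)).map
        (inv (Scheme.Modules.fromTildeΓNatTrans.app G)) ≫
      (tildePullbackIso φ).hom.app ((moduleSpecΓFunctor (R := R)).obj G)).app ⊤
      (((Scheme.Modules.pullbackPushforwardAdjunction (Spec.map φ)).unit.app G).app ⊤ g) =
      ((tilde.adjunction (R := S)).unit.app _).hom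
        (((ModuleCat.extendRestrictScalarsAdj.{u, u, u} φ.hom).unit.app _).hom g) := by
    rw [h3, ← stepA_elem]
    have h4 : (Scheme.Modules.pullback (Spec.map φ)).map (Scheme.Modules.fromTildeΓNatTrans.app G) ≫
        (Scheme.Modules.pullback (Spec.map φ)).map (inv (Scheme.Modules.fromTildeΓNatTrans.app G)) =
        𝟙 _ := by
      rw [← CategoryTheory.Functor.map_comp, IsIso.hom_inv_id, CategoryTheory.Functor.map_id]
    have h5 : ∀ z : Γ((Scheme.Modules.pullback (Spec.map φ)).obj
        ((moduleSpecΓFunctor ⋙ tilde.functor R).obj G), ⊤),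
        ((Scheme.Modules.pullback (Spec.map φ)).map
          (inv (Scheme.Modules.fromTildeΓNatTrans.app G))).app ⊤
        (((Scheme.Modules.pullback (Spec.map φ)).map
          (Scheme.Modules.fromTildeΓNatTrans.app G)).app ⊤ z) = z := fun z =>
      congrArg (fun f => (Scheme.Modules.Hom.app f ⊤) z) h4
    exact congrArg (fun z => ((tildePullbackIso φ).hom.app ((moduleSpecΓFunctor (R := R)).obj G)).app ⊤ z)
      (h5 _)
  have h6 : (Ψ φ G).hom.hom (((Scheme.Modules.pullbackPushforwardAdjunction (Spec.map φ)).unit.app G).app ⊤ g)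
      = (inv ((tilde.adjunction (R := S)).unit.app _)).hom
        (((Scheme.Modules.pullback (Spec.map φ)).map
        (inv (Scheme.Modules.fromTildeΓNatTrans.app G)) ≫
      (tildePullbackIso φ).hom.app ((moduleSpecΓFunctor (R := R)).obj G)).app ⊤
      (((Scheme.Modules.pullbackPushforwardAdjunction (Spec.map φ)).unit.app G).app ⊤ g)) := rfl
  rw [h6, key]
  exact congrArg (fun f => f.hom (((ModuleCat.extendRestrictScalarsAdj.{u, u, u} φ.hom).unit.app _).hom g))
    (IsIso.hom_inv_id ((tilde.adjunction (R := S)).unit.app _))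


section SpecCons

/-- the `R`-linear map `R → S` underlying `φ` -/
noncomputable def gφ : R →ₗ[R] ((ModuleCat.restrictScalars φ.hom).obj (ModuleCat.of S S)) where
  toFun r := φ.hom r
  map_add' := map_add _
  map_smul' r x := by
    change φ.hom (r * x) = φ.hom r * φ.hom x
    rw [map_mul]

theorem gφ_one : gφ φ 1 = ((1 : S) : (ModuleCat.restrictScalars φ.hom).obj (ModuleCat.of S S)) :=
  map_one φ.hom

theorem ker_gφ : (LinearMap.ker (gφ φ) : Submodule R R) = RingHom.ker φ.hom := by
  ext x
  rfl

set_option backward.isDefEq.respectTransparency false in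
theorem unit_eq_tmul (N : ModuleCat.{u} R) (n : N) :
    (show TensorProduct R ((ModuleCat.restrictScalars φ.hom).obj (ModuleCat.of S S)) N from
      ((ModuleCat.extendRestrictScalarsAdj.{u, u, u} φ.hom).unit.app N).hom n) =
      (gφ φ 1) ⊗ₜ[R] n := by
  rw [gφ_one]
  rfl

variable (hφ : Function.Surjective φ.hom)

include hφ in
theorem spec_unit_surjective
    (x : Γ((Scheme.Modules.pullback (Spec.map φ)).obj G, ⊤)) :
    ∃ g : (moduleSpecΓFunctor (R := R)).obj G,
      ((Scheme.Modules.pullbackPushforwardAdjunction (Spec.map φ)).unit.app G).app ⊤ g = x := by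
  obtain ⟨m, hm⟩ := alg_surj (M := (moduleSpecΓFunctor (R := R)).obj G) (gφ φ) hφ ((Ψ φ G).hom.hom x)
  refine ⟨m, ?_⟩
  have hinj : Function.Injective (Ψ φ G).hom.hom := by
    intro a b hab
    have := congrArg (Ψ φ G).inv.hom hab
    have ha := congrArg (fun f => f.hom a) (Ψ φ G).hom_inv_id
    have hb := congrArg (fun f => f.hom b) (Ψ φ G).hom_inv_id
    exact ha.symm.trans (this.trans hb)
  apply hinj
  rw [Ψ_unit]
  exact (unit_eq_tmul φ _ m).trans hm.symm

include hφ in
theorem spec_unit_ker (g : (moduleSpecΓFunctor (R := R)).obj G)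
    (h : ((Scheme.Modules.pullbackPushforwardAdjunction (Spec.map φ)).unit.app G).app ⊤ g = 0) :
    g ∈ (RingHom.ker φ.hom) • (⊤ : Submodule R ((moduleSpecΓFunctor (R := R)).obj G)) := by
  have h1 : (gφ φ 1) ⊗ₜ[R] g = 0 := by
    rw [← unit_eq_tmul]
    have h2 := Ψ_unit φ G g
    rw [h] at h2
    exact h2.symm.trans (map_zero (Ψ φ G).hom.hom)
  have := alg_ker (gφ φ) hφ g h1
  rwa [ker_gφ] at this

end SpecCons

end Groth.Agent.Lead.UnitDict
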