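import Mathlib
import Groth.Agent.Lead.UnitDict1
import Groth.Agent.Lead.StalkPull
import Groth.Agent.Helper4.PullMate

set_option autoImplicit false
open CategoryTheory AlgebraicGeometry Limits Opposite TensorProduct
universe u

namespace Groth.Agent.Lead.UnitDict
open Groth.Agent.Helper8.TildeBC Groth.Agent.Helper4 Groth.Agent.Lead.StalkPull

section Gen
variable {T : Scheme.{u}} {A B : T.Modules} (η : A ⟶ B)

theorem app_map {W W' : T.Opens} (hW : W ≤ W') (x : Γ(A, W')) :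
    η.app W (A.presheaf.map (homOfLE hW).op x) = B.presheaf.map (homOfLE hW).op (η.app W' x) := by
  have := η.mapPresheaf.naturality (homOfLE hW).op
  exact congrArg (fun k => k.hom x) this

theorem app_injective_of_isIso [IsIso η] (W : T.Opens) : Function.Injective (η.app W) := by
  intro a b hab
  have h1 : η ≫ inv η = 𝟙 _ := IsIso.hom_inv_id η
  have ha := congrArg (fun k => (Scheme.Modules.Hom.app k W) a) h1
  have hb := congrArg (fun k => (Scheme.Modules.Hom.app k W) b) h1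
  have := congrArg ((inv η).app W) hab
  exact ha.symm.trans (this.trans hb)

theorem app_surjective_of_isIso [IsIso η] (W : T.Opens) : Function.Surjective (η.app W) := by
  intro b
  refine ⟨(inv η).app W b, ?_⟩
  have h1 : inv η ≫ η = 𝟙 _ := IsIso.inv_hom_id η
  exact congrArg (fun k => (Scheme.Modules.Hom.app k W) b) h1

end Gen

variable {X Y : Scheme.{u}} (f : X ⟶ Y) (M : Y.Modules) [M.IsQuasicoherent]
  {U : Y.Opens} (hU : IsAffineOpen U) (hV : IsAffineOpen (f ⁻¹ᵁ U))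

theorem sq : hV.fromSpec ≫ f = Spec.map (f.appLE U (f ⁻¹ᵁ U) le_rfl) ≫ hU.fromSpec :=
  (IsAffineOpen.SpecMap_appLE_fromSpec f hU hV le_rfl).symm

theorem top_le_pre : (⊤ : (Spec Γ(Y, U)).Opens) ≤ hU.fromSpec ⁻¹ᵁ U := by
  rw [hU.fromSpec_preimage_self]

theorem le_image : f ⁻¹ᵁ U ≤ hV.fromSpec ''ᵁ
    (Spec.map (f.appLE U (f ⁻¹ᵁ U) le_rfl) ⁻¹ᵁ (hU.fromSpec ⁻¹ᵁ U)) := by
  rw [hU.fromSpec_preimage_self]
  exact (StalkDict.image_top hV).ge

instance : ((Scheme.Modules.restrictFunctor hU.fromSpec).obj M).IsQuasicoherent := by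
  have := StalkPull.isQuasicoherent_pullbackObj hU.fromSpec M
  exact QcohLimits.isQuasicoherent_of_iso
    ((Scheme.Modules.restrictFunctorIsoPullback hU.fromSpec).app M).symm

/-- the restriction of `m` to `Spec Γ(Y,U)` -/
noncomputable abbrev m0 (m : Γ(M, U)) : Γ((Scheme.Modules.restrictFunctor hU.fromSpec).obj M, ⊤) :=
  M.presheaf.map (homOfLE (StalkDict.image_le hU ⊤)).op m

/-- compatibility: the unit for `f` over `U` versus the unit for `Spec.map` -/
theorem compat_top (m : Γ(M, U)) :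
    ((PullMate.β hV.fromSpec hU.fromSpec f (Spec.map (f.appLE U (f ⁻¹ᵁ U) le_rfl))
        (sq f hU hV)).hom.app M).app (Spec.map (f.appLE U (f ⁻¹ᵁ U) le_rfl) ⁻¹ᵁ (hU.fromSpec ⁻¹ᵁ U))
      (((Scheme.Modules.pullback (Spec.map (f.appLE U (f ⁻¹ᵁ U) le_rfl))).obj
          ((Scheme.Modules.restrictFunctor hU.fromSpec).obj M)).presheaf.map
        (homOfLE (show Spec.map (f.appLE U (f ⁻¹ᵁ U) le_rfl) ⁻¹ᵁ (hU.fromSpec ⁻¹ᵁ U) ≤
          (⊤ : (Spec Γ(X, f ⁻¹ᵁ U)).Opens) from le_top)).op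
        (((Scheme.Modules.pullbackPushforwardAdjunction
          (Spec.map (f.appLE U (f ⁻¹ᵁ U) le_rfl))).unit.app
            ((Scheme.Modules.restrictFunctor hU.fromSpec).obj M)).app ⊤ (m0 M hU m))) =
    ((Scheme.Modules.pullback f).obj M).presheaf.map
      (homOfLE (PullMate.image_le hV.fromSpec hU.fromSpec f
        (Spec.map (f.appLE U (f ⁻¹ᵁ U) le_rfl)) (sq f hU hV) U)).op
      (((Scheme.Modules.pullbackPushforwardAdjunction f).unit.app M).app U m) := by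
  rw [← PullMate.compat hV.fromSpec hU.fromSpec f (Spec.map (f.appLE U (f ⁻¹ᵁ U) le_rfl))
    (sq f hU hV) M U m]
  congr 1
  have h1 := app_map ((Scheme.Modules.pullbackPushforwardAdjunction
          (Spec.map (f.appLE U (f ⁻¹ᵁ U) le_rfl))).unit.app
            ((Scheme.Modules.restrictFunctor hU.fromSpec).obj M))
    (show hU.fromSpec ⁻¹ᵁ U ≤ (⊤ : (Spec Γ(Y, U)).Opens) from le_top) (m0 M hU m)
  refine Eq.trans ?_ (Eq.trans h1.symm ?_)
  · rfl
  · congr 1
    exact PullMate.map_map_eq M _ _ _ m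


variable (hsurj : Function.Surjective (f.appLE U (f ⁻¹ᵁ U) le_rfl).hom)

include hsurj hU hV in
/-- the kernel of the unit `M(U) → (f^*M)(f⁻¹U)` is `ker(O(U) → O(f⁻¹U)) • M(U)` -/
theorem unit_ker (m : Γ(M, U))
    (hm : ((Scheme.Modules.pullbackPushforwardAdjunction f).unit.app M).app U m = 0) :
    m ∈ (RingHom.ker (f.appLE U (f ⁻¹ᵁ U) le_rfl).hom) • (⊤ : Submodule Γ(Y, U) Γ(M, U)) := by
  have h := compat_top f M hU hV m
  have h0 : ((Scheme.Modules.pullback f).obj M).presheaf.map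
      (homOfLE (PullMate.image_le hV.fromSpec hU.fromSpec f
        (Spec.map (f.appLE U (f ⁻¹ᵁ U) le_rfl)) (sq f hU hV) U)).op
      (((Scheme.Modules.pullbackPushforwardAdjunction f).unit.app M).app U m) = 0 :=
    (congrArg _ hm).trans (map_zero _)
  have h1 := app_injective_of_isIso ((PullMate.β hV.fromSpec hU.fromSpec f
    (Spec.map (f.appLE U (f ⁻¹ᵁ U) le_rfl)) (sq f hU hV)).hom.app M) _
    ((h.trans h0).trans (map_zero _).symm)
  have h2 : ((Scheme.Modules.pullbackPushforwardAdjunction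
          (Spec.map (f.appLE U (f ⁻¹ᵁ U) le_rfl))).unit.app
            ((Scheme.Modules.restrictFunctor hU.fromSpec).obj M)).app ⊤ (m0 M hU m) = 0 := by
    have hle : (⊤ : (Spec Γ(X, f ⁻¹ᵁ U)).Opens) ≤
        Spec.map (f.appLE U (f ⁻¹ᵁ U) le_rfl) ⁻¹ᵁ (hU.fromSpec ⁻¹ᵁ U) := by
      rw [hU.fromSpec_preimage_self]; exact le_rfl
    exact StalkDict.map_injective_of_le _ le_top hle (h1.trans (map_zero _).symm)
  have h3 := spec_unit_ker (f.appLE U (f ⁻¹ᵁ U) le_rfl)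
    ((Scheme.Modules.restrictFunctor hU.fromSpec).obj M) hsurj (m0 M hU m) h2
  have h4 : (secFEquiv hU M).symm (m0 M hU m) = m := (secFEquiv hU M).symm_apply_apply m
  rw [← h4]
  refine Submodule.smul_induction_on h3 ?_ ?_
  · intro r hr n _
    have h5 : (secFEquiv hU M).symm (r • n) = r • (secFEquiv hU M).symm n :=
      (secFEquiv hU M).symm.map_smul r n
    rw [h5]
    exact Submodule.smul_mem_smul hr trivial
  · intro a b ha hb
    have h5 : (secFEquiv hU M).symm (a + b) =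
        (secFEquiv hU M).symm a + (secFEquiv hU M).symm b := (secFEquiv hU M).symm.map_add a b
    rw [h5]
    exact Submodule.add_mem _ ha hb

include hsurj hU hV in
/-- the unit `M(U) → (f^*M)(f⁻¹U)` is surjective -/
theorem unit_surj (x : Γ((Scheme.Modules.pullback f).obj M, f ⁻¹ᵁ U)) :
    ∃ m : Γ(M, U), ((Scheme.Modules.pullbackPushforwardAdjunction f).unit.app M).app U m = x := by
  obtain ⟨y, hy⟩ := app_surjective_of_isIso ((PullMate.β hV.fromSpec hU.fromSpec f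
    (Spec.map (f.appLE U (f ⁻¹ᵁ U) le_rfl)) (sq f hU hV)).hom.app M)
    (Spec.map (f.appLE U (f ⁻¹ᵁ U) le_rfl) ⁻¹ᵁ (hU.fromSpec ⁻¹ᵁ U))
    (((Scheme.Modules.pullback f).obj M).presheaf.map
      (homOfLE (PullMate.image_le hV.fromSpec hU.fromSpec f
        (Spec.map (f.appLE U (f ⁻¹ᵁ U) le_rfl)) (sq f hU hV) U)).op x)
  have hle : (⊤ : (Spec Γ(X, f ⁻¹ᵁ U)).Opens) ≤
      Spec.map (f.appLE U (f ⁻¹ᵁ U) le_rfl) ⁻¹ᵁ (hU.fromSpec ⁻¹ᵁ U) := by
    rw [hU.fromSpec_preimage_self]; exact le_rfl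
  obtain ⟨g₀, hg₀⟩ := spec_unit_surjective (f.appLE U (f ⁻¹ᵁ U) le_rfl)
    ((Scheme.Modules.restrictFunctor hU.fromSpec).obj M) hsurj
    (((Scheme.Modules.pullback (Spec.map (f.appLE U (f ⁻¹ᵁ U) le_rfl))).obj
          ((Scheme.Modules.restrictFunctor hU.fromSpec).obj M)).presheaf.map (homOfLE hle).op y)
  refine ⟨(secFEquiv hU M).symm g₀, ?_⟩
  have h := compat_top f M hU hV ((secFEquiv hU M).symm g₀)
  have h5 : m0 M hU ((secFEquiv hU M).symm g₀) = g₀ := (secFEquiv hU M).apply_symm_apply g₀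
  have h6 : ((Scheme.Modules.pullbackPushforwardAdjunction
          (Spec.map (f.appLE U (f ⁻¹ᵁ U) le_rfl))).unit.app
            ((Scheme.Modules.restrictFunctor hU.fromSpec).obj M)).app ⊤
      (m0 M hU ((secFEquiv hU M).symm g₀)) = _ := (congrArg _ h5).trans hg₀
  have h7 := (congrArg (fun z => ((PullMate.β hV.fromSpec hU.fromSpec f
      (Spec.map (f.appLE U (f ⁻¹ᵁ U) le_rfl)) (sq f hU hV)).hom.app M).app
        (Spec.map (f.appLE U (f ⁻¹ᵁ U) le_rfl) ⁻¹ᵁ (hU.fromSpec ⁻¹ᵁ U))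
      (((Scheme.Modules.pullback (Spec.map (f.appLE U (f ⁻¹ᵁ U) le_rfl))).obj
          ((Scheme.Modules.restrictFunctor hU.fromSpec).obj M)).presheaf.map
        (homOfLE (show Spec.map (f.appLE U (f ⁻¹ᵁ U) le_rfl) ⁻¹ᵁ (hU.fromSpec ⁻¹ᵁ U) ≤
          (⊤ : (Spec Γ(X, f ⁻¹ᵁ U)).Opens) from le_top)).op z)) h6).symm.trans h
  have h8 : ((Scheme.Modules.pullback (Spec.map (f.appLE U (f ⁻¹ᵁ U) le_rfl))).obj
          ((Scheme.Modules.restrictFunctor hU.fromSpec).obj M)).presheaf.map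
        (homOfLE (show Spec.map (f.appLE U (f ⁻¹ᵁ U) le_rfl) ⁻¹ᵁ (hU.fromSpec ⁻¹ᵁ U) ≤
          (⊤ : (Spec Γ(X, f ⁻¹ᵁ U)).Opens) from le_top)).op
        (((Scheme.Modules.pullback (Spec.map (f.appLE U (f ⁻¹ᵁ U) le_rfl))).obj
          ((Scheme.Modules.restrictFunctor hU.fromSpec).obj M)).presheaf.map (homOfLE hle).op y) = y :=
    StalkDict.map_map_eq_self _ hle le_top y
  have h9 := ((congrArg _ h8).symm.trans h7)
  exact (StalkDict.map_injective_of_le _ _ (le_image f hU hV) (hy.symm.trans h9)).symm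

end Groth.Agent.Lead.UnitDict
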