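import Mathlib
import Groth.Agent.Lead.UnitDict2
import Groth.Agent.Helper4.QcohLocal
import Groth.Agent.Helper4.QcohGlue
import Groth.Agent.Helper4.QcohLimits
import Groth.Agent.Helper4.AffineDict

set_option autoImplicit false
open CategoryTheory AlgebraicGeometry Limits Opposite TensorProduct
universe u

namespace Groth.Agent.Lead.Thick
open Groth.Agent.Helper4 Groth.Agent.Lead.UnitDict

variable {X X' : Scheme.{u}} (i : X ⟶ X') [IsClosedImmersion i]

/-- the `n`-th power of the ideal of `i` kills `M` on every affine open -/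
def Kills (M : X'.Modules) (n : ℕ) : Prop :=
  ∀ (U : X'.Opens), IsAffineOpen U → ∀ a ∈ (RingHom.ker (i.app U).hom) ^ n, ∀ m : Γ(M, U), a • m = 0

variable (M : X'.Modules) [M.IsQuasicoherent]

/-- the unit `M ⟶ i_* i^* M` -/
noncomputable abbrev η : M ⟶ (Scheme.Modules.pushforward i).obj ((Scheme.Modules.pullback i).obj M) :=
  (Scheme.Modules.pullbackPushforwardAdjunction i).unit.app M

instance qcohQ : ((Scheme.Modules.pushforward i).obj ((Scheme.Modules.pullback i).obj M)).IsQuasicoherent := by
  haveI := StalkPull.isQuasicoherent_pullbackObj i M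
  exact QcohGlue.isQuasicoherent_pushforward i _

theorem appLE_surj {U : X'.Opens} (hU : IsAffineOpen U) :
    Function.Surjective (i.appLE U (i ⁻¹ᵁ U) le_rfl).hom := by
  rw [← Scheme.Hom.app_eq_appLE]
  exact i.app_surjective U hU

theorem η_app_surjective {U : X'.Opens} (hU : IsAffineOpen U) :
    Function.Surjective ((η i M).app U) := fun x =>
  unit_surj i M hU (hU.preimage i) (appLE_surj i hU) x

instance epi_η : Epi (η i M) := by
  apply QcohLocal.epi_of_app_surjective_of_affine_cover
  intro x
  obtain ⟨U, hU, hx⟩ := QcohLimits.exists_affine_nhd x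
  exact ⟨U, hU, hx, η_app_surjective i M hU⟩

theorem η_app_ker {U : X'.Opens} (hU : IsAffineOpen U) (m : Γ(M, U))
    (hm : (η i M).app U m = 0) :
    m ∈ (RingHom.ker (i.app U).hom) • (⊤ : Submodule Γ(X', U) Γ(M, U)) := by
  have := unit_ker i M hU (hU.preimage i) (appLE_surj i hU) m hm
  rwa [← Scheme.Hom.app_eq_appLE] at this

instance qcohK : (kernel (η i M)).IsQuasicoherent := QcohLimits.isQuasicoherent_kernel _

/-- the kernel of the unit is killed by one power less -/
theorem kills_kernel (n : ℕ) (h : Kills i M (n + 1)) : Kills i (kernel (η i M)) n := by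
  intro U hU a ha k
  have hinj := AffineDict.app_injective_of_mono (kernel.ι (η i M)) U
  apply hinj
  rw [map_zero, Scheme.Modules.Hom.app_smul]
  have h1 : (η i M).app U ((kernel.ι (η i M)).app U k) = 0 := by
    have := congrArg (fun φ => (Scheme.Modules.Hom.app φ U) k) (kernel.condition (η i M))
    exact this
  have h2 := η_app_ker i M hU _ h1
  refine Submodule.smul_induction_on h2 ?_ ?_
  · intro r hr m _
    rw [← mul_smul]
    apply h U hU
    rw [pow_succ]
    exact Ideal.mul_mem_mul ha hr
  · intro x y hx hy
    rw [smul_add, hx, hy, add_zero]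

end Groth.Agent.Lead.Thick
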