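import Mathlib
import Groth.Agent.Lead.Thick1

set_option autoImplicit false
open CategoryTheory AlgebraicGeometry Limits Opposite TensorProduct
universe u

namespace Groth.Agent.Lead.Thick
open Groth.Agent.Helper4 Groth.Agent.Lead.UnitDict

variable {X X' : Scheme.{u}} (i : X ⟶ X') [IsClosedImmersion i] (M : X'.Modules) [M.IsQuasicoherent]

/-- if the ideal of `i` kills `M` then the unit `M ⟶ i_* i^* M` is an isomorphism -/
theorem isIso_η_of_kills (h : Kills i M 1) : IsIso (η i M) := by
  haveI : Mono (η i M) := by
    apply QcohLocal.mono_of_app_injective_of_affine_cover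
    intro x
    obtain ⟨U, hU, hx⟩ := QcohLimits.exists_affine_nhd x
    refine ⟨U, hU, hx, ?_⟩
    rw [injective_iff_map_eq_zero]
    intro m hm
    have h2 := η_app_ker i M hU m hm
    refine Submodule.smul_induction_on h2 ?_ ?_
    · intro r hr n _
      exact h U hU r (by rwa [pow_one]) n
    · intro a b ha hb
      rw [ha, hb, add_zero]
  exact isIso_of_mono_of_epi _

end Groth.Agent.Lead.Thick
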