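import Mathlib
import Groth.Agent.Lead.ModDict19
import Groth.Agent.Lead.FamDescent

set_option autoImplicit false
universe u
open CategoryTheory CategoryTheory.Limits AlgebraicGeometry TopologicalSpace Opposite TensorProduct

namespace Groth.Agent.Lead.FlatPull

section Alg
variable {A : Type*} [CommRing A] {ι : Type*} (B : ι → Type*) [∀ k, CommRing (B k)]
  [∀ k, Algebra A (B k)] [∀ k, Module.Flat A (B k)]
  (hsurj : ∀ p : PrimeSpectrum A, ∃ k, ∃ q : PrimeSpectrum (B k),
    q.comap (algebraMap A (B k)) = p)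
  {M N : Type*} [AddCommGroup M] [Module A M] [AddCommGroup N] [Module A N] (m : M →ₗ[A] N)

include hsurj in
theorem injective_of_forall_lTensor (h : ∀ k, Function.Injective (m.lTensor (B k))) :
    Function.Injective m := by
  rw [← LinearMap.ker_eq_bot]
  suffices Subsingleton (LinearMap.ker m) from Submodule.eq_bot_of_subsingleton
  apply FamDescent.subsingleton_of_forall_tensor B hsurj
  intro k
  have hinj : Function.Injective ((LinearMap.ker m).subtype.lTensor (B k)) :=
    Module.Flat.lTensor_preserves_injective_linearMap _ (Submodule.subtype_injective _)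
  refine ⟨fun a b => ?_⟩
  apply hinj
  apply h k
  have h0 : m ∘ₗ (LinearMap.ker m).subtype = 0 := by
    ext x
    exact x.2
  have h1 : (m.lTensor (B k)) ∘ₗ ((LinearMap.ker m).subtype.lTensor (B k)) = 0 := by
    rw [← LinearMap.lTensor_comp, h0, LinearMap.lTensor_zero]
  have ha := LinearMap.congr_fun h1 a
  have hb := LinearMap.congr_fun h1 b
  simp only [LinearMap.comp_apply, LinearMap.zero_apply] at ha hb
  rw [ha, hb]

include hsurj in
theorem eq_zero_of_forall_lTensor (h : ∀ k, m.lTensor (B k) = 0) : m = 0 := by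
  suffices Subsingleton (LinearMap.range m) by
    ext x
    have : (⟨m x, LinearMap.mem_range_self m x⟩ : LinearMap.range m) = 0 := Subsingleton.elim _ _
    exact congrArg Subtype.val this
  apply FamDescent.subsingleton_of_forall_tensor B hsurj
  intro k
  have hinj : Function.Injective ((LinearMap.range m).subtype.lTensor (B k)) :=
    Module.Flat.lTensor_preserves_injective_linearMap _ (Submodule.subtype_injective _)
  have hsur : Function.Surjective (m.rangeRestrict.lTensor (B k)) :=
    LinearMap.lTensor_surjective _ (LinearMap.surjective_rangeRestrict m)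
  have hcomp : (LinearMap.range m).subtype ∘ₗ m.rangeRestrict = m := by
    ext x
    rfl
  have key : ∀ z : B k ⊗[A] (LinearMap.range m), z = 0 := by
    intro z
    obtain ⟨w, rfl⟩ := hsur z
    apply hinj
    rw [map_zero, ← LinearMap.comp_apply, ← LinearMap.lTensor_comp, hcomp, h k,
      LinearMap.zero_apply]
  exact ⟨fun a b => by rw [key a, key b]⟩

include hsurj in
theorem surjective_of_forall_lTensor (h : ∀ k, Function.Surjective (m.lTensor (B k))) :
    Function.Surjective m := by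
  rw [← LinearMap.range_eq_top]
  suffices Subsingleton (N ⧸ LinearMap.range m) from Submodule.Quotient.subsingleton_iff.mp this
  apply FamDescent.subsingleton_of_forall_tensor B hsurj
  intro k
  have hsur : Function.Surjective ((LinearMap.range m).mkQ.lTensor (B k)) :=
    LinearMap.lTensor_surjective _ (Submodule.mkQ_surjective _)
  have h0 : (LinearMap.range m).mkQ ∘ₗ m = 0 := by
    ext x
    simp
  have key : ∀ z : B k ⊗[A] (N ⧸ LinearMap.range m), z = 0 := by
    intro z
    obtain ⟨w, rfl⟩ := hsur z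
    obtain ⟨w', rfl⟩ := h k w
    rw [← LinearMap.comp_apply, ← LinearMap.lTensor_comp, h0, LinearMap.lTensor_zero,
      LinearMap.zero_apply]
  exact ⟨fun a b => by rw [key a, key b]⟩

end Alg

section Geom
open Groth.Agent.Lead.ModDict Scheme.Modules

variable {X Z : Scheme.{u}}

/-- pullback along a flat morphism preserves monomorphisms of quasi-coherent modules -/
theorem mono_pullback_of_flat (f : X ⟶ Z) [Flat f] {A B : Z.Modules} [A.IsQuasicoherent]
    [B.IsQuasicoherent] (v : A ⟶ B) [Mono v] : Mono ((Scheme.Modules.pullback f).map v) := by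
  let K := Σ (U : Z.affineOpens), {V : X.affineOpens // V.1 ≤ f ⁻¹ᵁ U.1}
  refine mono_of_restrict _ (ι := K) (fun k => Spec Γ(X, k.2.1.1)) (fun k => k.2.1.2.fromSpec) ?_ ?_
  · intro x
    obtain ⟨_, ⟨U, hU : IsAffineOpen U, rfl⟩, hxU, -⟩ :=
      Z.isBasis_affineOpens.exists_subset_of_mem_open (Set.mem_univ (f x)) isOpen_univ
    obtain ⟨_, ⟨V, hV : IsAffineOpen V, rfl⟩, hxV, hVU⟩ :=
      X.isBasis_affineOpens.exists_subset_of_mem_open
        (show x ∈ ((f ⁻¹ᵁ U : X.Opens) : Set X) from hxU) (f ⁻¹ᵁ U).isOpen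
    refine ⟨⟨⟨U, hU⟩, ⟨⟨V, hV⟩, hVU⟩⟩, ?_⟩
    rw [IsAffineOpen.range_fromSpec]
    exact hxV
  · rintro ⟨⟨U, hU⟩, ⟨⟨V, hV⟩, e⟩⟩
    change Mono ((resF hV).map ((Scheme.Modules.pullback f).map v))
    rw [mono_iff_of_arrowIso (arrowIsoPullback f hU hV e v), tilde_map_mono_iff]
    haveI : Mono ((secF hU).map v) := inferInstance
    have hfl : (f.appLE U V e).hom.Flat := f.flat_appLE hU hV e
    haveI := ModuleCat.preservesFiniteLimits_extendScalars_of_flat.{u} hfl
    infer_instance

section Family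
variable {ι : Type*} (W : ι → Scheme.{u}) (h : ∀ i, W i ⟶ Z)
  (hsurj : ∀ z : Z, ∃ i, z ∈ Set.range (h i))

/-- the index set of affine charts of the family over an affine open of the base -/
abbrev Chart (U : Z.Opens) : Type _ :=
  Σ i : ι, {V : (W i).affineOpens // V.1 ≤ (h i) ⁻¹ᵁ U}

include hsurj in
theorem exists_prime_over {U : Z.Opens} (hU : IsAffineOpen U) (p : PrimeSpectrum Γ(Z, U)) :
    ∃ k : Chart W h U, ∃ q : PrimeSpectrum Γ(W k.1, k.2.1.1),
      q.comap ((h k.1).appLE U k.2.1.1 k.2.2).hom = p := by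
  have hy : hU.fromSpec p ∈ U := by
    rw [← SetLike.mem_coe, ← hU.range_fromSpec]; exact ⟨p, rfl⟩
  obtain ⟨i, w, hw⟩ := hsurj (hU.fromSpec p)
  have hwU : w ∈ (h i) ⁻¹ᵁ U := by
    change (h i) w ∈ U
    rw [hw]; exact hy
  obtain ⟨_, ⟨V, hV : IsAffineOpen V, rfl⟩, hwV, hVU⟩ :=
    (W i).isBasis_affineOpens.exists_subset_of_mem_open
      (show w ∈ (((h i) ⁻¹ᵁ U : (W i).Opens) : Set (W i)) from hwU) ((h i) ⁻¹ᵁ U).isOpen
  have hz : w ∈ Set.range hV.fromSpec := by
    rw [hV.range_fromSpec]; exact hwV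
  obtain ⟨q, rfl⟩ := hz
  refine ⟨⟨i, ⟨⟨V, hV⟩, hVU⟩⟩, q, ?_⟩
  apply hU.fromSpec.isOpenEmbedding.injective
  rw [← hw]
  have := IsAffineOpen.SpecMap_appLE_fromSpec (h i) hU hV hVU
  have h2 := congrArg (fun g => g q) this
  exact h2

variable [∀ i, Flat (h i)] {A B : Z.Modules} [A.IsQuasicoherent] [B.IsQuasicoherent] (v : A ⟶ B)

include hsurj in
theorem mono_of_forall_mono_pullback (H : ∀ i, Mono ((Scheme.Modules.pullback (h i)).map v)) :
    Mono v := by
  refine mono_of_restrict v (ι := Z.affineOpens) (fun U => Spec Γ(Z, U.1)) (fun U => U.2.fromSpec)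
    ?_ ?_
  · intro z
    obtain ⟨_, ⟨U, hU : IsAffineOpen U, rfl⟩, hzU, -⟩ :=
      Z.isBasis_affineOpens.exists_subset_of_mem_open (Set.mem_univ z) isOpen_univ
    refine ⟨⟨U, hU⟩, ?_⟩
    rw [IsAffineOpen.range_fromSpec]
    exact hzU
  · rintro ⟨U, hU⟩
    change Mono ((resF hU).map v)
    rw [← mono_iff_of_arrowIso (arrowIsoTilde hU v), tilde_map_mono_iff, ModuleCat.mono_iff_injective]
    letI : ∀ k : Chart W h U, Algebra Γ(Z, U) Γ(W k.1, k.2.1.1) :=
      fun k => ((h k.1).appLE U k.2.1.1 k.2.2).hom.toAlgebra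
    haveI : ∀ k : Chart W h U, Module.Flat Γ(Z, U) Γ(W k.1, k.2.1.1) :=
      fun k => (h k.1).flat_appLE hU k.2.1.2 k.2.2
    apply injective_of_forall_lTensor (fun k : Chart W h U => Γ(W k.1, k.2.1.1))
      (exists_prime_over W h hsurj hU) ((secF hU).map v).hom
    rintro ⟨i, ⟨⟨V, hV⟩, e⟩⟩
    have := H i
    have h1 : Mono ((resF hV).map ((Scheme.Modules.pullback (h i)).map v)) := inferInstance
    rw [mono_iff_of_arrowIso (arrowIsoPullback (h i) hU hV e v), tilde_map_mono_iff,
      ModuleCat.mono_iff_injective] at h1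
    exact h1

include hsurj in
theorem eq_zero_of_forall_pullback_eq_zero
    (H : ∀ i, (Scheme.Modules.pullback (h i)).map v = 0) : v = 0 := by
  refine eq_zero_of_restrict v (ι := Z.affineOpens) (fun U => Spec Γ(Z, U.1))
    (fun U => U.2.fromSpec) ?_ ?_
  · intro z
    obtain ⟨_, ⟨U, hU : IsAffineOpen U, rfl⟩, hzU, -⟩ :=
      Z.isBasis_affineOpens.exists_subset_of_mem_open (Set.mem_univ z) isOpen_univ
    refine ⟨⟨U, hU⟩, ?_⟩
    rw [IsAffineOpen.range_fromSpec]
    exact hzU
  · rintro ⟨U, hU⟩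
    change (resF hU).map v = 0
    rw [← eq_zero_iff_of_arrowIso (arrowIsoTilde hU v), Functor.map_eq_zero_iff]
    letI : ∀ k : Chart W h U, Algebra Γ(Z, U) Γ(W k.1, k.2.1.1) :=
      fun k => ((h k.1).appLE U k.2.1.1 k.2.2).hom.toAlgebra
    haveI : ∀ k : Chart W h U, Module.Flat Γ(Z, U) Γ(W k.1, k.2.1.1) :=
      fun k => (h k.1).flat_appLE hU k.2.1.2 k.2.2
    apply ModuleCat.hom_ext
    apply eq_zero_of_forall_lTensor (fun k : Chart W h U => Γ(W k.1, k.2.1.1))
      (exists_prime_over W h hsurj hU) ((secF hU).map v).hom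
    rintro ⟨i, ⟨⟨V, hV⟩, e⟩⟩
    have h1 : (resF hV).map ((Scheme.Modules.pullback (h i)).map v) = 0 := by
      rw [H i, Functor.map_zero]
    rw [eq_zero_iff_of_arrowIso (arrowIsoPullback (h i) hU hV e v), Functor.map_eq_zero_iff] at h1
    have h2 := congrArg ModuleCat.Hom.hom h1
    apply LinearMap.ext
    intro z
    exact LinearMap.congr_fun h2 z

include hsurj in
theorem epi_of_forall_epi_pullback (H : ∀ i, Epi ((Scheme.Modules.pullback (h i)).map v)) :
    Epi v := by
  refine epi_of_restrict v (ι := Z.affineOpens) (fun U => Spec Γ(Z, U.1)) (fun U => U.2.fromSpec)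
    ?_ ?_
  · intro z
    obtain ⟨_, ⟨U, hU : IsAffineOpen U, rfl⟩, hzU, -⟩ :=
      Z.isBasis_affineOpens.exists_subset_of_mem_open (Set.mem_univ z) isOpen_univ
    refine ⟨⟨U, hU⟩, ?_⟩
    rw [IsAffineOpen.range_fromSpec]
    exact hzU
  · rintro ⟨U, hU⟩
    change Epi ((resF hU).map v)
    rw [← epi_iff_of_arrowIso (arrowIsoTilde hU v), tilde_map_epi_iff, ModuleCat.epi_iff_surjective]
    letI : ∀ k : Chart W h U, Algebra Γ(Z, U) Γ(W k.1, k.2.1.1) :=
      fun k => ((h k.1).appLE U k.2.1.1 k.2.2).hom.toAlgebra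
    haveI : ∀ k : Chart W h U, Module.Flat Γ(Z, U) Γ(W k.1, k.2.1.1) :=
      fun k => (h k.1).flat_appLE hU k.2.1.2 k.2.2
    apply surjective_of_forall_lTensor (fun k : Chart W h U => Γ(W k.1, k.2.1.1))
      (exists_prime_over W h hsurj hU) ((secF hU).map v).hom
    rintro ⟨i, ⟨⟨V, hV⟩, e⟩⟩
    have := H i
    have h1 : Epi ((resF hV).map ((Scheme.Modules.pullback (h i)).map v)) := inferInstance
    rw [epi_iff_of_arrowIso (arrowIsoPullback (h i) hU hV e v), tilde_map_epi_iff,
      ModuleCat.epi_iff_surjective] at h1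
    exact h1

include hsurj in
theorem isIso_of_forall_isIso_pullback (H : ∀ i, IsIso ((Scheme.Modules.pullback (h i)).map v)) :
    IsIso v := by
  haveI := mono_of_forall_mono_pullback W h hsurj v (fun i => by have := H i; infer_instance)
  haveI := epi_of_forall_epi_pullback W h hsurj v (fun i => by have := H i; infer_instance)
  exact isIso_of_mono_of_epi v

end Family

end Geom

end Groth.Agent.Lead.FlatPull
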