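import Mathlib
import Groth.Prelude.Def_FlatFun

set_option autoImplicit false
universe u
open CategoryTheory CategoryTheory.Limits AlgebraicGeometry TopologicalSpace Opposite

namespace Groth.Agent.Lead.FpqcSheaf

variable {S : Scheme.{u}}

/-- a property of schemes over `S` is local for jointly surjective families of flat morphisms -/
def FlatLocal (P : Over S → Prop) : Prop :=
  ∀ (t : Over S) (I : Type (u + 1)) (W : I → Scheme.{u}) (h : ∀ i, W i ⟶ t.left),
    (∀ i, Flat (h i)) → (∀ z : t.left, ∃ i, z ∈ Set.range (h i)) →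
    (∀ i, P (Over.mk (h i ≫ t.hom))) → P t

theorem saturate_local (P : Over S → Prop) (hP : FlatLocal P)
    {X : Scheme.{u}} {R : Sieve X} (hR : Scheme.fpqcPrecoverage.Saturate X R) :
    ∀ (Y : Scheme.{u}) (g : Y ⟶ X) (t : Y ⟶ S),
      (∀ (Z : Scheme.{u}) (k : Z ⟶ Y), R.pullback g k → P (Over.mk (k ≫ t))) → P (Over.mk t) := by
  induction hR with
  | of X R₀ hR₀ =>
    intro Y g t H
    obtain ⟨I, Z, f, rfl⟩ := R₀.exists_eq_ofArrows
    obtain ⟨hs, hfl⟩ := (Scheme.ofArrows_mem_precoverage_iff (P := @Flat)).mp hR₀.2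
    refine hP (Over.mk t) I (fun i => pullback g (f i)) (fun i => pullback.fst g (f i)) ?_ ?_ ?_
    · intro i
      haveI : Flat (f i) := hfl i
      infer_instance
    · intro y
      obtain ⟨i, z, hz⟩ := hs (g y)
      obtain ⟨w, hw, -⟩ := Scheme.Pullback.exists_preimage_pullback (f := g) (g := f i) y z hz.symm
      exact ⟨i, w, hw⟩
    · intro i
      apply H
      change (Sieve.generate (Presieve.ofArrows Z f)) (pullback.fst g (f i) ≫ g)
      rw [pullback.condition]
      exact ⟨_, pullback.snd g (f i), f i, ⟨i⟩, rfl⟩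
  | top X =>
    intro Y g t H
    have := H Y (𝟙 Y) (by simp)
    rwa [Category.id_comp] at this
  | pullback X R₁ _ Y₁ f ih =>
    intro Y g t H
    apply ih Y (g ≫ f) t
    intro Z k hk
    apply H Z k
    rw [← Sieve.pullback_comp]
    exact hk
  | transitive X R₁ R₂ _ _ ih1 ih2 =>
    intro Y g t H
    apply ih1 Y g t
    intro Z k hk
    have := ih2 hk Z (𝟙 Z) (k ≫ t)
    apply this
    intro Z' l hl
    rw [Sieve.pullback_id] at hl
    have h3 := H Z' (l ≫ k) (by
      change R₂ ((l ≫ k) ≫ g)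
      rw [Category.assoc]
      exact hl)
    rwa [Category.assoc] at h3

theorem isSheaf_genPSp (P : Over S → Prop)
    (hstab : ∀ ⦃T T₀ : Over S⦄ (_ : T ⟶ T₀), P T₀ → P T) (hP : FlatLocal P) :
    Presheaf.IsSheaf (QuotSh.J Scheme.fpqcPrecoverage S) (FlatFun.genPSp S P) := by
  rw [isSheaf_iff_isSheaf_of_type]
  intro T R hR x hx
  have hne : Nonempty ((FlatFun.genPSp S P).obj (op T)) := by
    rw [FlatFun.genPSp_nonempty_iff_of_stable P hstab]
    have hsat : Scheme.fpqcPrecoverage.Saturate T.left (Sieve.overEquiv T R) := hR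
    have key := saturate_local P hP hsat T.left (𝟙 _) T.hom (by
      intro Z k hk
      rw [Sieve.pullback_id] at hk
      rw [Sieve.overEquiv_iff] at hk
      have := x _ hk
      exact (FlatFun.genPSp_nonempty_iff_of_stable P hstab _).mp ⟨this⟩)
    exact key
  obtain ⟨t⟩ := hne
  refine ⟨t, ?_, fun _ _ => Subsingleton.elim _ _⟩
  intro Y f hf
  exact Subsingleton.elim _ _

end Groth.Agent.Lead.FpqcSheaf
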