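import Mathlib
import Groth.Agent.Lead.FpqcSheaf
import Groth.Agent.Lead.FlatPull
import Groth.Agent.Lead.StalkPull
import Groth.Prelude.Def_FlatFun
import Groth.Prelude.Def_CohB1

set_option autoImplicit false
universe u
open CategoryTheory CategoryTheory.Limits AlgebraicGeometry TopologicalSpace Opposite

namespace Groth.Agent.Lead.FpqcSheaf
open Groth.Agent.Lead.ModDict Scheme.Modules

section Setup
variable {X S : Scheme.{u}} (f : X ⟶ S)

/-- the map `X ×_S A ⟶ X ×_S B` induced by `a : A ⟶ B` over `S` -/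
noncomputable def Hm {A B : Scheme.{u}} (b : B ⟶ S) (a : A ⟶ B) :
    pullback f (a ≫ b) ⟶ pullback f b :=
  pullback.map f (a ≫ b) f b (𝟙 X) a (𝟙 S) (by simp) (by simp)

theorem Hm_fst {A B : Scheme.{u}} (b : B ⟶ S) (a : A ⟶ B) :
    Hm f b a ≫ pullback.fst f b = pullback.fst f (a ≫ b) := by
  unfold Hm
  rw [pullback.lift_fst, Category.comp_id]

theorem Hm_snd {A B : Scheme.{u}} (b : B ⟶ S) (a : A ⟶ B) :
    Hm f b a ≫ pullback.snd f b = pullback.snd f (a ≫ b) ≫ a := by
  unfold Hm
  rw [pullback.lift_snd]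

theorem isPullback_Hm {A B : Scheme.{u}} (b : B ⟶ S) (a : A ⟶ B) :
    IsPullback (Hm f b a) (pullback.snd f (a ≫ b)) (pullback.snd f b) a := by
  refine IsPullback.of_right ?_ (Hm_snd f b a) (IsPullback.of_hasPullback f b)
  rw [Hm_fst]
  exact IsPullback.of_hasPullback f (a ≫ b)

instance flat_Hm {A B : Scheme.{u}} (b : B ⟶ S) (a : A ⟶ B) [Flat a] : Flat (Hm f b a) :=
  MorphismProperty.of_isPullback (P := @Flat) (isPullback_Hm f b a).flip inferInstance

theorem Hm_surj {B : Scheme.{u}} (b : B ⟶ S) {I : Type*} (W : I → Scheme.{u}) (h : ∀ i, W i ⟶ B)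
    (hs : ∀ z : B, ∃ i, z ∈ Set.range (h i)) (z : ↑(pullback f b)) :
    ∃ i, z ∈ Set.range (Hm f b (h i)) := by
  obtain ⟨i, hi⟩ := hs (pullback.snd f b z)
  refine ⟨i, ?_⟩
  unfold Hm
  rw [Scheme.Pullback.range_map]
  refine ⟨?_, hi⟩
  simp

/-- the two ways of pulling back to `X ×_S A` agree -/
noncomputable def Φ {A B : Scheme.{u}} (b : B ⟶ S) (a : A ⟶ B) :
    Scheme.Modules.pullback (pullback.fst f b) ⋙ Scheme.Modules.pullback (Hm f b a) ≅
      Scheme.Modules.pullback (pullback.fst f (a ≫ b)) :=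
  pullbackComp (Hm f b a) (pullback.fst f b) ≪≫ pullbackCongr (Hm_fst f b a)

/-- the same for a morphism of `Over S` -/
noncomputable def Φ' {T T₀ : Over S} (k : T ⟶ T₀) :
    Scheme.Modules.pullback (pullback.fst f T₀.hom) ⋙ Scheme.Modules.pullback (PicF.XTmap f k) ≅
      Scheme.Modules.pullback (pullback.fst f T.hom) :=
  pullbackComp (PicF.XTmap f k) (pullback.fst f T₀.hom) ≪≫ pullbackCongr (FGA.XTmap_fst f k)

end Setup

section Main
variable {X S : Scheme.{u}} (f : X ⟶ S) {F G : X.Modules} [Coh.IsQCoh F] [Coh.IsQCoh G] (u : F ⟶ G)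

/-- S9016 -/
theorem main_zero : Presheaf.IsSheaf (QuotSh.J Scheme.fpqcPrecoverage S)
    (FlatFun.genPSp S (fun T => ((Scheme.Modules.pullback (pullback.fst f T.hom)).map u) = 0)) := by
  haveI : F.IsQuasicoherent := ‹Coh.IsQCoh F›
  haveI : G.IsQuasicoherent := ‹Coh.IsQCoh G›
  apply isSheaf_genPSp
  · intro T T₀ k hk
    rw [← eq_zero_iff_of_arrowIso (arrowIsoOfNatIso (Φ' f k) u), Functor.comp_map, hk,
      Functor.map_zero]
  · intro t I W h hfl hs H
    haveI := hfl
    haveI := StalkPull.isQuasicoherent_pullbackObj (pullback.fst f t.hom) F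
    haveI := StalkPull.isQuasicoherent_pullbackObj (pullback.fst f t.hom) G
    apply FlatPull.eq_zero_of_forall_pullback_eq_zero (fun i => pullback f (h i ≫ t.hom))
      (fun i => Hm f t.hom (h i)) (Hm_surj f t.hom W h hs)
    intro i
    have : (Scheme.Modules.pullback (pullback.fst f (h i ≫ t.hom))).map u = 0 := H i
    rw [← eq_zero_iff_of_arrowIso (arrowIsoOfNatIso (Φ f t.hom (h i)) u)] at this
    exact this

/-- S9015 -/
theorem main_epi : Presheaf.IsSheaf (QuotSh.J Scheme.fpqcPrecoverage S)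
    (FlatFun.genPSp S (fun T => Epi ((Scheme.Modules.pullback (pullback.fst f T.hom)).map u))) := by
  haveI : F.IsQuasicoherent := ‹Coh.IsQCoh F›
  haveI : G.IsQuasicoherent := ‹Coh.IsQCoh G›
  apply isSheaf_genPSp
  · intro T T₀ k hk
    rw [← epi_iff_of_arrowIso (arrowIsoOfNatIso (Φ' f k) u), Functor.comp_map]
    haveI := hk
    infer_instance
  · intro t I W h hfl hs H
    haveI := hfl
    haveI := StalkPull.isQuasicoherent_pullbackObj (pullback.fst f t.hom) F
    haveI := StalkPull.isQuasicoherent_pullbackObj (pullback.fst f t.hom) G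
    apply FlatPull.epi_of_forall_epi_pullback (fun i => pullback f (h i ≫ t.hom))
      (fun i => Hm f t.hom (h i)) (Hm_surj f t.hom W h hs)
    intro i
    have : Epi ((Scheme.Modules.pullback (pullback.fst f (h i ≫ t.hom))).map u) := H i
    rw [← epi_iff_of_arrowIso (arrowIsoOfNatIso (Φ f t.hom (h i)) u)] at this
    exact this

/-- S9014 -/
theorem main_iso : Presheaf.IsSheaf (QuotSh.J Scheme.fpqcPrecoverage S)
    (FlatFun.genPSp S (fun T => IsIso ((Scheme.Modules.pullback (pullback.fst f T.hom)).map u))) := by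
  haveI : F.IsQuasicoherent := ‹Coh.IsQCoh F›
  haveI : G.IsQuasicoherent := ‹Coh.IsQCoh G›
  apply isSheaf_genPSp
  · intro T T₀ k hk
    rw [← isIso_iff_of_arrowIso (arrowIsoOfNatIso (Φ' f k) u), Functor.comp_map]
    haveI := hk
    infer_instance
  · intro t I W h hfl hs H
    haveI := hfl
    haveI := StalkPull.isQuasicoherent_pullbackObj (pullback.fst f t.hom) F
    haveI := StalkPull.isQuasicoherent_pullbackObj (pullback.fst f t.hom) G
    apply FlatPull.isIso_of_forall_isIso_pullback (fun i => pullback f (h i ≫ t.hom))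
      (fun i => Hm f t.hom (h i)) (Hm_surj f t.hom W h hs)
    intro i
    have : IsIso ((Scheme.Modules.pullback (pullback.fst f (h i ≫ t.hom))).map u) := H i
    rw [← isIso_iff_of_arrowIso (arrowIsoOfNatIso (Φ f t.hom (h i)) u)] at this
    exact this

end Main

end Groth.Agent.Lead.FpqcSheaf
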