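import Groth.Agent.Lead.ModDict11
open CategoryTheory Limits AlgebraicGeometry TensorProduct

namespace Groth.Agent.Lead.ModDict
universe u
open Scheme.Modules

section limit
variable {I : Type u} [SmallCategory I] [IsCofiltered I] (D : I ⥤ Scheme.{u}) (c : Cone D)
  (hc : IsLimit c) [∀ {i j : I} (f : i ⟶ j), IsAffineHom (D.map f)] (i₀ : I)

section alg
variable {U : (D.obj i₀).Opens} (hU : IsAffineOpen U)

attribute [local instance] Stage.algB Stage.algBj

include hc hU in
/-- if the base change to the limit of a surjective linear map from a finite module onto a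
finitely presented module is an isomorphism, then so are the base changes to all sufficiently late
stages -/
theorem extendScalars_isIso_stage {M N : ModuleCat.{u} Γ(D.obj i₀, U)}
    [Module.Finite Γ(D.obj i₀, U) M] [Module.FinitePresentation Γ(D.obj i₀, U) N] (m : M ⟶ N)
    (hsurj : Function.Surjective m.hom)
    (hm : IsIso ((ModuleCat.extendScalars.{u, u, u} ((c.π.app i₀).app U).hom).map m)) :
    ∃ j : Over i₀, ∀ (j' : Over i₀) (_ : j' ⟶ j),
      IsIso ((ModuleCat.extendScalars.{u, u, u} ((D.map j'.hom).app U).hom).map m) := by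
  rw [extendScalars_map_isIso_iff] at hm
  obtain ⟨j', t, -, H⟩ := rTensor_bijective_stage (Stage.isStageSystem D c i₀ hc hU) m.hom hsurj
    hm.1 (Over.mk (𝟙 i₀))
  refine ⟨j', fun j'' g' => ?_⟩
  rw [extendScalars_map_isIso_iff]
  exact H j'' (Stage.tr D i₀ U g') ⟨g', rfl⟩

end alg

variable {F G : (D.obj i₀).Modules} [F.IsQuasicoherent] [G.IsQuasicoherent]
  (hF : SheafOfModules.IsFiniteType (R := (D.obj i₀).ringCatSheaf) F)
  (hG : SheafOfModules.IsFinitePresentation (R := (D.obj i₀).ringCatSheaf) G) (δ : F ⟶ G)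

include hc hF hG in
theorem local_isIso_stage {j₁ : I} (φ₁ : j₁ ⟶ i₀)
    (hepi : Epi ((Scheme.Modules.pullback (D.map φ₁)).map δ))
    (hδ : IsIso ((Scheme.Modules.pullback (c.π.app i₀)).map δ))
    {U : (D.obj i₀).Opens} (hU : IsAffineOpen U) :
    ∃ j : Over j₁, ∀ (j' : Over j₁) (_ : j' ⟶ j),
      IsIso ((resF ((hU.preimage (D.map φ₁)).preimage (D.map j'.hom))).map
        ((Scheme.Modules.pullback (D.map j'.hom)).map
          ((Scheme.Modules.pullback (D.map φ₁)).map δ))) := by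
  haveI := isAffineHom_π_app D c hc j₁
  haveI := finite_secF hU F hF
  haveI := fp_secF hU G hG
  have hV₁ := hU.preimage (D.map φ₁)
  let m₁ := (ModuleCat.extendScalars.{u, u, u} ((D.map φ₁).app U).hom).map ((secF hU).map δ)
  haveI : Module.Finite Γ(D.obj j₁, D.map φ₁ ⁻¹ᵁ U)
      ((ModuleCat.extendScalars.{u, u, u} ((D.map φ₁).app U).hom).obj ((secF hU).obj F)) :=
    finite_extendScalars _ _
  haveI : Module.FinitePresentation Γ(D.obj j₁, D.map φ₁ ⁻¹ᵁ U)
      ((ModuleCat.extendScalars.{u, u, u} ((D.map φ₁).app U).hom).obj ((secF hU).obj G)) :=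
    fp_extendScalars _ _
  have hsurj : Function.Surjective m₁.hom := by
    have h1 : Epi ((resF hV₁).map ((Scheme.Modules.pullback (D.map φ₁)).map δ)) := inferInstance
    rw [resF_pullback_epi_iff (hU := hU)] at h1
    exact (ModuleCat.epi_iff_surjective _).mp h1
  have h2 : IsIso ((Scheme.Modules.pullback (c.π.app j₁)).map
      ((Scheme.Modules.pullback (D.map φ₁)).map δ)) :=
    (isIso_iff_of_arrowIso (arrowIsoOfNatIso (pullbackπIso D c i₀ φ₁) δ)).mpr hδ
  have h3 : IsIso ((resF (hV₁.preimage (c.π.app j₁))).map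
      ((Scheme.Modules.pullback (c.π.app j₁)).map
        ((Scheme.Modules.pullback (D.map φ₁)).map δ))) := inferInstance
  rw [resF_pullback₂_isIso_iff (hU := hU)] at h3
  obtain ⟨j, hj⟩ := extendScalars_isIso_stage D c hc j₁ hV₁ m₁ hsurj h3
  refine ⟨j, fun j' g => ?_⟩
  rw [resF_pullback₂_isIso_iff (hU := hU)]
  exact hj j' g

include hc hF hG in
theorem isIso_stage [CompactSpace (D.obj i₀)]
    (hδ : IsIso ((Scheme.Modules.pullback (c.π.app i₀)).map δ)) :
    ∃ (j : I) (φ : j ⟶ i₀), IsIso ((Scheme.Modules.pullback (D.map φ)).map δ) := by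
  classical
  haveI : SheafOfModules.IsFinitePresentation (R := (D.obj i₀).ringCatSheaf) G := hG
  have hGft : SheafOfModules.IsFiniteType (R := (D.obj i₀).ringCatSheaf) G := inferInstance
  obtain ⟨j₁, φ₁, hepi⟩ := epi_stage D c hc i₀ hGft δ inferInstance
  have hx : ∀ x : D.obj i₀, ∃ (U : (D.obj i₀).Opens), IsAffineOpen U ∧ x ∈ U := by
    intro x
    obtain ⟨_, ⟨U, hU : IsAffineOpen U, rfl⟩, hxU, -⟩ :=
      (D.obj i₀).isBasis_affineOpens.exists_subset_of_mem_open (Set.mem_univ x) isOpen_univ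
    exact ⟨U, hU, hxU⟩
  choose U hU hxU using hx
  obtain ⟨t, ht⟩ := CompactSpace.elim_nhds_subcover (fun x => (U x : Set (D.obj i₀)))
    (fun x ↦ (U x).2.mem_nhds (hxU x))
  choose j hj using fun x => local_isIso_stage D c hc i₀ hF hG δ φ₁ hepi hδ (hU x)
  obtain ⟨S, hS⟩ := IsCofiltered.inf_objs_exists (t.image j)
  refine ⟨S.left, S.hom ≫ φ₁, ?_⟩
  have key : IsIso ((Scheme.Modules.pullback (D.map S.hom)).map
      ((Scheme.Modules.pullback (D.map φ₁)).map δ)) := by
    refine isIso_of_restrict _ (ι := t)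
      (fun x => Spec Γ(D.obj S.left, D.map S.hom ⁻¹ᵁ (D.map φ₁ ⁻¹ᵁ U x.1)))
      (fun x => (((hU x.1).preimage (D.map φ₁)).preimage (D.map S.hom)).fromSpec) ?_ ?_
    · intro y
      obtain ⟨x, hxt, hyx⟩ := Set.mem_iUnion₂.mp
        (ht.ge (Set.mem_univ ((D.map φ₁).base ((D.map S.hom).base y))))
      refine ⟨⟨x, hxt⟩, ?_⟩
      rw [IsAffineOpen.range_fromSpec]
      exact hyx
    · intro x
      exact hj x.1 S (hS (Finset.mem_image_of_mem _ x.2)).some
  have Φ : Scheme.Modules.pullback (D.map φ₁) ⋙ Scheme.Modules.pullback (D.map S.hom) ≅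
      Scheme.Modules.pullback (D.map (S.hom ≫ φ₁)) :=
    pullbackComp (D.map S.hom) (D.map φ₁) ≪≫ pullbackCongr (D.map_comp S.hom φ₁).symm
  exact (isIso_iff_of_arrowIso (arrowIsoOfNatIso Φ δ)).mp key

include hc hF hG in
theorem isIso_iff_eventually [CompactSpace (D.obj i₀)] :
    IsIso ((Scheme.Modules.pullback (c.π.app i₀)).map δ) ↔
      ∃ (j : I) (φ : j ⟶ i₀), IsIso ((Scheme.Modules.pullback (D.map φ)).map δ) := by
  constructor
  · exact isIso_stage D c hc i₀ hF hG δ
  · rintro ⟨j, φ, h⟩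
    rw [← isIso_iff_of_arrowIso (arrowIsoOfNatIso (pullbackπIso D c i₀ φ) δ)]
    change IsIso ((Scheme.Modules.pullback (c.π.app j)).map
      ((Scheme.Modules.pullback (D.map φ)).map δ))
    infer_instance

end limit

end Groth.Agent.Lead.ModDict
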