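import Groth.Agent.Lead.ModDict1
open CategoryTheory Limits AlgebraicGeometry

namespace Groth.Agent.Lead.ModDict
universe u
open Scheme.Modules

section arrows
variable {C : Type*} [Category C]

theorem eq_zero_iff_of_arrowIso [HasZeroMorphisms C] {A B A' B' : C} {a : A ⟶ B} {b : A' ⟶ B'}
    (e : Arrow.mk a ≅ Arrow.mk b) : a = 0 ↔ b = 0 := by
  have w : e.hom.left ≫ b = a ≫ e.hom.right := e.hom.w
  have hl : IsIso e.hom.left := inferInstance
  have hr : IsIso e.hom.right := inferInstance
  generalize e.hom.left = l at w hl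
  generalize e.hom.right = r at w hr
  constructor
  · intro h
    subst h
    rw [zero_comp] at w
    exact (cancel_epi l).mp (by rw [w, comp_zero])
  · intro h
    subst h
    rw [comp_zero] at w
    exact (cancel_mono r).mp (by rw [← w, zero_comp])

theorem isIso_iff_of_arrowIso {A B A' B' : C} {a : A ⟶ B} {b : A' ⟶ B'}
    (e : Arrow.mk a ≅ Arrow.mk b) : IsIso a ↔ IsIso b :=
  (MorphismProperty.isomorphisms C).arrow_mk_iso_iff e

theorem epi_iff_of_arrowIso {A B A' B' : C} {a : A ⟶ B} {b : A' ⟶ B'}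
    (e : Arrow.mk a ≅ Arrow.mk b) : Epi a ↔ Epi b :=
  (MorphismProperty.epimorphisms C).arrow_mk_iso_iff e

theorem mono_iff_of_arrowIso {A B A' B' : C} {a : A ⟶ B} {b : A' ⟶ B'}
    (e : Arrow.mk a ≅ Arrow.mk b) : Mono a ↔ Mono b :=
  (MorphismProperty.monomorphisms C).arrow_mk_iso_iff e

end arrows

section stalks
variable {X : Scheme.{u}} {M N : X.Modules} (α : M ⟶ N)

/-- the stalk map (of abelian groups) of a morphism of modules -/
noncomputable abbrev stalkMapAb (x : X) :
    (toPresheaf X ⋙ TopCat.Presheaf.stalkFunctor Ab.{u} x).obj M ⟶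
      (toPresheaf X ⋙ TopCat.Presheaf.stalkFunctor Ab.{u} x).obj N :=
  (toPresheaf X ⋙ TopCat.Presheaf.stalkFunctor Ab.{u} x).map α

theorem eq_zero_of_stalkMapAb (h : ∀ x, stalkMapAb α x = 0) : α = 0 := by
  apply Scheme.Modules.hom_ext
  intro W
  ext s
  apply TopCat.Presheaf.section_ext ⟨N.presheaf, N.isSheaf⟩ W
  intro x hx
  have h1 := TopCat.Presheaf.stalkFunctor_map_germ_apply W x hx ((toPresheaf X).map α) s
  have h2 : (TopCat.Presheaf.stalkFunctor Ab x).map ((toPresheaf X).map α) = 0 := h x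
  rw [h2] at h1
  simp only [Hom.zero_app]
  change N.presheaf.germ W x hx ((α.app W) s) = N.presheaf.germ W x hx 0
  rw [map_zero]
  exact h1.symm.trans rfl

variable {X' : Scheme.{u}} (j : X' ⟶ X) [IsOpenImmersion j]

/-- stalk maps of the restriction along an open immersion -/
noncomputable def stalkArrowIso (x' : X') :
    Arrow.mk (stalkMapAb ((restrictFunctor j).map α) x') ≅ Arrow.mk (stalkMapAb α (j x')) :=
  arrowIsoOfNatIso (restrictStalkNatIso j x') α

end stalks

section localization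
variable {X : Scheme.{u}} {M N : X.Modules} (α : M ⟶ N)
  {ι : Type*} (X' : ι → Scheme.{u}) (j : ∀ i, X' i ⟶ X) [∀ i, IsOpenImmersion (j i)]
  (hj : ∀ x : X, ∃ i, x ∈ Set.range (j i))

include hj in
theorem eq_zero_of_restrict (h : ∀ i, (restrictFunctor (j i)).map α = 0) : α = 0 := by
  apply eq_zero_of_stalkMapAb
  intro x
  obtain ⟨i, x', rfl⟩ := hj x
  rw [← eq_zero_iff_of_arrowIso (stalkArrowIso α (j i) x')]
  change (toPresheaf _ ⋙ TopCat.Presheaf.stalkFunctor Ab.{u} x').map ((restrictFunctor (j i)).map α) = 0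
  rw [h i]
  exact Functor.map_zero _ _ _

include hj in
theorem isIso_of_restrict (h : ∀ i, IsIso ((restrictFunctor (j i)).map α)) : IsIso α := by
  have hst : ∀ x : X, IsIso ((TopCat.Presheaf.stalkFunctor Ab x).map ((toPresheaf X).map α)) := by
    intro x
    obtain ⟨i, x', rfl⟩ := hj x
    have := h i
    exact (isIso_iff_of_arrowIso (stalkArrowIso α (j i) x')).mp (by
      change IsIso ((toPresheaf _ ⋙ TopCat.Presheaf.stalkFunctor Ab.{u} x').map
        ((restrictFunctor (j i)).map α))
      infer_instance)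
  let f : (⟨M.presheaf, M.isSheaf⟩ : TopCat.Sheaf Ab X.toTopCat) ⟶ ⟨N.presheaf, N.isSheaf⟩ :=
    ⟨(toPresheaf X).map α⟩
  haveI : ∀ x : X, IsIso ((TopCat.Presheaf.stalkFunctor Ab x).map f.1) := hst
  have h4 := TopCat.Presheaf.isIso_of_stalkFunctor_map_iso f
  have h5 : IsIso ((toPresheaf X).map α) := (TopCat.Sheaf.forget Ab X.toTopCat).map_isIso f
  exact isIso_of_reflects_iso α (toPresheaf X)

include hj in
theorem epi_of_restrict (h : ∀ i, Epi ((restrictFunctor (j i)).map α)) : Epi α := by
  apply Abelian.epi_of_cokernel_π_eq_zero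
  apply eq_zero_of_restrict _ X' j hj
  intro i
  have := h i
  rw [← cancel_epi ((restrictFunctor (j i)).map α), ← Functor.map_comp, cokernel.condition]
  simp

end localization

end Groth.Agent.Lead.ModDict
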