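import Groth.Agent.Lead.ModDict4
open CategoryTheory Limits AlgebraicGeometry TensorProduct

namespace Groth.Agent.Lead.ModDict
universe u

section limit
variable {I : Type u} [SmallCategory I] [IsCofiltered I] (D : I ⥤ Scheme.{u}) (c : Cone D)
  (hc : IsLimit c) [∀ {i j : I} (f : i ⟶ j), IsAffineHom (D.map f)] (i₀ : I)
  {U : (D.obj i₀).Opens} (hU : IsAffineOpen U)

theorem le_lim (U : (D.obj i₀).Opens) (j : Over i₀) :
    c.π.app i₀ ⁻¹ᵁ U ≤ c.π.app j.left ⁻¹ᵁ (D.map j.hom ⁻¹ᵁ U) := by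
  rw [← Scheme.Hom.comp_preimage, c.w]

theorem le_tr (U : (D.obj i₀).Opens) {j j' : Over i₀} (g : j' ⟶ j) :
    D.map j'.hom ⁻¹ᵁ U ≤ D.map g.left ⁻¹ᵁ (D.map j.hom ⁻¹ᵁ U) := by
  rw [← Scheme.Hom.comp_preimage, ← D.map_comp, Over.w g]

theorem appLE_congr_hom {X Y : Scheme.{u}} {f g : X ⟶ Y} (h : f = g) (U : Y.Opens) (V : X.Opens)
    (e : V ≤ f ⁻¹ᵁ U) : f.appLE U V e = g.appLE U V (h ▸ e) := by
  subst h; rfl

include hc hU in
theorem exists_lift (s : Γ(c.pt, c.π.app i₀ ⁻¹ᵁ U)) :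
    ∃ (j : Over i₀) (t : Γ(D.obj j.left, D.map j.hom ⁻¹ᵁ U)),
      (c.π.app j.left).appLE _ _ (le_lim D c i₀ U j) t = s := by
  have (j : _) : IsAffine ((opensDiagram D i₀ U).op.obj j).unop := hU.preimage _
  have (j : _) : IsAffine ((opensDiagram D i₀ U).obj j) := hU.preimage _
  obtain ⟨⟨j⟩, t, ht⟩ := (Types.jointly_surjective_of_isColimit (isColimitOfPreserves
    (Scheme.Γ ⋙ forget _) (isLimitOpensCone D c hc i₀ U).op)
      ((c.π.app i₀ ⁻¹ᵁ U).topIso.inv s))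
  obtain ⟨t, rfl⟩ := (D.map j.hom ⁻¹ᵁ U).topIso.symm.commRingCatIsoToRingEquiv.surjective t
  refine ⟨j, t, ?_⟩
  have key : ((opensCone D c i₀ U).π.app j).appTop = (D.map j.hom ⁻¹ᵁ U).topIso.hom ≫
      (c.π.app j.left).appLE _ _ (le_lim D c i₀ U j) ≫ (c.π.app i₀ ⁻¹ᵁ U).topIso.inv :=
    Scheme.Hom.resLE_app_top _ _
  have ht' : ((opensCone D c i₀ U).π.app j).appTop.hom ((D.map j.hom ⁻¹ᵁ U).topIso.inv.hom t) =
      (c.π.app i₀ ⁻¹ᵁ U).topIso.inv.hom s := ht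
  rw [key] at ht'
  have h2 : (D.map j.hom ⁻¹ᵁ U).topIso.hom.hom ((D.map j.hom ⁻¹ᵁ U).topIso.inv.hom t) = t := by
    rw [← CommRingCat.comp_apply, Iso.inv_hom_id]; rfl
  have ht'' : (c.π.app i₀ ⁻¹ᵁ U).topIso.inv.hom (((c.π.app j.left).appLE _ _
      (le_lim D c i₀ U j)).hom ((D.map j.hom ⁻¹ᵁ U).topIso.hom.hom
        ((D.map j.hom ⁻¹ᵁ U).topIso.inv.hom t))) = (c.π.app i₀ ⁻¹ᵁ U).topIso.inv.hom s := ht'
  rw [h2] at ht''
  have hinj : Function.Injective (c.π.app i₀ ⁻¹ᵁ U).topIso.inv.hom :=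
    (c.π.app i₀ ⁻¹ᵁ U).topIso.symm.commRingCatIsoToRingEquiv.injective
  exact hinj ht''

include hc hU in
theorem exists_kill (j : Over i₀) (b : Γ(D.obj j.left, D.map j.hom ⁻¹ᵁ U))
    (hb : (c.π.app j.left).appLE _ _ (le_lim D c i₀ U j) b = 0) :
    ∃ (j' : Over i₀) (g : j' ⟶ j), (D.map g.left).appLE _ _ (le_tr D i₀ U g) b = 0 := by
  have hle : c.π.app j.left ⁻¹ᵁ (D.map j.hom ⁻¹ᵁ U) ≤ c.π.app i₀ ⁻¹ᵁ U := by
    rw [← Scheme.Hom.comp_preimage, c.w]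
  have h1 : (c.π.app j.left).app (D.map j.hom ⁻¹ᵁ U) b = 0 := by
    rw [Scheme.Hom.app_eq_appLE, ← Scheme.Hom.appLE_map _ (le_lim D c i₀ U j) (homOfLE hle).op,
      CommRingCat.comp_apply, hb, map_zero]
  obtain ⟨k, f, hf⟩ := exists_app_map_eq_zero_of_isLimit D c hc
    (hU.preimage (D.map j.hom)).isCompact b h1
  refine ⟨Over.mk (f ≫ j.hom), Over.homMk f rfl, ?_⟩
  have hle2 : D.map (f ≫ j.hom) ⁻¹ᵁ U ≤ D.map f ⁻¹ᵁ (D.map j.hom ⁻¹ᵁ U) := by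
    rw [← Scheme.Hom.comp_preimage, ← D.map_comp]
  change (D.map f).appLE (D.map j.hom ⁻¹ᵁ U) (D.map (f ≫ j.hom) ⁻¹ᵁ U) hle2 b = 0
  rw [Scheme.Hom.appLE, CommRingCat.comp_apply, hf, map_zero]

theorem appLE_appLE_of_eq {X Y Z : Scheme.{u}} {f : X ⟶ Y} {g : Y ⟶ Z} {h : X ⟶ Z}
    (w : f ≫ g = h) (U : Z.Opens) (V : Y.Opens) (W : X.Opens) (e₁ : V ≤ g ⁻¹ᵁ U)
    (e₂ : W ≤ f ⁻¹ᵁ V) (e₃ : W ≤ h ⁻¹ᵁ U) :
    g.appLE U V e₁ ≫ f.appLE V W e₂ = h.appLE U W e₃ := by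
  subst w
  rw [Scheme.Hom.appLE_comp_appLE]

theorem app_appLE_of_eq {X Y Z : Scheme.{u}} {f : X ⟶ Y} {g : Y ⟶ Z} {h : X ⟶ Z}
    (w : f ≫ g = h) (U : Z.Opens) (e : h ⁻¹ᵁ U ≤ f ⁻¹ᵁ (g ⁻¹ᵁ U)) :
    g.app U ≫ f.appLE (g ⁻¹ᵁ U) (h ⁻¹ᵁ U) e = h.app U := by
  rw [Scheme.Hom.app_eq_appLE, Scheme.Hom.app_eq_appLE]
  exact appLE_appLE_of_eq w _ _ _ _ _ _

include hc hU in
/-- if the base change to the limit of a linear map out of a finite module vanishes, then so do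
the base changes to all sufficiently late stages -/
theorem extendScalars_eq_zero_stage {M N : ModuleCat.{u} Γ(D.obj i₀, U)}
    [Module.Finite Γ(D.obj i₀, U) M] (m : M ⟶ N)
    (hm : (ModuleCat.extendScalars.{u, u, u} ((c.π.app i₀).app U).hom).map m = 0) :
    ∃ j : Over i₀, ∀ (j' : Over i₀) (_ : j' ⟶ j),
      (ModuleCat.extendScalars.{u, u, u} ((D.map j'.hom).app U).hom).map m = 0 := by
  classical
  let A := Γ(D.obj i₀, U)
  let B := Γ(c.pt, c.π.app i₀ ⁻¹ᵁ U)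
  let Bj : Over i₀ → Type u := fun j => Γ(D.obj j.left, D.map j.hom ⁻¹ᵁ U)
  letI algB : Algebra A B := ((c.π.app i₀).app U).hom.toAlgebra
  letI algBj : ∀ j, Algebra A (Bj j) := fun j => ((D.map j.hom).app U).hom.toAlgebra
  let p : ∀ j, Bj j →ₐ[A] B := fun j =>
    { ((c.π.app j.left).appLE _ _ (le_lim D c i₀ U j)).hom with
      commutes' := fun a => by
        change ((D.map j.hom).app U ≫ (c.π.app j.left).appLE _ _ (le_lim D c i₀ U j)) a =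
          (c.π.app i₀).app U a
        rw [app_appLE_of_eq (c.w j.hom)] }
  let tr : ∀ {j j' : Over i₀} (g : j' ⟶ j), Bj j →ₐ[A] Bj j' := fun {j j'} g =>
    { ((D.map g.left).appLE _ _ (le_tr D i₀ U g)).hom with
      commutes' := fun a => by
        change ((D.map j.hom).app U ≫ (D.map g.left).appLE _ _ (le_tr D i₀ U g)) a =
          (D.map j'.hom).app U a
        rw [app_appLE_of_eq (by rw [← D.map_comp, Over.w g])] }
  let T : ∀ j j', (Bj j →ₐ[A] Bj j') → Prop := fun j j' t => ∃ g : j' ⟶ j, t = tr g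
  have hcompat : ∀ {j j' : Over i₀} (g : j' ⟶ j), (p j').comp (tr g) = p j := by
    intro j j' g
    refine AlgHom.ext fun b => ?_
    change ((D.map g.left).appLE _ _ (le_tr D i₀ U g) ≫
      (c.π.app j'.left).appLE _ _ (le_lim D c i₀ U j')) b = (c.π.app j.left).appLE _ _ _ b
    rw [appLE_appLE_of_eq (c.w g.left)]
  have hS : IsStageSystem Bj p T := by
    refine ⟨?_, ?_, ?_, ?_⟩
    · rintro j j' _ ⟨g, rfl⟩
      exact hcompat g
    · rintro j j' j'' _ _ ⟨g, rfl⟩ ⟨g', rfl⟩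
      refine ⟨g' ≫ g, AlgHom.ext fun b => ?_⟩
      change ((D.map g.left).appLE _ _ (le_tr D i₀ U g) ≫
        (D.map g'.left).appLE _ _ (le_tr D i₀ U g')) b = (D.map (g' ≫ g).left).appLE _ _ _ b
      rw [appLE_appLE_of_eq (h := D.map (g' ≫ g).left) (by rw [Over.comp_left, D.map_comp])]
    · intro j b
      obtain ⟨j₁, t₁, ht₁⟩ := exists_lift D c hc i₀ hU b
      refine ⟨IsCofiltered.min j j₁, tr (IsCofiltered.minToLeft j j₁), ⟨_, rfl⟩,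
        tr (IsCofiltered.minToRight j j₁) t₁, ?_⟩
      rw [← AlgHom.comp_apply, hcompat]
      exact ht₁
    · intro j b hb
      obtain ⟨j', g, hg⟩ := exists_kill D c hc i₀ hU j b hb
      exact ⟨j', tr g, ⟨g, rfl⟩, hg⟩
  rw [extendScalars_map_eq_zero_iff] at hm
  obtain ⟨j', t, -, H⟩ := baseChange_eq_zero_stage hS m.hom hm (Over.mk (𝟙 i₀))
  refine ⟨j', fun j'' g' => ?_⟩
  rw [extendScalars_map_eq_zero_iff]
  exact H j'' (tr g') ⟨g', rfl⟩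

end limit

end Groth.Agent.Lead.ModDict
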