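import Groth.Agent.Lead.ModDict2
import Groth.Agent.Lead.ModDict3
import Groth.Agent.Lead.ModDict5
import Groth.Agent.Helper4.FTTilde
import Groth.Agent.Helper4.FTRestrict
open CategoryTheory Limits AlgebraicGeometry TensorProduct

namespace Groth.Agent.Lead.ModDict
universe u
open Scheme.Modules

section finite
variable {Y : Scheme.{u}} {U : Y.Opens} (hU : IsAffineOpen U)

theorem finite_secF (F : Y.Modules) [F.IsQuasicoherent]
    (hF : SheafOfModules.IsFiniteType (R := Y.ringCatSheaf) F) :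
    Module.Finite Γ(Y, U) ((secF hU).obj F) := by
  have h1 := Groth.Agent.Helper4.FTRestrict.isFT_restrict hU.fromSpec F hF
  have h2 : SheafOfModules.IsFiniteType (R := (Spec Γ(Y, U)).ringCatSheaf)
      ((resF hU).obj F) := h1
  have h3 : SheafOfModules.IsFiniteType (R := (Spec Γ(Y, U)).ringCatSheaf)
      ((tilde.functor Γ(Y, U)).obj ((secF hU).obj F)) :=
    haveI := h2
    Groth.Agent.Helper4.FTRestrict.SoM.isFiniteType_of_iso.{u} (tildeIso hU F).symm
  exact Groth.Agent.Helper4.FTTilde.finite_of_isFT_tilde Γ(Y, U) _ h3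

end finite

section square
variable {X Y : Scheme.{u}} (f : X ⟶ Y) {U : Y.Opens} (hU : IsAffineOpen U)
  {F G : Y.Modules} [F.IsQuasicoherent] [G.IsQuasicoherent] (δ : F ⟶ G)

theorem resF_pullback_eq_zero_iff (hV : IsAffineOpen (f ⁻¹ᵁ U)) :
    (resF hV).map ((Scheme.Modules.pullback f).map δ) = 0 ↔
      (ModuleCat.extendScalars.{u, u, u} (f.app U).hom).map ((secF hU).map δ) = 0 := by
  rw [eq_zero_iff_of_arrowIso (arrowIsoPullback f hU hV le_rfl δ), Functor.map_eq_zero_iff,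
    Scheme.Hom.app_eq_appLE]

end square

section natiso
variable {C E : Type*} [Category C] [Category E] {A B : C ⥤ E}

theorem map_eq_of_natIso (Φ : A ≅ B) {X Y : C} {x y : X ⟶ Y} (h : A.map x = A.map y) :
    B.map x = B.map y := by
  rw [← NatIso.naturality_1 Φ x, ← NatIso.naturality_1 Φ y, h]

end natiso

section limit
variable {I : Type u} [SmallCategory I] [IsCofiltered I] (D : I ⥤ Scheme.{u}) (c : Cone D)
  (hc : IsLimit c) [∀ {i j : I} (f : i ⟶ j), IsAffineHom (D.map f)] (i₀ : I)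
  {F G : (D.obj i₀).Modules} [F.IsQuasicoherent] [G.IsQuasicoherent]
  (hF : SheafOfModules.IsFiniteType (R := (D.obj i₀).ringCatSheaf) F) (δ : F ⟶ G)

/-- the comparison of the two ways to pull back to the limit -/
noncomputable def pullbackπIso {j : I} (φ : j ⟶ i₀) :
    Scheme.Modules.pullback (D.map φ) ⋙ Scheme.Modules.pullback (c.π.app j) ≅
      Scheme.Modules.pullback (c.π.app i₀) :=
  pullbackComp (c.π.app j) (D.map φ) ≪≫ pullbackCongr (c.w φ)

include hc hF in
theorem local_eq_zero_stage (hδ : (Scheme.Modules.pullback (c.π.app i₀)).map δ = 0)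
    {U : (D.obj i₀).Opens} (hU : IsAffineOpen U) :
    ∃ j : Over i₀, ∀ (j' : Over i₀) (_ : j' ⟶ j),
      (resF (hU.preimage (D.map j'.hom))).map
        ((Scheme.Modules.pullback (D.map j'.hom)).map δ) = 0 := by
  haveI := isAffineHom_π_app D c hc i₀
  haveI := finite_secF hU F hF
  have h1 : (resF (hU.preimage (c.π.app i₀))).map
      ((Scheme.Modules.pullback (c.π.app i₀)).map δ) = 0 := by
    rw [hδ, Functor.map_zero]
  rw [resF_pullback_eq_zero_iff] at h1
  obtain ⟨j, hj⟩ := extendScalars_eq_zero_stage D c hc i₀ hU _ h1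
  refine ⟨j, fun j' g => ?_⟩
  rw [resF_pullback_eq_zero_iff]
  exact hj j' g

include hc hF in
theorem eq_zero_stage [CompactSpace (D.obj i₀)]
    (hδ : (Scheme.Modules.pullback (c.π.app i₀)).map δ = 0) :
    ∃ (j : I) (φ : j ⟶ i₀), (Scheme.Modules.pullback (D.map φ)).map δ = 0 := by
  classical
  have hx : ∀ x : D.obj i₀, ∃ (U : (D.obj i₀).Opens), IsAffineOpen U ∧ x ∈ U := by
    intro x
    obtain ⟨_, ⟨U, hU : IsAffineOpen U, rfl⟩, hxU, -⟩ :=
      (D.obj i₀).isBasis_affineOpens.exists_subset_of_mem_open (Set.mem_univ x) isOpen_univ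
    exact ⟨U, hU, hxU⟩
  choose U hU hxU using hx
  obtain ⟨t, ht⟩ := CompactSpace.elim_nhds_subcover (fun x => (U x : Set (D.obj i₀)))
    (fun x ↦ (U x).2.mem_nhds (hxU x))
  choose j hj using fun x => local_eq_zero_stage D c hc i₀ hF δ hδ (hU x)
  obtain ⟨S, hS⟩ := IsCofiltered.inf_objs_exists (t.image j)
  refine ⟨S.left, S.hom, ?_⟩
  refine eq_zero_of_restrict _ (ι := t) (fun x => Spec Γ(D.obj S.left, D.map S.hom ⁻¹ᵁ U x.1))
    (fun x => ((hU x.1).preimage (D.map S.hom)).fromSpec) ?_ ?_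
  · intro y
    obtain ⟨x, hxt, hyx⟩ := Set.mem_iUnion₂.mp (ht.ge (Set.mem_univ ((D.map S.hom).base y)))
    refine ⟨⟨x, hxt⟩, ?_⟩
    rw [IsAffineOpen.range_fromSpec]
    exact hyx
  · intro x
    exact hj x.1 S (hS (Finset.mem_image_of_mem _ x.2)).some

include hc hF in
/-- injectivity of `colim Hom(F_λ, G_λ) → Hom(F, G)` -/
theorem map_eq_iff_eventually [CompactSpace (D.obj i₀)] (φ₀ ψ₀ : F ⟶ G) :
    (Scheme.Modules.pullback (c.π.app i₀)).map φ₀ = (Scheme.Modules.pullback (c.π.app i₀)).map ψ₀ ↔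
      ∃ (j : I) (φ : j ⟶ i₀),
        (Scheme.Modules.pullback (D.map φ)).map φ₀ = (Scheme.Modules.pullback (D.map φ)).map ψ₀ := by
  constructor
  · intro h
    have hδ : (Scheme.Modules.pullback (c.π.app i₀)).map (φ₀ - ψ₀) = 0 := by
      rw [Functor.map_sub, h, sub_self]
    obtain ⟨j, φ, hj⟩ := eq_zero_stage D c hc i₀ hF (φ₀ - ψ₀) hδ
    refine ⟨j, φ, ?_⟩
    rw [Functor.map_sub, sub_eq_zero] at hj
    exact hj
  · rintro ⟨j, φ, h⟩
    exact map_eq_of_natIso (pullbackπIso D c i₀ φ)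
      (congrArg (Scheme.Modules.pullback (c.π.app j)).map h)

end limit

end Groth.Agent.Lead.ModDict
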