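import Groth.Agent.Lead.ModDict4
open TensorProduct

namespace Groth.Agent.Lead.ModDict
universe u

section algebra
variable {A : Type*} [CommRing A] {B : Type*} [CommRing B] [Algebra A B]
  {J : Type*} {Bj : J → Type*} [∀ j, CommRing (Bj j)] [∀ j, Algebra A (Bj j)]
  {p : ∀ j, Bj j →ₐ[A] B} {T : ∀ j j', (Bj j →ₐ[A] Bj j') → Prop} (h : IsStageSystem Bj p T)
include h
variable {M N : Type*} [AddCommGroup M] [Module A M] [AddCommGroup N] [Module A N]

/-- lifting an element of `M ⊗ B` to a stage -/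
theorem exists_lTensor_eq (w : M ⊗[A] B) : ∀ (j : J),
    ∃ j' t, T j j' t ∧ w ∈ Set.range ((p j').toLinearMap.lTensor M) := by
  induction w using TensorProduct.induction_on with
  | zero =>
    intro j
    obtain ⟨j', t, ht, -⟩ := h.lift j 0
    exact ⟨j', t, ht, 0, map_zero _⟩
  | tmul x b =>
    intro j
    obtain ⟨j', t, ht, b', rfl⟩ := h.lift j b
    exact ⟨j', t, ht, x ⊗ₜ b', by simp⟩
  | add w₁ w₂ h₁ h₂ =>
    intro j
    obtain ⟨j₁, t₁, ht₁, u₁, rfl⟩ := h₁ j
    obtain ⟨j₂, t₂, ht₂, u₂, rfl⟩ := h₂ j₁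
    refine ⟨j₂, t₂.comp t₁, h.comp _ _ ht₁ ht₂, t₂.toLinearMap.lTensor M u₁ + u₂, ?_⟩
    rw [map_add, ← LinearMap.comp_apply, ← LinearMap.lTensor_comp, ← AlgHom.comp_toLinearMap,
      h.compat t₂ ht₂]

theorem exists_lTensor_eq_fin : ∀ (n : ℕ) (w : Fin n → M ⊗[A] B) (j : J),
    ∃ j' t, T j j' t ∧ ∀ k, w k ∈ Set.range ((p j').toLinearMap.lTensor M) := by
  intro n
  induction n with
  | zero =>
    intro w j
    obtain ⟨j', t, ht, -⟩ := h.lift j 0
    exact ⟨j', t, ht, fun k => k.elim0⟩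
  | succ n ih =>
    intro w j
    obtain ⟨j₁, t₁, ht₁, h₁⟩ := ih (fun k => w k.succ) j
    obtain ⟨j₂, t₂, ht₂, h₂⟩ := exists_lTensor_eq h (w 0) j₁
    refine ⟨j₂, t₂.comp t₁, h.comp _ _ ht₁ ht₂, ?_⟩
    intro k
    refine Fin.cases h₂ (fun k => ?_) k
    obtain ⟨x, hx⟩ := h₁ k
    refine ⟨t₂.toLinearMap.lTensor M x, ?_⟩
    rw [← hx, ← LinearMap.comp_apply, ← LinearMap.lTensor_comp, ← AlgHom.comp_toLinearMap,
      h.compat t₂ ht₂]

/-- if the base change to `B` of a linear map into a finite module is surjective, then so are the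
base changes to all sufficiently late stages -/
theorem rTensor_surjective_stage [Module.Finite A N] (m : M →ₗ[A] N)
    (hm : Function.Surjective (m.rTensor B)) (j : J) :
    ∃ j' t, T j j' t ∧ ∀ j'' t', T j' j'' t' → Function.Surjective (m.rTensor (Bj j'')) := by
  obtain ⟨n, y, hy⟩ := Module.Finite.exists_fin (R := A) (M := N)
  choose w hw using fun k => hm (y k ⊗ₜ[A] (1 : B))
  obtain ⟨j₁, t₁, ht₁, hw'⟩ := exists_lTensor_eq_fin h n w j
  choose w' hw' using hw'
  obtain ⟨j₂, t₂, ht₂, hz⟩ := lTensor_eq_zero_stage_fin h n j₁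
    (fun k => y k ⊗ₜ[A] (1 : Bj j₁) - m.rTensor (Bj j₁) (w' k)) (fun k => by
      rw [map_sub, LinearMap.lTensor_tmul, ← LinearMap.comp_apply, LinearMap.lTensor_comp_rTensor,
        ← LinearMap.rTensor_comp_lTensor, LinearMap.comp_apply, hw' k, hw k]
      change y k ⊗ₜ[A] (p j₁ 1) - _ = 0
      rw [map_one, sub_self])
  refine ⟨j₂, t₂.comp t₁, h.comp _ _ ht₁ ht₂, fun j'' t' _ => ?_⟩
  have hk : ∀ k, y k ⊗ₜ[A] (1 : Bj j'') ∈ LinearMap.range (m.rTensor (Bj j'')) := by
    intro k
    refine ⟨(t'.comp t₂).toLinearMap.lTensor M (w' k), ?_⟩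
    have := congrArg (t'.toLinearMap.lTensor N) (hz k)
    rw [map_zero, ← LinearMap.comp_apply, ← LinearMap.lTensor_comp, map_sub, sub_eq_zero,
      LinearMap.lTensor_tmul] at this
    rw [← LinearMap.comp_apply, LinearMap.rTensor_comp_lTensor, ← LinearMap.lTensor_comp_rTensor,
      LinearMap.comp_apply, AlgHom.comp_toLinearMap, ← this]
    change y k ⊗ₜ[A] (t' (t₂ 1)) = _
    rw [map_one, map_one]
  rw [← LinearMap.range_eq_top, eq_top_iff]
  rintro z -
  induction z using TensorProduct.induction_on with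
  | zero => exact zero_mem _
  | add z₁ z₂ h₁ h₂ => exact add_mem h₁ h₂
  | tmul x b =>
    have hx : x ∈ Submodule.span A (Set.range y) := hy ▸ Submodule.mem_top
    refine Submodule.span_induction
      (p := fun x _ => x ⊗ₜ[A] b ∈ LinearMap.range (m.rTensor (Bj j''))) ?_ ?_ ?_ ?_ hx
    · rintro _ ⟨k, rfl⟩
      obtain ⟨u, hu⟩ := hk k
      refine ⟨(LinearMap.mulLeft A b).lTensor M u, ?_⟩
      rw [← LinearMap.comp_apply, LinearMap.rTensor_comp_lTensor, ← LinearMap.lTensor_comp_rTensor,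
        LinearMap.comp_apply, hu, LinearMap.lTensor_tmul, LinearMap.mulLeft_apply, mul_one]
    · rw [zero_tmul]; exact zero_mem _
    · intro x₁ x₂ _ _ h₁ h₂
      rw [add_tmul]; exact add_mem h₁ h₂
    · intro a x _ hx
      rw [← smul_tmul']; exact Submodule.smul_mem _ a hx

end algebra

section bridge
open ChangeOfRings CategoryTheory

set_option backward.isDefEq.respectTransparency false in
theorem extendScalars_map_epi_iff {R S : Type u} [CommRing R] [CommRing S] (f : R →+* S)
    {M M' : ModuleCat.{u} R} (g : M ⟶ M') :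
    Epi ((ModuleCat.extendScalars f).map g) ↔
      letI := f.toAlgebra
      Function.Surjective (g.hom.rTensor S) := by
  letI := f.toAlgebra
  rw [ModuleCat.epi_iff_surjective]
  have key : ∀ z : S ⊗[R] M, (TensorProduct.comm R S M') (g.hom.lTensor S z) =
      g.hom.rTensor S (TensorProduct.comm R S M z) := by
    intro z
    induction z using TensorProduct.induction_on with
    | zero => simp
    | tmul s x => simp
    | add z₁ z₂ h₁ h₂ => simp only [map_add, h₁, h₂]
  have e : ∀ z : S ⊗[R] M, ((ModuleCat.extendScalars f).map g).hom z = g.hom.lTensor S z := by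
    intro z
    rfl
  constructor
  · intro hs z
    obtain ⟨w, hw⟩ := hs ((TensorProduct.comm R S M').symm z)
    refine ⟨TensorProduct.comm R S M w, ?_⟩
    rw [← key, ← e, hw, LinearEquiv.apply_symm_apply]
  · intro hs z
    obtain ⟨w, hw⟩ := hs (TensorProduct.comm R S M' z)
    refine ⟨(TensorProduct.comm R S M).symm w, ?_⟩
    apply (TensorProduct.comm R S M').injective
    rw [e, key, LinearEquiv.apply_symm_apply, hw]

end bridge

end Groth.Agent.Lead.ModDict
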