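import Groth.Agent.Lead.ModDict5
import Groth.Agent.Lead.ModDict7
open CategoryTheory Limits AlgebraicGeometry TensorProduct

namespace Groth.Agent.Lead.ModDict
universe u

namespace Stage
variable {I : Type u} [SmallCategory I] [IsCofiltered I] (D : I ⥤ Scheme.{u}) (c : Cone D) (i₀ : I)
  [∀ {i j : I} (f : i ⟶ j), IsAffineHom (D.map f)] (U : (D.obj i₀).Opens)

/-- the base ring -/
abbrev A : Type u := Γ(D.obj i₀, U)
/-- the limit ring -/
abbrev B : Type u := Γ(c.pt, c.π.app i₀ ⁻¹ᵁ U)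
/-- the stage rings -/
abbrev Bj (j : Over i₀) : Type u := Γ(D.obj j.left, D.map j.hom ⁻¹ᵁ U)

/-- the algebra structure on the limit ring -/
@[reducible] noncomputable def algB : Algebra (A D i₀ U) (B D c i₀ U) :=
  ((c.π.app i₀).app U).hom.toAlgebra

/-- the algebra structure on the stage rings -/
@[reducible] noncomputable def algBj (j : Over i₀) : Algebra (A D i₀ U) (Bj D i₀ U j) :=
  ((D.map j.hom).app U).hom.toAlgebra

attribute [local instance] algB algBj

/-- the projections -/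
noncomputable def p (j : Over i₀) : Bj D i₀ U j →ₐ[A D i₀ U] B D c i₀ U :=
  { ((c.π.app j.left).appLE _ _ (le_lim D c i₀ U j)).hom with
    commutes' := fun a => by
      change ((D.map j.hom).app U ≫ (c.π.app j.left).appLE _ _ (le_lim D c i₀ U j)) a =
        (c.π.app i₀).app U a
      rw [app_appLE_of_eq (c.w j.hom)] }

/-- the transition maps -/
noncomputable def tr {j j' : Over i₀} (g : j' ⟶ j) : Bj D i₀ U j →ₐ[A D i₀ U] Bj D i₀ U j' :=
  { ((D.map g.left).appLE _ _ (le_tr D i₀ U g)).hom with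
    commutes' := fun a => by
      change ((D.map j.hom).app U ≫ (D.map g.left).appLE _ _ (le_tr D i₀ U g)) a =
        (D.map j'.hom).app U a
      rw [app_appLE_of_eq (by rw [← D.map_comp, Over.w g])] }

/-- the allowed transitions -/
def T (j j' : Over i₀) (t : Bj D i₀ U j →ₐ[A D i₀ U] Bj D i₀ U j') : Prop :=
  ∃ g : j' ⟶ j, t = tr D i₀ U g

theorem compat {j j' : Over i₀} (g : j' ⟶ j) :
    (p D c i₀ U j').comp (tr D i₀ U g) = p D c i₀ U j := by
  refine AlgHom.ext fun b => ?_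
  change ((D.map g.left).appLE _ _ (le_tr D i₀ U g) ≫
    (c.π.app j'.left).appLE _ _ (le_lim D c i₀ U j')) b = (c.π.app j.left).appLE _ _ _ b
  rw [appLE_appLE_of_eq (c.w g.left)]

variable {U} in
theorem isStageSystem
    (hc : IsLimit c) (hU : IsAffineOpen U) :
    IsStageSystem (Bj D i₀ U) (p D c i₀ U) (T D i₀ U) := by
  refine ⟨?_, ?_, ?_, ?_⟩
  · rintro j j' _ ⟨g, rfl⟩
    exact compat D c i₀ U g
  · rintro j j' j'' _ _ ⟨g, rfl⟩ ⟨g', rfl⟩
    refine ⟨g' ≫ g, AlgHom.ext fun b => ?_⟩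
    change ((D.map g.left).appLE _ _ (le_tr D i₀ U g) ≫
      (D.map g'.left).appLE _ _ (le_tr D i₀ U g')) b = (D.map (g' ≫ g).left).appLE _ _ _ b
    rw [appLE_appLE_of_eq (h := D.map (g' ≫ g).left) (by rw [Over.comp_left, D.map_comp])]
  · intro j b
    obtain ⟨j₁, t₁, ht₁⟩ := exists_lift D c hc i₀ hU b
    refine ⟨IsCofiltered.min j j₁, tr D i₀ U (IsCofiltered.minToLeft j j₁), ⟨_, rfl⟩,
      tr D i₀ U (IsCofiltered.minToRight j j₁) t₁, ?_⟩
    rw [← AlgHom.comp_apply, compat]
    exact ht₁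
  · intro j b hb
    obtain ⟨j', g, hg⟩ := exists_kill D c hc i₀ hU j b hb
    exact ⟨j', tr D i₀ U g, ⟨g, rfl⟩, hg⟩

end Stage

section limit
variable {I : Type u} [SmallCategory I] [IsCofiltered I] (D : I ⥤ Scheme.{u}) (c : Cone D)
  (hc : IsLimit c) [∀ {i j : I} (f : i ⟶ j), IsAffineHom (D.map f)] (i₀ : I)
  {U : (D.obj i₀).Opens} (hU : IsAffineOpen U)

attribute [local instance] Stage.algB Stage.algBj

include hc hU in
/-- if the base change to the limit of a linear map into a finite module is an epimorphism, then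
so are the base changes to all sufficiently late stages -/
theorem extendScalars_epi_stage {M N : ModuleCat.{u} Γ(D.obj i₀, U)}
    [Module.Finite Γ(D.obj i₀, U) N] (m : M ⟶ N)
    (hm : Epi ((ModuleCat.extendScalars.{u, u, u} ((c.π.app i₀).app U).hom).map m)) :
    ∃ j : Over i₀, ∀ (j' : Over i₀) (_ : j' ⟶ j),
      Epi ((ModuleCat.extendScalars.{u, u, u} ((D.map j'.hom).app U).hom).map m) := by
  rw [extendScalars_map_epi_iff] at hm
  obtain ⟨j', t, -, H⟩ := rTensor_surjective_stage (Stage.isStageSystem D c i₀ hc hU) m.hom hm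
    (Over.mk (𝟙 i₀))
  refine ⟨j', fun j'' g' => ?_⟩
  rw [extendScalars_map_epi_iff]
  exact H j'' (Stage.tr D i₀ U g') ⟨g', rfl⟩

end limit

end Groth.Agent.Lead.ModDict
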