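import Groth.Agent.Lead.ModDict6
import Groth.Agent.Lead.ModDict8
open CategoryTheory Limits AlgebraicGeometry TensorProduct

namespace Groth.Agent.Lead.ModDict
universe u
open Scheme.Modules

section square
variable {X Y : Scheme.{u}} (f : X ⟶ Y) {U : Y.Opens} (hU : IsAffineOpen U)
  {F G : Y.Modules} [F.IsQuasicoherent] [G.IsQuasicoherent] (δ : F ⟶ G)

instance (j : X ⟶ Y) [IsOpenImmersion j] : (restrictFunctor j).PreservesEpimorphisms :=
  Functor.preservesEpimorphisms.of_iso (restrictFunctorIsoPullback j).symm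

theorem tilde_map_epi_iff {R : CommRingCat.{u}} {M N : ModuleCat.{u} R} (x : M ⟶ N) :
    Epi ((tilde.functor R).map x) ↔ Epi x :=
  ⟨fun _ => (tilde.functor R).epi_of_epi_map ‹_›, fun _ => inferInstance⟩

theorem resF_pullback_epi_iff (hV : IsAffineOpen (f ⁻¹ᵁ U)) :
    Epi ((resF hV).map ((Scheme.Modules.pullback f).map δ)) ↔
      Epi ((ModuleCat.extendScalars.{u, u, u} (f.app U).hom).map ((secF hU).map δ)) := by
  rw [epi_iff_of_arrowIso (arrowIsoPullback f hU hV le_rfl δ), tilde_map_epi_iff,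
    Scheme.Hom.app_eq_appLE]

end square

section limit
variable {I : Type u} [SmallCategory I] [IsCofiltered I] (D : I ⥤ Scheme.{u}) (c : Cone D)
  (hc : IsLimit c) [∀ {i j : I} (f : i ⟶ j), IsAffineHom (D.map f)] (i₀ : I)
  {F G : (D.obj i₀).Modules} [F.IsQuasicoherent] [G.IsQuasicoherent]
  (hG : SheafOfModules.IsFiniteType (R := (D.obj i₀).ringCatSheaf) G) (δ : F ⟶ G)

include hc hG in
theorem local_epi_stage (hδ : Epi ((Scheme.Modules.pullback (c.π.app i₀)).map δ))
    {U : (D.obj i₀).Opens} (hU : IsAffineOpen U) :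
    ∃ j : Over i₀, ∀ (j' : Over i₀) (_ : j' ⟶ j),
      Epi ((resF (hU.preimage (D.map j'.hom))).map
        ((Scheme.Modules.pullback (D.map j'.hom)).map δ)) := by
  haveI := isAffineHom_π_app D c hc i₀
  haveI := finite_secF hU G hG
  have h1 : Epi ((resF (hU.preimage (c.π.app i₀))).map
      ((Scheme.Modules.pullback (c.π.app i₀)).map δ)) := inferInstance
  rw [resF_pullback_epi_iff] at h1
  obtain ⟨j, hj⟩ := extendScalars_epi_stage D c hc i₀ hU _ h1
  refine ⟨j, fun j' g => ?_⟩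
  rw [resF_pullback_epi_iff]
  exact hj j' g

include hc hG in
theorem epi_stage [CompactSpace (D.obj i₀)]
    (hδ : Epi ((Scheme.Modules.pullback (c.π.app i₀)).map δ)) :
    ∃ (j : I) (φ : j ⟶ i₀), Epi ((Scheme.Modules.pullback (D.map φ)).map δ) := by
  classical
  have hx : ∀ x : D.obj i₀, ∃ (U : (D.obj i₀).Opens), IsAffineOpen U ∧ x ∈ U := by
    intro x
    obtain ⟨_, ⟨U, hU : IsAffineOpen U, rfl⟩, hxU, -⟩ :=
      (D.obj i₀).isBasis_affineOpens.exists_subset_of_mem_open (Set.mem_univ x) isOpen_univ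
    exact ⟨U, hU, hxU⟩
  choose U hU hxU using hx
  obtain ⟨t, ht⟩ := CompactSpace.elim_nhds_subcover (fun x => (U x : Set (D.obj i₀)))
    (fun x ↦ (U x).2.mem_nhds (hxU x))
  choose j hj using fun x => local_epi_stage D c hc i₀ hG δ hδ (hU x)
  obtain ⟨S, hS⟩ := IsCofiltered.inf_objs_exists (t.image j)
  refine ⟨S.left, S.hom, ?_⟩
  refine epi_of_restrict _ (ι := t) (fun x => Spec Γ(D.obj S.left, D.map S.hom ⁻¹ᵁ U x.1))
    (fun x => ((hU x.1).preimage (D.map S.hom)).fromSpec) ?_ ?_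
  · intro y
    obtain ⟨x, hxt, hyx⟩ := Set.mem_iUnion₂.mp (ht.ge (Set.mem_univ ((D.map S.hom).base y)))
    refine ⟨⟨x, hxt⟩, ?_⟩
    rw [IsAffineOpen.range_fromSpec]
    exact hyx
  · intro x
    exact hj x.1 S (hS (Finset.mem_image_of_mem _ x.2)).some

include hc hG in
theorem epi_iff_eventually [CompactSpace (D.obj i₀)] :
    Epi ((Scheme.Modules.pullback (c.π.app i₀)).map δ) ↔
      ∃ (j : I) (φ : j ⟶ i₀), Epi ((Scheme.Modules.pullback (D.map φ)).map δ) := by
  constructor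
  · exact epi_stage D c hc i₀ hG δ
  · rintro ⟨j, φ, h⟩
    rw [← epi_iff_of_arrowIso (arrowIsoOfNatIso (pullbackπIso D c i₀ φ) δ)]
    change Epi ((Scheme.Modules.pullback (c.π.app j)).map
      ((Scheme.Modules.pullback (D.map φ)).map δ))
    infer_instance

end limit

end Groth.Agent.Lead.ModDict
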