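import Mathlib
import Groth.Agent.Lead.FpqcSheaf2
import Groth.Agent.Lead.ModDict19
import Groth.Agent.Helper4.FTGlue
import Groth.Agent.Helper4.FPGlue
import Groth.Agent.Helper4.SecDict
import Groth.Prelude.Def_AlgSpRep
import Groth.Agent.Lead.ModDict9
import Groth.Agent.Lead.ModDict6
import Groth.Agent.Lead.ModDict12

set_option autoImplicit false
universe u
open CategoryTheory CategoryTheory.Limits AlgebraicGeometry TopologicalSpace Opposite

namespace Groth.Agent.Lead.LimPres
open Groth.Agent.Lead.ModDict Scheme.Modules Groth.Agent.Helper4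

section PullFT
variable {X' X : Scheme.{u}} (g : X' ⟶ X) (G : X.Modules) [G.IsQuasicoherent]

set_option backward.isDefEq.respectTransparency false in
theorem isFT_pullback (hG : CohB1.IsFT G) : CohB1.IsFT ((Scheme.Modules.pullback g).obj G) := by
  haveI := StalkPull.isQuasicoherent_pullbackObj g G
  apply FTGlue.isFiniteType_of_finite_sections
  intro x'
  obtain ⟨U, hU, hx⟩ := QcohLimits.exists_affine_nhd (g x')
  obtain ⟨_, ⟨V, hV, rfl⟩, hxV, hVU⟩ := X'.isBasis_affineOpens.exists_subset_of_mem_open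
    (show x' ∈ ((g ⁻¹ᵁ U : X'.Opens) : Set X') from hx) (g ⁻¹ᵁ U).isOpen
  have e : V ≤ g ⁻¹ᵁ U := hVU
  refine ⟨V, hV, hxV, ?_⟩
  haveI h1 : Module.Finite Γ(X, U) Γ(G, U) := SecDict.finite_sections hU G inferInstance hG
  haveI h2 : Module.Finite Γ(X, U) ((secF hU).obj G) :=
    Module.Finite.equiv (SecDict.sectionsEquiv hU G)
  letI : Algebra Γ(X, U) Γ(X', V) := (g.appLE U V e).hom.toAlgebra
  have h3 : Module.Finite Γ(X', V) (TensorProduct Γ(X, U) Γ(X', V) ((secF hU).obj G)) :=
    inferInstance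
  haveI h3' : Module.Finite Γ(X', V)
      ↑((ModuleCat.extendScalars (g.appLE U V e).hom).obj ((secF hU).obj G)) := h3
  have h4 : Module.Finite Γ(X', V) ((secF hV).obj ((Scheme.Modules.pullback g).obj G)) :=
    Module.Finite.equiv (secFPullbackIso g hU hV e G).toLinearEquiv.symm
  haveI h4' : Module.Finite Γ(X', V)
      ↑(moduleSpecΓFunctor.obj (((Scheme.Modules.pullback g).obj G).restrict hV.fromSpec)) := h4
  exact Module.Finite.equiv (SecDict.sectionsEquiv hV _).symm

set_option backward.isDefEq.respectTransparency false in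
theorem isFP_pullback (hG : CohB1.IsFP G) : CohB1.IsFP ((Scheme.Modules.pullback g).obj G) := by
  haveI := StalkPull.isQuasicoherent_pullbackObj g G
  apply FPGlue.isFinitePresentation_of_fp_sections
  intro x'
  obtain ⟨U, hU, hx⟩ := QcohLimits.exists_affine_nhd (g x')
  obtain ⟨_, ⟨V, hV, rfl⟩, hxV, hVU⟩ := X'.isBasis_affineOpens.exists_subset_of_mem_open
    (show x' ∈ ((g ⁻¹ᵁ U : X'.Opens) : Set X') from hx) (g ⁻¹ᵁ U).isOpen
  have e : V ≤ g ⁻¹ᵁ U := hVU
  refine ⟨V, hV, hxV, ?_⟩
  haveI h1 : Module.FinitePresentation Γ(X, U) Γ(G, U) := FPGlue.fp_sections G hG hU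
  haveI h2 : Module.FinitePresentation Γ(X, U) ((secF hU).obj G) :=
    Module.FinitePresentation.of_equiv (SecDict.sectionsEquiv hU G)
  letI : Algebra Γ(X, U) Γ(X', V) := (g.appLE U V e).hom.toAlgebra
  have h3 : Module.FinitePresentation Γ(X', V)
      (TensorProduct Γ(X, U) Γ(X', V) ((secF hU).obj G)) := inferInstance
  haveI h3' : Module.FinitePresentation Γ(X', V)
      ↑((ModuleCat.extendScalars (g.appLE U V e).hom).obj ((secF hU).obj G)) := h3
  have h4 : Module.FinitePresentation Γ(X', V)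
      ((secF hV).obj ((Scheme.Modules.pullback g).obj G)) :=
    Module.FinitePresentation.of_equiv (secFPullbackIso g hU hV e G).toLinearEquiv.symm
  haveI h4' : Module.FinitePresentation Γ(X', V)
      ↑(moduleSpecΓFunctor.obj (((Scheme.Modules.pullback g).obj G).restrict hV.fromSpec)) := h4
  exact Module.FinitePresentation.of_equiv (SecDict.sectionsEquiv hV _).symm

end PullFT

section Generic
variable {S : Scheme.{u}}

/-- a stable condition `P` which descends to a finite stage of every cofiltered limit of affines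
gives a limit preserving `genPSp` -/
theorem isLimitPreserving_genPSp (P : Over S → Prop)
    (hstab : ∀ ⦃T T₀ : Over S⦄ (_ : T ⟶ T₀), P T₀ → P T)
    (hlim : ∀ ⦃I : Type u⦄ [SmallCategory I] [IsCofiltered I] (D : I ⥤ Over S) (c : Cone D),
      IsLimit ((Over.forget S).mapCone c) → (∀ i, IsAffine (D.obj i).left) → IsAffine c.pt.left →
      P c.pt → ∃ i, P (D.obj i)) :
    AlgSp.IsLimitPreserving (FlatFun.genPSp S P) := by
  intro I _ _ D c hc hD hT
  refine ⟨Types.FilteredColimit.isColimitOf _ _ ?_ ?_⟩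
  · intro x
    have hP : P c.pt := (FlatFun.genPSp_nonempty_iff_of_stable P hstab c.pt).mp ⟨x⟩
    obtain ⟨i, hi⟩ := hlim D c hc hD hT hP
    obtain ⟨xi⟩ := FlatFun.genPSp_nonempty_of P hi
    exact ⟨op i, xi, (FlatFun.genPSp_subsingleton S P (op c.pt)).elim _ _⟩
  · intro i j xi xj _
    exact ⟨IsFiltered.max i j, IsFiltered.leftToMax i j, IsFiltered.rightToMax i j,
      (FlatFun.genPSp_subsingleton S P (op (D.obj (IsFiltered.max i j).unop))).elim _ _⟩

end Generic

section Diagram
variable {X S : Scheme.{u}} (f : X ⟶ S)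

theorem XTmap_fst {T T' : Over S} (k : T' ⟶ T) :
    PicF.XTmap f k ≫ pullback.fst f T.hom = pullback.fst f T'.hom := by
  unfold PicF.XTmap
  rw [pullback.lift_fst, Category.comp_id]

theorem XTmap_snd {T T' : Over S} (k : T' ⟶ T) :
    PicF.XTmap f k ≫ pullback.snd f T.hom = pullback.snd f T'.hom ≫ k.left := by
  unfold PicF.XTmap
  rw [pullback.lift_snd]

theorem XTmap_id (T : Over S) : PicF.XTmap f (𝟙 T) = 𝟙 (pullback f T.hom) := by
  apply pullback.hom_ext
  · rw [XTmap_fst, Category.id_comp]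
  · rw [XTmap_snd, Category.id_comp, Over.id_left, Category.comp_id]

theorem XTmap_comp {T T' T'' : Over S} (k' : T'' ⟶ T') (k : T' ⟶ T) :
    PicF.XTmap f (k' ≫ k) = PicF.XTmap f k' ≫ PicF.XTmap f k := by
  apply pullback.hom_ext
  · rw [XTmap_fst, Category.assoc, XTmap_fst, XTmap_fst]
  · rw [XTmap_snd, Category.assoc, XTmap_snd, ← Category.assoc, XTmap_snd, Category.assoc,
      Over.comp_left]

theorem isPullback_XTmap {T T' : Over S} (k : T' ⟶ T) :
    IsPullback (PicF.XTmap f k) (pullback.snd f T'.hom) (pullback.snd f T.hom) k.left := by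
  refine IsPullback.of_right ?_ (XTmap_snd f k) (IsPullback.of_hasPullback f T.hom)
  rw [XTmap_fst]
  have hw : k.left ≫ T.hom = T'.hom := Over.w k
  rw [hw]
  exact IsPullback.of_hasPullback f T'.hom

variable {I : Type u} [SmallCategory I] (D : I ⥤ Over S)

/-- the diagram `i ↦ X ×_S T_i` -/
noncomputable def XD : I ⥤ Scheme.{u} where
  obj i := pullback f (D.obj i).hom
  map φ := PicF.XTmap f (D.map φ)
  map_id i := by rw [D.map_id, XTmap_id]
  map_comp φ ψ := by rw [D.map_comp, XTmap_comp]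

/-- the legs of a cone over `D`, with the expected type -/
def cπ (c : Cone D) (i : I) : c.pt ⟶ D.obj i := c.π.app i

theorem cπ_w (c : Cone D) {a b : I} (φ : a ⟶ b) : cπ D c a ≫ D.map φ = cπ D c b := c.w φ

/-- the cone `X ×_S T ⟶ X ×_S T_i` -/
noncomputable def XDcone (c : Cone D) : Cone (XD f D) where
  pt := pullback f c.pt.hom
  π :=
    { app := fun i => PicF.XTmap f (cπ D c i)
      naturality := fun i j φ => by
        change 𝟙 _ ≫ PicF.XTmap f (cπ D c j) = PicF.XTmap f (cπ D c i) ≫ PicF.XTmap f (D.map φ)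
        rw [Category.id_comp, ← XTmap_comp, cπ_w] }

theorem isAffineHom_XD_map (hD : ∀ i, IsAffine (D.obj i).left) {i j : I} (φ : i ⟶ j) :
    IsAffineHom ((XD f D).map φ) := by
  haveI := hD i
  haveI := hD j
  exact MorphismProperty.of_isPullback (P := @IsAffineHom) (isPullback_XTmap f (D.map φ)).flip
    inferInstance

theorem compactSpace_XD_obj [QuasiCompact f] (hD : ∀ i, IsAffine (D.obj i).left) (i : I) :
    CompactSpace ((XD f D).obj i) := by
  haveI := hD i
  have h1 : QuasiCompact (pullback.snd f (D.obj i).hom) :=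
    MorphismProperty.pullback_snd (P := @QuasiCompact) _ _ inferInstance
  have h2 : CompactSpace ↥(D.obj i).left := inferInstance
  exact @QuasiCompact.compactSpace_of_compactSpace _ _ (pullback.snd f (D.obj i).hom) h1 h2

section IsLim
variable [IsCofiltered I] (c : Cone D) (hc : IsLimit ((Over.forget S).mapCone c))

/-- the legs of a cone over `XD`, with the expected type -/
noncomputable def sπ (s : Cone (XD f D)) (i : I) : s.pt ⟶ pullback f (D.obj i).hom := s.π.app i

theorem sπ_w (s : Cone (XD f D)) {a b : I} (φ : a ⟶ b) :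
    sπ f D s a ≫ PicF.XTmap f (D.map φ) = sπ f D s b := s.w φ

theorem cone_fst_eq (s : Cone (XD f D)) (i j : I) :
    sπ f D s i ≫ pullback.fst f (D.obj i).hom = sπ f D s j ≫ pullback.fst f (D.obj j).hom := by
  have key : ∀ {a b : I} (φ : a ⟶ b),
      sπ f D s a ≫ pullback.fst f (D.obj a).hom = sπ f D s b ≫ pullback.fst f (D.obj b).hom := by
    intro a b φ
    rw [← sπ_w f D s φ, Category.assoc, XTmap_fst]
  rw [← key (IsCofiltered.minToLeft i j), ← key (IsCofiltered.minToRight i j)]

/-- the cone over `T_i` induced by a cone over `X ×_S T_i` -/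
noncomputable def sndCone (s : Cone (XD f D)) : Cone (D ⋙ Over.forget S) where
  pt := s.pt
  π :=
    { app := fun i => sπ f D s i ≫ pullback.snd f (D.obj i).hom
      naturality := fun i j φ => by
        change 𝟙 _ ≫ sπ f D s j ≫ pullback.snd f (D.obj j).hom =
          (sπ f D s i ≫ pullback.snd f (D.obj i).hom) ≫ (D.map φ).left
        rw [Category.id_comp, ← sπ_w f D s φ, Category.assoc, Category.assoc, XTmap_snd] }

/-- the induced map to `T`, with the expected type -/
noncomputable def lft (s : Cone (XD f D)) : s.pt ⟶ c.pt.left := hc.lift (sndCone f D s)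

theorem lft_fac (s : Cone (XD f D)) (i : I) :
    lft f D c hc s ≫ (cπ D c i).left = sπ f D s i ≫ pullback.snd f (D.obj i).hom :=
  hc.fac (sndCone f D s) i

theorem lft_uniq (s : Cone (XD f D)) (m : s.pt ⟶ c.pt.left)
    (h : ∀ i, m ≫ (cπ D c i).left = sπ f D s i ≫ pullback.snd f (D.obj i).hom) :
    m = lft f D c hc s :=
  hc.uniq (sndCone f D s) m h

theorem lift_cond (s : Cone (XD f D)) (i₀ : I) :
    (sπ f D s i₀ ≫ pullback.fst f (D.obj i₀).hom) ≫ f =
      lft f D c hc s ≫ c.pt.hom := by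
  have h2 : (cπ D c i₀).left ≫ (D.obj i₀).hom = c.pt.hom := Over.w (cπ D c i₀)
  rw [← h2, ← Category.assoc, lft_fac f D c hc s i₀, Category.assoc, Category.assoc,
    pullback.condition]

/-- the lift -/
noncomputable def XDlift (s : Cone (XD f D)) : s.pt ⟶ pullback f c.pt.hom :=
  pullback.lift (sπ f D s (IsCofiltered.nonempty (C := I)).some ≫ pullback.fst f _)
    (lft f D c hc s) (lift_cond f D c hc s _)

theorem XDlift_fac (s : Cone (XD f D)) (i : I) :
    XDlift f D c hc s ≫ PicF.XTmap f (cπ D c i) = sπ f D s i := by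
  unfold XDlift
  apply pullback.hom_ext
  · rw [Category.assoc, XTmap_fst, pullback.lift_fst]
    exact cone_fst_eq f D s _ _
  · rw [Category.assoc, XTmap_snd, ← Category.assoc, pullback.lift_snd]
    exact lft_fac f D c hc s i

theorem XDlift_uniq (s : Cone (XD f D)) (m : s.pt ⟶ pullback f c.pt.hom)
    (hm : ∀ i, m ≫ PicF.XTmap f (cπ D c i) = sπ f D s i) : m = XDlift f D c hc s := by
  unfold XDlift
  apply pullback.hom_ext
  · rw [pullback.lift_fst, ← hm, Category.assoc, XTmap_fst]
  · rw [pullback.lift_snd]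
    apply lft_uniq f D c hc s (m ≫ pullback.snd f c.pt.hom)
    intro i
    rw [← hm i, Category.assoc, Category.assoc, XTmap_snd]

/-- `X ×_S T` is the limit of the `X ×_S T_i` -/
noncomputable def XDconeIsLimit : IsLimit (XDcone f D c) where
  lift s := XDlift f D c hc s
  fac s i := XDlift_fac f D c hc s i
  uniq s m hm := XDlift_uniq f D c hc s m hm

end IsLim

end Diagram

section Main
variable {X S : Scheme.{u}} (f : X ⟶ S) [QuasiCompact f] {F G : X.Modules} [Coh.IsQCoh F]
  [Coh.IsQCoh G] (u : F ⟶ G)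

open Groth.Agent.Lead.FpqcSheaf in
/-- S9018 -/
theorem main_epi (hG : CohB1.IsFT G) :
    AlgSp.IsLimitPreserving (FlatFun.genPSp S
      (fun T => Epi ((Scheme.Modules.pullback (pullback.fst f T.hom)).map u))) := by
  haveI : F.IsQuasicoherent := ‹Coh.IsQCoh F›
  haveI : G.IsQuasicoherent := ‹Coh.IsQCoh G›
  apply isLimitPreserving_genPSp
  · intro T T₀ k hk
    rw [← epi_iff_of_arrowIso (arrowIsoOfNatIso (Φ' f k) u), Functor.comp_map]
    haveI := hk
    infer_instance
  · intro I _ _ D c hc hD hT hP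
    obtain ⟨i₀⟩ := IsCofiltered.nonempty (C := I)
    haveI hA : ∀ {i j : I} (φ : i ⟶ j), IsAffineHom ((XD f D).map φ) :=
      fun φ => isAffineHom_XD_map f D hD φ
    haveI : CompactSpace ((XD f D).obj i₀) := compactSpace_XD_obj f D hD i₀
    let F₀ : ((XD f D).obj i₀).Modules :=
      (Scheme.Modules.pullback (pullback.fst f (D.obj i₀).hom)).obj F
    let G₀ : ((XD f D).obj i₀).Modules :=
      (Scheme.Modules.pullback (pullback.fst f (D.obj i₀).hom)).obj G
    let u₀ : F₀ ⟶ G₀ := (Scheme.Modules.pullback (pullback.fst f (D.obj i₀).hom)).map u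
    haveI : F₀.IsQuasicoherent := StalkPull.isQuasicoherent_pullbackObj _ F
    haveI : G₀.IsQuasicoherent := StalkPull.isQuasicoherent_pullbackObj _ G
    have hG₀ : SheafOfModules.IsFiniteType (R := ((XD f D).obj i₀).ringCatSheaf) G₀ :=
      isFT_pullback _ G hG
    have h0 : Epi ((Scheme.Modules.pullback ((XDcone f D c).π.app i₀)).map u₀) := by
      have h1 : Epi ((Scheme.Modules.pullback (pullback.fst f c.pt.hom)).map u) := hP
      rw [← epi_iff_of_arrowIso (arrowIsoOfNatIso (Φ' f (cπ D c i₀)) u), Functor.comp_map] at h1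
      exact h1
    obtain ⟨j, φ, hj⟩ := (epi_iff_eventually (XD f D) (XDcone f D c) (XDconeIsLimit f D c hc) i₀
      hG₀ u₀).mp h0
    refine ⟨j, ?_⟩
    change Epi ((Scheme.Modules.pullback (pullback.fst f (D.obj j).hom)).map u)
    rw [← epi_iff_of_arrowIso (arrowIsoOfNatIso (Φ' f (D.map φ)) u), Functor.comp_map]
    exact hj

open Groth.Agent.Lead.FpqcSheaf in
/-- S9019 -/
theorem main_zero (hF : CohB1.IsFT F) :
    AlgSp.IsLimitPreserving (FlatFun.genPSp S
      (fun T => ((Scheme.Modules.pullback (pullback.fst f T.hom)).map u) = 0)) := by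
  haveI : F.IsQuasicoherent := ‹Coh.IsQCoh F›
  haveI : G.IsQuasicoherent := ‹Coh.IsQCoh G›
  apply isLimitPreserving_genPSp
  · intro T T₀ k hk
    rw [← eq_zero_iff_of_arrowIso (arrowIsoOfNatIso (Φ' f k) u), Functor.comp_map, hk,
      Functor.map_zero]
  · intro I _ _ D c hc hD hT hP
    obtain ⟨i₀⟩ := IsCofiltered.nonempty (C := I)
    haveI hA : ∀ {i j : I} (φ : i ⟶ j), IsAffineHom ((XD f D).map φ) :=
      fun φ => isAffineHom_XD_map f D hD φ
    haveI : CompactSpace ((XD f D).obj i₀) := compactSpace_XD_obj f D hD i₀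
    let F₀ : ((XD f D).obj i₀).Modules :=
      (Scheme.Modules.pullback (pullback.fst f (D.obj i₀).hom)).obj F
    let G₀ : ((XD f D).obj i₀).Modules :=
      (Scheme.Modules.pullback (pullback.fst f (D.obj i₀).hom)).obj G
    let u₀ : F₀ ⟶ G₀ := (Scheme.Modules.pullback (pullback.fst f (D.obj i₀).hom)).map u
    haveI : F₀.IsQuasicoherent := StalkPull.isQuasicoherent_pullbackObj _ F
    haveI : G₀.IsQuasicoherent := StalkPull.isQuasicoherent_pullbackObj _ G
    have hF₀ : SheafOfModules.IsFiniteType (R := ((XD f D).obj i₀).ringCatSheaf) F₀ :=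
      isFT_pullback _ F hF
    have h0 : (Scheme.Modules.pullback ((XDcone f D c).π.app i₀)).map u₀ = 0 := by
      have h1 : (Scheme.Modules.pullback (pullback.fst f c.pt.hom)).map u = 0 := hP
      rw [← eq_zero_iff_of_arrowIso (arrowIsoOfNatIso (Φ' f (cπ D c i₀)) u), Functor.comp_map] at h1
      exact h1
    obtain ⟨j, φ, hj⟩ := eq_zero_stage (XD f D) (XDcone f D c) (XDconeIsLimit f D c hc) i₀
      hF₀ u₀ h0
    refine ⟨j, ?_⟩
    change (Scheme.Modules.pullback (pullback.fst f (D.obj j).hom)).map u = 0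
    rw [← eq_zero_iff_of_arrowIso (arrowIsoOfNatIso (Φ' f (D.map φ)) u), Functor.comp_map]
    exact hj

open Groth.Agent.Lead.FpqcSheaf in
/-- S9020 -/
theorem main_iso (hF : CohB1.IsFT F) (hG : CohB1.IsFP G) :
    AlgSp.IsLimitPreserving (FlatFun.genPSp S
      (fun T => IsIso ((Scheme.Modules.pullback (pullback.fst f T.hom)).map u))) := by
  haveI : F.IsQuasicoherent := ‹Coh.IsQCoh F›
  haveI : G.IsQuasicoherent := ‹Coh.IsQCoh G›
  apply isLimitPreserving_genPSp
  · intro T T₀ k hk
    rw [← isIso_iff_of_arrowIso (arrowIsoOfNatIso (Φ' f k) u), Functor.comp_map]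
    haveI := hk
    infer_instance
  · intro I _ _ D c hc hD hT hP
    obtain ⟨i₀⟩ := IsCofiltered.nonempty (C := I)
    haveI hA : ∀ {i j : I} (φ : i ⟶ j), IsAffineHom ((XD f D).map φ) :=
      fun φ => isAffineHom_XD_map f D hD φ
    haveI : CompactSpace ((XD f D).obj i₀) := compactSpace_XD_obj f D hD i₀
    let F₀ : ((XD f D).obj i₀).Modules :=
      (Scheme.Modules.pullback (pullback.fst f (D.obj i₀).hom)).obj F
    let G₀ : ((XD f D).obj i₀).Modules :=
      (Scheme.Modules.pullback (pullback.fst f (D.obj i₀).hom)).obj G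
    let u₀ : F₀ ⟶ G₀ := (Scheme.Modules.pullback (pullback.fst f (D.obj i₀).hom)).map u
    haveI : F₀.IsQuasicoherent := StalkPull.isQuasicoherent_pullbackObj _ F
    haveI : G₀.IsQuasicoherent := StalkPull.isQuasicoherent_pullbackObj _ G
    have hF₀ : SheafOfModules.IsFiniteType (R := ((XD f D).obj i₀).ringCatSheaf) F₀ :=
      isFT_pullback _ F hF
    have hG₀ : SheafOfModules.IsFinitePresentation (R := ((XD f D).obj i₀).ringCatSheaf) G₀ :=
      isFP_pullback _ G hG
    have h0 : IsIso ((Scheme.Modules.pullback ((XDcone f D c).π.app i₀)).map u₀) := by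
      have h1 : IsIso ((Scheme.Modules.pullback (pullback.fst f c.pt.hom)).map u) := hP
      rw [← isIso_iff_of_arrowIso (arrowIsoOfNatIso (Φ' f (cπ D c i₀)) u), Functor.comp_map] at h1
      exact h1
    obtain ⟨j, φ, hj⟩ := (isIso_iff_eventually (XD f D) (XDcone f D c) (XDconeIsLimit f D c hc) i₀
      hF₀ hG₀ u₀).mp h0
    refine ⟨j, ?_⟩
    change IsIso ((Scheme.Modules.pullback (pullback.fst f (D.obj j).hom)).map u)
    rw [← isIso_iff_of_arrowIso (arrowIsoOfNatIso (Φ' f (D.map φ)) u), Functor.comp_map]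
    exact hj

end Main

end Groth.Agent.Lead.LimPres
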