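import Mathlib
import Groth.Prelude.Def_CohTop
import Groth.Agent.Lead.CohTopB

namespace Groth.Agent.Lead.CohTopB
open CategoryTheory TopologicalSpace Opposite Limits Abelian
universe u
variable {X : TopCat.{u}}

lemma isFlasque_of_iso {F G : CohTop.Ab X} (e : F ≅ G) [hF : TopCat.Sheaf.IsFlasque F] :
    TopCat.Sheaf.IsFlasque G where
  epi {U V} i := by
    have h : G.obj.map i = e.inv.hom.app U ≫ F.obj.map i ≫ e.hom.hom.app V := by
      rw [← e.inv.hom.naturality_assoc i]
      have : e.inv.hom.app V ≫ e.hom.hom.app V = 𝟙 _ := by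
        rw [← NatTrans.comp_app, ← ObjectProperty.FullSubcategory.comp_hom, e.inv_hom_id]
        rfl
      rw [this, Category.comp_id]
    rw [h]
    have h1 : IsIso (e.inv.hom.app U) :=
      ⟨e.hom.hom.app U, by
        rw [← NatTrans.comp_app, ← ObjectProperty.FullSubcategory.comp_hom, e.inv_hom_id]; rfl, by
        rw [← NatTrans.comp_app, ← ObjectProperty.FullSubcategory.comp_hom, e.hom_inv_id]; rfl⟩
    have h2 : IsIso (e.hom.hom.app V) :=
      ⟨e.inv.hom.app V, by
        rw [← NatTrans.comp_app, ← ObjectProperty.FullSubcategory.comp_hom, e.hom_inv_id]; rfl, by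
        rw [← NatTrans.comp_app, ← ObjectProperty.FullSubcategory.comp_hom, e.inv_hom_id]; rfl⟩
    have h3 : Epi (F.obj.map i) := hF.epi i
    infer_instance

section
variable {F : CohTop.Ab X} (I : InjectiveResolution F)

/-- the short complex `ker dⁿ → Iⁿ → ker dⁿ⁺¹` -/
noncomputable def kerSC (n : ℕ) : ShortComplex (CohTop.Ab X) :=
  ShortComplex.mk (kernel.ι (I.cocomplex.d n (n + 1)))
    (kernel.lift (I.cocomplex.d (n + 1) (n + 2)) (I.cocomplex.d n (n + 1)) (by simp))
    (by rw [← cancel_mono (kernel.ι (I.cocomplex.d (n + 1) (n + 2))), Category.assoc,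
      kernel.lift_ι, kernel.condition, zero_comp])

lemma kerSC_shortExact (n : ℕ) : (kerSC I n).ShortExact where
  exact := by
    apply ShortComplex.exact_of_f_is_kernel
    exact isKernelOfComp (kernel.ι (I.cocomplex.d (n + 1) (n + 2))) (I.cocomplex.d n (n + 1))
      (kernelIsKernel (I.cocomplex.d n (n + 1))) (kerSC I n).zero
      (by dsimp [kerSC]; rw [kernel.lift_ι])
  mono_f := by dsimp [kerSC]; infer_instance
  epi_g := by
    have := (I.exact_succ n).epi_kernelLift
    exact this

lemma isFlasque_kernel [TopCat.Sheaf.IsFlasque F] (n : ℕ) :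
    TopCat.Sheaf.IsFlasque (kernel (I.cocomplex.d n (n + 1))) := by
  induction n with
  | zero =>
    have e : F ≅ kernel (I.cocomplex.d 0 1) :=
      (I.isLimitKernelFork.conePointUniqueUpToIso (limit.isLimit _))
    exact isFlasque_of_iso e
  | succ n ih =>
    have hS := kerSC_shortExact I n
    have h1 : TopCat.Sheaf.IsFlasque (kerSC I n).X₁ := ih
    have h2 : TopCat.Sheaf.IsFlasque (kerSC I n).X₂ := by
      dsimp [kerSC]; exact isFlasque_of_injective _
    exact TopCat.Sheaf.IsFlasque.of_shortExact_of_isFlasque₁₂ hS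

/-- sections of an injective resolution of a flasque sheaf form an exact complex in positive
degrees -/
theorem sections_exact [TopCat.Sheaf.IsFlasque F] (n : ℕ) (W : Opens X)
    (s : (I.cocomplex.X (n + 1)).obj.obj (op W))
    (hs : (I.cocomplex.d (n + 1) (n + 2)).hom.app (op W) s = 0) :
    ∃ t : (I.cocomplex.X n).obj.obj (op W), (I.cocomplex.d n (n + 1)).hom.app (op W) t = s := by
  -- lift `s` to the kernel
  let T : ShortComplex (CohTop.Ab X) :=
    ShortComplex.mk (kernel.ι (I.cocomplex.d (n + 1) (n + 2))) (I.cocomplex.d (n + 1) (n + 2))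
      (kernel.condition _)
  have hT : T.Exact := ShortComplex.exact_of_f_is_kernel _ (kernelIsKernel _)
  have hTm : Mono T.f := by dsimp [T]; infer_instance
  obtain ⟨z, hz⟩ := TopCat.Sheaf.sections_exact_of_left_exact hT hTm s hs
  have hS := kerSC_shortExact I n
  have h1 : TopCat.Sheaf.IsFlasque (kerSC I n).X₁ := isFlasque_kernel I n
  have hepi : Epi ((kerSC I n).g.1.app (op W)) := TopCat.Sheaf.IsFlasque.epi_of_shortExact hS
  rw [AddCommGrpCat.epi_iff_surjective] at hepi
  obtain ⟨t, ht⟩ := hepi z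
  refine ⟨t, ?_⟩
  rw [← hz, ← ht]
  have : (kerSC I n).g ≫ T.f = I.cocomplex.d n (n + 1) := by
    dsimp [kerSC, T]; rw [kernel.lift_ι]
  rw [← this]
  rfl

end

end Groth.Agent.Lead.CohTopB
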