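import Mathlib
import Groth.Agent.Lead.Thick1
import Groth.Agent.S0012
import Groth.Agent.S0007
import Groth.Agent.Helper1.SerreCritD
import Groth.Agent.Helper1.SerreCritE

set_option autoImplicit false
open CategoryTheory AlgebraicGeometry Limits Opposite TensorProduct
universe u
open Coherent

namespace Groth.Agent.Lead.Thick
open Groth.Agent.Helper4 Groth.Agent.Lead.UnitDict Groth.Agent.Helper1 Groth.Agent.Helper1.SerreCrit

section Coh
variable {Y : Scheme.{u}}

theorem subsingleton_HH_middle (S : ShortComplex Y.Modules) (hS : S.ShortExact) (n : ℕ)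
    (h1 : Subsingleton (Coh.HH Y S.X₁ n)) (h3 : Subsingleton (Coh.HH Y S.X₃ n)) :
    Subsingleton (Coh.HH Y S.X₂ n) := by
  have hS' : (S.map (toAbF Y)).ShortExact := hS.map_of_exact (toAbF Y)
  have key : ∀ x : Coh.HH Y S.X₂ n, x = 0 := by
    intro x
    obtain ⟨x₁, hx₁⟩ := Abelian.Ext.covariant_sequence_exact₂ _ hS'
      (show Abelian.Ext _ (S.map (toAbF Y)).X₂ n from x)
      (@Subsingleton.elim _ h3 _ _)
    have h0 : x₁ = 0 := @Subsingleton.elim _ h1 _ _
    rw [h0, Abelian.Ext.zero_comp] at hx₁
    exact hx₁.symm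
  exact ⟨fun a b => by rw [key a, key b]⟩

theorem subsingleton_HH_of_isZero (M : Y.Modules) (hM : IsZero M) (n : ℕ) :
    Subsingleton (Coh.HH Y M n) := by
  have hz : IsZero ((toAbF Y).obj M) := (toAbF Y).map_isZero hM
  have key : ∀ x : Coh.HH Y M n, x = 0 := by
    intro x
    have h1 : (show Abelian.Ext _ ((toAbF Y).obj M) n from x) =
        (show Abelian.Ext _ ((toAbF Y).obj M) n from x).comp
          (Abelian.Ext.mk₀ (𝟙 ((toAbF Y).obj M))) (add_zero n) := by
      rw [Abelian.Ext.comp_mk₀_id]
    rw [hz.eq_of_src (𝟙 _) 0, Abelian.Ext.mk₀_zero, Abelian.Ext.comp_zero] at h1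
    exact h1
  exact ⟨fun a b => by rw [key a, key b]⟩

theorem isZero_of_sections (M : Y.Modules) [M.IsQuasicoherent]
    (h : ∀ U : Y.Opens, IsAffineOpen U → ∀ m : Γ(M, U), m = 0) : IsZero M := by
  rw [IsZero.iff_id_eq_zero]
  apply QcohLocal.eq_zero_of_app_eq_zero_of_affine_cover
  intro x
  obtain ⟨U, hU, hx⟩ := QcohLimits.exists_affine_nhd x
  exact ⟨U, hU, hx, fun m => h U hU m⟩

end Coh

variable {X X' : Scheme.{u}} (i : X ⟶ X') [IsClosedImmersion i]

/-- `H¹` vanishing for quasi-coherent modules killed by a power of the ideal of an affine closed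
subscheme -/
theorem subsingleton_H1 [IsAffine X] : ∀ (n : ℕ) (M : X'.Modules) [M.IsQuasicoherent],
    Kills i M n → Subsingleton (Coh.HH X' M 1)
  | 0, M, _, h => by
    apply subsingleton_HH_of_isZero
    apply isZero_of_sections
    intro U hU m
    have := h U hU 1 (by rw [pow_zero, Ideal.one_eq_top]; trivial) m
    rwa [one_smul] at this
  | n + 1, M, _, h => by
    let S : ShortComplex X'.Modules :=
      ShortComplex.mk (kernel.ι (η i M)) (η i M) (kernel.condition _)
    have hS : S.ShortExact :=
      { exact := ShortComplex.exact_of_f_is_kernel _ (kernelIsKernel (η i M))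
        mono_f := inferInstanceAs (Mono (kernel.ι (η i M)))
        epi_g := inferInstanceAs (Epi (η i M)) }
    have h1 : Subsingleton (Coh.HH X' (kernel (η i M)) 1) :=
      subsingleton_H1 n (kernel (η i M)) (kills_kernel i M n h)
    have h3 : Subsingleton (Coh.HH X'
        ((Scheme.Modules.pushforward i).obj ((Scheme.Modules.pullback i).obj M)) 1) := by
      have : ((Scheme.Modules.pullback i).obj M).IsQuasicoherent :=
        StalkPull.isQuasicoherent_pullbackObj i M
      obtain ⟨e⟩ := Groth.Agent.S0012.result i ((Scheme.Modules.pullback i).obj M) 1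
      have := Groth.Agent.S0007.result X ((Scheme.Modules.pullback i).obj M) 1 one_pos
      exact e.symm.toEquiv.subsingleton
    exact subsingleton_HH_middle S hS 1 h1 h3

/-- a nilpotent thickening of an affine scheme is affine -/
theorem isAffine_of_nilpotent [IsAffine X] (hi : Function.Surjective i) (n : ℕ)
    (hn : ∀ U : X'.Opens, IsAffineOpen U → (RingHom.ker (i.app U).hom) ^ n = ⊥) : IsAffine X' := by
  have : CompactSpace X' := by
    constructor
    rw [← Set.range_eq_univ.mpr hi]
    exact isCompact_range i.continuous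
  apply isAffine_of_H1_ideals
  intro I ι _ hq
  have : I.IsQuasicoherent := hq
  apply subsingleton_H1 i n I
  intro U hU a ha m
  rw [hn U hU] at ha
  rw [(Submodule.mem_bot _).1 ha, zero_smul]

end Groth.Agent.Lead.Thick
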