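import Mathlib
import Groth.Agent.Lead.StalkPull

set_option autoImplicit false
universe u
open CategoryTheory CategoryTheory.Limits AlgebraicGeometry TopologicalSpace Opposite TensorProduct

namespace Groth.Agent.Lead.StalkPull

open Groth.Agent.Lead.ModDict Groth.Agent.Helper4 Groth.Agent.Helper8.TildeBC Scheme.Modules

section Alg

/-- abstract form: two base changes along compatible towers agree -/
theorem nonempty_equiv_of_towers
    {B' A' Os Ox : Type u} [CommRing B'] [CommRing A'] [CommRing Os] [CommRing Ox]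
    [Algebra B' A'] [Algebra B' Os] [Algebra A' Ox] [Algebra Os Ox] [Algebra B' Ox]
    [IsScalarTower B' A' Ox] [IsScalarTower B' Os Ox]
    (q : Submonoid B') [IsLocalization q Os] (p : Submonoid A') [IsLocalization p Ox]
    {M Ns Nx : Type u} [AddCommGroup M] [Module B' M]
    [AddCommGroup Ns] [Module B' Ns] [Module Os Ns] [IsScalarTower B' Os Ns]
    [AddCommGroup Nx] [Module A' Nx] [Module Ox Nx] [IsScalarTower A' Ox Nx]
    (g₁ : M →ₗ[B'] Ns) [IsLocalizedModule q g₁]
    (g₂ : A' ⊗[B'] M →ₗ[A'] Nx) [IsLocalizedModule p g₂] :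
    Nonempty (Nx ≃ₗ[Ox] Ox ⊗[Os] Ns) := by
  have h1 : IsBaseChange Os g₁ := (isLocalizedModule_iff_isBaseChange q Os g₁).mp inferInstance
  have h2 : IsBaseChange Ox (TensorProduct.mk Os Ox Ns 1) := TensorProduct.isBaseChange Os Ns Ox
  have h12 := h1.comp h2
  have h3 : IsBaseChange A' (TensorProduct.mk B' A' M 1) := TensorProduct.isBaseChange B' M A'
  have h4 : IsBaseChange Ox g₂ := (isLocalizedModule_iff_isBaseChange p Ox g₂).mp inferInstance
  letI : Module B' Nx := Module.compHom Nx (algebraMap B' A')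
  haveI : IsScalarTower B' A' Nx := IsScalarTower.of_compHom B' A' Nx
  haveI : IsScalarTower B' Ox Nx := ⟨fun b o n => by
    rw [Algebra.smul_def, IsScalarTower.algebraMap_apply B' A' Ox, mul_smul]
    change _ = algebraMap B' A' b • (o • n)
    rw [algebraMap_smul]⟩
  have h34 := h3.comp h4
  exact ⟨h34.equiv.symm.trans h12.equiv⟩

end Alg

section Geom
variable {X S : Scheme.{u}} (f : X ⟶ S) (G : S.Modules) [G.IsQuasicoherent] (x : X)

set_option backward.isDefEq.respectTransparency false in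
/-- the stalk of a pullback of a quasi-coherent module is the base change of the stalk -/
theorem nonempty_stalk_pullback_equiv :
    letI := (f.stalkMap x).hom.toAlgebra
    Nonempty (((Scheme.Modules.pullback f).obj G).presheaf.stalk x ≃ₗ[X.presheaf.stalk x]
      (X.presheaf.stalk x) ⊗[S.presheaf.stalk (f x)] (G.presheaf.stalk (f x))) := by
  haveI := isQuasicoherent_pullbackObj f G
  obtain ⟨_, ⟨U, hU : IsAffineOpen U, rfl⟩, hfx, -⟩ :=
    S.isBasis_affineOpens.exists_subset_of_mem_open (Set.mem_univ (f x)) isOpen_univ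
  obtain ⟨_, ⟨V, hV : IsAffineOpen V, rfl⟩, hx, hVU⟩ :=
    X.isBasis_affineOpens.exists_subset_of_mem_open
      (show x ∈ ((f ⁻¹ᵁ U : X.Opens) : Set X) from hfx) (f ⁻¹ᵁ U).isOpen
  have e : V ≤ f ⁻¹ᵁ U := hVU
  letI a1 : Algebra Γ(S, U) Γ(X, V) := (f.appLE U V e).hom.toAlgebra
  letI a2 : Algebra Γ(S, U) (S.presheaf.stalk (f x)) := S.presheaf.algebra_section_stalk ⟨f x, hfx⟩
  letI a3 : Algebra Γ(X, V) (X.presheaf.stalk x) := X.presheaf.algebra_section_stalk ⟨x, hx⟩
  letI a4 : Algebra (S.presheaf.stalk (f x)) (X.presheaf.stalk x) := (f.stalkMap x).hom.toAlgebra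
  letI a5 : Algebra Γ(S, U) (X.presheaf.stalk x) :=
    ((X.presheaf.germ V x hx).hom.comp (f.appLE U V e).hom).toAlgebra
  haveI t1 : IsScalarTower Γ(S, U) Γ(X, V) (X.presheaf.stalk x) :=
    IsScalarTower.of_algebraMap_eq (fun b => rfl)
  haveI t2 : IsScalarTower Γ(S, U) (S.presheaf.stalk (f x)) (X.presheaf.stalk x) :=
    IsScalarTower.of_algebraMap_eq (fun b => by
      change X.presheaf.germ V x hx (f.appLE U V e b) =
        f.stalkMap x (S.presheaf.germ U (f x) hfx b)
      rw [Scheme.Hom.germ_stalkMap_apply, Scheme.Hom.appLE, CommRingCat.comp_apply]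
      exact TopCat.Presheaf.germ_res_apply X.presheaf (homOfLE e) x hx _)
  haveI l1 := hU.isLocalization_stalk ⟨f x, hfx⟩
  haveI l2 := hV.isLocalization_stalk ⟨x, hx⟩
  letI m1 := StalkDict.sectionModStalk G (f x) hfx
  haveI s1 : IsScalarTower Γ(S, U) (S.presheaf.stalk (f x)) (G.presheaf.stalk (f x)) :=
    ⟨fun a s m => by
      change (S.presheaf.germ U (f x) hfx a * s) • m = S.presheaf.germ U (f x) hfx a • (s • m)
      rw [mul_smul]⟩
  letI m2 := StalkDict.sectionModStalk ((Scheme.Modules.pullback f).obj G) x hx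
  haveI s2 : IsScalarTower Γ(X, V) (X.presheaf.stalk x)
      (((Scheme.Modules.pullback f).obj G).presheaf.stalk x) :=
    ⟨fun a s m => by
      change (X.presheaf.germ V x hx a * s) • m = X.presheaf.germ V x hx a • (s • m)
      rw [mul_smul]⟩
  haveI := StalkDict.isLocalizedModule_germ hU G (f x) hfx
  haveI := StalkDict.isLocalizedModule_germ hV ((Scheme.Modules.pullback f).obj G) x hx
  let g₁ : ((secF hU).obj G) →ₗ[Γ(S, U)] G.presheaf.stalk (f x) :=
    (StalkDict.germLin G (f x) hfx) ∘ₗ (secFEquiv hU G).symm.toLinearMap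
  let e₂ : Γ(X, V) ⊗[Γ(S, U)] ((secF hU).obj G) ≃ₗ[Γ(X, V)]
      Γ((Scheme.Modules.pullback f).obj G, V) :=
    (secFPullbackIso f hU hV e G).toLinearEquiv.symm ≪≫ₗ
      (secFEquiv hV ((Scheme.Modules.pullback f).obj G)).symm
  let g₂ : Γ(X, V) ⊗[Γ(S, U)] ((secF hU).obj G) →ₗ[Γ(X, V)]
      ((Scheme.Modules.pullback f).obj G).presheaf.stalk x :=
    (StalkDict.germLin ((Scheme.Modules.pullback f).obj G) x hx) ∘ₗ e₂.toLinearMap
  haveI : IsLocalizedModule (hU.primeIdealOf ⟨f x, hfx⟩).asIdeal.primeCompl g₁ :=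
    IsLocalizedModule.of_linearEquiv_right _ _ _
  haveI : IsLocalizedModule (hV.primeIdealOf ⟨x, hx⟩).asIdeal.primeCompl g₂ :=
    IsLocalizedModule.of_linearEquiv_right _ _ _
  exact nonempty_equiv_of_towers (hU.primeIdealOf ⟨f x, hfx⟩).asIdeal.primeCompl
    (hV.primeIdealOf ⟨x, hx⟩).asIdeal.primeCompl g₁ g₂

end Geom

section WeakAss

/-- a weakly associated closed point stays weakly associated after a flat local base change, if the
maximal ideal upstairs is the only prime over the maximal ideal downstairs -/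
theorem radical_ker_tmul {A B : Type u} [CommRing A] [CommRing B] [IsLocalRing A] [IsLocalRing B]
    [Algebra A B] [Module.Flat A B] [IsLocalHom (algebraMap A B)]
    (hgen : ∀ P : Ideal B, P.IsPrime → P.comap (algebraMap A B) = IsLocalRing.maximalIdeal A →
      P = IsLocalRing.maximalIdeal B)
    {N : Type u} [AddCommGroup N] [Module A N] (g : N)
    (hg : Ideal.radical (LinearMap.ker (LinearMap.toSpanSingleton A N g)) =
      IsLocalRing.maximalIdeal A) :
    Ideal.radical (LinearMap.ker (LinearMap.toSpanSingleton B (B ⊗[A] N) ((1 : B) ⊗ₜ[A] g))) =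
      IsLocalRing.maximalIdeal B := by
  obtain ⟨I, hI⟩ : ∃ I : Ideal A, I = LinearMap.ker (LinearMap.toSpanSingleton A N g) := ⟨_, rfl⟩
  rw [← hI] at hg
  have hIm : I ≤ IsLocalRing.maximalIdeal A := hg ▸ Ideal.le_radical
  -- the annihilator upstairs contains `I B`
  have hle : I.map (algebraMap A B) ≤
      LinearMap.ker (LinearMap.toSpanSingleton B (B ⊗[A] N) ((1 : B) ⊗ₜ[A] g)) := by
    rw [Ideal.map_le_iff_le_comap]
    intro a ha
    rw [Ideal.mem_comap, LinearMap.mem_ker, LinearMap.toSpanSingleton_apply, TensorProduct.smul_tmul',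
      smul_eq_mul, mul_one, Algebra.algebraMap_eq_smul_one, TensorProduct.smul_tmul]
    rw [hI, LinearMap.mem_ker, LinearMap.toSpanSingleton_apply] at ha
    rw [ha, TensorProduct.tmul_zero]
  -- the element is nonzero
  have hne : ((1 : B) ⊗ₜ[A] g) ≠ 0 := by
    -- injection `A ⧸ I → N`
    let φ : (A ⧸ I) →ₗ[A] N :=
      Submodule.liftQ I (LinearMap.toSpanSingleton A N g) (le_of_eq hI)
    have hφ : Function.Injective φ := by
      rw [← LinearMap.ker_eq_bot]
      exact Submodule.ker_liftQ_eq_bot _ _ _ (le_of_eq hI.symm)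
    have hinj : Function.Injective (φ.lTensor B) :=
      Module.Flat.lTensor_preserves_injective_linearMap φ hφ
    intro h0
    have h1 : φ.lTensor B ((1 : B) ⊗ₜ[A] (Submodule.Quotient.mk (1 : A) : A ⧸ I)) = 0 := by
      rw [LinearMap.lTensor_tmul]
      have : φ (Submodule.Quotient.mk (1 : A)) = g := by
        change Submodule.liftQ I (LinearMap.toSpanSingleton A N g) (le_of_eq hI)
          (Submodule.Quotient.mk (1 : A)) = g
        rw [Submodule.liftQ_apply, LinearMap.toSpanSingleton_apply, one_smul]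
      rw [this, h0]
    have h2 : (1 : B) ⊗ₜ[A] (Submodule.Quotient.mk (1 : A) : A ⧸ I) = 0 :=
      hinj (h1.trans (map_zero _).symm)
    have h3 := congrArg (TensorProduct.tensorQuotEquivQuotSMul B I) h2
    rw [map_zero] at h3
    have h4 : TensorProduct.tensorQuotEquivQuotSMul B I
        ((1 : B) ⊗ₜ[A] (Submodule.Quotient.mk (1 : A) : A ⧸ I)) =
        Submodule.Quotient.mk (1 : B) := by
      have := TensorProduct.tensorQuotEquivQuotSMul_tmul_mk (M := B) I (1 : B) (1 : A)
      rw [one_smul] at this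
      exact this
    rw [h4, Submodule.Quotient.mk_eq_zero] at h3
    -- `1 ∈ I B ⊆ m_B`
    have h5 : (I • (⊤ : Submodule A B)) ≤
        (IsLocalRing.maximalIdeal B).restrictScalars A := by
      rw [Submodule.smul_le]
      intro a ha b _
      change a • b ∈ IsLocalRing.maximalIdeal B
      rw [Algebra.smul_def]
      apply Ideal.mul_mem_right
      have ha' : a ∈ IsLocalRing.maximalIdeal A := hIm ha
      rw [IsLocalRing.mem_maximalIdeal, mem_nonunits_iff] at ha' ⊢
      intro hu
      exact ha' (isUnit_of_map_unit (algebraMap A B) a hu)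
    have h6 : (1 : B) ∈ IsLocalRing.maximalIdeal B := h5 h3
    exact (IsLocalRing.maximalIdeal.isMaximal B).ne_top ((Ideal.eq_top_iff_one _).mpr h6)
  have hproper : LinearMap.ker (LinearMap.toSpanSingleton B (B ⊗[A] N) ((1 : B) ⊗ₜ[A] g)) ≠ ⊤ := by
    intro h
    apply hne
    have h1 : (1 : B) ∈ LinearMap.ker (LinearMap.toSpanSingleton B (B ⊗[A] N) ((1 : B) ⊗ₜ[A] g)) :=
      h ▸ Submodule.mem_top
    rw [LinearMap.mem_ker, LinearMap.toSpanSingleton_apply, one_smul] at h1
    exact h1
  apply le_antisymm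
  · have h1 := IsLocalRing.le_maximalIdeal hproper
    calc _ ≤ (IsLocalRing.maximalIdeal B).radical := Ideal.radical_mono h1
      _ = IsLocalRing.maximalIdeal B := (IsLocalRing.maximalIdeal.isMaximal B).isPrime.radical
  · rw [Ideal.radical_eq_sInf]
    apply le_sInf
    rintro P ⟨hP1, hP2⟩
    have h2 : I ≤ P.comap (algebraMap A B) := by
      rw [← Ideal.map_le_iff_le_comap]
      exact hle.trans hP1
    haveI := hP2
    have h3 : IsLocalRing.maximalIdeal A ≤ P.comap (algebraMap A B) := by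
      rw [← hg]
      exact (Ideal.IsPrime.radical_le_iff (Ideal.comap_isPrime _ P)).mpr h2
    have h4 : P.comap (algebraMap A B) = IsLocalRing.maximalIdeal A :=
      ((IsLocalRing.maximalIdeal.isMaximal A).eq_of_le (Ideal.comap_isPrime _ P).ne_top h3).symm
    rw [hgen P hP2 h4]

/-- S8899 -/
theorem main_weakAss {X S : Scheme.{u}} (f : X ⟶ S) (G : S.Modules) (hG : Coh.IsQCoh G)
    (x : ↥X) (hfl : (f.stalkMap x).hom.Flat) (hgen : ∀ y : ↥X, f y = f x → y ⤳ x → y = x)
    (hs : Curv2.IsWeakAssPoint G (f x)) :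
    Curv2.IsWeakAssPoint ((Scheme.Modules.pullback f).obj G) x := by
  haveI : G.IsQuasicoherent := hG
  letI := (f.stalkMap x).hom.toAlgebra
  haveI : Module.Flat (S.presheaf.stalk (f x)) (X.presheaf.stalk x) := hfl
  haveI : IsLocalHom (algebraMap (S.presheaf.stalk (f x)) (X.presheaf.stalk x)) :=
    inferInstanceAs (IsLocalHom (f.stalkMap x).hom)
  obtain ⟨E⟩ := nonempty_stalk_pullback_equiv f G x
  obtain ⟨g, hg⟩ := hs
  have hgen' : ∀ P : Ideal (X.presheaf.stalk x), P.IsPrime →
      P.comap (algebraMap (S.presheaf.stalk (f x)) (X.presheaf.stalk x)) =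
        IsLocalRing.maximalIdeal (S.presheaf.stalk (f x)) →
      P = IsLocalRing.maximalIdeal (X.presheaf.stalk x) := by
    intro P hP hPc
    have hy : (X.fromSpecStalk x) ⟨P, hP⟩ ⤳ x := by
      have : (X.fromSpecStalk x) ⟨P, hP⟩ ∈ Set.range (X.fromSpecStalk x) := ⟨_, rfl⟩
      rw [Scheme.range_fromSpecStalk] at this
      exact this
    have hfy : f ((X.fromSpecStalk x) ⟨P, hP⟩) = f x := by
      have h1 := congrArg (fun φ => φ ⟨P, hP⟩)
        (Scheme.SpecMap_stalkMap_fromSpecStalk (f := f) (x := x))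
      simp only [Scheme.Hom.comp_apply] at h1
      rw [← h1]
      have h2 : (Spec.map (f.stalkMap x)) ⟨P, hP⟩ =
          IsLocalRing.closedPoint (S.presheaf.stalk (f x)) := by
        apply PrimeSpectrum.ext
        exact hPc
      rw [h2, Scheme.fromSpecStalk_closedPoint]
    have h3 := hgen _ hfy hy
    have hinj : Function.Injective (X.fromSpecStalk x) :=
      (X.fromSpecStalk x).isEmbedding.injective
    have h4 : (⟨P, hP⟩ : PrimeSpectrum (X.presheaf.stalk x)) =
        IsLocalRing.closedPoint (X.presheaf.stalk x) :=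
      hinj (h3.trans Scheme.fromSpecStalk_closedPoint.symm)
    exact congrArg PrimeSpectrum.asIdeal h4
  refine ⟨E.symm ((1 : X.presheaf.stalk x) ⊗ₜ g), ?_⟩
  have h5 := radical_ker_tmul hgen' g hg
  rw [← h5]
  congr 1
  ext a
  simp only [LinearMap.mem_ker, LinearMap.toSpanSingleton_apply]
  rw [← LinearEquiv.map_smul, E.symm.map_eq_zero_iff]

end WeakAss

end Groth.Agent.Lead.StalkPull
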