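import Mathlib
import Groth.Agent.Lead.StalkPull2
import Groth.Agent.Helper4.FinLocFree2

set_option autoImplicit false
universe u
open CategoryTheory CategoryTheory.Limits AlgebraicGeometry TopologicalSpace Opposite TensorProduct

namespace Groth.Agent.Lead.StalkPull

section Alg
variable {A B : Type u} [CommRing A] [CommRing B] [IsLocalRing A] [IsLocalRing B] [Algebra A B]
  [IsLocalHom (algebraMap A B)] {N : Type u} [AddCommGroup N] [Module A N] [Module.Finite A N]

theorem smul_top_le_maximalIdeal :
    (IsLocalRing.maximalIdeal A • (⊤ : Submodule A B)) ≤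
      (IsLocalRing.maximalIdeal B).restrictScalars A := by
  rw [Submodule.smul_le]
  intro a ha b _
  change a • b ∈ IsLocalRing.maximalIdeal B
  rw [Algebra.smul_def]
  apply Ideal.mul_mem_right
  rw [IsLocalRing.mem_maximalIdeal, mem_nonunits_iff] at ha ⊢
  intro hu
  exact ha (isUnit_of_map_unit (algebraMap A B) a hu)

/-- Nakayama: a local base change of a nonzero finite module is nonzero -/
theorem subsingleton_of_subsingleton_tensor (h : Subsingleton (B ⊗[A] N)) : Subsingleton N := by
  by_contra hN
  rw [not_subsingleton_iff_nontrivial] at hN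
  have h1 : Nontrivial (IsLocalRing.ResidueField A ⊗[A] N) := by
    rw [← not_subsingleton_iff_nontrivial, IsLocalRing.subsingleton_tensorProduct]
    exact not_subsingleton_iff_nontrivial.mpr hN
  obtain ⟨v, hv⟩ := exists_ne (0 : IsLocalRing.ResidueField A ⊗[A] N)
  obtain ⟨φ, hφ⟩ : ∃ φ : Module.Dual (IsLocalRing.ResidueField A)
      (IsLocalRing.ResidueField A ⊗[A] N), φ v ≠ 0 := by
    by_contra hcon
    push Not at hcon
    exact hv ((Module.forall_dual_apply_eq_zero_iff (IsLocalRing.ResidueField A) v).mp hcon)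
  let ψ : N →ₗ[A] IsLocalRing.ResidueField A :=
    (φ.restrictScalars A) ∘ₗ (TensorProduct.mk A (IsLocalRing.ResidueField A) N 1)
  have hψ : ∃ n : N, ψ n ≠ 0 := by
    by_contra hcon
    push Not at hcon
    have hφ0 : ∀ w, φ w = 0 := by
      intro w
      induction w using TensorProduct.induction_on with
      | zero => exact map_zero φ
      | add x y hx hy => rw [map_add, hx, hy, add_zero]
      | tmul c n =>
        have : c ⊗ₜ[A] n = c • ((1 : IsLocalRing.ResidueField A) ⊗ₜ[A] n) := by
          rw [TensorProduct.smul_tmul', smul_eq_mul, mul_one]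
        rw [this, map_smul]
        have h2 : φ ((1 : IsLocalRing.ResidueField A) ⊗ₜ[A] n) = 0 := hcon n
        rw [h2, smul_zero]
    exact hφ (hφ0 v)
  obtain ⟨n, hn⟩ := hψ
  have hsurj : Function.Surjective ψ := by
    intro d
    obtain ⟨a, ha⟩ := IsLocalRing.residue_surjective (d * (ψ n)⁻¹)
    refine ⟨a • n, ?_⟩
    rw [map_smul, Algebra.smul_def]
    change IsLocalRing.residue A a * ψ n = d
    rw [ha, mul_assoc, inv_mul_cancel₀ hn, mul_one]
  have hs2 : Function.Surjective (ψ.lTensor B) := LinearMap.lTensor_surjective B hsurj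
  haveI : Subsingleton (B ⊗[A] (A ⧸ IsLocalRing.maximalIdeal A)) := hs2.subsingleton
  have e := TensorProduct.tensorQuotEquivQuotSMul B (IsLocalRing.maximalIdeal A)
  haveI : Subsingleton (B ⧸ (IsLocalRing.maximalIdeal A • (⊤ : Submodule A B))) :=
    e.symm.injective.subsingleton
  have h3 : (Submodule.Quotient.mk (1 : B) :
      B ⧸ (IsLocalRing.maximalIdeal A • (⊤ : Submodule A B))) = 0 := Subsingleton.elim _ _
  rw [Submodule.Quotient.mk_eq_zero] at h3
  have h4 : (1 : B) ∈ IsLocalRing.maximalIdeal B := smul_top_le_maximalIdeal (A := A) (B := B) h3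
  exact (IsLocalRing.maximalIdeal.isMaximal B).ne_top ((Ideal.eq_top_iff_one _).mpr h4)

end Alg

/-- S4357 -/
theorem main_support {X Y : Scheme.{u}} (f : Y ⟶ X) (F : X.Modules) [Coh.IsQCoh F]
    (hF : CohB1.IsFT F) :
    CohB1.support ((Scheme.Modules.pullback f).obj F) = f.base ⁻¹' CohB1.support F := by
  haveI : F.IsQuasicoherent := ‹Coh.IsQCoh F›
  ext y
  obtain ⟨E⟩ := nonempty_stalk_pullback_equiv f F y
  letI := (f.stalkMap y).hom.toAlgebra
  haveI : IsLocalHom (algebraMap (X.presheaf.stalk (f y)) (Y.presheaf.stalk y)) :=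
    inferInstanceAs (IsLocalHom (f.stalkMap y).hom)
  haveI := Groth.Agent.Helper4.FinLocFree2.finite_stalk F hF (f y)
  change ¬ Subsingleton (((Scheme.Modules.pullback f).obj F).presheaf.stalk y) ↔
    ¬ Subsingleton (F.presheaf.stalk (f y))
  rw [not_iff_not]
  constructor
  · intro h
    haveI : Subsingleton ((Y.presheaf.stalk y) ⊗[X.presheaf.stalk (f y)] (F.presheaf.stalk (f y))) :=
      E.symm.injective.subsingleton
    exact subsingleton_of_subsingleton_tensor
      (B := Y.presheaf.stalk y) (A := X.presheaf.stalk (f y)) inferInstance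
  · intro h
    haveI : Subsingleton ((Y.presheaf.stalk y) ⊗[X.presheaf.stalk (f y)] (F.presheaf.stalk (f y))) :=
      inferInstance
    exact E.injective.subsingleton

end Groth.Agent.Lead.StalkPull
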