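import Mathlib
import Groth.Agent.Lead.StalkSupp
import Groth.Prelude.Def_ClSub2

set_option autoImplicit false
universe u
open CategoryTheory CategoryTheory.Limits AlgebraicGeometry TopologicalSpace Opposite

namespace Groth.Agent.Lead.SuppProper

/-- the kernel of a morphism from a reduced scheme is the vanishing ideal of the closure of its
range (copied from Helper3.SecExt) -/
theorem ker_eq_vanishingIdeal {W X : Scheme.{u}} [IsReduced W] (g : W ⟶ X) :
    g.ker = Scheme.IdealSheafData.vanishingIdeal ⟨closure (Set.range g), isClosed_closure⟩ := by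
  have h := Scheme.IdealSheafData.map_vanishingIdeal g ⊤
  rw [Scheme.IdealSheafData.vanishingIdeal_top, Scheme.nilradical_eq_bot,
    Scheme.IdealSheafData.map_bot] at h
  rw [h]
  congr 1
  ext x
  simp

/-- (copied from Helper5.CutSec7) -/
theorem isReduced_subscheme_of_radical (X : Scheme.{u}) (I : X.IdealSheafData)
    (h : I.radical = I) : IsReduced I.subscheme := by
  rw [IsReduced.iff_of_openCover (X := I.subscheme) I.subschemeCover.openCover]
  intro (U : X.affineOpens)
  change IsReduced (Spec (CommRingCat.of (Γ(X, U) ⧸ I.ideal U)))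
  rw [affine_isReduced_iff]
  have h2 : (I.ideal U).IsRadical := by
    have := congrArg (fun J : X.IdealSheafData => J.ideal U) h
    exact Ideal.radical_eq_iff.mp this
  exact (Ideal.isRadical_iff_quotient_reduced _).mp h2

theorem isReduced_vanishingIdeal_subscheme {X : Scheme.{u}} (C : TopologicalSpace.Closeds X) :
    IsReduced (Scheme.IdealSheafData.vanishingIdeal C).subscheme := by
  apply isReduced_subscheme_of_radical
  have hs : (Scheme.IdealSheafData.vanishingIdeal C).support = C :=
    TopologicalSpace.Closeds.ext (Scheme.IdealSheafData.coe_support_vanishingIdeal C)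
  rw [← Scheme.IdealSheafData.vanishingIdeal_support, hs]

/-- properness of a closed subset over the base is stable under base change (with the reduced
structures) -/
theorem isProperOver_preimage {X S X' S' : Scheme.{u}} (f : X ⟶ S)
    (g : S' ⟶ S) (g' : X' ⟶ X) (f' : X' ⟶ S') (sq : IsPullback g' f' f g)
    (Z : Set X) (hZ : ClSub.IsProperOver f Z) : ClSub.IsProperOver f' (g'.base ⁻¹' Z) := by
  obtain ⟨hcl, hprop⟩ := hZ
  have hcl' : IsClosed (g'.base ⁻¹' Z) := hcl.preimage g'.continuous
  refine ⟨hcl', ?_⟩
  obtain ⟨I, hI⟩ : ∃ I : X.IdealSheafData,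
      I = Scheme.IdealSheafData.vanishingIdeal ⟨Z, hcl⟩ := ⟨_, rfl⟩
  obtain ⟨I', hI'⟩ : ∃ I' : X'.IdealSheafData,
      I' = Scheme.IdealSheafData.vanishingIdeal ⟨g'.base ⁻¹' Z, hcl'⟩ := ⟨_, rfl⟩
  rw [← hI] at hprop
  rw [← hI']
  haveI : IsReduced I'.subscheme := hI' ▸ isReduced_vanishingIdeal_subscheme _
  have hker : I.subschemeι.ker ≤ (I'.subschemeι ≫ g').ker := by
    rw [Scheme.IdealSheafData.ker_subschemeι, ker_eq_vanishingIdeal, hI]
    apply Scheme.IdealSheafData.vanishingIdeal_antimono
    change closure (Set.range (I'.subschemeι ≫ g')) ⊆ Z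
    rw [hcl.closure_subset_iff]
    rintro _ ⟨z, rfl⟩
    have hz : I'.subschemeι z ∈ (I'.support : Set X') := by
      rw [← Scheme.IdealSheafData.range_subschemeι]
      exact ⟨z, rfl⟩
    have hs : (I'.support : Set X') = g'.base ⁻¹' Z := by
      rw [hI', Scheme.IdealSheafData.coe_support_vanishingIdeal]
      rfl
    rw [hs] at hz
    exact hz
  let a : I'.subscheme ⟶ I.subscheme :=
    IsClosedImmersion.lift I.subschemeι (I'.subschemeι ≫ g') hker
  have ha : a ≫ I.subschemeι = I'.subschemeι ≫ g' := IsClosedImmersion.lift_fac _ _ _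
  let b : I'.subscheme ⟶ pullback (I.subschemeι ≫ f) g :=
    pullback.lift a (I'.subschemeι ≫ f') (by
      rw [← Category.assoc, ha, Category.assoc, sq.w, Category.assoc])
  let c : pullback (I.subschemeι ≫ f) g ⟶ X' :=
    sq.lift (pullback.fst _ _ ≫ I.subschemeι) (pullback.snd _ _) (by
      rw [Category.assoc, pullback.condition])
  have hc1 : c ≫ g' = pullback.fst _ _ ≫ I.subschemeι := sq.lift_fst _ _ _
  have hc2 : c ≫ f' = pullback.snd _ _ := sq.lift_snd _ _ _
  haveI : Mono c := by
    constructor
    intro T u v huv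
    apply pullback.hom_ext
    · rw [← cancel_mono I.subschemeι, Category.assoc, Category.assoc, ← hc1, ← Category.assoc,
        ← Category.assoc, huv]
    · rw [← hc2, ← Category.assoc, ← Category.assoc, huv]
  have hbc : b ≫ c = I'.subschemeι := by
    apply sq.hom_ext
    · rw [Category.assoc, hc1, ← Category.assoc, pullback.lift_fst, ha]
    · rw [Category.assoc, hc2, pullback.lift_snd]
  haveI : IsClosedImmersion (b ≫ c) := hbc ▸ inferInstance
  haveI : IsClosedImmersion b := IsClosedImmersion.of_comp b c
  haveI : IsProper (I.subschemeι ≫ f) := hprop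
  have h3 : I'.subschemeι ≫ f' = b ≫ pullback.snd (I.subschemeι ≫ f) g := by
    rw [pullback.lift_snd]
  rw [h3]
  infer_instance

/-- S0794 -/
theorem main {X S X' S' : Scheme.{u}} (f : X ⟶ S) [LocallyOfFiniteType f]
    (g : S' ⟶ S) (g' : X' ⟶ X) (f' : X' ⟶ S') (sq : IsPullback g' f' f g)
    (F : X.Modules) (hq : Coh.IsQCoh F) (hft : CohB1.IsFT F)
    (hF : ClSub.IsProperOver f (CohB1.support F)) :
    ClSub.IsProperOver f' (CohB1.support ((Scheme.Modules.pullback g').obj F)) := by
  haveI : Coh.IsQCoh F := hq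
  rw [Groth.Agent.Lead.StalkPull.main_support g' F hft]
  exact isProperOver_preimage f g g' f' sq _ hF

end Groth.Agent.Lead.SuppProper
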