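import Mathlib
import Groth.Prelude.Def_ega3
import Groth.Prelude.Def_LCI2
import Groth.Agent.Helper1.KoszulBasic
import Groth.Agent.Helper1.KoszulTop

set_option autoImplicit false

/-!
# Koszul complexes and additive functors; cones of quasi-isomorphisms
-/

namespace Groth.Agent.Lead.KoszulFunA
open CategoryTheory Limits CochainComplex HomologicalComplex HomComplex CohIII

universe u

section cone
variable {C : Type*} [Category C] [Preadditive C] [HasBinaryBiproducts C]

/-- isomorphic data give isomorphic mapping cones -/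
noncomputable def coneIso {K₁ L₁ K₂ L₂ : CochainComplex C ℤ} (φ₁ : K₁ ⟶ L₁) (φ₂ : K₂ ⟶ L₂)
    (a : K₁ ≅ K₂) (b : L₁ ≅ L₂) (comm : φ₁ ≫ b.hom = a.hom ≫ φ₂) :
    mappingCone φ₁ ≅ mappingCone φ₂ where
  hom := mappingCone.map φ₁ φ₂ a.hom b.hom comm
  inv := mappingCone.map φ₂ φ₁ a.inv b.inv (by
    rw [← cancel_mono b.hom, Category.assoc, Iso.inv_hom_id, Category.comp_id, Category.assoc,
      comm, Iso.inv_hom_id_assoc])
  hom_inv_id := by
    rw [← mappingCone.map_comp]
    simp only [Iso.hom_inv_id]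
    exact mappingCone.map_id _
  inv_hom_id := by
    rw [← mappingCone.map_comp]
    simp only [Iso.inv_hom_id]
    exact mappingCone.map_id _

end cone

section qi
universe v' u'
variable {C : Type u'} [Category.{v'} C] [Abelian C]

attribute [local instance] HasDerivedCategory.standard

/-- the map induced on mapping cones by two quasi-isomorphisms is a quasi-isomorphism -/
theorem quasiIso_cone_map {K₁ L₁ K₂ L₂ : CochainComplex C ℤ} (φ₁ : K₁ ⟶ L₁) (φ₂ : K₂ ⟶ L₂)
    (a : K₁ ⟶ K₂) (b : L₁ ⟶ L₂) (comm : φ₁ ≫ b = a ≫ φ₂) (ha : QuasiIso a) (hb : QuasiIso b) :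
    QuasiIso (mappingCone.map φ₁ φ₂ a b comm) := by
  rw [← DerivedCategory.isIso_Q_map_iff_quasiIso] at ha hb ⊢
  exact Pretriangulated.isIso₃_of_isIso₁₂
    (DerivedCategory.Q.mapTriangle.map (mappingCone.triangleMap φ₁ φ₂ a b comm))
    (DerivedCategory.mappingCone_triangle_distinguished φ₁)
    (DerivedCategory.mappingCone_triangle_distinguished φ₂) ha hb

end qi

end Groth.Agent.Lead.KoszulFunA
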