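import Mathlib
import Groth.Prelude.Def_ega3
import Groth.Prelude.Def_LCI2
import Groth.Agent.Helper1.KoszulBasic
import Groth.Agent.Helper1.KoszulTop
import Groth.Agent.Lead.KoszulFunA

set_option autoImplicit false

namespace Groth.Agent.Lead.KoszulFunB
open CategoryTheory Limits CochainComplex HomologicalComplex HomComplex CohIII
open Groth.Agent.Lead.KoszulFunA

universe u

section compat
variable {R R' : Type u} [CommRing R] [CommRing R']
  (F : ModuleCat.{u} R ⥤ ModuleCat.{u} R') [F.Additive]

/-- the functor `F` turns multiplication by `a` into multiplication by `b` -/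
def Compat (a : R) (b : R') : Prop :=
  ∀ X : ModuleCat.{u} R, F.map (a • 𝟙 X) = b • 𝟙 (F.obj X)

variable {F}

lemma map_smul_id {a : R} {b : R'} (h : Compat F a b) (K : CochainComplex (ModuleCat.{u} R) ℤ) :
    (F.mapHomologicalComplex (ComplexShape.up ℤ)).map (a • 𝟙 K) =
      b • 𝟙 ((F.mapHomologicalComplex (ComplexShape.up ℤ)).obj K) := by
  ext n : 1
  rw [Functor.mapHomologicalComplex_map_f, HomologicalComplex.smul_f_apply,
    HomologicalComplex.smul_f_apply, HomologicalComplex.id_f, HomologicalComplex.id_f]
  exact h _

/-- an additive functor compatible with the scalars maps Koszul complexes to Koszul complexes -/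
theorem nonempty_map_koszulCx_iso : ∀ (l : List R) (l' : List R'), List.Forall₂ (Compat F) l l' →
    ∀ M : ModuleCat.{u} R, Nonempty ((F.mapHomologicalComplex (ComplexShape.up ℤ)).obj
      (koszulCx M l) ≅ koszulCx (F.obj M) l')
  | [], [], _, M =>
    ⟨(HomologicalComplex.singleMapHomologicalComplex F (ComplexShape.up ℤ) 0).app M⟩
  | a :: l, b :: l', h, M => by
    rw [List.forall₂_cons] at h
    obtain ⟨e⟩ := nonempty_map_koszulCx_iso l l' h.2 M
    refine ⟨mappingCone.mapHomologicalComplexIso (a • 𝟙 (koszulCx M l)) F ≪≫ ?_⟩
    refine coneIso _ _ e e ?_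
    rw [map_smul_id h.1, Linear.smul_comp, Linear.comp_smul, Category.id_comp, Category.comp_id]

end compat

section homology
variable {C D : Type*} [Category C] [Category D] [Abelian C] [Abelian D]
  (F : C ⥤ D) [F.Additive] [F.PreservesHomology]

/-- a functor preserving homology commutes with the homology of a complex -/
noncomputable def mapHomologyIso {ι : Type*} {c : ComplexShape ι} (K : HomologicalComplex C c)
    (i : ι) : ((F.mapHomologicalComplex c).obj K).homology i ≅ F.obj (K.homology i) :=
  (K.sc i).mapHomologyIso F

lemma isZero_homology_map {ι : Type*} {c : ComplexShape ι} (K : HomologicalComplex C c)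
    (i : ι) (h : IsZero (K.homology i)) :
    IsZero (((F.mapHomologicalComplex c).obj K).homology i) :=
  (F.map_isZero h).of_iso (mapHomologyIso F K i)

lemma isZero_homology_of_map [F.Faithful] {ι : Type*} {c : ComplexShape ι}
    (K : HomologicalComplex C c)
    (i : ι) (h : IsZero (((F.mapHomologicalComplex c).obj K).homology i)) :
    IsZero (K.homology i) := by
  have h1 : IsZero (F.obj (K.homology i)) := h.of_iso (mapHomologyIso F K i).symm
  rw [IsZero.iff_id_eq_zero] at h1 ⊢
  apply F.map_injective
  rw [F.map_id, F.map_zero]
  exact h1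

end homology

end Groth.Agent.Lead.KoszulFunB
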