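import Mathlib
import Groth.Prelude.Def_ega3
import Groth.Prelude.Def_LCI2
import Groth.Agent.Helper1.KoszulBasic
import Groth.Agent.Helper1.KoszulTop
import Groth.Agent.Lead.KoszulFunB

set_option autoImplicit false

namespace Groth.Agent.Lead.KoszulFunC
open CategoryTheory Limits CochainComplex HomologicalComplex HomComplex CohIII
open Groth.Agent.Lead.KoszulFunA Groth.Agent.Lead.KoszulFunB Groth.Agent.Helper1.Koszul
open ChangeOfRings

universe u

section basics
variable {A : Type u} [CommRing A]

lemma koszul_eq (l : List A) : Koszul.koszul A l = CohIII.koszulCx (ModuleCat.of A A) l := by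
  induction l with
  | nil => rfl
  | cons f l ih =>
    show CochainComplex.mappingCone (f • 𝟙 (Koszul.koszul A l)) =
      CochainComplex.mappingCone (f • 𝟙 (CohIII.koszulCx (ModuleCat.of A A) l))
    rw [ih]

lemma isZero_homology_congr {K K' : CochainComplex (ModuleCat.{u} A) ℤ} (h : K = K') (i : ℤ) :
    IsZero (K.homology i) ↔ IsZero (K'.homology i) := by
  subst h
  rfl

lemma isKoszulRegularSeq_iff (l : List A) : LCI.IsKoszulRegularSeq A l ↔
    ∀ i : ℤ, i ≠ 0 → IsZero ((koszulCx (ModuleCat.of A A) l).homology i) := by
  unfold LCI.IsKoszulRegularSeq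
  exact forall_congr' fun i => imp_congr_right fun _ => isZero_homology_congr (koszul_eq l) i

/-- isomorphic modules have isomorphic Koszul complexes -/
noncomputable def kIso {M N : ModuleCat.{u} A} (e : M ≅ N) (l : List A) :
    koszulCx M l ≅ koszulCx N l where
  hom := kmap e.hom l
  inv := kmap e.inv l
  hom_inv_id := by rw [← kmap_comp, e.hom_inv_id, kmap_id]
  inv_hom_id := by rw [← kmap_comp, e.inv_hom_id, kmap_id]

end basics

section flat
variable {A B : Type u} [CommRing A] [CommRing B] [Algebra A B]

set_option backward.isDefEq.respectTransparency false in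
lemma compat_extendScalars (a : A) :
    Compat (ModuleCat.extendScalars.{u, u, u} (algebraMap A B)) a (algebraMap A B a) := by
  intro X
  ext x
  erw [ModuleCat.ExtendScalars.map_tmul]
  simp only [ModuleCat.hom_smul, ModuleCat.hom_id, LinearMap.smul_apply, LinearMap.id_coe, id_eq]
  refine ((TensorProduct.smul_tmul (R := A) (R' := A) a
    (show ((ModuleCat.restrictScalars (algebraMap A B)).obj (ModuleCat.of B B)) from (1 : B))
    x).symm.trans ?_)
  have h1 : ((algebraMap A B) a • ((1 : B) ⊗ₜ[A, algebraMap A B] x) :
      (ModuleCat.extendScalars (algebraMap A B)).obj X) =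
      ((algebraMap A B) a * 1) ⊗ₜ[A, algebraMap A B] x := rfl
  exact h1.symm


instance : (ModuleCat.extendScalars.{u, u, u} (algebraMap A B)).Additive :=
  (ModuleCat.extendRestrictScalarsAdj (algebraMap A B)).left_adjoint_additive

/-- the unit module goes to the unit module -/
noncomputable def extendScalarsUnitIso :
    (ModuleCat.extendScalars.{u, u, u} (algebraMap A B)).obj (ModuleCat.of A A) ≅
      ModuleCat.of B B :=
  (Functor.Monoidal.εIso (ModuleCat.extendScalars.{u, u, u} (algebraMap A B))).symm

theorem forall₂_map (l : List A) :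
    List.Forall₂ (Compat (ModuleCat.extendScalars.{u, u, u} (algebraMap A B))) l
      (l.map (algebraMap A B)) := by
  induction l with
  | nil => exact List.Forall₂.nil
  | cons a l ih => exact List.Forall₂.cons (compat_extendScalars a) ih

/-- flat base change of Koszul-regular sequences -/
theorem isKoszulRegularSeq_of_flat [Module.Flat A B] (l : List A)
    (hl : LCI.IsKoszulRegularSeq A l) :
    LCI.IsKoszulRegularSeq B (l.map (algebraMap A B)) := by
  rw [isKoszulRegularSeq_iff] at hl ⊢
  intro i hi
  haveI : PreservesFiniteLimits (ModuleCat.extendScalars.{u, u, u} (algebraMap A B)) :=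
    ModuleCat.preservesFiniteLimits_extendScalars_of_flat
      ((RingHom.flat_algebraMap_iff).mpr inferInstance)
  haveI : PreservesFiniteColimits (ModuleCat.extendScalars.{u, u, u} (algebraMap A B)) :=
    inferInstance
  obtain ⟨e⟩ := nonempty_map_koszulCx_iso l _ (forall₂_map (B := B) l) (ModuleCat.of A A)
  have h1 := isZero_homology_map (ModuleCat.extendScalars.{u, u, u} (algebraMap A B))
    (koszulCx (ModuleCat.of A A) l) i (hl i hi)
  have e2 := e ≪≫ kIso (extendScalarsUnitIso (A := A) (B := B)) (l.map (algebraMap A B))
  exact h1.of_iso ((HomologicalComplex.homologyFunctor _ _ i).mapIso e2).symm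

end flat

end Groth.Agent.Lead.KoszulFunC
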