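import Mathlib
import Groth.Prelude.Def_ega3
import Groth.Prelude.Def_LCI2
import Groth.Agent.Helper1.KoszulBasic
import Groth.Agent.Helper1.KoszulTop
import Groth.Agent.Lead.KoszulFunC

set_option autoImplicit false

namespace Groth.Agent.Lead.KoszulFunD
open CategoryTheory Limits CochainComplex HomologicalComplex HomComplex CohIII
open Groth.Agent.Lead.KoszulFunA Groth.Agent.Lead.KoszulFunB Groth.Agent.Lead.KoszulFunC
open Groth.Agent.Helper1.Koszul

universe u

variable {A : Type u} [CommRing A]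

/-- iterated cones of multiplications on a complex -/
noncomputable def kC (C : CochainComplex (ModuleCat.{u} A) ℤ) :
    List A → CochainComplex (ModuleCat.{u} A) ℤ
  | [] => C
  | a :: g => mappingCone (a • 𝟙 (kC C g))

noncomputable def kCmap {C D : CochainComplex (ModuleCat.{u} A) ℤ} (φ : C ⟶ D) :
    ∀ g : List A, kC C g ⟶ kC D g
  | [] => φ
  | a :: g => mappingCone.map (a • 𝟙 (kC C g)) (a • 𝟙 (kC D g)) (kCmap φ g) (kCmap φ g)
      (smul_id_comm a _)

lemma quasiIso_kCmap {C D : CochainComplex (ModuleCat.{u} A) ℤ} (φ : C ⟶ D) (h : QuasiIso φ) :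
    ∀ g : List A, QuasiIso (kCmap φ g)
  | [] => h
  | a :: g => quasiIso_cone_map _ _ _ _ _ (quasiIso_kCmap φ h g) (quasiIso_kCmap φ h g)

lemma kC_koszulCx (M : ModuleCat.{u} A) (f : List A) :
    ∀ g : List A, kC (koszulCx M f) g = koszulCx M (g ++ f)
  | [] => rfl
  | a :: g => by
    show mappingCone (a • 𝟙 (kC (koszulCx M f) g)) = mappingCone (a • 𝟙 (koszulCx M (g ++ f)))
    rw [kC_koszulCx M f g]

lemma kC_single (M : ModuleCat.{u} A) :
    ∀ g : List A, kC ((HomologicalComplex.single (ModuleCat.{u} A) (ComplexShape.up ℤ) 0).obj M) g =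
      koszulCx M g
  | [] => rfl
  | a :: g => by
    show mappingCone (a • 𝟙 (kC _ g)) = mappingCone (a • 𝟙 (koszulCx M g))
    rw [kC_single M g]

lemma isZero_homology_of_quasiIso {K L : CochainComplex (ModuleCat.{u} A) ℤ} (φ : K ⟶ L)
    (h : QuasiIso φ) (i : ℤ) (hL : IsZero (L.homology i)) : IsZero (K.homology i) := by
  haveI := h
  exact hL.of_iso (asIso (homologyMap φ i))

/-- a complex in degrees `≤ 0` with homology only in degree `0` maps quasi-isomorphically to a
one-term complex -/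
theorem exists_quasiIso_single (K : CochainComplex (ModuleCat.{u} A) ℤ)
    (hK : ∀ n : ℤ, 0 < n → IsZero (K.X n))
    (hH : ∀ i : ℤ, i ≠ 0 → IsZero (K.homology i)) :
    ∃ (M : ModuleCat.{u} A) (ψ : K ⟶ (HomologicalComplex.single (ModuleCat.{u} A)
      (ComplexShape.up ℤ) 0).obj M), QuasiIso ψ ∧ Nonempty (K.homology 0 ≅ M) := by
  haveI : K.IsStrictlyLE 0 := by
    rw [isStrictlyLE_iff]
    exact fun n hn => hK n hn
  haveI : K.IsGE 0 := by
    rw [isGE_iff]
    intro i hi
    rw [exactAt_iff_isZero_homology]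
    exact hH i (by omega)
  obtain ⟨M, ⟨e⟩⟩ := (K.truncGE 0).exists_iso_single 0
  refine ⟨M, K.πTruncGE 0 ≫ e.hom, inferInstance, ⟨?_⟩⟩
  exact asIso (homologyMap (K.πTruncGE 0 ≫ e.hom) 0) ≪≫
    (HomologicalComplex.singleObjHomologySelfIso (ComplexShape.up ℤ) 0 M)

/-- concatenation: if `f` is Koszul-regular with `H⁰ K(f) ≅ N` and `g` is Koszul-regular on `N`,
then `g ++ f` is Koszul-regular -/
theorem concat (f g : List A)
    (hf : ∀ i : ℤ, i ≠ 0 → IsZero ((koszulCx (ModuleCat.of A A) f).homology i))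
    (N : ModuleCat.{u} A) (e0 : (koszulCx (ModuleCat.of A A) f).homology 0 ≅ N)
    (hg : ∀ i : ℤ, i ≠ 0 → IsZero ((koszulCx N g).homology i)) :
    ∀ i : ℤ, i ≠ 0 → IsZero ((koszulCx (ModuleCat.of A A) (g ++ f)).homology i) := by
  intro i hi
  obtain ⟨M, ψ, hψ, ⟨eM⟩⟩ := exists_quasiIso_single (koszulCx (ModuleCat.of A A) f)
    (fun n hn => isZero_X_of_pos _ f n hn) hf
  have h1 := quasiIso_kCmap ψ hψ g
  have h2 : IsZero ((koszulCx M g).homology i) :=
    (hg i hi).of_iso ((HomologicalComplex.homologyFunctor _ _ i).mapIso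
      (kIso (eM.symm ≪≫ e0) g))
  have h3 : IsZero ((kC ((HomologicalComplex.single (ModuleCat.{u} A) (ComplexShape.up ℤ) 0).obj M)
      g).homology i) := (isZero_homology_congr (kC_single M g) i).mpr h2
  have h4 := isZero_homology_of_quasiIso _ h1 i h3
  exact (isZero_homology_congr (kC_koszulCx (ModuleCat.of A A) f g) i).mp h4

end Groth.Agent.Lead.KoszulFunD
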