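import Mathlib
import Groth.Prelude.Def_ega3
import Groth.Prelude.Def_LCI2
import Groth.Agent.Helper1.KoszulBasic
import Groth.Agent.Helper1.KoszulTop
import Groth.Agent.Lead.KoszulFunD

set_option autoImplicit false

namespace Groth.Agent.Lead.KoszulFunE
open CategoryTheory Limits CochainComplex HomologicalComplex HomComplex CohIII
open Groth.Agent.Lead.KoszulFunA Groth.Agent.Lead.KoszulFunB Groth.Agent.Lead.KoszulFunC
open Groth.Agent.Lead.KoszulFunD
open Groth.Agent.Helper1.Koszul

universe u

variable {A B : Type u} [CommRing A] [CommRing B] (φ : A →+* B)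

lemma compat_restrictScalars (a : A) :
    Compat (ModuleCat.restrictScalars.{u} φ) (φ a) a := by
  intro X
  ext x
  rfl

theorem forall₂_map (l : List A) :
    List.Forall₂ (Compat (ModuleCat.restrictScalars.{u} φ)) (l.map φ) l := by
  induction l with
  | nil => exact List.Forall₂.nil
  | cons a l ih => exact List.Forall₂.cons (compat_restrictScalars φ a) ih

/-- `B` as an `A`-module is `H⁰` of the Koszul complex of generators of the kernel -/
theorem nonempty_homology_zero_iso (hφ : Function.Surjective φ) (f : List A)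
    (hker : RingHom.ker φ = Ideal.ofList f) :
    Nonempty ((koszulCx (ModuleCat.of A A) f).homology 0 ≅
      (ModuleCat.restrictScalars.{u} φ).obj (ModuleCat.of B B)) := by
  obtain ⟨e⟩ := nonempty_homology_zero_equiv A f
  have h1 : (Ideal.ofList f • (⊤ : Submodule A A)) = RingHom.ker φ := by
    rw [Ideal.smul_eq_mul, Ideal.mul_top, hker]
  letI := φ.toAlgebra
  let ψ : A →ₗ[A] ((ModuleCat.restrictScalars.{u} φ).obj (ModuleCat.of B B)) :=
    { toFun := fun a => φ a
      map_add' := fun a b => φ.map_add a b
      map_smul' := fun a b => φ.map_mul a b }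
  have hψs : Function.Surjective ψ := hφ
  have hψk : LinearMap.ker ψ = Ideal.ofList f • (⊤ : Submodule A A) := by
    rw [h1]
    ext a
    rfl
  exact ⟨(e.trans ((Submodule.quotEquivOfEq _ _ hψk.symm).trans
    (ψ.quotKerEquivOfSurjective hψs))).toModuleIso⟩

/-- Koszul-regular sequences concatenate along a quotient -/
theorem isKoszulRegularSeq_append (hφ : Function.Surjective φ) (f g : List A)
    (hker : RingHom.ker φ = Ideal.ofList f)
    (hf : LCI.IsKoszulRegularSeq A f) (hg : LCI.IsKoszulRegularSeq B (g.map φ)) :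
    LCI.IsKoszulRegularSeq A (g ++ f) := by
  rw [isKoszulRegularSeq_iff] at hf hg ⊢
  obtain ⟨e0⟩ := nonempty_homology_zero_iso φ hφ f hker
  refine concat f g hf _ e0 ?_
  intro i hi
  obtain ⟨e⟩ := nonempty_map_koszulCx_iso _ _ (forall₂_map φ g) (ModuleCat.of B B)
  have h1 := isZero_homology_map (ModuleCat.restrictScalars.{u} φ)
    (koszulCx (ModuleCat.of B B) (g.map φ)) i (hg i hi)
  exact h1.of_iso ((HomologicalComplex.homologyFunctor _ _ i).mapIso e).symm

end Groth.Agent.Lead.KoszulFunE
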