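import Mathlib
import Groth.Prelude.Def_Koszul
import Groth.Prelude.Def_LCI2
import Groth.Prelude.Def_CAlgX

set_option autoImplicit false

namespace Groth.Agent.Lead.KoszulH1
open CategoryTheory Limits CochainComplex HomologicalComplex HomComplex

universe u
variable {A : Type u} [CommRing A]

section Cone
variable {K : CochainComplex (ModuleCat.{u} A) ℤ} (φ : K ⟶ K)

lemma fst_inl (p q : ℤ) (hpq : q + 1 = p) (x : K.X p) :
    ((mappingCone.fst φ).1.v q p hpq).hom
      (((mappingCone.inl φ).v p q (by omega)).hom x) = x := by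
  have := congrArg (fun g => g.hom x) (mappingCone.inl_v_fst_v φ p q hpq)
  exact this

lemma snd_inl (p q : ℤ) (hpq : p + (-1) = q) (x : K.X p) :
    ((mappingCone.snd φ).v q q (add_zero q)).hom
      (((mappingCone.inl φ).v p q hpq).hom x) = 0 := by
  have := congrArg (fun g => g.hom x) (mappingCone.inl_v_snd_v φ p q hpq)
  exact this

lemma fst_inr (p q : ℤ) (hpq : p + 1 = q) (x : K.X p) :
    ((mappingCone.fst φ).1.v p q hpq).hom (((mappingCone.inr φ).f p).hom x) = 0 := by
  have := congrArg (fun g => g.hom x) (mappingCone.inr_f_fst_v φ p q hpq)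
  exact this

lemma snd_inr (p : ℤ) (x : K.X p) :
    ((mappingCone.snd φ).v p p (add_zero p)).hom (((mappingCone.inr φ).f p).hom x) = x := by
  have := congrArg (fun g => g.hom x) (mappingCone.inr_f_snd_v φ p)
  exact this

lemma fst_d (i j k : ℤ) (hij : i + 1 = j) (hjk : j + 1 = k) (x : (mappingCone φ).X i) :
    ((mappingCone.fst φ).1.v j k hjk).hom (((mappingCone φ).d i j).hom x) =
      -(K.d j k).hom (((mappingCone.fst φ).1.v i j hij).hom x) := by
  have := congrArg (fun g => g.hom x) (mappingCone.d_fst_v φ i j k hij hjk)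
  exact this

lemma snd_d (i j : ℤ) (hij : i + 1 = j) (x : (mappingCone φ).X i) :
    ((mappingCone.snd φ).v j j (add_zero j)).hom (((mappingCone φ).d i j).hom x) =
      (φ.f j).hom (((mappingCone.fst φ).1.v i j hij).hom x) +
        (K.d i j).hom (((mappingCone.snd φ).v i i (add_zero i)).hom x) := by
  have := congrArg (fun g => g.hom x) (mappingCone.d_snd_v φ i j hij)
  exact this

lemma decomp (n m : ℤ) (h : n + 1 = m) (x : (mappingCone φ).X n) :
    x = ((mappingCone.inl φ).v m n (by omega)).hom (((mappingCone.fst φ).1.v n m h).hom x) +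
      ((mappingCone.inr φ).f n).hom (((mappingCone.snd φ).v n n (add_zero n)).hom x) := by
  have := congrArg (fun g => g.hom x) (mappingCone.id_X φ n m h)
  exact this.symm

lemma ext_elem (n m : ℤ) (h : n + 1 = m) (x y : (mappingCone φ).X n)
    (h1 : ((mappingCone.fst φ).1.v n m h).hom x = ((mappingCone.fst φ).1.v n m h).hom y)
    (h2 : ((mappingCone.snd φ).v n n (add_zero n)).hom x =
      ((mappingCone.snd φ).v n n (add_zero n)).hom y) : x = y := by
  rw [decomp φ n m h x, decomp φ n m h y, h1, h2]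

end Cone

/-- the submodule of trivial (Koszul) relations -/
def Triv {n : ℕ} (v : Fin n → A) : Submodule A (Fin n → A) :=
  Submodule.span A {w | ∃ i j : Fin n, w = Pi.single i (v j) - Pi.single j (v i)}

/-- explicit description of a complex in degrees `0, -1, -2` -/
def Low (K : CochainComplex (ModuleCat.{u} A) ℤ) {n : ℕ} (v : Fin n → A) : Prop :=
  (∀ m : ℤ, 0 < m → Subsingleton (K.X m)) ∧
    ∃ (e0 : A →ₗ[A] K.X 0) (e1 : (Fin n → A) →ₗ[A] K.X (-1)),
      Function.Bijective e0 ∧ Function.Surjective e1 ∧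
      (∀ a, (K.d (-1) 0).hom (e1 a) = e0 (∑ i, a i * v i)) ∧
      ∀ (x : K.X (-2)) (a : Fin n → A), e1 a = (K.d (-2) (-1)).hom x → a ∈ Triv v

theorem isH1Regular_of_low (K : CochainComplex (ModuleCat.{u} A) ℤ) {n : ℕ} (v : Fin n → A)
    (h : Low K v) (hz : IsZero (K.homology (-1))) : CAlgX.IsH1Regular v := by
  obtain ⟨-, e0, e1, -, -, hd, hb⟩ := h
  intro a ha
  have hex : (K.sc' (-2) (-1) 0).Exact :=
    (K.exactAt_iff' (-2) (-1) 0 (by simp) (by simp)).mp
      ((K.exactAt_iff_isZero_homology (-1)).mpr hz)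
  rw [ShortComplex.moduleCat_exact_iff] at hex
  obtain ⟨x, hx⟩ := hex (e1 a) (by
    change (K.d (-1) 0).hom (e1 a) = 0
    rw [hd, ha, map_zero])
  exact hb x a hx.symm

theorem low_single : Low ((CochainComplex.singleFunctor (ModuleCat.{u} A) 0).obj (ModuleCat.of A A))
    (Fin.elim0 : Fin 0 → A) := by
  have hz : ∀ m : ℤ, m ≠ 0 → Subsingleton
      (((CochainComplex.singleFunctor (ModuleCat.{u} A) 0).obj (ModuleCat.of A A)).X m) := by
    intro m hm
    exact ModuleCat.subsingleton_of_isZero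
      (HomologicalComplex.isZero_single_obj_X (ComplexShape.up ℤ) 0 (ModuleCat.of A A) m hm)
  refine ⟨fun m hm => hz m hm.ne', ?_⟩
  let iso := HomologicalComplex.singleObjXSelf (ComplexShape.up ℤ) (0 : ℤ) (ModuleCat.of A A)
  haveI := hz (-1) (by norm_num)
  refine ⟨iso.inv.hom, 0, ?_, ?_, ?_, ?_⟩
  · exact (ConcreteCategory.bijective_of_isIso iso.inv)
  · intro y
    exact ⟨0, Subsingleton.elim _ _⟩
  · intro a
    simp
  · intro x a _
    have : a = 0 := Subsingleton.elim _ _
    rw [this]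
    exact Submodule.zero_mem _

section Triv
variable {n : ℕ} (f : A) (v : Fin n → A)

lemma cons_zero_mem_triv (t : Fin n → A) (ht : t ∈ Triv v) :
    (Fin.cons 0 t : Fin (n + 1) → A) ∈ Triv (Fin.cons f v : Fin (n + 1) → A) := by
  induction ht using Submodule.span_induction with
  | mem x hx =>
    obtain ⟨i, j, rfl⟩ := hx
    apply Submodule.subset_span
    refine ⟨i.succ, j.succ, ?_⟩
    funext k
    refine Fin.cases ?_ (fun k' => ?_) k
    · simp [Pi.single_apply, Fin.succ_ne_zero, eq_comm]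
    · simp [Pi.single_apply, Fin.succ_inj]
  | zero =>
    have : (Fin.cons 0 (0 : Fin n → A) : Fin (n + 1) → A) = 0 := by
      funext k
      refine Fin.cases ?_ (fun k' => ?_) k <;> simp
    rw [this]
    exact Submodule.zero_mem _
  | add x y _ _ hx hy =>
    have : (Fin.cons 0 (x + y) : Fin (n + 1) → A) = Fin.cons 0 x + Fin.cons 0 y := by
      funext k
      refine Fin.cases ?_ (fun k' => ?_) k <;> simp
    rw [this]
    exact Submodule.add_mem _ hx hy
  | smul r x _ hx =>
    have : (Fin.cons 0 (r • x) : Fin (n + 1) → A) = r • Fin.cons 0 x := by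
      funext k
      refine Fin.cases ?_ (fun k' => ?_) k <;> simp
    rw [this]
    exact Submodule.smul_mem _ _ hx

lemma cons_neg_sum_mem_triv (c : Fin n → A) :
    (Fin.cons (-∑ i, c i * v i) (f • c) : Fin (n + 1) → A) ∈
      Triv (Fin.cons f v : Fin (n + 1) → A) := by
  have h : (Fin.cons (-∑ i, c i * v i) (f • c) : Fin (n + 1) → A) =
      ∑ i, c i • (Pi.single i.succ ((Fin.cons f v : Fin (n + 1) → A) 0) -
        Pi.single 0 ((Fin.cons f v : Fin (n + 1) → A) i.succ)) := by
    funext k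
    refine Fin.cases ?_ (fun k' => ?_) k
    · simp [Pi.single_apply, Fin.succ_ne_zero, eq_comm, Finset.sum_neg_distrib]
    · simp [Pi.single_apply, Fin.succ_inj, Fin.succ_ne_zero, mul_comm]
  rw [h]
  refine Submodule.sum_mem _ fun i _ => Submodule.smul_mem _ _ (Submodule.subset_span ?_)
  exact ⟨i.succ, 0, rfl⟩

end Triv

theorem low_cone (K : CochainComplex (ModuleCat.{u} A) ℤ) {n : ℕ} (v : Fin n → A) (h : Low K v)
    (f : A) : Low (mappingCone (f • 𝟙 K)) (Fin.cons f v : Fin (n + 1) → A) := by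
  obtain ⟨hpos, e0, e1, he0, he1, hd, hb⟩ := h
  set φ : K ⟶ K := f • 𝟙 K with hφ
  have hφf : ∀ (j : ℤ) (y : K.X j), (φ.f j).hom y = f • y := by
    intro j y
    rw [hφ]
    simp
  have hposC : ∀ m : ℤ, 0 < m → Subsingleton ((mappingCone φ).X m) := by
    intro m hm
    haveI := hpos m hm
    haveI := hpos (m + 1) (by omega)
    exact ⟨fun x y => ext_elem φ m (m + 1) rfl x y (Subsingleton.elim _ _) (Subsingleton.elim _ _)⟩
  refine ⟨hposC, ?_⟩
  let e0' : A →ₗ[A] (mappingCone φ).X 0 := ((mappingCone.inr φ).f 0).hom ∘ₗ e0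
  let e1' : (Fin (n + 1) → A) →ₗ[A] (mappingCone φ).X (-1) :=
    ((mappingCone.inl φ).v 0 (-1) (by omega)).hom ∘ₗ e0 ∘ₗ LinearMap.proj 0 +
      ((mappingCone.inr φ).f (-1)).hom ∘ₗ e1 ∘ₗ LinearMap.funLeft A A Fin.succ
  have he1' : ∀ a, e1' a = ((mappingCone.inl φ).v 0 (-1) (by omega)).hom (e0 (a 0)) +
      ((mappingCone.inr φ).f (-1)).hom (e1 (a ∘ Fin.succ)) := fun a => rfl
  have hfst1 : ∀ a, ((mappingCone.fst φ).1.v (-1) 0 (by omega)).hom (e1' a) = e0 (a 0) := by
    intro a
    rw [he1', map_add, fst_inl φ 0 (-1) (by omega), fst_inr, add_zero]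
  have hsnd1 : ∀ a, ((mappingCone.snd φ).v (-1) (-1) (add_zero _)).hom (e1' a) =
      e1 (a ∘ Fin.succ) := by
    intro a
    rw [he1', map_add, snd_inl φ 0 (-1) (by omega), snd_inr, zero_add]
  refine ⟨e0', e1', ⟨?_, ?_⟩, ?_, ?_, ?_⟩
  · intro x y hxy
    have := congrArg ((mappingCone.snd φ).v 0 0 (add_zero 0)).hom hxy
    change ((mappingCone.snd φ).v 0 0 (add_zero 0)).hom (((mappingCone.inr φ).f 0).hom (e0 x)) =
      ((mappingCone.snd φ).v 0 0 (add_zero 0)).hom (((mappingCone.inr φ).f 0).hom (e0 y)) at this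
    rw [snd_inr, snd_inr] at this
    exact he0.1 this
  · intro y
    obtain ⟨x, hx⟩ := he0.2 (((mappingCone.snd φ).v 0 0 (add_zero 0)).hom y)
    refine ⟨x, ?_⟩
    haveI := hpos 1 (by norm_num)
    apply ext_elem φ 0 1 rfl
    · exact Subsingleton.elim _ _
    · change ((mappingCone.snd φ).v 0 0 (add_zero 0)).hom (((mappingCone.inr φ).f 0).hom (e0 x)) = _
      rw [snd_inr, hx]
  · intro y
    obtain ⟨a₀, ha₀⟩ := he0.2 (((mappingCone.fst φ).1.v (-1) 0 (by omega)).hom y)
    obtain ⟨a', ha'⟩ := he1 (((mappingCone.snd φ).v (-1) (-1) (add_zero _)).hom y)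
    refine ⟨Fin.cons a₀ a', ?_⟩
    apply ext_elem φ (-1) 0 (by omega)
    · rw [hfst1, Fin.cons_zero, ha₀]
    · rw [hsnd1]
      have : (Fin.cons a₀ a' : Fin (n + 1) → A) ∘ Fin.succ = a' := by
        funext i; simp
      rw [this, ha']
  · intro a
    haveI := hpos 1 (by norm_num)
    apply ext_elem φ 0 1 rfl
    · exact Subsingleton.elim _ _
    · rw [snd_d φ (-1) 0 (by omega), hfst1, hsnd1, hφf, hd]
      change _ = ((mappingCone.snd φ).v 0 0 (add_zero 0)).hom (((mappingCone.inr φ).f 0).hom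
        (e0 (∑ i, a i * (Fin.cons f v : Fin (n + 1) → A) i)))
      rw [snd_inr, ← map_smul, ← map_add, Fin.sum_univ_succ]
      congr 1
      simp [mul_comm]
  · intro x a hax
    obtain ⟨c, hc⟩ := he1 (((mappingCone.fst φ).1.v (-2) (-1) (by omega)).hom x)
    have H1 := congrArg ((mappingCone.fst φ).1.v (-1) 0 (by omega)).hom hax
    rw [hfst1, fst_d φ (-2) (-1) 0 (by omega) (by omega), ← hc, hd, ← map_neg] at H1
    have H1' : a 0 = -∑ i, c i * v i := he0.1 H1
    have H2 := congrArg ((mappingCone.snd φ).v (-1) (-1) (add_zero _)).hom hax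
    rw [hsnd1, snd_d φ (-2) (-1) (by omega), hφf, ← hc, ← map_smul] at H2
    have H2' : e1 (a ∘ Fin.succ - f • c) =
        (K.d (-2) (-1)).hom (((mappingCone.snd φ).v (-2) (-2) (add_zero _)).hom x) := by
      rw [map_sub, H2, add_sub_cancel_left]
    have H3 := hb _ _ H2'
    have ha : a = Fin.cons (-∑ i, c i * v i) (f • c) + Fin.cons 0 (a ∘ Fin.succ - f • c) := by
      funext k
      refine Fin.cases ?_ (fun k' => ?_) k
      · simp [H1']
      · simp
    rw [ha]
    exact Submodule.add_mem _ (cons_neg_sum_mem_triv f v c) (cons_zero_mem_triv f v _ H3)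

theorem low_koszul : ∀ l : List A, Low (Koszul.koszul A l) l.get
  | [] => by
    have h := low_single (A := A)
    have hv : (Fin.elim0 : Fin 0 → A) = ([] : List A).get := by
      funext i; exact i.elim0
    rw [hv] at h
    exact h
  | f :: l => by
    have h := low_cone (Koszul.koszul A l) l.get (low_koszul l) f
    have hv : (Fin.cons f l.get : Fin (l.length + 1) → A) = (f :: l).get := by
      funext i
      refine Fin.cases ?_ (fun k => ?_) i <;> simp
    rw [hv] at h
    exact h

/-- **Koszul-regular sequences are `H_1`-regular** -/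
theorem isH1Regular_of_isKoszulRegularSeq (l : List A) (hl : LCI.IsKoszulRegularSeq A l) :
    CAlgX.IsH1Regular l.get :=
  isH1Regular_of_low _ _ (low_koszul l) (hl (-1) (by norm_num))

end Groth.Agent.Lead.KoszulH1
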