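import Mathlib

set_option autoImplicit false
universe u

namespace Groth.Agent.Lead.RegLocal

open IsLocalRing

variable {R : Type u} [CommRing R]

/-- Quotient of a local ring by a proper ideal is local, with the expected maximal ideal. -/
lemma quotient_local [IsLocalRing R] {I : Ideal R} (hI : I ≠ ⊤) :
    ∃ _ : IsLocalRing (R ⧸ I),
      (maximalIdeal R).map (Ideal.Quotient.mk I) = maximalIdeal (R ⧸ I) := by
  have : Nontrivial (R ⧸ I) := Ideal.Quotient.nontrivial_iff.mpr hI
  have hl := IsLocalRing.of_surjective' (Ideal.Quotient.mk I) Ideal.Quotient.mk_surjective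
  have := IsLocalHom.of_surjective (Ideal.Quotient.mk I) Ideal.Quotient.mk_surjective
  refine ⟨hl, ?_⟩
  ext x
  obtain ⟨x, rfl⟩ := Ideal.Quotient.mk_surjective x
  simp [sup_eq_left.mpr (le_maximalIdeal hI)]

/-- Exchange lemma: if `x ∈ m \ m²`, the image of `m` in `R/(x)` needs one generator less. -/
lemma spanFinrank_map_quotient_le [IsLocalRing R] [IsNoetherianRing R] {x : R}
    (hx : x ∈ maximalIdeal R) (hx2 : x ∉ maximalIdeal R ^ 2) :
    ((maximalIdeal R).map (Ideal.Quotient.mk (Ideal.span {x}))).spanFinrank + 1 ≤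
      (maximalIdeal R).spanFinrank := by
  classical
  set m := maximalIdeal R with hm
  have hfg : m.FG := m.fg_of_isNoetherianRing
  have hGfin : (Submodule.generators m).Finite := Submodule.FG.finite_generators hfg
  have hGspan : Submodule.span R (Submodule.generators m) = m := Submodule.span_generators m
  have hGcard : (Submodule.generators m).ncard = m.spanFinrank :=
    Submodule.FG.generators_ncard hfg
  set F : Finset R := hGfin.toFinset with hF
  have hFspan : Submodule.span R (F : Set R) = m := by
    rw [hF, Set.Finite.coe_toFinset]; exact hGspan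
  have hFcard : F.card = m.spanFinrank := by
    rw [← hGcard, Set.ncard_eq_toFinset_card _ hGfin]
  have hFm : ∀ g ∈ F, g ∈ m := by
    intro g hg
    rw [← hFspan]
    exact Submodule.subset_span hg
  have hxF : x ∈ Submodule.span R (F : Set R) := by rw [hFspan]; exact hx
  obtain ⟨c, hc⟩ := Submodule.mem_span_finset'.mp hxF
  -- some coefficient is a unit
  have hunit : ∃ g : F, IsUnit (c g) := by
    by_contra hcon
    push Not at hcon
    apply hx2
    rw [← hc, pow_two]
    refine Ideal.sum_mem _ (fun g _ => ?_)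
    rw [smul_eq_mul]
    exact Ideal.mul_mem_mul ((mem_maximalIdeal _).mpr (hcon g)) (hFm g g.2)
  obtain ⟨g₀, hg₀⟩ := hunit
  -- g₀ is in the span of x and the other generators
  set T : Set R := insert x ((F.erase g₀ : Finset R) : Set R) with hT
  have hg₀T : (g₀ : R) ∈ Submodule.span R T := by
    obtain ⟨u, hu⟩ := hg₀
    have hsum : x = c g₀ • (g₀ : R) + ∑ g ∈ (Finset.univ : Finset F).erase g₀, c g • (g : R) := by
      rw [← hc, ← Finset.add_sum_erase _ _ (Finset.mem_univ g₀)]
    have : (g₀ : R) = (↑u⁻¹ : R) * (x - ∑ g ∈ (Finset.univ : Finset F).erase g₀, c g • (g : R)) := by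
      rw [hsum, add_sub_cancel_right, smul_eq_mul, ← hu, ← mul_assoc, Units.inv_mul, one_mul]
    rw [this]
    refine Submodule.smul_mem _ _ (Submodule.sub_mem _ ?_ ?_)
    · exact Submodule.subset_span (Set.mem_insert _ _)
    · refine Submodule.sum_mem _ (fun g hg => Submodule.smul_mem _ _ ?_)
      apply Submodule.subset_span
      right
      simp only [Finset.coe_erase, Set.mem_diff, Finset.mem_coe, Set.mem_singleton_iff]
      refine ⟨g.2, ?_⟩
      intro h
      exact (Finset.mem_erase.mp hg).1 (Subtype.ext h)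
  have hmT : m ≤ Submodule.span R T := by
    rw [← hFspan, Submodule.span_le]
    intro g hg
    by_cases h : g = g₀
    · rw [h]; exact hg₀T
    · apply Submodule.subset_span
      right
      simp only [Finset.coe_erase, Set.mem_diff, Finset.mem_coe, Set.mem_singleton_iff]
      exact ⟨hg, h⟩
  -- compute the image
  set mk := Ideal.Quotient.mk (Ideal.span {x}) with hmk
  have himg : m.map mk = Ideal.span (mk '' ((F.erase g₀ : Finset R) : Set R)) := by
    apply le_antisymm
    · have h1 : m.map mk ≤ (Ideal.span T).map mk := Ideal.map_mono hmT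
      refine h1.trans ?_
      rw [Ideal.map_span, Ideal.span_le]
      rintro _ ⟨t, ht, rfl⟩
      rcases ht with rfl | ht
      · have : mk t = 0 := by
          rw [hmk, Ideal.Quotient.eq_zero_iff_mem]
          exact Ideal.mem_span_singleton_self t
        rw [this]
        exact Ideal.zero_mem _
      · exact Ideal.subset_span ⟨t, ht, rfl⟩
    · rw [Ideal.span_le]
      rintro _ ⟨t, ht, rfl⟩
      apply Ideal.mem_map_of_mem
      exact hFm t (Finset.mem_of_mem_erase ht)
  rw [himg]
  have hfin : (mk '' ((F.erase g₀ : Finset R) : Set R)).Finite :=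
    (Finset.finite_toSet _).image _
  have h1 := Submodule.spanFinrank_span_le_ncard_of_finite (R := R ⧸ Ideal.span {x}) hfin
  have h2 : (mk '' ((F.erase g₀ : Finset R) : Set R)).ncard ≤ (F.erase g₀).card := by
    refine (Set.ncard_image_le (Finset.finite_toSet _)).trans ?_
    rw [Set.ncard_coe_finset]
  have h3 : (F.erase g₀).card + 1 = F.card := Finset.card_erase_add_one g₀.2
  have h4 : (Ideal.span (mk '' ((F.erase g₀ : Finset R) : Set R))).spanFinrank ≤
      (F.erase g₀).card := h1.trans h2
  omega


/-- Quotient of a regular local ring by an element of `m \ m²` is regular local, of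
dimension one less. -/
lemma quotient_isRegularLocalRing [IsRegularLocalRing R] {x : R}
    (hx : x ∈ maximalIdeal R) (hx2 : x ∉ maximalIdeal R ^ 2) :
    IsRegularLocalRing (R ⧸ Ideal.span {x}) ∧
      ringKrullDim (R ⧸ Ideal.span {x}) + 1 = ringKrullDim R ∧
      ∃ _ : IsLocalRing (R ⧸ Ideal.span {x}),
        (maximalIdeal (R ⧸ Ideal.span {x})).spanFinrank + 1 = (maximalIdeal R).spanFinrank := by
  have hI : Ideal.span {x} ≠ ⊤ := by
    intro h
    have : Ideal.span {x} ≤ maximalIdeal R := (Ideal.span_singleton_le_iff_mem _).mpr hx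
    rw [h] at this
    exact (maximalIdeal.isMaximal R).ne_top (top_le_iff.mp this)
  obtain ⟨hl, hmax⟩ := quotient_local hI
  have hle := spanFinrank_map_quotient_le hx hx2
  rw [hmax] at hle
  have hreg : (maximalIdeal R).spanFinrank = ringKrullDim R :=
    IsRegularLocalRing.spanFinrank_maximalIdeal
  -- dimension inequality
  have hdim : ringKrullDim R ≤ ringKrullDim (R ⧸ Ideal.span {x}) + 1 := by
    have key := ringKrullDim_le_ringKrullDim_quotient_add_card ({x} : Finset R) (by
      rw [IsLocalRing.ringJacobson_eq_maximalIdeal]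
      simpa using hx)
    have hEq : ∀ (I J : Ideal R), I = J → ringKrullDim (R ⧸ I) = ringKrullDim (R ⧸ J) := by
      rintro I J rfl; rfl
    rw [hEq (Ideal.span ↑({x} : Finset R)) (Ideal.span {x}) (by simp)] at key
    simpa using key
  have hge := ringKrullDim_le_spanFinrank_maximalIdeal (R ⧸ Ideal.span {x})
  -- work in ℕ
  obtain ⟨d', hd'⟩ : ∃ d' : ℕ, ringKrullDim (R ⧸ Ideal.span {x}) = d' := by
    have h1 : ringKrullDim (R ⧸ Ideal.span {x}) ≠ ⊥ := ringKrullDim_ne_bot
    have h2 : ringKrullDim (R ⧸ Ideal.span {x}) ≠ ⊤ := ringKrullDim_ne_top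
    obtain ⟨e, he⟩ := WithBot.ne_bot_iff_exists.mp h1
    have h3 : e ≠ ⊤ := by
      intro h; rw [h] at he; exact h2 he.symm
    obtain ⟨d', hd'⟩ := ENat.ne_top_iff_exists.mp h3
    exact ⟨d', by rw [← he, ← hd']; rfl⟩
  rw [hd'] at hdim hge
  rw [← hreg] at hdim
  have h5 : (maximalIdeal R).spanFinrank ≤ d' + 1 := by exact_mod_cast hdim
  have h6 : d' ≤ (maximalIdeal (R ⧸ Ideal.span {x})).spanFinrank := by exact_mod_cast hge
  have h7 : (maximalIdeal (R ⧸ Ideal.span {x})).spanFinrank = d' := by omega
  have h8 : (maximalIdeal R).spanFinrank = d' + 1 := by omega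
  refine ⟨?_, ?_, hl, by omega⟩
  · apply IsRegularLocalRing.of_spanFinrank_maximalIdeal_le
    rw [hd', h7]
  · rw [hd', ← hreg, h8]
    rfl


/-- In a Noetherian local ring which is not a field... existence of an element of `m` outside
`m²` and all minimal primes, provided `m ≠ m²`-type degeneracies are excluded. -/
lemma exists_mem_notMem_sq_minimalPrimes [IsLocalRing R] [IsNoetherianRing R]
    (hdim : ¬ ringKrullDim R ≤ 0) :
    ∃ x ∈ maximalIdeal R, x ∉ maximalIdeal R ^ 2 ∧ ∀ q ∈ minimalPrimes R, x ∉ q := by
  classical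
  set m := maximalIdeal R with hm
  have hfin : (insert (m ^ 2) (minimalPrimes R)).Finite :=
    (minimalPrimes.finite_of_isNoetherianRing R).insert _
  have hnot : ¬ ((m : Set R) ⊆ ⋃ q ∈ insert (m ^ 2) (minimalPrimes R), (id q : Ideal R)) := by
    intro hsub
    obtain ⟨q, hq, hle⟩ := (Ideal.subset_union_prime_finite hfin (f := id) (m ^ 2) (m ^ 2)
      (fun K hK hK1 _ => by
        rcases hK with rfl | hK
        · exact absurd rfl hK1
        · exact (Ideal.minimalPrimes_isPrime hK : K.IsPrime))).mp hsub
    rcases hq with rfl | hq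
    · -- m ≤ m ^ 2, Nakayama
      have hle' : m ≤ m • m := by simpa [pow_two] using hle
      have hbot : m = ⊥ := by
        have := Submodule.eq_bot_of_le_smul_of_le_jacobson_bot m m
          (m.fg_of_isNoetherianRing) hle' (IsLocalRing.maximalIdeal_le_jacobson _)
        exact this
      apply hdim
      have hf : IsField R := IsLocalRing.isField_iff_maximalIdeal_eq.mpr hbot
      letI := hf.toField
      exact le_of_eq (ringKrullDim_eq_zero_of_field R)
    · have hqp : (id q : Ideal R).IsPrime := Ideal.minimalPrimes_isPrime hq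
      have heq : m = q := (IsLocalRing.maximalIdeal.isMaximal R).eq_of_le hqp.ne_top hle
      apply hdim
      rw [← IsLocalRing.maximalIdeal_height_eq_ringKrullDim, ← hm, heq]
      have : q.height = 0 := by
        have := hqp
        simp only [id] at this
        exact (Ideal.height_eq_zero_iff (I := q)).mpr hq
      rw [this]
      rfl
  rw [Set.not_subset] at hnot
  obtain ⟨x, hxm, hx⟩ := hnot
  refine ⟨x, hxm, ?_, ?_⟩
  · intro h
    exact hx (Set.mem_biUnion (Set.mem_insert _ _) h)
  · intro q hq h
    exact hx (Set.mem_biUnion (Set.mem_insert_of_mem _ hq) h)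

theorem isDomain_of_spanFinrank : ∀ (d : ℕ) (R : Type u) [CommRing R] [IsRegularLocalRing R],
    (maximalIdeal R).spanFinrank = d → IsDomain R := by
  intro d
  induction d with
  | zero =>
    intro R _ _ h
    have hbot : maximalIdeal R = ⊥ :=
      (Submodule.spanFinrank_eq_zero_iff_eq_bot (maximalIdeal R).fg_of_isNoetherianRing).mp h
    exact (IsLocalRing.isField_iff_maximalIdeal_eq.mpr hbot).isDomain
  | succ d ih =>
    intro R _ _ h
    have hreg : (maximalIdeal R).spanFinrank = ringKrullDim R :=
      IsRegularLocalRing.spanFinrank_maximalIdeal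
    have hdim : ¬ ringKrullDim R ≤ 0 := by
      rw [← hreg, h]
      intro hle
      have : ((d + 1 : ℕ) : WithBot ℕ∞) ≤ ((0 : ℕ) : WithBot ℕ∞) := hle
      have h' : d + 1 ≤ 0 := by exact_mod_cast this
      omega
    obtain ⟨x, hxm, hx2, hxq⟩ := exists_mem_notMem_sq_minimalPrimes hdim
    obtain ⟨hR', -, hl, hspan⟩ := quotient_isRegularLocalRing hxm hx2
    have hd : (maximalIdeal (R ⧸ Ideal.span {x})).spanFinrank = d := by omega
    have hdom : IsDomain (R ⧸ Ideal.span {x}) := ih (R ⧸ Ideal.span {x}) hd
    have hprime : (Ideal.span {x}).IsPrime := (Ideal.Quotient.isDomain_iff_prime _).mp hdom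
    -- a minimal prime below (x)
    obtain ⟨q, hq, hqle⟩ := Ideal.exists_minimalPrimes_le (I := ⊥) (J := Ideal.span {x}) bot_le
    have hqmin : q ∈ minimalPrimes R := hq
    have hqp : q.IsPrime := Ideal.minimalPrimes_isPrime hq
    have hxq' : x ∉ q := hxq q hqmin
    have hsub : q ≤ Ideal.span {x} • q := by
      intro y hy
      obtain ⟨a, rfl⟩ := Ideal.mem_span_singleton'.mp (hqle hy)
      have ha : a ∈ q := (hqp.mem_or_mem hy).resolve_right hxq'
      rw [mul_comm]
      exact Submodule.smul_mem_smul (Ideal.mem_span_singleton_self x) ha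
    have hsub' : q ≤ maximalIdeal R • q :=
      hsub.trans (Submodule.smul_mono_left ((Ideal.span_singleton_le_iff_mem _).mpr hxm))
    have hqbot : q = ⊥ :=
      Submodule.eq_bot_of_le_smul_of_le_jacobson_bot (maximalIdeal R) q
        (q.fg_of_isNoetherianRing) hsub' (IsLocalRing.maximalIdeal_le_jacobson _)
    rw [hqbot] at hqp
    exact IsDomain.of_bot_isPrime R

theorem isDomain_of_isRegularLocalRing (R : Type u) [CommRing R] [IsRegularLocalRing R] :
    IsDomain R :=
  isDomain_of_spanFinrank _ R rfl

end Groth.Agent.Lead.RegLocal
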