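import Mathlib
import Groth.Prelude.Def_CAlgX

set_option autoImplicit false
universe u

namespace Groth.Agent.Lead.QRegFlat

open CAlgX

/-- quasi-regularity is preserved by flat base change -/
theorem isQuasiRegular_of_flat {R S : Type u} [CommRing R] [CommRing S] [Algebra R S]
    [Module.Flat R S] {c : ℕ} (f : Fin c → R) (hf : IsQuasiRegular f) :
    IsQuasiRegular (fun i => algebraMap R S (f i)) := by
  classical
  intro n P hP hev d
  set J := Ideal.span (Set.range f) with hJ
  have hJ' : Ideal.span (Set.range fun i => algebraMap R S (f i)) = J.map (algebraMap R S) := by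
    rw [hJ, Ideal.map_span, ← Set.range_comp]
    rfl
  rw [hJ'] at hev ⊢
  rw [← Ideal.map_pow, Ideal.map, Submodule.mem_span_set'] at hev
  obtain ⟨m, s, u, hsu⟩ := hev
  choose u' hu' hu'' using fun l => (u l).2
  by_cases hd : d ∈ P.support
  swap
  · rw [MvPolynomial.notMem_support_iff.mp hd]
    exact Submodule.zero_mem _
  let r : (P.support ⊕ Fin m) → R := Sum.elim (fun e => ∏ i, f i ^ (e.1 i)) (fun l => u' l)
  let x : (P.support ⊕ Fin m) → S := Sum.elim (fun e => P.coeff e.1) (fun l => - s l)
  have hrel : ∑ i, r i • x i = 0 := by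
    rw [Fintype.sum_sum_type]
    simp only [r, x, Sum.elim_inl, Sum.elim_inr]
    have h1 : ∑ e : P.support, (∏ i, f i ^ (e.1 i)) • P.coeff e.1 =
        MvPolynomial.eval (fun i => algebraMap R S (f i)) P := by
      rw [MvPolynomial.eval_eq', ← Finset.sum_coe_sort P.support]
      refine Finset.sum_congr rfl fun e _ => ?_
      rw [Algebra.smul_def, map_prod, mul_comm]
      simp only [map_pow]
    have h2 : ∑ l : Fin m, u' l • (- s l) =
        - MvPolynomial.eval (fun i => algebraMap R S (f i)) P := by
      rw [← hsu, ← Finset.sum_neg_distrib]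
      refine Finset.sum_congr rfl fun l _ => ?_
      rw [Algebra.smul_def, ← hu'' l, smul_eq_mul, mul_neg, mul_comm]
    rw [h1, h2, add_neg_cancel]
  obtain ⟨k, a, y, hxy, hrel'⟩ := Module.Flat.isTrivialRelation_of_sum_smul_eq_zero
    (R := R) (M := S) (f := r) (x := x) (by convert hrel)
  -- the polynomials over `R`
  let Q : Fin k → MvPolynomial (Fin c) R := fun j =>
    ∑ e : P.support, MvPolynomial.monomial e.1 (a (Sum.inl e) j)
  have hQhom : ∀ j, (Q j).IsHomogeneous n := by
    intro j
    apply MvPolynomial.IsHomogeneous.sum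
    intro e _
    apply MvPolynomial.isHomogeneous_monomial
    have := hP (MvPolynomial.mem_support_iff.mp e.2)
    rw [Finsupp.degree_eq_weight_one]
    exact this
  have hQev : ∀ j, MvPolynomial.eval f (Q j) ∈ J ^ (n + 1) := by
    intro j
    have h1 : MvPolynomial.eval f (Q j) = ∑ e : P.support, (∏ i, f i ^ (e.1 i)) * a (Sum.inl e) j := by
      simp only [Q, map_sum]
      refine Finset.sum_congr rfl fun e _ => ?_
      rw [MvPolynomial.eval_monomial, Finsupp.prod_pow, mul_comm]
    have h2 := hrel' j
    rw [Fintype.sum_sum_type] at h2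
    simp only [r, Sum.elim_inl, Sum.elim_inr] at h2
    rw [h1, eq_neg_of_add_eq_zero_left h2]
    apply neg_mem
    exact Ideal.sum_mem _ fun l _ => Ideal.mul_mem_right _ _ (hu' l)
  have hQcoeff : ∀ j, (Q j).coeff d = a (Sum.inl ⟨d, hd⟩) j := by
    intro j
    simp only [Q, MvPolynomial.coeff_sum, MvPolynomial.coeff_monomial]
    rw [Finset.sum_eq_single (⟨d, hd⟩ : P.support)]
    · rw [if_pos rfl]
    · intro e _ he
      rw [if_neg]
      intro h
      exact he (Subtype.ext h)
    · intro h
      exact absurd (Finset.mem_univ _) h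
  have hmem : ∀ j, a (Sum.inl ⟨d, hd⟩) j ∈ J := by
    intro j
    rw [← hQcoeff j]
    exact hf n (Q j) (hQhom j) (hQev j) d
  have h3 := hxy (Sum.inl ⟨d, hd⟩)
  simp only [x, Sum.elim_inl] at h3
  rw [h3]
  refine Ideal.sum_mem _ fun j _ => ?_
  rw [Algebra.smul_def]
  exact Ideal.mul_mem_right _ _ (Ideal.mem_map_of_mem _ (hmem j))

end Groth.Agent.Lead.QRegFlat
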