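import Mathlib
import Groth.Prelude.Def_CAlgX

set_option autoImplicit false
universe u

namespace Groth.Agent.Lead.H1RegA

open CAlgX

/-- `H_1`-regularity is preserved by flat base change -/
theorem isH1Regular_of_flat {R S : Type u} [CommRing R] [CommRing S] [Algebra R S]
    [Module.Flat R S] {c : ℕ} (f : Fin c → R) (hf : IsH1Regular f) :
    IsH1Regular (fun i => algebraMap R S (f i)) := by
  intro a ha
  obtain ⟨k, α, y, hxy, hrel⟩ := Module.Flat.isTrivialRelation_of_sum_smul_eq_zero
      (R := R) (M := S) (f := f) (x := a) (by
    rw [← ha]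
    refine Finset.sum_congr rfl fun i _ => ?_
    rw [Algebra.smul_def, mul_comm])
  set T : Set (Fin c → S) := {v | ∃ i j : Fin c, v =
    Pi.single i (algebraMap R S (f j)) - Pi.single j (algebraMap R S (f i))} with hT
  -- the componentwise map
  let L : (Fin c → R) →ₗ[R] (Fin c → S) := (Algebra.linearMap R S).compLeft (Fin c)
  have hL : ∀ v i, L v i = algebraMap R S (v i) := fun v i => rfl
  have hLsingle : ∀ (i : Fin c) (r : R), L (Pi.single i r) = Pi.single i (algebraMap R S r) := by
    intro i r
    ext l
    rw [hL]
    by_cases h : l = i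
    · subst h; simp
    · simp [Pi.single_eq_of_ne h]
  have hspan : ∀ v ∈ Submodule.span R {v : Fin c → R | ∃ i j : Fin c,
      v = Pi.single i (f j) - Pi.single j (f i)}, L v ∈ Submodule.span S T := by
    intro v hv
    induction hv using Submodule.span_induction with
    | mem x hx =>
      obtain ⟨i, j, rfl⟩ := hx
      apply Submodule.subset_span
      refine ⟨i, j, ?_⟩
      rw [map_sub, hLsingle, hLsingle]
    | zero => rw [map_zero]; exact Submodule.zero_mem _
    | add x y _ _ hx hy => rw [map_add]; exact Submodule.add_mem _ hx hy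
    | smul r x _ hx =>
      rw [map_smul, ← algebraMap_smul S r (L x)]
      exact Submodule.smul_mem _ _ hx
  have hcol : ∀ j : Fin k, L (fun i => α i j) ∈ Submodule.span S T := by
    intro j
    apply hspan
    apply hf
    rw [← hrel j]
    refine Finset.sum_congr rfl fun i _ => ?_
    rw [mul_comm]
  have ha' : a = ∑ j, y j • L (fun i => α i j) := by
    ext i
    rw [hxy i, Finset.sum_apply]
    refine Finset.sum_congr rfl fun j _ => ?_
    rw [Pi.smul_apply, hL, Algebra.smul_def, smul_eq_mul, mul_comm]
  rw [ha']
  exact Submodule.sum_mem _ fun j _ => Submodule.smul_mem _ _ (hcol j)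

/-- the degree one case of quasi-regularity: coefficients of a linear form with value in `I²`
lie in `I` -/
theorem coeff_mem_of_quasiRegular {R : Type u} [CommRing R] {c : ℕ} (f : Fin c → R)
    (hf : IsQuasiRegular f) (b : Fin c → R)
    (hb : ∑ k, b k * f k ∈ Ideal.span (Set.range f) ^ 2) (k : Fin c) :
    b k ∈ Ideal.span (Set.range f) := by
  classical
  set P : MvPolynomial (Fin c) R := ∑ l, MvPolynomial.C (b l) * MvPolynomial.X l with hP
  have hhom : P.IsHomogeneous 1 := by
    rw [hP]
    apply MvPolynomial.IsHomogeneous.sum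
    intro l _
    have := (MvPolynomial.isHomogeneous_C (Fin c) (b l)).mul (MvPolynomial.isHomogeneous_X R l)
    simpa using this
  have heval : MvPolynomial.eval f P = ∑ l, b l * f l := by
    rw [hP, map_sum]
    refine Finset.sum_congr rfl fun l _ => ?_
    rw [map_mul, MvPolynomial.eval_C, MvPolynomial.eval_X]
  have h1 := hf 1 P hhom (by rw [heval]; exact hb) (Finsupp.single k 1)
  have hcoeff : P.coeff (Finsupp.single k 1) = b k := by
    rw [hP, MvPolynomial.coeff_sum]
    rw [Finset.sum_eq_single k]
    · rw [MvPolynomial.coeff_C_mul, MvPolynomial.coeff_X', if_pos rfl, mul_one]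
    · intro l _ hl
      rw [MvPolynomial.coeff_C_mul, MvPolynomial.coeff_X']
      rw [if_neg, mul_zero]
      intro h
      apply hl
      have := Finsupp.single_left_injective (one_ne_zero) h
      exact this
    · intro h; exact absurd (Finset.mem_univ k) h
  rw [hcoeff] at h1
  exact h1

end Groth.Agent.Lead.H1RegA
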