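import Groth.Agent.Lead.OmegaCnC
import Mathlib

set_option autoImplicit false
set_option backward.isDefEq.respectTransparency false
set_option backward.isDefEq.respectTransparency.types false
open CategoryTheory CategoryTheory.Limits AlgebraicGeometry Opposite TopologicalSpace TensorProduct
universe u

namespace Groth.Agent.Lead.OmegaCnD

open Scheme.Modules OmegaSh Groth.Agent.Helper4 Groth.Agent.Lead.BCMap

theorem app_eqToHom {Z : Scheme.{u}} (h : Z ⟶ Z) (e : h = 𝟙 Z) (V : Z.Opens) (s : Γ(Z, V))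
    (e' : V = h ⁻¹ᵁ V) : Z.presheaf.map (eqToHom e').op (h.app V s) = s := by
  subst e
  have : (eqToHom e').op = 𝟙 (op V) := rfl
  rw [this]
  erw [CategoryTheory.Functor.map_id]
  rfl

theorem appLE_eq_self {Z : Scheme.{u}} (h : Z ⟶ Z) (e : h = 𝟙 Z) (V : Z.Opens)
    (e' : V ≤ h ⁻¹ᵁ V) (t : Γ(Z, V)) : h.appLE V V e' t = t := by
  subst e
  rw [Scheme.Hom.appLE]
  have : (homOfLE e').op = 𝟙 (op V) := rfl
  rw [this]
  erw [CategoryTheory.Functor.map_id]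
  rfl

/-- affine opens inside the coborder range of an immersion have affine preimage and surjective
comorphism -/
theorem affine_of_le_coborderRange {X Y : Scheme.{u}} (j : X ⟶ Y) [IsImmersion j] {U : Y.Opens}
    (hU : IsAffineOpen U) (hUc : U ≤ j.coborderRange) :
    IsAffineOpen (j ⁻¹ᵁ U) ∧ Function.Surjective (j.app U) := by
  have hU₁ : IsAffineOpen (j.coborderRange.ι ⁻¹ᵁ U) :=
    hU.preimage_of_isOpenImmersion _ (by rw [Scheme.Opens.opensRange_ι]; exact hUc)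
  have himg : j.coborderRange.ι ''ᵁ (j.coborderRange.ι ⁻¹ᵁ U) = U := by
    rw [Scheme.Hom.image_preimage_eq_opensRange_inf, Scheme.Opens.opensRange_ι]
    exact inf_eq_right.mpr hUc
  have hpre : j.liftCoborder ⁻¹ᵁ (j.coborderRange.ι ⁻¹ᵁ U) = j ⁻¹ᵁ U := by
    rw [Scheme.Hom.liftCoborder_preimage, himg]
  refine ⟨?_, ?_⟩
  · rw [← hpre]
    exact hU₁.preimage j.liftCoborder
  · have h1 := j.liftCoborder.app_surjective _ hU₁
    rw [liftCoborder_app] at h1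
    have h2 : Function.Surjective (j.app (j.coborderRange.ι ''ᵁ (j.coborderRange.ι ⁻¹ᵁ U))) := by
      intro t
      obtain ⟨s, hs⟩ := h1 (X.presheaf.map (eqToHom
        (j.liftCoborder_preimage (j.coborderRange.ι ⁻¹ᵁ U))).op t)
      refine ⟨s, ?_⟩
      have hinj : Function.Injective (X.presheaf.map (eqToHom
        (j.liftCoborder_preimage (j.coborderRange.ι ⁻¹ᵁ U))).op) :=
        ((ConcreteCategory.isIso_iff_bijective _).mp inferInstance).1
      apply hinj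
      rw [← hs]
      rfl
    have h3 : ∀ (V : Y.Opens), V = U → Function.Surjective (j.app V) →
        Function.Surjective (j.app U) := by
      rintro V rfl h
      exact h
    exact h3 _ himg h2

/-- for an immersion `i` with a left inverse `g`, small affine opens stable under `g ≫ i` -/
theorem exists_stable_affine {Z X : Scheme.{u}} (i : Z ⟶ X) [IsImmersion i] (g : X ⟶ Z)
    (hgi : i ≫ g = 𝟙 Z) (x : Z) (G : X.Opens) (hG : i x ∈ G) :
    ∃ U : X.Opens, IsAffineOpen U ∧ i x ∈ U ∧ U ≤ G ∧ IsAffineOpen (i ⁻¹ᵁ U) ∧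
      Function.Surjective (i.app U) ∧ U ≤ g ⁻¹ᵁ (i ⁻¹ᵁ U) := by
  have hpt : ∀ z : Z, g (i z) = z := by
    intro z
    have := congrArg (fun h : Z ⟶ Z => h z) hgi
    exact this
  have hxc : i x ∈ i.coborderRange := subset_coborder ⟨x, rfl⟩
  obtain ⟨_, ⟨U₀, hU₀ : IsAffineOpen U₀, rfl⟩, hxU₀, hU₀G⟩ :=
    X.isBasis_affineOpens.exists_subset_of_mem_open
      (show i x ∈ ((G ⊓ i.coborderRange : X.Opens) : Set X) from ⟨hG, hxc⟩)
      (G ⊓ i.coborderRange).isOpen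
  have hxP : i x ∈ U₀ ⊓ (g ≫ i) ⁻¹ᵁ U₀ := by
    refine ⟨hxU₀, ?_⟩
    change i (g (i x)) ∈ U₀
    rw [hpt]
    exact hxU₀
  obtain ⟨b, hbP, hxb⟩ := hU₀.exists_basicOpen_le ⟨i x, hxP⟩ hxU₀
  have hU₁ : IsAffineOpen (X.basicOpen b) := hU₀.basicOpen b
  have hle : X.basicOpen b ≤ (g ≫ i) ⁻¹ᵁ U₀ := fun y hy => (hbP hy).2
  have hU : IsAffineOpen (X.basicOpen ((g ≫ i).appLE U₀ (X.basicOpen b) hle b)) :=
    hU₁.basicOpen _
  have hUeq : X.basicOpen ((g ≫ i).appLE U₀ (X.basicOpen b) hle b) =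
      X.basicOpen b ⊓ (g ≫ i) ⁻¹ᵁ (X.basicOpen b) := Scheme.basicOpen_appLE _ _ _ _ _
  have hUU₀ : X.basicOpen ((g ≫ i).appLE U₀ (X.basicOpen b) hle b) ≤ U₀ := by
    rw [hUeq]
    exact fun y hy => (hbP hy.1).1
  obtain ⟨hU', hsurj⟩ := affine_of_le_coborderRange i hU
    (fun y hy => (hU₀G (hUU₀ hy)).2)
  refine ⟨_, hU, ?_, fun y hy => (hU₀G (hUU₀ hy)).1, hU', hsurj, ?_⟩
  · rw [hUeq]
    refine ⟨hxb, ?_⟩
    change i (g (i x)) ∈ X.basicOpen b
    rw [hpt]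
    exact hxb
  · rw [hUeq]
    intro y hy
    refine ⟨hy.2, ?_⟩
    change i (g (i (g y))) ∈ X.basicOpen b
    rw [hpt]
    exact hy.2

/-- `I/I² → C ⊗_B Ω[B/A]` is (split) injective when `B → C` has an `A`-algebra section -/
theorem kerCotangentToTensor_injective_of_section (A B C : Type u) [CommRing A] [CommRing B]
    [CommRing C] [Algebra A B] [Algebra B C] [Algebra A C] [IsScalarTower A B C]
    (σ₀ : C →ₐ[A] B) (hσ₀ : ∀ c, algebraMap B C (σ₀ c) = c) :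
    Function.Injective (KaehlerDifferential.kerCotangentToTensor A B C) := by
  have h : Function.Surjective (algebraMap B C) := fun c => ⟨σ₀ c, hσ₀ c⟩
  let g : C →ₐ[A] B ⧸ RingHom.ker (IsScalarTower.toAlgHom A B C).toRingHom ^ 2 :=
    (Ideal.Quotient.mkₐ A _).comp σ₀
  have hg : (IsScalarTower.toAlgHom A B C).kerSquareLift.comp g = AlgHom.id A C := by
    ext c
    change (IsScalarTower.toAlgHom A B C).kerSquareLift (Ideal.Quotient.mk _ (σ₀ c)) = c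
    rw [AlgHom.kerSquareLift_mk]
    exact hσ₀ c
  obtain ⟨l, hl⟩ := (_root_.retractionKerCotangentToTensorEquivSection h).symm ⟨g, hg⟩
  intro a b hab
  have := congr(l $hab)
  rwa [← LinearMap.comp_apply, ← LinearMap.comp_apply, hl] at this

section Retract
variable {Z X S : Scheme.{u}} (f : X ⟶ S) (i : Z ⟶ X) (g : X ⟶ Z) (hgi : i ≫ g = 𝟙 Z)
  (hgS : g ≫ i ≫ f = f)
  {ΩX : X.Modules} (dX : Der f ΩX)
  {ΩZ : Z.Modules} (dZ : Der (i ≫ f) ΩZ) (hZ : IsUniversal dZ)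
  (c : (Scheme.Modules.pullback i).obj ΩX ⟶ ΩZ) (hc : IsDiffCompat i dX dZ c)

include hgi hgS hZ hc in
/-- a left inverse of `i` over the base gives a section of `c : i^*Ω_X ⟶ Ω_Z` -/
theorem exists_section : ∃ σ : ΩZ ⟶ (Scheme.Modules.pullback i).obj ΩX, σ ≫ c = 𝟙 _ := by
  let N := (Scheme.Modules.pullback i).obj ΩX
  let d₀ : Der f ((pushforward i).obj N) :=
    dX.postcomp ((pullbackPushforwardAdjunction i).unit.app ΩX).val
  have hsq : f ≫ 𝟙 S = g ≫ (i ≫ f) := by rw [Category.comp_id, hgS]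
  let D₁ : Der (i ≫ f) ((pushforward g).obj ((pushforward i).obj N)) :=
    DerA.pushDer (i ≫ f) f g (𝟙 S) hsq d₀
  let θ : (pushforward g).obj ((pushforward i).obj N) ⟶ N :=
    (pushforwardComp i g).hom.app N ≫ (pushforwardCongr hgi).hom.app N ≫
      (pushforwardId Z).hom.app N
  let D : Der (i ≫ f) N := D₁.postcomp θ.val
  obtain ⟨σ, hσ, -⟩ := hZ N D
  refine ⟨σ, ?_⟩
  refine (hZ ΩZ dZ).unique ?_ (OmegaLocB.postcomp_id dZ)
  rw [← OmegaLocB.postcomp_comp, hσ, DerA.postcomp_eq_iff]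
  intro V s
  have e' : V = (i ≫ g) ⁻¹ᵁ V := by rw [hgi]; rfl
  have h1 : D.app V s = N.presheaf.map (eqToHom e').op
      (pullSect i ΩX (g ⁻¹ᵁ V) (dX.app (g ⁻¹ᵁ V) (g.app V s))) := rfl
  rw [h1]
  have h2 := congr($(c.mapPresheaf.naturality (eqToHom e').op)
    (pullSect i ΩX (g ⁻¹ᵁ V) (dX.app (g ⁻¹ᵁ V) (g.app V s))))
  refine h2.trans ?_
  change ΩZ.presheaf.map (eqToHom e').op (c.app (i ⁻¹ᵁ (g ⁻¹ᵁ V))
    (pullSect i ΩX (g ⁻¹ᵁ V) (dX.app (g ⁻¹ᵁ V) (g.app V s)))) = _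
  rw [hc]
  have h3 := DerA.der_map dZ (eqToHom e') (i.app (g ⁻¹ᵁ V) (g.app V s))
  refine h3.symm.trans ?_
  change dZ.app V _ = dZ.app V s
  congr 1
  exact app_eqToHom (i ≫ g) hgi V s e'

variable (hX : IsUniversal dX) [IsImmersion i] [QuasiCompact i]
  (φ : Omega.conormal i ⟶ (Scheme.Modules.pullback i).obj ΩX) (hφ : IsConormalDiff i dX φ)

include hgi hgS hX hφ in
theorem mono_of_retract : Mono φ := by
  haveI : (Omega.conormal i).IsQuasicoherent :=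
    StalkPull.isQuasicoherent_pullbackObj i (ClSub.idealMod i.ker)
  haveI := OmegaLocB.isQuasicoherent_of_isUniversal f dX hX
  haveI := StalkPull.isQuasicoherent_pullbackObj i ΩX
  apply QcohLocal.mono_of_app_injective_of_affine_cover
  intro x
  obtain ⟨V, W, hV, hW, hxV, hVW⟩ := OmegaSecB.exists_affine_pair f (i x)
  obtain ⟨U, hU, hxU, hUV, hU', hsurj, hstab⟩ := exists_stable_affine i g hgi x V hxV
  refine ⟨i ⁻¹ᵁ U, hU', hxU, ?_⟩
  have hUW : U ≤ f ⁻¹ᵁ W := fun y hy => hVW (hUV hy)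
  have hU'W : i ⁻¹ᵁ U ≤ (i ≫ f) ⁻¹ᵁ W := fun y hy => hUW hy
  apply OmegaCnC.app_injective f i dX hX φ hφ hU hU' hW hUW hsurj
  letI algAB := (f.appLE W U hUW).hom.toAlgebra
  letI algBC := (i.appLE U (i ⁻¹ᵁ U) le_rfl).hom.toAlgebra
  letI algAC := ((i ≫ f).appLE W (i ⁻¹ᵁ U) hU'W).hom.toAlgebra
  haveI : IsScalarTower Γ(S, W) Γ(X, U) Γ(Z, i ⁻¹ᵁ U) := IsScalarTower.of_algebraMap_eq' (by
    change ((i ≫ f).appLE W (i ⁻¹ᵁ U) hU'W).hom =
      (i.appLE U (i ⁻¹ᵁ U) le_rfl).hom.comp (f.appLE W U hUW).hom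
    rw [← CommRingCat.hom_comp, Scheme.Hom.appLE_comp_appLE])
  have hUW' : U ≤ (g ≫ i ≫ f) ⁻¹ᵁ W := by rw [hgS]; exact hUW
  let σ₀ : Γ(Z, i ⁻¹ᵁ U) →ₐ[Γ(S, W)] Γ(X, U) :=
    { (g.appLE (i ⁻¹ᵁ U) U hstab).hom with
      commutes' := by
        intro a
        change (g.appLE (i ⁻¹ᵁ U) U hstab) (((i ≫ f).appLE W (i ⁻¹ᵁ U) hU'W) a) =
          (f.appLE W U hUW) a
        rw [← CommRingCat.comp_apply, Scheme.Hom.appLE_comp_appLE,
          OmegaSh.appLE_congr_hom hgS hUW' hUW] }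
  refine kerCotangentToTensor_injective_of_section _ _ _ σ₀ ?_
  intro t
  change (i.appLE U (i ⁻¹ᵁ U) le_rfl) ((g.appLE (i ⁻¹ᵁ U) U hstab) t) = t
  rw [← CommRingCat.comp_apply, Scheme.Hom.appLE_comp_appLE]
  exact appLE_eq_self (i ≫ g) hgi _ _ t

include hgi hgS hX hZ hφ hc in
/-- S9384 -/
theorem split : ∃ w : φ ≫ c = 0, (ShortComplex.mk φ c w).Exact ∧
    (∃ r : (Scheme.Modules.pullback i).obj ΩX ⟶ Omega.conormal i, φ ≫ r = 𝟙 _) ∧
      ∃ σ : ΩZ ⟶ (Scheme.Modules.pullback i).obj ΩX, σ ≫ c = 𝟙 _ := by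
  have w := OmegaCnB.comp_zero f i dX dZ φ hφ c hc
  have hex := OmegaCnB.exact f i dX hX dZ hZ φ hφ c hc w
  obtain ⟨σ, hσ⟩ := exists_section f i g hgi hgS dX dZ hZ c hc
  haveI : Mono φ := mono_of_retract f i g hgi hgS dX hX φ hφ
  refine ⟨w, hex, ?_, σ, hσ⟩
  have h1 : (𝟙 _ - c ≫ σ) ≫ c = 0 := by
    rw [Preadditive.sub_comp, Category.id_comp, Category.assoc, hσ, Category.comp_id, sub_self]
  haveI : Mono (ShortComplex.mk φ c w).f := ‹Mono φ›
  refine ⟨hex.lift (𝟙 _ - c ≫ σ) h1, ?_⟩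
  rw [← cancel_mono φ, Category.assoc]
  have h2 : hex.lift (𝟙 _ - c ≫ σ) h1 ≫ φ = 𝟙 _ - c ≫ σ := hex.lift_f _ h1
  rw [h2, Preadditive.comp_sub, Category.comp_id, ← Category.assoc, w, zero_comp, sub_zero,
    Category.id_comp]

end Retract

end Groth.Agent.Lead.OmegaCnD
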