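import Groth.Agent.Lead.OmegaCnG
import Mathlib

set_option autoImplicit false
set_option backward.isDefEq.respectTransparency false
set_option backward.isDefEq.respectTransparency.types false
open CategoryTheory CategoryTheory.Limits AlgebraicGeometry Opposite TopologicalSpace TensorProduct
universe u

namespace Groth.Agent.Lead.OmegaCnH

open Scheme.Modules OmegaSh Groth.Agent.Helper4 Groth.Agent.Lead.BCMap Groth.Agent.Helper1

section Three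
variable {Y' Y X : Scheme.{u}} (f : Y ⟶ X) [IsImmersion f] [QuasiCompact f]
  (j : Y' ⟶ Y) [IsImmersion j] [QuasiCompact j]
  (φ₁ : (Scheme.Modules.pullback j).obj (Omega.conormal f) ⟶ Omega.conormal (j ≫ f))
  (hφ₁ : IsConormalMap (j ≫ f) f (𝟙 X) j φ₁)
  (φ₂ : (Scheme.Modules.pullback (𝟙 Y')).obj (Omega.conormal (j ≫ f)) ⟶ Omega.conormal j)
  (hφ₂ : IsConormalMap j (j ≫ f) f (𝟙 Y') φ₂)

omit [IsImmersion f] [IsImmersion j] in
include hφ₁ in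
/-- the value of `φ₁` on the doubly pulled-back class of a section of the ideal of `f` -/
theorem phi1_pull (U' : X.Opens) (s' : Γ(ClSub.idealMod f.ker, U')) :
    ∃ s : Γ(ClSub.idealMod (j ≫ f).ker, U'),
      idealSect (j ≫ f).ker U' s = idealSect f.ker U' s' ∧
      φ₁.app (j ⁻¹ᵁ (f ⁻¹ᵁ U'))
        (pullSect j (Omega.conormal f) (f ⁻¹ᵁ U') (conormalSect f U' s')) =
          conormalSect (j ≫ f) U' s := by
  have ht : (j ≫ f).app U' (idealSect f.ker U' s') = 0 := by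
    have h0 : f.app U' (idealSect f.ker U' s') = 0 := OmegaCnF.app_idealSect_general f U' s'
    change j.app (f ⁻¹ᵁ U') (f.app U' (idealSect f.ker U' s')) = 0
    rw [h0, map_zero]
  obtain ⟨s, hs⟩ := OmegaCnF.exists_idealSect_of_app_eq_zero (j ≫ f) U' _ ht
  refine ⟨s, hs, ?_⟩
  have h1 := hφ₁.2 U' s' s hs (j ⁻¹ᵁ (f ⁻¹ᵁ U')) le_rfl le_rfl
  have h2 : ∀ x : Γ(Omega.conormal (j ≫ f), j ⁻¹ᵁ (f ⁻¹ᵁ U')),
      (Omega.conormal (j ≫ f)).presheaf.map (homOfLE (le_refl (j ⁻¹ᵁ (f ⁻¹ᵁ U')))).op x = x := by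
    intro x
    erw [CategoryTheory.Functor.map_id]
    rfl
  exact (h2 _).symm.trans (h1.trans (h2 _))

omit [IsImmersion f] [IsImmersion j] in
include hφ₁ hφ₂ in
theorem comp_zero :
    φ₁ ≫ ((Scheme.Modules.pullbackId Y').inv.app (Omega.conormal (j ≫ f)) ≫ φ₂) = 0 := by
  apply OmegaCnF.pullback_hom_ext₂ j f (M := ClSub.idealMod f.ker)
  intro U' s''
  obtain ⟨s, hs, h⟩ := phi1_pull f j φ₁ hφ₁ U' s''
  obtain ⟨s₂, hs₂, h₂⟩ := OmegaCnF.psi_pull f j φ₂ hφ₂ U' s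
  change φ₂.app (j ⁻¹ᵁ (f ⁻¹ᵁ U')) (((Scheme.Modules.pullbackId Y').inv.app
    (Omega.conormal (j ≫ f))).app (j ⁻¹ᵁ (f ⁻¹ᵁ U')) (φ₁.app (j ⁻¹ᵁ (f ⁻¹ᵁ U'))
      (pullSect j (Omega.conormal f) (f ⁻¹ᵁ U') (conormalSect f U' s'')))) = 0
  rw [h, ← OmegaSeqA.pullSect_id]
  have h3 : φ₂.app (j ⁻¹ᵁ (f ⁻¹ᵁ U')) (pullSect (𝟙 Y') (Omega.conormal (j ≫ f))
      (j ⁻¹ᵁ (f ⁻¹ᵁ U')) (conormalSect (j ≫ f) U' s)) = conormalSect j (f ⁻¹ᵁ U') s₂ := h₂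
  rw [h3]
  have h4 : s₂ = 0 := by
    apply OmegaCnC.idealSect_injective j (f ⁻¹ᵁ U')
    rw [hs₂, hs, map_zero]
    exact OmegaCnF.app_idealSect_general f U' s''
  rw [h4, map_zero]

omit [QuasiCompact f] [QuasiCompact j] in
/-- small affine opens of `X` adapted to both immersions -/
theorem exists_affine_three (y : Y') (T : Y'.Opens) (hy : y ∈ T) :
    ∃ W : X.Opens, IsAffineOpen W ∧ W ≤ f.coborderRange ∧ f ⁻¹ᵁ W ≤ j.coborderRange ∧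
      y ∈ j ⁻¹ᵁ (f ⁻¹ᵁ W) ∧ j ⁻¹ᵁ (f ⁻¹ᵁ W) ≤ T := by
  obtain ⟨T₁, hT₁, hTT₁⟩ := j.isEmbedding.isInducing.isOpen_iff.mp T.2
  obtain ⟨T₂, hT₂, hTT₂⟩ := f.isEmbedding.isInducing.isOpen_iff.mp hT₁
  obtain ⟨G, hG, hGG⟩ := f.isEmbedding.isInducing.isOpen_iff.mp j.coborderRange.2
  have h1 : f (j y) ∈ f.coborderRange := subset_coborder ⟨j y, rfl⟩
  have h2 : f (j y) ∈ G := by
    have : j y ∈ f ⁻¹' G := by
      rw [hGG]
      exact subset_coborder ⟨y, rfl⟩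
    exact this
  have h3 : f (j y) ∈ T₂ := by
    have : j y ∈ f ⁻¹' T₂ := by
      rw [hTT₂]
      have : y ∈ j ⁻¹' T₁ := by rw [hTT₁]; exact hy
      exact this
    exact this
  obtain ⟨_, ⟨W, hW : IsAffineOpen W, rfl⟩, hyW, hWG⟩ :=
    X.isBasis_affineOpens.exists_subset_of_mem_open
      (show f (j y) ∈ ((f.coborderRange ⊓ ⟨G, hG⟩ ⊓ ⟨T₂, hT₂⟩ : X.Opens) : Set X) from
        ⟨⟨h1, h2⟩, h3⟩) (f.coborderRange ⊓ ⟨G, hG⟩ ⊓ ⟨T₂, hT₂⟩).isOpen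
  refine ⟨W, hW, fun x hx => (hWG hx).1.1, ?_, hyW, ?_⟩
  · intro x hx
    have : x ∈ f ⁻¹' G := (hWG hx).1.2
    rw [hGG] at this
    exact this
  · intro x hx
    have h4 : j x ∈ f ⁻¹' T₂ := (hWG hx).2
    rw [hTT₂] at h4
    have h5 : x ∈ j ⁻¹' T₁ := h4
    rw [hTT₁] at h5
    exact h5

omit [IsImmersion f] [IsImmersion j] [QuasiCompact f] [QuasiCompact j] in
/-- sections of the pulled-back ideal over `h⁻¹U` are classes of sections of the ideal when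
`h♯` is surjective -/
theorem exists_conormalSect {Z X : Scheme.{u}} (i : Z ⟶ X) {U : X.Opens} (hU : IsAffineOpen U)
    (hU' : IsAffineOpen (i ⁻¹ᵁ U)) (hsurj : Function.Surjective (i.app U))
    (n : Γ(Omega.conormal i, i ⁻¹ᵁ U)) :
    ∃ σ : Γ(ClSub.idealMod i.ker, U), conormalSect i U σ = n := by
  have e : i ⁻¹ᵁ U ≤ i ⁻¹ᵁ U := le_rfl
  letI algBC := (i.appLE U (i ⁻¹ᵁ U) e).hom.toAlgebra
  have hsurj' : Function.Surjective (algebraMap Γ(X, U) Γ(Z, i ⁻¹ᵁ U)) := by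
    intro t
    obtain ⟨s, hs⟩ := hsurj t
    refine ⟨s, ?_⟩
    change i.appLE U (i ⁻¹ᵁ U) e s = t
    rw [Scheme.Hom.appLE_eq_app]
    exact hs
  letI : Module Γ(X, U) Γ((Scheme.Modules.pullback i).obj (ClSub.idealMod i.ker), i ⁻¹ᵁ U) :=
    Module.compHom _ (i.appLE U (i ⁻¹ᵁ U) e).hom
  haveI : IsScalarTower Γ(X, U) Γ(Z, i ⁻¹ᵁ U)
      Γ((Scheme.Modules.pullback i).obj (ClSub.idealMod i.ker), i ⁻¹ᵁ U) :=
    IsScalarTower.of_compHom _ _ _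
  obtain ⟨ρI, hρI, hbI⟩ := exists_isBaseChange_pbSec i (ClSub.idealMod i.ker) hU hU' e
  obtain ⟨σ, hσ⟩ := OmegaCnC.isBaseChange_surjective ρI hbI hsurj' n
  rw [hρI, OmegaCnB.pbSec_self] at hσ
  exact ⟨σ, hσ⟩

include hφ₂ in
theorem epi_phi2 : Epi φ₂ := by
  apply Groth.Agent.Lead.LocalLift.epi_of_local_lift
  intro T t y hy
  obtain ⟨W, hW, hWc, hVc, hyW, hWT⟩ := exists_affine_three f j y T hy
  obtain ⟨hV, hsurjf⟩ := OmegaCnD.affine_of_le_coborderRange f hW hWc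
  obtain ⟨hV', hsurjj⟩ := OmegaCnD.affine_of_le_coborderRange j hV hVc
  refine ⟨j ⁻¹ᵁ (f ⁻¹ᵁ W), hWT, hyW, ?_⟩
  obtain ⟨σ, hσ⟩ := exists_conormalSect j hV hV' hsurjj
    ((Omega.conormal j).presheaf.map (homOfLE hWT).op t)
  obtain ⟨a, ha⟩ := hsurjf (idealSect j.ker (f ⁻¹ᵁ W) σ)
  have ha0 : (j ≫ f).app W a = 0 := by
    change j.app (f ⁻¹ᵁ W) (f.app W a) = 0
    rw [ha]
    exact OmegaCnB.app_idealSect j hV σ
  obtain ⟨s', hs'⟩ := OmegaCnB.exists_idealSect (j ≫ f) hW a ha0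
  obtain ⟨s₂, hs₂, h₂⟩ := OmegaCnF.psi_pull f j φ₂ hφ₂ W s'
  have h3 : s₂ = σ := by
    apply OmegaCnC.idealSect_injective j (f ⁻¹ᵁ W)
    rw [hs₂, hs', ha]
  refine ⟨_, h₂.trans ?_⟩
  rw [h3]
  exact hσ

include hφ₁ hφ₂ in
theorem exact (w : φ₁ ≫ ((Scheme.Modules.pullbackId Y').inv.app (Omega.conormal (j ≫ f)) ≫ φ₂)
    = 0) : (ShortComplex.mk φ₁
      ((Scheme.Modules.pullbackId Y').inv.app (Omega.conormal (j ≫ f)) ≫ φ₂) w).Exact := by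
  apply Groth.Agent.Lead.LocalLift.exact_of_local_lift
  intro T n hn y hy
  obtain ⟨W, hW, hWc, hVc, hyW, hWT⟩ := exists_affine_three f j y T hy
  obtain ⟨hV, hsurjf⟩ := OmegaCnD.affine_of_le_coborderRange f hW hWc
  obtain ⟨hV', hsurjj⟩ := OmegaCnD.affine_of_le_coborderRange j hV hVc
  refine ⟨j ⁻¹ᵁ (f ⁻¹ᵁ W), hWT, hyW, ?_⟩
  have hsurjc : Function.Surjective ((j ≫ f).app W) := by
    intro t
    obtain ⟨b, hb⟩ := hsurjj t
    obtain ⟨a, ha⟩ := hsurjf b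
    refine ⟨a, ?_⟩
    change j.app (f ⁻¹ᵁ W) (f.app W a) = t
    rw [ha, hb]
  obtain ⟨s', hs'⟩ := exists_conormalSect (j ≫ f) hW hV' hsurjc
    ((Omega.conormal (j ≫ f)).presheaf.map (homOfLE hWT).op n)
  have hn' : ((Scheme.Modules.pullbackId Y').inv.app (Omega.conormal (j ≫ f)) ≫ φ₂).app
      (j ⁻¹ᵁ (f ⁻¹ᵁ W)) ((Omega.conormal (j ≫ f)).presheaf.map (homOfLE hWT).op n) = 0 := by
    refine (StalkExact.app_res _ (homOfLE hWT) n).trans ?_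
    have hn0 : ((Scheme.Modules.pullbackId Y').inv.app (Omega.conormal (j ≫ f)) ≫ φ₂).app T n
      = 0 := hn
    exact (congrArg ((Omega.conormal j).presheaf.map (homOfLE hWT).op) hn0).trans (map_zero _)
  rw [← hs'] at hn' ⊢
  obtain ⟨s₂, hs₂, h₂⟩ := OmegaCnF.psi_pull f j φ₂ hφ₂ W s'
  have h3 : conormalSect j (f ⁻¹ᵁ W) s₂ = 0 := by
    rw [← h₂, OmegaSeqA.pullSect_id]
    exact hn'
  have h4 := OmegaCnF.idealSect_mem_sq j hV hV' hsurjj s₂ h3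
  rw [hs₂] at h4
  -- lift the square
  have H : ∀ b ∈ (RingHom.ker (j.app (f ⁻¹ᵁ W)).hom) ^ 2,
      ∃ a₂ ∈ (RingHom.ker ((j ≫ f).app W).hom) ^ 2, f.app W a₂ = b := by
    intro b hb
    rw [pow_two] at hb
    refine Submodule.mul_induction_on hb ?_ ?_
    · intro s hs t ht
      obtain ⟨as, has⟩ := hsurjf s
      obtain ⟨at', hat⟩ := hsurjf t
      refine ⟨as * at', ?_, by rw [map_mul, has, hat]⟩
      rw [pow_two]
      refine Ideal.mul_mem_mul ?_ ?_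
      · rw [RingHom.mem_ker]
        change j.app (f ⁻¹ᵁ W) (f.app W as) = 0
        rw [has]; exact hs
      · rw [RingHom.mem_ker]
        change j.app (f ⁻¹ᵁ W) (f.app W at') = 0
        rw [hat]; exact ht
    · intro x y hx hy
      obtain ⟨a, ha, ha'⟩ := hx
      obtain ⟨b, hb, hb'⟩ := hy
      exact ⟨a + b, add_mem ha hb, by rw [map_add, ha', hb']⟩
  obtain ⟨a₂, ha₂, ha₂'⟩ := H _ h4
  have ha₂0 : (j ≫ f).app W a₂ = 0 := Ideal.pow_le_self two_ne_zero ha₂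
  obtain ⟨s'₂, hs'₂⟩ := OmegaCnB.exists_idealSect (j ≫ f) hW a₂ ha₂0
  have hk : f.app W (idealSect (j ≫ f).ker W s' - a₂) = 0 := by
    rw [map_sub, ha₂', sub_self]
  obtain ⟨s'', hs''⟩ := OmegaCnB.exists_idealSect f hW _ hk
  obtain ⟨s, hs, h⟩ := phi1_pull f j φ₁ hφ₁ W s''
  refine ⟨_, h.trans ?_⟩
  have h5 : s' = s + s'₂ := by
    apply OmegaCnC.idealSect_injective (j ≫ f) W
    rw [map_add, hs, hs'', hs'₂, sub_add_cancel]
  rw [h5, map_add,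
    OmegaCnC.conormalSect_eq_zero (j ≫ f) hW s'₂ (by rw [hs'₂]; exact ha₂), add_zero]

include hφ₁ hφ₂ in
/-- S5974 -/
theorem main : Epi φ₂ ∧ imageSubobject φ₁ =
    kernelSubobject ((Scheme.Modules.pullbackId Y').inv.app (Omega.conormal (j ≫ f)) ≫ φ₂) := by
  refine ⟨epi_phi2 f j φ₂ hφ₂, ?_⟩
  have w := comp_zero f j φ₁ hφ₁ φ₂ hφ₂
  exact (ShortComplex.exact_iff_image_eq_kernel _).mp (exact f j φ₁ hφ₁ φ₂ hφ₂ w)

end Three

end Groth.Agent.Lead.OmegaCnH
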