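import Groth.Agent.Lead.H1RegA
import Groth.Agent.Lead.OmegaCnH
import Groth.Agent.Helper8.H1Inter
import Groth.Agent.Helper4.FinLocFree
import Groth.Agent.S2103
import Groth.Prelude.Def_RegImm
import Mathlib

set_option autoImplicit false
set_option backward.isDefEq.respectTransparency false
set_option backward.isDefEq.respectTransparency.types false
open CategoryTheory CategoryTheory.Limits AlgebraicGeometry Opposite TopologicalSpace
universe u

namespace Groth.Agent.Lead.H1RegB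

open Scheme.Modules OmegaSh Groth.Agent.Lead Groth.Agent.Helper4 Groth.Agent.Lead.BCMap

theorem flat_res {Y : Scheme.{u}} {U V : Y.Opens} (hU : IsAffineOpen U) (hV : IsAffineOpen V)
    (h : V ≤ U) : (Y.presheaf.map (homOfLE h).op).hom.Flat := by
  have h1 := HasRingHomProperty.appLE (P := @Flat) (𝟙 Y) inferInstance ⟨U, hU⟩ ⟨V, hV⟩ h
  have h2 : (𝟙 Y : Y ⟶ Y).appLE U V h = Y.presheaf.map (homOfLE h).op := by
    simp [Scheme.Hom.appLE]
  rw [h2] at h1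
  exact h1

/-- restriction of an `H_1`-regular generating sequence to a smaller affine open -/
theorem h1_restrict {Z Y : Scheme.{u}} (i : Z ⟶ Y) [QuasiCompact i] {U V : Y.Opens}
    (hU : IsAffineOpen U) (hV : IsAffineOpen V) (h : V ≤ U) (rs : List Γ(Y, U))
    (hrs : CAlgX.IsH1Regular rs.get) (hker : RingHom.ker (i.app U).hom = Ideal.ofList rs) :
    ∃ (c : ℕ) (f : Fin c → Γ(Y, V)), CAlgX.IsH1Regular f ∧
      RingHom.ker (i.app V).hom = Ideal.span (Set.range f) := by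
  refine ⟨rs.length, fun k => Y.presheaf.map (homOfLE h).op (rs.get k), ?_, ?_⟩
  · letI := (Y.presheaf.map (homOfLE h).op).hom.toAlgebra
    haveI : Module.Flat Γ(Y, U) Γ(Y, V) := flat_res hU hV h
    exact H1RegA.isH1Regular_of_flat rs.get hrs
  · have h1 := i.ker.map_ideal (U := ⟨V, hV⟩) (V := ⟨U, hU⟩) h
    rw [Scheme.Hom.ker_apply, Scheme.Hom.ker_apply] at h1
    rw [← h1, hker, Ideal.map_ofList]
    have hset : {r | r ∈ rs.map (Y.presheaf.map (homOfLE h).op).hom} =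
        Set.range (fun k => Y.presheaf.map (homOfLE h).op (rs.get k)) := by
      ext x
      simp only [List.mem_map, Set.mem_setOf_eq, Set.mem_range]
      constructor
      · rintro ⟨r, hr, rfl⟩
        obtain ⟨k, rfl⟩ := List.get_of_mem hr
        exact ⟨k, rfl⟩
      · rintro ⟨k, rfl⟩
        exact ⟨rs.get k, List.get_mem _ _, rfl⟩
    change Ideal.span {r | r ∈ rs.map (Y.presheaf.map (homOfLE h).op).hom} = _
    rw [hset]

theorem app_surjective_of_appLE {Z Y : Scheme.{u}} (i : Z ⟶ Y) (U V : Y.Opens) (W : Z.Opens)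
    (e : W ≤ i ⁻¹ᵁ V) (hV : V = U) (hW : W = i ⁻¹ᵁ U)
    (h : Function.Surjective (i.appLE V W e)) : Function.Surjective (i.app U) := by
  subst hV
  subst hW
  rwa [Scheme.Hom.appLE_eq_app] at h

/-- an affine open over which `i` restricts to a closed immersion has affine preimage and
surjective comorphism -/
theorem affine_of_restrict_closed {Z Y : Scheme.{u}} (i : Z ⟶ Y) {U : Y.Opens}
    (hU : IsAffineOpen U) [IsClosedImmersion (i ∣_ U)] :
    IsAffineOpen (i ⁻¹ᵁ U) ∧ Function.Surjective (i.app U) := by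
  haveI : IsAffine U.toScheme := hU
  have h1 : IsAffine (i ⁻¹ᵁ U).toScheme := isAffine_of_isAffineHom (i ∣_ U)
  refine ⟨h1, ?_⟩
  have h2 := (i ∣_ U).app_surjective ⊤ (isAffineOpen_top _)
  rw [morphismRestrict_app'] at h2
  refine app_surjective_of_appLE i U _ _ _ ?_ ?_ h2
  · simp
  · simp

section Main
variable {Z Y X : Scheme.{u}} (i : Z ⟶ Y) (j : Y ⟶ X) [IsImmersion i] [IsImmersion j]
  [QuasiCompact i] [QuasiCompact j]
  (a : (Scheme.Modules.pullback i).obj (Omega.conormal j) ⟶ Omega.conormal (i ≫ j))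
  (ha : IsConormalMap (i ≫ j) j (𝟙 X) i a)
  (hi : RegImm.IsRegularImmersion RegImm.Kind.h1 i)

include hi in
theorem exists_chart (z : Z) : ∃ W : X.Opens, IsAffineOpen W ∧ W ≤ j.coborderRange ∧
    j ⁻¹ᵁ W ≤ i.coborderRange ∧ z ∈ i ⁻¹ᵁ (j ⁻¹ᵁ W) ∧ ∃ (c : ℕ) (f : Fin c → Γ(Y, j ⁻¹ᵁ W)),
      CAlgX.IsH1Regular f ∧ RingHom.ker (i.app (j ⁻¹ᵁ W)).hom = Ideal.span (Set.range f) := by
  obtain ⟨U₀, hzU₀, -, rs, hrs, hker⟩ := hi.2 z
  obtain ⟨G, hG, hGG⟩ := j.isEmbedding.isInducing.isOpen_iff.mp U₀.1.2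
  obtain ⟨G', hG', hGG'⟩ := j.isEmbedding.isInducing.isOpen_iff.mp i.coborderRange.2
  have h1 : j (i z) ∈ j.coborderRange := subset_coborder ⟨i z, rfl⟩
  have h2 : j (i z) ∈ G := by
    have : i z ∈ j ⁻¹' G := by rw [hGG]; exact hzU₀
    exact this
  have h3 : j (i z) ∈ G' := by
    have : i z ∈ j ⁻¹' G' := by
      rw [hGG']
      exact subset_coborder ⟨z, rfl⟩
    exact this
  obtain ⟨_, ⟨W, hW : IsAffineOpen W, rfl⟩, hzW, hWG⟩ :=
    X.isBasis_affineOpens.exists_subset_of_mem_open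
      (show j (i z) ∈ ((j.coborderRange ⊓ ⟨G, hG⟩ ⊓ ⟨G', hG'⟩ : X.Opens) : Set X) from
        ⟨⟨h1, h2⟩, h3⟩) (j.coborderRange ⊓ ⟨G, hG⟩ ⊓ ⟨G', hG'⟩).isOpen
  have hWc : W ≤ j.coborderRange := fun x hx => (hWG hx).1.1
  have hVU : j ⁻¹ᵁ W ≤ U₀.1 := by
    intro y hy
    have : y ∈ j ⁻¹' G := (hWG hy).1.2
    rw [hGG] at this
    exact this
  have hVc : j ⁻¹ᵁ W ≤ i.coborderRange := by
    intro y hy
    have : y ∈ j ⁻¹' G' := (hWG hy).2
    rw [hGG'] at this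
    exact this
  obtain ⟨hV, -⟩ := OmegaCnD.affine_of_le_coborderRange j hW hWc
  exact ⟨W, hW, hWc, hVc, hzW, h1_restrict i U₀.2 hV hVU rs hrs hker⟩

include ha hi in
theorem mono_a : Mono a := by
  haveI : (Omega.conormal j).IsQuasicoherent :=
    StalkPull.isQuasicoherent_pullbackObj j (ClSub.idealMod j.ker)
  haveI : ((Scheme.Modules.pullback i).obj (Omega.conormal j)).IsQuasicoherent :=
    StalkPull.isQuasicoherent_pullbackObj i _
  haveI : (Omega.conormal (i ≫ j)).IsQuasicoherent :=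
    StalkPull.isQuasicoherent_pullbackObj (i ≫ j) (ClSub.idealMod (i ≫ j).ker)
  apply QcohLocal.mono_of_app_injective_of_affine_cover
  intro z
  obtain ⟨W, hW, hWc, hVc, hzW, c, f, hf, hkerV⟩ := exists_chart i j hi z
  obtain ⟨hV, hsurjj⟩ := OmegaCnD.affine_of_le_coborderRange j hW hWc
  obtain ⟨hO, hsurji⟩ := OmegaCnD.affine_of_le_coborderRange i hV hVc
  refine ⟨i ⁻¹ᵁ (j ⁻¹ᵁ W), hO, hzW, ?_⟩
  have hsurjc : Function.Surjective ((i ≫ j).app W) := by
    intro t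
    obtain ⟨b, hb⟩ := hsurji t
    obtain ⟨a', ha'⟩ := hsurjj b
    refine ⟨a', ?_⟩
    change i.app (j ⁻¹ᵁ W) (j.app W a') = t
    rw [ha', hb]
  rw [injective_iff_map_eq_zero]
  intro r hr
  have e₀ : i ⁻¹ᵁ (j ⁻¹ᵁ W) ≤ i ⁻¹ᵁ (j ⁻¹ᵁ W) := le_rfl
  letI algBC := (i.appLE (j ⁻¹ᵁ W) (i ⁻¹ᵁ (j ⁻¹ᵁ W)) e₀).hom.toAlgebra
  letI : Module Γ(Y, j ⁻¹ᵁ W)
      Γ((Scheme.Modules.pullback i).obj (Omega.conormal j), i ⁻¹ᵁ (j ⁻¹ᵁ W)) :=
    Module.compHom _ (i.appLE (j ⁻¹ᵁ W) (i ⁻¹ᵁ (j ⁻¹ᵁ W)) e₀).hom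
  haveI : IsScalarTower Γ(Y, j ⁻¹ᵁ W) Γ(Z, i ⁻¹ᵁ (j ⁻¹ᵁ W))
      Γ((Scheme.Modules.pullback i).obj (Omega.conormal j), i ⁻¹ᵁ (j ⁻¹ᵁ W)) :=
    IsScalarTower.of_compHom _ _ _
  obtain ⟨ρ₁, hρ₁, hb₁⟩ := exists_isBaseChange_pbSec i (Omega.conormal j) hV hO e₀
  have hsurj₁ : Function.Surjective (algebraMap Γ(Y, j ⁻¹ᵁ W) Γ(Z, i ⁻¹ᵁ (j ⁻¹ᵁ W))) := by
    intro t
    obtain ⟨b, hb⟩ := hsurji t
    refine ⟨b, ?_⟩
    change i.appLE (j ⁻¹ᵁ W) (i ⁻¹ᵁ (j ⁻¹ᵁ W)) e₀ b = t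
    rw [Scheme.Hom.appLE_eq_app]
    exact hb
  obtain ⟨m, rfl⟩ := OmegaCnC.isBaseChange_surjective ρ₁ hb₁ hsurj₁ r
  obtain ⟨s, rfl⟩ := OmegaCnH.exists_conormalSect j hW hV hsurjj m
  rw [hρ₁, OmegaCnB.pbSec_self] at hr ⊢
  obtain ⟨s', hs', h⟩ := OmegaCnH.phi1_pull j i a ha W s
  have h1 : conormalSect (i ≫ j) W s' = 0 := h.symm.trans hr
  have h2 := OmegaCnF.idealSect_mem_sq (i ≫ j) hW hO hsurjc s' h1
  rw [hs'] at h2
  have hx : idealSect j.ker W s ∈ RingHom.ker (j.app W).hom := OmegaCnB.app_idealSect j hW s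
  have hIJ : RingHom.ker (j.app W).hom ≤ RingHom.ker ((i ≫ j).app W).hom := by
    intro x hx
    rw [RingHom.mem_ker] at hx ⊢
    change i.app (j ⁻¹ᵁ W) (j.app W x) = 0
    rw [hx, map_zero]
  have hspan : Ideal.span (Set.range f) =
      (RingHom.ker ((i ≫ j).app W).hom).map (j.app W).hom := by
    rw [← hkerV]
    have h3 : RingHom.ker ((i ≫ j).app W).hom =
        (RingHom.ker (i.app (j ⁻¹ᵁ W)).hom).comap (j.app W).hom := by
      ext x
      rw [Ideal.mem_comap, RingHom.mem_ker, RingHom.mem_ker]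
      rfl
    rw [h3, Ideal.map_comap_of_surjective _ hsurjj]
  have h3 := Groth.Agent.Helper8.H1Inter.global (j.app W).hom hsurjj
    (RingHom.ker (j.app W).hom) (RingHom.ker ((i ≫ j).app W).hom) hIJ rfl f hf hspan ⟨hx, h2⟩
  suffices H : ∀ x ∈ RingHom.ker (j.app W).hom * RingHom.ker ((i ≫ j).app W).hom,
      ∃ σ : Γ(ClSub.idealMod j.ker, W), idealSect j.ker W σ = x ∧
        pullSect i (Omega.conormal j) (j ⁻¹ᵁ W) (conormalSect j W σ) = 0 by
    obtain ⟨σ, hσ, h0⟩ := H _ h3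
    rw [← OmegaCnC.idealSect_injective j W hσ]
    exact h0
  intro x hx
  refine Submodule.mul_induction_on hx ?_ ?_
  · intro y hy k hk
    obtain ⟨σy, hσy⟩ := OmegaCnB.exists_idealSect j hW y hy
    refine ⟨k • σy, by rw [OmegaCnC.idealSect_smul, hσy, mul_comm], ?_⟩
    rw [OmegaCnG.conormalSect_smul, ← OmegaCnB.pbSec_self, pbSec_smul, OmegaCnB.pbSec_self]
    have hk0 : i.appLE (j ⁻¹ᵁ W) (i ⁻¹ᵁ (j ⁻¹ᵁ W)) le_rfl (j.appLE W (j ⁻¹ᵁ W) le_rfl k) = 0 := by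
      rw [Scheme.Hom.appLE_eq_app, Scheme.Hom.appLE_eq_app]
      exact hk
    rw [hk0, zero_smul]
  · intro x y hx hy
    obtain ⟨σx, hσx, h0x⟩ := hx
    obtain ⟨σy, hσy, h0y⟩ := hy
    exact ⟨σx + σy, by rw [map_add, hσx, hσy], by rw [map_add, map_add, h0x, h0y, add_zero]⟩

omit [IsImmersion i] in
include hi in
theorem isFinLocFree_conormal : FlatMod.IsFinLocFree (Omega.conormal i) := by
  haveI : (Omega.conormal i).IsQuasicoherent :=
    StalkPull.isQuasicoherent_pullbackObj i (ClSub.idealMod i.ker)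
  intro z
  obtain ⟨U₀, hzU₀, hcl, rs, hrs, hker⟩ := hi.2 z
  haveI := hcl
  obtain ⟨hO, hsurj⟩ := affine_of_restrict_closed i U₀.2
  refine ⟨i ⁻¹ᵁ U₀.1, rs.length, hzU₀, ?_⟩
  change FinLocFree.IsFreeAlong (Omega.conormal i) (i ⁻¹ᵁ U₀.1).ι rs.length
  rw [FinLocFree.isFreeAlong_ι_iff_basis hO]
  have hqr : CAlgX.IsQuasiRegular rs.get := Groth.Agent.S2103.result rs.get hrs
  have hI : RingHom.ker (i.app U₀.1).hom = Ideal.span (Set.range rs.get) := by
    rw [hker, Set.range_list_get]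
  have hσ : ∀ k : Fin rs.length, ∃ σ : Γ(ClSub.idealMod i.ker, U₀.1),
      idealSect i.ker U₀.1 σ = rs.get k := fun k =>
    OmegaCnB.exists_idealSect i U₀.2 _ (by
      rw [← RingHom.mem_ker, hI]
      exact Ideal.subset_span ⟨k, rfl⟩)
  choose σ hσ using hσ
  let v : Fin rs.length → Γ(Omega.conormal i, i ⁻¹ᵁ U₀.1) := fun k => conormalSect i U₀.1 (σ k)
  refine ⟨Module.Basis.mk (v := v) ?_ ?_⟩
  · rw [Fintype.linearIndependent_iff]
    intro g hg k
    choose b hb using fun k => hsurj (g k)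
    have h1 : conormalSect i U₀.1 (∑ k, b k • σ k) = 0 := by
      rw [map_sum, ← hg]
      refine Finset.sum_congr rfl fun k _ => ?_
      rw [OmegaCnG.conormalSect_smul, Scheme.Hom.appLE_eq_app, hb]
    have h2 := OmegaCnF.idealSect_mem_sq i U₀.2 hO hsurj _ h1
    rw [map_sum] at h2
    have h3 : ∑ k, b k * rs.get k ∈ Ideal.span (Set.range rs.get) ^ 2 := by
      rw [← hI]
      have h4 : ∑ k, b k * rs.get k = ∑ k, idealSect i.ker U₀.1 (b k • σ k) := by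
        refine Finset.sum_congr rfl fun k _ => ?_
        rw [OmegaCnC.idealSect_smul, hσ]
      rw [h4]
      exact h2
    have h4 := H1RegA.coeff_mem_of_quasiRegular rs.get hqr b h3 k
    rw [← hI, RingHom.mem_ker] at h4
    rw [← hb k]
    exact h4
  · rintro t -
    obtain ⟨τ, rfl⟩ := OmegaCnH.exists_conormalSect i U₀.2 hO hsurj t
    have hτ : idealSect i.ker U₀.1 τ ∈ Ideal.span (Set.range rs.get) := by
      rw [← hI]
      exact OmegaCnB.app_idealSect i U₀.2 τ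
    obtain ⟨b, hb⟩ := (Ideal.mem_span_range_iff_exists_fun).mp hτ
    have hτ' : τ = ∑ k, b k • σ k := by
      apply OmegaCnC.idealSect_injective i U₀.1
      rw [map_sum, ← hb]
      refine Finset.sum_congr rfl fun k _ => ?_
      rw [OmegaCnC.idealSect_smul, hσ]
    rw [hτ', map_sum]
    refine Submodule.sum_mem _ fun k _ => ?_
    rw [OmegaCnG.conormalSect_smul]
    exact Submodule.smul_mem _ _ (Submodule.subset_span ⟨k, rfl⟩)

end Main

/-- **S8919** -/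
theorem main {Z Y X : Scheme.{u}} (i : Z ⟶ Y) (j : Y ⟶ X) [IsImmersion i] [IsImmersion j]
    [QuasiCompact i] [QuasiCompact j]
    (a : (Scheme.Modules.pullback i).obj (Omega.conormal j) ⟶ Omega.conormal (i ≫ j))
    (ha : OmegaSh.IsConormalMap (i ≫ j) j (𝟙 X) i a)
    (b : (Scheme.Modules.pullback (𝟙 Z)).obj (Omega.conormal (i ≫ j)) ⟶ Omega.conormal i)
    (hb : OmegaSh.IsConormalMap i (i ≫ j) j (𝟙 Z) b)
    (hi : RegImm.IsRegularImmersion RegImm.Kind.h1 i) :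
    a ≫ ((Scheme.Modules.pullbackId Z).inv.app (Omega.conormal (i ≫ j)) ≫ b) = 0 ∧
      (∀ w : a ≫ ((Scheme.Modules.pullbackId Z).inv.app (Omega.conormal (i ≫ j)) ≫ b) = 0,
        (ShortComplex.mk a ((Scheme.Modules.pullbackId Z).inv.app (Omega.conormal (i ≫ j)) ≫ b)
          w).ShortExact) ∧
      FlatMod.IsFinLocFree (Omega.conormal i) := by
  have w := OmegaCnH.comp_zero j i a ha b hb
  refine ⟨w, fun w' => ?_, isFinLocFree_conormal i hi⟩
  haveI : Mono a := mono_a i j a ha hi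
  haveI : Epi b := OmegaCnH.epi_phi2 j i b hb
  exact ShortComplex.ShortExact.mk' (OmegaCnH.exact j i a ha b hb w') inferInstance
    (epi_comp _ _)

end Groth.Agent.Lead.H1RegB
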