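import Mathlib
import Groth.Prelude.Def_RegImm
import Groth.Agent.Lead.H1RegB
import Groth.Agent.Lead.KoszulFunE

set_option autoImplicit false

namespace Groth.Agent.Lead.KoszulGeoA
open CategoryTheory Limits AlgebraicGeometry TopologicalSpace

universe u

variable {Y X : Scheme.{u}}

/-- a closed-immersion chart restricts to smaller opens -/
theorem isClosedImmersion_restrict_of_le (i : Y ⟶ X) {U W : X.Opens} (h : W ≤ U)
    [IsClosedImmersion (i ∣_ U)] : IsClosedImmersion (i ∣_ W) := by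
  have h1 : IsClosedImmersion (i ∣_ U ∣_ (U.ι ⁻¹ᵁ W)) := inferInstance
  have h2 := (MorphismProperty.arrow_mk_iso_iff @IsClosedImmersion
    (morphismRestrictRestrict i U (U.ι ⁻¹ᵁ W))).mp h1
  have himg : U.ι ''ᵁ (U.ι ⁻¹ᵁ W) = W := by
    rw [Scheme.Hom.image_preimage_eq_opensRange_inf, Scheme.Opens.opensRange_ι]
    exact inf_eq_right.mpr h
  exact (MorphismProperty.arrow_mk_iso_iff @IsClosedImmersion (morphismRestrictEq i himg)).mp h2

theorem ker_transport (i : Y ⟶ X) (O₁ O₂ U W : X.Opens) (e₁ : O₁ = U) (e₂ : O₂ = W)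
    (h' : O₂ ≤ O₁) (h : W ≤ U)
    (H : Ideal.map (X.presheaf.map (homOfLE h').op).hom (RingHom.ker (i.app O₁).hom) =
      RingHom.ker (i.app O₂).hom) :
    Ideal.map (X.presheaf.map (homOfLE h).op).hom (RingHom.ker (i.app U).hom) =
      RingHom.ker (i.app W).hom := by
  subst e₁ e₂
  exact H

theorem ker_morphismRestrict_app (i : Y ⟶ X) (U : X.Opens) (V : U.toScheme.Opens) :
    RingHom.ker ((i ∣_ U).app V).hom = RingHom.ker (i.app (U.ι ''ᵁ V)).hom := by
  have hinj : Function.Injective (Y.presheaf.map (eqToHom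
      (image_morphismRestrict_preimage i U V)).op).hom :=
    ((ConcreteCategory.isIso_iff_bijective _).mp inferInstance).1
  ext x
  have h1 : ((i ∣_ U).app V).hom x = (Y.presheaf.map (eqToHom
      (image_morphismRestrict_preimage i U V)).op).hom ((i.app (U.ι ''ᵁ V)).hom x) := by
    rw [morphismRestrict_app]
    rfl
  show ((i ∣_ U).app V).hom x = 0 ↔ (i.app (U.ι ''ᵁ V)).hom x = 0
  rw [h1]
  exact map_eq_zero_iff _ hinj

/-- the kernel of a closed-immersion chart restricts to smaller affine opens -/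
theorem ker_restrict (i : Y ⟶ X) {U W : X.Opens} (hU : IsAffineOpen U) (hW : IsAffineOpen W)
    (h : W ≤ U) [IsClosedImmersion (i ∣_ U)] :
    Ideal.map (X.presheaf.map (homOfLE h).op).hom (RingHom.ker (i.app U).hom) =
      RingHom.ker (i.app W).hom := by
  haveI : IsAffine U.toScheme := hU
  have hV : IsAffineOpen (U.ι ⁻¹ᵁ W) :=
    hW.preimage_of_isOpenImmersion U.ι (by rw [Scheme.Opens.opensRange_ι]; exact h)
  have h1 := (i ∣_ U).ker.map_ideal (U := ⟨U.ι ⁻¹ᵁ W, hV⟩) (V := ⟨⊤, isAffineOpen_top _⟩)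
    (Subtype.mk_le_mk.mpr le_top)
  rw [Scheme.Hom.ker_apply, Scheme.Hom.ker_apply] at h1
  dsimp only at h1
  rw [ker_morphismRestrict_app, ker_morphismRestrict_app] at h1
  have himg : U.ι ''ᵁ (U.ι ⁻¹ᵁ W) = W := by
    rw [Scheme.Hom.image_preimage_eq_opensRange_inf, Scheme.Opens.opensRange_ι]
    exact inf_eq_right.mpr h
  have htop : U.ι ''ᵁ ⊤ = U := by
    rw [Scheme.Hom.image_top_eq_opensRange, Scheme.Opens.opensRange_ι]
  refine ker_transport i _ _ U W htop himg ?_ h h1
  exact (Scheme.Hom.image_mono _ le_top)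

end Groth.Agent.Lead.KoszulGeoA
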