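import Mathlib
import Groth.Prelude.Def_RegImm
import Groth.Agent.Lead.H1RegB
import Groth.Agent.Lead.KoszulFunE
import Groth.Agent.Lead.KoszulGeoA

set_option autoImplicit false

namespace Groth.Agent.Lead.KoszulGeoC
open CategoryTheory Limits AlgebraicGeometry TopologicalSpace
open Groth.Agent.Lead.KoszulGeoA

universe u

/-- the kernel of the base change of a surjection in a pushout square of commutative rings -/
theorem ker_of_isPushout {A B A' P : CommRingCat.{u}} (φ : A ⟶ B) (ψ : A ⟶ A') (φ' : B ⟶ P)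
    (ψ' : A' ⟶ P) (h : IsPushout φ ψ φ' ψ') (hφ : Function.Surjective φ.hom) :
    RingHom.ker ψ'.hom = Ideal.map ψ.hom (RingHom.ker φ.hom) := by
  apply le_antisymm
  · set J := Ideal.map ψ.hom (RingHom.ker φ.hom) with hJ
    let q : A' ⟶ CommRingCat.of (A' ⧸ J) := CommRingCat.ofHom (Ideal.Quotient.mk J)
    have hle : RingHom.ker φ.hom ≤ RingHom.ker ((Ideal.Quotient.mk J).comp ψ.hom) := by
      intro a ha
      rw [RingHom.mem_ker, RingHom.comp_apply, Ideal.Quotient.eq_zero_iff_mem]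
      exact Ideal.mem_map_of_mem _ ha
    let β : B ⟶ CommRingCat.of (A' ⧸ J) :=
      CommRingCat.ofHom (RingHom.liftOfSurjective φ.hom hφ ⟨_, hle⟩)
    have comm : φ ≫ β = ψ ≫ q := by
      ext a
      exact RingHom.liftOfRightInverse_comp_apply φ.hom (Function.surjInv hφ)
          (Function.rightInverse_surjInv hφ) ⟨(Ideal.Quotient.mk J).comp ψ.hom, hle⟩ a
    have hd : ψ' ≫ h.desc β q comm = q := h.inr_desc β q comm
    intro x hx
    rw [RingHom.mem_ker] at hx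
    have h1 : q.hom x = (h.desc β q comm).hom (ψ'.hom x) := by
      have := congrArg (fun f => f.hom x) hd
      exact this.symm
    rw [hx, map_zero] at h1
    exact Ideal.Quotient.eq_zero_iff_mem.mp h1
  · rw [Ideal.map_le_iff_le_comap]
    intro a ha
    rw [RingHom.mem_ker] at ha
    rw [Ideal.mem_comap, RingHom.mem_ker]
    have h1 : ψ'.hom (ψ.hom a) = φ'.hom (φ.hom a) := by
      have := congrArg (fun f => f.hom a) h.w
      exact this.symm
    rw [h1, ha, map_zero]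

variable {X Y X' Y' : Scheme.{u}}

/-- charts of the base change of an immersion -/
theorem baseChange_chart (i : Y ⟶ X) (g : X' ⟶ X) (i' : Y' ⟶ X') (g' : Y' ⟶ Y)
    (hsq : IsPullback g' i' i g) (y' : Y') (U : X.Opens) (hU : IsAffineOpen U)
    (hy : i (g' y') ∈ U) [IsClosedImmersion (i ∣_ U)] :
    ∃ (U' : X'.Opens) (_ : IsAffineOpen U') (e : U' ≤ g ⁻¹ᵁ U), i' y' ∈ U' ∧
      IsClosedImmersion (i' ∣_ U') ∧
      RingHom.ker (i'.app U').hom = Ideal.map (g.appLE U U' e).hom (RingHom.ker (i.app U).hom) := by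
  have hpt : g (i' y') = i (g' y') := by
    have := congrArg (fun f => f y') hsq.w
    exact this.symm
  have hx' : i' y' ∈ g ⁻¹ᵁ U := by
    show g (i' y') ∈ U
    rw [hpt]
    exact hy
  obtain ⟨_, ⟨U', hU' : IsAffineOpen U', rfl⟩, hx'U', hU'le⟩ :=
    X'.isBasis_affineOpens.exists_subset_of_mem_open hx' (g ⁻¹ᵁ U).isOpen
  have e : U' ≤ g ⁻¹ᵁ U := hU'le
  obtain ⟨hUX, hsurj⟩ := H1RegB.affine_of_restrict_closed i hU
  have hle : i' ⁻¹ᵁ U' ≤ g' ⁻¹ᵁ (i ⁻¹ᵁ U) := by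
    have h1 : i' ⁻¹ᵁ U' ≤ i' ⁻¹ᵁ (g ⁻¹ᵁ U) := i'.preimage_mono e
    have h2 : i' ⁻¹ᵁ (g ⁻¹ᵁ U) = g' ⁻¹ᵁ (i ⁻¹ᵁ U) := by
      rw [← Scheme.Hom.comp_preimage, ← Scheme.Hom.comp_preimage, hsq.w]
    exact h1.trans_eq h2
  have hUY : i' ⁻¹ᵁ U' = g' ⁻¹ᵁ (i ⁻¹ᵁ U) ⊓ i' ⁻¹ᵁ U' :=
    le_antisymm (le_inf hle le_rfl) inf_le_right
  have hpb := Scheme.Hom.isPullback_resLE hsq e (le_refl (i ⁻¹ᵁ U)) hUY
  have hcl : IsClosedImmersion (i' ∣_ U') := by
    have h1 : IsClosedImmersion (i.resLE U (i ⁻¹ᵁ U) le_rfl) := by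
      rw [Scheme.Hom.resLE_eq_morphismRestrict]
      infer_instance
    have h2 := MorphismProperty.of_isPullback (P := @IsClosedImmersion) hpb h1
    rwa [Scheme.Hom.resLE_eq_morphismRestrict] at h2
  refine ⟨U', hU', e, hx'U', hcl, ?_⟩
  have hpo := (isIso_pushoutSection_iff hsq e (le_refl (i ⁻¹ᵁ U)) hUY).mp
    (isIso_pushoutSection_of_isAffineOpen hsq e (le_refl (i ⁻¹ᵁ U)) hUY hU hU' hUX)
  have h3 := ker_of_isPushout _ _ _ _ hpo (by rw [Scheme.Hom.appLE_eq_app]; exact hsurj)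
  rw [Scheme.Hom.appLE_eq_app, Scheme.Hom.appLE_eq_app] at h3
  exact h3

end Groth.Agent.Lead.KoszulGeoC
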