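import Mathlib
import Groth.Prelude.Def_RegImm
import Groth.Agent.Lead.H1RegA
import Groth.Agent.Lead.QRegFlat
import Groth.Agent.Lead.KoszulGeoC

set_option autoImplicit false

namespace Groth.Agent.Lead.KoszulGeoD
open CategoryTheory Limits AlgebraicGeometry TopologicalSpace
open Groth.Agent.Lead.KoszulGeoA

universe u

section seq
variable {R S : Type u} [CommRing R] [CommRing S]

theorem isH1Regular_congr {c c' : ℕ} (h : c = c') (f : Fin c → R) (f' : Fin c' → R)
    (hff' : ∀ k, f' (Fin.cast h k) = f k) (hf : CAlgX.IsH1Regular f) : CAlgX.IsH1Regular f' := by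
  subst h
  have : f' = f := funext fun k => hff' k
  rw [this]
  exact hf

theorem isQuasiRegular_congr {c c' : ℕ} (h : c = c') (f : Fin c → R) (f' : Fin c' → R)
    (hff' : ∀ k, f' (Fin.cast h k) = f k) (hf : CAlgX.IsQuasiRegular f) :
    CAlgX.IsQuasiRegular f' := by
  subst h
  have : f' = f := funext fun k => hff' k
  rw [this]
  exact hf

/-- flat base change of sequences of each kind; for the kind regular the quotient has to stay
nonzero -/
theorem seq_of_flat [Algebra R S] [Module.Flat R S] (k : RegImm.Kind) (rs : List R)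
    (hrs : k.Seq R rs) (hne : Ideal.ofList (rs.map (algebraMap R S)) ≠ ⊤) :
    k.Seq S (rs.map (algebraMap R S)) := by
  cases k with
  | regular =>
    have hrs' : RingTheory.Sequence.IsRegular R rs := hrs
    refine (⟨hrs'.toIsWeaklyRegular.of_flat, ?_⟩ : RingTheory.Sequence.IsRegular S _)
    intro h
    apply hne
    rw [Ideal.smul_eq_mul, Ideal.mul_top] at h
    exact h.symm
  | koszul =>
    have hrs' : LCI.IsKoszulRegularSeq R rs := hrs
    exact KoszulFunC.isKoszulRegularSeq_of_flat rs hrs'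
  | h1 =>
    have hrs' : CAlgX.IsH1Regular rs.get := hrs
    have h1 := H1RegA.isH1Regular_of_flat (S := S) rs.get hrs'
    refine isH1Regular_congr (List.length_map _).symm _ _ (fun k => ?_) h1
    simp
  | quasi =>
    have hrs' : CAlgX.IsQuasiRegular rs.get := hrs
    have h1 := QRegFlat.isQuasiRegular_of_flat (S := S) rs.get hrs'
    refine isQuasiRegular_congr (List.length_map _).symm _ _ (fun k => ?_) h1
    simp

end seq

variable {X Y X' Y' : Scheme.{u}}

/-- flat base change of regular immersions of each kind -/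
theorem baseChange_flat (k : RegImm.Kind) (i : Y ⟶ X) (g : X' ⟶ X) [Flat g] (i' : Y' ⟶ X')
    (g' : Y' ⟶ Y) (hsq : IsPullback g' i' i g) (hi : RegImm.IsRegularImmersion k i) :
    RegImm.IsRegularImmersion k i' := by
  haveI := hi.1
  refine ⟨MorphismProperty.of_isPullback (P := @IsImmersion) hsq hi.1, fun y' => ?_⟩
  obtain ⟨U, hyU, hcU, rs, hrs, hker⟩ := hi.2 (g' y')
  haveI := hcU
  obtain ⟨U', hU', e, hy'U', hcl, hker'⟩ :=
    KoszulGeoC.baseChange_chart i g i' g' hsq y' U.1 U.2 hyU
  have hflat : (g.appLE U.1 U' e).hom.Flat :=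
    HasRingHomProperty.appLE (P := @Flat) g inferInstance U ⟨U', hU'⟩ e
  have hker'' : RingHom.ker (i'.app U').hom = Ideal.ofList (rs.map (g.appLE U.1 U' e).hom) := by
    rw [hker', hker, Ideal.map_ofList]
  refine ⟨⟨U', hU'⟩, hy'U', hcl, rs.map (g.appLE U.1 U' e).hom, ?_, hker''⟩
  letI := (g.appLE U.1 U' e).hom.toAlgebra
  haveI : Module.Flat Γ(X, U.1) Γ(X', U') := hflat
  refine seq_of_flat k rs hrs ?_
  change Ideal.ofList (rs.map (g.appLE U.1 U' e).hom) ≠ ⊤
  rw [← hker'']
  haveI : Nonempty (i' ⁻¹ᵁ U' : Y'.Opens) := ⟨⟨y', hy'U'⟩⟩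
  intro h
  have h1 : (1 : Γ(X', U')) ∈ RingHom.ker (i'.app U').hom := by
    rw [h]
    trivial
  rw [RingHom.mem_ker, map_one] at h1
  exact one_ne_zero h1

end Groth.Agent.Lead.KoszulGeoD
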