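import Mathlib
import Groth.Prelude.Def_CAlgX
import Groth.Agent.Helper4.FlatQuotPure

set_option autoImplicit false

/-!
# Powers of an ideal generated by a finite family: monomial generators
-/

namespace Groth.Agent.Lead.QRegBCa
open TensorProduct

universe u
variable {B : Type u} [CommRing B] {r : ℕ} (f : Fin r → B)

/-- exponent vectors of total degree `n` -/
noncomputable def D (r n : ℕ) : Finset (Fin r →₀ ℕ) := Finset.finsuppAntidiag Finset.univ n

lemma mem_D {n : ℕ} (d : Fin r →₀ ℕ) : d ∈ D r n ↔ ∑ i, d i = n := by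
  classical
  unfold D
  rw [Finset.mem_finsuppAntidiag]
  simp

lemma mem_D_iff_degree {n : ℕ} (d : Fin r →₀ ℕ) : d ∈ D r n ↔ d.degree = n := by
  rw [mem_D, Finsupp.degree_eq_sum]

/-- the monomial in the `f i` with exponent vector `d` -/
noncomputable def mon (d : Fin r →₀ ℕ) : B := ∏ i, f i ^ d i

lemma mon_mem {n : ℕ} (d : Fin r →₀ ℕ) (hd : d ∈ D r n) :
    mon f d ∈ Ideal.span (Set.range f) ^ n := by
  rw [mem_D] at hd
  rw [← hd, ← Finset.prod_pow_eq_pow_sum]
  exact Ideal.prod_mem_prod fun i _ => Ideal.pow_mem_pow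
    (Ideal.subset_span (Set.mem_range_self i)) _

lemma mon_zero : mon f 0 = 1 := by
  simp [mon]

lemma mon_add_single (d : Fin r →₀ ℕ) (i : Fin r) :
    mon f (d + Finsupp.single i 1) = f i * mon f d := by
  classical
  unfold mon
  have : ∀ j, f j ^ ((d + Finsupp.single i 1 : Fin r →₀ ℕ) j) = f j ^ d j * (if j = i then f i else 1) := by
    intro j
    rw [Finsupp.add_apply, pow_add]
    by_cases h : j = i
    · subst h
      simp
    · rw [Finsupp.single_apply, if_neg (Ne.symm h), if_neg h, pow_zero]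
  simp only [this]
  rw [Finset.prod_mul_distrib, Finset.prod_ite_eq' Finset.univ i, if_pos (Finset.mem_univ _),
    mul_comm]

/-- `I^n` is spanned by the monomials of degree `n` -/
lemma pow_le_span (n : ℕ) :
    Ideal.span (Set.range f) ^ n ≤ Ideal.span ((fun d => mon f d) '' (D r n : Set (Fin r →₀ ℕ))) := by
  induction n with
  | zero =>
    rw [pow_zero, Ideal.one_eq_top]
    have : (1 : B) ∈ Ideal.span ((fun d => mon f d) '' (D r 0 : Set (Fin r →₀ ℕ))) := by
      apply Ideal.subset_span
      refine ⟨0, ?_, mon_zero f⟩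
      rw [Finset.mem_coe, mem_D]
      simp
    rw [top_le_iff, Ideal.eq_top_iff_one]
    exact this
  | succ n ih =>
    rw [pow_succ']
    refine (Ideal.mul_mono_right ih).trans ?_
    rw [Ideal.span_mul_span']
    apply Ideal.span_mono
    rintro _ ⟨_, ⟨i, rfl⟩, _, ⟨d, hd, rfl⟩, rfl⟩
    refine ⟨d + Finsupp.single i 1, ?_, ?_⟩
    · rw [Finset.mem_coe, mem_D] at hd ⊢
      simp only [Finsupp.add_apply, Finset.sum_add_distrib, hd]
      congr 1
      simp [Finsupp.single_apply]
    · exact mon_add_single f d i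

end Groth.Agent.Lead.QRegBCa
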