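import Mathlib
import Groth.Prelude.Def_CAlgX
import Groth.Agent.Helper4.FlatQuotPure
import Groth.Agent.Lead.QRegBCa

set_option autoImplicit false

namespace Groth.Agent.Lead.QRegBCb
open TensorProduct Groth.Agent.Lead.QRegBCa CAlgX

universe u
variable {B : Type u} [CommRing B] {r : ℕ} (f : Fin r → B)

/-- evaluation of a family of coefficients on the monomials of degree `n` -/
noncomputable def ev (n : ℕ) : (D r n → B) →ₗ[B] B :=
  Fintype.linearCombination B (fun d : D r n => mon f d.1)

lemma ev_apply (n : ℕ) (b : D r n → B) : ev f n b = ∑ d, b d * mon f d.1 := by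
  simp [ev, Fintype.linearCombination_apply]

lemma ev_mem (n : ℕ) (b : D r n → B) : ev f n b ∈ Ideal.span (Set.range f) ^ n := by
  rw [ev_apply]
  exact Ideal.sum_mem _ fun d _ => Ideal.mul_mem_left _ _ (mon_mem f d.1 d.2)

lemma exists_ev_eq (n : ℕ) (y : B) (hy : y ∈ Ideal.span (Set.range f) ^ n) :
    ∃ b, ev f n b = y := by
  have h1 := pow_le_span f n hy
  have h2 : ((fun d => mon f d) '' (D r n : Set (Fin r →₀ ℕ))) =
      Set.range (fun d : D r n => mon f d.1) := by
    ext x
    constructor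
    · rintro ⟨d, hd, rfl⟩
      exact ⟨⟨d, hd⟩, rfl⟩
    · rintro ⟨d, rfl⟩
      exact ⟨d.1, d.2, rfl⟩
  rw [h2] at h1
  obtain ⟨c, hc⟩ := (Ideal.mem_span_range_iff_exists_fun).mp h1
  exact ⟨c, by rw [ev_apply, hc]⟩

lemma ev_mem_succ (n : ℕ) (b : D r n → B) (hb : ∀ d, b d ∈ Ideal.span (Set.range f)) :
    ev f n b ∈ Ideal.span (Set.range f) ^ (n + 1) := by
  rw [ev_apply, pow_succ']
  exact Ideal.sum_mem _ fun d _ => Ideal.mul_mem_mul (hb d) (mon_mem f d.1 d.2)

/-- quasi-regularity in terms of `ev` -/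
lemma coeff_mem (hq : IsQuasiRegular f) (n : ℕ) (b : D r n → B)
    (hb : ev f n b ∈ Ideal.span (Set.range f) ^ (n + 1)) (d : D r n) :
    b d ∈ Ideal.span (Set.range f) := by
  classical
  set P : MvPolynomial (Fin r) B := ∑ e : D r n, MvPolynomial.monomial e.1 (b e) with hP
  have hhom : P.IsHomogeneous n := by
    apply MvPolynomial.IsHomogeneous.sum
    intro e _
    apply MvPolynomial.isHomogeneous_monomial
    exact (mem_D_iff_degree e.1).mp e.2
  have hev : MvPolynomial.eval f P = ev f n b := by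
    rw [hP, map_sum, ev_apply]
    refine Finset.sum_congr rfl fun e _ => ?_
    rw [MvPolynomial.eval_monomial, Finsupp.prod_pow]
    rfl
  have hcoeff : P.coeff d.1 = b d := by
    rw [hP, MvPolynomial.coeff_sum]
    simp only [MvPolynomial.coeff_monomial]
    rw [Finset.sum_eq_single d]
    · rw [if_pos rfl]
    · intro e _ he
      rw [if_neg]
      intro h
      exact he (Subtype.ext h)
    · intro h
      exact absurd (Finset.mem_univ _) h
  rw [← hcoeff]
  exact hq n P hhom (by rw [hev]; exact hb) d.1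

end Groth.Agent.Lead.QRegBCb
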