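import Mathlib
import Groth.Prelude.Def_CAlgX
import Groth.Agent.Helper4.FlatQuotPure
import Groth.Agent.Lead.QRegBCb

set_option autoImplicit false

namespace Groth.Agent.Lead.QRegBCc
open TensorProduct Groth.Agent.Lead.QRegBCa Groth.Agent.Lead.QRegBCb CAlgX

universe u
variable (A : Type u) {B : Type u} [CommRing A] [CommRing B] [Algebra A B] {r : ℕ} (f : Fin r → B)

/-- the powers of the ideal as `A`-submodules -/
noncomputable def J (n : ℕ) : Submodule A B := (Ideal.span (Set.range f) ^ n).restrictScalars A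

lemma mem_J (n : ℕ) (x : B) : x ∈ J A f n ↔ x ∈ Ideal.span (Set.range f) ^ n := Iff.rfl

lemma J_succ_le (n : ℕ) : J A f (n + 1) ≤ J A f n := fun _ hx => Ideal.pow_le_pow_right (Nat.le_succ n) hx

/-- `ev` as an `A`-linear map into `I^n` -/
noncomputable def evJ (n : ℕ) : (D r n → B) →ₗ[A] J A f n :=
  ((ev f n).restrictScalars A).codRestrict (J A f n) (ev_mem f n)

lemma evJ_coe (n : ℕ) (b : D r n → B) : ((evJ A f n b : J A f n) : B) = ev f n b := rfl

lemma evJ_surjective (n : ℕ) : Function.Surjective (evJ A f n) := by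
  rintro ⟨y, hy⟩
  obtain ⟨b, hb⟩ := exists_ev_eq f n y hy
  exact ⟨b, Subtype.ext hb⟩

/-- `I^{n+1}` inside `I^n` -/
noncomputable def K (n : ℕ) : Submodule A (J A f n) := Submodule.comap (J A f n).subtype (J A f (n + 1))

/-- the graded piece map -/
noncomputable def g (n : ℕ) : (D r n → B) →ₗ[A] (J A f n ⧸ K A f n) := (K A f n).mkQ ∘ₗ evJ A f n

lemma g_surjective (n : ℕ) : Function.Surjective (g A f n) :=
  (Submodule.mkQ_surjective _).comp (evJ_surjective A f n)

lemma mem_ker_g (n : ℕ) (b : D r n → B) :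
    b ∈ LinearMap.ker (g A f n) ↔ ev f n b ∈ Ideal.span (Set.range f) ^ (n + 1) := by
  rw [LinearMap.mem_ker, g, LinearMap.comp_apply, Submodule.mkQ_apply, Submodule.Quotient.mk_eq_zero]
  rfl

/-- reduction of the coefficients modulo `I` -/
noncomputable def red (n : ℕ) : (D r n → B) →ₗ[A] (D r n → B ⧸ Ideal.span (Set.range f)) :=
  ((Ideal.Quotient.mkₐ A (Ideal.span (Set.range f))).toLinearMap).compLeft (D r n)

lemma red_surjective (n : ℕ) : Function.Surjective (red A f n) := by
  intro c
  choose b hb using fun d => Ideal.Quotient.mk_surjective (c d)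
  exact ⟨b, funext hb⟩

lemma mem_ker_red (n : ℕ) (b : D r n → B) :
    b ∈ LinearMap.ker (red A f n) ↔ ∀ d, b d ∈ Ideal.span (Set.range f) := by
  rw [LinearMap.mem_ker]
  constructor
  · intro h d
    have := congrFun h d
    exact Ideal.Quotient.eq_zero_iff_mem.mp this
  · intro h
    funext d
    exact Ideal.Quotient.eq_zero_iff_mem.mpr (h d)

lemma ker_g_eq (hq : IsQuasiRegular f) (n : ℕ) :
    LinearMap.ker (g A f n) = LinearMap.ker (red A f n) := by
  ext b
  rw [mem_ker_g, mem_ker_red]
  exact ⟨fun h d => coeff_mem f hq n b h d, fun h => ev_mem_succ f n b h⟩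

/-- the graded pieces are free over `B/I` -/
noncomputable def gradedEquiv (hq : IsQuasiRegular f) (n : ℕ) :
    (J A f n ⧸ K A f n) ≃ₗ[A] (D r n → B ⧸ Ideal.span (Set.range f)) :=
  ((g A f n).quotKerEquivOfSurjective (g_surjective A f n)).symm ≪≫ₗ
    Submodule.quotEquivOfEq _ _ (ker_g_eq A f hq n) ≪≫ₗ
    (red A f n).quotKerEquivOfSurjective (red_surjective A f n)

lemma flat_graded (hq : IsQuasiRegular f)
    (hflat : Module.Flat A (B ⧸ Ideal.span (Set.range f))) (n : ℕ) :
    Module.Flat A (J A f n ⧸ K A f n) := by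
  classical
  haveI : Module.Flat A (D r n → B ⧸ Ideal.span (Set.range f)) :=
    Module.Flat.of_linearEquiv
      (DFinsupp.linearEquivFunOnFintype (R := A)
        (M := fun _ : D r n => B ⧸ Ideal.span (Set.range f))).symm
  exact Module.Flat.of_linearEquiv (gradedEquiv A f hq n)

/-- `A' ⊗ I^n → A' ⊗ B` is injective -/
theorem subtype_lTensor_injective (hq : IsQuasiRegular f)
    (hflat : Module.Flat A (B ⧸ Ideal.span (Set.range f)))
    (A' : Type u) [AddCommGroup A'] [Module A A'] (n : ℕ) :
    Function.Injective ((J A f n).subtype.lTensor A') := by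
  induction n with
  | zero =>
    have h0 : J A f 0 = ⊤ := by
      ext x
      rw [mem_J, pow_zero, Ideal.one_eq_top]
      simp
    have h1 : (J A f 0).subtype = (Submodule.topEquiv (R := A) (M := B)).toLinearMap ∘ₗ
        (LinearEquiv.ofEq _ _ h0).toLinearMap := by
      ext x
      rfl
    rw [h1, LinearMap.lTensor_comp]
    exact ((Submodule.topEquiv (R := A) (M := B)).lTensor A').injective.comp
      ((LinearEquiv.ofEq _ _ h0).lTensor A').injective
  | succ n ih =>
    haveI := flat_graded A f hq hflat n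
    have h1 := Groth.Agent.Helper4.FlatQuotPure.submodule_lTensor_injective (K A f n) A'
    let e : K A f n ≃ₗ[A] J A f (n + 1) := Submodule.comapSubtypeEquivOfLe (J_succ_le A f n)
    have h2 : (J A f (n + 1)).subtype = (J A f n).subtype ∘ₗ (K A f n).subtype ∘ₗ
        e.symm.toLinearMap := by
      ext x
      rfl
    rw [h2, LinearMap.lTensor_comp, LinearMap.lTensor_comp]
    exact ih.comp (h1.comp (e.symm.lTensor A').injective)

end Groth.Agent.Lead.QRegBCc
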