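import Mathlib
import Groth.Prelude.Def_CAlgX
import Groth.Agent.Helper4.FlatQuotPure
import Groth.Agent.Lead.QRegBCc

set_option autoImplicit false

namespace Groth.Agent.Lead.QRegBCd
open TensorProduct Groth.Agent.Lead.QRegBCa Groth.Agent.Lead.QRegBCb Groth.Agent.Lead.QRegBCc CAlgX

universe u
variable (A B A' : Type u) [CommRing A] [CommRing B] [CommRing A'] [Algebra A B] [Algebra A A']
  {r : ℕ} (f : Fin r → B)

variable {A B A'} in
/-- the tensored sequence -/
abbrev f' : Fin r → A' ⊗[A] B := fun i => (1 : A') ⊗ₜ[A] f i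

lemma mon_f' (d : Fin r →₀ ℕ) : mon (f' (A := A) (A' := A') f) d = (1 : A') ⊗ₜ[A] mon f d := by
  unfold mon
  have h := map_prod (Algebra.TensorProduct.includeRight : B →ₐ[A] A' ⊗[A] B)
    (fun i => f i ^ d i) Finset.univ
  simp only [map_pow, Algebra.TensorProduct.includeRight_apply] at h
  exact h.symm

lemma span_f' : Ideal.span (Set.range (f' (A := A) (A' := A') f)) =
    Ideal.map (Algebra.TensorProduct.includeRight : B →ₐ[A] A' ⊗[A] B)
      (Ideal.span (Set.range f)) := by
  rw [Ideal.map_span, ← Set.range_comp]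
  rfl

lemma tmul_mem (α : A') (x : B) (hx : x ∈ Ideal.span (Set.range f)) :
    α ⊗ₜ[A] x ∈ Ideal.span (Set.range (f' (A := A) (A' := A') f)) := by
  have h1 : α ⊗ₜ[A] x = (α ⊗ₜ[A] (1 : B)) * ((1 : A') ⊗ₜ[A] x) := by
    rw [Algebra.TensorProduct.tmul_mul_tmul, mul_one, one_mul]
  rw [h1, span_f']
  exact Ideal.mul_mem_left _ _ (Ideal.mem_map_of_mem _ hx)

/-- componentwise map `A' ⊗ B^ι → (A' ⊗ B)^ι` -/
noncomputable def Θ (n : ℕ) : A' ⊗[A] (D r n → B) ≃ₗ[A] (D r n → A' ⊗[A] B) :=
  TensorProduct.piRight A A A' (fun _ : D r n => B)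

lemma Θ_tmul (n : ℕ) (α : A') (v : D r n → B) : Θ A B A' n (α ⊗ₜ v) = fun j => α ⊗ₜ v j := by
  simp [Θ]

/-- evaluation on the monomials of the tensored sequence -/
noncomputable def ev' (n : ℕ) : (D r n → A' ⊗[A] B) →ₗ[A] A' ⊗[A] B :=
  (ev (f' (A := A) (A' := A') f) n).restrictScalars A

lemma ev'_comp_Θ (n : ℕ) : (ev' A B A' f n) ∘ₗ (Θ A B A' n).toLinearMap =
    ((ev f n).restrictScalars A).lTensor A' := by
  apply TensorProduct.ext'
  intro α v
  simp only [LinearMap.comp_apply, LinearEquiv.coe_coe, Θ_tmul, LinearMap.lTensor_tmul,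
    LinearMap.coe_restrictScalars, ev', ev_apply, mon_f']
  rw [TensorProduct.tmul_sum]
  refine Finset.sum_congr rfl fun d _ => ?_
  rw [Algebra.TensorProduct.tmul_mul_tmul, mul_one]

theorem main (hflat : Module.Flat A (B ⧸ Ideal.span (Set.range f)))
    (hq : IsQuasiRegular f) : IsQuasiRegular (f' (A := A) (A' := A') f) := by
  classical
  intro n P' hP' hev' d₀
  -- coefficients outside `D r n` vanish
  have hsupp : P'.support ⊆ D r n := by
    intro d hd
    rw [mem_D_iff_degree, Finsupp.degree_eq_weight_one]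
    exact hP' (MvPolynomial.mem_support_iff.mp hd)
  by_cases hd₀ : d₀ ∈ D r n
  swap
  · have : P'.coeff d₀ = 0 := by
      by_contra h
      exact hd₀ (hsupp (MvPolynomial.mem_support_iff.mpr h))
    rw [this]
    exact Submodule.zero_mem _
  let c : D r n → A' ⊗[A] B := fun d => P'.coeff d.1
  have hc : ev' A B A' f n c = MvPolynomial.eval (f' (A := A) (A' := A') f) P' := by
    rw [MvPolynomial.eval_eq']
    simp only [ev', LinearMap.coe_restrictScalars, ev_apply, c]
    rw [Finset.sum_coe_sort (D r n) (fun d => P'.coeff d * mon (f' (A := A) (A' := A') f) d)]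
    symm
    refine Finset.sum_subset hsupp ?_
    intro d _ hd
    rw [MvPolynomial.notMem_support_iff.mp hd, zero_mul]
  set u : A' ⊗[A] (D r n → B) := (Θ A B A' n).symm c with hu
  have hΘu : Θ A B A' n u = c := by rw [hu, LinearEquiv.apply_symm_apply]
  have hevu : ((ev f n).restrictScalars A).lTensor A' u =
      MvPolynomial.eval (f' (A := A) (A' := A') f) P' := by
    rw [← ev'_comp_Θ, LinearMap.comp_apply, LinearEquiv.coe_coe, hΘu, hc]
  -- the value lies in the image of `A' ⊗ I^(n+1)`
  rw [span_f', ← Ideal.map_pow] at hev'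
  have hmem : MvPolynomial.eval (f' (A := A) (A' := A') f) P' ∈
      LinearMap.range ((J A f (n + 1)).subtype.lTensor A') := by
    have h1 := (Ideal.map_includeRight_eq (R := A) (A := A')
      (Ideal.span (Set.range f) ^ (n + 1))).le
    exact h1 hev'
  obtain ⟨s, hs⟩ := hmem
  -- factorisations
  have hfac1 : (ev f n).restrictScalars A = (J A f n).subtype ∘ₗ evJ A f n := by
    ext v
    rfl
  have hfac2 : (J A f (n + 1)).subtype = (J A f n).subtype ∘ₗ
      Submodule.inclusion (J_succ_le A f n) := by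
    ext x
    rfl
  have hinj := subtype_lTensor_injective A f hq hflat A' n
  have h5 : (evJ A f n).lTensor A' u = (Submodule.inclusion (J_succ_le A f n)).lTensor A' s := by
    apply hinj
    rw [← LinearMap.comp_apply, ← LinearMap.lTensor_comp, ← hfac1, hevu,
      ← LinearMap.comp_apply, ← LinearMap.lTensor_comp, ← hfac2, hs]
  have h6 : (g A f n).lTensor A' u = 0 := by
    have hz : (K A f n).mkQ ∘ₗ Submodule.inclusion (J_succ_le A f n) = 0 := by
      ext x
      simp only [LinearMap.comp_apply, Submodule.mkQ_apply, LinearMap.zero_apply]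
      rw [Submodule.Quotient.mk_eq_zero]
      exact x.2
    rw [g, LinearMap.lTensor_comp, LinearMap.comp_apply, h5, ← LinearMap.comp_apply,
      ← LinearMap.lTensor_comp, hz, LinearMap.lTensor_zero, LinearMap.zero_apply]
  have hex := lTensor_exact A' (LinearMap.exact_subtype_ker_map (g A f n)) (g_surjective A f n)
  obtain ⟨w, hw⟩ := (hex u).mp h6
  have key : ∀ w : A' ⊗[A] (LinearMap.ker (g A f n)), ∀ d,
      Θ A B A' n ((LinearMap.ker (g A f n)).subtype.lTensor A' w) d ∈
        Ideal.span (Set.range (f' (A := A) (A' := A') f)) := by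
    intro w d
    induction w using TensorProduct.induction_on with
    | zero => simp
    | tmul α t =>
      rw [LinearMap.lTensor_tmul, Θ_tmul]
      apply tmul_mem
      have ht : (t : D r n → B) ∈ LinearMap.ker (red A f n) := by
        rw [← ker_g_eq A f hq n]
        exact t.2
      rw [mem_ker_red] at ht
      exact ht d
    | add x y hx hy =>
      rw [map_add, map_add, Pi.add_apply]
      exact Ideal.add_mem _ hx hy
  have := key w ⟨d₀, hd₀⟩
  rw [hw, hΘu] at this
  exact this

end Groth.Agent.Lead.QRegBCd
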