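import Mathlib
import Groth.Prelude.Def_RegImm
import Groth.Agent.Helper4.H1BaseChange
import Groth.Agent.Lead.QRegBCd
import Groth.Agent.Lead.KoszulGeoD

set_option autoImplicit false

namespace Groth.Agent.Lead.RelBCa
open CategoryTheory Limits TensorProduct CAlgX

universe u

/-- sequences of kind `H_1` or quasi-regular with flat quotient base change along pushouts -/
theorem seq_of_isPushout {R A R' A' C : CommRingCat.{u}} (φ : R ⟶ A) (ψ : R ⟶ R') (φ' : A ⟶ A')
    (ψ' : R' ⟶ A') (h : IsPushout φ ψ φ' ψ') (k : RegImm.Kind)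
    (hk : k = RegImm.Kind.h1 ∨ k = RegImm.Kind.quasi) (rs : List A) (hrs : k.Seq A rs)
    (π : A ⟶ C) (hπ : Function.Surjective π.hom) (hker : RingHom.ker π.hom = Ideal.ofList rs)
    (hflat : (φ ≫ π).hom.Flat) : k.Seq A' (rs.map φ'.hom) := by
  letI : Algebra R A := φ.hom.toAlgebra
  letI : Algebra R R' := ψ.hom.toAlgebra
  have hI : Ideal.span (Set.range rs.get) = RingHom.ker π.hom := by
    rw [hker, Set.range_list_get]
  have hfl : Module.Flat R (A ⧸ Ideal.span (Set.range rs.get)) := by
    letI : Algebra R C := (φ ≫ π).hom.toAlgebra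
    haveI : Module.Flat R C := hflat
    let ℓ : (A ⧸ Ideal.span (Set.range rs.get)) →+* C :=
      Ideal.Quotient.lift _ π.hom (fun a ha => by rw [hI] at ha; exact ha)
    let ℓ' : (A ⧸ Ideal.span (Set.range rs.get)) →ₗ[R] C :=
      { toFun := ℓ
        map_add' := ℓ.map_add
        map_smul' := by
          intro r x
          obtain ⟨a, rfl⟩ := Ideal.Quotient.mk_surjective x
          show ℓ (r • Ideal.Quotient.mk _ a) = (φ ≫ π).hom r * ℓ (Ideal.Quotient.mk _ a)
          have : r • Ideal.Quotient.mk (Ideal.span (Set.range rs.get)) a =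
              Ideal.Quotient.mk _ (φ.hom r * a) := rfl
          rw [this]
          simp only [ℓ, Ideal.Quotient.lift_mk, map_mul]
          rfl }
    have hinj : Function.Injective ℓ' := by
      rw [← LinearMap.ker_eq_bot, LinearMap.ker_eq_bot']
      intro x hx
      obtain ⟨a, rfl⟩ := Ideal.Quotient.mk_surjective x
      have : π.hom a = 0 := hx
      rw [Ideal.Quotient.eq_zero_iff_mem, hI]
      exact this
    have hsurj : Function.Surjective ℓ' := by
      intro c
      obtain ⟨a, rfl⟩ := hπ c
      exact ⟨Ideal.Quotient.mk _ a, rfl⟩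
    exact Module.Flat.of_linearEquiv (LinearEquiv.ofBijective ℓ' ⟨hinj, hsurj⟩)
  have hpo : IsPushout ψ φ (CommRingCat.ofHom (S := R' ⊗[R] A)
      Algebra.TensorProduct.includeLeftRingHom)
      (CommRingCat.ofHom (S := R' ⊗[R] A) Algebra.TensorProduct.includeRight.toRingHom) :=
    CommRingCat.isPushout_tensorProduct R R' A
  let e := hpo.isoIsPushout _ _ h.flip
  have he : ∀ a : A, e.hom.hom ((1 : R') ⊗ₜ[R] a) = φ'.hom a := by
    intro a
    have := congrArg (fun t => t.hom a) (hpo.inr_isoIsPushout_hom _ _ h.flip)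
    exact this
  have hbij : Function.Bijective e.hom.hom :=
    (ConcreteCategory.isIso_iff_bijective e.hom).mp inferInstance
  letI : Algebra (R' ⊗[R] A) A' := e.hom.hom.toAlgebra
  haveI : Module.Flat (R' ⊗[R] A) A' := RingHom.Flat.of_bijective hbij
  rcases hk with rfl | rfl
  · have hrs' : IsH1Regular rs.get := hrs
    have h1 := Groth.Agent.Helper4.H1BaseChange.main R A R' rs.get hfl hrs'
    have h2 := H1RegA.isH1Regular_of_flat (S := A') _ h1
    refine KoszulGeoD.isH1Regular_congr (List.length_map _).symm _ _ (fun k => ?_) h2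
    rw [List.get_eq_getElem, List.getElem_map]
    exact (he _).symm
  · have hrs' : IsQuasiRegular rs.get := hrs
    have h1 := QRegBCd.main R A R' rs.get hfl hrs'
    have h2 := QRegFlat.isQuasiRegular_of_flat (S := A') _ h1
    refine KoszulGeoD.isQuasiRegular_congr (List.length_map _).symm _ _ (fun k => ?_) h2
    rw [List.get_eq_getElem, List.getElem_map]
    exact (he _).symm

end Groth.Agent.Lead.RelBCa
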