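import Mathlib
import Groth.Prelude.Def_RegImm
import Groth.Agent.Lead.RelBCa

set_option autoImplicit false

namespace Groth.Agent.Lead.RelBCb
open CategoryTheory Limits AlgebraicGeometry TopologicalSpace
open Groth.Agent.Lead.KoszulGeoA

universe u

section charts
variable {X Y X' Y' : Scheme.{u}}

/-- charts of the base change of an immersion, over a given affine open -/
theorem baseChange_chart' (i : Y ⟶ X) (g : X' ⟶ X) (i' : Y' ⟶ X') (g' : Y' ⟶ Y)
    (hsq : IsPullback g' i' i g) (U : X.Opens) (hU : IsAffineOpen U)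
    [IsClosedImmersion (i ∣_ U)] (U' : X'.Opens) (hU' : IsAffineOpen U') (e : U' ≤ g ⁻¹ᵁ U) :
    IsClosedImmersion (i' ∣_ U') ∧
      RingHom.ker (i'.app U').hom = Ideal.map (g.appLE U U' e).hom (RingHom.ker (i.app U).hom) := by
  obtain ⟨hUX, hsurj⟩ := H1RegB.affine_of_restrict_closed i hU
  have hle : i' ⁻¹ᵁ U' ≤ g' ⁻¹ᵁ (i ⁻¹ᵁ U) := by
    have h1 : i' ⁻¹ᵁ U' ≤ i' ⁻¹ᵁ (g ⁻¹ᵁ U) := i'.preimage_mono e
    have h2 : i' ⁻¹ᵁ (g ⁻¹ᵁ U) = g' ⁻¹ᵁ (i ⁻¹ᵁ U) := by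
      rw [← Scheme.Hom.comp_preimage, ← Scheme.Hom.comp_preimage, hsq.w]
    exact h1.trans_eq h2
  have hUY : i' ⁻¹ᵁ U' = g' ⁻¹ᵁ (i ⁻¹ᵁ U) ⊓ i' ⁻¹ᵁ U' :=
    le_antisymm (le_inf hle le_rfl) inf_le_right
  have hpb := Scheme.Hom.isPullback_resLE hsq e (le_refl (i ⁻¹ᵁ U)) hUY
  have hcl : IsClosedImmersion (i' ∣_ U') := by
    have h1 : IsClosedImmersion (i.resLE U (i ⁻¹ᵁ U) le_rfl) := by
      rw [Scheme.Hom.resLE_eq_morphismRestrict]
      infer_instance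
    have h2 := MorphismProperty.of_isPullback (P := @IsClosedImmersion) hpb h1
    rwa [Scheme.Hom.resLE_eq_morphismRestrict] at h2
  refine ⟨hcl, ?_⟩
  have hpo := (isIso_pushoutSection_iff hsq e (le_refl (i ⁻¹ᵁ U)) hUY).mp
    (isIso_pushoutSection_of_isAffineOpen hsq e (le_refl (i ⁻¹ᵁ U)) hUY hU hU' hUX)
  have h3 := KoszulGeoC.ker_of_isPushout _ _ _ _ hpo
    (by rw [Scheme.Hom.appLE_eq_app]; exact hsurj)
  rw [Scheme.Hom.appLE_eq_app, Scheme.Hom.appLE_eq_app] at h3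
  exact h3

/-- a chart of any kind restricts to smaller affine opens meeting the subscheme -/
theorem kind_restrict (k : RegImm.Kind) (i : Y ⟶ X) {U W : X.Opens} (hU : IsAffineOpen U)
    (hW : IsAffineOpen W) (h : W ≤ U) [IsClosedImmersion (i ∣_ U)] (rs : List Γ(X, U))
    (hrs : k.Seq Γ(X, U) rs) (hker : RingHom.ker (i.app U).hom = Ideal.ofList rs)
    (y : Y) (hy : i y ∈ W) :
    IsClosedImmersion (i ∣_ W) ∧
      k.Seq Γ(X, W) (rs.map (X.presheaf.map (homOfLE h).op).hom) ∧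
      RingHom.ker (i.app W).hom = Ideal.ofList (rs.map (X.presheaf.map (homOfLE h).op).hom) := by
  have hk : RingHom.ker (i.app W).hom =
      Ideal.ofList (rs.map (X.presheaf.map (homOfLE h).op).hom) := by
    rw [← ker_restrict i hU hW h, hker, Ideal.map_ofList]
  refine ⟨isClosedImmersion_restrict_of_le i h, ?_, hk⟩
  letI := (X.presheaf.map (homOfLE h).op).hom.toAlgebra
  haveI : Module.Flat Γ(X, U) Γ(X, W) := H1RegB.flat_res hU hW h
  refine KoszulGeoD.seq_of_flat k rs hrs ?_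
  change Ideal.ofList (rs.map (X.presheaf.map (homOfLE h).op).hom) ≠ ⊤
  rw [← hk]
  haveI : Nonempty (i ⁻¹ᵁ W : Y.Opens) := ⟨⟨y, hy⟩⟩
  intro h'
  have h1 : (1 : Γ(X, W)) ∈ RingHom.ker (i.app W).hom := by
    rw [h']
    trivial
  rw [RingHom.mem_ker, map_one] at h1
  exact one_ne_zero h1

end charts

end Groth.Agent.Lead.RelBCb
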