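import Mathlib
import Groth.Agent.Lead.LocLift4

/-!
# Cycles of exact complexes in a class closed under kernels of epimorphisms (towards S0913)
-/

set_option autoImplicit false
universe v u
open CategoryTheory CategoryTheory.Limits

namespace Groth.Agent.Lead.FlatLib

section Abstract
variable {A : Type u} [Category.{v} A] [Abelian A] (P : A → Prop)

/-- closure properties of a class of objects. -/
structure KerClosed : Prop where
  zero : ∀ X : A, IsZero X → P X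
  iso : ∀ {X Y : A}, (X ≅ Y) → P X → P Y
  ker : ∀ {X Y : A} (g : X ⟶ Y), Epi g → P X → P Y → P (kernel g)
  biprod : ∀ {X Y : A}, P X → P Y → P (X ⊞ Y)

variable {P}

theorem kernel_d_mem (hP : KerClosed P) (C : CochainComplex A ℤ) (n N : ℤ)
    (hN : ∀ i : ℤ, N < i → IsZero (C.X i)) (hC : ∀ i : ℤ, n ≤ i → P (C.X i))
    (hex : ∀ i : ℤ, n ≤ i →
      (ShortComplex.mk (C.d i (i + 1)) (C.d (i + 1) (i + 1 + 1)) (C.d_comp_d _ _ _)).Exact) :
    ∀ i : ℤ, n ≤ i → P (kernel (C.d i (i + 1))) := by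
  have key : ∀ (k : ℕ) (i : ℤ), n ≤ i → N < i + k → P (kernel (C.d i (i + 1))) := by
    intro k
    induction k with
    | zero =>
      intro i _ hi
      apply hP.zero
      exact IsZero.of_mono (kernel.ι (C.d i (i + 1))) (hN i (by simpa using hi))
    | succ k ih =>
      intro i hi hik
      have h1 : P (kernel (C.d (i + 1) (i + 1 + 1))) := ih (i + 1) (by omega) (by push_cast at hik; omega)
      have hE := hex i hi
      have hepi : Epi (kernel.lift (C.d (i + 1) (i + 1 + 1)) (C.d i (i + 1)) (C.d_comp_d _ _ _)) :=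
        (ShortComplex.exact_iff_epi_kernel_lift _).mp hE
      have h2 := hP.ker _ hepi (hC i hi) h1
      have e : kernel (kernel.lift (C.d (i + 1) (i + 1 + 1)) (C.d i (i + 1)) (C.d_comp_d _ _ _)) ≅
          kernel (C.d i (i + 1)) :=
        (kernelCompMono _ (kernel.ι (C.d (i + 1) (i + 1 + 1)))).symm ≪≫
          kernelIsoOfEq (kernel.lift_ι _ _ _)
      exact hP.iso e h2
  intro i hi
  exact key (N + 1 - i).toNat i hi (by omega)

/-- if `C.X (a-2) = 0` and `C` is exact in degrees `a-1` and `a` then `C.X (a-1) ≅ Z^a(C)`. -/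
theorem X_iso_kernel_d (C : CochainComplex A ℤ) (a₂ a₁ a a' : ℤ) (h₂ : a₂ + 1 = a₁)
    (h₁ : a₁ + 1 = a) (h : a + 1 = a') (hz : IsZero (C.X a₂))
    (hex₁ : (ShortComplex.mk (C.d a₂ a₁) (C.d a₁ a) (C.d_comp_d _ _ _)).Exact)
    (hex : (ShortComplex.mk (C.d a₁ a) (C.d a a') (C.d_comp_d _ _ _)).Exact) :
    Nonempty (C.X a₁ ≅ kernel (C.d a a')) := by
  haveI hmono : Mono (C.d a₁ a) := hex₁.mono_g (hz.eq_of_src _ _)
  haveI hepi : Epi (kernel.lift (C.d a a') (C.d a₁ a) (C.d_comp_d _ _ _)) :=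
    (ShortComplex.exact_iff_epi_kernel_lift _).mp hex
  haveI : Mono (kernel.lift (C.d a a') (C.d a₁ a) (C.d_comp_d _ _ _)) :=
    mono_of_mono_fac (kernel.lift_ι _ _ _)
  haveI : IsIso (kernel.lift (C.d a a') (C.d a₁ a) (C.d_comp_d _ _ _)) := isIso_of_mono_of_epi _
  exact ⟨asIso (kernel.lift (C.d a a') (C.d a₁ a) (C.d_comp_d _ _ _))⟩

/-- `X ⊞ 0 ≅ X`. -/
noncomputable def biprodZeroIso (X Y : A) (hY : IsZero Y) : X ⊞ Y ≅ X where
  hom := biprod.fst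
  inv := biprod.inl
  hom_inv_id := by
    ext
    · simp
    · exact hY.eq_of_tgt _ _
    · simp
    · exact hY.eq_of_tgt _ _
  inv_hom_id := biprod.inl_fst

open CochainComplex HomologicalComplex in
theorem opcycles_mem (hP : KerClosed P) {K F : CochainComplex A ℤ} (β : K ⟶ F) (a N : ℤ)
    (hK : ∀ i : ℤ, P (K.X i)) (hKN : ∀ i : ℤ, N < i → IsZero (K.X i))
    (hF : ∀ i : ℤ, P (F.X i)) (hFa : ∀ i : ℤ, i < a → IsZero (F.X i))
    (hFN : ∀ i : ℤ, N < i → IsZero (F.X i))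
    (hβ : ∀ i : ℤ, a ≤ i → QuasiIsoAt β i) : P (K.opcycles a) := by
  obtain ⟨a₀, rfl⟩ : ∃ a₀ : ℤ, a = a₀ + 1 + 1 := ⟨a - 2, by omega⟩
  haveI : F.IsStrictlyGE (a₀ + 1 + 1) := (F.isStrictlyGE_iff (a₀ + 1 + 1)).mpr (fun i hi => hFa i hi)
  haveI : QuasiIso (truncGEMap β (a₀ + 1 + 1)) :=
    (CochainComplex.quasiIso_truncGEMap_iff β (a₀ + 1 + 1)).mpr hβ
  obtain ⟨K', hK'⟩ : ∃ K' : CochainComplex A ℤ, K' = K.truncGE (a₀ + 1 + 1) := ⟨_, rfl⟩
  obtain ⟨β', hβ'⟩ : ∃ β' : K.truncGE (a₀ + 1 + 1) ⟶ F,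
      β' = truncGEMap β (a₀ + 1 + 1) ≫ inv (F.πTruncGE (a₀ + 1 + 1)) := ⟨_, rfl⟩
  haveI : QuasiIso β' := by rw [hβ']; infer_instance
  have hiso : ∀ i : ℤ, IsIso (HomologicalComplex.homologyMap β' i) := fun i =>
    (quasiIsoAt_iff_isIso_homologyMap β' i).mp inferInstance
  have iso : ∀ i j : ℤ, i + 1 = j → ((mappingCone β').X i ≅ (K.truncGE (a₀ + 1 + 1)).X j ⊞ F.X i) :=
    fun i j hij => homotopyCofiber.XIsoBiprod β' i j hij
  have hK'gt : ∀ i : ℤ, a₀ + 1 + 1 < i → P ((K.truncGE (a₀ + 1 + 1)).X i) := fun i hi =>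
    hP.iso (K.truncGEXIso (a₀ + 1 + 1) i hi).symm (hK i)
  have hK'lt : ∀ i : ℤ, i < a₀ + 1 + 1 → IsZero ((K.truncGE (a₀ + 1 + 1)).X i) := fun i hi =>
    (K.truncGE (a₀ + 1 + 1)).isZero_of_isStrictlyGE (a₀ + 1 + 1) i hi
  have hCP : ∀ i : ℤ, a₀ + 1 + 1 ≤ i → P ((mappingCone β').X i) := fun i hi =>
    hP.iso (iso i (i + 1) rfl).symm (hP.biprod (hK'gt (i + 1) (by omega)) (hF i))
  have hCN : ∀ i : ℤ, max N (a₀ + 1 + 1) < i → IsZero ((mappingCone β').X i) := fun i hi => by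
    have h1 : N < i := lt_of_le_of_lt (le_max_left _ _) hi
    have h2 : a₀ + 1 + 1 < i := lt_of_le_of_lt (le_max_right _ _) hi
    refine IsZero.of_iso ?_ (iso i (i + 1) rfl)
    rw [biprod_isZero_iff]
    exact ⟨IsZero.of_iso (hKN (i + 1) (by omega)) (K.truncGEXIso (a₀ + 1 + 1) (i + 1) (by omega)),
      hFN i h1⟩
  have hacyc : ∀ i : ℤ, IsZero ((mappingCone β').homology i) := fun i =>
    Groth.Agent.Lead.LocLift.isZero_homology_mappingCone β' i
      (haveI := hiso i; inferInstance) (haveI := hiso (i + 1); inferInstance)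
  have hex : ∀ i : ℤ, (ShortComplex.mk ((mappingCone β').d i (i + 1))
      ((mappingCone β').d (i + 1) (i + 1 + 1)) ((mappingCone β').d_comp_d _ _ _)).Exact := by
    intro i
    exact ((mappingCone β').exactAt_iff' i (i + 1) (i + 1 + 1) (by simp) (by simp)).mp
      ((exactAt_iff_isZero_homology _ _).mpr (hacyc (i + 1)))
  have hZ := kernel_d_mem hP (mappingCone β') (a₀ + 1 + 1) (max N (a₀ + 1 + 1)) hCN hCP
    (fun i _ => hex i) (a₀ + 1 + 1) le_rfl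
  have hz : IsZero ((mappingCone β').X a₀) := by
    refine IsZero.of_iso ?_ (iso a₀ (a₀ + 1) rfl)
    rw [biprod_isZero_iff]
    exact ⟨hK'lt (a₀ + 1) (by omega), hFa a₀ (by omega)⟩
  obtain ⟨e⟩ := X_iso_kernel_d (mappingCone β') a₀ (a₀ + 1) (a₀ + 1 + 1) (a₀ + 1 + 1 + 1) rfl rfl rfl
    hz (hex a₀) (hex (a₀ + 1))
  have h1 : P ((mappingCone β').X (a₀ + 1)) := hP.iso e.symm hZ
  have h2 : P ((K.truncGE (a₀ + 1 + 1)).X (a₀ + 1 + 1)) :=
    hP.iso (iso (a₀ + 1) (a₀ + 1 + 1) rfl ≪≫ biprodZeroIso _ _ (hFa (a₀ + 1) (by omega))) h1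
  exact hP.iso (K.truncGEXIsoOpcycles (a₀ + 1 + 1)) h2

end Abstract

end Groth.Agent.Lead.FlatLib
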