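import Mathlib

/-!
# Stupid truncation `σ_{≥ a}` of cochain complexes (towards S0889)
-/

set_option autoImplicit false
open CategoryTheory CategoryTheory.Limits

namespace Groth.Agent.Lead.PcLib

variable {C : Type*} [Category C] [Abelian C]

open ZeroObject in
/-- the stupid truncation `σ_{≥ a} E`. -/
noncomputable def sigmaGE (E : CochainComplex C ℤ) (a : ℤ) : CochainComplex C ℤ where
  X i := if a ≤ i then E.X i else 0
  d i j := if h : a ≤ i ∧ a ≤ j then
    eqToHom (if_pos h.1) ≫ E.d i j ≫ eqToHom (if_pos h.2).symm else 0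
  shape i j hij := by
    by_cases h : a ≤ i ∧ a ≤ j
    · rw [dif_pos h, E.shape i j hij, zero_comp, comp_zero]
    · rw [dif_neg h]
  d_comp_d' i j k _ _ := by
    by_cases h1 : a ≤ i ∧ a ≤ j
    · by_cases h2 : a ≤ j ∧ a ≤ k
      · rw [dif_pos h1, dif_pos h2]
        simp
      · rw [dif_neg h2, comp_zero]
    · rw [dif_neg h1, zero_comp]

open ZeroObject in
noncomputable def sigmaGEXIso (E : CochainComplex C ℤ) (a : ℤ) {i : ℤ} (h : a ≤ i) :
    (sigmaGE E a).X i ≅ E.X i := eqToIso (if_pos h)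

open ZeroObject in
theorem isZero_sigmaGE_X (E : CochainComplex C ℤ) (a : ℤ) {i : ℤ} (h : i < a) :
    IsZero ((sigmaGE E a).X i) := by
  have : (sigmaGE E a).X i = 0 := if_neg (by omega)
  rw [this]
  exact isZero_zero C

theorem sigmaGE_d (E : CochainComplex C ℤ) (a : ℤ) {i j : ℤ} (hi : a ≤ i) (hj : a ≤ j) :
    (sigmaGE E a).d i j = (sigmaGEXIso E a hi).hom ≫ E.d i j ≫ (sigmaGEXIso E a hj).inv := by
  change (if h : a ≤ i ∧ a ≤ j then _ else 0) = _
  rw [dif_pos ⟨hi, hj⟩]
  rfl

/-- the inclusion `σ_{≥ a} E ⟶ E`. -/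
noncomputable def sigmaGEι (E : CochainComplex C ℤ) (a : ℤ) : sigmaGE E a ⟶ E where
  f i := if h : a ≤ i then (sigmaGEXIso E a h).hom else 0
  comm' i j _ := by
    by_cases hi : a ≤ i
    · have hj : a ≤ j := by
        rename_i hij
        simp only [ComplexShape.up_Rel] at hij
        omega
      rw [dif_pos hi, dif_pos hj, sigmaGE_d E a hi hj]
      simp
    · exact (isZero_sigmaGE_X E a (by omega)).eq_of_src _ _

theorem sigmaGEι_f (E : CochainComplex C ℤ) (a : ℤ) {i : ℤ} (h : a ≤ i) :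
    (sigmaGEι E a).f i = (sigmaGEXIso E a h).hom := dif_pos h

theorem isIso_sigmaGEι_f (E : CochainComplex C ℤ) (a : ℤ) {i : ℤ} (h : a ≤ i) :
    IsIso ((sigmaGEι E a).f i) := by
  rw [sigmaGEι_f E a h]
  infer_instance

theorem isIso_homologyMap_sigmaGEι (E : CochainComplex C ℤ) (a i : ℤ) (h : a < i) :
    IsIso (HomologicalComplex.homologyMap (sigmaGEι E a) i) := by
  rw [← quasiIsoAt_iff_isIso_homologyMap,
    quasiIsoAt_iff' (sigmaGEι E a) (i - 1) i (i + 1) (by simp) (by simp)]
  haveI : IsIso ((HomologicalComplex.shortComplexFunctor' C (ComplexShape.up ℤ) (i - 1) i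
      (i + 1)).map (sigmaGEι E a)).τ₁ := isIso_sigmaGEι_f E a (by omega)
  haveI : IsIso ((HomologicalComplex.shortComplexFunctor' C (ComplexShape.up ℤ) (i - 1) i
      (i + 1)).map (sigmaGEι E a)).τ₂ := isIso_sigmaGEι_f E a (by omega)
  haveI : IsIso ((HomologicalComplex.shortComplexFunctor' C (ComplexShape.up ℤ) (i - 1) i
      (i + 1)).map (sigmaGEι E a)).τ₃ := isIso_sigmaGEι_f E a (by omega)
  exact ShortComplex.quasiIso_of_epi_of_isIso_of_mono _

theorem epi_homologyMap_sigmaGEι (E : CochainComplex C ℤ) (a : ℤ) :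
    Epi (HomologicalComplex.homologyMap (sigmaGEι E a) a) := by
  haveI : IsIso ((HomologicalComplex.shortComplexFunctor C (ComplexShape.up ℤ) a).map
      (sigmaGEι E a)).τ₂ := isIso_sigmaGEι_f E a le_rfl
  haveI : IsIso ((HomologicalComplex.shortComplexFunctor C (ComplexShape.up ℤ) a).map
      (sigmaGEι E a)).τ₃ := isIso_sigmaGEι_f E a (by simp)
  haveI : IsIso (HomologicalComplex.cyclesMap (sigmaGEι E a) a) :=
    ShortComplex.isIso_cyclesMap_of_isIso_of_mono _
  have h2 := HomologicalComplex.homologyπ_naturality (sigmaGEι E a) a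
  haveI : Epi ((sigmaGE E a).homologyπ a ≫ HomologicalComplex.homologyMap (sigmaGEι E a) a) := by
    rw [h2]
    infer_instance
  exact epi_of_epi ((sigmaGE E a).homologyπ a) _

end Groth.Agent.Lead.PcLib
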