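import Mathlib


/-!
# Exact functors commute with the homology functors on derived categories (towards S0889)
-/

set_option autoImplicit false
open CategoryTheory CategoryTheory.Limits

namespace Groth.Agent.Lead.PcLib

section
universe w₁ w₂
variable {C₁ C₂ : Type*} [Category C₁] [Category C₂] [Abelian C₁] [Abelian C₂]
  [HasDerivedCategory.{w₁} C₁] [HasDerivedCategory.{w₂} C₂]
  (R : C₁ ⥤ C₂) [R.Additive] [PreservesFiniteLimits R] [PreservesFiniteColimits R]

/-- exact functors commute with homology of complexes, naturally. -/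
noncomputable def mapHomologyNatIso (i : ℤ) :
    R.mapHomologicalComplex (ComplexShape.up ℤ) ⋙
      HomologicalComplex.homologyFunctor C₂ (ComplexShape.up ℤ) i ≅
    HomologicalComplex.homologyFunctor C₁ (ComplexShape.up ℤ) i ⋙ R :=
  NatIso.ofComponents (fun K => ShortComplex.mapHomologyIso (K.sc i) R)
    (fun f => ShortComplex.mapHomologyIso_hom_naturality
      ((HomologicalComplex.shortComplexFunctor C₁ (ComplexShape.up ℤ) i).map f) R)

/-- exact functors commute with the homology functors on derived categories. -/
noncomputable def mapDerivedCategoryHomologyIso (i : ℤ) :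
    R.mapDerivedCategory ⋙ DerivedCategory.homologyFunctor C₂ i ≅
      DerivedCategory.homologyFunctor C₁ i ⋙ R :=
  letI : Localization.Lifting DerivedCategory.Q
      (HomologicalComplex.quasiIso C₁ (ComplexShape.up ℤ))
      (R.mapHomologicalComplex (ComplexShape.up ℤ) ⋙
        HomologicalComplex.homologyFunctor C₂ (ComplexShape.up ℤ) i)
      (R.mapDerivedCategory ⋙ DerivedCategory.homologyFunctor C₂ i) :=
    ⟨(Functor.associator _ _ _).symm ≪≫
      Functor.isoWhiskerRight R.mapDerivedCategoryFactors _ ≪≫
      Functor.associator _ _ _ ≪≫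
      Functor.isoWhiskerLeft _ (DerivedCategory.homologyFunctorFactors C₂ i)⟩
  letI : Localization.Lifting DerivedCategory.Q
      (HomologicalComplex.quasiIso C₁ (ComplexShape.up ℤ))
      (HomologicalComplex.homologyFunctor C₁ (ComplexShape.up ℤ) i ⋙ R)
      (DerivedCategory.homologyFunctor C₁ i ⋙ R) :=
    ⟨(Functor.associator _ _ _).symm ≪≫
      Functor.isoWhiskerRight (DerivedCategory.homologyFunctorFactors C₁ i) R⟩
  Localization.liftNatIso DerivedCategory.Q (HomologicalComplex.quasiIso C₁ (ComplexShape.up ℤ))
    (R.mapHomologicalComplex (ComplexShape.up ℤ) ⋙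
      HomologicalComplex.homologyFunctor C₂ (ComplexShape.up ℤ) i)
    (HomologicalComplex.homologyFunctor C₁ (ComplexShape.up ℤ) i ⋙ R) _ _
    (mapHomologyNatIso R i)

/-- the arrow `H^i(R α)` is isomorphic to the arrow `R(H^i α)`. -/
noncomputable def mapDerivedCategoryHomologyArrowIso (i : ℤ) {K L : DerivedCategory C₁}
    (α : K ⟶ L) :
    Arrow.mk ((DerivedCategory.homologyFunctor C₂ i).map (R.mapDerivedCategory.map α)) ≅
      Arrow.mk (R.map ((DerivedCategory.homologyFunctor C₁ i).map α)) :=
  Arrow.isoMk ((mapDerivedCategoryHomologyIso R i).app K) ((mapDerivedCategoryHomologyIso R i).app L)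
    ((mapDerivedCategoryHomologyIso R i).hom.naturality α).symm

theorem isIso_homology_mapDerivedCategory (i : ℤ) {K L : DerivedCategory C₁} (α : K ⟶ L)
    (h : IsIso ((DerivedCategory.homologyFunctor C₁ i).map α)) :
    IsIso ((DerivedCategory.homologyFunctor C₂ i).map (R.mapDerivedCategory.map α)) := by
  haveI := h
  exact ((MorphismProperty.isomorphisms C₂).arrow_mk_iso_iff
    (mapDerivedCategoryHomologyArrowIso R i α)).mpr
    (inferInstanceAs (IsIso (R.map ((DerivedCategory.homologyFunctor C₁ i).map α))))

theorem epi_homology_mapDerivedCategory (i : ℤ) {K L : DerivedCategory C₁} (α : K ⟶ L)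
    (h : Epi ((DerivedCategory.homologyFunctor C₁ i).map α)) :
    Epi ((DerivedCategory.homologyFunctor C₂ i).map (R.mapDerivedCategory.map α)) := by
  haveI := h
  exact ((MorphismProperty.epimorphisms C₂).arrow_mk_iso_iff
    (mapDerivedCategoryHomologyArrowIso R i α)).mpr
    (inferInstanceAs (Epi (R.map ((DerivedCategory.homologyFunctor C₁ i).map α))))

end

end Groth.Agent.Lead.PcLib
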