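import Mathlib

/-!
# Four lemmas in unbundled form, and cones in the derived category (towards S0889)
-/

set_option autoImplicit false
open CategoryTheory CategoryTheory.Limits

namespace Groth.Agent.Lead.PcLib

section Four
variable {C : Type*} [Category C] [Abelian C]
  {A₁ A₂ A₃ A₄ B₁ B₂ B₃ B₄ : C}
  (f₁ : A₁ ⟶ A₂) (f₂ : A₂ ⟶ A₃) (f₃ : A₃ ⟶ A₄)
  (g₁ : B₁ ⟶ B₂) (g₂ : B₂ ⟶ B₃) (g₃ : B₃ ⟶ B₄)
  (t₁ : A₁ ⟶ B₁) (t₂ : A₂ ⟶ B₂) (t₃ : A₃ ⟶ B₃) (t₄ : A₄ ⟶ B₄)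
  (c₁ : f₁ ≫ t₂ = t₁ ≫ g₁) (c₂ : f₂ ≫ t₃ = t₂ ≫ g₂) (c₃ : f₃ ≫ t₄ = t₃ ≫ g₃)
  (wf₁ : f₁ ≫ f₂ = 0) (wf₂ : f₂ ≫ f₃ = 0) (wg₁ : g₁ ≫ g₂ = 0) (wg₂ : g₂ ≫ g₃ = 0)
  (hf₁ : (ShortComplex.mk f₁ f₂ wf₁).Exact) (hf₂ : (ShortComplex.mk f₂ f₃ wf₂).Exact)
  (hg₁ : (ShortComplex.mk g₁ g₂ wg₁).Exact) (hg₂ : (ShortComplex.mk g₂ g₃ wg₂).Exact)

include c₁ c₂ c₃ hf₁ hf₂ hg₁ hg₂

open ComposableArrows in
theorem four_epi (h₁ : Epi t₁) (h₃ : Epi t₃) (h₄ : Mono t₄) : Epi t₂ := by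
  let R₁ : ComposableArrows C 3 := mk₃ f₁ f₂ f₃
  let R₂ : ComposableArrows C 3 := mk₃ g₁ g₂ g₃
  let φ : R₁ ⟶ R₂ := homMk₃ t₁ t₂ t₃ t₄ c₁ c₂ c₃
  have hR₁ : R₁.Exact := exact_of_δ₀ hf₁.exact_toComposableArrows hf₂.exact_toComposableArrows
  have hR₂ : R₂.Exact := exact_of_δ₀ hg₁.exact_toComposableArrows hg₂.exact_toComposableArrows
  exact Abelian.epi_of_epi_of_epi_of_mono φ hR₁ hR₂ h₁ h₃ h₄

open ComposableArrows in
theorem four_mono (h₁ : Epi t₁) (h₂ : Mono t₂) (h₄ : Mono t₄) : Mono t₃ := by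
  let R₁ : ComposableArrows C 3 := mk₃ f₁ f₂ f₃
  let R₂ : ComposableArrows C 3 := mk₃ g₁ g₂ g₃
  let φ : R₁ ⟶ R₂ := homMk₃ t₁ t₂ t₃ t₄ c₁ c₂ c₃
  have hR₁ : R₁.Exact := exact_of_δ₀ hf₁.exact_toComposableArrows hf₂.exact_toComposableArrows
  have hR₂ : R₂.Exact := exact_of_δ₀ hg₁.exact_toComposableArrows hg₂.exact_toComposableArrows
  exact Abelian.mono_of_epi_of_mono_of_mono φ hR₁ hR₂ h₁ h₂ h₄

end Four


section Tri
variable {C : Type*} [Category C] [Abelian C] [HasDerivedCategory C]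

/-- `α` is an isomorphism on `H^i` for `i > m` and an epimorphism on `H^m`. -/
def IsQisAbove (m : ℤ) {K L : DerivedCategory C} (α : K ⟶ L) : Prop :=
  (∀ i : ℤ, m < i → IsIso ((DerivedCategory.homologyFunctor C i).map α)) ∧
    Epi ((DerivedCategory.homologyFunctor C m).map α)

theorem IsQisAbove.of_isIso (m : ℤ) {K L : DerivedCategory C} (α : K ⟶ L) [IsIso α] :
    IsQisAbove m α := ⟨fun _ _ => inferInstance, inferInstance⟩

theorem IsQisAbove.comp {m : ℤ} {K L M : DerivedCategory C} {α : K ⟶ L} {β : L ⟶ M}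
    (hα : IsQisAbove m α) (hβ : IsQisAbove m β) : IsQisAbove m (α ≫ β) := by
  refine ⟨fun i hi => ?_, ?_⟩
  · haveI := hα.1 i hi
    haveI := hβ.1 i hi
    rw [Functor.map_comp]
    infer_instance
  · haveI := hα.2
    haveI := hβ.2
    rw [Functor.map_comp]
    infer_instance

theorem IsQisAbove.mono {m m' : ℤ} (hm : m ≤ m') {K L : DerivedCategory C} {α : K ⟶ L}
    (hα : IsQisAbove m α) : IsQisAbove m' α := by
  refine ⟨fun i hi => hα.1 i (by omega), ?_⟩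
  rcases eq_or_lt_of_le hm with rfl | hlt
  · exact hα.2
  · haveI := hα.1 m' hlt
    infer_instance

theorem IsQisAbove.epi {m : ℤ} {K L : DerivedCategory C} {α : K ⟶ L} (hα : IsQisAbove m α)
    (i : ℤ) (hi : m ≤ i) : Epi ((DerivedCategory.homologyFunctor C i).map α) := by
  rcases eq_or_lt_of_le hi with rfl | hlt
  · exact hα.2
  · haveI := hα.1 i hlt
    infer_instance

theorem IsQisAbove.mono' {m : ℤ} {K L : DerivedCategory C} {α : K ⟶ L} (hα : IsQisAbove m α)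
    (i : ℤ) (hi : m < i) : Mono ((DerivedCategory.homologyFunctor C i).map α) := by
  haveI := hα.1 i hi
  infer_instance

open DerivedCategory Pretriangulated in
theorem isQisAbove_hom₃ (m : ℤ) {T₁ T₂ : Triangle (DerivedCategory C)}
    (hT₁ : T₁ ∈ distTriang _) (hT₂ : T₂ ∈ distTriang _) (φ : T₁ ⟶ T₂)
    (h₁ : IsQisAbove (m + 1) φ.hom₁) (h₂ : IsQisAbove m φ.hom₂) : IsQisAbove m φ.hom₃ := by
  have comm₁ : ∀ i : ℤ, (homologyFunctor C i).map T₁.mor₁ ≫ (homologyFunctor C i).map φ.hom₂ =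
      (homologyFunctor C i).map φ.hom₁ ≫ (homologyFunctor C i).map T₂.mor₁ := by
    intro i
    rw [← Functor.map_comp, ← Functor.map_comp, φ.comm₁]
  have comm₂ : ∀ i : ℤ, (homologyFunctor C i).map T₁.mor₂ ≫ (homologyFunctor C i).map φ.hom₃ =
      (homologyFunctor C i).map φ.hom₂ ≫ (homologyFunctor C i).map T₂.mor₂ := by
    intro i
    rw [← Functor.map_comp, ← Functor.map_comp, φ.comm₂]
  have comm₃ : ∀ i : ℤ, HomologySequence.δ T₁ i (i + 1) rfl ≫ (homologyFunctor C (i + 1)).map φ.hom₁ =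
      (homologyFunctor C i).map φ.hom₃ ≫ HomologySequence.δ T₂ i (i + 1) rfl := by
    intro i
    exact ((homologyFunctor C 0).homologySequenceδ_naturality T₁ T₂ φ i (i + 1) rfl).symm
  have hepi : ∀ i : ℤ, m ≤ i → Epi ((homologyFunctor C i).map φ.hom₃) := by
    intro i hi
    exact four_epi _ _ _ _ _ _ _ _ _ _ (comm₂ i) (comm₃ i) (comm₁ (i + 1))
      _ _ _ _ (HomologySequence.exact₃ T₁ hT₁ i (i + 1) rfl)
      (HomologySequence.exact₁ T₁ hT₁ i (i + 1) rfl)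
      (HomologySequence.exact₃ T₂ hT₂ i (i + 1) rfl)
      (HomologySequence.exact₁ T₂ hT₂ i (i + 1) rfl)
      (h₂.epi i hi) (h₁.epi (i + 1) (by omega)) (h₂.mono' (i + 1) (by omega))
  refine ⟨fun i hi => ?_, hepi m le_rfl⟩
  haveI := hepi i hi.le
  haveI : Mono ((homologyFunctor C i).map φ.hom₃) :=
    four_mono _ _ _ _ _ _ _ _ _ _ (comm₁ i) (comm₂ i) (comm₃ i)
      _ _ _ _ (HomologySequence.exact₂ T₁ hT₁ i)
      (HomologySequence.exact₃ T₁ hT₁ i (i + 1) rfl)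
      (HomologySequence.exact₂ T₂ hT₂ i)
      (HomologySequence.exact₃ T₂ hT₂ i (i + 1) rfl)
      (h₁.epi i (by omega)) (h₂.mono' i hi) (h₁.mono' (i + 1) (by omega))
  exact isIso_of_mono_of_epi _

end Tri

end Groth.Agent.Lead.PcLib
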