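import Mathlib
import Groth.Prelude.Def_DCoh2
import Groth.Agent.Lead.PerfLib5

/-!
# Cohomology sheaves of pseudo-coherent objects (S7240)
-/

set_option autoImplicit false
universe u
open CategoryTheory CategoryTheory.Limits AlgebraicGeometry

attribute [local instance] HasDerivedCategory.standard

namespace Groth.Agent.Lead.PerfLib
open Scheme.Modules Groth.Agent.Lead.LocLift Groth.Agent.Helper4.FinLocFree

theorem isQuasicoherent_homology {X : Scheme.{u}} (E : CochainComplex X.Modules ℤ)
    (hE : ∀ i, (E.X i).IsQuasicoherent) (i : ℤ) : (E.homology i).IsQuasicoherent := by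
  haveI := hE
  haveI h1 : (kernel (E.sc i).g).IsQuasicoherent :=
    Groth.Agent.Helper4.QcohLimits.isQuasicoherent_kernel (hF := hE _) (hG := hE _) _
  haveI h2 : (cokernel (kernel.lift (E.sc i).g (E.sc i).f (E.sc i).zero)).IsQuasicoherent :=
    Groth.Agent.Helper4.QcohLimits.isQuasicoherent_cokernel (hF := hE _) (hG := h1) _
  exact Groth.Agent.Helper4.QcohLimits.isQuasicoherent_of_iso
    (E.sc i).homologyIsoCokernelLift.symm

theorem isQuasicoherent_homology_of_isStrictlyPerfect {X : Scheme.{u}}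
    {E : CochainComplex X.Modules ℤ} (hE : DCoh.IsStrictlyPerfect E) (i : ℤ) :
    (E.homology i).IsQuasicoherent :=
  isQuasicoherent_homology E
    (fun k => Groth.Agent.Helper4.FinLocFree4.isQuasicoherent_of_isFinLocFree _ (hE.2 k)) i

/-- the map induced on homology of complexes by a morphism in the derived category. -/
noncomputable def homologyMapOfQ {Y : Scheme.{u}} {F F' : CochainComplex Y.Modules ℤ}
    (α : DerivedCategory.Q.obj F ⟶ DerivedCategory.Q.obj F') (i : ℤ) :
    F.homology i ⟶ F'.homology i :=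
  ((DerivedCategory.homologyFunctorFactors Y.Modules i).app F).inv ≫
    (DerivedCategory.homologyFunctor Y.Modules i).map α ≫
    ((DerivedCategory.homologyFunctorFactors Y.Modules i).app F').hom

instance {Y : Scheme.{u}} {F F' : CochainComplex Y.Modules ℤ}
    (α : DerivedCategory.Q.obj F ⟶ DerivedCategory.Q.obj F') (i : ℤ)
    [IsIso ((DerivedCategory.homologyFunctor Y.Modules i).map α)] : IsIso (homologyMapOfQ α i) := by
  unfold homologyMapOfQ
  infer_instance

instance {Y : Scheme.{u}} {F F' : CochainComplex Y.Modules ℤ}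
    (α : DerivedCategory.Q.obj F ⟶ DerivedCategory.Q.obj F') (i : ℤ)
    [Epi ((DerivedCategory.homologyFunctor Y.Modules i).map α)] : Epi (homologyMapOfQ α i) := by
  unfold homologyMapOfQ
  infer_instance

theorem isQCoh_cohomology_of_pseudoCoherentD {X : Scheme.{u}} (m : ℤ) (E : DCoh.D X)
    (hE : DCoh.IsPseudoCoherentD m E) :
    (∀ i : ℤ, m < i → Coh.IsQCoh (DCoh.HD E i)) ∧
      ∀ x : X, ∃ (V : X.Opens) (Q : (V : Scheme.{u}).Modules)
        (π : Q ⟶ (Scheme.Modules.restrictFunctor V.ι).obj (DCoh.HD E m)),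
          x ∈ V ∧ Coh.IsQCoh Q ∧ Epi π := by
  let F₀ : CochainComplex X.Modules ℤ := DerivedCategory.Q.objPreimage E
  let e₀ : DerivedCategory.Q.obj F₀ ≅ E := DerivedCategory.Q.objObjPreimageIso E
  have key : ∀ x : X, ∃ (V : X.Opens), x ∈ V ∧
      ∃ (P : CochainComplex (V : Scheme.{u}).Modules ℤ)
      (α : DerivedCategory.Q.obj P ⟶ DerivedCategory.Q.obj ((DCoh.restrictCx V).obj F₀)),
      DCoh.IsStrictlyPerfect P ∧
      (∀ i : ℤ, m < i → IsIso ((DerivedCategory.homologyFunctor _ i).map α)) ∧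
      Epi ((DerivedCategory.homologyFunctor _ m).map α) := by
    intro x
    obtain ⟨V, hxV, hV⟩ := hE x
    exact ⟨V, hxV, hV F₀ ⟨e₀⟩⟩
  constructor
  · intro i hi
    haveI : (F₀.homology i).IsQuasicoherent := by
      apply isQuasicoherent_of_locally
      intro x
      obtain ⟨V, hxV, P, α, hP, hiso, -⟩ := key x
      refine ⟨V, V.ι, inferInstance, ⟨⟨x, hxV⟩, rfl⟩, ?_⟩
      haveI := hiso i hi
      haveI := isQuasicoherent_homology_of_isStrictlyPerfect hP i
      exact Groth.Agent.Helper4.QcohLimits.isQuasicoherent_of_iso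
        (asIso (homologyMapOfQ α i) ≪≫ homologyRestrictIso V.ι F₀ i)
    exact Groth.Agent.Helper4.QcohLimits.isQuasicoherent_of_iso (hdIso e₀ i).symm
  · intro x
    obtain ⟨V, hxV, P, α, hP, -, hepi⟩ := key x
    haveI := hepi
    refine ⟨V, P.homology m, homologyMapOfQ α m ≫ (homologyRestrictIso V.ι F₀ m).hom ≫
      (restrictFunctor V.ι).map (hdIso e₀ m).inv, hxV,
      isQuasicoherent_homology_of_isStrictlyPerfect hP m, ?_⟩
    infer_instance

end Groth.Agent.Lead.PerfLib
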