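import Mathlib
import Groth.Prelude.Def_DCoh2
import Groth.Agent.Lead.PerfLib6

/-!
# Cycles of exact strictly perfect complexes are finite locally free (towards S0890)
-/

set_option autoImplicit false
universe u
open CategoryTheory CategoryTheory.Limits AlgebraicGeometry

namespace Groth.Agent.Lead.PerfLib
open Scheme.Modules Groth.Agent.Lead.LocLift Groth.Agent.Helper4.FinLocFree

theorem isFinLocFree_of_locally {X : Scheme.{u}} (M : X.Modules)
    (h : ∀ x : X, ∃ (Z : Scheme.{u}) (j : Z ⟶ X) (_ : IsOpenImmersion j), x ∈ Set.range j ∧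
      FlatMod.IsFinLocFree (M.restrict j)) : FlatMod.IsFinLocFree M := by
  apply isFinLocFree_of_isFreeAlong
  intro x
  obtain ⟨Z, j, hj, ⟨z, rfl⟩, hM⟩ := h x
  haveI := hj
  obtain ⟨W, n, hzW, hfree⟩ := hM z
  exact ⟨W, W.ι ≫ j, inferInstance, n, ⟨⟨z, hzW⟩, rfl⟩, (IsFreeAlong.restrict_iff j W.ι).mp hfree⟩

theorem isFinLocFree_of_isZero {X : Scheme.{u}} {M : X.Modules} (hM : IsZero M) :
    FlatMod.IsFinLocFree M := fun x => ⟨⊤, 0, trivial, isFreeAlong_of_isZero hM _⟩

theorem isFinLocFree_of_retract {X : Scheme.{u}} {M A : X.Modules} (hA : FlatMod.IsFinLocFree A)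
    (i : M ⟶ A) (p : A ⟶ M) (hip : i ≫ p = 𝟙 M) : FlatMod.IsFinLocFree M := by
  apply isFinLocFree_of_locally
  intro x
  obtain ⟨U, n, hxU, ⟨c⟩⟩ := hA x
  refine ⟨U, U.ι, inferInstance, ⟨⟨x, hxU⟩, rfl⟩, ?_⟩
  refine Groth.Agent.Helper4.FinLocFree4.isFinLocFree_of_retract_free n
    ((restrictFunctor U.ι).map i ≫ c.hom) (c.inv ≫ (restrictFunctor U.ι).map p) ?_
  rw [Category.assoc, Iso.hom_inv_id_assoc, ← Functor.map_comp, hip, CategoryTheory.Functor.map_id]

theorem isFinLocFree_kernel_of_epi {X : Scheme.{u}} {A B : X.Modules} (π : A ⟶ B) [Epi π]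
    (hA : FlatMod.IsFinLocFree A) (hB : FlatMod.IsFinLocFree B) :
    FlatMod.IsFinLocFree (kernel π) := by
  apply isFinLocFree_of_locally
  intro x
  obtain ⟨V, ψ, hxV, hψ⟩ := exists_nhd_lift π (𝟙 B) hB x
  refine ⟨V, V.ι, inferInstance, ⟨⟨x, hxV⟩, rfl⟩, ?_⟩
  rw [CategoryTheory.Functor.map_id] at hψ
  obtain ⟨π', hπ'⟩ : ∃ π' : A.restrict V.ι ⟶ B.restrict V.ι, π' = (restrictFunctor V.ι).map π :=
    ⟨_, rfl⟩
  rw [← hπ'] at hψ
  have e : (kernel π).restrict V.ι ≅ kernel π' := by
    rw [hπ']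
    exact PreservesKernel.iso (restrictFunctor V.ι) π
  refine Groth.Agent.Helper4.FinLocFree2.isFinLocFree_of_iso e.symm ?_
  have hr : (𝟙 _ - π' ≫ ψ) ≫ π' = 0 := by
    rw [Preadditive.sub_comp, Category.id_comp, Category.assoc]
    erw [hψ]
    rw [Category.comp_id, sub_self]
  refine isFinLocFree_of_retract (isFinLocFree_restrict hA V.ι) (kernel.ι π')
    (kernel.lift π' _ hr) ?_
  rw [← cancel_mono (kernel.ι π'), Category.assoc, kernel.lift_ι, Preadditive.comp_sub,
    Category.comp_id, kernel.condition_assoc, zero_comp, sub_zero, Category.id_comp]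

/-- the cycles of a complex of finite locally free modules which is exact in degrees `> m`
and bounded above are finite locally free in degrees `≥ m`. -/
theorem isFinLocFree_kernel_d_step {X : Scheme.{u}} (P : CochainComplex X.Modules ℤ)
    (hP : ∀ i, FlatMod.IsFinLocFree (P.X i)) (i j k : ℤ) (hij : i + 1 = j) (hjk : j + 1 = k)
    (hj : IsZero (P.homology j)) (hZ : FlatMod.IsFinLocFree (kernel (P.d j k))) :
    FlatMod.IsFinLocFree (kernel (P.d i j)) := by
  have hex : (P.sc' i j k).Exact := by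
    rw [← P.exactAt_iff' i j k (by simp [← hij]) (by simp [← hjk]),
      HomologicalComplex.exactAt_iff_isZero_homology]
    exact hj
  have hepi : Epi (kernel.lift (P.d j k) (P.d i j) (P.d_comp_d i j k)) :=
    (ShortComplex.exact_iff_epi_kernel_lift (P.sc' i j k)).mp hex
  have h1 := isFinLocFree_kernel_of_epi (kernel.lift (P.d j k) (P.d i j) (P.d_comp_d i j k))
    (hP i) hZ
  have e : kernel (P.d i j) ≅ kernel (kernel.lift (P.d j k) (P.d i j) (P.d_comp_d i j k)) :=
    kernelIsoOfEq (kernel.lift_ι _ _ _).symm ≪≫ kernelCompMono _ _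
  exact Groth.Agent.Helper4.FinLocFree2.isFinLocFree_of_iso e.symm h1

theorem isFinLocFree_kernel_d {X : Scheme.{u}} (P : CochainComplex X.Modules ℤ)
    (hP : DCoh.IsStrictlyPerfect P) (m : ℤ) (hm : ∀ i : ℤ, m < i → IsZero (P.homology i))
    (i : ℤ) (hi : m ≤ i) : FlatMod.IsFinLocFree (kernel (P.d i (i + 1))) := by
  obtain ⟨⟨a, b, hab⟩, hf⟩ := hP
  have key : ∀ n : ℕ, ∀ i : ℤ, m ≤ i → b < i + n →
      FlatMod.IsFinLocFree (kernel (P.d i (i + 1))) := by
    intro n
    induction n with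
    | zero =>
      intro i _ hb
      apply isFinLocFree_of_isZero
      exact IsZero.of_mono (kernel.ι _) (hab i (Or.inr (by simpa using hb)))
    | succ n ih =>
      intro i hi hb
      exact isFinLocFree_kernel_d_step P hf i (i + 1) (i + 1 + 1) rfl rfl (hm _ (by omega))
        (ih (i + 1) (by omega) (by push_cast at hb; omega))
  exact key (b - i + 1).toNat i hi (by omega)

/-- homology as a cokernel, with explicit indices. -/
noncomputable def homologyIsoCokernelLift' {C : Type*} [Category C] [Abelian C]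
    (P : CochainComplex C ℤ) (i j k : ℤ) (hij : i + 1 = j) (hjk : j + 1 = k) :
    P.homology j ≅ cokernel (kernel.lift (P.d j k) (P.d i j) (P.d_comp_d i j k)) :=
  ShortComplex.homologyMapIso (P.isoSc' i j k (by simp [← hij]) (by simp [← hjk])) ≪≫
    (P.sc' i j k).homologyIsoCokernelLift

end Groth.Agent.Lead.PerfLib
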