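import Mathlib
import Groth.Prelude.Def_DCoh2
import Groth.Agent.Lead.PerfLib7
import Groth.Agent.Helper4.FTGlue
import Groth.Agent.Helper4.FTRestrict

/-!
# Finite type / finite presentation from local free generators and relations (towards S0890)
-/

set_option autoImplicit false
universe u
open CategoryTheory CategoryTheory.Limits AlgebraicGeometry

namespace Groth.Agent.Lead.PerfLib
open Scheme.Modules Groth.Agent.Lead.LocLift Groth.Agent.Helper4.FinLocFree
open Groth.Agent.Helper8.TildeBC

/-- Mathlib's free module on `ULift (Fin n)` is the prelude's `freeMod`. -/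
noncomputable def freeULiftIso (Y : Scheme.{u}) (n : ℕ) :
    @Iso Y.Modules _ (SheafOfModules.free (R := Y.ringCatSheaf) (ULift.{u} (Fin n)))
      (FlatMod.freeMod Y n) :=
  Sigma.whiskerEquiv (f := fun _ : ULift.{u} (Fin n) => SheafOfModules.unit Y.ringCatSheaf)
    (g := fun _ : Fin n => Coh.structureModule Y) Equiv.ulift (fun _ => Iso.refl _)

/-- generating sections from an epimorphism out of a finite free module. -/
theorem exists_generatingSections_of_gen {Y : Scheme.{u}} {N : Y.Modules} {n : ℕ} (h : Gen N n) :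
    ∃ σ : SheafOfModules.GeneratingSections (R := Y.ringCatSheaf) N, σ.IsFiniteType := by
  obtain ⟨φ, hφ⟩ := h
  haveI := hφ
  have hepi : Epi ((freeULiftIso Y n).hom ≫ φ) := epi_comp _ _
  refine ⟨{ I := ULift.{u} (Fin n)
            s := N.freeHomEquiv ((freeULiftIso Y n).hom ≫ φ)
            epi := ?_ }, ⟨?_⟩⟩
  · rw [Equiv.symm_apply_apply]
    exact hepi
  · change Finite (ULift.{u} (Fin n))
    infer_instance

theorem gen_restrict {Y Z : Scheme.{u}} {N : Y.Modules} {n : ℕ} (h : Gen N n) (k : Z ⟶ Y)
    [IsOpenImmersion k] : Gen (N.restrict k) n := by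
  obtain ⟨φ, hφ⟩ := h
  haveI : Epi ((restrictFunctor k).map φ) := inferInstance
  exact ⟨(restrictFreeIso k n).inv ≫ (restrictFunctor k).map φ, epi_comp _ _⟩

set_option backward.isDefEq.respectTransparency false in
theorem isFiniteType_of_locally_gen {X : Scheme.{u}} (M : X.Modules)
    (h : ∀ x : X, ∃ (Z : Scheme.{u}) (j : Z ⟶ X) (_ : IsOpenImmersion j) (n : ℕ),
      x ∈ Set.range j ∧ Gen (M.restrict j) n) :
    SheafOfModules.IsFiniteType (R := X.ringCatSheaf) M := by
  have key : ∀ x : X, ∃ (W : X.Opens), x ∈ W ∧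
      ∃ Q : SheafOfModules.GeneratingSections (R := X.ringCatSheaf.over W)
        (SheafOfModules.over (R := X.ringCatSheaf) M W), Q.IsFiniteType := by
    intro x
    obtain ⟨Z, j, hj, n, hx, hgen⟩ := h x
    haveI := hj
    have hk : j.isoOpensRange.inv ≫ j = j.opensRange.ι := Scheme.Hom.isoOpensRange_inv_comp j
    have iso : (M.restrict j).restrict j.isoOpensRange.inv ≅ M.restrict j.opensRange.ι :=
      (restrictFunctorComp j.isoOpensRange.inv j).symm.app M ≪≫ (restrictFunctorCongr hk).app M
    obtain ⟨σ, hσ⟩ := exists_generatingSections_of_gen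
      (Gen.of_iso (gen_restrict hgen j.isoOpensRange.inv) iso)
    exact ⟨j.opensRange, hx,
      Groth.Agent.Helper4.FTGlue.exists_generatingSections_over_of_restrict M _ σ⟩
  choose U hxU Q hQ using key
  let q : SheafOfModules.LocalGeneratorsData.{u} (R := X.ringCatSheaf) M :=
    { I := X
      X := U
      coversTop := by
        rw [Opens.coversTop_iff]
        change iSup U = ⊤
        rw [eq_top_iff]
        intro x _
        exact TopologicalSpace.Opens.mem_iSup.mpr ⟨x, hxU x⟩
      generators := Q }
  have : q.IsFiniteType := by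
    constructor
    intro i
    exact hQ i
  exact { exists_localGeneratorsData := ⟨q, this⟩ }


/-- `N` is the cokernel of a map `O^a ⟶ O^b`. -/
def Pres {Y : Scheme.{u}} (N : Y.Modules) (a b : ℕ) : Prop :=
  ∃ (f : FlatMod.freeMod Y a ⟶ FlatMod.freeMod Y b) (g : FlatMod.freeMod Y b ⟶ N)
    (w : f ≫ g = 0), (ShortComplex.mk f g w).Exact ∧ Epi g

theorem Pres.of_iso {Y : Scheme.{u}} {N N' : Y.Modules} {a b : ℕ} (h : Pres N a b) (e : N ≅ N') :
    Pres N' a b := by
  obtain ⟨f, g, w, hex, hepi⟩ := h
  haveI := hepi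
  have w' : f ≫ g ≫ e.hom = 0 := by rw [reassoc_of% w, zero_comp]
  refine ⟨f, g ≫ e.hom, w', ?_, epi_comp _ _⟩
  have iso : ShortComplex.mk f g w ≅ ShortComplex.mk f (g ≫ e.hom) w' :=
    ShortComplex.isoMk (Iso.refl _) (Iso.refl _) e (by simp) (by simp)
  exact (ShortComplex.exact_iff_of_iso iso).mp hex

theorem Pres.restrict {Y Z : Scheme.{u}} {N : Y.Modules} {a b : ℕ} (h : Pres N a b) (k : Z ⟶ Y)
    [IsOpenImmersion k] : Pres (N.restrict k) a b := by
  obtain ⟨f, g, w, hex, hepi⟩ := h
  haveI := hepi
  haveI : Epi ((restrictFunctor k).map g) := inferInstance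
  have hex' := hex.map (restrictFunctor k)
  have w' : ((restrictFreeIso k a).inv ≫ (restrictFunctor k).map f ≫ (restrictFreeIso k b).hom) ≫
      (restrictFreeIso k b).inv ≫ (restrictFunctor k).map g = 0 := by
    simp only [Category.assoc, Iso.hom_inv_id_assoc]
    rw [← Functor.map_comp, w, Functor.map_zero, comp_zero]
  refine ⟨(restrictFreeIso k a).inv ≫ (restrictFunctor k).map f ≫ (restrictFreeIso k b).hom,
    (restrictFreeIso k b).inv ≫ (restrictFunctor k).map g, w', ?_, epi_comp _ _⟩
  have iso : (ShortComplex.mk f g w).map (restrictFunctor k) ≅ ShortComplex.mk _ _ w' :=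
    ShortComplex.isoMk (restrictFreeIso k a) (restrictFreeIso k b) (Iso.refl _)
      (Iso.hom_inv_id_assoc _ _)
      ((Iso.hom_inv_id_assoc _ _).trans (Category.comp_id _).symm)
  exact (ShortComplex.exact_iff_of_iso iso).mp hex'

set_option backward.isDefEq.respectTransparency false in
theorem Pres.exists_presentation {Y : Scheme.{u}} {N : Y.Modules} {a b : ℕ} (h : Pres N a b) :
    ∃ P : SheafOfModules.Presentation (R := Y.ringCatSheaf) N, P.IsFinite := by
  obtain ⟨f, g, w, hex, hepi⟩ := h
  haveI := hepi
  let f' : SheafOfModules.free (R := Y.ringCatSheaf) (ULift.{u} (Fin a)) ⟶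
      SheafOfModules.free (R := Y.ringCatSheaf) (ULift.{u} (Fin b)) :=
    (freeULiftIso Y a).hom ≫ f ≫ (freeULiftIso Y b).inv
  let g' : SheafOfModules.free (R := Y.ringCatSheaf) (ULift.{u} (Fin b)) ⟶ N :=
    (freeULiftIso Y b).hom ≫ g
  have w' : f' ≫ g' = 0 := by
    simp only [f', g', Category.assoc, Iso.inv_hom_id_assoc]
    rw [w, comp_zero]
  have hex' : (ShortComplex.mk f' g' w').Exact := by
    have iso : ShortComplex.mk f' g' w' ≅ ShortComplex.mk f g w :=
      ShortComplex.isoMk (freeULiftIso Y a) (freeULiftIso Y b) (Iso.refl _)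
        (by simp [f']) (by simp [g'])
    exact (ShortComplex.exact_iff_of_iso iso).mpr hex
  haveI : Epi g' := epi_comp _ _
  have hcolim : IsColimit (CokernelCofork.ofπ g' w') := hex'.gIsCokernel
  refine ⟨SheafOfModules.presentationOfIsCokernelFree f' g' w' hcolim, ?_⟩
  exact { isFiniteType_generators := ⟨by change Finite (ULift.{u} (Fin b)); infer_instance⟩
          isFiniteType_relations := ⟨by change Finite (ULift.{u} (Fin a)); infer_instance⟩ }

set_option backward.isDefEq.respectTransparency false in
theorem isFinitePresentation_of_locally_pres {X : Scheme.{u}} (M : X.Modules)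
    (h : ∀ x : X, ∃ (Z : Scheme.{u}) (j : Z ⟶ X) (_ : IsOpenImmersion j) (a b : ℕ),
      x ∈ Set.range j ∧ Pres (M.restrict j) a b) :
    SheafOfModules.IsFinitePresentation (R := X.ringCatSheaf) M := by
  have key : ∀ x : X, ∃ (W : X.Opens), x ∈ W ∧
      ∃ Q : SheafOfModules.Presentation (R := X.ringCatSheaf.over W)
        (SheafOfModules.over (R := X.ringCatSheaf) M W), Q.IsFinite := by
    intro x
    obtain ⟨Z, j, hj, a, b, hx, hpres⟩ := h x
    haveI := hj
    have hk : j.isoOpensRange.inv ≫ j = j.opensRange.ι := Scheme.Hom.isoOpensRange_inv_comp j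
    have iso : (M.restrict j).restrict j.isoOpensRange.inv ≅ M.restrict j.opensRange.ι :=
      (restrictFunctorComp j.isoOpensRange.inv j).symm.app M ≪≫ (restrictFunctorCongr hk).app M
    obtain ⟨P, hP⟩ := ((hpres.restrict j.isoOpensRange.inv).of_iso iso).exists_presentation
    exact ⟨j.opensRange, hx,
      Groth.Agent.Helper4.FTRestrict.exists_presentation_over_of_restrict M _ P⟩
  choose U hxU Q hQ using key
  let q : SheafOfModules.QuasicoherentData.{u} (R := X.ringCatSheaf) M :=
    { I := X
      X := U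
      coversTop := by
        rw [Opens.coversTop_iff]
        change iSup U = ⊤
        rw [eq_top_iff]
        intro x _
        exact TopologicalSpace.Opens.mem_iSup.mpr ⟨x, hxU x⟩
      presentation := Q }
  have : q.IsFinitePresentation := by
    constructor
    intro i
    exact hQ i
  exact { exists_quasicoherentData := ⟨q, this⟩ }

end Groth.Agent.Lead.PerfLib
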