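import Mathlib
import Groth.Prelude.Def_DCoh2
import Groth.Prelude.Def_CohB1
import Groth.Agent.Lead.PerfLib8

/-!
# Top cohomology of pseudo-coherent objects (S0890)
-/

set_option autoImplicit false
universe u
open CategoryTheory CategoryTheory.Limits AlgebraicGeometry

attribute [local instance] HasDerivedCategory.standard

namespace Groth.Agent.Lead.PerfLib
open Scheme.Modules Groth.Agent.Lead.LocLift Groth.Agent.Helper4.FinLocFree
open Groth.Agent.Helper8.TildeBC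

theorem gen_of_epi_finLocFree {Y : Scheme.{u}} {A N : Y.Modules} (π : A ⟶ N) [Epi π]
    (hA : FlatMod.IsFinLocFree A) (y : Y) :
    ∃ W : Y.Opens, y ∈ W ∧ ∃ n, Gen (N.restrict W.ι) n := by
  obtain ⟨W, n, hyW, ⟨c⟩⟩ := hA y
  haveI : Epi ((restrictFunctor W.ι).map π) := inferInstance
  exact ⟨W, hyW, n, c.inv ≫ (restrictFunctor W.ι).map π, epi_comp _ _⟩

theorem isFiniteType_of_locally_quot {X : Scheme.{u}} (M : X.Modules)
    (h : ∀ x : X, ∃ (Z : Scheme.{u}) (j : Z ⟶ X) (_ : IsOpenImmersion j) (A : Z.Modules)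
      (π : A ⟶ M.restrict j), x ∈ Set.range j ∧ FlatMod.IsFinLocFree A ∧ Epi π) :
    SheafOfModules.IsFiniteType (R := X.ringCatSheaf) M := by
  apply isFiniteType_of_locally_gen
  intro x
  obtain ⟨Z, j, hj, A, π, ⟨z, rfl⟩, hA, hπ⟩ := h x
  haveI := hj
  haveI := hπ
  obtain ⟨W, hzW, n, hgen⟩ := gen_of_epi_finLocFree π hA z
  exact ⟨W, W.ι ≫ j, inferInstance, n, ⟨⟨z, hzW⟩, rfl⟩,
    Gen.of_iso hgen ((restrictFunctorComp W.ι j).symm.app M)⟩

theorem pres_of_cokernel {Y : Scheme.{u}} {A B N : Y.Modules} (t : A ⟶ B) (q : B ⟶ N)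
    (w : t ≫ q = 0) (hex : (ShortComplex.mk t q w).Exact) [Epi q]
    (hA : FlatMod.IsFinLocFree A) (hB : FlatMod.IsFinLocFree B) (y : Y) :
    ∃ W : Y.Opens, y ∈ W ∧ ∃ a b, Pres (N.restrict W.ι) a b := by
  obtain ⟨U₁, a, hy₁, h₁⟩ := hA y
  obtain ⟨U₂, b, hy₂, h₂⟩ := hB y
  obtain ⟨cA⟩ : IsFreeAlong A (U₁ ⊓ U₂).ι a := IsFreeAlong.of_le inf_le_left h₁
  obtain ⟨cB⟩ : IsFreeAlong B (U₁ ⊓ U₂).ι b := IsFreeAlong.of_le inf_le_right h₂
  refine ⟨U₁ ⊓ U₂, ⟨hy₁, hy₂⟩, a, b, ?_⟩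
  haveI : Epi ((restrictFunctor (U₁ ⊓ U₂).ι).map q) := inferInstance
  have hex' := hex.map (restrictFunctor (U₁ ⊓ U₂).ι)
  have w' : (cA.inv ≫ (restrictFunctor (U₁ ⊓ U₂).ι).map t ≫ cB.hom) ≫
      cB.inv ≫ (restrictFunctor (U₁ ⊓ U₂).ι).map q = 0 := by
    simp only [Category.assoc, Iso.hom_inv_id_assoc]
    rw [← Functor.map_comp, w, Functor.map_zero, comp_zero]
  refine ⟨cA.inv ≫ (restrictFunctor (U₁ ⊓ U₂).ι).map t ≫ cB.hom,
    cB.inv ≫ (restrictFunctor (U₁ ⊓ U₂).ι).map q, w', ?_, epi_comp _ _⟩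
  have iso : (ShortComplex.mk t q w).map (restrictFunctor (U₁ ⊓ U₂).ι) ≅ ShortComplex.mk _ _ w' :=
    ShortComplex.isoMk cA cB (Iso.refl _)
      (Iso.hom_inv_id_assoc _ _)
      ((Iso.hom_inv_id_assoc _ _).trans (Category.comp_id _).symm)
  exact (ShortComplex.exact_iff_of_iso iso).mp hex'

theorem isFinitePresentation_of_locally_cokernel {X : Scheme.{u}} (M : X.Modules)
    (h : ∀ x : X, ∃ (Z : Scheme.{u}) (j : Z ⟶ X) (_ : IsOpenImmersion j) (A B : Z.Modules)
      (t : A ⟶ B) (e : cokernel t ≅ M.restrict j), x ∈ Set.range j ∧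
        FlatMod.IsFinLocFree A ∧ FlatMod.IsFinLocFree B) :
    SheafOfModules.IsFinitePresentation (R := X.ringCatSheaf) M := by
  apply isFinitePresentation_of_locally_pres
  intro x
  obtain ⟨Z, j, hj, A, B, t, e, ⟨z, rfl⟩, hA, hB⟩ := h x
  haveI := hj
  have w : t ≫ cokernel.π t ≫ e.hom = 0 := by rw [cokernel.condition_assoc, zero_comp]
  have hex : (ShortComplex.mk t (cokernel.π t ≫ e.hom) w).Exact := by
    have iso : ShortComplex.mk t (cokernel.π t) (cokernel.condition t) ≅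
        ShortComplex.mk t (cokernel.π t ≫ e.hom) w :=
      ShortComplex.isoMk (Iso.refl _) (Iso.refl _) e (by simp) (by simp)
    exact (ShortComplex.exact_iff_of_iso iso).mp
      (ShortComplex.exact_of_g_is_cokernel _ (cokernelIsCokernel t))
  obtain ⟨W, hzW, a, b, hpres⟩ := pres_of_cokernel t (cokernel.π t ≫ e.hom) w hex hA hB z
  exact ⟨W, W.ι ≫ j, inferInstance, a, b, ⟨⟨z, hzW⟩, rfl⟩,
    hpres.of_iso ((restrictFunctorComp W.ι j).symm.app M)⟩


/-- local data of a pseudo-coherent object, in terms of a fixed representing complex. -/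
theorem exists_local_data_of_pseudoCoherent {X : Scheme.{u}} (m : ℤ) (K : DCoh.D X)
    (hK : DCoh.IsPseudoCoherentD m K) (F₀ : CochainComplex X.Modules ℤ)
    (e₀ : DerivedCategory.Q.obj F₀ ≅ K) (x : X) :
    ∃ (V : X.Opens), x ∈ V ∧ ∃ (P : CochainComplex (V : Scheme.{u}).Modules ℤ)
      (α : DerivedCategory.Q.obj P ⟶ DerivedCategory.Q.obj ((Rc V.ι).obj F₀)),
      DCoh.IsStrictlyPerfect P ∧ (∀ i : ℤ, m < i → IsIso (homologyMapOfQ α i)) ∧
      Epi (homologyMapOfQ α m) := by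
  obtain ⟨V, hxV, hV⟩ := hK x
  obtain ⟨P, α, hP, hiso, hepi⟩ := hV F₀ ⟨e₀⟩
  refine ⟨V, hxV, P, α, hP, fun i hi => ?_, ?_⟩
  · haveI := hiso i hi
    infer_instance
  · haveI := hepi
    infer_instance

theorem finiteType_top_cohomology_of_pseudoCoherent {X : Scheme.{u}} (m : ℤ) (K : DCoh.D X)
    (hK : DCoh.IsPseudoCoherentD m K) :
    ((∀ i : ℤ, m < i → IsZero (DCoh.HD K i)) → CohB1.IsFT (DCoh.HD K m)) ∧
    ((∀ i : ℤ, m + 1 < i → IsZero (DCoh.HD K i)) → CohB1.IsFP (DCoh.HD K (m + 1))) := by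
  let F₀ : CochainComplex X.Modules ℤ := DerivedCategory.Q.objPreimage K
  let e₀ : DerivedCategory.Q.obj F₀ ≅ K := DerivedCategory.Q.objObjPreimageIso K
  have key := exists_local_data_of_pseudoCoherent m K hK F₀ e₀
  -- vanishing of the homology of the local strictly perfect complexes
  have hvan : ∀ (n : ℤ), m ≤ n → (∀ i : ℤ, n < i → IsZero (DCoh.HD K i)) →
      ∀ (V : X.Opens) (P : CochainComplex (V : Scheme.{u}).Modules ℤ)
      (α : DerivedCategory.Q.obj P ⟶ DerivedCategory.Q.obj ((Rc V.ι).obj F₀)),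
      (∀ i : ℤ, m < i → IsIso (homologyMapOfQ α i)) → ∀ i : ℤ, n < i → IsZero (P.homology i) := by
    intro n hn h0 V P α hiso i hi
    haveI := hiso i (by omega)
    have h1 : IsZero (F₀.homology i) := IsZero.of_iso (h0 i hi) (hdIso e₀ i).symm
    have h2 : IsZero ((F₀.homology i).restrict V.ι) := Functor.map_isZero (restrictFunctor V.ι) h1
    exact IsZero.of_iso h2 (asIso (homologyMapOfQ α i) ≪≫ homologyRestrictIso V.ι F₀ i)
  constructor
  · intro h0
    haveI : SheafOfModules.IsFiniteType (R := X.ringCatSheaf) (F₀.homology m) := by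
      apply isFiniteType_of_locally_quot
      intro x
      obtain ⟨V, hxV, P, α, hP, hiso, hepi⟩ := key x
      haveI := hepi
      have hZ := isFinLocFree_kernel_d P hP m (hvan m le_rfl h0 V P α hiso) m le_rfl
      refine ⟨V, V.ι, inferInstance, kernel (P.d m (m + 1)),
        cokernel.π _ ≫ (homologyIsoCokernelLift' P (m - 1) m (m + 1) (by omega) rfl).inv ≫
          homologyMapOfQ α m ≫ (homologyRestrictIso V.ι F₀ m).hom,
        ⟨⟨x, hxV⟩, rfl⟩, hZ, ?_⟩
      infer_instance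
    exact Groth.Agent.Helper4.FTRestrict.SoM.isFiniteType_of_iso (R := X.ringCatSheaf)
      (M := F₀.homology m) (N := DCoh.HD K m) (hdIso e₀ m).symm
  · intro h0
    have hfp : SheafOfModules.IsFinitePresentation (R := X.ringCatSheaf) (F₀.homology (m + 1)) := by
      apply isFinitePresentation_of_locally_cokernel
      intro x
      obtain ⟨V, hxV, P, α, hP, hiso, hepi⟩ := key x
      haveI := hiso (m + 1) (by omega)
      have hZ := isFinLocFree_kernel_d P hP (m + 1)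
        (hvan (m + 1) (by omega) h0 V P α hiso) (m + 1) le_rfl
      refine ⟨V, V.ι, inferInstance, P.X m, kernel (P.d (m + 1) (m + 1 + 1)),
        kernel.lift (P.d (m + 1) (m + 1 + 1)) (P.d m (m + 1)) (P.d_comp_d _ _ _),
        (homologyIsoCokernelLift' P m (m + 1) (m + 1 + 1) rfl rfl).symm ≪≫
          asIso (homologyMapOfQ α (m + 1)) ≪≫ homologyRestrictIso V.ι F₀ (m + 1),
        ⟨⟨x, hxV⟩, rfl⟩, hP.2 m, hZ⟩
    exact (SheafOfModules.isFinitePresentation X.ringCatSheaf).prop_of_iso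
      (hdIso e₀ (m + 1)).symm hfp

end Groth.Agent.Lead.PerfLib
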