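import Mathlib
import Groth.Prelude.Def_DCoh2
import Groth.Prelude.Def_CohB1
import Groth.Agent.Lead.PerfLib9
import Groth.Agent.Helper4.FPTilde

/-!
# Pseudo-coherence of a module placed in degree zero (S6518)
-/

set_option autoImplicit false
universe u
open CategoryTheory CategoryTheory.Limits AlgebraicGeometry

attribute [local instance] HasDerivedCategory.standard

namespace Groth.Agent.Lead.PerfLib

section HomAlg

variable {C : Type*} [Category C] [Abelian C]

/-- a chain map which is an epimorphism in degree `j`, between complexes whose differentials out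
of degree `j` vanish, is an epimorphism on `H^j`. -/
theorem epi_homologyMap_of_epi {K L : CochainComplex C ℤ} (ψ : K ⟶ L) (j k : ℤ) (hjk : j + 1 = k)
    (hK : K.d j k = 0) (hL : L.d j k = 0) [Epi (ψ.f j)] :
    Epi (HomologicalComplex.homologyMap ψ j) := by
  haveI : IsIso (K.iCycles j) := K.isIso_iCycles j k (by simp [← hjk]) hK
  haveI : IsIso (L.iCycles j) := L.isIso_iCycles j k (by simp [← hjk]) hL
  have h1 : HomologicalComplex.cyclesMap ψ j = K.iCycles j ≫ ψ.f j ≫ inv (L.iCycles j) := by
    rw [← Category.assoc, IsIso.eq_comp_inv, HomologicalComplex.cyclesMap_i]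
  haveI : Epi (HomologicalComplex.cyclesMap ψ j) := by
    rw [h1]
    infer_instance
  have h2 := HomologicalComplex.homologyπ_naturality ψ j
  haveI : Epi (K.homologyπ j ≫ HomologicalComplex.homologyMap ψ j) := by
    rw [h2]
    infer_instance
  exact epi_of_epi (K.homologyπ j) _

/-- if moreover `K^{j-1} ⟶ K^j ⟶ L^j` is exact and `L^{j-1} = 0`, it is an isomorphism on `H^j`. -/
theorem isIso_homologyMap_of_exact {K L : CochainComplex C ℤ} (ψ : K ⟶ L) (i j k : ℤ)
    (hij : i + 1 = j) (hjk : j + 1 = k)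
    (hK : K.d j k = 0) (hL : L.d j k = 0) (hL' : L.d i j = 0) [Epi (ψ.f j)]
    (w : K.d i j ≫ ψ.f j = 0) (hex : (ShortComplex.mk (K.d i j) (ψ.f j) w).Exact) :
    IsIso (HomologicalComplex.homologyMap ψ j) := by
  rw [← quasiIsoAt_iff_isIso_homologyMap,
    quasiIsoAt_iff' ψ i j k (by simp [← hij]) (by simp [← hjk])]
  let φ := (HomologicalComplex.shortComplexFunctor' C (ComplexShape.up ℤ) i j k).map ψ
  let c₁ : CokernelCofork (K.sc' i j k).f := CokernelCofork.ofπ (ψ.f j) w
  have hc₁ : IsColimit c₁ := hex.gIsCokernel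
  let c₂ : CokernelCofork (L.sc' i j k).f :=
    CokernelCofork.ofπ (𝟙 (L.X j)) (by change L.d i j ≫ 𝟙 _ = 0; rw [hL', zero_comp])
  have hc₂ : IsColimit c₂ := CokernelCofork.IsColimit.ofId _ hL'
  let γ := ShortComplex.LeftHomologyMapData.ofIsColimitCokernelCofork φ hK c₁ hc₁ hL c₂ hc₂
    (𝟙 (L.X j)) rfl
  rw [γ.quasiIso_iff]
  change IsIso (𝟙 (L.X j))
  infer_instance

end HomAlg


theorem isIso_of_isZero' {C : Type*} [Category C] [HasZeroMorphisms C] {A B : C} (hA : IsZero A)
    (hB : IsZero B) (f : A ⟶ B) : IsIso f :=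
  ⟨⟨0, hA.eq_of_src _ _, hB.eq_of_src _ _⟩⟩

theorem epi_of_isZero_tgt {C : Type*} [Category C] {A B : C} (hB : IsZero B) (f : A ⟶ B) :
    Epi f := ⟨fun g h _ => hB.eq_of_src g h⟩

section Single
open Scheme.Modules Groth.Agent.Lead.LocLift Groth.Agent.Helper4.FinLocFree
open Groth.Agent.Helper8.TildeBC

variable {Y : Scheme.{u}}

/-- the two-term complex `A → B` in degrees `-1, 0`. -/
noncomputable abbrev twoTerm {A B : Y.Modules} (f : A ⟶ B) : CochainComplex Y.Modules ℤ :=
  HomologicalComplex.double f (show (ComplexShape.up ℤ).Rel (-1) 0 by simp)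

theorem isStrictlyPerfect_twoTerm {A B : Y.Modules} (f : A ⟶ B) (hA : FlatMod.IsFinLocFree A)
    (hB : FlatMod.IsFinLocFree B) : DCoh.IsStrictlyPerfect (twoTerm f) := by
  refine ⟨⟨-1, 0, fun i hi =>
    HomologicalComplex.isZero_double_X _ _ i (by omega) (by omega)⟩, fun i => ?_⟩
  by_cases h0 : i = -1
  · subst h0
    exact Groth.Agent.Helper4.FinLocFree2.isFinLocFree_of_iso
      (HomologicalComplex.doubleXIso₀ f _).symm hA
  by_cases h1 : i = 0
  · subst h1
    exact Groth.Agent.Helper4.FinLocFree2.isFinLocFree_of_iso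
      (HomologicalComplex.doubleXIso₁ f _ (by decide)).symm hB
  · exact isFinLocFree_of_isZero (HomologicalComplex.isZero_double_X _ _ i h0 h1)

/-- the augmentation `[A → B] ⟶ N[0]`. -/
noncomputable def twoTermAug {A B N : Y.Modules} (f : A ⟶ B) (g : B ⟶ N) (w : f ≫ g = 0) :
    twoTerm f ⟶ (HomologicalComplex.single Y.Modules (ComplexShape.up ℤ) 0).obj N :=
  HomologicalComplex.mkHomToSingle
    ((HomologicalComplex.doubleXIso₁ f (show (ComplexShape.up ℤ).Rel (-1) 0 by simp)
      (by decide)).hom ≫ g) (by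
    intro i hi
    have : i = -1 := by
      simp only [ComplexShape.up_Rel] at hi
      omega
    subst this
    rw [HomologicalComplex.double_d f _ (by decide)]
    simp [w])

theorem twoTermAug_f {A B N : Y.Modules} (f : A ⟶ B) (g : B ⟶ N) (w : f ≫ g = 0) :
    (twoTermAug f g w).f 0 =
      (HomologicalComplex.doubleXIso₁ f (show (ComplexShape.up ℤ).Rel (-1) 0 by simp)
      (by decide)).hom ≫ g ≫ (HomologicalComplex.singleObjXSelf (ComplexShape.up ℤ) 0 N).inv := by
  unfold twoTermAug
  rw [HomologicalComplex.mkHomToSingle_f, Category.assoc]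

instance {A B N : Y.Modules} (f : A ⟶ B) (g : B ⟶ N) (w : f ≫ g = 0) [Epi g] :
    Epi ((twoTermAug f g w).f 0) := by
  rw [twoTermAug_f]
  infer_instance

theorem twoTermAug_epi_homology {A B N : Y.Modules} (f : A ⟶ B) (g : B ⟶ N) (w : f ≫ g = 0)
    [Epi g] : Epi (HomologicalComplex.homologyMap (twoTermAug f g w) 0) :=
  epi_homologyMap_of_epi (twoTermAug f g w) 0 1 rfl
    ((HomologicalComplex.isZero_double_X _ _ 1 (by decide) (by decide)).eq_of_tgt _ _)
    ((HomologicalComplex.isZero_single_obj_X _ _ _ 1 (by decide)).eq_of_tgt _ _)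

theorem twoTermAug_isIso_homology {A B N : Y.Modules} (f : A ⟶ B) (g : B ⟶ N) (w : f ≫ g = 0)
    [Epi g] (hex : (ShortComplex.mk f g w).Exact) :
    IsIso (HomologicalComplex.homologyMap (twoTermAug f g w) 0) := by
  have w' : (twoTerm f).d (-1) 0 ≫ (twoTermAug f g w).f 0 = 0 := by
    rw [twoTermAug_f, HomologicalComplex.double_d f _ (by decide)]
    simp [reassoc_of% w]
  refine isIso_homologyMap_of_exact (twoTermAug f g w) (-1) 0 1 rfl rfl
    ((HomologicalComplex.isZero_double_X _ _ 1 (by decide) (by decide)).eq_of_tgt _ _)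
    ((HomologicalComplex.isZero_single_obj_X _ _ _ 1 (by decide)).eq_of_tgt _ _)
    ((HomologicalComplex.isZero_single_obj_X _ _ _ (-1) (by decide)).eq_of_src _ _) w' ?_
  have hrel : (ComplexShape.up ℤ).Rel (-1) 0 := by simp
  have c1 : (HomologicalComplex.doubleXIso₀ f hrel).hom ≫ f =
      (twoTerm f).d (-1) 0 ≫ (HomologicalComplex.doubleXIso₁ f hrel (by decide)).hom := by
    rw [HomologicalComplex.double_d f hrel (by decide)]
    simp
  have c2 : (HomologicalComplex.doubleXIso₁ f hrel (by decide)).hom ≫ g =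
      (twoTermAug f g w).f 0 ≫ (HomologicalComplex.singleObjXSelf (ComplexShape.up ℤ) 0 N).hom := by
    rw [twoTermAug_f]
    simp
  have iso : ShortComplex.mk _ _ w' ≅ ShortComplex.mk f g w :=
    ShortComplex.isoMk (HomologicalComplex.doubleXIso₀ f hrel)
      (HomologicalComplex.doubleXIso₁ f hrel (by decide))
      (HomologicalComplex.singleObjXSelf (ComplexShape.up ℤ) 0 N) c1 c2
  exact (ShortComplex.exact_iff_of_iso iso).mpr hex

end Single


section Main
open Scheme.Modules Groth.Agent.Lead.LocLift Groth.Agent.Helper4.FinLocFree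
open Groth.Agent.Helper8.TildeBC

variable {X : Scheme.{u}}

/-- the arrow `H^i(Q ψ)` is isomorphic to the arrow `H^i(ψ)`. -/
noncomputable def homologyArrowIso {C : Type*} [Category C] [Abelian C] [HasDerivedCategory C]
    {K L : CochainComplex C ℤ} (ψ : K ⟶ L) (i : ℤ) :
    Arrow.mk ((DerivedCategory.homologyFunctor C i).map (DerivedCategory.Q.map ψ)) ≅
      Arrow.mk (HomologicalComplex.homologyMap ψ i) :=
  Arrow.isoMk ((DerivedCategory.homologyFunctorFactors C i).app K)
    ((DerivedCategory.homologyFunctorFactors C i).app L)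
    (DerivedCategory.homologyFunctorFactors_hom_naturality ψ i).symm

theorem isIso_homologyFunctor_map_Q {C : Type*} [Category C] [Abelian C] [HasDerivedCategory C]
    {K L : CochainComplex C ℤ} (ψ : K ⟶ L) (i : ℤ)
    (h : IsIso (HomologicalComplex.homologyMap ψ i)) :
    IsIso ((DerivedCategory.homologyFunctor C i).map (DerivedCategory.Q.map ψ)) :=
  ((MorphismProperty.isomorphisms C).arrow_mk_iso_iff (homologyArrowIso ψ i)).mpr h

theorem epi_homologyFunctor_map_Q {C : Type*} [Category C] [Abelian C] [HasDerivedCategory C]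
    {K L : CochainComplex C ℤ} (ψ : K ⟶ L) (i : ℤ)
    (h : Epi (HomologicalComplex.homologyMap ψ i)) :
    Epi ((DerivedCategory.homologyFunctor C i).map (DerivedCategory.Q.map ψ)) :=
  ((MorphismProperty.epimorphisms C).arrow_mk_iso_iff (homologyArrowIso ψ i)).mpr h

/-- the complex with `F` in degree `0`. -/
noncomputable abbrev sg (F : X.Modules) : CochainComplex X.Modules ℤ :=
  (HomologicalComplex.single X.Modules (ComplexShape.up ℤ) 0).obj F

noncomputable def sgIso (F : X.Modules) : DerivedCategory.Q.obj (sg F) ≅ DCoh.inD X F :=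
  ((DerivedCategory.singleFunctorIsoCompQ X.Modules 0).app F).symm

theorem isZero_homology_sg (F : X.Modules) (i : ℤ) (hi : i ≠ 0) : IsZero ((sg F).homology i) :=
  isZero_homology_of_isZero _ i (HomologicalComplex.isZero_single_obj_X _ _ _ i hi)

theorem isPseudoCoherentD_single_of_local (F : X.Modules) (m : ℤ) (hm : m = 0 ∨ m = -1)
    (h : ∀ x : X, ∃ V : X.Opens, x ∈ V ∧ ∃ (a b : ℕ)
      (f : FlatMod.freeMod (V : Scheme.{u}) a ⟶ FlatMod.freeMod (V : Scheme.{u}) b)
      (g : FlatMod.freeMod (V : Scheme.{u}) b ⟶ F.restrict V.ι) (w : f ≫ g = 0),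
      Epi g ∧ (m = -1 → (ShortComplex.mk f g w).Exact)) :
    DCoh.IsPseudoCoherentD m (DCoh.inD X F) := by
  intro x
  obtain ⟨V, hxV, a, b, f, g, w, hg, hex⟩ := h x
  haveI := hg
  refine ⟨V, hxV, fun F' ⟨e'⟩ => ?_⟩
  let θ : DerivedCategory.Q.obj ((DCoh.restrictCx V).obj F') ≅
      DerivedCategory.Q.obj (sg (F.restrict V.ι)) :=
    qRestrictIso V.ι (e' ≪≫ (sgIso F).symm) ≪≫
      DerivedCategory.Q.mapIso ((HomologicalComplex.singleMapHomologicalComplex
        (restrictFunctor V.ι) (ComplexShape.up ℤ) 0).app F)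
  have hpos : ∀ i : ℤ, 0 < i → IsIso (HomologicalComplex.homologyMap (twoTermAug f g w) i) := by
    intro i hi
    exact isIso_of_isZero'
      (isZero_homology_of_isZero _ i
        (HomologicalComplex.isZero_double_X _ _ i (by omega) (by omega)))
      (isZero_homology_sg _ i (by omega)) _
  refine ⟨twoTerm f, DerivedCategory.Q.map (twoTermAug f g w) ≫ θ.inv,
    isStrictlyPerfect_twoTerm f (Groth.Agent.Helper4.FinLocFree2.isFinLocFree_freeMod a)
      (Groth.Agent.Helper4.FinLocFree2.isFinLocFree_freeMod b), ?_, ?_⟩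
  · intro i hi
    rw [Functor.map_comp]
    have h1 : IsIso (HomologicalComplex.homologyMap (twoTermAug f g w) i) := by
      rcases hm with rfl | rfl
      · exact hpos i hi
      · by_cases h0 : i = 0
        · subst h0
          exact twoTermAug_isIso_homology f g w (hex rfl)
        · exact hpos i (by omega)
    haveI := isIso_homologyFunctor_map_Q _ i h1
    infer_instance
  · rw [Functor.map_comp]
    have h1 : Epi (HomologicalComplex.homologyMap (twoTermAug f g w) m) := by
      rcases hm with rfl | rfl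
      · exact twoTermAug_epi_homology f g w
      · exact epi_of_isZero_tgt (isZero_homology_sg _ (-1) (by decide)) _
    haveI := epi_homologyFunctor_map_Q _ m h1
    infer_instance

end Main


section Final
open Scheme.Modules Groth.Agent.Lead.LocLift Groth.Agent.Helper4.FinLocFree
open Groth.Agent.Helper8.TildeBC

variable {X : Scheme.{u}}

set_option backward.isDefEq.respectTransparency false in
theorem pres_of_presentation {Y : Scheme.{u}} {N : Y.Modules}
    (P : SheafOfModules.Presentation (R := Y.ringCatSheaf) N) [P.IsFinite] :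
    ∃ a b, Pres N a b := by
  haveI h1 : Finite P.generators.I := SheafOfModules.GeneratingSections.IsFiniteType.finite
  haveI h2 : Finite P.relations.I := SheafOfModules.GeneratingSections.IsFiniteType.finite
  obtain ⟨b, ⟨eb⟩⟩ := Finite.exists_equiv_fin P.generators.I
  obtain ⟨a, ⟨ea⟩⟩ := Finite.exists_equiv_fin P.relations.I
  let ib : FlatMod.freeMod Y b ≅ SheafOfModules.free (R := Y.ringCatSheaf) P.generators.I :=
    Sigma.whiskerEquiv (f := fun _ : Fin b => Coh.structureModule Y)
      (g := fun _ : P.generators.I => SheafOfModules.unit Y.ringCatSheaf) eb.symm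
      (fun _ => Iso.refl _)
  let ia : FlatMod.freeMod Y a ≅ SheafOfModules.free (R := Y.ringCatSheaf) P.relations.I :=
    Sigma.whiskerEquiv (f := fun _ : Fin a => Coh.structureModule Y)
      (g := fun _ : P.relations.I => SheafOfModules.unit Y.ringCatSheaf) ea.symm
      (fun _ => Iso.refl _)
  let f₀ : SheafOfModules.free (R := Y.ringCatSheaf) P.relations.I ⟶
      SheafOfModules.free (R := Y.ringCatSheaf) P.generators.I :=
    (SheafOfModules.freeHomEquiv _).symm P.relations.s ≫ kernel.ι _
  have w₀ : f₀ ≫ P.generators.π = 0 := by simp [f₀]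
  have hex₀ : (ShortComplex.mk f₀ P.generators.π w₀).Exact :=
    ShortComplex.exact_of_g_is_cokernel _ P.isColimit
  haveI : Epi P.generators.π := P.generators.epi
  have w : (ia.hom ≫ f₀ ≫ ib.inv) ≫ ib.hom ≫ P.generators.π = 0 := by
    simp only [Category.assoc, Iso.inv_hom_id_assoc]
    rw [w₀, comp_zero]
  refine ⟨a, b, ia.hom ≫ f₀ ≫ ib.inv, ib.hom ≫ P.generators.π, w, ?_, epi_comp _ _⟩
  have iso : ShortComplex.mk _ _ w ≅ ShortComplex.mk f₀ P.generators.π w₀ :=
    ShortComplex.isoMk ia ib (Iso.refl _) (by simp) (by simp)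
  exact (ShortComplex.exact_iff_of_iso iso).mpr hex₀

theorem isPseudoCoherentD_single_iff (F : X.Modules) :
    (DCoh.IsPseudoCoherentD 0 (DCoh.inD X F) ↔ CohB1.IsFT F) ∧
    (DCoh.IsPseudoCoherentD (-1) (DCoh.inD X F) ↔ CohB1.IsFP F) := by
  have hz : ∀ i : ℤ, i ≠ 0 → IsZero (DCoh.HD (DCoh.inD X F) i) := fun i hi =>
    IsZero.of_iso (isZero_homology_sg F i hi) (hdIso (sgIso F) i)
  have e0 : DCoh.HD (DCoh.inD X F) 0 ≅ F :=
    hdIso (sgIso F) 0 ≪≫ HomologicalComplex.singleObjHomologySelfIso (ComplexShape.up ℤ) 0 F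
  constructor
  · constructor
    · intro h
      haveI := (finiteType_top_cohomology_of_pseudoCoherent 0 _ h).1 (fun i hi => hz i (by omega))
      exact Groth.Agent.Helper4.FTRestrict.SoM.isFiniteType_of_iso (R := X.ringCatSheaf)
        (M := DCoh.HD (DCoh.inD X F) 0) (N := F) e0
    · intro hF
      apply isPseudoCoherentD_single_of_local F 0 (Or.inl rfl)
      intro x
      obtain ⟨W, hxW, hW⟩ := Groth.Agent.Helper4.FTLocal.exists_generatingSections_restrict F hF x
      obtain ⟨σ, hσ⟩ := hW W le_rfl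
      obtain ⟨n, g, hg⟩ := Groth.Agent.Helper4.FTTilde.gen_of_generatingSections _ σ
      exact ⟨W, hxW, 0, n, 0, g, zero_comp, hg, fun h => absurd h (by decide)⟩
  · constructor
    · intro h
      have h1 := (finiteType_top_cohomology_of_pseudoCoherent (-1) _ h).2
        (fun i hi => hz i (by omega))
      have e : (-1 : ℤ) + 1 = 0 := by norm_num
      rw [e] at h1
      exact (SheafOfModules.isFinitePresentation X.ringCatSheaf).prop_of_iso e0 h1
    · intro hF
      apply isPseudoCoherentD_single_of_local F (-1) (Or.inr rfl)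
      intro x
      obtain ⟨W, hxW, hW⟩ := Groth.Agent.Helper4.FPTilde.exists_presentation_restrict F hF x
      obtain ⟨P, hP⟩ := hW W le_rfl
      obtain ⟨a, b, f, g, w, hex, hg⟩ := pres_of_presentation P
      exact ⟨W, hxW, a, b, f, g, w, hg, fun _ => hex⟩

end Final

end Groth.Agent.Lead.PerfLib
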