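import Mathlib
import Groth.Prelude.Def_DCoh2
import Groth.Agent.Lead.PerfLib10
import Groth.Agent.Lead.PcLib1
import Groth.Agent.Lead.PcLib2
import Groth.Agent.Lead.PcLib4

/-!
# Local pseudo-coherence data (towards S0889)
-/

set_option autoImplicit false
universe u
open CategoryTheory CategoryTheory.Limits AlgebraicGeometry

attribute [local instance] HasDerivedCategory.standard

namespace Groth.Agent.Lead.PcLib
open Scheme.Modules Groth.Agent.Lead.LocLift Groth.Agent.Lead.PerfLib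

section Abstract
variable {C : Type*} [Category C] [Abelian C] [HasDerivedCategory C]

theorem isQisAbove_Q_map {m : ℤ} {K L : CochainComplex C ℤ} (ψ : K ⟶ L)
    (h1 : ∀ i : ℤ, m < i → IsIso (HomologicalComplex.homologyMap ψ i))
    (h2 : Epi (HomologicalComplex.homologyMap ψ m)) :
    IsQisAbove m (DerivedCategory.Q.map ψ) :=
  ⟨fun i hi => isIso_homologyFunctor_map_Q ψ i (h1 i hi), epi_homologyFunctor_map_Q ψ m h2⟩

theorem isQisAbove_sigmaGEι (E : CochainComplex C ℤ) (a : ℤ) :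
    IsQisAbove a (DerivedCategory.Q.map (sigmaGEι E a)) :=
  isQisAbove_Q_map _ (fun i hi => isIso_homologyMap_sigmaGEι E a i hi)
    (epi_homologyMap_sigmaGEι E a)

theorem isQisAbove_Q_map_iff {m : ℤ} {K L : CochainComplex C ℤ} (ψ : K ⟶ L) :
    IsQisAbove m (DerivedCategory.Q.map ψ) ↔
      (∀ i : ℤ, m < i → IsIso (HomologicalComplex.homologyMap ψ i)) ∧
        Epi (HomologicalComplex.homologyMap ψ m) := by
  constructor
  · intro h
    exact ⟨fun i hi => ((MorphismProperty.isomorphisms C).arrow_mk_iso_iff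
        (homologyArrowIso ψ i)).mp (h.1 i hi),
      ((MorphismProperty.epimorphisms C).arrow_mk_iso_iff (homologyArrowIso ψ m)).mp h.2⟩
  · intro h
    exact ⟨fun i hi => isIso_homologyFunctor_map_Q ψ i (h.1 i hi),
      epi_homologyFunctor_map_Q ψ m h.2⟩

end Abstract

section Schemes

variable {Y : Scheme.{u}}

/-- restriction of a morphism of `D(Z)` between complexes. -/
noncomputable def resD {Z Z' : Scheme.{u}} (k : Z' ⟶ Z) [IsOpenImmersion k]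
    {E F : CochainComplex Z.Modules ℤ} (α : DerivedCategory.Q.obj E ⟶ DerivedCategory.Q.obj F) :
    DerivedCategory.Q.obj ((Rc k).obj E) ⟶ DerivedCategory.Q.obj ((Rc k).obj F) :=
  (restrictFunctor k).mapDerivedCategoryFactors.inv.app E ≫
    (restrictFunctor k).mapDerivedCategory.map α ≫
    (restrictFunctor k).mapDerivedCategoryFactors.hom.app F

theorem isQisAbove_resD {Z Z' : Scheme.{u}} (k : Z' ⟶ Z) [IsOpenImmersion k] {m : ℤ}
    {E F : CochainComplex Z.Modules ℤ} {α : DerivedCategory.Q.obj E ⟶ DerivedCategory.Q.obj F}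
    (hα : IsQisAbove m α) : IsQisAbove m (resD k α) := by
  have h1 : IsQisAbove m ((restrictFunctor k).mapDerivedCategory.map α) :=
    ⟨fun i hi => isIso_homology_mapDerivedCategory _ i α (hα.1 i hi),
      epi_homology_mapDerivedCategory _ m α hα.2⟩
  exact (IsQisAbove.of_isIso m _).comp (h1.comp (IsQisAbove.of_isIso m _))

/-- `F` is, near `y`, `m`-pseudo-coherent. -/
def LocPC (m : ℤ) (F : CochainComplex Y.Modules ℤ) (y : Y) : Prop :=
  ∃ (Z : Scheme.{u}) (j : Z ⟶ Y) (_ : IsOpenImmersion j), y ∈ Set.range j ∧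
    ∃ (E : CochainComplex Z.Modules ℤ)
      (α : DerivedCategory.Q.obj E ⟶ DerivedCategory.Q.obj ((Rc j).obj F)),
      DCoh.IsStrictlyPerfect E ∧ IsQisAbove m α

theorem LocPC.of_iso {m : ℤ} {F F' : CochainComplex Y.Modules ℤ}
    (e : DerivedCategory.Q.obj F ≅ DerivedCategory.Q.obj F') {y : Y} (h : LocPC m F y) :
    LocPC m F' y := by
  obtain ⟨Z, j, hj, hy, E, α, hE, hα⟩ := h
  haveI := hj
  exact ⟨Z, j, hj, hy, E, α ≫ (qRestrictIso j e).hom, hE, hα.comp (IsQisAbove.of_isIso m _)⟩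

theorem LocPC.of_restrict {m : ℤ} {Z : Scheme.{u}} (j : Z ⟶ Y) [IsOpenImmersion j]
    {F : CochainComplex Y.Modules ℤ} {z : Z} (h : LocPC m ((Rc j).obj F) z) :
    LocPC m F (j z) := by
  obtain ⟨Z', j', hj', hz, E, α, hE, hα⟩ := h
  haveI := hj'
  refine ⟨Z', j' ≫ j, inferInstance, ?_, E,
    α ≫ (DerivedCategory.Q.mapIso (rcCompIso j j' (j' ≫ j) rfl F)).inv, hE,
    hα.comp (IsQisAbove.of_isIso m _)⟩
  obtain ⟨z', rfl⟩ := hz
  exact ⟨z', rfl⟩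

/-- shrinking the neighbourhood. -/
theorem LocPC.data_restrict {m : ℤ} {Z Z' : Scheme.{u}} (j : Z ⟶ Y) [IsOpenImmersion j]
    (k : Z' ⟶ Z) [IsOpenImmersion k] (j' : Z' ⟶ Y) [IsOpenImmersion j'] (hj' : j' = k ≫ j)
    {F : CochainComplex Y.Modules ℤ} {E : CochainComplex Z.Modules ℤ}
    (α : DerivedCategory.Q.obj E ⟶ DerivedCategory.Q.obj ((Rc j).obj F))
    (hE : DCoh.IsStrictlyPerfect E) (hα : IsQisAbove m α) :
    ∃ (E' : CochainComplex Z'.Modules ℤ)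
      (α' : DerivedCategory.Q.obj E' ⟶ DerivedCategory.Q.obj ((Rc j').obj F)),
      DCoh.IsStrictlyPerfect E' ∧ IsQisAbove m α' :=
  ⟨(Rc k).obj E, resD k α ≫ (DerivedCategory.Q.mapIso (rcCompIso j k j' hj' F)).inv,
    isStrictlyPerfect_restrict k hE, (isQisAbove_resD k hα).comp (IsQisAbove.of_isIso m _)⟩

theorem LocPC.common {m₁ m₂ : ℤ} {F₁ F₂ : CochainComplex Y.Modules ℤ} {y : Y}
    (h₁ : LocPC m₁ F₁ y) (h₂ : LocPC m₂ F₂ y) :
    ∃ (Z : Scheme.{u}) (j : Z ⟶ Y) (_ : IsOpenImmersion j) (z : Z), j z = y ∧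
      ∃ (E₁ E₂ : CochainComplex Z.Modules ℤ)
        (α₁ : DerivedCategory.Q.obj E₁ ⟶ DerivedCategory.Q.obj ((Rc j).obj F₁))
        (α₂ : DerivedCategory.Q.obj E₂ ⟶ DerivedCategory.Q.obj ((Rc j).obj F₂)),
        DCoh.IsStrictlyPerfect E₁ ∧ DCoh.IsStrictlyPerfect E₂ ∧
        IsQisAbove m₁ α₁ ∧ IsQisAbove m₂ α₂ := by
  obtain ⟨Z₁, j₁, hj₁, ⟨z₁, hz₁⟩, E₁, α₁, hE₁, hα₁⟩ := h₁
  obtain ⟨Z₂, j₂, hj₂, ⟨z₂, hz₂⟩, E₂, α₂, hE₂, hα₂⟩ := h₂
  haveI := hj₁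
  haveI := hj₂
  obtain ⟨z, hz1, hz2⟩ := Scheme.Pullback.exists_preimage_pullback z₁ z₂ (hz₁.trans hz₂.symm)
  obtain ⟨E₁', α₁', hE₁', hα₁'⟩ := LocPC.data_restrict j₁ (pullback.fst j₁ j₂)
    (pullback.fst j₁ j₂ ≫ j₁) rfl α₁ hE₁ hα₁
  obtain ⟨E₂', α₂', hE₂', hα₂'⟩ := LocPC.data_restrict j₂ (pullback.snd j₁ j₂)
    (pullback.fst j₁ j₂ ≫ j₁) pullback.condition α₂ hE₂ hα₂
  refine ⟨pullback j₁ j₂, pullback.fst j₁ j₂ ≫ j₁, inferInstance, z, ?_, E₁', E₂', α₁', α₂',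
    hE₁', hE₂', hα₁', hα₂'⟩
  rw [← hz₁, ← hz1]
  rfl

theorem isPseudoCoherentD_iff_locPC {X : Scheme.{u}} (m : ℤ) (K : DCoh.D X)
    (F₀ : CochainComplex X.Modules ℤ) (e₀ : DerivedCategory.Q.obj F₀ ≅ K) :
    DCoh.IsPseudoCoherentD m K ↔ ∀ x : X, LocPC m F₀ x := by
  constructor
  · intro hK x
    obtain ⟨V, hxV, hV⟩ := hK x
    obtain ⟨E, α, hE, h1, h2⟩ := hV F₀ ⟨e₀⟩
    exact ⟨V, V.ι, inferInstance, ⟨⟨x, hxV⟩, rfl⟩, E, α, hE, h1, h2⟩
  · intro h x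
    obtain ⟨Z, j, hj, ⟨z, hz⟩, E, α, hE, hα⟩ := h x
    haveI := hj
    let V : X.Opens := j.opensRange
    let k : (V : Scheme.{u}) ⟶ Z := j.isoOpensRange.inv
    have hk : V.ι = k ≫ j := (Scheme.Hom.isoOpensRange_inv_comp j).symm
    refine ⟨V, ⟨z, hz⟩, ?_⟩
    intro F ⟨e⟩
    obtain ⟨E', α', hE', hα'⟩ := LocPC.data_restrict j k V.ι hk α hE hα
    have hα'' := hα'.comp (IsQisAbove.of_isIso m (qRestrictIso V.ι (e₀ ≪≫ e.symm)).hom)
    exact ⟨E', α' ≫ (qRestrictIso V.ι (e₀ ≪≫ e.symm)).hom, hE', hα''.1, hα''.2⟩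

/-- one may assume that the strictly perfect complex vanishes below `m`. -/
theorem LocPC.truncate {m : ℤ} {F : CochainComplex Y.Modules ℤ} {y : Y} (h : LocPC m F y) :
    ∃ (Z : Scheme.{u}) (j : Z ⟶ Y) (_ : IsOpenImmersion j), y ∈ Set.range j ∧
    ∃ (E : CochainComplex Z.Modules ℤ)
      (α : DerivedCategory.Q.obj E ⟶ DerivedCategory.Q.obj ((Rc j).obj F)),
      DCoh.IsStrictlyPerfect E ∧ IsQisAbove m α ∧ ∀ i : ℤ, i < m → IsZero (E.X i) := by
  obtain ⟨Z, j, hj, hy, E, α, ⟨⟨a, b, hab⟩, hf⟩, hα⟩ := h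
  refine ⟨Z, j, hj, hy, sigmaGE E m, DerivedCategory.Q.map (sigmaGEι E m) ≫ α, ⟨⟨m, b, ?_⟩, ?_⟩,
    (isQisAbove_sigmaGEι E m).comp hα, fun i hi => isZero_sigmaGE_X E m hi⟩
  · intro i hi
    by_cases him : i < m
    · exact isZero_sigmaGE_X E m him
    · exact IsZero.of_iso (hab i (Or.inr (by omega))) (sigmaGEXIso E m (by omega))
  · intro i
    by_cases him : i < m
    · exact isFinLocFree_of_isZero (isZero_sigmaGE_X E m him)
    · exact Groth.Agent.Helper4.FinLocFree2.isFinLocFree_of_iso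
        (sigmaGEXIso E m (by omega)).symm (hf i)

end Schemes

end Groth.Agent.Lead.PcLib
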