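import Mathlib
import Groth.Prelude.Def_DCoh2
import Groth.Agent.Lead.PcLib3

/-!
# Pseudo-coherence in distinguished triangles (S0889)
-/

set_option autoImplicit false
universe u
open CategoryTheory CategoryTheory.Limits AlgebraicGeometry

attribute [local instance] HasDerivedCategory.standard

namespace Groth.Agent.Lead.PcLib
open Scheme.Modules Groth.Agent.Lead.LocLift Groth.Agent.Lead.PerfLib

section Abstract
variable {C : Type*} [Category C] [Abelian C] [HasDerivedCategory C]

open CochainComplex Pretriangulated in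
theorem exists_cone_map {E₁ E₂ K L : CochainComplex C ℤ} (β : E₁ ⟶ E₂) (g : K ⟶ L)
    (α₁ : DerivedCategory.Q.obj E₁ ⟶ DerivedCategory.Q.obj K)
    (α₂ : DerivedCategory.Q.obj E₂ ⟶ DerivedCategory.Q.obj L)
    (comm : DerivedCategory.Q.map β ≫ α₂ = α₁ ≫ DerivedCategory.Q.map g) (m : ℤ)
    (h₁ : IsQisAbove (m + 1) α₁) (h₂ : IsQisAbove m α₂) :
    ∃ α₃ : DerivedCategory.Q.obj (mappingCone β) ⟶ DerivedCategory.Q.obj (mappingCone g),
      IsQisAbove m α₃ := by
  have hT₁ : DerivedCategory.Q.mapTriangle.obj (mappingCone.triangle β) ∈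
      distTriang _ := (DerivedCategory.mem_distTriang_iff _).mpr ⟨_, _, _, ⟨Iso.refl _⟩⟩
  have hT₂ : DerivedCategory.Q.mapTriangle.obj (mappingCone.triangle g) ∈
      distTriang _ := (DerivedCategory.mem_distTriang_iff _).mpr ⟨_, _, _, ⟨Iso.refl _⟩⟩
  obtain ⟨c, hc₁, hc₂⟩ := complete_distinguished_triangle_morphism _ _ hT₁ hT₂ α₁ α₂ comm
  let φ : DerivedCategory.Q.mapTriangle.obj (mappingCone.triangle β) ⟶
      DerivedCategory.Q.mapTriangle.obj (mappingCone.triangle g) :=
    { hom₁ := α₁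
      hom₂ := α₂
      hom₃ := c
      comm₁ := comm
      comm₂ := hc₁
      comm₃ := hc₂ }
  exact ⟨c, isQisAbove_hom₃ m hT₁ hT₂ φ h₁ h₂⟩

end Abstract

section ResD

variable {Z Z' : Scheme.{u}} (k : Z' ⟶ Z) [IsOpenImmersion k]

theorem resD_Q_map {E F : CochainComplex Z.Modules ℤ} (f : E ⟶ F) :
    resD k (DerivedCategory.Q.map f) = DerivedCategory.Q.map ((Rc k).map f) := by
  unfold resD
  rw [(restrictFunctor k).mapDerivedCategoryFactors_hom_naturality f, Iso.inv_hom_id_app_assoc]

theorem resD_comp {E F G : CochainComplex Z.Modules ℤ}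
    (α : DerivedCategory.Q.obj E ⟶ DerivedCategory.Q.obj F)
    (β : DerivedCategory.Q.obj F ⟶ DerivedCategory.Q.obj G) :
    resD k (α ≫ β) = resD k α ≫ resD k β := by
  unfold resD
  simp only [Functor.map_comp, Category.assoc, Iso.hom_inv_id_app_assoc]

instance {E F : CochainComplex Z.Modules ℤ}
    (α : DerivedCategory.Q.obj E ⟶ DerivedCategory.Q.obj F) [IsIso α] : IsIso (resD k α) := by
  unfold resD
  infer_instance

end ResD

end Groth.Agent.Lead.PcLib
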