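import Mathlib
import Groth.Prelude.Def_DCoh2
import Groth.Agent.Lead.PcLib5

/-!
# Pseudo-coherence in distinguished triangles (S0889), part 2
-/

set_option autoImplicit false
universe u
open CategoryTheory CategoryTheory.Limits AlgebraicGeometry

attribute [local instance] HasDerivedCategory.standard

namespace Groth.Agent.Lead.PcLib
open Scheme.Modules Groth.Agent.Lead.LocLift Groth.Agent.Lead.PerfLib

theorem locPC_cone_of_chain {Z : Scheme.{u}} {K' L' L'' E₁ E₂ : CochainComplex Z.Modules ℤ}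
    (g : K' ⟶ L') (m : ℤ) (hE₁ : DCoh.IsStrictlyPerfect E₁)
    (hE₁z : ∀ i : ℤ, i < m → IsZero (E₁.X i)) (hE₂ : DCoh.IsStrictlyPerfect E₂)
    (α₁ : DerivedCategory.Q.obj E₁ ⟶ DerivedCategory.Q.obj K')
    (α₂ : DerivedCategory.Q.obj E₂ ⟶ DerivedCategory.Q.obj L')
    (h₁ : IsQisAbove (m + 1) α₁) (h₂ : IsQisAbove m α₂)
    (u : E₂ ⟶ L'') (c : E₁ ⟶ L'') (s : L' ⟶ L'') (hs : IsIso (DerivedCategory.Q.map s))
    (hu : α₂ ≫ DerivedCategory.Q.map s = DerivedCategory.Q.map u)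
    (hc : α₁ ≫ DerivedCategory.Q.map g ≫ DerivedCategory.Q.map s = DerivedCategory.Q.map c)
    (z : Z) : LocPC m (CochainComplex.mappingCone g) z := by
  have hQu : IsQisAbove m (DerivedCategory.Q.map u) := by
    rw [← hu]
    exact h₂.comp (IsQisAbove.of_isIso m _)
  obtain ⟨hu1, hu2⟩ := (isQisAbove_Q_map_iff u).mp hQu
  obtain ⟨⟨a, b, hab⟩, hf⟩ := hE₁
  obtain ⟨W, β, hzW, ⟨ho⟩⟩ := exists_nhd_lift_quasiIso c u hf m b hE₁z
    (fun j hj => hab j (Or.inr hj)) hu1 hu2 z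
  have e3 := Q_map_eq_of_homotopy ho
  rw [Functor.map_comp] at e3
  haveI : IsIso (DerivedCategory.Q.map ((Rc W.ι).map s)) := by
    rw [← resD_Q_map]
    infer_instance
  have comm : DerivedCategory.Q.map β ≫ resD W.ι α₂ =
      resD W.ι α₁ ≫ DerivedCategory.Q.map ((Rc W.ι).map g) := by
    rw [← cancel_mono (DerivedCategory.Q.map ((Rc W.ι).map s))]
    simp only [Category.assoc]
    rw [← resD_Q_map W.ι s, ← resD_comp, hu, ← resD_Q_map W.ι g, ← resD_comp, ← resD_comp, hc,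
      resD_Q_map, resD_Q_map]
    exact e3
  obtain ⟨α₃, hα₃⟩ := exists_cone_map β ((Rc W.ι).map g) (resD W.ι α₁) (resD W.ι α₂) comm m
    (isQisAbove_resD W.ι h₁) (isQisAbove_resD W.ι h₂)
  refine ⟨W, W.ι, inferInstance, ⟨⟨z, hzW⟩, rfl⟩, CochainComplex.mappingCone β,
    α₃ ≫ DerivedCategory.Q.map
      (CochainComplex.mappingCone.mapHomologicalComplexIso g (restrictFunctor W.ι)).inv,
    isStrictlyPerfect_mappingCone β (isStrictlyPerfect_restrict _ ⟨⟨a, b, hab⟩, hf⟩)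
      (isStrictlyPerfect_restrict _ hE₂), hα₃.comp (IsQisAbove.of_isIso m _)⟩

theorem LocPC.mappingCone {Y : Scheme.{u}} {K L : CochainComplex Y.Modules ℤ} (g : K ⟶ L) (m : ℤ)
    {y : Y} (hK : LocPC (m + 1) K y) (hL : LocPC m L y) :
    LocPC m (CochainComplex.mappingCone g) y := by
  obtain ⟨Z, j, hj, z, rfl, E₁₀, E₂, α₁₀, α₂, hE₁₀, hE₂, hα₁₀, hα₂⟩ := LocPC.common hK hL
  haveI := hj
  apply LocPC.of_restrict j
  refine LocPC.of_iso (DerivedCategory.Q.mapIso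
    (CochainComplex.mappingCone.mapHomologicalComplexIso g (restrictFunctor j)).symm) ?_
  obtain ⟨g', hg'⟩ : ∃ g' : (Rc j).obj K ⟶ (Rc j).obj L, g' = (Rc j).map g := ⟨_, rfl⟩
  rw [← hg']
  -- truncate `E₁₀`
  obtain ⟨⟨a, b, hab⟩, hf⟩ := hE₁₀
  obtain ⟨E₁, hE₁def⟩ : ∃ E₁ : CochainComplex Z.Modules ℤ, E₁ = sigmaGE E₁₀ (m + 1) := ⟨_, rfl⟩
  have hE₁ : DCoh.IsStrictlyPerfect E₁ := by
    subst hE₁def
    refine ⟨⟨m + 1, b, ?_⟩, ?_⟩
    · intro i hi
      by_cases him : i < m + 1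
      · exact isZero_sigmaGE_X E₁₀ (m + 1) him
      · exact IsZero.of_iso (hab i (Or.inr (by omega))) (sigmaGEXIso E₁₀ (m + 1) (by omega))
    · intro i
      by_cases him : i < m + 1
      · exact isFinLocFree_of_isZero (isZero_sigmaGE_X E₁₀ (m + 1) him)
      · exact Groth.Agent.Helper4.FinLocFree2.isFinLocFree_of_iso
          (sigmaGEXIso E₁₀ (m + 1) (by omega)).symm (hf i)
  have hE₁z : ∀ i : ℤ, i < m → IsZero (E₁.X i) := by
    subst hE₁def
    exact fun i hi => isZero_sigmaGE_X E₁₀ (m + 1) (by omega)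
  obtain ⟨α₁, hα₁⟩ : ∃ α₁ : DerivedCategory.Q.obj E₁ ⟶ DerivedCategory.Q.obj ((Rc j).obj K),
      IsQisAbove (m + 1) α₁ := by
    subst hE₁def
    exact ⟨DerivedCategory.Q.map (sigmaGEι E₁₀ (m + 1)) ≫ α₁₀,
      (isQisAbove_sigmaGEι E₁₀ (m + 1)).comp hα₁₀⟩
  obtain ⟨L'', u, s, hs, hα₂'⟩ := DerivedCategory.left_fac α₂
  have hu : α₂ ≫ DerivedCategory.Q.map s = DerivedCategory.Q.map u := by
    rw [hα₂', Category.assoc, IsIso.inv_hom_id, Category.comp_id]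
  obtain ⟨W₁, hzW₁, c, hc⟩ := exists_nhd_chain_map hE₁
    (α₁ ≫ DerivedCategory.Q.map g' ≫ DerivedCategory.Q.map s) z
  have hc' : resD W₁.ι (α₁ ≫ DerivedCategory.Q.map g' ≫ DerivedCategory.Q.map s) =
      DerivedCategory.Q.map c := by
    unfold resD
    rw [hc]
    simp
  have key : LocPC m ((Rc W₁.ι).obj (CochainComplex.mappingCone g')) (⟨z, hzW₁⟩ : W₁) := by
    refine LocPC.of_iso (DerivedCategory.Q.mapIso
      (CochainComplex.mappingCone.mapHomologicalComplexIso g' (restrictFunctor W₁.ι)).symm) ?_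
    haveI : IsIso (DerivedCategory.Q.map ((Rc W₁.ι).map s)) := by
      rw [← resD_Q_map]
      infer_instance
    refine locPC_cone_of_chain ((Rc W₁.ι).map g') m (isStrictlyPerfect_restrict _ hE₁) ?_
      (isStrictlyPerfect_restrict _ hE₂) (resD W₁.ι α₁) (resD W₁.ι α₂)
      (isQisAbove_resD W₁.ι hα₁) (isQisAbove_resD W₁.ι hα₂) ((Rc W₁.ι).map u) c
      ((Rc W₁.ι).map s) inferInstance ?_ ?_ _
    · intro i hi
      exact (restrictFunctor W₁.ι).map_isZero (hE₁z i hi)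
    · rw [← resD_Q_map, ← resD_comp, hu, resD_Q_map]
    · rw [← resD_Q_map, ← resD_Q_map, ← resD_comp, ← resD_comp, hc']
  exact LocPC.of_restrict W₁.ι key

end Groth.Agent.Lead.PcLib
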