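import Mathlib
import Groth.Prelude.Def_DCoh2
import Groth.Agent.Lead.PcLib6

/-!
# Pseudo-coherence in distinguished triangles (S0889), part 3
-/

set_option autoImplicit false
universe u
open CategoryTheory CategoryTheory.Limits AlgebraicGeometry

attribute [local instance] HasDerivedCategory.standard

namespace Groth.Agent.Lead.PcLib
open Scheme.Modules Groth.Agent.Lead.LocLift Groth.Agent.Lead.PerfLib

section Abstract
variable {C : Type*} [Category C] [Abelian C] [HasDerivedCategory C]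

open DerivedCategory in
theorem IsQisAbove.shift {m : ℤ} {K L : DerivedCategory C} {α : K ⟶ L} (hα : IsQisAbove m α)
    (n m' : ℤ) (hm' : n + m' = m) : IsQisAbove m' (α⟦n⟧') := by
  have e : ∀ (i k : ℤ) (h : n + i = k), Arrow.mk ((homologyFunctor C i).map (α⟦n⟧')) ≅
      Arrow.mk ((homologyFunctor C k).map α) := fun i k h =>
    Arrow.isoMk (((homologyFunctor C 0).shiftIso n i k h).app K)
      (((homologyFunctor C 0).shiftIso n i k h).app L)
      (((homologyFunctor C 0).shiftIso n i k h).hom.naturality α).symm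
  refine ⟨fun i hi => ?_, ?_⟩
  · exact ((MorphismProperty.isomorphisms C).arrow_mk_iso_iff (e i (n + i) rfl)).mpr
      (hα.1 (n + i) (by omega))
  · exact ((MorphismProperty.epimorphisms C).arrow_mk_iso_iff (e m' m hm')).mpr hα.2

end Abstract

theorem LocPC.shift {Y : Scheme.{u}} {m : ℤ} {F : CochainComplex Y.Modules ℤ} {y : Y}
    (h : LocPC m F y) (n m' : ℤ) (hm' : n + m' = m) : LocPC m' (F⟦n⟧) y := by
  obtain ⟨Z, j, hj, hy, E, α, hE, hα⟩ := h
  haveI := hj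
  refine ⟨Z, j, hj, hy, E⟦n⟧, (DerivedCategory.Q.commShiftIso n).hom.app E ≫ α⟦n⟧' ≫
    (DerivedCategory.Q.commShiftIso n).inv.app _ ≫
    DerivedCategory.Q.map (((restrictFunctor j).mapCochainComplexShiftIso n).inv.app F),
    isStrictlyPerfect_shift hE n, ?_⟩
  exact (IsQisAbove.of_isIso m' _).comp ((hα.shift n m' hm').comp
    ((IsQisAbove.of_isIso m' _).comp (IsQisAbove.of_isIso m' _)))

theorem isPseudoCoherentD_of_iso {X : Scheme.{u}} {m : ℤ} {K K' : DCoh.D X} (e : K ≅ K')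
    (h : DCoh.IsPseudoCoherentD m K) : DCoh.IsPseudoCoherentD m K' := by
  let F₀ : CochainComplex X.Modules ℤ := DerivedCategory.Q.objPreimage K
  let e₀ : DerivedCategory.Q.obj F₀ ≅ K := DerivedCategory.Q.objObjPreimageIso K
  rw [isPseudoCoherentD_iff_locPC m K F₀ e₀] at h
  rw [isPseudoCoherentD_iff_locPC m K' F₀ (e₀ ≪≫ e)]
  exact h

theorem isPseudoCoherentD_shift {X : Scheme.{u}} {m : ℤ} {K : DCoh.D X}
    (hK : DCoh.IsPseudoCoherentD m K) (n m' : ℤ) (hm' : n + m' = m) :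
    DCoh.IsPseudoCoherentD m' (K⟦n⟧) := by
  let F₀ : CochainComplex X.Modules ℤ := DerivedCategory.Q.objPreimage K
  let e₀ : DerivedCategory.Q.obj F₀ ≅ K := DerivedCategory.Q.objObjPreimageIso K
  rw [isPseudoCoherentD_iff_locPC m K F₀ e₀] at hK
  rw [isPseudoCoherentD_iff_locPC m' (K⟦n⟧) (F₀⟦n⟧)
    ((DerivedCategory.Q.commShiftIso n).app F₀ ≪≫ (shiftFunctor _ n).mapIso e₀)]
  exact fun x => (hK x).shift n m' hm'

theorem isPseudoCoherentD_cone {X : Scheme.{u}} {K L : CochainComplex X.Modules ℤ} (φ : K ⟶ L)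
    (m : ℤ) (hK : DCoh.IsPseudoCoherentD (m + 1) (DerivedCategory.Q.obj K))
    (hL : DCoh.IsPseudoCoherentD m (DerivedCategory.Q.obj L)) :
    DCoh.IsPseudoCoherentD m (DerivedCategory.Q.obj (CochainComplex.mappingCone φ)) := by
  rw [isPseudoCoherentD_iff_locPC _ _ _ (Iso.refl _)] at hK hL ⊢
  exact fun x => LocPC.mappingCone φ m (hK x) (hL x)

open Pretriangulated in
theorem isPseudoCoherentD_obj₃ {X : Scheme.{u}} (m : ℤ) (T : Triangle (DCoh.D X))
    (hT : T ∈ distTriang _)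
    (h₁ : DCoh.IsPseudoCoherentD (m + 1) T.obj₁) (h₂ : DCoh.IsPseudoCoherentD m T.obj₂) :
    DCoh.IsPseudoCoherentD m T.obj₃ := by
  obtain ⟨K, L, φ, ⟨e⟩⟩ := (DerivedCategory.mem_distTriang_iff T).mp hT
  have e1 : T.obj₁ ≅ DerivedCategory.Q.obj K := Triangle.π₁.mapIso e
  have e2 : T.obj₂ ≅ DerivedCategory.Q.obj L := Triangle.π₂.mapIso e
  have e3 : T.obj₃ ≅ DerivedCategory.Q.obj (CochainComplex.mappingCone φ) := Triangle.π₃.mapIso e
  exact isPseudoCoherentD_of_iso e3.symm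
    (isPseudoCoherentD_cone φ m (isPseudoCoherentD_of_iso e1 h₁) (isPseudoCoherentD_of_iso e2 h₂))

open Pretriangulated in
theorem isPseudoCoherentD_triangle {X : Scheme.{u}} (m : ℤ) (T : Triangle (DCoh.D X))
    (hT : T ∈ distTriang _) :
    (DCoh.IsPseudoCoherentD (m + 1) T.obj₁ → DCoh.IsPseudoCoherentD m T.obj₂ →
      DCoh.IsPseudoCoherentD m T.obj₃) ∧
    (DCoh.IsPseudoCoherentD m T.obj₁ → DCoh.IsPseudoCoherentD m T.obj₃ →
      DCoh.IsPseudoCoherentD m T.obj₂) ∧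
    (DCoh.IsPseudoCoherentD (m + 1) T.obj₂ → DCoh.IsPseudoCoherentD m T.obj₃ →
      DCoh.IsPseudoCoherentD (m + 1) T.obj₁) := by
  refine ⟨isPseudoCoherentD_obj₃ m T hT, fun h₁ h₃ => ?_, fun h₂ h₃ => ?_⟩
  · -- `T.invRotate : T.obj₃⟦-1⟧ ⟶ T.obj₁ ⟶ T.obj₂`
    exact isPseudoCoherentD_obj₃ m T.invRotate (inv_rot_of_distTriang T hT)
      (isPseudoCoherentD_shift h₃ (-1) (m + 1) (by omega)) h₁
  · -- `T.invRotate.invRotate : T.obj₂⟦-1⟧ ⟶ T.obj₃⟦-1⟧ ⟶ T.obj₁`
    exact isPseudoCoherentD_obj₃ (m + 1) T.invRotate.invRotate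
      (inv_rot_of_distTriang _ (inv_rot_of_distTriang T hT))
      (isPseudoCoherentD_shift h₂ (-1) (m + 1 + 1) (by omega))
      (isPseudoCoherentD_shift h₃ (-1) (m + 1) (by omega))

end Groth.Agent.Lead.PcLib
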