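import Mathlib
import Groth.Prelude.Def_DCoh2
import Groth.Agent.Lead.PcLib7

/-!
# Direct summands of pseudo-coherent objects (S0888)
-/

set_option autoImplicit false
universe u
open CategoryTheory CategoryTheory.Limits AlgebraicGeometry

attribute [local instance] HasDerivedCategory.standard

namespace Groth.Agent.Lead.PcLib
open Scheme.Modules Groth.Agent.Lead.LocLift Groth.Agent.Lead.PerfLib

theorem resD_id {Z Z' : Scheme.{u}} (k : Z' ⟶ Z) [IsOpenImmersion k]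
    (E : CochainComplex Z.Modules ℤ) :
    resD k (𝟙 (DerivedCategory.Q.obj E)) = 𝟙 _ := by
  unfold resD
  simp

theorem LocPC.mono {Y : Scheme.{u}} {m m' : ℤ} (hm : m ≤ m') {F : CochainComplex Y.Modules ℤ}
    {y : Y} (h : LocPC m F y) : LocPC m' F y := by
  obtain ⟨Z, j, hj, hy, E, α, hE, hα⟩ := h
  exact ⟨Z, j, hj, hy, E, α, hE, hα.mono hm⟩

open DerivedCategory ZeroObject in
/-- a retract of a locally pseudo-coherent complex is locally `N`-pseudo-coherent for large `N`. -/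
theorem locPC_of_retract {Y : Scheme.{u}} {m : ℤ} {F' F'' : CochainComplex Y.Modules ℤ}
    (ι : Q.obj F' ⟶ Q.obj F'') (ρ : Q.obj F'' ⟶ Q.obj F') (h : ι ≫ ρ = 𝟙 _) {y : Y}
    (hF : LocPC m F'' y) : ∃ b : ℤ, ∀ N : ℤ, b ≤ N → LocPC N F' y := by
  obtain ⟨Z, j, hj, hy, E, α, ⟨⟨a, b₀, hab⟩, hf⟩, hα⟩ := hF
  haveI := hj
  refine ⟨max m b₀ + 1, fun N hN => ?_⟩
  have hm1 : m ≤ max m b₀ := le_max_left _ _
  have hm2 : b₀ ≤ max m b₀ := le_max_right _ _
  have hz : ∀ i : ℤ, N ≤ i →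
      IsZero ((homologyFunctor Z.Modules i).obj (Q.obj ((Rc j).obj F'))) := by
    intro i hi
    have hi1 : m < i := by omega
    have hi2 : b₀ < i := by omega
    haveI := hα.1 i hi1
    have hzE : IsZero ((homologyFunctor Z.Modules i).obj (Q.obj E)) :=
      IsZero.of_iso (isZero_homology_of_isZero E i (hab i (Or.inr hi2)))
        ((homologyFunctorFactors Z.Modules i).app E)
    have hzF'' : IsZero ((homologyFunctor Z.Modules i).obj (Q.obj ((Rc j).obj F''))) :=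
      IsZero.of_iso hzE (asIso ((homologyFunctor Z.Modules i).map α)).symm
    have hr : (homologyFunctor Z.Modules i).map (resD j ι) ≫
        (homologyFunctor Z.Modules i).map (resD j ρ) = 𝟙 _ := by
      rw [← Functor.map_comp, ← resD_comp, h, resD_id, CategoryTheory.Functor.map_id]
    rw [IsZero.iff_id_eq_zero, ← hr,
      hzF''.eq_of_tgt ((homologyFunctor Z.Modules i).map (resD j ι)) 0, zero_comp]
  have hz0 : ∀ i : ℤ, IsZero ((0 : CochainComplex Z.Modules ℤ).X i) := fun i =>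
    (HomologicalComplex.eval _ _ i).map_isZero (isZero_zero _)
  refine ⟨Z, j, hj, hy, 0, 0, ⟨⟨0, 0, fun i _ => hz0 i⟩, fun i => isFinLocFree_of_isZero (hz0 i)⟩,
    ?_⟩
  have hsrc : ∀ i : ℤ, IsZero ((homologyFunctor Z.Modules i).obj
      (Q.obj (0 : CochainComplex Z.Modules ℤ))) := fun i =>
    Functor.map_isZero _ (Functor.map_isZero _ (isZero_zero _))
  exact ⟨fun i hi => isIso_of_isZero' (hsrc i) (hz i hi.le) _, epi_of_isZero_tgt (hz N le_rfl) _⟩

/-- `K ∈ D(O_X)` is `m`-pseudo-coherent near `x`. -/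
def PCAt {X : Scheme.{u}} (m : ℤ) (K : DCoh.D X) (x : X) : Prop :=
  LocPC m (DerivedCategory.Q.objPreimage K) x

theorem pcAt_iff {X : Scheme.{u}} {m : ℤ} {K : DCoh.D X} (F₀ : CochainComplex X.Modules ℤ)
    (e₀ : DerivedCategory.Q.obj F₀ ≅ K) (x : X) : PCAt m K x ↔ LocPC m F₀ x :=
  ⟨LocPC.of_iso (DerivedCategory.Q.objObjPreimageIso K ≪≫ e₀.symm),
    LocPC.of_iso (e₀ ≪≫ (DerivedCategory.Q.objObjPreimageIso K).symm)⟩

theorem isPseudoCoherentD_iff_pcAt {X : Scheme.{u}} (m : ℤ) (K : DCoh.D X) :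
    DCoh.IsPseudoCoherentD m K ↔ ∀ x : X, PCAt m K x :=
  isPseudoCoherentD_iff_locPC m K _ (DerivedCategory.Q.objObjPreimageIso K)

theorem PCAt.of_iso {X : Scheme.{u}} {m : ℤ} {K K' : DCoh.D X} (e : K ≅ K') {x : X}
    (h : PCAt m K x) : PCAt m K' x :=
  (pcAt_iff (DerivedCategory.Q.objPreimage K) (DerivedCategory.Q.objObjPreimageIso K ≪≫ e) x).mpr h

theorem PCAt.mono {X : Scheme.{u}} {m m' : ℤ} (hm : m ≤ m') {K : DCoh.D X} {x : X}
    (h : PCAt m K x) : PCAt m' K x := LocPC.mono hm h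

open Pretriangulated in
theorem PCAt.obj₃ {X : Scheme.{u}} (m : ℤ) (T : Triangle (DCoh.D X)) (hT : T ∈ distTriang _)
    {x : X} (h₁ : PCAt (m + 1) T.obj₁ x) (h₂ : PCAt m T.obj₂ x) : PCAt m T.obj₃ x := by
  obtain ⟨K, L, φ, ⟨e⟩⟩ := (DerivedCategory.mem_distTriang_iff T).mp hT
  have e1 : T.obj₁ ≅ DerivedCategory.Q.obj K := Triangle.π₁.mapIso e
  have e2 : T.obj₂ ≅ DerivedCategory.Q.obj L := Triangle.π₂.mapIso e
  have e3 : T.obj₃ ≅ DerivedCategory.Q.obj (CochainComplex.mappingCone φ) := Triangle.π₃.mapIso e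
  exact (pcAt_iff _ e3.symm x).mpr (LocPC.mappingCone φ m ((pcAt_iff _ e1.symm x).mp h₁)
    ((pcAt_iff _ e2.symm x).mp h₂))

theorem PCAt.of_retract {X : Scheme.{u}} {m : ℤ} {K' K'' : DCoh.D X} (ι : K' ⟶ K'')
    (ρ : K'' ⟶ K') (h : ι ≫ ρ = 𝟙 _) {x : X} (hF : PCAt m K'' x) :
    ∃ b : ℤ, ∀ N : ℤ, b ≤ N → PCAt N K' x :=
  locPC_of_retract
    ((DerivedCategory.Q.objObjPreimageIso K').hom ≫ ι ≫ (DerivedCategory.Q.objObjPreimageIso K'').inv)
    ((DerivedCategory.Q.objObjPreimageIso K'').hom ≫ ρ ≫ (DerivedCategory.Q.objObjPreimageIso K').inv)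
    (by simp [reassoc_of% h]) hF

open Pretriangulated in
theorem pcAt_biprod {X : Scheme.{u}} (m : ℤ) (K L : DCoh.D X) (x : X)
    (h : PCAt m (K ⊞ L) x) : PCAt m K x ∧ PCAt m L x := by
  obtain ⟨b₁, hb₁⟩ := PCAt.of_retract (biprod.inl : K ⟶ K ⊞ L) biprod.fst (by simp) h
  obtain ⟨b₂, hb₂⟩ := PCAt.of_retract (biprod.inr : L ⟶ K ⊞ L) biprod.snd (by simp) h
  obtain ⟨B, hB1, hB2⟩ : ∃ B : ℤ, b₁ ≤ B ∧ b₂ ≤ B := ⟨max b₁ b₂, le_max_left _ _, le_max_right _ _⟩
  have step : ∀ N : ℤ, m ≤ N → PCAt (N + 1) K x ∧ PCAt (N + 1) L x →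
      PCAt N K x ∧ PCAt N L x := by
    intro N hN ⟨hK, hL⟩
    have hKL : PCAt N (K ⊞ L) x := h.mono hN
    constructor
    · exact PCAt.obj₃ N (binaryBiproductTriangle L K) (binaryBiproductTriangle_distinguished L K)
        hL (hKL.of_iso (biprod.braiding K L))
    · exact PCAt.obj₃ N (binaryBiproductTriangle K L) (binaryBiproductTriangle_distinguished K L)
        hK hKL
  have main : ∀ k : ℕ, m ≤ B - k → PCAt (B - k) K x ∧ PCAt (B - k) L x := by
    intro k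
    induction k with
    | zero =>
      intro _
      exact ⟨hb₁ _ (by simpa using hB1), hb₂ _ (by simpa using hB2)⟩
    | succ k ih =>
      intro hk
      have h1 := ih (by push_cast at hk; omega)
      have e : B - ((k + 1 : ℕ) : ℤ) + 1 = B - k := by push_cast; ring
      exact step _ hk (by rw [e]; exact h1)
  by_cases hm : B ≤ m
  · exact ⟨hb₁ m (by omega), hb₂ m (by omega)⟩
  · have h2 := main (B - m).toNat (by omega)
    have e : B - ((B - m).toNat : ℤ) = m := by omega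
    rwa [e] at h2

theorem isPseudoCoherentD_biprod {X : Scheme.{u}} (m : ℤ) (K L : DCoh.D X)
    (h : DCoh.IsPseudoCoherentD m (K ⊞ L)) :
    DCoh.IsPseudoCoherentD m K ∧ DCoh.IsPseudoCoherentD m L := by
  rw [isPseudoCoherentD_iff_pcAt] at h ⊢
  rw [isPseudoCoherentD_iff_pcAt]
  exact ⟨fun x => (pcAt_biprod m K L x (h x)).1, fun x => (pcAt_biprod m K L x (h x)).2⟩

theorem isPseudoCoherentD_of_bilimit {X : Scheme.{u}} (m : ℤ) {K L : DCoh.D X}
    (b : BinaryBicone K L) (hb : b.IsBilimit) (h : DCoh.IsPseudoCoherentD m b.pt) :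
    DCoh.IsPseudoCoherentD m K ∧ DCoh.IsPseudoCoherentD m L :=
  isPseudoCoherentD_biprod m K L (isPseudoCoherentD_of_iso (biprod.uniqueUpToIso K L hb) h)

end Groth.Agent.Lead.PcLib
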