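import Mathlib
import Groth.Prelude.Def_DCoh3
import Groth.Agent.Lead.PerfLib6

/-!
# Perfect objects are relatively perfect over a flat base (S7248)
-/

set_option autoImplicit false
universe u
open CategoryTheory CategoryTheory.Limits AlgebraicGeometry

attribute [local instance] HasDerivedCategory.standard

namespace Groth.Agent.Lead.PerfLib
open Scheme.Modules Groth.Agent.Lead.LocLift Groth.Agent.Helper4.FinLocFree

theorem isFlatOver_of_isFinLocFree {Y S : Scheme.{u}} (g : Y ⟶ S) [Flat g] {M : Y.Modules}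
    (hM : FlatMod.IsFinLocFree M) : FlatMod.IsFlatOver g M := by
  intro y
  haveI : M.IsQuasicoherent := Groth.Agent.Helper4.FinLocFree4.isQuasicoherent_of_isFinLocFree M hM
  haveI hfree : Module.Free (Y.presheaf.stalk y) (M.presheaf.stalk y) :=
    Groth.Agent.Helper4.FinLocFree2.free_stalk_of_isFinLocFree M hM y
  have hflat : (g.stalkMap y).hom.Flat := (Flat.iff_flat_stalkMap g).mp inferInstance y
  unfold FlatMod.IsFlatOverAt
  letI := FlatMod.moduleStalkOver g M y
  letI : Algebra (S.presheaf.stalk (g.base y)) (Y.presheaf.stalk y) := (g.stalkMap y).hom.toAlgebra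
  haveI : IsScalarTower (S.presheaf.stalk (g.base y)) (Y.presheaf.stalk y) (M.presheaf.stalk y) :=
    IsScalarTower.of_algebraMap_smul (fun r m => rfl)
  haveI : Module.Flat (S.presheaf.stalk (g.base y)) (Y.presheaf.stalk y) := hflat
  exact Module.Flat.trans (S.presheaf.stalk (g.base y)) (Y.presheaf.stalk y) (M.presheaf.stalk y)

theorem relativelyPerfect_of_perfect {X S : Scheme.{u}} (f : X ⟶ S) [Flat f]
    (E : DCoh.D X) (hE : DCoh.IsPerfect E) :
    (∀ m : ℤ, DCoh.IsPseudoCoherentD m E) ∧ DCoh.LocHasFiniteRelTorDim f E := by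
  constructor
  · intro m x
    obtain ⟨V, hxV, hV⟩ := hE x
    refine ⟨V, hxV, fun F hF => ?_⟩
    obtain ⟨P, hP, ⟨ψ⟩⟩ := hV F hF
    exact ⟨P, ψ.inv, hP, fun i _ => inferInstance, inferInstance⟩
  · intro x
    obtain ⟨V, hxV, hV⟩ := hE x
    let F₀ : CochainComplex X.Modules ℤ := DerivedCategory.Q.objPreimage E
    let e₀ : DerivedCategory.Q.obj F₀ ≅ E := DerivedCategory.Q.objObjPreimageIso E
    obtain ⟨P, ⟨⟨a, b, hab⟩, hfree⟩, ⟨ψ⟩⟩ := hV F₀ ⟨e₀⟩
    refine ⟨V, a, b, hxV, fun F' ⟨e'⟩ => ?_⟩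
    refine ⟨P, hab, fun i => isFlatOver_of_isFinLocFree (V.ι ≫ f) (hfree i), ⟨?_⟩⟩
    exact ψ.symm ≪≫ qRestrictIso V.ι (e₀ ≪≫ e'.symm)

end Groth.Agent.Lead.PerfLib
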