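import Mathlib
import Groth.Prelude.Def_DCoh2
import Groth.Agent.Lead.PcLib8
import Groth.Agent.Lead.PerfLib11

/-!
# Pseudo-coherence on Noetherian schemes (S1039)
-/

set_option autoImplicit false
universe u
open CategoryTheory CategoryTheory.Limits AlgebraicGeometry

attribute [local instance] HasDerivedCategory.standard

namespace Groth.Agent.Lead.PcLib
open Scheme.Modules Groth.Agent.Lead.LocLift Groth.Agent.Lead.PerfLib

open DerivedCategory ZeroObject in
theorem locPC_of_isZero_homology {Y : Scheme.{u}} {m : ℤ} {F : CochainComplex Y.Modules ℤ} (y : Y)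
    (h : ∀ i : ℤ, m ≤ i → IsZero (F.homology i)) : LocPC m F y := by
  have hz0 : ∀ i : ℤ, IsZero ((0 : CochainComplex Y.Modules ℤ).X i) := fun i =>
    (HomologicalComplex.eval _ _ i).map_isZero (isZero_zero _)
  have hsrc : ∀ i : ℤ, IsZero ((homologyFunctor Y.Modules i).obj
      (Q.obj (0 : CochainComplex Y.Modules ℤ))) := fun i =>
    Functor.map_isZero _ (Functor.map_isZero _ (isZero_zero _))
  have htgt : ∀ i : ℤ, m ≤ i → IsZero ((homologyFunctor Y.Modules i).obj
      (Q.obj ((Rc (𝟙 Y)).obj F))) := fun i hi =>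
    IsZero.of_iso (IsZero.of_iso ((restrictFunctor (𝟙 Y)).map_isZero (h i hi))
      (homologyRestrictIso (𝟙 Y) F i)) ((homologyFunctorFactors Y.Modules i).app _)
  exact ⟨Y, 𝟙 Y, inferInstance, ⟨y, rfl⟩, 0, 0,
    ⟨⟨0, 0, fun i _ => hz0 i⟩, fun i => isFinLocFree_of_isZero (hz0 i)⟩,
    fun i hi => isIso_of_isZero' (hsrc i) (htgt i hi.le) _, epi_of_isZero_tgt (htgt m le_rfl) _⟩

theorem isStrictlyPerfect_sg {Y : Scheme.{u}} (A : Y.Modules) (hA : FlatMod.IsFinLocFree A) :
    DCoh.IsStrictlyPerfect (sg A) := by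
  refine ⟨⟨0, 0, fun i hi => HomologicalComplex.isZero_single_obj_X _ _ _ i (by omega)⟩,
    fun i => ?_⟩
  by_cases hi : i = 0
  · subst hi
    exact Groth.Agent.Helper4.FinLocFree2.isFinLocFree_of_iso
      (HomologicalComplex.singleObjXSelf (ComplexShape.up ℤ) 0 A).symm hA
  · exact isFinLocFree_of_isZero (HomologicalComplex.isZero_single_obj_X _ _ _ i hi)

theorem locPC_of_isStrictlyPerfect {Y : Scheme.{u}} {E : CochainComplex Y.Modules ℤ}
    (hE : DCoh.IsStrictlyPerfect E) (m : ℤ) (y : Y) : LocPC m E y :=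
  ⟨Y, 𝟙 Y, inferInstance, ⟨y, rfl⟩, (Rc (𝟙 Y)).obj E, 𝟙 _, isStrictlyPerfect_restrict _ hE,
    IsQisAbove.of_isIso m _⟩

theorem isCoh_restrict {X Z : Scheme.{u}} (j : Z ⟶ X) [IsOpenImmersion j] {M : X.Modules}
    (hM : Coh.IsCoh M) : Coh.IsCoh (M.restrict j) := by
  obtain ⟨hq, hf⟩ := hM
  haveI : M.IsQuasicoherent := hq
  exact ⟨inferInstance, Groth.Agent.Helper4.FTRestrict.isFT_restrict j M hf⟩

/-- a coherent module on a locally Noetherian scheme is pseudo-coherent. -/
theorem locPC_sg_of_coh : ∀ (k : ℕ) (Y : Scheme.{u}) [IsLocallyNoetherian Y] (F : Y.Modules),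
    Coh.IsCoh F → ∀ y : Y, LocPC (1 - k) (sg F) y := by
  intro k
  induction k with
  | zero =>
    intro Y _ F _ y
    exact locPC_of_isZero_homology y (fun i hi => isZero_homology_sg F i (by simp at hi; omega))
  | succ k ih =>
    intro Y _ F hF y
    obtain ⟨W, hyW, hW⟩ := Groth.Agent.Helper4.FTLocal.exists_generatingSections_restrict F hF.2 y
    obtain ⟨σ, hσ⟩ := hW W le_rfl
    obtain ⟨n, g, hg⟩ := Groth.Agent.Helper4.FTTilde.gen_of_generatingSections _ σ
    haveI := hg
    have hA : Coh.IsCoh (FlatMod.freeMod (W : Scheme.{u}) n) :=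
      isCoh_of_isFinLocFree (Groth.Agent.Helper4.FinLocFree2.isFinLocFree_freeMod n)
    have hG : Coh.IsCoh (kernel g) := isCoh_kernel hA (isCoh_restrict W.ι hF) g
    let S : ShortComplex (W : Scheme.{u}).Modules := ShortComplex.mk (kernel.ι g) g (kernel.condition g)
    have hS : S.ShortExact :=
      { exact := ShortComplex.exact_of_f_is_kernel _ (kernelIsKernel g)
        mono_f := inferInstanceAs (Mono (kernel.ι g))
        epi_g := hg }
    have h₁ : DCoh.IsPseudoCoherentD (-(k : ℤ) + 1) (DCoh.inD (W : Scheme.{u}) (kernel g)) := by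
      rw [isPseudoCoherentD_iff_locPC _ _ (sg (kernel g)) (sgIso (kernel g))]
      intro w
      have := ih (W : Scheme.{u}) (kernel g) hG w
      have e : (1 : ℤ) - k = -(k : ℤ) + 1 := by ring
      rwa [e] at this
    have h₂ : DCoh.IsPseudoCoherentD (-(k : ℤ))
        (DCoh.inD (W : Scheme.{u}) (FlatMod.freeMod (W : Scheme.{u}) n)) := by
      rw [isPseudoCoherentD_iff_locPC _ _ (sg _) (sgIso _)]
      intro w
      exact locPC_of_isStrictlyPerfect (isStrictlyPerfect_sg _
        (Groth.Agent.Helper4.FinLocFree2.isFinLocFree_freeMod n)) _ w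
    have h₃ : DCoh.IsPseudoCoherentD (-(k : ℤ)) (DCoh.inD (W : Scheme.{u}) (F.restrict W.ι)) :=
      isPseudoCoherentD_obj₃ (-(k : ℤ)) hS.singleTriangle hS.singleTriangle_distinguished h₁ h₂
    rw [isPseudoCoherentD_iff_locPC _ _ (sg (F.restrict W.ι)) (sgIso _)] at h₃
    have h₄ := h₃ ⟨y, hyW⟩
    have e : (1 : ℤ) - ((k + 1 : ℕ) : ℤ) = -(k : ℤ) := by push_cast; ring
    rw [e]
    refine LocPC.of_restrict W.ι (z := ⟨y, hyW⟩) (LocPC.of_iso ?_ h₄)
    exact DerivedCategory.Q.mapIso ((HomologicalComplex.singleMapHomologicalComplex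
      (restrictFunctor W.ι) (ComplexShape.up ℤ) 0).app F).symm

theorem isPseudoCoherentD_mono {X : Scheme.{u}} {m m' : ℤ} (hm : m ≤ m') {K : DCoh.D X}
    (h : DCoh.IsPseudoCoherentD m K) : DCoh.IsPseudoCoherentD m' K := by
  rw [isPseudoCoherentD_iff_pcAt] at h ⊢
  exact fun x => (h x).mono hm

theorem isPseudoCoherentD_inD_of_coh (Y : Scheme.{u}) [IsLocallyNoetherian Y] (F : Y.Modules)
    (hF : Coh.IsCoh F) (m : ℤ) : DCoh.IsPseudoCoherentD m (DCoh.inD Y F) := by
  have h1 : DCoh.IsPseudoCoherentD (1 - ((1 - m).toNat : ℤ)) (DCoh.inD Y F) := by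
    rw [isPseudoCoherentD_iff_locPC _ _ (sg F) (sgIso F)]
    exact locPC_sg_of_coh _ Y F hF
  exact isPseudoCoherentD_mono (by omega) h1

theorem isPseudoCoherentD_of_isZero_HD {X : Scheme.{u}} (m : ℤ) (K : DCoh.D X)
    (h : ∀ i : ℤ, m ≤ i → IsZero (DCoh.HD K i)) : DCoh.IsPseudoCoherentD m K := by
  let F₀ : CochainComplex X.Modules ℤ := DerivedCategory.Q.objPreimage K
  let e₀ : DerivedCategory.Q.obj F₀ ≅ K := DerivedCategory.Q.objObjPreimageIso K
  rw [isPseudoCoherentD_iff_locPC m K F₀ e₀]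
  exact fun x => locPC_of_isZero_homology x (fun i hi => IsZero.of_iso (h i hi) (hdIso e₀ i).symm)

section Trunc
variable {C : Type*} [Category C] [Abelian C] [HasDerivedCategory C]

open DerivedCategory Pretriangulated in
/-- the truncation triangle `τ_{≤ b-1} E ⟶ E ⟶ H^b(E)[-b]` of an object `E` with `H^i(E) = 0` for `i > b`. -/
theorem exists_trunc_triangle (E : DerivedCategory C) (b : ℤ) [E.IsLE b] :
    ∃ (T : Triangle (DerivedCategory C)) (_ : T ∈ distTriang _) (_ : T.obj₂ ≅ E) (Y : C),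
      T.obj₁.IsLE (b - 1) ∧ Nonempty (T.obj₃ ≅ (singleFunctor C b).obj Y) ∧
      (∀ i : ℤ, i ≤ b - 1 → Nonempty ((homologyFunctor C i).obj T.obj₁ ≅
        (homologyFunctor C i).obj E)) ∧
      Nonempty (Y ≅ (homologyFunctor C b).obj E) := by
  have hb : b - 1 + 1 = b := by omega
  let T := (TStructure.t.triangleLEGE (b - 1) b hb).obj E
  have hT : T ∈ distTriang _ := TStructure.t.triangleLEGE_distinguished (b - 1) b hb E
  haveI h3ge : (T.obj₃).IsGE b := inferInstanceAs (((TStructure.t.truncGE b).obj E).IsGE b)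
  haveI h3le : (T.obj₃).IsLE b := inferInstanceAs (((TStructure.t.truncGE b).obj E).IsLE b)
  haveI h1le : (T.obj₁).IsLE (b - 1) :=
    inferInstanceAs (((TStructure.t.truncLE (b - 1)).obj E).IsLE (b - 1))
  obtain ⟨Y, ⟨eY⟩⟩ := exists_iso_singleFunctor_obj_of_isGE_of_isLE T.obj₃ b
  refine ⟨T, hT, Iso.refl _, Y, h1le, ⟨eY⟩, fun i hi => ?_, ?_⟩
  · -- `H^i(T.obj₁) ≅ H^i(E)` for `i ≤ b - 1`
    have hz1 : IsZero ((homologyFunctor C (i - 1)).obj T.obj₃) :=
      T.obj₃.isZero_of_isGE b (i - 1) (by omega)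
    have hz2 : IsZero ((homologyFunctor C i).obj T.obj₃) := T.obj₃.isZero_of_isGE b i (by omega)
    have ex1 := HomologySequence.exact₁ T hT (i - 1) i (by omega)
    have ex2 := HomologySequence.exact₂ T hT i
    haveI : Mono ((homologyFunctor C i).map T.mor₁) := ex1.mono_g (hz1.eq_of_src _ _)
    haveI : Epi ((homologyFunctor C i).map T.mor₁) := ex2.epi_f (hz2.eq_of_tgt _ _)
    have hiso : IsIso ((homologyFunctor C i).map T.mor₁) := isIso_of_mono_of_epi _
    exact ⟨@asIso _ _ _ _ _ hiso⟩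
  · have hz1 : IsZero ((homologyFunctor C b).obj T.obj₁) :=
      T.obj₁.isZero_of_isLE (b - 1) b (by omega)
    have hz2 : IsZero ((homologyFunctor C (b + 1)).obj T.obj₁) :=
      T.obj₁.isZero_of_isLE (b - 1) (b + 1) (by omega)
    have ex2 := HomologySequence.exact₂ T hT b
    have ex3 := HomologySequence.exact₃ T hT b (b + 1) rfl
    haveI : Mono ((homologyFunctor C b).map T.mor₂) := ex2.mono_g (hz1.eq_of_src _ _)
    haveI : Epi ((homologyFunctor C b).map T.mor₂) := ex3.epi_f (hz2.eq_of_tgt _ _)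
    have hiso : IsIso ((homologyFunctor C b).map T.mor₂) := isIso_of_mono_of_epi _
    refine ⟨?_ ≪≫ (homologyFunctor C b).mapIso eY.symm ≪≫ (@asIso _ _ _ _ _ hiso).symm⟩
    exact (HomologicalComplex.singleObjHomologySelfIso (ComplexShape.up ℤ) b Y).symm ≪≫
      ((homologyFunctorFactors C b).app _).symm ≪≫
      (homologyFunctor C b).mapIso ((singleFunctorIsoCompQ C b).app Y).symm

end Trunc

theorem isPseudoCoherentD_of_coh_bounded (X : Scheme.{u}) [IsLocallyNoetherian X] (m : ℤ) :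
    ∀ (n : ℕ) (E : DCoh.D X) (b : ℤ), E.IsLE b → b < m + n →
      (∀ i : ℤ, m ≤ i → Coh.IsCoh (DCoh.HD E i)) → DCoh.IsPseudoCoherentD m E := by
  intro n
  induction n with
  | zero =>
    intro E b hb hbm _
    haveI := hb
    exact isPseudoCoherentD_of_isZero_HD m E
      (fun i hi => E.isZero_of_isLE b i (by simp at hbm; omega))
  | succ n ih =>
    intro E b hb hbm hcoh
    haveI := hb
    by_cases hbm' : b < m
    · exact isPseudoCoherentD_of_isZero_HD m E (fun i hi => E.isZero_of_isLE b i (by omega))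
    · obtain ⟨T, hT, e, Y, h1le, ⟨eY⟩, hH, ⟨eH⟩⟩ := exists_trunc_triangle E b
      have hYcoh : Coh.IsCoh Y := isCoh_of_iso eH.symm (hcoh b (by omega))
      have h3 : DCoh.IsPseudoCoherentD m T.obj₃ := by
        refine isPseudoCoherentD_of_iso eY.symm ?_
        refine isPseudoCoherentD_of_iso
          (((DerivedCategory.singleFunctors X.Modules).shiftIso (-b) b 0 (by omega)).app Y) ?_
        exact isPseudoCoherentD_shift (isPseudoCoherentD_inD_of_coh X Y hYcoh (m - b)) (-b) m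
          (by omega)
      have h1 : DCoh.IsPseudoCoherentD m T.obj₁ := by
        refine ih T.obj₁ (b - 1) h1le (by push_cast at hbm; omega) (fun i hi => ?_)
        by_cases hib : i ≤ b - 1
        · exact isCoh_of_iso (hH i hib).some.symm (hcoh i hi)
        · haveI := h1le
          exact isCoh_of_isFinLocFree
            (isFinLocFree_of_isZero (T.obj₁.isZero_of_isLE (b - 1) i (by omega)))
      exact isPseudoCoherentD_of_iso e ((isPseudoCoherentD_triangle m T hT).2.1 h1 h3)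

theorem coh_bounded_of_isPseudoCoherentD (X : Scheme.{u}) [IsNoetherian X] (E : DCoh.D X)
    (hE : DCoh.IsQCohD E) (m : ℤ) (h : DCoh.IsPseudoCoherentD m E) :
    (∀ i : ℤ, m ≤ i → Coh.IsCoh (DCoh.HD E i)) ∧ ∃ b : ℤ, E.IsLE b := by
  let F₀ : CochainComplex X.Modules ℤ := DerivedCategory.Q.objPreimage E
  let e₀ : DerivedCategory.Q.obj F₀ ≅ E := DerivedCategory.Q.objObjPreimageIso E
  choose V hxV P α hP hiso hepi using exists_local_data_of_pseudoCoherent m E h F₀ e₀
  have hPcoh : ∀ (x : X) (i : ℤ), Coh.IsCoh ((P x).homology i) := fun x i =>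
    isCoh_homology (P x) (fun k => isCoh_of_isFinLocFree ((hP x).2 k)) i
  constructor
  · intro i hi
    rcases eq_or_lt_of_le hi with rfl | hlt
    · -- `i = m`
      haveI hq : (DCoh.HD E m).IsQuasicoherent := hE m
      refine ⟨hq, isFiniteType_of_locally _ (fun x => ?_)⟩
      refine ⟨V x, (V x).ι, inferInstance, ⟨⟨x, hxV x⟩, rfl⟩, ?_⟩
      haveI := hepi x
      haveI : ((P x).homology m).IsQuasicoherent := (hPcoh x m).1
      let π : (P x).homology m ⟶ (DCoh.HD E m).restrict (V x).ι :=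
        homologyMapOfQ (α x) m ≫ (homologyRestrictIso (V x).ι F₀ m).hom ≫
          (restrictFunctor (V x).ι).map (hdIso e₀ m).inv
      haveI : Epi π := epi_comp _ _
      exact Groth.Agent.Helper4.QcohEpi.isFiniteType_of_epi π (hPcoh x m).2
    · refine isCoh_of_iso (hdIso e₀ i).symm ?_
      apply isCoh_of_locally
      intro x
      haveI := hiso x i hlt
      exact ⟨V x, (V x).ι, inferInstance, ⟨⟨x, hxV x⟩, rfl⟩,
        isCoh_of_iso (asIso (homologyMapOfQ (α x) i) ≪≫ homologyRestrictIso (V x).ι F₀ i)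
          (hPcoh x i)⟩
  · choose a b hab using fun x => (hP x).1
    obtain ⟨t, ht⟩ := isCompact_univ.elim_finite_subcover
      (fun x => ((V x : X.Opens) : Set X)) (fun x => (V x).isOpen)
      (fun y _ => Set.mem_iUnion.mpr ⟨y, hxV y⟩)
    obtain ⟨B, hB⟩ := (t.image b).exists_le
    have hcov : ∀ y : X, ∃ x ∈ t, y ∈ V x := by
      intro y
      have := ht (Set.mem_univ y)
      simp only [Set.mem_iUnion] at this
      obtain ⟨x, hxt, hy⟩ := this
      exact ⟨x, hxt, hy⟩
    refine ⟨max B m, ?_⟩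
    rw [DerivedCategory.isLE_iff]
    intro i hi
    have hi1 : B < i := lt_of_le_of_lt (le_max_left _ _) hi
    have hi2 : m < i := lt_of_le_of_lt (le_max_right _ _) hi
    refine IsZero.of_iso ?_ (hdIso e₀ i)
    apply isZero_of_locally
    intro y
    obtain ⟨x, hxt, hy⟩ := hcov y
    haveI := hiso x i hi2
    refine ⟨V x, (V x).ι, inferInstance, ⟨⟨y, hy⟩, rfl⟩, IsZero.of_iso ?_
      (asIso (homologyMapOfQ (α x) i) ≪≫ homologyRestrictIso (V x).ι F₀ i).symm⟩
    apply isZero_homology_of_isZero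
    apply hab x i
    have h1 := hB (b x) (Finset.mem_image_of_mem _ hxt)
    omega

theorem isPseudoCoherentD_iff_coh_bounded (X : Scheme.{u}) [IsNoetherian X] (E : DCoh.D X)
    (hE : DCoh.IsQCohD E) (m : ℤ) :
    DCoh.IsPseudoCoherentD m E ↔
      (∀ i : ℤ, m ≤ i → Coh.IsCoh (DCoh.HD E i)) ∧ ∃ b : ℤ, E.IsLE b := by
  constructor
  · exact coh_bounded_of_isPseudoCoherentD X E hE m
  · rintro ⟨hcoh, b, hb⟩
    exact isPseudoCoherentD_of_coh_bounded X m (b - m + 1).toNat E b hb (by omega) hcoh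

end Groth.Agent.Lead.PcLib
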