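import Mathlib
import Groth.Prelude.Def_DTor2
import Groth.Agent.Lead.FlatLib1
import Groth.Agent.Lead.FlatLib2
import Groth.Agent.Lead.PcLib9

/-!
# Pseudo-coherent complexes of finite tor dimension are perfect (S0913)
-/

set_option autoImplicit false
universe u
open CategoryTheory CategoryTheory.Limits AlgebraicGeometry

attribute [local instance] HasDerivedCategory.standard

namespace Groth.Agent.Lead.FlatLib
open Scheme.Modules Groth.Agent.Lead.LocLift Groth.Agent.Lead.PerfLib Groth.Agent.Lead.PcLib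

theorem kerClosed_isFlat (Y : Scheme.{u}) : KerClosed (fun M : Y.Modules => FlatMod.IsFlat M) where
  zero := fun _ h => isFlat_of_isZero h
  iso := fun e h => isFlat_of_iso e h
  ker := fun g hg hA hB => by
    haveI := hg
    exact isFlat_kernel_of_epi g hA hB
  biprod := fun hA hB => isFlat_biprod hA hB

/-- the cokernel of a map of finite locally free modules is finite locally free if it is flat. -/
theorem isFinLocFree_of_cokernel_of_isFlat {Y : Scheme.{u}} {A B M : Y.Modules} (t : A ⟶ B)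
    (e : cokernel t ≅ M) (hA : FlatMod.IsFinLocFree A) (hB : FlatMod.IsFinLocFree B)
    (hM : FlatMod.IsFlat M) : FlatMod.IsFinLocFree M := by
  haveI : A.IsQuasicoherent := Groth.Agent.Helper4.FinLocFree4.isQuasicoherent_of_isFinLocFree A hA
  haveI : B.IsQuasicoherent := Groth.Agent.Helper4.FinLocFree4.isQuasicoherent_of_isFinLocFree B hB
  haveI : (cokernel t).IsQuasicoherent := Groth.Agent.Helper4.QcohLimits.isQuasicoherent_cokernel t
  haveI : M.IsQuasicoherent := Groth.Agent.Helper4.QcohLimits.isQuasicoherent_of_iso e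
  have hfp : SheafOfModules.IsFinitePresentation (R := Y.ringCatSheaf) M := by
    apply isFinitePresentation_of_locally_cokernel
    intro y
    exact ⟨Y, 𝟙 Y, inferInstance, A, B, t, e ≪≫ (restrictFunctorId.app M).symm, ⟨y, rfl⟩, hA, hB⟩
  apply Groth.Agent.Helper4.FinLocFree2.isFinLocFree_of_fp_of_free_stalks M hfp
  intro x
  have hft : SheafOfModules.IsFiniteType (R := Y.ringCatSheaf) M :=
    @SheafOfModules.instIsFiniteTypeOfIsFinitePresentation _ _ _ Y.ringCatSheaf _ _ M hfp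
  haveI := Groth.Agent.Helper4.FinLocFree2.finite_stalk M hft x
  haveI : Module.Flat (Y.presheaf.stalk x) (M.presheaf.stalk x) := hM x
  exact Module.free_of_flat_of_isLocalRing

open CochainComplex HomologicalComplex in
theorem exists_sp_of_flat {Y : Scheme.{u}} {K Fl : CochainComplex Y.Modules ℤ} (β : K ⟶ Fl)
    (hK : DCoh.IsStrictlyPerfect K) (a b : ℤ) (hv : DCoh.VanishesOutside Fl a b)
    (hfl : ∀ i : ℤ, FlatMod.IsFlat (Fl.X i)) (hβ : ∀ i : ℤ, a ≤ i → QuasiIsoAt β i) :
    ∃ K' : CochainComplex Y.Modules ℤ, DCoh.IsStrictlyPerfect K' ∧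
      Nonempty (DerivedCategory.Q.obj Fl ≅ DerivedCategory.Q.obj K') := by
  obtain ⟨⟨aK, bK, hab⟩, hf⟩ := hK
  have hflat : FlatMod.IsFlat (K.opcycles a) :=
    opcycles_mem (kerClosed_isFlat Y) β a (max bK b) (fun i => isFlat_of_isFinLocFree (hf i))
      (fun i hi => hab i (Or.inr (lt_of_le_of_lt (le_max_left _ _) hi))) hfl
      (fun i hi => hv i (Or.inl hi))
      (fun i hi => hv i (Or.inr (lt_of_le_of_lt (le_max_right _ _) hi))) hβ
  have hP : FlatMod.IsFinLocFree (K.opcycles a) :=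
    isFinLocFree_of_cokernel_of_isFlat (K.d (a - 1) a)
      ((cokernelIsCokernel _).coconePointUniqueUpToIso (K.opcyclesIsCokernel (a - 1) a (by simp)))
      (hf _) (hf _) hflat
  haveI : Fl.IsStrictlyGE a := (Fl.isStrictlyGE_iff a).mpr (fun i hi => hv i (Or.inl hi))
  haveI : QuasiIso (truncGEMap β a) := (CochainComplex.quasiIso_truncGEMap_iff β a).mpr hβ
  haveI : QuasiIso (truncGEMap β a ≫ inv (Fl.πTruncGE a)) := inferInstance
  refine ⟨K.truncGE a, ⟨⟨a, max a bK, ?_⟩, ?_⟩,
    ⟨(asIso (DerivedCategory.Q.map (truncGEMap β a ≫ inv (Fl.πTruncGE a)))).symm⟩⟩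
  · rintro i (hi | hi)
    · exact (K.truncGE a).isZero_of_isStrictlyGE a i hi
    · have h1 : a < i := lt_of_le_of_lt (le_max_left _ _) hi
      have h2 : bK < i := lt_of_le_of_lt (le_max_right _ _) hi
      exact IsZero.of_iso (hab i (Or.inr h2)) (K.truncGEXIso a i h1)
  · intro i
    rcases lt_trichotomy i a with hi | rfl | hi
    · exact isFinLocFree_of_isZero ((K.truncGE a).isZero_of_isStrictlyGE a i hi)
    · exact Groth.Agent.Helper4.FinLocFree2.isFinLocFree_of_iso (K.truncGEXIsoOpcycles i).symm hP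
    · exact Groth.Agent.Helper4.FinLocFree2.isFinLocFree_of_iso (K.truncGEXIso a i hi).symm (hf i)

theorem locSP_of_flat_pc {Y : Scheme.{u}} {Fl : CochainComplex Y.Modules ℤ} (a b : ℤ)
    (hv : DCoh.VanishesOutside Fl a b) (hfl : ∀ i : ℤ, FlatMod.IsFlat (Fl.X i)) (y : Y)
    (h : LocPC (a - 1) Fl y) : LocSP Fl y := by
  obtain ⟨Z, j, hj, ⟨z, rfl⟩, E', α, hE', hα⟩ := h
  haveI := hj
  obtain ⟨W, hzW, β, hβ⟩ := exists_nhd_chain_map hE' α z
  have hQ : resD W.ι α = DerivedCategory.Q.map β := by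
    unfold resD
    rw [hβ]
    simp
  have hβq : IsQisAbove (a - 1) (DerivedCategory.Q.map β) := hQ ▸ isQisAbove_resD W.ι hα
  obtain ⟨h1, _⟩ := (isQisAbove_Q_map_iff β).mp hβq
  obtain ⟨K', hK', ⟨e⟩⟩ := exists_sp_of_flat β (isStrictlyPerfect_restrict _ hE') a b
    (fun i hi => (restrictFunctor W.ι).map_isZero ((restrictFunctor j).map_isZero (hv i hi)))
    (fun i => isFlat_restrict W.ι (isFlat_restrict j (hfl i)))
    (fun i hi => (quasiIsoAt_iff_isIso_homologyMap β i).mpr (h1 i (by omega)))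
  apply LocSP.of_restrict j
  exact ⟨W, W.ι, inferInstance, ⟨⟨z, hzW⟩, rfl⟩, K', hK', ⟨e⟩⟩

theorem isPerfect_of_flatAmplitude_of_pseudoCoherent {X : Scheme.{u}} (E : DCoh.D X) (a b : ℤ)
    (h1 : DCoh.HasFlatAmplitudeIn a b E) (h2 : DCoh.IsPseudoCoherentD (a - 1) E) :
    DCoh.IsPerfect E := by
  obtain ⟨Fl, hv, hfl, ⟨e⟩⟩ := h1
  rw [isPerfect_iff_locSP E Fl e]
  rw [isPseudoCoherentD_iff_locPC (a - 1) E Fl e] at h2
  exact fun x => locSP_of_flat_pc a b hv hfl x (h2 x)

end Groth.Agent.Lead.FlatLib
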