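import Mathlib
import Groth.Prelude.Def_DTor2
import Groth.Agent.Lead.FlatLib3

/-!
# Perfect iff pseudo-coherent and locally of finite tor dimension (S0914)
-/

set_option autoImplicit false
universe u
open CategoryTheory CategoryTheory.Limits AlgebraicGeometry

attribute [local instance] HasDerivedCategory.standard

namespace Groth.Agent.Lead.FlatLib
open Scheme.Modules Groth.Agent.Lead.LocLift Groth.Agent.Lead.PerfLib Groth.Agent.Lead.PcLib

theorem LocPC.restrict {Y Z : Scheme.{u}} (j : Z ⟶ Y) [IsOpenImmersion j] {m : ℤ}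
    {F : CochainComplex Y.Modules ℤ} {z : Z} (h : LocPC m F (j z)) :
    LocPC m ((Rc j).obj F) z := by
  obtain ⟨Z₁, j₁, hj₁, ⟨z₁, hz₁⟩, E, α, hE, hα⟩ := h
  haveI := hj₁
  obtain ⟨w, hw1, hw2⟩ := Scheme.Pullback.exists_preimage_pullback z₁ z hz₁
  obtain ⟨E', α', hE', hα'⟩ := LocPC.data_restrict j₁ (pullback.fst j₁ j)
    (pullback.fst j₁ j ≫ j₁) rfl α hE hα
  refine ⟨pullback j₁ j, pullback.snd j₁ j, inferInstance, ⟨w, hw2⟩, E',
    α' ≫ DerivedCategory.Q.map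
      (rcCompIso j (pullback.snd j₁ j) (pullback.fst j₁ j ≫ j₁) pullback.condition F).hom,
    hE', hα'.comp (IsQisAbove.of_isIso _ _)⟩

theorem isPerfect_iff_pc_locFiniteTorDim {X : Scheme.{u}} (E : DCoh.D X) :
    DCoh.IsPerfect E ↔ (∀ m : ℤ, DCoh.IsPseudoCoherentD m E) ∧ DCoh.LocHasFiniteTorDim E := by
  let F₀ : CochainComplex X.Modules ℤ := DerivedCategory.Q.objPreimage E
  let e₀ : DerivedCategory.Q.obj F₀ ≅ E := DerivedCategory.Q.objObjPreimageIso E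
  constructor
  · intro hE
    constructor
    · intro m x
      obtain ⟨V, hxV, hV⟩ := hE x
      refine ⟨V, hxV, fun F hF => ?_⟩
      obtain ⟨P, hP, ⟨ψ⟩⟩ := hV F hF
      exact ⟨P, ψ.inv, hP, fun i _ => inferInstance, inferInstance⟩
    · intro x
      obtain ⟨V, hxV, hV⟩ := hE x
      obtain ⟨P, ⟨⟨a, b, hab⟩, hfree⟩, ⟨ψ⟩⟩ := hV F₀ ⟨e₀⟩
      refine ⟨V, a, b, hxV, fun F' ⟨e'⟩ => ?_⟩
      exact ⟨P, hab, fun i => isFlat_of_isFinLocFree (hfree i),
        ⟨ψ.symm ≪≫ qRestrictIso V.ι (e₀ ≪≫ e'.symm)⟩⟩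
  · rintro ⟨hpc, htor⟩
    rw [isPerfect_iff_locSP E F₀ e₀]
    intro x
    obtain ⟨V, a, b, hxV, hV⟩ := htor x
    have hfa := hV F₀ ⟨e₀⟩
    have h1 := hpc (a - 1)
    rw [isPseudoCoherentD_iff_locPC (a - 1) E F₀ e₀] at h1
    have h2 : DCoh.IsPseudoCoherentD (a - 1)
        (DerivedCategory.Q.obj ((DCoh.restrictCx V).obj F₀)) := by
      rw [isPseudoCoherentD_iff_locPC (a - 1) _ ((DCoh.restrictCx V).obj F₀) (Iso.refl _)]
      intro v
      exact LocPC.restrict V.ι (h1 (V.ι v))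
    have h3 := isPerfect_of_flatAmplitude_of_pseudoCoherent _ a b hfa h2
    rw [isPerfect_iff_locSP _ ((DCoh.restrictCx V).obj F₀) (Iso.refl _)] at h3
    exact LocSP.of_restrict V.ι (h3 ⟨x, hxV⟩)

end Groth.Agent.Lead.FlatLib
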