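import Mathlib
import Groth.Prelude.Def_DTor2
import Groth.Agent.Lead.FlatLib4

/-!
# Direct summands of perfect objects (S0924)
-/

set_option autoImplicit false
universe u
open CategoryTheory CategoryTheory.Limits AlgebraicGeometry

attribute [local instance] HasDerivedCategory.standard

namespace Groth.Agent.Lead.FlatLib
open Scheme.Modules Groth.Agent.Lead.LocLift Groth.Agent.Lead.PerfLib Groth.Agent.Lead.PcLib

section Sum
variable {𝒜 : Type*} [Category 𝒜] [Preadditive 𝒜] {A A₁ A₂ B B₁ B₂ : 𝒜}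
  (p₁ : A ⟶ A₁) (p₂ : A ⟶ A₂) (i₁ : A₁ ⟶ A) (i₂ : A₂ ⟶ A)
  (q₁ : B ⟶ B₁) (q₂ : B ⟶ B₂) (k₁ : B₁ ⟶ B) (k₂ : B₂ ⟶ B)
  (hA : p₁ ≫ i₁ + p₂ ≫ i₂ = 𝟙 A) (hB : q₁ ≫ k₁ + q₂ ≫ k₂ = 𝟙 B)
  (hk11 : k₁ ≫ q₁ = 𝟙 _) (hk22 : k₂ ≫ q₂ = 𝟙 _) (hk12 : k₁ ≫ q₂ = 0) (hk21 : k₂ ≫ q₁ = 0)
  (hi11 : i₁ ≫ p₁ = 𝟙 _) (hi22 : i₂ ≫ p₂ = 𝟙 _) (hi12 : i₁ ≫ p₂ = 0) (hi21 : i₂ ≫ p₁ = 0)
  (a₁ : A₁ ⟶ B₁) (a₂ : A₂ ⟶ B₂)

include hA hB hk11 hk22 hk12 hk21 hi11 hi22 hi12 hi21 in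
theorem sum_isIso [IsIso a₁] [IsIso a₂] : IsIso (p₁ ≫ a₁ ≫ k₁ + p₂ ≫ a₂ ≫ k₂) := by
  refine ⟨⟨q₁ ≫ inv a₁ ≫ i₁ + q₂ ≫ inv a₂ ≫ i₂, ?_, ?_⟩⟩
  · simp only [Preadditive.add_comp, Preadditive.comp_add, Category.assoc]
    rw [reassoc_of% hk11, reassoc_of% hk12, reassoc_of% hk21, reassoc_of% hk22]
    simp only [zero_comp, comp_zero, add_zero, zero_add, IsIso.hom_inv_id_assoc]
    exact hA
  · simp only [Preadditive.add_comp, Preadditive.comp_add, Category.assoc]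
    rw [reassoc_of% hi11, reassoc_of% hi12, reassoc_of% hi21, reassoc_of% hi22]
    simp only [zero_comp, comp_zero, add_zero, zero_add, IsIso.inv_hom_id_assoc]
    exact hB

include hB hi11 hi22 hi12 hi21 in
theorem sum_epi [Epi a₁] [Epi a₂] : Epi (p₁ ≫ a₁ ≫ k₁ + p₂ ≫ a₂ ≫ k₂) := by
  apply Preadditive.epi_of_cancel_zero
  intro T t ht
  have h1 : a₁ ≫ k₁ ≫ t = 0 := by
    have := congrArg (fun f => i₁ ≫ f) ht
    simp only [Preadditive.add_comp, Preadditive.comp_add, Category.assoc, comp_zero] at this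
    rw [reassoc_of% hi11, reassoc_of% hi12] at this
    simpa using this
  have h2 : a₂ ≫ k₂ ≫ t = 0 := by
    have := congrArg (fun f => i₂ ≫ f) ht
    simp only [Preadditive.add_comp, Preadditive.comp_add, Category.assoc, comp_zero] at this
    rw [reassoc_of% hi21, reassoc_of% hi22] at this
    simpa using this
  have h1' : k₁ ≫ t = 0 := by rwa [← cancel_epi a₁, comp_zero]
  have h2' : k₂ ≫ t = 0 := by rwa [← cancel_epi a₂, comp_zero]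
  calc t = (q₁ ≫ k₁ + q₂ ≫ k₂) ≫ t := by rw [hB, Category.id_comp]
    _ = 0 := by
      simp only [Preadditive.add_comp, Category.assoc, h1', h2', comp_zero, add_zero]

end Sum

section QSum
variable {C : Type*} [Category C] [Abelian C] [HasDerivedCategory C]
open DerivedCategory

theorem isQisAbove_sum {m : ℤ} {E₁ E₂ G₁ G₂ GS : CochainComplex C ℤ}
    (i₁ : G₁ ⟶ GS) (i₂ : G₂ ⟶ GS) (p₁ : GS ⟶ G₁) (p₂ : GS ⟶ G₂)
    (h11 : i₁ ≫ p₁ = 𝟙 _) (h22 : i₂ ≫ p₂ = 𝟙 _) (h12 : i₁ ≫ p₂ = 0) (h21 : i₂ ≫ p₁ = 0)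
    (htot : p₁ ≫ i₁ + p₂ ≫ i₂ = 𝟙 _)
    (α₁ : Q.obj E₁ ⟶ Q.obj G₁) (α₂ : Q.obj E₂ ⟶ Q.obj G₂)
    (hα₁ : IsQisAbove m α₁) (hα₂ : IsQisAbove m α₂) :
    IsQisAbove m (Q.map (biprod.fst : E₁ ⊞ E₂ ⟶ E₁) ≫ α₁ ≫ Q.map i₁ +
      Q.map (biprod.snd : E₁ ⊞ E₂ ⟶ E₂) ≫ α₂ ≫ Q.map i₂) := by
  have key : ∀ n : ℤ, (homologyFunctor C n).map
      (Q.map (biprod.fst : E₁ ⊞ E₂ ⟶ E₁) ≫ α₁ ≫ Q.map i₁ +
        Q.map (biprod.snd : E₁ ⊞ E₂ ⟶ E₂) ≫ α₂ ≫ Q.map i₂) =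
      (Q ⋙ homologyFunctor C n).map (biprod.fst : E₁ ⊞ E₂ ⟶ E₁) ≫
        (homologyFunctor C n).map α₁ ≫ (Q ⋙ homologyFunctor C n).map i₁ +
      (Q ⋙ homologyFunctor C n).map (biprod.snd : E₁ ⊞ E₂ ⟶ E₂) ≫
        (homologyFunctor C n).map α₂ ≫ (Q ⋙ homologyFunctor C n).map i₂ := by
    intro n
    simp only [Functor.map_add, Functor.map_comp, Functor.comp_map]
  have hA : ∀ n : ℤ, (Q ⋙ homologyFunctor C n).map (biprod.fst : E₁ ⊞ E₂ ⟶ E₁) ≫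
      (Q ⋙ homologyFunctor C n).map biprod.inl +
      (Q ⋙ homologyFunctor C n).map (biprod.snd : E₁ ⊞ E₂ ⟶ E₂) ≫
      (Q ⋙ homologyFunctor C n).map biprod.inr = 𝟙 _ := by
    intro n
    rw [← Functor.map_comp, ← Functor.map_comp, ← Functor.map_add, biprod.total,
      CategoryTheory.Functor.map_id]
  have hB : ∀ n : ℤ, (Q ⋙ homologyFunctor C n).map p₁ ≫ (Q ⋙ homologyFunctor C n).map i₁ +
      (Q ⋙ homologyFunctor C n).map p₂ ≫ (Q ⋙ homologyFunctor C n).map i₂ = 𝟙 _ := by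
    intro n
    rw [← Functor.map_comp, ← Functor.map_comp, ← Functor.map_add, htot,
      CategoryTheory.Functor.map_id]
  have e11 : ∀ n : ℤ, (Q ⋙ homologyFunctor C n).map i₁ ≫ (Q ⋙ homologyFunctor C n).map p₁ = 𝟙 _ :=
    fun n => by rw [← Functor.map_comp, h11, CategoryTheory.Functor.map_id]
  have e22 : ∀ n : ℤ, (Q ⋙ homologyFunctor C n).map i₂ ≫ (Q ⋙ homologyFunctor C n).map p₂ = 𝟙 _ :=
    fun n => by rw [← Functor.map_comp, h22, CategoryTheory.Functor.map_id]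
  have e12 : ∀ n : ℤ, (Q ⋙ homologyFunctor C n).map i₁ ≫ (Q ⋙ homologyFunctor C n).map p₂ = 0 :=
    fun n => by rw [← Functor.map_comp, h12, Functor.map_zero]
  have e21 : ∀ n : ℤ, (Q ⋙ homologyFunctor C n).map i₂ ≫ (Q ⋙ homologyFunctor C n).map p₁ = 0 :=
    fun n => by rw [← Functor.map_comp, h21, Functor.map_zero]
  have f11 : ∀ n : ℤ, (Q ⋙ homologyFunctor C n).map (biprod.inl : E₁ ⟶ E₁ ⊞ E₂) ≫
      (Q ⋙ homologyFunctor C n).map biprod.fst = 𝟙 _ :=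
    fun n => by rw [← Functor.map_comp, biprod.inl_fst, CategoryTheory.Functor.map_id]
  have f22 : ∀ n : ℤ, (Q ⋙ homologyFunctor C n).map (biprod.inr : E₂ ⟶ E₁ ⊞ E₂) ≫
      (Q ⋙ homologyFunctor C n).map biprod.snd = 𝟙 _ :=
    fun n => by rw [← Functor.map_comp, biprod.inr_snd, CategoryTheory.Functor.map_id]
  have f12 : ∀ n : ℤ, (Q ⋙ homologyFunctor C n).map (biprod.inl : E₁ ⟶ E₁ ⊞ E₂) ≫
      (Q ⋙ homologyFunctor C n).map biprod.snd = 0 :=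
    fun n => by rw [← Functor.map_comp, biprod.inl_snd, Functor.map_zero]
  have f21 : ∀ n : ℤ, (Q ⋙ homologyFunctor C n).map (biprod.inr : E₂ ⟶ E₁ ⊞ E₂) ≫
      (Q ⋙ homologyFunctor C n).map biprod.fst = 0 :=
    fun n => by rw [← Functor.map_comp, biprod.inr_fst, Functor.map_zero]
  refine ⟨fun n hn => ?_, ?_⟩
  · rw [key n]
    haveI := hα₁.1 n hn
    haveI := hα₂.1 n hn
    exact sum_isIso _ _ _ _ _ _ _ _ (hA n) (hB n) (e11 n) (e22 n) (e12 n) (e21 n)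
      (f11 n) (f22 n) (f12 n) (f21 n) _ _
  · rw [key m]
    haveI := hα₁.2
    haveI := hα₂.2
    exact sum_epi _ _ _ _ _ _ _ _ (hB m) (f11 m) (f22 m) (f12 m) (f21 m) _ _

end QSum

section Retract
open Groth.Agent.Helper4.StalkDict Groth.Agent.Helper4.StalkExact

theorem isFlat_of_retract {Y : Scheme.{u}} {M N : Y.Modules} (i : M ⟶ N) (r : N ⟶ M)
    (h : i ≫ r = 𝟙 M) (hN : FlatMod.IsFlat N) : FlatMod.IsFlat M := by
  intro x
  haveI : Module.Flat (Y.presheaf.stalk x) (N.presheaf.stalk x) := hN x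
  refine Module.Flat.of_retract (stalkLin i x) (stalkLin r x) ?_
  apply LinearMap.ext
  intro m
  obtain ⟨V, hxV, m₀, rfl⟩ := TopCat.Presheaf.exists_germ_eq M.presheaf m
  rw [LinearMap.comp_apply, stalkLin_germ, stalkLin_germ, LinearMap.id_apply]
  have : r.app V (i.app V m₀) = m₀ := by
    have h2 := congrArg (fun φ => (Scheme.Modules.Hom.app φ V) m₀) h
    simpa using h2
  rw [this]

end Retract

open CochainComplex HomologicalComplex in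
theorem exists_sp_of_flat_opcycles {Y : Scheme.{u}} {K G : CochainComplex Y.Modules ℤ}
    (β : K ⟶ G) (hK : DCoh.IsStrictlyPerfect K) (a : ℤ) (hG : ∀ i : ℤ, i < a → IsZero (G.X i))
    (hβ : ∀ i : ℤ, a ≤ i → QuasiIsoAt β i) (hflat : FlatMod.IsFlat (K.opcycles a)) :
    ∃ K' : CochainComplex Y.Modules ℤ, DCoh.IsStrictlyPerfect K' ∧
      Nonempty (DerivedCategory.Q.obj G ≅ DerivedCategory.Q.obj K') := by
  obtain ⟨⟨aK, bK, hab⟩, hf⟩ := hK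
  have hP : FlatMod.IsFinLocFree (K.opcycles a) :=
    isFinLocFree_of_cokernel_of_isFlat (K.d (a - 1) a)
      ((cokernelIsCokernel _).coconePointUniqueUpToIso (K.opcyclesIsCokernel (a - 1) a (by simp)))
      (hf _) (hf _) hflat
  haveI : G.IsStrictlyGE a := (G.isStrictlyGE_iff a).mpr (fun i hi => hG i hi)
  haveI : QuasiIso (truncGEMap β a) := (CochainComplex.quasiIso_truncGEMap_iff β a).mpr hβ
  haveI : QuasiIso (truncGEMap β a ≫ inv (G.πTruncGE a)) := inferInstance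
  refine ⟨K.truncGE a, ⟨⟨a, max a bK, ?_⟩, ?_⟩,
    ⟨(asIso (DerivedCategory.Q.map (truncGEMap β a ≫ inv (G.πTruncGE a)))).symm⟩⟩
  · rintro i (hi | hi)
    · exact (K.truncGE a).isZero_of_isStrictlyGE a i hi
    · have h1 : a < i := lt_of_le_of_lt (le_max_left _ _) hi
      have h2 : bK < i := lt_of_le_of_lt (le_max_right _ _) hi
      exact IsZero.of_iso (hab i (Or.inr h2)) (K.truncGEXIso a i h1)
  · intro i
    rcases lt_trichotomy i a with hi | rfl | hi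
    · exact isFinLocFree_of_isZero ((K.truncGE a).isZero_of_isStrictlyGE a i hi)
    · exact Groth.Agent.Helper4.FinLocFree2.isFinLocFree_of_iso (K.truncGEXIsoOpcycles i).symm hP
    · exact Groth.Agent.Helper4.FinLocFree2.isFinLocFree_of_iso (K.truncGEXIso a i hi).symm (hf i)

theorem isStrictlyPerfect_biprod {Y : Scheme.{u}} {E₁ E₂ : CochainComplex Y.Modules ℤ}
    (h₁ : DCoh.IsStrictlyPerfect E₁) (h₂ : DCoh.IsStrictlyPerfect E₂) :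
    DCoh.IsStrictlyPerfect (E₁ ⊞ E₂) := by
  obtain ⟨⟨a₁, b₁, hab₁⟩, hf₁⟩ := h₁
  obtain ⟨⟨a₂, b₂, hab₂⟩, hf₂⟩ := h₂
  refine ⟨⟨min a₁ a₂, max b₁ b₂, fun i hi => ?_⟩, fun i => ?_⟩
  · refine IsZero.of_iso (isZero_biprod' (hab₁ i ?_) (hab₂ i ?_)) (HomologicalComplex.biprodXIso E₁ E₂ i)
    · rcases hi with hi | hi
      · exact Or.inl (lt_of_lt_of_le hi (min_le_left _ _))
      · exact Or.inr (lt_of_le_of_lt (le_max_left _ _) hi)
    · rcases hi with hi | hi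
      · exact Or.inl (lt_of_lt_of_le hi (min_le_right _ _))
      · exact Or.inr (lt_of_le_of_lt (le_max_right _ _) hi)
  · exact Groth.Agent.Helper4.FinLocFree2.isFinLocFree_of_iso
      (HomologicalComplex.biprodXIso E₁ E₂ i).symm (isFinLocFree_biprod (hf₁ i) (hf₂ i))

open DerivedCategory CochainComplex HomologicalComplex in
theorem locSP_of_summand_aux {Z : Scheme.{u}} {G₁ G₂ GS P E₁ E₂ : CochainComplex Z.Modules ℤ}
    (i₁ : G₁ ⟶ GS) (i₂ : G₂ ⟶ GS) (p₁ : GS ⟶ G₁) (p₂ : GS ⟶ G₂)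
    (h11 : i₁ ≫ p₁ = 𝟙 _) (h22 : i₂ ≫ p₂ = 𝟙 _) (h12 : i₁ ≫ p₂ = 0) (h21 : i₂ ≫ p₁ = 0)
    (htot : p₁ ≫ i₁ + p₂ ≫ i₂ = 𝟙 _)
    (ψ : Q.obj GS ≅ Q.obj P) (a b : ℤ) (hab : ∀ i : ℤ, i < a ∨ b < i → IsZero (P.X i))
    (hPf : ∀ i : ℤ, FlatMod.IsFinLocFree (P.X i))
    (hE₁ : DCoh.IsStrictlyPerfect E₁) (hE₂ : DCoh.IsStrictlyPerfect E₂)
    (α₁ : Q.obj E₁ ⟶ Q.obj G₁) (α₂ : Q.obj E₂ ⟶ Q.obj G₂)
    (hα₁ : IsQisAbove (a - 1) α₁) (hα₂ : IsQisAbove (a - 1) α₂) (z : Z) : LocSP G₁ z := by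
  have hγ := (isQisAbove_sum i₁ i₂ p₁ p₂ h11 h22 h12 h21 htot α₁ α₂ hα₁ hα₂).comp
    (IsQisAbove.of_isIso (a - 1) ψ.hom)
  obtain ⟨γ', hγ'def⟩ : ∃ γ' : Q.obj (E₁ ⊞ E₂) ⟶ Q.obj P, γ' =
      (Q.map (biprod.fst : E₁ ⊞ E₂ ⟶ E₁) ≫ α₁ ≫ Q.map i₁ +
        Q.map (biprod.snd : E₁ ⊞ E₂ ⟶ E₂) ≫ α₂ ≫ Q.map i₂) ≫ ψ.hom := ⟨_, rfl⟩
  rw [← hγ'def] at hγ
  -- `G₁` has no cohomology below `a`
  have hG₁z : ∀ n : ℤ, n < a → IsZero (G₁.homology n) := by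
    intro n hn
    have hzP : IsZero ((homologyFunctor Z.Modules n).obj (Q.obj P)) :=
      IsZero.of_iso (isZero_homology_of_isZero P n (hab n (Or.inl hn)))
        ((homologyFunctorFactors Z.Modules n).app P)
    have hzS : IsZero ((homologyFunctor Z.Modules n).obj (Q.obj GS)) :=
      IsZero.of_iso hzP ((homologyFunctor Z.Modules n).mapIso ψ)
    have hr : (homologyFunctor Z.Modules n).map (Q.map i₁) ≫
        (homologyFunctor Z.Modules n).map (Q.map p₁) = 𝟙 _ := by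
      rw [← Functor.map_comp, ← Functor.map_comp, h11, CategoryTheory.Functor.map_id,
        CategoryTheory.Functor.map_id]
    have h0 : IsZero ((homologyFunctor Z.Modules n).obj (Q.obj G₁)) := by
      rw [IsZero.iff_id_eq_zero, ← hr,
        hzS.eq_of_tgt ((homologyFunctor Z.Modules n).map (Q.map i₁)) 0, zero_comp]
    exact IsZero.of_iso h0 ((homologyFunctorFactors Z.Modules n).app G₁).symm
  haveI : G₁.IsGE a := (G₁.isGE_iff a).mpr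
    (fun i hi => (exactAt_iff_isZero_homology _ _).mpr (hG₁z i hi))
  haveI : IsIso (Q.map (G₁.πTruncGE a)) := (isIso_Q_map_iff_quasiIso (φ := G₁.πTruncGE a)).mpr inferInstance
  obtain ⟨α₁', hα₁'def⟩ : ∃ α₁' : Q.obj E₁ ⟶ Q.obj (G₁.truncGE a),
      α₁' = α₁ ≫ Q.map (G₁.πTruncGE a) := ⟨_, rfl⟩
  have hα₁' : IsQisAbove (a - 1) α₁' := by
    rw [hα₁'def]
    exact hα₁.comp (IsQisAbove.of_isIso _ _)
  -- the combined morphism
  obtain ⟨δ, hδdef⟩ : ∃ δ : Q.obj (E₁ ⊞ E₂) ⟶ Q.obj (P ⊞ G₁.truncGE a),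
      δ = γ' ≫ Q.map biprod.inl + Q.map (biprod.fst : E₁ ⊞ E₂ ⟶ E₁) ≫ α₁' ≫ Q.map biprod.inr :=
    ⟨_, rfl⟩
  have hδ1 : δ ≫ Q.map (biprod.fst : P ⊞ G₁.truncGE a ⟶ P) = γ' := by
    rw [hδdef]
    simp only [Preadditive.add_comp, Category.assoc, ← Functor.map_comp, biprod.inl_fst,
      biprod.inr_fst, CategoryTheory.Functor.map_id, Functor.map_zero, comp_zero, add_zero,
      Category.comp_id]
  have hδ2 : Q.map (biprod.inl : E₁ ⟶ E₁ ⊞ E₂) ≫ δ ≫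
      Q.map (biprod.snd : P ⊞ G₁.truncGE a ⟶ G₁.truncGE a) = α₁' := by
    rw [hδdef]
    simp only [Preadditive.add_comp, Category.assoc, ← Functor.map_comp,
      biprod.inl_snd, biprod.inr_snd, CategoryTheory.Functor.map_id, Functor.map_zero, comp_zero,
      zero_add, Category.comp_id]
    rw [← Functor.map_comp_assoc, biprod.inl_fst, CategoryTheory.Functor.map_id, Category.id_comp]
  obtain ⟨W, hzW, δt, hδt⟩ := exists_nhd_chain_map (isStrictlyPerfect_biprod hE₁ hE₂) δ z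
  have hQδ : resD W.ι δ = Q.map δt := by
    unfold resD
    rw [hδt]
    simp
  obtain ⟨β, hβdef⟩ : ∃ β : (Rc W.ι).obj (E₁ ⊞ E₂) ⟶ (Rc W.ι).obj P,
      β = δt ≫ (Rc W.ι).map (biprod.fst : P ⊞ G₁.truncGE a ⟶ P) := ⟨_, rfl⟩
  have hQβ : Q.map β = resD W.ι γ' := by
    rw [hβdef, Functor.map_comp, ← hQδ, ← resD_Q_map, ← resD_comp, hδ1]
  obtain ⟨β₁, hβ₁def⟩ : ∃ β₁ : (Rc W.ι).obj E₁ ⟶ (Rc W.ι).obj (G₁.truncGE a),
      β₁ = (Rc W.ι).map (biprod.inl : E₁ ⟶ E₁ ⊞ E₂) ≫ δt ≫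
        (Rc W.ι).map (biprod.snd : P ⊞ G₁.truncGE a ⟶ G₁.truncGE a) := ⟨_, rfl⟩
  have hQβ₁ : Q.map β₁ = resD W.ι α₁' := by
    rw [hβ₁def, Functor.map_comp, Functor.map_comp, ← hQδ, ← resD_Q_map, ← resD_Q_map,
      ← resD_comp, ← resD_comp, hδ2]
  have hβq : ∀ i : ℤ, a ≤ i → QuasiIsoAt β i := by
    have h1 := (isQisAbove_Q_map_iff β).mp (hQβ ▸ isQisAbove_resD W.ι hγ)
    exact fun i hi => (quasiIsoAt_iff_isIso_homologyMap β i).mpr (h1.1 i (by omega))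
  have hβ₁q : ∀ i : ℤ, a ≤ i → QuasiIsoAt β₁ i := by
    have h1 := (isQisAbove_Q_map_iff β₁).mp (hQβ₁ ▸ isQisAbove_resD W.ι hα₁')
    exact fun i hi => (quasiIsoAt_iff_isIso_homologyMap β₁ i).mpr (h1.1 i (by omega))
  obtain ⟨⟨aS, bS, habS⟩, hfS⟩ := isStrictlyPerfect_restrict W.ι (isStrictlyPerfect_biprod hE₁ hE₂)
  have hflatS : FlatMod.IsFlat (((Rc W.ι).obj (E₁ ⊞ E₂)).opcycles a) :=
    opcycles_mem (kerClosed_isFlat _) β a (max bS b) (fun i => isFlat_of_isFinLocFree (hfS i))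
      (fun i hi => habS i (Or.inr (lt_of_le_of_lt (le_max_left _ _) hi)))
      (fun i => isFlat_of_isFinLocFree (isFinLocFree_restrict (hPf i) W.ι))
      (fun i hi => (restrictFunctor W.ι).map_isZero (hab i (Or.inl hi)))
      (fun i hi => (restrictFunctor W.ι).map_isZero
        (hab i (Or.inr (lt_of_le_of_lt (le_max_right _ _) hi)))) hβq
  have hflat₁ : FlatMod.IsFlat (((Rc W.ι).obj E₁).opcycles a) := by
    refine isFlat_of_retract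
      (HomologicalComplex.opcyclesMap ((Rc W.ι).map (biprod.inl : E₁ ⟶ E₁ ⊞ E₂)) a)
      (HomologicalComplex.opcyclesMap ((Rc W.ι).map (biprod.fst : E₁ ⊞ E₂ ⟶ E₁)) a) ?_ hflatS
    rw [← HomologicalComplex.opcyclesMap_comp, ← Functor.map_comp, biprod.inl_fst,
      CategoryTheory.Functor.map_id, HomologicalComplex.opcyclesMap_id]
  obtain ⟨K', hK', ⟨e⟩⟩ := exists_sp_of_flat_opcycles β₁ (isStrictlyPerfect_restrict _ hE₁) a
    (fun i hi => (restrictFunctor W.ι).map_isZero ((G₁.truncGE a).isZero_of_isStrictlyGE a i hi))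
    hβ₁q hflat₁
  exact ⟨W, W.ι, inferInstance, ⟨⟨z, hzW⟩, rfl⟩, K', hK',
    ⟨qRestrictIso W.ι (asIso (Q.map (G₁.πTruncGE a))) ≪≫ e⟩⟩

open DerivedCategory in
theorem locSP_of_summand {Y : Scheme.{u}} {F₁ F₂ : CochainComplex Y.Modules ℤ} (y : Y)
    (hsum : LocSP (F₁ ⊞ F₂) y) (h₁ : ∀ m : ℤ, LocPC m F₁ y) (h₂ : ∀ m : ℤ, LocPC m F₂ y) :
    LocSP F₁ y := by
  obtain ⟨Z₀, j₀, hj₀, ⟨z₀, rfl⟩, P, ⟨⟨a, b, hab⟩, hPf⟩, ⟨ψ⟩⟩ := hsum
  obtain ⟨Z₁, j₁, hj₁, z₁, hz₁, E₁, E₂, α₁, α₂, hE₁, hE₂, hα₁, hα₂⟩ :=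
    LocPC.common (h₁ (a - 1)) (h₂ (a - 1))
  haveI := hj₀
  haveI := hj₁
  obtain ⟨z, hz0, hz1⟩ := Scheme.Pullback.exists_preimage_pullback z₀ z₁ hz₁.symm
  obtain ⟨E₁', α₁', hE₁', hα₁'⟩ := LocPC.data_restrict j₁ (pullback.snd j₀ j₁)
    (pullback.fst j₀ j₁ ≫ j₀) pullback.condition α₁ hE₁ hα₁
  obtain ⟨E₂', α₂', hE₂', hα₂'⟩ := LocPC.data_restrict j₁ (pullback.snd j₀ j₁)
    (pullback.fst j₀ j₁ ≫ j₀) pullback.condition α₂ hE₂ hα₂
  have key := locSP_of_summand_aux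
    ((Rc (pullback.fst j₀ j₁ ≫ j₀)).map (biprod.inl : F₁ ⟶ F₁ ⊞ F₂))
    ((Rc (pullback.fst j₀ j₁ ≫ j₀)).map (biprod.inr : F₂ ⟶ F₁ ⊞ F₂))
    ((Rc (pullback.fst j₀ j₁ ≫ j₀)).map (biprod.fst : F₁ ⊞ F₂ ⟶ F₁))
    ((Rc (pullback.fst j₀ j₁ ≫ j₀)).map (biprod.snd : F₁ ⊞ F₂ ⟶ F₂))
    (by rw [← Functor.map_comp, biprod.inl_fst, CategoryTheory.Functor.map_id])
    (by rw [← Functor.map_comp, biprod.inr_snd, CategoryTheory.Functor.map_id])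
    (by rw [← Functor.map_comp, biprod.inl_snd, Functor.map_zero])
    (by rw [← Functor.map_comp, biprod.inr_fst, Functor.map_zero])
    (by rw [← Functor.map_comp, ← Functor.map_comp, ← Functor.map_add, biprod.total,
      CategoryTheory.Functor.map_id])
    (Q.mapIso (rcCompIso j₀ (pullback.fst j₀ j₁) (pullback.fst j₀ j₁ ≫ j₀) rfl (F₁ ⊞ F₂)) ≪≫
      qRestrictIso (pullback.fst j₀ j₁) ψ) a b
    (fun i hi => (restrictFunctor (pullback.fst j₀ j₁)).map_isZero (hab i hi))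
    (fun i => isFinLocFree_restrict (hPf i) (pullback.fst j₀ j₁))
    hE₁' hE₂' α₁' α₂' hα₁' hα₂' z
  have h3 := LocSP.of_restrict (pullback.fst j₀ j₁ ≫ j₀) key
  have e : (pullback.fst j₀ j₁ ≫ j₀) z = j₀ z₀ := by
    rw [← hz0]
    rfl
  rwa [e] at h3

open DerivedCategory in
theorem isPerfect_of_biprod {X : Scheme.{u}} (K L : DCoh.D X) (h : DCoh.IsPerfect (K ⊞ L)) :
    DCoh.IsPerfect K ∧ DCoh.IsPerfect L := by
  let F₁ : CochainComplex X.Modules ℤ := Q.objPreimage K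
  let e₁ : Q.obj F₁ ≅ K := Q.objObjPreimageIso K
  let F₂ : CochainComplex X.Modules ℤ := Q.objPreimage L
  let e₂ : Q.obj F₂ ≅ L := Q.objObjPreimageIso L
  haveI : PreservesBiproductsOfShape WalkingPair (Q : CochainComplex X.Modules ℤ ⥤ _) :=
    PreservesFiniteBiproducts.preserves
  haveI : PreservesBinaryBiproducts (Q : CochainComplex X.Modules ℤ ⥤ _) :=
    preservesBinaryBiproducts_of_preservesBiproducts _
  let eS : Q.obj (F₁ ⊞ F₂) ≅ K ⊞ L := Q.mapBiprod F₁ F₂ ≪≫ biprod.mapIso e₁ e₂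
  have hpc : ∀ m : ℤ, DCoh.IsPseudoCoherentD m (K ⊞ L) :=
    ((isPerfect_iff_pc_locFiniteTorDim _).mp h).1
  have hK : ∀ (m : ℤ) (x : X), LocPC m F₁ x := fun m x =>
    (isPseudoCoherentD_iff_locPC m K F₁ e₁).mp (isPseudoCoherentD_biprod m K L (hpc m)).1 x
  have hL : ∀ (m : ℤ) (x : X), LocPC m F₂ x := fun m x =>
    (isPseudoCoherentD_iff_locPC m L F₂ e₂).mp (isPseudoCoherentD_biprod m K L (hpc m)).2 x
  rw [isPerfect_iff_locSP (K ⊞ L) (F₁ ⊞ F₂) eS] at h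
  rw [isPerfect_iff_locSP K F₁ e₁, isPerfect_iff_locSP L F₂ e₂]
  refine ⟨fun x => locSP_of_summand x (h x) (fun m => hK m x) (fun m => hL m x), fun x => ?_⟩
  exact locSP_of_summand x (LocSP.of_iso (Q.mapIso (biprod.braiding F₁ F₂)) (h x))
    (fun m => hL m x) (fun m => hK m x)

theorem isPerfect_of_bilimit {X : Scheme.{u}} {K L : DCoh.D X} (b : BinaryBicone K L)
    (hb : b.IsBilimit) (h : DCoh.IsPerfect b.pt) : DCoh.IsPerfect K ∧ DCoh.IsPerfect L :=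
  isPerfect_of_biprod K L (isPerfect_of_iso (biprod.uniqueUpToIso K L hb) h)

end Groth.Agent.Lead.FlatLib
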