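import Mathlib
import Groth.Prelude.Def_DTor2
import Groth.Agent.Lead.FlatLib5

/-!
# The locus where the cohomology sheaves of a perfect complex are finite free (S0892)
-/

set_option autoImplicit false
universe u
open CategoryTheory CategoryTheory.Limits AlgebraicGeometry

attribute [local instance] HasDerivedCategory.standard

namespace Groth.Agent.Lead.FreeLocus
open Scheme.Modules Groth.Agent.Lead.LocLift Groth.Agent.Lead.PerfLib Groth.Agent.Lead.PcLib
  Groth.Agent.Lead.FlatLib Groth.Agent.Helper4.StalkDict Groth.Agent.Helper4.StalkExact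
  Groth.Agent.Helper4.FinLocFree

section Algebra

theorem free_of_semilinearEquiv {R S : Type u} [CommRing R] [CommRing S] (σ : R ≃+* S)
    {M N : Type u} [AddCommGroup M] [Module R M] [AddCommGroup N] [Module S N]
    (e : M ≃+ N) (he : ∀ (r : R) (m : M), e (r • m) = σ r • e m) [Module.Free R M] :
    Module.Free S N := by
  letI : RingHomInvPair (σ : R →+* S) (σ.symm : S →+* R) := RingHomInvPair.of_ringEquiv σ
  letI : RingHomInvPair (σ.symm : S →+* R) (σ : R →+* S) := RingHomInvPair.symm _ _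
  let e₂ : M ≃ₛₗ[(σ : R →+* S)] N := { e with map_smul' := fun r m => he r m }
  exact Module.Free.of_equiv e₂

theorem finite_of_semilinearEquiv {R S : Type u} [CommRing R] [CommRing S] (σ : R ≃+* S)
    {M N : Type u} [AddCommGroup M] [Module R M] [AddCommGroup N] [Module S N]
    (e : M ≃+ N) (he : ∀ (r : R) (m : M), e (r • m) = σ r • e m) [Module.Finite R M] :
    Module.Finite S N := by
  let f : M →ₛₗ[(σ : R →+* S)] N := { e.toAddMonoidHom with map_smul' := fun r m => he r m }
  exact Module.Finite.of_surjective f e.surjective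

end Algebra

section Pointwise
variable {Y Z : Scheme.{u}}

/-- the stalk of `M` at `y` is flat. -/
def FlatAt (M : Y.Modules) (y : Y) : Prop :=
  Module.Flat (Y.presheaf.stalk y) (M.presheaf.stalk y)

theorem FlatAt.of_iso {M N : Y.Modules} (e : M ≅ N) {y : Y} (h : FlatAt M y) : FlatAt N y := by
  haveI : Module.Flat (Y.presheaf.stalk y) (M.presheaf.stalk y) := h
  have hbij : Function.Bijective (stalkLin e.hom y) :=
    ⟨stalkLin_injective e.hom y, Groth.Agent.Helper4.EpiStalk.stalkLin_surjective_of_epi e.hom y⟩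
  exact Module.Flat.of_linearEquiv (LinearEquiv.ofBijective (stalkLin e.hom y) hbij).symm

theorem FlatAt.of_isZero {M : Y.Modules} (hM : IsZero M) (y : Y) : FlatAt M y := by
  haveI := Groth.Agent.Helper4.FTLocal.subsingleton_stalk_of_isZero M hM y
  exact (inferInstance : Module.Flat (Y.presheaf.stalk y) (M.presheaf.stalk y))

/-- the semilinear comparison of the stalks of a restriction. -/
theorem rs_semilinear (j : Z ⟶ Y) [IsOpenImmersion j] (M : Y.Modules) (z : Z) :
    ∃ (σ : Y.presheaf.stalk (j z) ≃+* Z.presheaf.stalk z)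
      (h : M.presheaf.stalk (j z) ≃+ (M.restrict j).presheaf.stalk z),
      ∀ (r : Y.presheaf.stalk (j z)) (m : M.presheaf.stalk (j z)), h (r • m) = σ r • h m := by
  let σ : Y.presheaf.stalk (j z) ≃+* Z.presheaf.stalk z :=
    (asIso (j.stalkMap z)).commRingCatIsoToRingEquiv
  let h : (M.restrict j).presheaf.stalk z ≃+ M.presheaf.stalk (j z) :=
    AddEquiv.ofBijective (rsHom j M z) (rsHom_bijective j M z)
  refine ⟨σ, h.symm, fun r m => ?_⟩
  apply h.injective
  rw [AddEquiv.apply_symm_apply]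
  have := rsHom_smul j M z r (h.symm m)
  change h (_ • h.symm m) = r • h (h.symm m) at this
  rw [AddEquiv.apply_symm_apply] at this
  exact this.symm

theorem FlatAt.restrict (j : Z ⟶ Y) [IsOpenImmersion j] {M : Y.Modules} {z : Z}
    (h : FlatAt M (j z)) : FlatAt (M.restrict j) z := by
  haveI : Module.Flat (Y.presheaf.stalk (j z)) (M.presheaf.stalk (j z)) := h
  obtain ⟨σ, e, he⟩ := rs_semilinear j M z
  exact flat_of_semilinearEquiv σ e he

/-- `M` is free of finite rank on a neighbourhood of `y`. -/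
def FLFAt (M : Y.Modules) (y : Y) : Prop :=
  ∃ (V : Y.Opens) (n : ℕ), y ∈ V ∧ IsFreeAlong M V.ι n

theorem FLFAt.of_iso {M N : Y.Modules} (e : M ≅ N) {y : Y} (h : FLFAt M y) : FLFAt N y := by
  obtain ⟨V, n, hy, hV⟩ := h
  exact ⟨V, n, hy, hV.of_iso e V.ι⟩

theorem FLFAt.of_isZero {M : Y.Modules} (hM : IsZero M) (y : Y) : FLFAt M y :=
  ⟨⊤, 0, trivial, isFreeAlong_of_isZero hM _⟩

theorem FLFAt.of_restrict (j : Z ⟶ Y) [IsOpenImmersion j] {M : Y.Modules} {z : Z}
    (h : FLFAt (M.restrict j) z) : FLFAt M (j z) := by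
  obtain ⟨V, n, hz, hV⟩ := h
  have h1 : IsFreeAlong M (V.ι ≫ j) n := (IsFreeAlong.restrict_iff j V.ι).mp hV
  exact ⟨(V.ι ≫ j).opensRange, n, ⟨⟨z, hz⟩, rfl⟩, h1.opensRange _⟩

theorem FLFAt.restrict (j : Z ⟶ Y) [IsOpenImmersion j] {M : Y.Modules} {z : Z}
    (h : FLFAt M (j z)) : FLFAt (M.restrict j) z := by
  obtain ⟨U, n, hxU, hfree⟩ := h
  refine ⟨j ⁻¹ᵁ U, n, hxU, ?_⟩
  have h1 : IsFreeAlong M ((j ∣_ U) ≫ U.ι) n := IsFreeAlong.comp U.ι hfree (j ∣_ U)
  have h2 : IsFreeAlong M ((j ⁻¹ᵁ U).ι ≫ j) n := h1.congr (morphismRestrict_ι j U)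
  exact (IsFreeAlong.restrict_iff j (j ⁻¹ᵁ U).ι).mpr h2

/-- a module free of finite rank near `y` has a finite free stalk at `y`. -/
theorem FLFAt.free_finite {M : Y.Modules} {y : Y} (h : FLFAt M y) :
    Module.Free (Y.presheaf.stalk y) (M.presheaf.stalk y) ∧
      Module.Finite (Y.presheaf.stalk y) (M.presheaf.stalk y) := by
  obtain ⟨V, n, hy, ⟨e⟩⟩ := h
  let z : (V : Scheme.{u}) := ⟨y, hy⟩
  -- the stalk of the free module
  have hflf := Groth.Agent.Helper4.FinLocFree2.isFinLocFree_freeMod (X := (V : Scheme.{u})) n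
  haveI : (FlatMod.freeMod (V : Scheme.{u}) n).IsQuasicoherent :=
    Groth.Agent.Helper4.FinLocFree4.isQuasicoherent_freeMod n
  haveI h1 : Module.Free ((V : Scheme.{u}).presheaf.stalk z)
      ((FlatMod.freeMod (V : Scheme.{u}) n).presheaf.stalk z) :=
    Groth.Agent.Helper4.FinLocFree2.free_stalk_of_isFinLocFree _ hflf z
  haveI h2 : Module.Finite ((V : Scheme.{u}).presheaf.stalk z)
      ((FlatMod.freeMod (V : Scheme.{u}) n).presheaf.stalk z) :=
    Groth.Agent.Helper4.FinLocFree2.finite_stalk _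
      (Groth.Agent.Helper4.FinLocFree2.isFiniteType_of_isFinitePresentation _
        (Groth.Agent.Helper4.FinLocFree2.isFinitePresentation_of_isFinLocFree _ hflf)) z
  -- the stalk of the restriction
  have hbij : Function.Bijective (stalkLin e.inv z) :=
    ⟨stalkLin_injective e.inv z, Groth.Agent.Helper4.EpiStalk.stalkLin_surjective_of_epi e.inv z⟩
  let ℓ := LinearEquiv.ofBijective (stalkLin e.inv z) hbij
  haveI h3 : Module.Free ((V : Scheme.{u}).presheaf.stalk z)
      ((M.restrict V.ι).presheaf.stalk z) := Module.Free.of_equiv ℓ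
  haveI h4 : Module.Finite ((V : Scheme.{u}).presheaf.stalk z)
      ((M.restrict V.ι).presheaf.stalk z) := Module.Finite.equiv ℓ
  obtain ⟨σ, e', he'⟩ := rs_semilinear V.ι M z
  have key : Module.Free (Y.presheaf.stalk (V.ι z)) (M.presheaf.stalk (V.ι z)) ∧
      Module.Finite (Y.presheaf.stalk (V.ι z)) (M.presheaf.stalk (V.ι z)) := by
    have hs : ∀ (r : (V : Scheme.{u}).presheaf.stalk z) (m : (M.restrict V.ι).presheaf.stalk z),
        e'.symm (r • m) = σ.symm r • e'.symm m := by
      intro r m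
      apply e'.injective
      rw [AddEquiv.apply_symm_apply, he', RingEquiv.apply_symm_apply, AddEquiv.apply_symm_apply]
    exact ⟨free_of_semilinearEquiv σ.symm e'.symm hs, finite_of_semilinearEquiv σ.symm e'.symm hs⟩
  exact key

end Pointwise

section Cycles
variable {Y : Scheme.{u}}

theorem isFinLocFree_cycles (Q : CochainComplex Y.Modules ℤ) (b : ℤ)
    (hQ1 : FlatMod.IsFinLocFree (Q.X (b - 1))) (hQ2 : FlatMod.IsFinLocFree (Q.X b))
    (hop : FlatMod.IsFinLocFree (Q.opcycles b)) : FlatMod.IsFinLocFree (Q.cycles (b - 1)) := by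
  have hB : FlatMod.IsFinLocFree (kernel (Q.pOpcycles b)) :=
    isFinLocFree_kernel_of_epi (Q.pOpcycles b) hQ2 hop
  have hdπ : Q.d (b - 1) b ≫ Q.pOpcycles b = 0 := Q.d_pOpcycles (b - 1) b
  let t : Q.X (b - 1) ⟶ kernel (Q.pOpcycles b) := kernel.lift (Q.pOpcycles b) (Q.d (b - 1) b) hdπ
  have ht : t ≫ kernel.ι (Q.pOpcycles b) = Q.d (b - 1) b := kernel.lift_ι _ _ _
  have hex : (ShortComplex.mk (Q.d (b - 1) b) (Q.pOpcycles b) hdπ).Exact :=
    ShortComplex.exact_of_g_is_cokernel _ (Q.opcyclesIsCokernel (b - 1) b (by simp))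
  haveI : Epi t := hex.epi_kernelLift
  have hK : FlatMod.IsFinLocFree (kernel t) := isFinLocFree_kernel_of_epi t hQ1 hB
  have e : Q.cycles (b - 1) ≅ kernel t :=
    (Q.cyclesIsKernel (b - 1) b (by simp)).conePointUniqueUpToIso (kernelIsKernel (Q.d (b - 1) b))
      ≪≫ (kernelIsoOfEq ht).symm ≪≫ kernelCompMono t (kernel.ι (Q.pOpcycles b))
  exact Groth.Agent.Helper4.FinLocFree2.isFinLocFree_of_iso e.symm hK

end Cycles

section Key

open CochainComplex HomologicalComplex in
/-- a bounded complex of finite locally free modules whose cohomology sheaves have flat stalks at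
`y` has finite locally free cohomology sheaves near `y`. -/
theorem exists_nhd_flf_homology : ∀ (n : ℕ) (Y : Scheme.{u}) (P : CochainComplex Y.Modules ℤ)
    (a b : ℤ) (y : Y), (∀ i, FlatMod.IsFinLocFree (P.X i)) → (∀ i, i < a → IsZero (P.X i)) →
    (∀ i, b < i → IsZero (P.X i)) → b < a + n → (∀ i, FlatAt (P.homology i) y) →
    ∃ W : Y.Opens, y ∈ W ∧ ∀ i, ∀ w ∈ W, FLFAt (P.homology i) w := by
  intro n
  induction n with
  | zero =>
    intro Y P a b y _ ha hb hab _
    refine ⟨⊤, trivial, fun i w _ => FLFAt.of_isZero (isZero_homology_of_isZero _ i ?_) w⟩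
    by_cases hi : i < a
    · exact ha i hi
    · exact hb i (by simp at hab; omega)
  | succ n ih =>
    intro Y P a b y hP ha hb hab hflat
    by_cases hba : b < a
    · refine ⟨⊤, trivial, fun i w _ => FLFAt.of_isZero (isZero_homology_of_isZero _ i ?_) w⟩
      by_cases hi : i < a
      · exact ha i hi
      · exact hb i (by omega)
    -- the top cohomology sheaf
    have hd0 : P.d b (b + 1) = 0 := (hb (b + 1) (by omega)).eq_of_tgt _ _
    let eC : P.homology b ≅ P.opcycles b := P.isoHomologyι b (b + 1) (by simp) hd0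
    let eC' : cokernel (P.d (b - 1) b) ≅ P.homology b :=
      (cokernelIsCokernel _).coconePointUniqueUpToIso (P.opcyclesIsCokernel (b - 1) b (by simp))
        ≪≫ eC.symm
    have hfp : SheafOfModules.IsFinitePresentation (R := Y.ringCatSheaf) (P.homology b) := by
      apply isFinitePresentation_of_locally_cokernel
      intro y'
      exact ⟨Y, 𝟙 Y, inferInstance, P.X (b - 1), P.X b, P.d (b - 1) b,
        eC' ≪≫ (restrictFunctorId.app (P.homology b)).symm, ⟨y', rfl⟩, hP _, hP _⟩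
    obtain ⟨V, r, hyV, hfree⟩ :=
      Groth.Agent.Helper4.FinLocFree2.exists_isFreeAlong_of_fp_of_flat_stalk (P.homology b) hfp y
        (hflat b)
    obtain ⟨efree⟩ := hfree
    -- restrict to `V`
    let PV : CochainComplex (V : Scheme.{u}).Modules ℤ := (Rc V.ι).obj P
    have hPV : ∀ i, FlatMod.IsFinLocFree (PV.X i) := fun i => isFinLocFree_restrict (hP i) V.ι
    have hPVb : ∀ i, b < i → IsZero (PV.X i) := fun i hi =>
      (restrictFunctor V.ι).map_isZero (hb i hi)
    have hPVa : ∀ i, i < a → IsZero (PV.X i) := fun i hi =>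
      (restrictFunctor V.ι).map_isZero (ha i hi)
    have hCV : FlatMod.IsFinLocFree (PV.homology b) :=
      Groth.Agent.Helper4.FinLocFree2.isFinLocFree_of_iso
        (homologyRestrictIso V.ι P b ≪≫ efree).symm
        (Groth.Agent.Helper4.FinLocFree2.isFinLocFree_freeMod r)
    have hdV0 : PV.d b (b + 1) = 0 := (hPVb (b + 1) (by omega)).eq_of_tgt _ _
    have hopV : FlatMod.IsFinLocFree (PV.opcycles b) :=
      Groth.Agent.Helper4.FinLocFree2.isFinLocFree_of_iso
        (PV.isoHomologyι b (b + 1) (by simp) hdV0) hCV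
    have hcyc : FlatMod.IsFinLocFree (PV.cycles (b - 1)) :=
      isFinLocFree_cycles PV b (hPV _) (hPV _) hopV
    -- the truncation
    let P' : CochainComplex (V : Scheme.{u}).Modules ℤ := PV.truncLE (b - 1)
    have hP' : ∀ i, FlatMod.IsFinLocFree (P'.X i) := by
      intro i
      rcases lt_trichotomy i (b - 1) with hi | rfl | hi
      · exact Groth.Agent.Helper4.FinLocFree2.isFinLocFree_of_iso
          (PV.truncLEXIso (b - 1) i hi).symm (hPV i)
      · exact Groth.Agent.Helper4.FinLocFree2.isFinLocFree_of_iso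
          (PV.truncLEXIsoCycles (b - 1)).symm hcyc
      · exact isFinLocFree_of_isZero (P'.isZero_of_isStrictlyLE (b - 1) i hi)
    have hP'a : ∀ i, i < a → IsZero (P'.X i) := by
      intro i hi
      by_cases hib : i < b - 1
      · exact IsZero.of_iso (hPVa i hi) (PV.truncLEXIso (b - 1) i hib)
      · obtain rfl : i = b - 1 := by omega
        refine IsZero.of_iso ?_ (PV.truncLEXIsoCycles (b - 1))
        exact IsZero.of_mono (PV.iCycles (b - 1)) (hPVa _ hi)
    have hP'b : ∀ i, b - 1 < i → IsZero (P'.X i) := fun i hi =>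
      P'.isZero_of_isStrictlyLE (b - 1) i hi
    have hiso : ∀ i, i ≤ b - 1 → Nonempty (P'.homology i ≅ (P.homology i).restrict V.ι) := by
      intro i hi
      haveI := PV.quasiIsoAt_ιTruncLE (b - 1) i hi
      exact ⟨asIso (homologyMap (PV.ιTruncLE (b - 1)) i) ≪≫ homologyRestrictIso V.ι P i⟩
    let y' : (V : Scheme.{u}) := ⟨y, hyV⟩
    have hflat' : ∀ i, FlatAt (P'.homology i) y' := by
      intro i
      by_cases hi : i ≤ b - 1
      · obtain ⟨e⟩ := hiso i hi
        exact FlatAt.of_iso e.symm (FlatAt.restrict V.ι (z := y') (hflat i))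
      · exact FlatAt.of_isZero (isZero_homology_of_isZero _ i (hP'b i (by omega))) y'
    obtain ⟨W', hyW', hW'⟩ := ih (V : Scheme.{u}) P' a (b - 1) y' hP' hP'a hP'b (by omega) hflat'
    refine ⟨V.ι ''ᵁ W', ⟨y', hyW', rfl⟩, ?_⟩
    rintro i w ⟨w', hw', rfl⟩
    rcases lt_trichotomy i b with hi | rfl | hi
    · obtain ⟨e⟩ := hiso i (by omega)
      exact FLFAt.of_restrict V.ι (FLFAt.of_iso e (hW' i w' hw'))
    · exact ⟨V, r, w'.2, ⟨efree⟩⟩
    · exact FLFAt.of_isZero (isZero_homology_of_isZero _ i (hb i hi)) _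

end Key

section Main

theorem locus_cohomology_finite_free {X : Scheme.{u}} (E : DCoh.D X) (hE : DCoh.IsPerfect E) :
    ∃ U : X.Opens,
      (U : Set X) = {x : X | ∀ i : ℤ, Module.Free (X.presheaf.stalk x) ((DCoh.HD E i).presheaf.stalk x) ∧
        Module.Finite (X.presheaf.stalk x) ((DCoh.HD E i).presheaf.stalk x)} ∧
      (∀ i : ℤ, FlatMod.IsFinLocFree ((DCoh.HD E i).restrict U.ι)) ∧
      ∀ W : X.Opens, (∀ i : ℤ, FlatMod.IsFinLocFree ((DCoh.HD E i).restrict W.ι)) → W ≤ U := by
  let F₀ : CochainComplex X.Modules ℤ := DerivedCategory.Q.objPreimage E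
  let e₀ : DerivedCategory.Q.obj F₀ ≅ E := DerivedCategory.Q.objObjPreimageIso E
  rw [isPerfect_iff_locSP E F₀ e₀] at hE
  -- near a point of the locus all cohomology sheaves are free
  have hA : ∀ x : X, (∀ i : ℤ, FlatAt (DCoh.HD E i) x) →
      ∃ W : X.Opens, x ∈ W ∧ ∀ i, ∀ w ∈ W, FLFAt (DCoh.HD E i) w := by
    intro x hx
    obtain ⟨Z, j, hj, ⟨z, rfl⟩, P, ⟨⟨a, b, hab⟩, hPf⟩, hiso⟩ := (hE x).exists_homology_iso
    haveI := hj
    have hflat : ∀ i, FlatAt (P.homology i) z := by
      intro i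
      obtain ⟨e⟩ := hiso i
      exact FlatAt.of_iso e (FlatAt.restrict j (FlatAt.of_iso (hdIso e₀ i) (hx i)))
    obtain ⟨W', hzW', hW'⟩ := exists_nhd_flf_homology (b - a + 1).toNat Z P a b z hPf
      (fun i hi => hab i (Or.inl hi)) (fun i hi => hab i (Or.inr hi)) (by omega) hflat
    refine ⟨j ''ᵁ W', ⟨z, hzW', rfl⟩, ?_⟩
    rintro i w ⟨w', hw', rfl⟩
    obtain ⟨e⟩ := hiso i
    exact FLFAt.of_iso (hdIso e₀ i).symm (FLFAt.of_restrict j (FLFAt.of_iso e.symm (hW' i w' hw')))
  let S : Set X := {x : X | ∀ i : ℤ, Module.Free (X.presheaf.stalk x)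
    ((DCoh.HD E i).presheaf.stalk x) ∧
      Module.Finite (X.presheaf.stalk x) ((DCoh.HD E i).presheaf.stalk x)}
  have hS : ∀ x ∈ S, ∃ W : X.Opens, x ∈ W ∧ ∀ i, ∀ w ∈ W, FLFAt (DCoh.HD E i) w := by
    intro x hx
    apply hA x
    intro i
    haveI := (hx i).1
    exact (inferInstance : Module.Flat (X.presheaf.stalk x) ((DCoh.HD E i).presheaf.stalk x))
  have hopen : IsOpen S := by
    rw [isOpen_iff_forall_mem_open]
    intro x hx
    obtain ⟨W, hxW, hW⟩ := hS x hx
    exact ⟨W, fun w hw i => (hW i w hw).free_finite, W.isOpen, hxW⟩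
  let U : X.Opens := ⟨S, hopen⟩
  refine ⟨U, rfl, fun i u => ?_, fun W hW x hx i => ?_⟩
  · obtain ⟨W, hxW, hW⟩ := hS u.1 u.2
    have h1 : FLFAt (DCoh.HD E i) (U.ι u) := hW i u.1 hxW
    exact FLFAt.restrict U.ι h1
  · have h1 : FLFAt ((DCoh.HD E i).restrict W.ι) ⟨x, hx⟩ := hW i ⟨x, hx⟩
    exact (FLFAt.of_restrict W.ι h1).free_finite

end Main

end Groth.Agent.Lead.FreeLocus
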