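import Mathlib
import Groth.Agent.Helper2.LocCrit

/-!
# FD1: a global form of the local criterion of flatness

`flat_of_forall_maximal`: `C → P` Noetherian rings, `M` a finite `P`-module.  If for every maximal
ideal `q` of `P`, with `𝔭 = q ∩ C`, every element of the kernel of `M ⊗ 𝔭 → M ⊗ C` is killed by
an element of `P ∖ q`, then `M` is flat over `C`.
-/

set_option autoImplicit false
universe u
open TensorProduct

namespace Groth.Agent.Lead.FD1

section locbase

variable {C : Type u} [CommRing C] (p : Submonoid C) (R : Type u) [CommRing R] [Algebra C R]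
  [IsLocalization p R]
  (N : Type u) [AddCommGroup N] [Module C N] [Module R N] [IsScalarTower C R N] (J : Ideal C)

/-- the comparison map `N ⊗[C] J → N ⊗[R] JR` -/
noncomputable def phi : N ⊗[C] J →ₗ[C] N ⊗[R] (J.map (algebraMap C R)) :=
  TensorProduct.lift (LinearMap.mk₂ C
    (fun n a => n ⊗ₜ[R] (⟨algebraMap C R a, Ideal.mem_map_of_mem _ a.2⟩ : J.map (algebraMap C R)))
    (fun n n' a => by rw [add_tmul])
    (fun c n a => by rw [smul_tmul'])
    (fun n a a' => by
      rw [← tmul_add]; congr 1; ext; simp)
    (fun c n a => by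
      rw [smul_tmul', ← algebraMap_smul R c n, smul_tmul]
      congr 1; ext; simp [Algebra.smul_def]))

@[simp] lemma phi_tmul (n : N) (a : J) :
    phi R N J (n ⊗ₜ a) = n ⊗ₜ[R] (⟨algebraMap C R a, Ideal.mem_map_of_mem _ a.2⟩ :
      J.map (algebraMap C R)) := by
  simp [phi]

include p in
lemma phi_surjective : Function.Surjective (phi R N J) := by
  intro z
  induction z using TensorProduct.induction_on with
  | zero => exact ⟨0, map_zero _⟩
  | add x y hx hy =>
    obtain ⟨a, rfl⟩ := hx; obtain ⟨b, rfl⟩ := hy; exact ⟨a + b, map_add _ _ _⟩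
  | tmul n x =>
    obtain ⟨x, hx⟩ := x
    obtain ⟨⟨a, s⟩, h⟩ := (IsLocalization.mem_map_algebraMap_iff p R).mp hx
    refine ⟨(IsLocalization.mk' R (1 : C) s • n) ⊗ₜ a, ?_⟩
    rw [phi_tmul, smul_tmul]
    congr 1
    ext
    simp only [SetLike.val_smul, smul_eq_mul]
    have h' : x = IsLocalization.mk' R (a : C) s := (IsLocalization.eq_mk'_iff_mul_eq).mpr h
    rw [mul_comm, ← IsLocalization.mk'_eq_mul_mk'_one]
    exact h'.symm

lemma rid_lTensor_phi (z : N ⊗[C] J) :
    TensorProduct.rid R N (LinearMap.lTensor N (J.map (algebraMap C R)).subtype (phi R N J z)) =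
      TensorProduct.rid C N (LinearMap.lTensor N J.subtype z) := by
  induction z using TensorProduct.induction_on with
  | zero => simp
  | add x y hx hy => simp only [map_add, hx, hy]
  | tmul n a => simp

include p in
/-- injectivity of `N ⊗ J → N ⊗ C` over `C` implies the same over the localization `R`. -/
lemma lTensor_injective_of_isLocalization
    (h : Function.Injective (LinearMap.lTensor N J.subtype)) :
    Function.Injective (LinearMap.lTensor N (J.map (algebraMap C R)).subtype) := by
  rw [injective_iff_map_eq_zero]
  intro z hz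
  obtain ⟨w, rfl⟩ := phi_surjective p R N J z
  have h1 := rid_lTensor_phi R N J w
  rw [hz, map_zero] at h1
  have h2 : LinearMap.lTensor N J.subtype w = 0 :=
    (TensorProduct.rid C N).injective (by rw [← h1, map_zero])
  rw [(injective_iff_map_eq_zero _).mp h w h2, map_zero]

end locbase

section locmod

variable {C P : Type u} [CommRing C] [CommRing P] [Algebra C P] (S : Submonoid P)
  {M M' : Type u} [AddCommGroup M] [AddCommGroup M'] [Module P M] [Module P M'] [Module C M]
  [Module C M'] [IsScalarTower C P M] [IsScalarTower C P M']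
  (g : M →ₗ[P] M') [IsLocalizedModule S g] (J : Ideal C)

include S g in
lemma lTensor_localized_injective
    (h : ∀ x : M ⊗[C] J, LinearMap.lTensor M J.subtype x = 0 → ∃ t : S, (t : P) • x = 0) :
    Function.Injective (LinearMap.lTensor M' J.subtype) := by
  rw [injective_iff_map_eq_zero]
  intro y hy
  have hmap := IsLocalizedModule.map_lTensor (R := C) P S J.subtype g
  obtain ⟨⟨x, s⟩, hs⟩ := IsLocalizedModule.surj S (AlgebraTensorModule.rTensor C J g) y
  replace hs : (s : P) • y = AlgebraTensorModule.rTensor C J g x := hs
  -- `hs : s • y = rTensor g x`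
  have h1 : AlgebraTensorModule.rTensor C C g (AlgebraTensorModule.lTensor P M J.subtype x) = 0 := by
    have := IsLocalizedModule.map_apply S (AlgebraTensorModule.rTensor C J g)
      (AlgebraTensorModule.rTensor C C g) (AlgebraTensorModule.lTensor P M J.subtype) x
    rw [← this, hmap, ← hs]
    have hy' : AlgebraTensorModule.lTensor P M' J.subtype y = 0 := hy
    rw [map_smul, hy', smul_zero]
  obtain ⟨c, hc⟩ := (IsLocalizedModule.eq_zero_iff S (AlgebraTensorModule.rTensor C C g)).mp h1
  have h2 : LinearMap.lTensor M J.subtype ((c : P) • x) = 0 := by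
    have : AlgebraTensorModule.lTensor P M J.subtype ((c : P) • x) = 0 := by
      rw [map_smul]; exact hc
    exact this
  obtain ⟨t, ht⟩ := h _ h2
  have h3 : AlgebraTensorModule.rTensor C J g x = 0 := by
    rw [IsLocalizedModule.eq_zero_iff S]
    exact ⟨t * c, by rw [Submonoid.smul_def, Submonoid.coe_mul, mul_smul]; exact ht⟩
  rw [h3] at hs
  refine IsLocalizedModule.smul_injective (AlgebraTensorModule.rTensor C J g) s ?_
  show s • y = s • 0
  rw [smul_zero]; exact hs

end locmod

section main

variable {C P : Type u} [CommRing C] [CommRing P] [Algebra C P] [IsNoetherianRing C]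
  [IsNoetherianRing P]
  (M : Type u) [AddCommGroup M] [Module P M] [Module C M] [IsScalarTower C P M] [Module.Finite P M]

theorem flat_localized (q : Ideal P) [q.IsPrime]
    (h : ∀ x : M ⊗[C] (q.comap (algebraMap C P)),
      LinearMap.lTensor M (q.comap (algebraMap C P)).subtype x = 0 →
        ∃ t : q.primeCompl, (t : P) • x = 0) :
    Module.Flat C (LocalizedModule q.primeCompl M) := by
  set 𝔭 := q.comap (algebraMap C P) with h𝔭
  haveI : q.LiesOver 𝔭 := ⟨rfl⟩
  letI : Algebra (Localization.AtPrime 𝔭) (Localization.AtPrime q) :=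
    Localization.AtPrime.algebraOfLiesOver 𝔭 q
  letI : Module (Localization.AtPrime 𝔭) (LocalizedModule q.primeCompl M) :=
    Module.compHom _ (algebraMap (Localization.AtPrime 𝔭) (Localization.AtPrime q))
  haveI : IsScalarTower (Localization.AtPrime 𝔭) (Localization.AtPrime q)
      (LocalizedModule q.primeCompl M) := ⟨fun r s n => by
    change (algebraMap _ (Localization.AtPrime q) r * s) • n =
      algebraMap _ (Localization.AtPrime q) r • (s • n)
    rw [mul_smul]⟩
  haveI : IsScalarTower C (Localization.AtPrime 𝔭) (LocalizedModule q.primeCompl M) :=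
    ⟨fun c r n => by
    change (algebraMap _ (Localization.AtPrime q) (c • r)) • n =
      c • (algebraMap _ (Localization.AtPrime q) r • n)
    have e1 : algebraMap (Localization.AtPrime 𝔭) (Localization.AtPrime q)
        (algebraMap C (Localization.AtPrime 𝔭) c) =
        algebraMap P (Localization.AtPrime q) (algebraMap C P c) :=
      Localization.localRingHom_to_map 𝔭 q (algebraMap C P) rfl c
    rw [Algebra.smul_def, map_mul, mul_smul, e1, algebraMap_smul, algebraMap_smul]⟩
  haveI : IsLocalHom (algebraMap (Localization.AtPrime 𝔭) (Localization.AtPrime q)) :=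
    Localization.isLocalHom_localRingHom 𝔭 q (algebraMap C P) rfl
  have h1 : Function.Injective
      (LinearMap.lTensor (LocalizedModule q.primeCompl M) 𝔭.subtype) :=
    lTensor_localized_injective q.primeCompl (LocalizedModule.mkLinearMap q.primeCompl M) 𝔭 h
  have h2 := lTensor_injective_of_isLocalization 𝔭.primeCompl (Localization.AtPrime 𝔭)
    (LocalizedModule q.primeCompl M) 𝔭 h1
  rw [Localization.AtPrime.map_eq_maximalIdeal] at h2
  haveI : Module.Flat (Localization.AtPrime 𝔭) (LocalizedModule q.primeCompl M) :=
    Groth.Agent.Helper2.LocCrit.flat_of_lTensor_injective (S := Localization.AtPrime q) h2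
  exact Module.Flat.trans C (Localization.AtPrime 𝔭) _

theorem flat_of_forall_maximal
    (h : ∀ (q : Ideal P) [q.IsMaximal], ∀ x : M ⊗[C] (q.comap (algebraMap C P)),
      LinearMap.lTensor M (q.comap (algebraMap C P)).subtype x = 0 →
        ∃ t : q.primeCompl, (t : P) • x = 0) : Module.Flat C M :=
  Module.flat_of_isLocalized_maximal P M (fun q _ => LocalizedModule q.primeCompl M)
    (fun q _ => LocalizedModule.mkLinearMap q.primeCompl M) (fun q _ => flat_localized M q (h q))

end main

end Groth.Agent.Lead.FD1
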