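import Mathlib

/-!
# FD2: torsion of `Tor₁` against a module that becomes projective after inverting `g`
-/

set_option autoImplicit false
universe u
open TensorProduct

namespace Groth.Agent.Lead.FD2

section tt

variable {R : Type u} [CommRing R] (g : R) {F M : Type u} (X : Type u) [AddCommGroup F]
  [AddCommGroup M] [AddCommGroup X] [Module R F] [Module R M] [Module R X]
  (π : F →ₗ[R] M)

lemma leftComm_natural {K F' : Type u} [AddCommGroup K] [AddCommGroup F'] [Module R K] [Module R F']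
    (Θ : Type u) [AddCommGroup Θ] [Module R Θ] (ι : K →ₗ[R] F') (t : Θ ⊗[R] (X ⊗[R] K)) :
    LinearMap.lTensor X (LinearMap.lTensor Θ ι) (TensorProduct.leftComm R Θ X K t) =
      TensorProduct.leftComm R Θ X F' (LinearMap.lTensor Θ (LinearMap.lTensor X ι) t) := by
  induction t using TensorProduct.induction_on with
  | zero => simp
  | add x y hx hy => simp only [map_add, hx, hy]
  | tmul θ w =>
    induction w using TensorProduct.induction_on with
    | zero => simp
    | add x y hx hy => simp only [tmul_add, map_add, hx, hy]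
    | tmul x k => simp

include π in
theorem tor_torsion (hπ : Function.Surjective π) (K : Submodule R F)
    (hex0 : Function.Exact K.subtype π)
    [Module.Projective (Localization.Away g) (Localization.Away g ⊗[R] M)]
    (ξ : X ⊗[R] K)
    (hξ : LinearMap.lTensor X K.subtype ξ = 0) : ∃ m : ℕ, g ^ m • ξ = 0 := by
  set Θ := Localization.Away g with hΘ
  -- base change to Θ
  have hinj : Function.Injective (K.subtype.baseChange Θ) := by
    have := Module.Flat.lTensor_preserves_injective_linearMap (M := Θ) K.subtype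
      K.injective_subtype
    exact this
  have hsurj : Function.Surjective (π.baseChange Θ) := by
    have := LinearMap.lTensor_surjective Θ hπ
    exact this
  have hex : Function.Exact (K.subtype.baseChange Θ) (π.baseChange Θ) := by
    have := lTensor_exact Θ hex0 hπ
    exact this
  obtain ⟨s, hs⟩ := Module.projective_lifting_property (π.baseChange Θ) LinearMap.id hsurj
  -- the retraction
  let ρ : Θ ⊗[R] F →ₗ[Θ] Θ ⊗[R] F := LinearMap.id - s ∘ₗ π.baseChange Θ
  have hρ : ∀ y, ρ y ∈ LinearMap.range (K.subtype.baseChange Θ) := by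
    intro y
    rw [← LinearMap.exact_iff.mp hex, LinearMap.mem_ker]
    simp only [ρ, LinearMap.sub_apply, LinearMap.id_apply, LinearMap.comp_apply, map_sub]
    have := LinearMap.congr_fun hs (π.baseChange Θ y)
    simp only [LinearMap.comp_apply, LinearMap.id_apply] at this
    rw [this, sub_self]
  let e := LinearEquiv.ofInjective (K.subtype.baseChange Θ) hinj
  let ρ' : Θ ⊗[R] F →ₗ[Θ] Θ ⊗[R] K :=
    e.symm.toLinearMap ∘ₗ LinearMap.codRestrict _ ρ hρ
  have hρ' : ρ' ∘ₗ K.subtype.baseChange Θ = LinearMap.id := by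
    refine LinearMap.ext fun t => ?_
    apply hinj
    have h1 : K.subtype.baseChange Θ (ρ' (K.subtype.baseChange Θ t)) =
        ρ (K.subtype.baseChange Θ t) := by
      simp only [ρ', LinearMap.comp_apply, LinearEquiv.coe_coe]
      have := LinearEquiv.apply_symm_apply e
        (LinearMap.codRestrict _ ρ hρ (K.subtype.baseChange Θ t))
      exact congrArg Subtype.val this
    rw [LinearMap.comp_apply, h1]
    simp only [ρ, LinearMap.sub_apply, LinearMap.id_apply, LinearMap.comp_apply]
    rw [hex.apply_apply_eq_zero, map_zero, sub_zero]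
  -- tensor with X
  have hBA : (LinearMap.lTensor X (ρ'.restrictScalars R)) ∘ₗ
      (LinearMap.lTensor X (LinearMap.lTensor Θ K.subtype)) = LinearMap.id := by
    rw [← LinearMap.lTensor_comp]
    have : ρ'.restrictScalars R ∘ₗ LinearMap.lTensor Θ K.subtype = LinearMap.id := by
      refine LinearMap.ext fun t => ?_
      exact LinearMap.congr_fun hρ' t
    rw [this, LinearMap.lTensor_id]
  have h0 : TensorProduct.leftComm R Θ X K ((1 : Θ) ⊗ₜ ξ) = 0 := by
    have h1 := leftComm_natural X Θ K.subtype ((1 : Θ) ⊗ₜ ξ)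
    rw [LinearMap.lTensor_tmul, hξ, tmul_zero, map_zero] at h1
    have := LinearMap.congr_fun hBA (TensorProduct.leftComm R Θ X K ((1 : Θ) ⊗ₜ ξ))
    rw [LinearMap.comp_apply, h1, map_zero] at this
    exact this.symm
  have h1 : (1 : Θ) ⊗ₜ[R] ξ = 0 := (TensorProduct.leftComm R Θ X K).injective (by rw [h0, map_zero])
  have h2 : TensorProduct.mk R Θ (X ⊗[R] K) 1 ξ = 0 := h1
  rw [IsLocalizedModule.eq_zero_iff (Submonoid.powers g)] at h2
  obtain ⟨⟨_, m, rfl⟩, hm⟩ := h2
  exact ⟨m, hm⟩

end tt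

section mixed

variable {A₀ : Type u} [CommRing A₀] (I₀ : Ideal A₀) (f : A₀)
  (Ā : Type u) [CommRing Ā] [Algebra A₀ Ā]
  {F₀ M₀ : Type u} [AddCommGroup F₀] [AddCommGroup M₀] [Module A₀ F₀] [Module A₀ M₀]
  (π₀ : F₀ →ₗ[A₀] M₀)
  (X : Type u) [AddCommGroup X] [Module A₀ X] [Module Ā X] [IsScalarTower A₀ Ā X]

lemma exists_one_tmul (hs : Function.Surjective (algebraMap A₀ Ā))
    {K : Type u} [AddCommGroup K] [Module A₀ K] (t : Ā ⊗[A₀] K) :
    ∃ k : K, t = (1 : Ā) ⊗ₜ k := by
  induction t using TensorProduct.induction_on with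
  | zero => exact ⟨0, (tmul_zero _ _).symm⟩
  | add x y hx hy =>
    obtain ⟨a, rfl⟩ := hx; obtain ⟨b, rfl⟩ := hy; exact ⟨a + b, (tmul_add _ _ _).symm⟩
  | tmul a k =>
    obtain ⟨a', rfl⟩ := hs a
    refine ⟨a' • k, ?_⟩
    rw [← smul_tmul, ← Algebra.algebraMap_eq_smul_one]

lemma mem_smul_top_of_one_tmul_eq_zero (hs : Function.Surjective (algebraMap A₀ Ā))
    (hk : RingHom.ker (algebraMap A₀ Ā) = I₀) (x : F₀) (hx : (1 : Ā) ⊗ₜ[A₀] x = 0) :
    x ∈ I₀ • (⊤ : Submodule A₀ F₀) := by
  subst hk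
  let e : (A₀ ⧸ RingHom.ker (Algebra.ofId A₀ Ā)) ≃ₐ[A₀] Ā :=
    Ideal.quotientKerAlgEquivOfSurjective (f := Algebra.ofId A₀ Ā) hs
  have h1 := congrArg (LinearMap.rTensor F₀ e.symm.toLinearMap) hx
  rw [LinearMap.rTensor_tmul, map_zero] at h1
  have h2 : e.symm.toLinearMap (1 : Ā) = 1 := map_one e.symm
  rw [h2] at h1
  have h4 := congrArg (TensorProduct.quotTensorEquivQuotSMul F₀ _) h1
  rw [TensorProduct.quotTensorEquivQuotSMul_mk_one_tmul, map_zero,
    Submodule.Quotient.mk_eq_zero] at h4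
  exact h4

lemma cancel_natural {K L : Type u} [AddCommGroup K] [AddCommGroup L] [Module A₀ K] [Module A₀ L]
    (j : K →ₗ[A₀] L) (t : X ⊗[Ā] (Ā ⊗[A₀] K)) :
    AlgebraTensorModule.cancelBaseChange A₀ Ā Ā X L
      (LinearMap.lTensor X (j.baseChange Ā) t) =
    LinearMap.lTensor X j (AlgebraTensorModule.cancelBaseChange A₀ Ā Ā X K t) := by
  induction t using TensorProduct.induction_on with
  | zero => simp
  | add x y hx hy => simp only [map_add, hx, hy]
  | tmul x w =>
    induction w using TensorProduct.induction_on with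
    | zero => simp
    | add a b ha hb => simp only [tmul_add, map_add, ha, hb]
    | tmul a k => simp

lemma range_lTensor_le {R : Type u} [CommRing R] {Y L N : Type u} [AddCommGroup Y] [AddCommGroup L]
    [AddCommGroup N] [Module R Y] [Module R L] [Module R N] (j : L →ₗ[R] N) (N₁ : Submodule R N)
    (h : N₁ ≤ LinearMap.range j) :
    LinearMap.range (LinearMap.lTensor Y N₁.subtype) ≤ LinearMap.range (LinearMap.lTensor Y j) := by
  rintro _ ⟨η, rfl⟩
  induction η using TensorProduct.induction_on with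
  | zero => simp
  | add x y hx hy => rw [map_add]; exact add_mem hx hy
  | tmul y n =>
    obtain ⟨l, hl⟩ := h n.2
    exact ⟨y ⊗ₜ l, by simp [hl]⟩

include π₀ in
theorem tor_torsion_mixed (hs : Function.Surjective (algebraMap A₀ Ā))
    (hk : RingHom.ker (algebraMap A₀ Ā) = I₀)
    (hπ₀ : Function.Surjective π₀) (K₀ : Submodule A₀ F₀)
    (hex : Function.Exact K₀.subtype π₀)
    [Module.Projective (Localization.Away (algebraMap A₀ Ā f))
      (Localization.Away (algebraMap A₀ Ā f) ⊗[Ā] (Ā ⊗[A₀] M₀))]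
    (ξ : X ⊗[A₀] K₀) (hξ : LinearMap.lTensor X K₀.subtype ξ = 0) :
    ∃ m : ℕ, f ^ m • ξ ∈ LinearMap.range (LinearMap.lTensor X
      (Submodule.inclusion (inf_le_left : K₀ ⊓ I₀ • ⊤ ≤ K₀))) := by
  set ι' := K₀.subtype.baseChange Ā with hι'
  set π' := π₀.baseChange Ā with hπ'
  have hsurj : Function.Surjective π' := LinearMap.lTensor_surjective Ā hπ₀
  have hex' : Function.Exact ι' π' := lTensor_exact Ā hex hπ₀
  have hex0 : Function.Exact (LinearMap.range ι').subtype π' := by
    rw [LinearMap.exact_iff, Submodule.range_subtype]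
    exact LinearMap.exact_iff.mp hex'
  set eK := AlgebraTensorModule.cancelBaseChange A₀ Ā Ā X K₀ with heK
  set eF := AlgebraTensorModule.cancelBaseChange A₀ Ā Ā X F₀ with heF
  have h1 : LinearMap.lTensor X ι' (eK.symm ξ) = 0 := by
    apply eF.injective
    rw [map_zero, heF, hι', cancel_natural, ← heK, LinearEquiv.apply_symm_apply, hξ]
  have h2 : LinearMap.lTensor X (LinearMap.range ι').subtype
      (LinearMap.lTensor X ι'.rangeRestrict (eK.symm ξ)) = 0 := by
    rw [← LinearMap.comp_apply, ← LinearMap.lTensor_comp, LinearMap.subtype_comp_codRestrict]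
    exact h1
  obtain ⟨m, hm⟩ := tor_torsion (algebraMap A₀ Ā f) X π' hsurj (LinearMap.range ι') hex0 _ h2
  rw [← map_smul] at hm
  have hk0 : Function.Exact (LinearMap.ker ι'.rangeRestrict).subtype ι'.rangeRestrict := by
    rw [LinearMap.exact_iff, Submodule.range_subtype]
  have hex2 := @lTensor_exact Ā (LinearMap.ker ι'.rangeRestrict) (Ā ⊗[A₀] K₀)
    (LinearMap.range ι') _ _ _ _ _ _ _ (LinearMap.ker ι'.rangeRestrict).subtype ι'.rangeRestrict
    X _ _ hk0 ι'.surjective_rangeRestrict
  obtain ⟨η, hη⟩ := (hex2 _).mp hm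
  -- the kernel is contained in the image of `Ā ⊗ Q`
  set incl := Submodule.inclusion (inf_le_left : K₀ ⊓ I₀ • ⊤ ≤ K₀) with hincl
  have hker : LinearMap.ker ι'.rangeRestrict ≤ LinearMap.range (incl.baseChange Ā) := by
    intro t ht
    rw [LinearMap.mem_ker] at ht
    have ht' : ι' t = 0 := by
      have := congrArg Subtype.val ht
      simpa using this
    obtain ⟨k, rfl⟩ := exists_one_tmul Ā hs t
    have hk' : (k : F₀) ∈ I₀ • (⊤ : Submodule A₀ F₀) := by
      have h3 : (1 : Ā) ⊗ₜ[A₀] (k : F₀) = 0 := by simpa [hι'] using ht'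
      exact mem_smul_top_of_one_tmul_eq_zero I₀ Ā hs hk _ h3
    exact ⟨(1 : Ā) ⊗ₜ ⟨k, ⟨k.2, hk'⟩⟩, by simp [hincl]; rfl⟩
  obtain ⟨η', hη'⟩ := range_lTensor_le (Y := X) (incl.baseChange Ā) _ hker ⟨η, rfl⟩
  refine ⟨m, ⟨AlgebraTensorModule.cancelBaseChange A₀ Ā Ā X _ η', ?_⟩⟩
  rw [← cancel_natural, hη', hη, ← heK, map_smul, LinearEquiv.apply_symm_apply, ← map_pow]
  exact algebraMap_smul Ā (f ^ m) ξ

end mixed

end Groth.Agent.Lead.FD2
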