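import Mathlib
import Groth.Agent.Lead.FD2

/-!
# FD3: the kernel of `M_C ⊗ J → M_C` is `f`-power torsion on a stratum
-/

set_option autoImplicit false
universe u
open TensorProduct

namespace Groth.Agent.Lead.FD3

section bridge

variable {C : Type u} [CommRing C] {F M : Type u} [AddCommGroup F] [AddCommGroup M] [Module C F]
  [Module C M] (π : F →ₗ[C] M) (J : Ideal C) (g : C)

/-- multiplication `F ⊗ J → F` -/
noncomputable def mu (F : Type u) [AddCommGroup F] [Module C F] (J : Ideal C) : F ⊗[C] J →ₗ[C] F :=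
  (TensorProduct.rid C F).toLinearMap ∘ₗ LinearMap.lTensor F J.subtype

@[simp] lemma mu_tmul (x : F) (j : J) : mu F J (x ⊗ₜ j) = (j : C) • x := by
  simp [mu]

lemma mu_mem (w : F ⊗[C] J) : mu F J w ∈ J • (⊤ : Submodule C F) := by
  induction w using TensorProduct.induction_on with
  | zero => simp
  | add x y hx hy => rw [map_add]; exact add_mem hx hy
  | tmul x j => rw [mu_tmul]; exact Submodule.smul_mem_smul j.2 trivial

lemma mu_natural (w : F ⊗[C] J) : π (mu F J w) = mu M J (LinearMap.rTensor J π w) := by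
  induction w using TensorProduct.induction_on with
  | zero => simp
  | add x y hx hy => simp only [map_add, hx, hy]
  | tmul x j => simp

lemma exists_of_mem_smul (K : Submodule C F) (y : F) (hy : y ∈ J • K) :
    ∃ τ : K ⊗[C] J, mu F J (LinearMap.rTensor J K.subtype τ) = y := by
  induction hy using Submodule.smul_induction_on' with
  | smul j hj k hk => exact ⟨(⟨k, hk⟩ : K) ⊗ₜ (⟨j, hj⟩ : J), by simp⟩
  | add x hx y hy hx' hy' =>
    obtain ⟨a, ha⟩ := hx'; obtain ⟨b, hb⟩ := hy'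
    exact ⟨a + b, by rw [map_add, map_add, ha, hb]⟩

include π in
theorem bridge [Module.Flat C F] (hπ : Function.Surjective π)
    (h : ∀ z ∈ LinearMap.ker π, z ∈ J • (⊤ : Submodule C F) →
      ∃ m : ℕ, g ^ m • z ∈ J • LinearMap.ker π)
    (w : M ⊗[C] J) (hw : LinearMap.lTensor M J.subtype w = 0) : ∃ m : ℕ, g ^ m • w = 0 := by
  obtain ⟨w', rfl⟩ := LinearMap.rTensor_surjective J hπ w
  have hz : mu F J w' ∈ LinearMap.ker π := by
    rw [LinearMap.mem_ker, mu_natural]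
    simp only [mu, LinearMap.comp_apply, hw, map_zero]
  obtain ⟨m, hm⟩ := h _ hz (mu_mem J w')
  obtain ⟨τ, hτ⟩ := exists_of_mem_smul J _ _ hm
  refine ⟨m, ?_⟩
  have hinj : Function.Injective (mu F J) := by
    have h1 := Module.Flat.lTensor_preserves_injective_linearMap (M := F) J.subtype
      J.injective_subtype
    exact (TensorProduct.rid C F).injective.comp h1
  have h2 : g ^ m • w' = LinearMap.rTensor J (LinearMap.ker π).subtype τ := by
    apply hinj
    rw [hτ, map_smul]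
  rw [← map_smul, h2, ← LinearMap.comp_apply, ← LinearMap.rTensor_comp]
  have : π ∘ₗ (LinearMap.ker π).subtype = 0 := by
    ext x; exact x.2
  rw [this, LinearMap.rTensor_zero, LinearMap.zero_apply]

end bridge

section key

variable {A₀ : Type u} [CommRing A₀] (I₀ : Ideal A₀) (f : A₀)
  {F₀ M₀ : Type u} [AddCommGroup F₀] [AddCommGroup M₀] [Module A₀ F₀] [Module A₀ M₀]
  (π₀ : F₀ →ₗ[A₀] M₀) (K₀ : Submodule A₀ F₀)
  (C : Type u) [CommRing C] [Algebra A₀ C]

/-- the submodule `K_C` of `C ⊗ F₀` -/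
noncomputable abbrev KC : Submodule C (C ⊗[A₀] F₀) := LinearMap.range (K₀.subtype.baseChange C)

/-- condition (T): the elements of `Q = K₀ ∩ I₀F₀` lie in `I₀ K_C` -/
def TC : Prop := ∀ u ∈ K₀ ⊓ I₀ • (⊤ : Submodule A₀ F₀),
  (1 : C) ⊗ₜ[A₀] (u : F₀) ∈ (I₀.map (algebraMap A₀ C)) • KC K₀ C

variable (J : Ideal C)

lemma rTensor_mk_eq_zero (z : C ⊗[A₀] F₀) (hz : z ∈ J • (⊤ : Submodule C (C ⊗[A₀] F₀))) :
    LinearMap.rTensor F₀ (Ideal.Quotient.mkₐ A₀ J).toLinearMap z = 0 := by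
  induction hz using Submodule.smul_induction_on' with
  | smul j hj y hy =>
    clear hy
    induction y using TensorProduct.induction_on with
    | zero => simp
    | add a b ha hb => rw [smul_add, map_add, ha, hb, add_zero]
    | tmul c x =>
      rw [smul_tmul', LinearMap.rTensor_tmul]
      have : (Ideal.Quotient.mkₐ A₀ J).toLinearMap (j • c) = 0 := by
        simp only [AlgHom.toLinearMap_apply, Ideal.Quotient.mkₐ_eq_mk, smul_eq_mul]
        exact Ideal.Quotient.eq_zero_iff_mem.mpr (J.mul_mem_right _ hj)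
      rw [this, zero_tmul]
  | add x _ y _ hx hy => rw [map_add, hx, hy, add_zero]

lemma lTensor_mem_of_TC (hJ : I₀.map (algebraMap A₀ C) ≤ J) (hT : TC I₀ K₀ C)
    (η : C ⊗[A₀] (K₀ ⊓ I₀ • (⊤ : Submodule A₀ F₀) : Submodule A₀ F₀)) :
    LinearMap.lTensor C (K₀ ⊓ I₀ • (⊤ : Submodule A₀ F₀)).subtype η ∈ J • KC K₀ C := by
  induction η using TensorProduct.induction_on with
  | zero => simp
  | add a b ha hb => rw [map_add]; exact add_mem ha hb
  | tmul c u =>
    rw [LinearMap.lTensor_tmul]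
    have h1 : c ⊗ₜ[A₀] ((K₀ ⊓ I₀ • (⊤ : Submodule A₀ F₀)).subtype u) =
        c • ((1 : C) ⊗ₜ[A₀] (u : F₀)) := by
      rw [smul_tmul', smul_eq_mul, mul_one]; rfl
    rw [h1]
    exact Submodule.smul_mem _ _ (Submodule.smul_mono hJ le_rfl (hT u u.2))

lemma lTensor_rTensor_mem (θ : J ⊗[A₀] K₀) :
    LinearMap.lTensor C K₀.subtype
      (LinearMap.rTensor K₀ (J.subtype.restrictScalars A₀) θ) ∈ J • KC K₀ C := by
  induction θ using TensorProduct.induction_on with
  | zero => simp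
  | add a b ha hb => rw [map_add, map_add]; exact add_mem ha hb
  | tmul j k =>
    rw [LinearMap.rTensor_tmul, LinearMap.lTensor_tmul]
    have h1 : ((J.subtype.restrictScalars A₀) j) ⊗ₜ[A₀] (K₀.subtype k) =
        (j : C) • ((1 : C) ⊗ₜ[A₀] (k : F₀)) := by
      rw [smul_tmul', smul_eq_mul, mul_one]; rfl
    rw [h1]
    exact Submodule.smul_mem_smul j.2 ⟨(1 : C) ⊗ₜ k, by simp⟩

include π₀ in
theorem key (hπ₀ : Function.Surjective π₀) (hex : Function.Exact K₀.subtype π₀)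
    [Module.Projective (Localization.Away (algebraMap A₀ (A₀ ⧸ I₀) f))
      (Localization.Away (algebraMap A₀ (A₀ ⧸ I₀) f) ⊗[A₀ ⧸ I₀] ((A₀ ⧸ I₀) ⊗[A₀] M₀))]
    (hJ : I₀.map (algebraMap A₀ C) ≤ J) (hT : TC I₀ K₀ C)
    (z : C ⊗[A₀] F₀) (hzK : z ∈ KC K₀ C) (hzJ : z ∈ J • (⊤ : Submodule C (C ⊗[A₀] F₀))) :
    ∃ m : ℕ, (algebraMap A₀ C f) ^ m • z ∈ J • KC K₀ C := by
  obtain ⟨ζ, rfl⟩ := hzK
  have hI : ∀ a ∈ I₀, algebraMap A₀ (C ⧸ J) a = 0 := fun a ha => by
    rw [IsScalarTower.algebraMap_apply A₀ C (C ⧸ J), Ideal.Quotient.algebraMap_eq,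
      Ideal.Quotient.eq_zero_iff_mem]
    exact hJ (Ideal.mem_map_of_mem _ ha)
  letI : Algebra (A₀ ⧸ I₀) (C ⧸ J) :=
    (Ideal.Quotient.lift I₀ (algebraMap A₀ (C ⧸ J)) hI).toAlgebra
  haveI : IsScalarTower A₀ (A₀ ⧸ I₀) (C ⧸ J) := IsScalarTower.of_algebraMap_eq (fun a => by
    rw [RingHom.algebraMap_toAlgebra, Ideal.Quotient.algebraMap_eq, Ideal.Quotient.lift_mk])
  set qX := (Ideal.Quotient.mkₐ A₀ J).toLinearMap with hqX
  have hqs : Function.Surjective qX := Ideal.Quotient.mkₐ_surjective A₀ J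
  have hξ : LinearMap.lTensor (C ⧸ J) K₀.subtype (LinearMap.rTensor K₀ qX ζ) = 0 := by
    rw [← LinearMap.comp_apply, LinearMap.lTensor_comp_rTensor, ← LinearMap.rTensor_comp_lTensor,
      LinearMap.comp_apply]
    exact rTensor_mk_eq_zero C J _ hzJ
  obtain ⟨m, η', hη'⟩ := FD2.tor_torsion_mixed I₀ f (A₀ ⧸ I₀) π₀ (C ⧸ J)
    Ideal.Quotient.mk_surjective (by rw [Ideal.Quotient.algebraMap_eq]; exact Ideal.mk_ker)
    hπ₀ K₀ hex _ hξ
  obtain ⟨η, rfl⟩ := LinearMap.rTensor_surjective _ hqs η'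
  have hexJ : Function.Exact (J.subtype.restrictScalars A₀) qX := fun c => by
    simp only [hqX, AlgHom.toLinearMap_apply, Ideal.Quotient.mkₐ_eq_mk,
      Ideal.Quotient.eq_zero_iff_mem, Set.mem_range, LinearMap.coe_restrictScalars,
      Submodule.coe_subtype, Subtype.exists, exists_prop, exists_eq_right]
  have hex3 := rTensor_exact K₀ hexJ hqs
  set incl := Submodule.inclusion (inf_le_left : K₀ ⊓ I₀ • ⊤ ≤ K₀) with hincl
  have h0 : LinearMap.rTensor K₀ qX (f ^ m • ζ - LinearMap.lTensor C incl η) = 0 := by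
    rw [map_sub, map_smul, ← hη', ← LinearMap.comp_apply, ← LinearMap.comp_apply,
      LinearMap.rTensor_comp_lTensor, LinearMap.lTensor_comp_rTensor, sub_self]
  obtain ⟨θ, hθ⟩ := (hex3 _).mp h0
  have h1 : f ^ m • (K₀.subtype.baseChange C ζ) =
      LinearMap.lTensor C (K₀ ⊓ I₀ • (⊤ : Submodule A₀ F₀)).subtype η +
        LinearMap.lTensor C K₀.subtype
          (LinearMap.rTensor K₀ (J.subtype.restrictScalars A₀) θ) := by
    rw [hθ, map_sub, ← LinearMap.comp_apply (LinearMap.lTensor C K₀.subtype),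
      ← LinearMap.lTensor_comp, map_smul]
    have : K₀.subtype ∘ₗ incl = (K₀ ⊓ I₀ • (⊤ : Submodule A₀ F₀)).subtype := by
      ext x; rfl
    rw [this]
    have h2 : LinearMap.lTensor C K₀.subtype ζ = K₀.subtype.baseChange C ζ := rfl
    rw [h2]; abel
  refine ⟨m, ?_⟩
  have h3 : (algebraMap A₀ C f) ^ m • (K₀.subtype.baseChange C ζ) =
      f ^ m • (K₀.subtype.baseChange C ζ) := by
    rw [← map_pow, algebraMap_smul]
  rw [h3, h1]
  exact add_mem (lTensor_mem_of_TC I₀ K₀ C J hJ hT η) (lTensor_rTensor_mem K₀ C J θ)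

include π₀ in
lemma ker_baseChange (hπ₀ : Function.Surjective π₀) (hex : Function.Exact K₀.subtype π₀) :
    LinearMap.ker (π₀.baseChange C) = KC K₀ C := by
  ext z
  have := lTensor_exact C hex hπ₀ z
  rw [LinearMap.mem_ker, LinearMap.mem_range]
  exact this

include π₀ in
theorem kernel_torsion [Module.Flat A₀ F₀] (hπ₀ : Function.Surjective π₀)
    (hex : Function.Exact K₀.subtype π₀)
    [Module.Projective (Localization.Away (algebraMap A₀ (A₀ ⧸ I₀) f))
      (Localization.Away (algebraMap A₀ (A₀ ⧸ I₀) f) ⊗[A₀ ⧸ I₀] ((A₀ ⧸ I₀) ⊗[A₀] M₀))]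
    (hJ : I₀.map (algebraMap A₀ C) ≤ J) (hT : TC I₀ K₀ C)
    (w : (C ⊗[A₀] M₀) ⊗[C] J) (hw : LinearMap.lTensor (C ⊗[A₀] M₀) J.subtype w = 0) :
    ∃ m : ℕ, (algebraMap A₀ C f) ^ m • w = 0 := by
  have hsurj : Function.Surjective (π₀.baseChange C) := LinearMap.lTensor_surjective C hπ₀
  refine bridge (π₀.baseChange C) J (algebraMap A₀ C f) hsurj ?_ w hw
  intro z hz hzJ
  rw [ker_baseChange π₀ K₀ C hπ₀ hex] at hz ⊢
  exact key I₀ f π₀ K₀ C J hπ₀ hex hJ hT z hz hzJ

end key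

end Groth.Agent.Lead.FD3
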