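import Mathlib
import Groth.Agent.Lead.FD3

/-!
# FD4: descending condition (T) to a finitely generated subalgebra
-/

set_option autoImplicit false
universe u
open TensorProduct

namespace Groth.Agent.Lead.FD4

open Groth.Agent.Lead.FD3

section flatquot

variable {A : Type u} [CommRing A] {F M : Type u} [AddCommGroup F] [AddCommGroup M] [Module A F]
  [Module A M] (π : F →ₗ[A] M) (I : Ideal A)

lemma exists_mu_eq (x : F) (hxI : x ∈ I • (⊤ : Submodule A F)) : ∃ w : F ⊗[A] I, mu F I w = x := by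
  induction hxI using Submodule.smul_induction_on' with
  | smul a ha y _ => exact ⟨y ⊗ₜ ⟨a, ha⟩, by simp⟩
  | add a _ b _ ha hb =>
    obtain ⟨wa, hwa⟩ := ha; obtain ⟨wb, hwb⟩ := hb
    exact ⟨wa + wb, by rw [map_add, hwa, hwb]⟩

include π in
/-- for a flat quotient `M = F/K`, `K ∩ IF ⊆ IK`. -/
theorem inf_smul_top_le [Module.Flat A M] (hπ : Function.Surjective π) :
    LinearMap.ker π ⊓ I • (⊤ : Submodule A F) ≤ I • LinearMap.ker π := by
  rintro x ⟨hxK, hxI⟩
  obtain ⟨w, rfl⟩ := exists_mu_eq I x hxI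
  clear hxI
  have h1 : mu M I (LinearMap.rTensor I π w) = 0 := by
    rw [← mu_natural]; exact hxK
  have hinj : Function.Injective (mu M I) := by
    have h1 := Module.Flat.lTensor_preserves_injective_linearMap (M := M) I.subtype
      I.injective_subtype
    exact (TensorProduct.rid A M).injective.comp h1
  have h2 : LinearMap.rTensor I π w = 0 := hinj (by rw [h1, map_zero])
  have hex := rTensor_exact I (LinearMap.exact_subtype_ker_map π) hπ
  obtain ⟨τ, rfl⟩ := (hex w).mp h2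
  -- `mu (rTensor K.subtype τ) ∈ I • K`
  clear h1 h2 hxK
  induction τ using TensorProduct.induction_on with
  | zero => simp
  | add a b ha hb => rw [map_add, map_add]; exact add_mem ha hb
  | tmul k a =>
    rw [LinearMap.rTensor_tmul, mu_tmul]
    exact Submodule.smul_mem_smul a.2 k.2

end flatquot

section descent

variable {A₀ : Type u} [CommRing A₀] (I₀ : Ideal A₀) {F₀ : Type u} [AddCommGroup F₀]
  [Module A₀ F₀] (K₀ : Submodule A₀ F₀) (A' : Type u) [CommRing A'] [Algebra A₀ A']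

/-- the comparison map `C ⊗ F₀ → A' ⊗ F₀` -/
noncomputable abbrev jC (F₀ : Type u) [AddCommGroup F₀] [Module A₀ F₀] (C : Subalgebra A₀ A') :
    (C ⊗[A₀] F₀) →ₗ[A₀] (A' ⊗[A₀] F₀) :=
  LinearMap.rTensor F₀ C.val.toLinearMap

lemma jC_smul (C : Subalgebra A₀ A') (c : C) (y : C ⊗[A₀] F₀) :
    jC A' F₀ C (c • y) = (c : A') • jC A' F₀ C y := by
  induction y using TensorProduct.induction_on with
  | zero => simp
  | add a b ha hb => rw [smul_add, map_add, ha, hb, map_add, smul_add]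
  | tmul c' x => simp [smul_tmul']

/-- the element `z` descends, with its membership in `I K`, to all large subalgebras. -/
def Desc (z : A' ⊗[A₀] F₀) : Prop :=
  ∃ T : Finset A', ∀ C : Subalgebra A₀ A', (↑T : Set A') ⊆ C →
    ∃ zC ∈ (I₀.map (algebraMap A₀ C)) • KC K₀ C, jC A' F₀ C zC = z

variable {I₀ K₀ A'}

lemma Desc.zero : Desc I₀ K₀ A' 0 := ⟨∅, fun C _ => ⟨0, zero_mem _, map_zero _⟩⟩

lemma Desc.add {z w : A' ⊗[A₀] F₀} (hz : Desc I₀ K₀ A' z) (hw : Desc I₀ K₀ A' w) :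
    Desc I₀ K₀ A' (z + w) := by
  classical
  obtain ⟨T, hT⟩ := hz; obtain ⟨T', hT'⟩ := hw
  refine ⟨T ∪ T', fun C hC => ?_⟩
  rw [Finset.coe_union, Set.union_subset_iff] at hC
  obtain ⟨a, ha, rfl⟩ := hT C hC.1; obtain ⟨b, hb, rfl⟩ := hT' C hC.2
  exact ⟨a + b, add_mem ha hb, map_add _ _ _⟩

lemma Desc.smul {z : A' ⊗[A₀] F₀} (hz : Desc I₀ K₀ A' z) (α : A') : Desc I₀ K₀ A' (α • z) := by
  classical
  obtain ⟨T, hT⟩ := hz
  refine ⟨insert α T, fun C hC => ?_⟩
  rw [Finset.coe_insert, Set.insert_subset_iff] at hC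
  obtain ⟨a, ha, rfl⟩ := hT C hC.2
  exact ⟨(⟨α, hC.1⟩ : C) • a, Submodule.smul_mem _ _ ha, jC_smul A' C _ a⟩

lemma Desc.base {i : A₀} (hi : i ∈ I₀) (ζ : A' ⊗[A₀] K₀) :
    Desc I₀ K₀ A' (algebraMap A₀ A' i • K₀.subtype.baseChange A' ζ) := by
  classical
  induction ζ using TensorProduct.induction_on with
  | zero => rw [map_zero, smul_zero]; exact Desc.zero
  | add a b ha hb => rw [map_add, smul_add]; exact ha.add hb
  | tmul β k =>
    refine ⟨{β}, fun C hC => ?_⟩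
    rw [Finset.coe_singleton, Set.singleton_subset_iff] at hC
    refine ⟨algebraMap A₀ C i • ((⟨β, hC⟩ : C) ⊗ₜ[A₀] (k : F₀)),
      Submodule.smul_mem_smul (Ideal.mem_map_of_mem _ hi) ⟨(⟨β, hC⟩ : C) ⊗ₜ k, by simp⟩, ?_⟩
    rw [jC_smul]
    simp

theorem desc_of_mem (z : A' ⊗[A₀] F₀) (hz : z ∈ (I₀.map (algebraMap A₀ A')) • KC K₀ A') :
    Desc I₀ K₀ A' z := by
  induction hz using Submodule.smul_induction_on' with
  | smul a ha k hk =>
    obtain ⟨ζ, rfl⟩ := hk
    rw [Ideal.map] at ha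
    induction ha using Submodule.span_induction with
    | mem a ha =>
      obtain ⟨i, hi, rfl⟩ := ha
      exact Desc.base hi ζ
    | zero => rw [zero_smul]; exact Desc.zero
    | add a b _ _ ha hb => rw [add_smul]; exact ha.add hb
    | smul α a _ ha => rw [smul_assoc]; exact ha.smul α
  | add x _ y _ hx hy => exact hx.add hy

theorem exists_finset_one_tmul_mem [Module.Flat A₀ F₀] (u : F₀)
    (hu : (1 : A') ⊗ₜ[A₀] u ∈ (I₀.map (algebraMap A₀ A')) • KC K₀ A') :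
    ∃ T : Finset A', ∀ C : Subalgebra A₀ A', (↑T : Set A') ⊆ C →
      (1 : C) ⊗ₜ[A₀] u ∈ (I₀.map (algebraMap A₀ C)) • KC K₀ C := by
  obtain ⟨T, hT⟩ := desc_of_mem _ hu
  refine ⟨T, fun C hC => ?_⟩
  obtain ⟨zC, hzC, hz⟩ := hT C hC
  have hinj : Function.Injective (jC A' F₀ C) :=
    Module.Flat.rTensor_preserves_injective_linearMap (M := F₀) C.val.toLinearMap
      Subtype.val_injective
  have : zC = (1 : C) ⊗ₜ[A₀] u := hinj (by rw [hz]; simp)
  rwa [← this]

end descent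

section pstruct

variable {A₀ : Type u} [CommRing A₀] (I₀ : Ideal A₀) {P₀ : Type u} [CommRing P₀] [Algebra A₀ P₀]
  {F₀ : Type u} [AddCommGroup F₀] [Module A₀ F₀] [Module P₀ F₀] [IsScalarTower A₀ P₀ F₀]
  (K₀ : Submodule P₀ F₀)

lemma smul_mem_smul_top (p : P₀) (u : F₀) (hu : u ∈ I₀ • (⊤ : Submodule A₀ F₀)) :
    p • u ∈ I₀ • (⊤ : Submodule A₀ F₀) := by
  induction hu using Submodule.smul_induction_on' with
  | smul a ha y _ => rw [smul_comm]; exact Submodule.smul_mem_smul ha trivial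
  | add a _ b _ ha hb => rw [smul_add]; exact add_mem ha hb

/-- `Q = K₀ ∩ I₀ F₀` as a `P₀`-submodule -/
def Q : Submodule P₀ F₀ where
  carrier := {u | u ∈ K₀ ∧ u ∈ I₀ • (⊤ : Submodule A₀ F₀)}
  add_mem' := fun ha hb => ⟨add_mem ha.1 hb.1, add_mem ha.2 hb.2⟩
  zero_mem' := ⟨zero_mem _, zero_mem _⟩
  smul_mem' := fun p _ hu => ⟨K₀.smul_mem p hu.1, smul_mem_smul_top I₀ p _ hu.2⟩

variable (C : Type u) [CommRing C] [Algebra A₀ C]

/-- the `P₀`-action on `C ⊗ F₀` -/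
noncomputable def act (p : P₀) : C ⊗[A₀] F₀ →ₗ[C] C ⊗[A₀] F₀ :=
  LinearMap.baseChange C ((LinearMap.lsmul P₀ F₀ p).restrictScalars A₀)

@[simp] lemma act_tmul (p : P₀) (c : C) (x : F₀) : act (A₀ := A₀) C p (c ⊗ₜ x) = c ⊗ₜ (p • x) := by
  simp [act]

lemma act_mem_KC (p : P₀) (z : C ⊗[A₀] F₀) (hz : z ∈ KC (K₀.restrictScalars A₀) C) :
    act C p z ∈ KC (K₀.restrictScalars A₀) C := by
  obtain ⟨ζ, rfl⟩ := hz
  induction ζ using TensorProduct.induction_on with
  | zero => simp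
  | add a b ha hb => rw [map_add, map_add]; exact add_mem ha hb
  | tmul c k =>
    refine ⟨c ⊗ₜ (⟨p • (k : F₀), K₀.smul_mem p k.2⟩ : K₀.restrictScalars A₀), ?_⟩
    simp

lemma act_mem_smul (p : P₀) (I : Ideal C) (z : C ⊗[A₀] F₀)
    (hz : z ∈ I • KC (K₀.restrictScalars A₀) C) :
    act C p z ∈ I • KC (K₀.restrictScalars A₀) C := by
  induction hz using Submodule.smul_induction_on' with
  | smul a ha k hk => rw [map_smul]; exact Submodule.smul_mem_smul ha (act_mem_KC K₀ C p k hk)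
  | add a _ b _ ha hb => rw [map_add]; exact add_mem ha hb

/-- the `P₀`-submodule of those `u` with `1 ⊗ u ∈ I₀ K_C` -/
def SC : Submodule P₀ F₀ where
  carrier := {u | (1 : C) ⊗ₜ[A₀] u ∈ (I₀.map (algebraMap A₀ C)) • KC (K₀.restrictScalars A₀) C}
  add_mem' := fun {a b} ha hb => by
    simp only [Set.mem_setOf_eq] at ha hb ⊢
    rw [tmul_add]; exact add_mem ha hb
  zero_mem' := by
    simp only [Set.mem_setOf_eq]
    rw [tmul_zero]; exact zero_mem _
  smul_mem' := fun p u hu => by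
    simp only [Set.mem_setOf_eq] at hu ⊢
    rw [← act_tmul C p]
    exact act_mem_smul K₀ C p _ _ hu

theorem exists_finset_TC [IsNoetherian P₀ F₀] [Module.Flat A₀ F₀] (A' : Type u) [CommRing A']
    [Algebra A₀ A']
    (h : ∀ u ∈ Q I₀ K₀, (1 : A') ⊗ₜ[A₀] u ∈
      (I₀.map (algebraMap A₀ A')) • KC (K₀.restrictScalars A₀) A') :
    ∃ T : Finset A', ∀ C : Subalgebra A₀ A', (↑T : Set A') ⊆ C →
      TC I₀ (K₀.restrictScalars A₀) C := by
  classical
  obtain ⟨G, hG⟩ := (IsNoetherian.noetherian (Q I₀ K₀) : (Q I₀ K₀).FG)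
  have hGQ : ∀ u ∈ G, u ∈ Q I₀ K₀ := fun u hu => hG ▸ Submodule.subset_span hu
  choose! T hT using fun u (hu : u ∈ G) =>
    exists_finset_one_tmul_mem (I₀ := I₀) (K₀ := K₀.restrictScalars A₀) (A' := A') u (h u (hGQ u hu))
  refine ⟨G.biUnion T, fun C hC => ?_⟩
  have hle : Q I₀ K₀ ≤ SC I₀ K₀ C := by
    rw [← hG, Submodule.span_le]
    intro u hu
    refine hT u hu C (subset_trans ?_ hC)
    intro x hx
    exact Finset.mem_biUnion.mpr ⟨u, hu, hx⟩
  intro u hu
  exact hle ⟨hu.1, hu.2⟩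

end pstruct

end Groth.Agent.Lead.FD4
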