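import Mathlib
import Groth.Agent.Helper8.GenFree6

/-!
# FD5: finite stratification of a Noetherian spectrum by "good" locally closed pieces
-/

set_option autoImplicit false
universe u
open TensorProduct

namespace Groth.Agent.Lead.FD5

section strata

variable {A₀ : Type u} [CommRing A₀] [IsNoetherianRing A₀] (Good : Ideal A₀ → A₀ → Prop)

theorem exists_strata_aux (hgood : ∀ (I : Ideal A₀), I.IsPrime → ∃ f, f ∉ I ∧ Good I f)
    (J : Ideal A₀) :
    ∃ S : Finset (Ideal A₀ × A₀), (∀ x ∈ S, Good x.1 x.2) ∧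
      ∀ (𝔭 : Ideal A₀), 𝔭.IsPrime → J ≤ 𝔭 → ∃ x ∈ S, x.1 ≤ 𝔭 ∧ x.2 ∉ 𝔭 := by
  classical
  induction J using IsNoetherian.induction with
  | hgt J IH =>
    change Ideal A₀ at J
    by_cases hJ : Ideal.IsPrime J
    · obtain ⟨f, hfJ, hf⟩ := hgood J hJ
      have hlt : J < J ⊔ Ideal.span {f} := by
        refine lt_of_le_of_ne le_sup_left fun h => hfJ ?_
        rw [h]
        exact Ideal.mem_sup_right (Ideal.subset_span rfl)
      obtain ⟨S, hS, hS'⟩ := IH _ hlt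
      refine ⟨insert (J, f) S, ?_, ?_⟩
      · intro x hx
        rcases Finset.mem_insert.mp hx with rfl | hx
        · exact hf
        · exact hS x hx
      · intro 𝔭 h𝔭 hle
        by_cases hf𝔭 : f ∈ 𝔭
        · obtain ⟨x, hx, h1, h2⟩ := hS' 𝔭 h𝔭
            (sup_le hle ((Ideal.span_singleton_le_iff_mem _).mpr hf𝔭))
          exact ⟨x, Finset.mem_insert_of_mem hx, h1, h2⟩
        · exact ⟨(J, f), Finset.mem_insert_self _ _, hle, hf𝔭⟩
    · rcases Ideal.not_isPrime_iff.mp hJ with rfl | ⟨a, ha, b, hb, hab⟩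
      · exact ⟨∅, by simp, fun 𝔭 h𝔭 hle => absurd (top_le_iff.mp hle) h𝔭.ne_top⟩
      · have hlta : J < J ⊔ Ideal.span {a} := by
          refine lt_of_le_of_ne le_sup_left fun h => ha ?_
          rw [h]
          exact Ideal.mem_sup_right (Ideal.subset_span rfl)
        have hltb : J < J ⊔ Ideal.span {b} := by
          refine lt_of_le_of_ne le_sup_left fun h => hb ?_
          rw [h]
          exact Ideal.mem_sup_right (Ideal.subset_span rfl)
        obtain ⟨Sa, hSa, hSa'⟩ := IH _ hlta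
        obtain ⟨Sb, hSb, hSb'⟩ := IH _ hltb
        refine ⟨Sa ∪ Sb, ?_, ?_⟩
        · intro x hx
          rcases Finset.mem_union.mp hx with hx | hx
          · exact hSa x hx
          · exact hSb x hx
        · intro 𝔭 h𝔭 hle
          rcases h𝔭.mem_or_mem (hle hab) with h | h
          · obtain ⟨x, hx, h1, h2⟩ := hSa' 𝔭 h𝔭
              (sup_le hle ((Ideal.span_singleton_le_iff_mem _).mpr h))
            exact ⟨x, Finset.mem_union_left _ hx, h1, h2⟩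
          · obtain ⟨x, hx, h1, h2⟩ := hSb' 𝔭 h𝔭
              (sup_le hle ((Ideal.span_singleton_le_iff_mem _).mpr h))
            exact ⟨x, Finset.mem_union_right _ hx, h1, h2⟩

theorem exists_strata (hgood : ∀ (I : Ideal A₀), I.IsPrime → ∃ f, f ∉ I ∧ Good I f) :
    ∃ S : Finset (Ideal A₀ × A₀), (∀ x ∈ S, Good x.1 x.2) ∧
      ∀ (𝔭 : Ideal A₀), 𝔭.IsPrime → ∃ x ∈ S, x.1 ≤ 𝔭 ∧ x.2 ∉ 𝔭 := by
  obtain ⟨S, hS, hS'⟩ := exists_strata_aux Good hgood ⊥
  exact ⟨S, hS, fun 𝔭 h𝔭 => hS' 𝔭 h𝔭 bot_le⟩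

end strata

section good

variable {A₀ : Type u} [CommRing A₀] (P₀ : Type u) [CommRing P₀] [Algebra A₀ P₀]
  [Algebra.FiniteType A₀ P₀]
  (M₀ : Type u) [AddCommGroup M₀] [Module A₀ M₀] [Module P₀ M₀] [IsScalarTower A₀ P₀ M₀]
  [Module.Finite P₀ M₀]

/-- the "good stratum" predicate: `M₀/IM₀` becomes projective over `A₀/I` after inverting `f`. -/
def Good (I : Ideal A₀) (f : A₀) : Prop :=
  Module.Projective (Localization.Away (algebraMap A₀ (A₀ ⧸ I) f))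
    (Localization.Away (algebraMap A₀ (A₀ ⧸ I) f) ⊗[A₀ ⧸ I] ((A₀ ⧸ I) ⊗[A₀] M₀))

include P₀ in
attribute [local instance] Algebra.TensorProduct.rightAlgebra in
theorem exists_good (I : Ideal A₀) (hI : I.IsPrime) : ∃ f, f ∉ I ∧ Good M₀ I f := by
  haveI := hI
  obtain ⟨g, hg0, hg⟩ := Groth.Agent.Helper8.GenFree.genericFreeness (A₀ ⧸ I)
    ((A₀ ⧸ I) ⊗[A₀] P₀) (((A₀ ⧸ I) ⊗[A₀] P₀) ⊗[P₀] M₀)
  obtain ⟨f, rfl⟩ := Ideal.Quotient.mk_surjective g
  refine ⟨f, fun hf => hg0 (Ideal.Quotient.eq_zero_iff_mem.mpr hf), ?_⟩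
  have h2 := hg.of_linearEquiv
    (Algebra.IsPushout.cancelBaseChange A₀ (A₀ ⧸ I) P₀ ((A₀ ⧸ I) ⊗[A₀] P₀) M₀)
  have h3 := h2.free_tensor
  unfold Good
  haveI : Module.Free (Localization.Away (algebraMap A₀ (A₀ ⧸ I) f))
      (Localization.Away (algebraMap A₀ (A₀ ⧸ I) f) ⊗[A₀ ⧸ I] ((A₀ ⧸ I) ⊗[A₀] M₀)) := h3
  infer_instance

end good

end Groth.Agent.Lead.FD5
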