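import Mathlib
import Groth.Agent.Lead.FD1
import Groth.Agent.Lead.FD4
import Groth.Agent.Lead.FD5

/-!
# FD6: flatness descends to a finitely generated subalgebra (Noetherian base)
-/

set_option autoImplicit false
universe u
open TensorProduct

namespace Groth.Agent.Lead.FD6

open Groth.Agent.Lead

section

variable {A₀ : Type u} [CommRing A₀] {P₀ : Type u} [CommRing P₀] [Algebra A₀ P₀]
  {F₀ M₀ : Type u} [AddCommGroup F₀] [AddCommGroup M₀] [Module A₀ F₀] [Module P₀ F₀]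
  [IsScalarTower A₀ P₀ F₀] [Module A₀ M₀] [Module P₀ M₀] [IsScalarTower A₀ P₀ M₀]
  (π₀ : F₀ →ₗ[P₀] M₀)

lemma exact_restrict :
    Function.Exact ((LinearMap.ker π₀).restrictScalars A₀).subtype (π₀.restrictScalars A₀) := by
  intro y
  simp

lemma one_tmul_mem_smul_top (I : Ideal A₀) (A' : Type u) [CommRing A'] [Algebra A₀ A'] (u : F₀)
    (hu : u ∈ I • (⊤ : Submodule A₀ F₀)) :
    (1 : A') ⊗ₜ[A₀] u ∈ (I.map (algebraMap A₀ A')) • (⊤ : Submodule A' (A' ⊗[A₀] F₀)) := by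
  induction hu using Submodule.smul_induction_on' with
  | smul i hi y _ =>
    have : (1 : A') ⊗ₜ[A₀] (i • y) = algebraMap A₀ A' i • ((1 : A') ⊗ₜ[A₀] y) := by
      rw [tmul_smul, algebraMap_smul]
    rw [this]
    exact Submodule.smul_mem_smul (Ideal.mem_map_of_mem _ hi) trivial
  | add a _ b _ ha hb => rw [tmul_add]; exact add_mem ha hb

include π₀ in
lemma one_tmul_mem_of_flat (hπ₀ : Function.Surjective π₀) (I : Ideal A₀) (A' : Type u)
    [CommRing A'] [Algebra A₀ A'] [Module.Flat A' (A' ⊗[A₀] M₀)]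
    (u : F₀) (hu : u ∈ FD4.Q I (LinearMap.ker π₀)) :
    (1 : A') ⊗ₜ[A₀] u ∈ (I.map (algebraMap A₀ A')) •
      FD3.KC ((LinearMap.ker π₀).restrictScalars A₀) A' := by
  have hsurj : Function.Surjective ((π₀.restrictScalars A₀).baseChange A') :=
    LinearMap.lTensor_surjective A' hπ₀
  have h1 := FD4.inf_smul_top_le ((π₀.restrictScalars A₀).baseChange A')
    (I.map (algebraMap A₀ A')) hsurj
  rw [FD3.ker_baseChange (π₀.restrictScalars A₀) _ A' hπ₀ (exact_restrict π₀)] at h1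
  refine h1 (Submodule.mem_inf.mpr ⟨?_, one_tmul_mem_smul_top I A' u hu.2⟩)
  rw [← FD3.ker_baseChange (π₀.restrictScalars A₀) _ A' hπ₀ (exact_restrict π₀), LinearMap.mem_ker]
  have : π₀ u = 0 := hu.1
  simp [this]

end

section core

variable {A₀ : Type u} [CommRing A₀] [IsNoetherianRing A₀] {P₀ : Type u} [CommRing P₀]
  [Algebra A₀ P₀] [Algebra.FiniteType A₀ P₀]
  {F₀ M₀ : Type u} [AddCommGroup F₀] [AddCommGroup M₀] [Module A₀ F₀] [Module P₀ F₀]
  [IsScalarTower A₀ P₀ F₀] [Module A₀ M₀] [Module P₀ M₀] [IsScalarTower A₀ P₀ M₀]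
  [Module.Finite P₀ F₀] [Module.Flat A₀ F₀]
  (π₀ : F₀ →ₗ[P₀] M₀)

attribute [local instance] Algebra.TensorProduct.rightAlgebra in
include π₀ in
/-- **Core flat descent** (Noetherian base, flat presentation). -/
theorem core (hπ₀ : Function.Surjective π₀) (A' : Type u) [CommRing A'] [Algebra A₀ A']
    [Module.Flat A' (A' ⊗[A₀] M₀)] :
    ∃ T : Finset A', ∀ C : Subalgebra A₀ A', (↑T : Set A') ⊆ C → C.FG →
      Module.Flat C (C ⊗[A₀] M₀) := by
  classical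
  haveI : Module.Finite P₀ M₀ := Module.Finite.of_surjective π₀ hπ₀
  haveI : IsNoetherianRing P₀ := Algebra.FiniteType.isNoetherianRing A₀ P₀
  haveI : IsNoetherian P₀ F₀ := isNoetherian_of_isNoetherianRing_of_finite P₀ F₀
  obtain ⟨S, hS, hS'⟩ := FD5.exists_strata (FD5.Good (A₀ := A₀) M₀) (FD5.exists_good (A₀ := A₀) P₀ M₀)
  have hex := exact_restrict (A₀ := A₀) π₀
  choose! T hT using fun (x : Ideal A₀ × A₀) (_ : x ∈ S) =>
    FD4.exists_finset_TC x.1 (LinearMap.ker π₀) A'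
      (fun u hu => one_tmul_mem_of_flat π₀ hπ₀ x.1 A' u hu)
  refine ⟨S.biUnion T, fun C hC hCfg => ?_⟩
  haveI : Algebra.FiniteType A₀ C := (Subalgebra.fg_iff_finiteType C).mp hCfg
  haveI : IsNoetherianRing C := Algebra.FiniteType.isNoetherianRing A₀ C
  haveI : IsNoetherianRing (C ⊗[A₀] P₀) := Algebra.FiniteType.isNoetherianRing C _
  let e := Algebra.IsPushout.cancelBaseChange A₀ C P₀ (C ⊗[A₀] P₀) M₀
  suffices h : Module.Flat C ((C ⊗[A₀] P₀) ⊗[P₀] M₀) from Module.Flat.of_linearEquiv e.symm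
  refine FD1.flat_of_forall_maximal (C := C) (P := C ⊗[A₀] P₀) ((C ⊗[A₀] P₀) ⊗[P₀] M₀)
    (fun q hq x' hx' => ?_)
  have h𝔭₀ : ((q.comap (algebraMap C (C ⊗[A₀] P₀))).comap (algebraMap A₀ C)).IsPrime :=
    inferInstance
  obtain ⟨x, hxS, hxle, hxf⟩ := hS' _ h𝔭₀
  haveI : Module.Projective (Localization.Away (algebraMap A₀ (A₀ ⧸ x.1) x.2))
      (Localization.Away (algebraMap A₀ (A₀ ⧸ x.1) x.2) ⊗[A₀ ⧸ x.1] ((A₀ ⧸ x.1) ⊗[A₀] M₀)) :=
    hS x hxS
  have hTC : FD3.TC x.1 ((LinearMap.ker π₀).restrictScalars A₀) C :=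
    hT x hxS C (subset_trans (by
      intro y hy
      exact Finset.mem_coe.mpr (Finset.mem_biUnion.mpr ⟨x, hxS, hy⟩)) hC)
  have hJ : x.1.map (algebraMap A₀ C) ≤ q.comap (algebraMap C (C ⊗[A₀] P₀)) :=
    Ideal.map_le_iff_le_comap.mpr hxle
  have hw : LinearMap.lTensor (C ⊗[A₀] M₀) (q.comap (algebraMap C (C ⊗[A₀] P₀))).subtype
      (LinearMap.rTensor _ e.toLinearMap x') = 0 := by
    rw [← LinearMap.comp_apply, LinearMap.lTensor_comp_rTensor, ← LinearMap.rTensor_comp_lTensor,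
      LinearMap.comp_apply, hx', map_zero]
  obtain ⟨m, hm⟩ := FD3.kernel_torsion x.1 x.2 (π₀.restrictScalars A₀)
    ((LinearMap.ker π₀).restrictScalars A₀) C _ hπ₀ hex hJ hTC _ hw
  refine ⟨⟨algebraMap C (C ⊗[A₀] P₀) ((algebraMap A₀ C x.2) ^ m), ?_⟩, ?_⟩
  · intro hmem
    have h1 : (algebraMap A₀ C x.2) ^ m ∈ q.comap (algebraMap C (C ⊗[A₀] P₀)) := hmem
    exact hxf (Ideal.IsPrime.mem_of_pow_mem h𝔭₀ m (by
      rw [Ideal.mem_comap, map_pow]; exact h1))
  · rw [algebraMap_smul]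
    rw [← map_smul] at hm
    exact (LinearEquiv.rTensor _ e).injective (hm.trans (map_zero _).symm)

end core

end Groth.Agent.Lead.FD6
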