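import Mathlib
import Groth.Agent.Lead.FD6

/-!
# FD7: flat descent for a finite module over a finite type algebra over a Noetherian ring
-/

set_option autoImplicit false
universe u
open TensorProduct

namespace Groth.Agent.Lead.FD7

/-- **Flat descent, Noetherian base**: `A₀` Noetherian, `B₀` of finite type over `A₀`, `M₀` a finite
`B₀`-module, `A'` an `A₀`-algebra with `A' ⊗ M₀` flat over `A'`.  Then `C ⊗ M₀` is flat over `C` for
all sufficiently large finitely generated subalgebras `C ⊆ A'`. -/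
theorem core_ft {A₀ : Type u} [CommRing A₀] [IsNoetherianRing A₀] (B₀ : Type u) [CommRing B₀]
    [Algebra A₀ B₀] [Algebra.FiniteType A₀ B₀]
    (M₀ : Type u) [AddCommGroup M₀] [Module A₀ M₀] [Module B₀ M₀] [IsScalarTower A₀ B₀ M₀]
    [Module.Finite B₀ M₀]
    (A' : Type u) [CommRing A'] [Algebra A₀ A'] [Module.Flat A' (A' ⊗[A₀] M₀)] :
    ∃ T : Finset A', ∀ C : Subalgebra A₀ A', (↑T : Set A') ⊆ C → C.FG →
      Module.Flat C (C ⊗[A₀] M₀) := by
  obtain ⟨n, φ, hφ⟩ := (Algebra.FiniteType.iff_quotient_mvPolynomial'' (R := A₀) (S := B₀)).mp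
    inferInstance
  letI : Algebra (MvPolynomial (Fin n) A₀) B₀ := φ.toRingHom.toAlgebra
  letI : Module (MvPolynomial (Fin n) A₀) M₀ := Module.compHom M₀ φ.toRingHom
  haveI : IsScalarTower (MvPolynomial (Fin n) A₀) B₀ M₀ := ⟨fun p b m => by
    change (φ p * b) • m = φ p • (b • m)
    rw [mul_smul]⟩
  haveI : IsScalarTower A₀ (MvPolynomial (Fin n) A₀) M₀ := ⟨fun a p m => by
    change φ (a • p) • m = a • (φ p • m)
    rw [map_smul, smul_assoc]⟩
  haveI : Module.Finite (MvPolynomial (Fin n) A₀) B₀ :=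
    Module.Finite.of_surjective (Algebra.linearMap (MvPolynomial (Fin n) A₀) B₀) hφ
  haveI : Module.Finite (MvPolynomial (Fin n) A₀) M₀ :=
    Module.Finite.trans B₀ M₀
  obtain ⟨N, π, hπ⟩ := Module.Finite.exists_fin' (MvPolynomial (Fin n) A₀) M₀
  exact FD6.core π hπ A'

/-- Variant of `core_ft` for all (not necessarily finitely generated) subalgebras containing `T`. -/
theorem core_ft' {A₀ : Type u} [CommRing A₀] [IsNoetherianRing A₀] (B₀ : Type u) [CommRing B₀]
    [Algebra A₀ B₀] [Algebra.FiniteType A₀ B₀]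
    (M₀ : Type u) [AddCommGroup M₀] [Module A₀ M₀] [Module B₀ M₀] [IsScalarTower A₀ B₀ M₀]
    [Module.Finite B₀ M₀]
    (A' : Type u) [CommRing A'] [Algebra A₀ A'] [Module.Flat A' (A' ⊗[A₀] M₀)] :
    ∃ T : Finset A', ∀ C : Subalgebra A₀ A', (↑T : Set A') ⊆ C →
      Module.Flat C (C ⊗[A₀] M₀) := by
  obtain ⟨T, hT⟩ := core_ft (A₀ := A₀) B₀ M₀ A'
  refine ⟨T, fun C hC => ?_⟩
  have hle : Algebra.adjoin A₀ (↑T : Set A') ≤ C := Algebra.adjoin_le hC
  haveI := hT (Algebra.adjoin A₀ (↑T : Set A')) Algebra.subset_adjoin ⟨T, rfl⟩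
  letI : Algebra (Algebra.adjoin A₀ (↑T : Set A')) C := (Subalgebra.inclusion hle).toAlgebra
  haveI : IsScalarTower A₀ (Algebra.adjoin A₀ (↑T : Set A')) C :=
    IsScalarTower.of_algebraMap_eq (fun x => rfl)
  exact Module.Flat.of_linearEquiv
    (AlgebraTensorModule.cancelBaseChange A₀ (Algebra.adjoin A₀ (↑T : Set A')) C C M₀).symm

end Groth.Agent.Lead.FD7
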