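import Mathlib
import Groth.Agent.Lead.FD7

/-!
# FD8: descending surjectivity on spectra / faithful flatness to large subalgebras
-/

set_option autoImplicit false
universe u
open TensorProduct

namespace Groth.Agent.Lead.FD8

open AlgebraicGeometry CategoryTheory Limits in
/-- primes of a tensor product over a pair of primes with the same contraction -/
theorem exists_prime_tensor (P B T : Type u) [CommRing P] [CommRing B] [CommRing T]
    [Algebra P B] [Algebra P T] (Q : PrimeSpectrum B) (p : PrimeSpectrum T)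
    (h : PrimeSpectrum.comap (algebraMap P T) p = PrimeSpectrum.comap (algebraMap P B) Q) :
    ∃ z : PrimeSpectrum (T ⊗[P] B),
      PrimeSpectrum.comap (algebraMap T (T ⊗[P] B)) z = p ∧
      PrimeSpectrum.comap (Algebra.TensorProduct.includeRight : B →ₐ[P] T ⊗[P] B).toRingHom z
        = Q := by
  have hpb := isPullback_SpecMap_of_isPushout _ _ _ _ (CommRingCat.isPushout_tensorProduct P T B)
  obtain ⟨z, hz1, hz2⟩ := Scheme.exists_preimage_of_isPullback hpb p Q h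
  exact ⟨z, hz1, hz2⟩

section

variable {R₀ : Type u} [CommRing R₀] (A : Type u) [CommRing A] [Algebra R₀ A]
  (C₀ : Subalgebra R₀ A) (𝔞 : Ideal C₀)

/-- descent predicate for membership in the extension of `𝔞` -/
def DescI (z : A) : Prop :=
  ∃ T : Finset A, ∀ (C : Subalgebra R₀ A) (h : C₀ ≤ C), (↑T : Set A) ⊆ C →
    ∃ zC ∈ 𝔞.map (Subalgebra.inclusion h), (zC : A) = z

variable {A C₀ 𝔞}

lemma descI_of_mem (z : A) (hz : z ∈ 𝔞.map (algebraMap C₀ A)) : DescI A C₀ 𝔞 z := by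
  classical
  rw [Ideal.map] at hz
  induction hz using Submodule.span_induction with
  | mem z hz =>
    obtain ⟨a, ha, rfl⟩ := hz
    exact ⟨∅, fun C h _ => ⟨Subalgebra.inclusion h a, Ideal.mem_map_of_mem _ ha, rfl⟩⟩
  | zero => exact ⟨∅, fun C h _ => ⟨0, zero_mem _, rfl⟩⟩
  | add x y _ _ hx hy =>
    obtain ⟨T, hT⟩ := hx; obtain ⟨T', hT'⟩ := hy
    refine ⟨T ∪ T', fun C h hC => ?_⟩
    rw [Finset.coe_union, Set.union_subset_iff] at hC
    obtain ⟨a, ha, rfl⟩ := hT C h hC.1; obtain ⟨b, hb, rfl⟩ := hT' C h hC.2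
    exact ⟨a + b, add_mem ha hb, rfl⟩
  | smul α x _ hx =>
    obtain ⟨T, hT⟩ := hx
    refine ⟨insert α T, fun C h hC => ?_⟩
    rw [Finset.coe_insert, Set.insert_subset_iff] at hC
    obtain ⟨a, ha, rfl⟩ := hT C h hC.2
    exact ⟨(⟨α, hC.1⟩ : C) * a, Ideal.mul_mem_left _ _ ha, rfl⟩

end

section surj

variable {R₀ : Type u} [CommRing R₀] (B₀ : Type u) [CommRing B₀] [Algebra R₀ B₀]
  [Algebra.FinitePresentation R₀ B₀] (A : Type u) [CommRing A] [Algebra R₀ A]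

theorem exists_finset_comap_surjective
    (hA : Function.Surjective (PrimeSpectrum.comap (algebraMap A (A ⊗[R₀] B₀))))
    (C₀ : Subalgebra R₀ A) [Module.Flat C₀ (C₀ ⊗[R₀] B₀)] :
    ∃ T : Finset A, ∀ C : Subalgebra R₀ A, C₀ ≤ C → (↑T : Set A) ⊆ C →
      Function.Surjective (PrimeSpectrum.comap (algebraMap C (C ⊗[R₀] B₀))) := by
  have hopen : IsOpenMap (PrimeSpectrum.comap (algebraMap C₀ (C₀ ⊗[R₀] B₀))) :=
    PrimeSpectrum.isOpenMap_comap_of_hasGoingDown_of_finitePresentation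
  set U := Set.range (PrimeSpectrum.comap (algebraMap C₀ (C₀ ⊗[R₀] B₀))) with hU
  have hUo : IsOpen U := hopen.isOpen_range
  set 𝔞 := PrimeSpectrum.vanishingIdeal Uᶜ with h𝔞
  have hz : PrimeSpectrum.zeroLocus (𝔞 : Set C₀) = Uᶜ := by
    rw [h𝔞, PrimeSpectrum.zeroLocus_vanishingIdeal_eq_closure, hUo.isClosed_compl.closure_eq]
  -- the extension of `𝔞` to `A` is the unit ideal
  have htop : 𝔞.map (algebraMap C₀ A) = ⊤ := by
    by_contra hne
    obtain ⟨𝔪, h𝔪, hle⟩ := Ideal.exists_le_maximal _ hne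
    have h𝔪p : 𝔪.IsPrime := h𝔪.isPrime
    obtain ⟨𝔮, h𝔮⟩ := hA ⟨𝔪, h𝔪p⟩
    let g : C₀ ⊗[R₀] B₀ →ₐ[R₀] A ⊗[R₀] B₀ := Algebra.TensorProduct.map C₀.val (AlgHom.id R₀ B₀)
    have hmem : PrimeSpectrum.comap (algebraMap C₀ A) ⟨𝔪, h𝔪p⟩ ∈ U := by
      refine ⟨PrimeSpectrum.comap g.toRingHom 𝔮, ?_⟩
      rw [← h𝔮, ← PrimeSpectrum.comap_comp_apply, ← PrimeSpectrum.comap_comp_apply]
      congr 1
    have hnot : PrimeSpectrum.comap (algebraMap C₀ A) ⟨𝔪, h𝔪p⟩ ∈ Uᶜ := by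
      rw [← hz, PrimeSpectrum.mem_zeroLocus]
      exact Ideal.map_le_iff_le_comap.mp hle
    exact hnot hmem
  obtain ⟨T, hT⟩ := descI_of_mem (1 : A) (htop ▸ Submodule.mem_top)
  refine ⟨T, fun C h hC => ?_⟩
  obtain ⟨zC, hzC, hz1⟩ := hT C h hC
  have hzC1 : zC = 1 := Subtype.ext hz1
  have htopC : 𝔞.map (Subalgebra.inclusion h) = ⊤ := by
    rw [Ideal.eq_top_iff_one, ← hzC1]; exact hzC
  letI : Algebra C₀ C := (Subalgebra.inclusion h).toAlgebra
  haveI : IsScalarTower R₀ C₀ C := IsScalarTower.of_algebraMap_eq (fun x => rfl)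
  intro 𝔭'
  have h𝔭 : PrimeSpectrum.comap (algebraMap C₀ C) 𝔭' ∈ U := by
    by_contra hnot
    have : PrimeSpectrum.comap (algebraMap C₀ C) 𝔭' ∈ PrimeSpectrum.zeroLocus (𝔞 : Set C₀) := by
      rw [hz]; exact hnot
    rw [PrimeSpectrum.mem_zeroLocus] at this
    have h2 : 𝔞.map (algebraMap C₀ C) ≤ 𝔭'.asIdeal := Ideal.map_le_iff_le_comap.mpr this
    have h3 : 𝔞.map (algebraMap C₀ C) = ⊤ := htopC
    rw [h3] at h2
    exact 𝔭'.2.ne_top (top_le_iff.mp h2)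
  obtain ⟨𝔮₀, h𝔮₀⟩ := h𝔭
  obtain ⟨z, hz1, -⟩ := exists_prime_tensor C₀ (C₀ ⊗[R₀] B₀) C 𝔮₀ 𝔭' h𝔮₀.symm
  let e := Algebra.TensorProduct.cancelBaseChange R₀ C₀ C C B₀
  refine ⟨PrimeSpectrum.comap e.symm.toAlgHom.toRingHom z, ?_⟩
  rw [← hz1, ← PrimeSpectrum.comap_comp_apply]
  congr 1

/-- **Faithfully flat descent to large subalgebras** (Noetherian coefficient ring). -/
theorem exists_finset_faithfullyFlat [IsNoetherianRing R₀]
    [Module.FaithfullyFlat A (A ⊗[R₀] B₀)] :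
    ∃ T : Finset A, ∀ C : Subalgebra R₀ A, (↑T : Set A) ⊆ C →
      Module.FaithfullyFlat C (C ⊗[R₀] B₀) := by
  classical
  obtain ⟨T₁, hT₁⟩ := FD7.core_ft' (A₀ := R₀) B₀ B₀ A
  haveI := hT₁ (Algebra.adjoin R₀ (↑T₁ : Set A)) Algebra.subset_adjoin
  obtain ⟨T₂, hT₂⟩ := exists_finset_comap_surjective B₀ A
    PrimeSpectrum.comap_surjective_of_faithfullyFlat (Algebra.adjoin R₀ (↑T₁ : Set A))
  refine ⟨T₁ ∪ T₂, fun C hC => ?_⟩
  rw [Finset.coe_union, Set.union_subset_iff] at hC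
  haveI := hT₁ C hC.1
  exact Module.FaithfullyFlat.of_comap_surjective (hT₂ C (Algebra.adjoin_le hC.1) hC.2)

end surj

end Groth.Agent.Lead.FD8
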