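import Mathlib
import Groth.Agent.Lead.FD8

/-!
# FD10: flat / faithfully flat descent to a finitely presented algebra (arbitrary base)
-/

set_option autoImplicit false
universe u
open TensorProduct

namespace Groth.Agent.Lead.FD10

lemma ff_transfer {R₀ A₀ C₀ C Mod B₀ : Type u} [CommRing R₀] [CommRing A₀] [CommRing C₀]
    [CommRing C] [AddCommGroup Mod] [AddCommGroup B₀]
    [Algebra R₀ A₀] [Algebra R₀ C₀] [Algebra R₀ C] [Algebra A₀ C] [Algebra C₀ C]
    [IsScalarTower R₀ A₀ C] [IsScalarTower R₀ C₀ C]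
    [Module R₀ Mod] [Module A₀ B₀] (e : A₀ ⊗[R₀] Mod ≃ₗ[A₀] B₀)
    [Module.FaithfullyFlat C₀ (C₀ ⊗[R₀] Mod)] : Module.FaithfullyFlat C (C ⊗[A₀] B₀) := by
  let e₁ : C ⊗[A₀] B₀ ≃ₗ[C] C ⊗[C₀] (C₀ ⊗[R₀] Mod) :=
    (AlgebraTensorModule.congr (LinearEquiv.refl C C) e).symm ≪≫ₗ
    (AlgebraTensorModule.cancelBaseChange R₀ A₀ C C Mod) ≪≫ₗ
    (AlgebraTensorModule.cancelBaseChange R₀ C₀ C C Mod).symm
  exact Module.FaithfullyFlat.of_linearEquiv _ _ e₁

lemma flat_transfer {R₀ A₀ C₀ C Mod B₀ : Type u} [CommRing R₀] [CommRing A₀] [CommRing C₀]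
    [CommRing C] [AddCommGroup Mod] [AddCommGroup B₀]
    [Algebra R₀ A₀] [Algebra R₀ C₀] [Algebra R₀ C] [Algebra A₀ C] [Algebra C₀ C]
    [IsScalarTower R₀ A₀ C] [IsScalarTower R₀ C₀ C]
    [Module R₀ Mod] [Module A₀ B₀] (e : A₀ ⊗[R₀] Mod ≃ₗ[A₀] B₀)
    [Module.Flat C₀ (C₀ ⊗[R₀] Mod)] : Module.Flat C (C ⊗[A₀] B₀) := by
  let e₁ : C ⊗[A₀] B₀ ≃ₗ[C] C ⊗[C₀] (C₀ ⊗[R₀] Mod) :=
    (AlgebraTensorModule.congr (LinearEquiv.refl C C) e).symm ≪≫ₗ
    (AlgebraTensorModule.cancelBaseChange R₀ A₀ C C Mod) ≪≫ₗ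
    (AlgebraTensorModule.cancelBaseChange R₀ C₀ C C Mod).symm
  exact Module.Flat.of_linearEquiv e₁

attribute [local instance] Algebra.TensorProduct.rightAlgebra in
/-- Let `B₀` be a finitely presented `A₀`-algebra and `A'` an `A₀`-algebra such that `A' ⊗ B₀` is
faithfully flat over `A'`.  Then there is a finitely presented `A₀`-algebra `C` mapping to `A'` with
`C ⊗ B₀` faithfully flat over `C`. -/
theorem exists_fp_faithfullyFlat {A₀ : Type u} [CommRing A₀] (B₀ : Type u) [CommRing B₀]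
    [Algebra A₀ B₀] [Algebra.FinitePresentation A₀ B₀]
    (A' : Type u) [CommRing A'] [Algebra A₀ A'] [Module.FaithfullyFlat A' (A' ⊗[A₀] B₀)] :
    ∃ (C : Type u) (_ : CommRing C) (_ : Algebra A₀ C) (_ : Algebra.FinitePresentation A₀ C)
      (_ : C →ₐ[A₀] A'), Module.FaithfullyFlat C (C ⊗[A₀] B₀) := by
  classical
  let P := Algebra.Presentation.ofFinitePresentation A₀ B₀
  haveI : IsNoetherianRing P.Core := Algebra.FiniteType.isNoetherianRing ℤ P.Core
  let e := P.tensorModelOfHasCoeffsEquiv P.Core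
  letI : Algebra P.Core A' := ((algebraMap A₀ A').comp (algebraMap P.Core A₀)).toAlgebra
  haveI : IsScalarTower P.Core A₀ A' := IsScalarTower.of_algebraMap_eq (fun _ => rfl)
  let e' : A' ⊗[P.Core] P.ModelOfHasCoeffs P.Core ≃ₗ[A'] A' ⊗[A₀] B₀ :=
    (AlgebraTensorModule.cancelBaseChange P.Core A₀ A' A' (P.ModelOfHasCoeffs P.Core)).symm ≪≫ₗ
      AlgebraTensorModule.congr (LinearEquiv.refl A' A') e.toLinearEquiv
  haveI : Module.FaithfullyFlat A' (A' ⊗[P.Core] P.ModelOfHasCoeffs P.Core) :=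
    Module.FaithfullyFlat.of_linearEquiv A' (A' ⊗[A₀] B₀) e'
  obtain ⟨T, hT⟩ := FD8.exists_finset_faithfullyFlat (R₀ := P.Core) (P.ModelOfHasCoeffs P.Core) A'
  set C₀ : Subalgebra P.Core A' := Algebra.adjoin P.Core (↑T : Set A') with hC₀
  haveI : Algebra.FiniteType P.Core C₀ := (Subalgebra.fg_iff_finiteType C₀).mp ⟨T, rfl⟩
  haveI : Algebra.FinitePresentation P.Core C₀ := Algebra.FinitePresentation.of_finiteType.mp
    inferInstance
  haveI : Module.FaithfullyFlat C₀ (C₀ ⊗[P.Core] P.ModelOfHasCoeffs P.Core) :=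
    hT C₀ Algebra.subset_adjoin
  refine ⟨A₀ ⊗[P.Core] C₀, inferInstance, inferInstance, inferInstance,
    Algebra.TensorProduct.productLeftAlgHom (Algebra.ofId A₀ A') C₀.val, ?_⟩
  exact ff_transfer (R₀ := P.Core) (C₀ := C₀) (Mod := P.ModelOfHasCoeffs P.Core) e.toLinearEquiv

attribute [local instance] Algebra.TensorProduct.rightAlgebra in
/-- Let `B₀` be a finitely presented `A₀`-algebra and `A'` an `A₀`-algebra such that `A' ⊗ B₀` is
flat over `A'`.  Then there is a finitely presented `A₀`-algebra `C` mapping to `A'` with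
`C ⊗ B₀` flat over `C`. -/
theorem exists_fp_flat {A₀ : Type u} [CommRing A₀] (B₀ : Type u) [CommRing B₀]
    [Algebra A₀ B₀] [Algebra.FinitePresentation A₀ B₀]
    (A' : Type u) [CommRing A'] [Algebra A₀ A'] [Module.Flat A' (A' ⊗[A₀] B₀)] :
    ∃ (C : Type u) (_ : CommRing C) (_ : Algebra A₀ C) (_ : Algebra.FinitePresentation A₀ C)
      (_ : C →ₐ[A₀] A'), Module.Flat C (C ⊗[A₀] B₀) := by
  classical
  let P := Algebra.Presentation.ofFinitePresentation A₀ B₀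
  haveI : IsNoetherianRing P.Core := Algebra.FiniteType.isNoetherianRing ℤ P.Core
  let e := P.tensorModelOfHasCoeffsEquiv P.Core
  letI : Algebra P.Core A' := ((algebraMap A₀ A').comp (algebraMap P.Core A₀)).toAlgebra
  haveI : IsScalarTower P.Core A₀ A' := IsScalarTower.of_algebraMap_eq (fun _ => rfl)
  let e' : A' ⊗[P.Core] P.ModelOfHasCoeffs P.Core ≃ₗ[A'] A' ⊗[A₀] B₀ :=
    (AlgebraTensorModule.cancelBaseChange P.Core A₀ A' A' (P.ModelOfHasCoeffs P.Core)).symm ≪≫ₗ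
      AlgebraTensorModule.congr (LinearEquiv.refl A' A') e.toLinearEquiv
  haveI : Module.Flat A' (A' ⊗[P.Core] P.ModelOfHasCoeffs P.Core) :=
    Module.Flat.of_linearEquiv e'
  obtain ⟨T, hT⟩ := FD7.core_ft' (A₀ := P.Core) (P.ModelOfHasCoeffs P.Core)
    (P.ModelOfHasCoeffs P.Core) A'
  set C₀ : Subalgebra P.Core A' := Algebra.adjoin P.Core (↑T : Set A') with hC₀
  haveI : Algebra.FiniteType P.Core C₀ := (Subalgebra.fg_iff_finiteType C₀).mp ⟨T, rfl⟩
  haveI : Algebra.FinitePresentation P.Core C₀ := Algebra.FinitePresentation.of_finiteType.mp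
    inferInstance
  haveI : Module.Flat C₀ (C₀ ⊗[P.Core] P.ModelOfHasCoeffs P.Core) :=
    hT C₀ Algebra.subset_adjoin
  refine ⟨A₀ ⊗[P.Core] C₀, inferInstance, inferInstance, inferInstance,
    Algebra.TensorProduct.productLeftAlgHom (Algebra.ofId A₀ A') C₀.val, ?_⟩
  exact flat_transfer (R₀ := P.Core) (C₀ := C₀) (Mod := P.ModelOfHasCoeffs P.Core) e.toLinearEquiv

end Groth.Agent.Lead.FD10
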