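import Mathlib
import Groth.Agent.Lead.FD10
import Groth.Agent.Helper4.FPDescent
import Groth.Agent.Helper3.RelFP

/-!
# FD18: flat descent to a finitely presented algebra, module version
-/

set_option autoImplicit false
universe u
open TensorProduct

namespace Groth.Agent.Lead.FD18

attribute [local instance] MvPolynomial.algebraMvPolynomial

/-- Descending a finitely presented module over a polynomial ring to a ring of coefficients. -/
theorem exists_poly_model {R₀ A₀ : Type u} [CommRing R₀] [CommRing A₀] [Algebra R₀ A₀] (n : ℕ)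
    (M₀ : Type u) [AddCommGroup M₀] [Module (MvPolynomial (Fin n) A₀) M₀]
    {k m : ℕ} (p : (Fin k → MvPolynomial (Fin n) A₀) →ₗ[MvPolynomial (Fin n) A₀] M₀)
    (g : (Fin m → MvPolynomial (Fin n) A₀) →ₗ[MvPolynomial (Fin n) A₀]
      (Fin k → MvPolynomial (Fin n) A₀))
    (hp : Function.Surjective p) (hpg : Function.Exact g p)
    (hc : ∀ j l, (↑(g (Pi.single j 1) l).coeffs : Set A₀) ⊆ Set.range (algebraMap R₀ A₀)) :
    ∃ (M₀₀ : Type u) (_ : AddCommGroup M₀₀) (_ : Module (MvPolynomial (Fin n) R₀) M₀₀),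
      Module.FinitePresentation (MvPolynomial (Fin n) R₀) M₀₀ ∧
      Nonempty (M₀ ≃ₗ[MvPolynomial (Fin n) A₀]
        MvPolynomial (Fin n) A₀ ⊗[MvPolynomial (Fin n) R₀] M₀₀) := by
  have hw : ∀ j l, ∃ w : MvPolynomial (Fin n) R₀,
      algebraMap (MvPolynomial (Fin n) R₀) (MvPolynomial (Fin n) A₀) w = g (Pi.single j 1) l := by
    intro j l
    have := (MvPolynomial.mem_range_map_iff_coeffs_subset (f := algebraMap R₀ A₀)).mpr (hc j l)
    obtain ⟨w, hw⟩ := this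
    exact ⟨w, hw⟩
  choose w hw using hw
  refine ⟨(Fin k → MvPolynomial (Fin n) R₀) ⧸ LinearMap.range (Helper4.FPDescent.gR w),
    inferInstance, inferInstance, Helper4.FPDescent.finitePresentation_coker w, ?_⟩
  obtain ⟨e⟩ := Helper4.FPDescent.nonempty_equiv g w hw
  have hker : LinearMap.ker p = LinearMap.range g := LinearMap.exact_iff.mp hpg
  exact ⟨(LinearMap.quotKerEquivOfSurjective p hp).symm ≪≫ₗ
    (Submodule.quotEquivOfEq _ _ hker) ≪≫ₗ e⟩

attribute [local instance] Algebra.TensorProduct.rightAlgebra in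
/-- Module version of `FD10.exists_fp_flat`, given a Noetherian model. -/
theorem exists_fp_flat_of_model {R₀ A₀ : Type u} [CommRing R₀] [IsNoetherianRing R₀] [CommRing A₀]
    [Algebra R₀ A₀] (B₀₀ : Type u) [CommRing B₀₀] [Algebra R₀ B₀₀] [Algebra.FiniteType R₀ B₀₀]
    (M₀₀ : Type u) [AddCommGroup M₀₀] [Module R₀ M₀₀] [Module B₀₀ M₀₀] [IsScalarTower R₀ B₀₀ M₀₀]
    [Module.Finite B₀₀ M₀₀] (M₀ : Type u) [AddCommGroup M₀] [Module A₀ M₀]
    (e : A₀ ⊗[R₀] M₀₀ ≃ₗ[A₀] M₀)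
    (A' : Type u) [CommRing A'] [Algebra A₀ A'] [Module.Flat A' (A' ⊗[A₀] M₀)] :
    ∃ (C : Type u) (_ : CommRing C) (_ : Algebra A₀ C) (_ : Algebra.FinitePresentation A₀ C)
      (_ : C →ₐ[A₀] A'), Module.Flat C (C ⊗[A₀] M₀) := by
  classical
  letI : Algebra R₀ A' := ((algebraMap A₀ A').comp (algebraMap R₀ A₀)).toAlgebra
  haveI : IsScalarTower R₀ A₀ A' := IsScalarTower.of_algebraMap_eq (fun _ => rfl)
  let e' : A' ⊗[R₀] M₀₀ ≃ₗ[A'] A' ⊗[A₀] M₀ :=
    (AlgebraTensorModule.cancelBaseChange R₀ A₀ A' A' M₀₀).symm ≪≫ₗ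
      AlgebraTensorModule.congr (LinearEquiv.refl A' A') e
  haveI : Module.Flat A' (A' ⊗[R₀] M₀₀) := Module.Flat.of_linearEquiv e'
  obtain ⟨T, hT⟩ := FD7.core_ft' (A₀ := R₀) B₀₀ M₀₀ A'
  set C₀ : Subalgebra R₀ A' := Algebra.adjoin R₀ (↑T : Set A') with hC₀
  haveI : Algebra.FiniteType R₀ C₀ := (Subalgebra.fg_iff_finiteType C₀).mp ⟨T, rfl⟩
  haveI : Algebra.FinitePresentation R₀ C₀ := Algebra.FinitePresentation.of_finiteType.mp
    inferInstance
  haveI : Module.Flat C₀ (C₀ ⊗[R₀] M₀₀) := hT C₀ Algebra.subset_adjoin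
  refine ⟨A₀ ⊗[R₀] C₀, inferInstance, inferInstance, inferInstance,
    Algebra.TensorProduct.productLeftAlgHom (Algebra.ofId A₀ A') C₀.val, ?_⟩
  exact FD10.flat_transfer (R₀ := R₀) (C₀ := C₀) (Mod := M₀₀) e

/-- Polynomial ring case. -/
theorem exists_fp_flat_poly {A₀ : Type u} [CommRing A₀] (n : ℕ) (M₀ : Type u) [AddCommGroup M₀]
    [Module (MvPolynomial (Fin n) A₀) M₀] [Module A₀ M₀]
    [IsScalarTower A₀ (MvPolynomial (Fin n) A₀) M₀]
    [Module.FinitePresentation (MvPolynomial (Fin n) A₀) M₀]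
    (A' : Type u) [CommRing A'] [Algebra A₀ A'] [Module.Flat A' (A' ⊗[A₀] M₀)] :
    ∃ (C : Type u) (_ : CommRing C) (_ : Algebra A₀ C) (_ : Algebra.FinitePresentation A₀ C)
      (_ : C →ₐ[A₀] A'), Module.Flat C (C ⊗[A₀] M₀) := by
  classical
  obtain ⟨k, m, p, g, hp, hpg⟩ :=
    Module.FinitePresentation.exists_fin' (MvPolynomial (Fin n) A₀) M₀
  let S : Finset A₀ := Finset.univ.biUnion (fun j : Fin m =>
    Finset.univ.biUnion (fun l : Fin k => (g (Pi.single j 1) l).coeffs))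
  obtain ⟨R₀, hR₀⟩ : ∃ R : Subalgebra ℤ A₀, R = Algebra.adjoin ℤ (↑S : Set A₀) := ⟨_, rfl⟩
  have hc : ∀ j l, (↑(g (Pi.single j 1) l).coeffs : Set A₀) ⊆ Set.range (algebraMap R₀ A₀) := by
    intro j l x hx
    have hxS : x ∈ S := by
      simp only [S, Finset.mem_biUnion, Finset.mem_univ, true_and]
      exact ⟨j, l, hx⟩
    exact ⟨⟨x, hR₀ ▸ Algebra.subset_adjoin hxS⟩, rfl⟩
  obtain ⟨M₀₀, _, _, hfp, ⟨e⟩⟩ := exists_poly_model (R₀ := R₀) n M₀ p g hp hpg hc
  letI : Module R₀ M₀₀ := Module.compHom M₀₀ (algebraMap R₀ (MvPolynomial (Fin n) R₀))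
  haveI : IsScalarTower R₀ (MvPolynomial (Fin n) R₀) M₀₀ :=
    IsScalarTower.of_algebraMap_smul (fun r x => rfl)
  haveI : Algebra.FiniteType ℤ R₀ := (Subalgebra.fg_iff_finiteType R₀).mp ⟨S, hR₀.symm⟩
  haveI : IsNoetherianRing R₀ := Algebra.FiniteType.isNoetherianRing ℤ R₀
  let e₂ : A₀ ⊗[R₀] M₀₀ ≃ₗ[A₀] M₀ :=
    (Algebra.IsPushout.cancelBaseChange R₀ A₀ (MvPolynomial (Fin n) R₀)
      (MvPolynomial (Fin n) A₀) M₀₀).symm ≪≫ₗ (e.restrictScalars A₀).symm
  exact exists_fp_flat_of_model (R₀ := R₀) (MvPolynomial (Fin n) R₀) M₀₀ M₀ e₂ A'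

/-- Let `B₀` be a finitely presented `A₀`-algebra, `M₀` a finitely presented `B₀`-module and `A'` an
`A₀`-algebra such that `A' ⊗ M₀` is flat over `A'`.  Then there is a finitely presented `A₀`-algebra
`C` mapping to `A'` with `C ⊗ M₀` flat over `C`. -/
theorem exists_fp_flat_module {A₀ : Type u} [CommRing A₀] (B₀ : Type u) [CommRing B₀]
    [Algebra A₀ B₀] [Algebra.FinitePresentation A₀ B₀]
    (M₀ : Type u) [AddCommGroup M₀] [Module B₀ M₀] [Module A₀ M₀] [IsScalarTower A₀ B₀ M₀]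
    [Module.FinitePresentation B₀ M₀]
    (A' : Type u) [CommRing A'] [Algebra A₀ A'] [Module.Flat A' (A' ⊗[A₀] M₀)] :
    ∃ (C : Type u) (_ : CommRing C) (_ : Algebra A₀ C) (_ : Algebra.FinitePresentation A₀ C)
      (_ : C →ₐ[A₀] A'), Module.Flat C (C ⊗[A₀] M₀) := by
  obtain ⟨n, φ, hφ, hker⟩ := Algebra.FinitePresentation.out (R := A₀) (A := B₀)
  letI : Algebra (MvPolynomial (Fin n) A₀) B₀ := φ.toRingHom.toAlgebra
  letI : Module (MvPolynomial (Fin n) A₀) M₀ := Module.compHom M₀ φ.toRingHom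
  haveI : IsScalarTower (MvPolynomial (Fin n) A₀) B₀ M₀ :=
    IsScalarTower.of_algebraMap_smul (fun r x => rfl)
  haveI : Module.FinitePresentation (MvPolynomial (Fin n) A₀) M₀ :=
    Helper3.RelFP.of_surjective_fg (P₁ := MvPolynomial (Fin n) A₀) (P₂ := B₀) hφ hker
  haveI : IsScalarTower A₀ (MvPolynomial (Fin n) A₀) M₀ := by
    refine IsScalarTower.of_algebraMap_smul (fun a x => ?_)
    change φ (algebraMap A₀ _ a) • x = a • x
    rw [φ.commutes, algebraMap_smul]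
  exact exists_fp_flat_poly n M₀ A'

end Groth.Agent.Lead.FD18
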