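import Mathlib
import Groth.Agent.Lead.FD18
import Groth.Prelude.Def_FlatCA

/-!
# FD19: flatness over a directed colimit of rings descends to a stage
-/

set_option autoImplicit false
universe u
open TensorProduct

namespace Groth.Agent.Lead.FD19

/-- A map from a finitely presented algebra to a directed colimit factors through a stage. -/
theorem exists_factor {A₀ : Type u} [CommRing A₀] {ι : Type u} [Preorder ι] (G : ι → Type u)
    [∀ i, CommRing (G i)] [∀ i, Algebra A₀ (G i)] (g : ∀ i j, i ≤ j → G i →ₐ[A₀] G j)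
    (A : Type u) [CommRing A] [Algebra A₀ A] [∀ i, Algebra (G i) A]
    [∀ i, IsScalarTower A₀ (G i) A]
    (hcolim : FlatCA.IsDirectedColimitRing G (fun i j h => (g i j h).toRingHom) A)
    (C : Type u) [CommRing C] [Algebra A₀ C] [Algebra.FinitePresentation A₀ C] (ψ : C →ₐ[A₀] A) :
    ∃ (i : ι) (θ : C →ₐ[A₀] G i), ∀ c, algebraMap (G i) A (θ c) = ψ c := by
  classical
  obtain ⟨hdir, hne, hid, hcomp, hcompat, hsurj, hzero⟩ := hcolim
  obtain ⟨n, f, hf, hker⟩ := Algebra.FinitePresentation.out (R := A₀) (A := C)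
  have h1 : ∀ k : Fin n, ∃ i, ∃ x : G i, algebraMap (G i) A x = ψ (f (MvPolynomial.X k)) :=
    fun k => hsurj _
  choose ik xk hxk using h1
  obtain ⟨i, hi⟩ := Finset.exists_le (Finset.univ.image ik)
  have hik : ∀ k, ik k ≤ i := fun k => hi _ (Finset.mem_image_of_mem _ (Finset.mem_univ k))
  let y : Fin n → G i := fun k => g (ik k) i (hik k) (xk k)
  have hy : ∀ k, algebraMap (G i) A (y k) = ψ (f (MvPolynomial.X k)) := by
    intro k
    rw [← hxk k]
    exact congr($(hcompat _ _ (hik k)) (xk k))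
  let χ : MvPolynomial (Fin n) A₀ →ₐ[A₀] G i := MvPolynomial.aeval y
  have hχ : ∀ p, algebraMap (G i) A (χ p) = ψ (f p) := by
    have : (IsScalarTower.toAlgHom A₀ (G i) A).comp χ = ψ.comp f :=
      MvPolynomial.algHom_ext (fun k => by simp [χ, hy])
    intro p
    exact congr($this p)
  obtain ⟨S, hS⟩ := hker
  have h2 : ∀ s ∈ S, ∃ j, ∃ h : i ≤ j, g i j h (χ s) = 0 := by
    intro s hs
    apply hzero
    rw [hχ]
    have : s ∈ RingHom.ker f.toRingHom := hS ▸ Ideal.subset_span hs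
    rw [show f s = 0 from this, map_zero]
  choose! js hjs using h2
  obtain ⟨j, hj⟩ := Finset.exists_le (insert i (S.image js))
  have hij : i ≤ j := hj i (Finset.mem_insert_self _ _)
  let χ' : MvPolynomial (Fin n) A₀ →ₐ[A₀] G j := (g i j hij).comp χ
  have hχ'0 : ∀ s ∈ S, χ' s = 0 := by
    intro s hs
    obtain ⟨h, h0⟩ := hjs s hs
    have hjsj : js s ≤ j := hj _ (Finset.mem_insert_of_mem (Finset.mem_image_of_mem _ hs))
    change g i j hij (χ s) = 0
    have := congr($(hcomp i (js s) j h hjsj) (χ s))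
    change g (js s) j hjsj (g i (js s) h (χ s)) = g i j hij (χ s) at this
    rw [← this, h0, map_zero]
  have hle : RingHom.ker f.toRingHom ≤ RingHom.ker χ'.toRingHom := by
    rw [← hS, Ideal.span_le]
    intro s hs
    exact hχ'0 s hs
  refine ⟨j, AlgHom.liftOfSurjective f hf χ' hle, fun c => ?_⟩
  obtain ⟨p, rfl⟩ := hf c
  rw [AlgHom.liftOfSurjective_apply]
  change algebraMap (G j) A (g i j hij (χ p)) = _
  rw [← hχ p]
  exact congr($(hcompat i j hij) (χ p))

/-- base change of flatness along an algebra map, in tensor form -/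
lemma flat_of_algHom {A₀ C D M₀ : Type u} [CommRing A₀] [CommRing C] [CommRing D]
    [Algebra A₀ C] [Algebra A₀ D] [Algebra C D] [IsScalarTower A₀ C D]
    [AddCommGroup M₀] [Module A₀ M₀] [Module.Flat C (C ⊗[A₀] M₀)] :
    Module.Flat D (D ⊗[A₀] M₀) :=
  Module.Flat.of_linearEquiv (AlgebraTensorModule.cancelBaseChange A₀ C D D M₀).symm

theorem flat_colimit_baseChange_iff_exists_stage {A₀ : Type u} [CommRing A₀]
    {ι : Type u} [Preorder ι] (G : ι → Type u) [∀ i, CommRing (G i)] [∀ i, Algebra A₀ (G i)]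
    (g : ∀ i j, i ≤ j → G i →ₐ[A₀] G j)
    (A : Type u) [CommRing A] [Algebra A₀ A] [∀ i, Algebra (G i) A] [∀ i, IsScalarTower A₀ (G i) A]
    (hcolim : FlatCA.IsDirectedColimitRing G (fun i j h => (g i j h).toRingHom) A)
    {B₀ : Type u} [CommRing B₀] [Algebra A₀ B₀] [Algebra.FinitePresentation A₀ B₀]
    (M₀ : Type u) [AddCommGroup M₀] [Module B₀ M₀] [Module A₀ M₀] [IsScalarTower A₀ B₀ M₀]
    [Module.FinitePresentation B₀ M₀] :
    Module.Flat A (A ⊗[A₀] M₀) ↔ ∃ i : ι, Module.Flat (G i) (G i ⊗[A₀] M₀) := by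
  constructor
  · intro h
    obtain ⟨C, _, _, _, ψ, hC⟩ := FD18.exists_fp_flat_module (A₀ := A₀) B₀ M₀ A
    obtain ⟨i, θ, -⟩ := exists_factor G g A hcolim C ψ
    refine ⟨i, ?_⟩
    letI : Algebra C (G i) := θ.toRingHom.toAlgebra
    haveI : IsScalarTower A₀ C (G i) :=
      IsScalarTower.of_algebraMap_eq (fun a => (θ.commutes a).symm)
    exact flat_of_algHom (A₀ := A₀) (C := C) (D := G i) (M₀ := M₀)
  · rintro ⟨i, hi⟩
    exact flat_of_algHom (A₀ := A₀) (C := G i) (D := A) (M₀ := M₀)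

end Groth.Agent.Lead.FD19
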