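import Mathlib

section OldPart
set_option autoImplicit false
universe u

open TensorProduct

namespace Groth.Agent.Lead

/-- If `A → B → C` with `C` flat over `A` and `C` faithfully flat over `B`, then `B` is flat
over `A`. -/
theorem flat_of_flat_of_faithfullyFlat_tower (A B C : Type u) [CommRing A] [CommRing B]
    [CommRing C] [Algebra A B] [Algebra B C] [Algebra A C] [IsScalarTower A B C]
    [Module.Flat A C] [Module.FaithfullyFlat B C] : Module.Flat A B := by
  rw [Module.Flat.iff_lTensor_preserves_injective_linearMap]
  intro N P _ _ _ _ f hf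
  let fB : B ⊗[A] N →ₗ[B] B ⊗[A] P := AlgebraTensorModule.lTensor B B f
  change Function.Injective fB
  rw [← Module.FaithfullyFlat.lTensor_injective_iff_injective B C]
  have key : LinearMap.lTensor C fB =
      ((AlgebraTensorModule.cancelBaseChange A B C C P).symm.toLinearMap.restrictScalars B) ∘ₗ
        ((AlgebraTensorModule.lTensor C C f).restrictScalars B) ∘ₗ
        ((AlgebraTensorModule.cancelBaseChange A B C C N).toLinearMap.restrictScalars B) := by
    ext c b n
    simp [fB, LinearEquiv.symm_apply_eq]
  rw [key]
  simp only [LinearMap.coe_comp, LinearMap.coe_restrictScalars, LinearEquiv.coe_coe,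
    EmbeddingLike.comp_injective, EquivLike.injective_comp]
  exact Module.Flat.lTensor_preserves_injective_linearMap f hf

/-- Ring hom version. -/
theorem RingHom.Flat.of_comp_of_faithfullyFlat {A B C : Type u} [CommRing A] [CommRing B]
    [CommRing C] (φ : A →+* B) (ψ : B →+* C) (h1 : (ψ.comp φ).Flat) (h2 : ψ.FaithfullyFlat) :
    φ.Flat := by
  algebraize [φ, ψ, ψ.comp φ]
  exact flat_of_flat_of_faithfullyFlat_tower A B C

/-- If `A → B → C → D` with `C` flat over `A` and `D` faithfully flat over `B`, then `B` is flat
over `A`. -/
theorem flat_of_flat_of_faithfullyFlat_of_factor (A B C D : Type u) [CommRing A] [CommRing B]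
    [CommRing C] [CommRing D] [Algebra A B] [Algebra A C] [Algebra B C] [IsScalarTower A B C]
    [Algebra A D] [Algebra B D] [Algebra C D] [IsScalarTower A B D] [IsScalarTower B C D]
    [Module.Flat A C] [Module.FaithfullyFlat B D] : Module.Flat A B := by
  rw [Module.Flat.iff_lTensor_preserves_injective_linearMap]
  intro M N _ _ _ _ φ hφ
  -- the A-linear maps B → C → D
  let ι : B →ₗ[A] C := (IsScalarTower.toAlgHom A B C).toLinearMap
  let κ : B →ₗ[A] D := (IsScalarTower.toAlgHom A B D).toLinearMap
  let κ' : C →ₗ[A] D :=
    { toFun := algebraMap C D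
      map_add' := map_add _
      map_smul' := fun a c => by
        simp only [RingHom.id_apply, Algebra.smul_def, map_mul]
        rw [IsScalarTower.algebraMap_apply A B C, ← IsScalarTower.algebraMap_apply B C D,
          ← IsScalarTower.algebraMap_apply A B D] }
  have hκ : κ = κ' ∘ₗ ι := by
    ext b
    simp only [κ, ι, κ', LinearMap.coe_comp, Function.comp_apply, AlgHom.toLinearMap_apply,
      IsScalarTower.coe_toAlgHom', LinearMap.coe_mk, AddHom.coe_mk]
    exact IsScalarTower.algebraMap_apply B C D b
  -- injectivity of B ⊗ M → D ⊗ M
  have hinjD : ∀ (P : Type u) [AddCommGroup P] [Module A P],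
      Function.Injective (LinearMap.rTensor P κ) := by
    intro P _ _
    have h1 := Module.FaithfullyFlat.tensorProduct_mk_injective (A := B) (B := D) (B ⊗[A] P)
    have key : ∀ x : B ⊗[A] P, (AlgebraTensorModule.cancelBaseChange A B D D P)
        (TensorProduct.mk B D (B ⊗[A] P) 1 x) = LinearMap.rTensor P κ x := by
      intro x
      induction x with
      | zero => simp
      | add x y hx hy => simp only [map_add, hx, hy]
      | tmul b p =>
        simp [κ, Algebra.smul_def]
    intro x y hxy
    apply h1
    apply (AlgebraTensorModule.cancelBaseChange A B D D P).injective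
    rw [key, key, hxy]
  have hinjC : ∀ (P : Type u) [AddCommGroup P] [Module A P],
      Function.Injective (LinearMap.rTensor P ι) := by
    intro P _ _
    have := hinjD P
    rw [hκ, LinearMap.rTensor_comp] at this
    exact Function.Injective.of_comp this
  -- conclude
  have hC : Function.Injective (LinearMap.lTensor C φ) :=
    Module.Flat.lTensor_preserves_injective_linearMap φ hφ
  have hsq : (LinearMap.lTensor C φ) ∘ₗ (LinearMap.rTensor M ι) =
      (LinearMap.rTensor N ι) ∘ₗ (LinearMap.lTensor B φ) := by
    ext b m
    simp
  have : Function.Injective ((LinearMap.rTensor N ι) ∘ₗ (LinearMap.lTensor B φ)) := by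
    rw [← hsq]
    exact hC.comp (hinjC M)
  exact Function.Injective.of_comp this

/-- Ring hom version. -/
theorem RingHom.Flat.of_comp_of_faithfullyFlat_of_factor {A B C D : Type u} [CommRing A]
    [CommRing B] [CommRing C] [CommRing D] (φ : A →+* B) (ψ : B →+* C) (χ : C →+* D)
    (h1 : (ψ.comp φ).Flat) (h2 : (χ.comp ψ).FaithfullyFlat) : φ.Flat := by
  algebraize [φ, ψ, χ, ψ.comp φ, χ.comp ψ, (χ.comp ψ).comp φ]
  exact flat_of_flat_of_faithfullyFlat_of_factor A B C D

end Groth.Agent.Lead

end OldPart

section NewPart
set_option autoImplicit false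
universe u
open TensorProduct

namespace Groth.Agent.Lead.FlatTower

variable {A B C : Type u} [CommRing A] [CommRing B] [CommRing C] [Algebra A B] [Algebra B C]
  [Algebra A C] [IsScalarTower A B C]
  {N : Type u} [AddCommGroup N] [Module B N] [Module A N] [IsScalarTower A B N]

theorem assoc_lTensor {M' M : Type u} [AddCommGroup M'] [AddCommGroup M] [Module A M'] [Module A M]
    (f : M' →ₗ[A] M) (z : (C ⊗[B] N) ⊗[A] M') :
    AlgebraTensorModule.assoc A B C C N M (f.lTensor (C ⊗[B] N) z) =
      ((AlgebraTensorModule.lTensor B N f).lTensor C) (AlgebraTensorModule.assoc A B C C N M' z) := by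
  induction z using TensorProduct.induction_on with
  | zero => simp
  | add x y hx hy => rw [map_add, map_add, map_add, map_add, hx, hy]
  | tmul w m =>
    induction w using TensorProduct.induction_on with
    | zero => simp
    | add x y hx hy =>
      rw [TensorProduct.add_tmul, map_add, map_add, map_add, map_add, hx, hy]
    | tmul c n => rfl

/-- flatness over `A` is preserved by a flat base change `B → C` of the `B`-module structure -/
theorem flat_tensor_of_flat [Module.Flat B C] (h : Module.Flat A N) :
    Module.Flat A (C ⊗[B] N) := by
  rw [Module.Flat.iff_lTensor_preserves_injective_linearMap]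
  intro M' M _ _ _ _ f hf
  have h1 : Function.Injective (f.lTensor N) :=
    Module.Flat.lTensor_preserves_injective_linearMap f hf
  have h2 : Function.Injective (AlgebraTensorModule.lTensor B N f) := h1
  have h3 : Function.Injective ((AlgebraTensorModule.lTensor B N f).lTensor C) :=
    Module.Flat.lTensor_preserves_injective_linearMap _ h2
  intro z w hzw
  apply (AlgebraTensorModule.assoc A B C C N M').injective
  apply h3
  rw [← assoc_lTensor, ← assoc_lTensor, hzw]

/-- flatness over `A` descends along a faithfully flat base change `B → C` -/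
theorem flat_of_flat_tensor [Module.FaithfullyFlat B C] (h : Module.Flat A (C ⊗[B] N)) :
    Module.Flat A N := by
  rw [Module.Flat.iff_lTensor_preserves_injective_linearMap]
  intro M' M _ _ _ _ f hf
  have h1 : Function.Injective (f.lTensor (C ⊗[B] N)) :=
    Module.Flat.lTensor_preserves_injective_linearMap f hf
  have h3 : Function.Injective ((AlgebraTensorModule.lTensor B N f).lTensor C) := by
    intro z w hzw
    obtain ⟨z', rfl⟩ := (AlgebraTensorModule.assoc A B C C N M').surjective z
    obtain ⟨w', rfl⟩ := (AlgebraTensorModule.assoc A B C C N M').surjective w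
    rw [← assoc_lTensor, ← assoc_lTensor] at hzw
    rw [h1 ((AlgebraTensorModule.assoc A B C C N M).injective hzw)]
  have h2 : Function.Injective (AlgebraTensorModule.lTensor B N f) :=
    (Module.FaithfullyFlat.lTensor_injective_iff_injective B C _).mp h3
  exact h2

end Groth.Agent.Lead.FlatTower

end NewPart
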