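import Mathlib
import Groth.Agent.Lead.FlatTower

set_option autoImplicit false
universe u
open TensorProduct

namespace Groth.Agent.Lead.FlatBC

open Groth.Agent.Lead.FlatTower

/-- algebraic core of base change of flatness: `C₀ = R₀' ⊗[R₀] B₀`, `D` flat over `C₀`,
`B` a localization of `B₀` mapping to `D`, `N` a `B`-module flat over `R₀`; then `D ⊗[B] N`
is flat over `R₀'`. -/
theorem flat_of_pushout
    {R₀ R₀' B₀ C₀ B D : Type u} [CommRing R₀] [CommRing R₀'] [CommRing B₀] [CommRing C₀]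
    [CommRing B] [CommRing D]
    [Algebra R₀ R₀'] [Algebra R₀ B₀] [Algebra R₀' C₀] [Algebra B₀ C₀] [Algebra R₀ C₀]
    [IsScalarTower R₀ R₀' C₀] [IsScalarTower R₀ B₀ C₀] [Algebra.IsPushout R₀ R₀' B₀ C₀]
    [Algebra B₀ B] [Algebra B D] [Algebra B₀ D] [IsScalarTower B₀ B D]
    [Algebra C₀ D] [IsScalarTower B₀ C₀ D] [Algebra R₀' D] [IsScalarTower R₀' C₀ D]
    [Module.Flat C₀ D]
    (p : Submonoid B₀) [IsLocalization p B]
    {N : Type u} [AddCommGroup N] [Module B N] [Module B₀ N] [IsScalarTower B₀ B N]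
    [Module R₀ N] [IsScalarTower R₀ B₀ N] (hN : Module.Flat R₀ N) :
    Module.Flat R₀' (D ⊗[B] N) := by
  -- `C₀ ⊗[B₀] N` is flat over `R₀'`
  have h1 : Module.Flat R₀' (C₀ ⊗[B₀] N) :=
    Module.Flat.of_linearEquiv (Algebra.IsPushout.cancelBaseChange R₀ R₀' B₀ C₀ N)
  -- hence so is `D ⊗[C₀] (C₀ ⊗[B₀] N)`
  have h2 : Module.Flat R₀' (D ⊗[C₀] (C₀ ⊗[B₀] N)) :=
    flat_tensor_of_flat (A := R₀') (B := C₀) (C := D) h1
  -- `D ⊗[B₀] N`
  have e1 : D ⊗[C₀] (C₀ ⊗[B₀] N) ≃ₗ[D] D ⊗[B₀] N :=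
    AlgebraTensorModule.cancelBaseChange B₀ C₀ D D N
  -- `D ⊗[B] N`
  haveI := isLocalizedModule_id p N B
  have hb1 : IsBaseChange B (LinearMap.id : N →ₗ[B₀] N) :=
    (isLocalizedModule_iff_isBaseChange p B _).mp inferInstance
  have hb2 : IsBaseChange D (TensorProduct.mk B D N 1) := TensorProduct.isBaseChange B N D
  have hb12 := hb1.comp hb2
  have hb3 : IsBaseChange D (TensorProduct.mk B₀ D N 1) := TensorProduct.isBaseChange B₀ N D
  have e2 : D ⊗[B₀] N ≃ₗ[D] D ⊗[B] N := hb3.equiv.symm.trans hb12.equiv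
  exact Module.Flat.of_linearEquiv ((e1.trans e2).restrictScalars R₀').symm

end Groth.Agent.Lead.FlatBC
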