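import Mathlib
import Groth.Agent.Lead.StalkPull2
import Groth.Agent.Lead.FlatBC

set_option autoImplicit false
universe u
open CategoryTheory CategoryTheory.Limits AlgebraicGeometry TopologicalSpace Opposite TensorProduct

namespace Groth.Agent.Lead.FlatBC

open Groth.Agent.Lead.StalkPull

/-- naturality of germs w.r.t. `appLE` and stalk maps -/
theorem stalkMap_germ_appLE {X Y : Scheme.{u}} (f : X ⟶ Y) (U : Y.Opens) (V : X.Opens)
    (e : V ≤ f ⁻¹ᵁ U) (x : X) (hx : x ∈ V) (b : Γ(Y, U)) :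
    f.stalkMap x (Y.presheaf.germ U (f x) (e hx) b) = X.presheaf.germ V x hx (f.appLE U V e b) := by
  rw [Scheme.Hom.germ_stalkMap_apply, Scheme.Hom.appLE, CommRingCat.comp_apply]
  exact (TopCat.Presheaf.germ_res_apply X.presheaf (homOfLE e) x hx _).symm

set_option backward.isDefEq.respectTransparency false in
/-- S1391 -/
theorem main_baseChange {X S X' S' : Scheme.{u}} (f : X ⟶ S) (f' : X' ⟶ S') (g' : X' ⟶ X)
    (g : S' ⟶ S) (hc : IsPullback g' f' f g) (F : X.Modules) (hF : Coh.IsQCoh F) (x' : X')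
    (h : FlatMod.IsFlatOverAt f F (g' x')) :
    FlatMod.IsFlatOverAt f' ((Scheme.Modules.pullback g').obj F) x' := by
  haveI : F.IsQuasicoherent := hF
  obtain ⟨E⟩ := nonempty_stalk_pullback_equiv g' F x'
  -- affine opens
  obtain ⟨_, ⟨US, hUS : IsAffineOpen US, rfl⟩, hs, -⟩ :=
    S.isBasis_affineOpens.exists_subset_of_mem_open (Set.mem_univ (f (g' x'))) isOpen_univ
  obtain ⟨_, ⟨UX, hUX : IsAffineOpen UX, rfl⟩, hx, hUXS'⟩ :=
    X.isBasis_affineOpens.exists_subset_of_mem_open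
      (show g' x' ∈ ((f ⁻¹ᵁ US : X.Opens) : Set X) from hs) (f ⁻¹ᵁ US).isOpen
  have hUXS : UX ≤ f ⁻¹ᵁ US := hUXS'
  have hcomm : g (f' x') = f (g' x') := by
    have := congrArg (fun φ : X' ⟶ S => φ x') hc.w
    simpa using this.symm
  have hs' : f' x' ∈ ((g ⁻¹ᵁ US : S'.Opens) : Set S') := by
    change g (f' x') ∈ US
    rw [hcomm]; exact hs
  obtain ⟨_, ⟨UT, hUT : IsAffineOpen UT, rfl⟩, ht, hUTS'⟩ :=
    S'.isBasis_affineOpens.exists_subset_of_mem_open hs' (g ⁻¹ᵁ US).isOpen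
  have hUTS : UT ≤ g ⁻¹ᵁ US := hUTS'
  obtain ⟨UY, hUYdef⟩ : ∃ UY : X'.Opens, UY = g' ⁻¹ᵁ UX ⊓ f' ⁻¹ᵁ UT := ⟨_, rfl⟩
  have hxY : x' ∈ UY := by rw [hUYdef]; exact ⟨hx, ht⟩
  have hUY : IsAffineOpen UY := by
    haveI : IsAffine (US : Scheme) := hUS
    haveI : IsAffine (UT : Scheme) := hUT
    haveI : IsAffine (UX : Scheme) := hUX
    exact .of_isIso (Scheme.Hom.isPullback_resLE hc hUTS hUXS hUYdef).isoPullback.hom
  have eY1 : UY ≤ g' ⁻¹ᵁ UX := by rw [hUYdef]; exact inf_le_left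
  have eY2 : UY ≤ f' ⁻¹ᵁ UT := by rw [hUYdef]; exact inf_le_right
  have hpo : IsPushout (f.appLE US UX hUXS) (g.appLE US UT hUTS) (g'.appLE UX UY eY1)
      (f'.appLE UT UY eY2) :=
    (isIso_pushoutSection_iff hc hUTS hUXS hUYdef).mp
      (isIso_pushoutSection_of_isAffineOpen hc hUTS hUXS hUYdef hUS hUT hUX)
  -- rings
  letI aRR' : Algebra Γ(S, US) Γ(S', UT) := (g.appLE US UT hUTS).hom.toAlgebra
  letI aRB : Algebra Γ(S, US) Γ(X, UX) := (f.appLE US UX hUXS).hom.toAlgebra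
  letI aR'C : Algebra Γ(S', UT) Γ(X', UY) := (f'.appLE UT UY eY2).hom.toAlgebra
  letI aBC : Algebra Γ(X, UX) Γ(X', UY) := (g'.appLE UX UY eY1).hom.toAlgebra
  letI aRC : Algebra Γ(S, US) Γ(X', UY) :=
    ((g'.appLE UX UY eY1).hom.comp (f.appLE US UX hUXS).hom).toAlgebra
  haveI tRBC : IsScalarTower Γ(S, US) Γ(X, UX) Γ(X', UY) :=
    IsScalarTower.of_algebraMap_eq (fun b => rfl)
  haveI tRR'C : IsScalarTower Γ(S, US) Γ(S', UT) Γ(X', UY) :=
    IsScalarTower.of_algebraMap_eq (fun b => by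
      change (g'.appLE UX UY eY1) ((f.appLE US UX hUXS) b) =
        (f'.appLE UT UY eY2) ((g.appLE US UT hUTS) b)
      have := congrArg (fun φ => φ.hom b) hpo.w
      exact this)
  haveI hpush : Algebra.IsPushout Γ(S, US) Γ(S', UT) Γ(X, UX) Γ(X', UY) :=
    CommRingCat.isPushout_iff_isPushout.mp hpo.flip
  -- stalks
  letI aBB : Algebra Γ(X, UX) (X.presheaf.stalk (g' x')) :=
    X.presheaf.algebra_section_stalk ⟨g' x', hx⟩
  letI aBD : Algebra (X.presheaf.stalk (g' x')) (X'.presheaf.stalk x') :=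
    (g'.stalkMap x').hom.toAlgebra
  letI aCD : Algebra Γ(X', UY) (X'.presheaf.stalk x') :=
    X'.presheaf.algebra_section_stalk ⟨x', hxY⟩
  letI aB₀D : Algebra Γ(X, UX) (X'.presheaf.stalk x') :=
    ((X'.presheaf.germ UY x' hxY).hom.comp (g'.appLE UX UY eY1).hom).toAlgebra
  haveI tB₀CD : IsScalarTower Γ(X, UX) Γ(X', UY) (X'.presheaf.stalk x') :=
    IsScalarTower.of_algebraMap_eq (fun b => rfl)
  haveI tB₀BD : IsScalarTower Γ(X, UX) (X.presheaf.stalk (g' x')) (X'.presheaf.stalk x') :=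
    IsScalarTower.of_algebraMap_eq (fun b => by
      change X'.presheaf.germ UY x' hxY (g'.appLE UX UY eY1 b) =
        g'.stalkMap x' (X.presheaf.germ UX (g' x') hx b)
      rw [stalkMap_germ_appLE g' UX UY eY1 x' hxY])
  letI aR'D : Algebra Γ(S', UT) (X'.presheaf.stalk x') :=
    ((X'.presheaf.germ UY x' hxY).hom.comp (f'.appLE UT UY eY2).hom).toAlgebra
  haveI tR'CD : IsScalarTower Γ(S', UT) Γ(X', UY) (X'.presheaf.stalk x') :=
    IsScalarTower.of_algebraMap_eq (fun b => rfl)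
  haveI lB := hUX.isLocalization_stalk ⟨g' x', hx⟩
  haveI lD := hUY.isLocalization_stalk ⟨x', hxY⟩
  haveI fD : Module.Flat Γ(X', UY) (X'.presheaf.stalk x') :=
    IsLocalization.flat _ (hUY.primeIdealOf ⟨x', hxY⟩).asIdeal.primeCompl
  -- the module `N = F_x`
  letI mB₀N : Module Γ(X, UX) (F.presheaf.stalk (g' x')) :=
    Module.compHom _ (algebraMap Γ(X, UX) (X.presheaf.stalk (g' x')))
  haveI tB₀BN : IsScalarTower Γ(X, UX) (X.presheaf.stalk (g' x')) (F.presheaf.stalk (g' x')) :=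
    IsScalarTower.of_compHom _ _ _
  letI mRN : Module Γ(S, US) (F.presheaf.stalk (g' x')) :=
    Module.compHom _ (algebraMap Γ(S, US) Γ(X, UX))
  haveI tRB₀N : IsScalarTower Γ(S, US) Γ(X, UX) (F.presheaf.stalk (g' x')) :=
    IsScalarTower.of_compHom _ _ _
  -- flatness of `N` over `R₀`
  letI aRA : Algebra Γ(S, US) (S.presheaf.stalk (f (g' x'))) :=
    S.presheaf.algebra_section_stalk ⟨f (g' x'), hs⟩
  haveI lA := hUS.isLocalization_stalk ⟨f (g' x'), hs⟩
  letI mAN : Module (S.presheaf.stalk (f (g' x'))) (F.presheaf.stalk (g' x')) :=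
    FlatMod.moduleStalkOver f F (g' x')
  haveI tRAN : IsScalarTower Γ(S, US) (S.presheaf.stalk (f (g' x'))) (F.presheaf.stalk (g' x')) :=
    ⟨fun r a n => by
      change (f.stalkMap (g' x')) (S.presheaf.germ US (f (g' x')) hs r * a) • n =
        X.presheaf.germ UX (g' x') hx (f.appLE US UX hUXS r) • ((f.stalkMap (g' x')) a • n)
      rw [map_mul, mul_smul, stalkMap_germ_appLE f US UX hUXS (g' x') hx]⟩
  have hN : Module.Flat Γ(S, US) (F.presheaf.stalk (g' x')) :=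
    (Module.flat_iff_of_isLocalization (S.presheaf.stalk (f (g' x')))
      (hUS.primeIdealOf ⟨f (g' x'), hs⟩).asIdeal.primeCompl (F.presheaf.stalk (g' x'))).mp h
  have key := flat_of_pushout (R₀ := Γ(S, US)) (R₀' := Γ(S', UT)) (B₀ := Γ(X, UX))
    (C₀ := Γ(X', UY)) (B := X.presheaf.stalk (g' x')) (D := X'.presheaf.stalk x')
    (hUX.primeIdealOf ⟨g' x', hx⟩).asIdeal.primeCompl hN
  -- transfer to `P = (g'^* F)_{x'}`
  letI mR'P : Module Γ(S', UT) (((Scheme.Modules.pullback g').obj F).presheaf.stalk x') :=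
    Module.compHom _ (algebraMap Γ(S', UT) (X'.presheaf.stalk x'))
  haveI tR'DP : IsScalarTower Γ(S', UT) (X'.presheaf.stalk x')
      (((Scheme.Modules.pullback g').obj F).presheaf.stalk x') :=
    IsScalarTower.of_compHom _ _ _
  have hP : Module.Flat Γ(S', UT) (((Scheme.Modules.pullback g').obj F).presheaf.stalk x') :=
    Module.Flat.of_linearEquiv (E.restrictScalars Γ(S', UT))
  letI aR'A' : Algebra Γ(S', UT) (S'.presheaf.stalk (f' x')) :=
    S'.presheaf.algebra_section_stalk ⟨f' x', ht⟩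
  haveI lA' := hUT.isLocalization_stalk ⟨f' x', ht⟩
  letI mA'P : Module (S'.presheaf.stalk (f' x'))
      (((Scheme.Modules.pullback g').obj F).presheaf.stalk x') :=
    FlatMod.moduleStalkOver f' ((Scheme.Modules.pullback g').obj F) x'
  haveI tR'A'P : IsScalarTower Γ(S', UT) (S'.presheaf.stalk (f' x'))
      (((Scheme.Modules.pullback g').obj F).presheaf.stalk x') :=
    ⟨fun r a n => by
      change (f'.stalkMap x') (S'.presheaf.germ UT (f' x') ht r * a) • n =
        X'.presheaf.germ UY x' hxY (f'.appLE UT UY eY2 r) • ((f'.stalkMap x') a • n)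
      rw [map_mul, mul_smul, stalkMap_germ_appLE f' UT UY eY2 x' hxY]⟩
  exact (Module.flat_iff_of_isLocalization (S'.presheaf.stalk (f' x'))
      (hUT.primeIdealOf ⟨f' x', ht⟩).asIdeal.primeCompl
      (((Scheme.Modules.pullback g').obj F).presheaf.stalk x')).mpr hP


end Groth.Agent.Lead.FlatBC
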