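import Mathlib
import Groth.Agent.Lead.StalkPull2
import Groth.Agent.Lead.FlatTower

set_option autoImplicit false
universe u
open CategoryTheory CategoryTheory.Limits AlgebraicGeometry TopologicalSpace Opposite TensorProduct

namespace Groth.Agent.Lead.StalkPull

open Groth.Agent.Lead.FlatTower

set_option backward.isDefEq.respectTransparency false in
/-- S9350 -/
theorem main_flatOverAt {X Y S : Scheme.{u}} (h : X ⟶ Y) (q : Y ⟶ S) (G : Y.Modules)
    (hG : Coh.IsQCoh G) (x : X) (hflat : (h.stalkMap x).hom.Flat) :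
    FlatMod.IsFlatOverAt q G (h.base x) ↔
      FlatMod.IsFlatOverAt (h ≫ q) ((Scheme.Modules.pullback h).obj G) x := by
  haveI : G.IsQuasicoherent := hG
  obtain ⟨E⟩ := nonempty_stalk_pullback_equiv h G x
  letI algBC : Algebra (Y.presheaf.stalk (h.base x)) (X.presheaf.stalk x) :=
    (h.stalkMap x).hom.toAlgebra
  letI algAB : Algebra (S.presheaf.stalk (q.base (h.base x))) (Y.presheaf.stalk (h.base x)) :=
    (q.stalkMap (h.base x)).hom.toAlgebra
  letI algAC : Algebra (S.presheaf.stalk (q.base (h.base x))) (X.presheaf.stalk x) :=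
    ((h ≫ q).stalkMap x).hom.toAlgebra
  haveI : IsScalarTower (S.presheaf.stalk (q.base (h.base x))) (Y.presheaf.stalk (h.base x))
      (X.presheaf.stalk x) :=
    IsScalarTower.of_algebraMap_eq (fun a => by
      change ((h ≫ q).stalkMap x) a = (h.stalkMap x) ((q.stalkMap (h.base x)) a)
      rw [Scheme.Hom.stalkMap_comp]
      rfl)
  letI mAN : Module (S.presheaf.stalk (q.base (h.base x))) (G.presheaf.stalk (h.base x)) :=
    FlatMod.moduleStalkOver q G (h.base x)
  haveI : IsScalarTower (S.presheaf.stalk (q.base (h.base x))) (Y.presheaf.stalk (h.base x))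
      (G.presheaf.stalk (h.base x)) :=
    IsScalarTower.of_compHom _ _ _
  letI mAP : Module (S.presheaf.stalk (q.base (h.base x)))
      (((Scheme.Modules.pullback h).obj G).presheaf.stalk x) :=
    FlatMod.moduleStalkOver (h ≫ q) ((Scheme.Modules.pullback h).obj G) x
  haveI : IsScalarTower (S.presheaf.stalk (q.base (h.base x))) (X.presheaf.stalk x)
      (((Scheme.Modules.pullback h).obj G).presheaf.stalk x) :=
    IsScalarTower.of_compHom _ _ _
  haveI : Module.Flat (Y.presheaf.stalk (h.base x)) (X.presheaf.stalk x) := hflat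
  haveI : IsLocalHom (algebraMap (Y.presheaf.stalk (h.base x)) (X.presheaf.stalk x)) :=
    inferInstanceAs (IsLocalHom (h.stalkMap x).hom)
  haveI : Module.FaithfullyFlat (Y.presheaf.stalk (h.base x)) (X.presheaf.stalk x) :=
    Module.FaithfullyFlat.of_flat_of_isLocalHom
  let E' : (((Scheme.Modules.pullback h).obj G).presheaf.stalk x) ≃ₗ[S.presheaf.stalk (q.base (h.base x))]
      (X.presheaf.stalk x) ⊗[Y.presheaf.stalk (h.base x)] (G.presheaf.stalk (h.base x)) :=
    E.restrictScalars (S.presheaf.stalk (q.base (h.base x)))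
  constructor
  · intro hN
    have hN' : Module.Flat (S.presheaf.stalk (q.base (h.base x))) (G.presheaf.stalk (h.base x)) := hN
    have h1 := flat_tensor_of_flat (C := X.presheaf.stalk x) (B := Y.presheaf.stalk (h.base x)) hN'
    have h2 : Module.Flat (S.presheaf.stalk (q.base (h.base x)))
        (((Scheme.Modules.pullback h).obj G).presheaf.stalk x) :=
      Module.Flat.of_linearEquiv E'
    exact h2
  · intro hP
    have hP' : Module.Flat (S.presheaf.stalk (q.base (h.base x)))
      (((Scheme.Modules.pullback h).obj G).presheaf.stalk x) := hP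
    have h1 : Module.Flat (S.presheaf.stalk (q.base (h.base x)))
        ((X.presheaf.stalk x) ⊗[Y.presheaf.stalk (h.base x)] (G.presheaf.stalk (h.base x))) :=
      Module.Flat.of_linearEquiv E'.symm
    have h2 : Module.Flat (S.presheaf.stalk (q.base (h.base x))) (G.presheaf.stalk (h.base x)) :=
      flat_of_flat_tensor (C := X.presheaf.stalk x) (B := Y.presheaf.stalk (h.base x)) h1
    exact h2

/-- S4655 -/
theorem main_flatOver {X Y Z : Scheme.{u}} (f : X ⟶ Y) (g : Y ⟶ Z) [Flat f] [Surjective f]
    (G : Y.Modules) (hG : Coh.IsQCoh G) :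
    FlatMod.IsFlatOver g G ↔
      FlatMod.IsFlatOver (f ≫ g) ((Scheme.Modules.pullback f).obj G) := by
  constructor
  · intro h x
    exact (main_flatOverAt f g G hG x ((Flat.iff_flat_stalkMap f).mp inferInstance x)).mp
      (h (f.base x))
  · intro h y
    obtain ⟨x, rfl⟩ := f.surjective y
    exact (main_flatOverAt f g G hG x ((Flat.iff_flat_stalkMap f).mp inferInstance x)).mpr (h x)

end Groth.Agent.Lead.StalkPull
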