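import Mathlib
import Groth.Agent.Lead.StalkPull3
import Groth.Agent.Helper2.FlatPt

set_option autoImplicit false
universe u
open CategoryTheory CategoryTheory.Limits AlgebraicGeometry TopologicalSpace Opposite TensorProduct

namespace Groth.Agent.Lead.StalkPull

open Groth.Agent.Lead.FlatTower

set_option backward.isDefEq.respectTransparency false in
/-- S1392 -/
theorem main_descent {X S X' S' : Scheme.{u}} (f : X ⟶ S) (f' : X' ⟶ S') (g' : X' ⟶ X)
    (g : S' ⟶ S) (hc : IsPullback g' f' f g) (F : X.Modules) (hF : Coh.IsQCoh F) (x' : X')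
    (hg : (g.stalkMap (f' x')).hom.Flat)
    (h : FlatMod.IsFlatOverAt f' ((Scheme.Modules.pullback g').obj F) x') :
    FlatMod.IsFlatOverAt f F (g' x') := by
  haveI : F.IsQuasicoherent := hF
  have hB : (g'.stalkMap x').hom.Flat :=
    Groth.Agent.Helper2.FlatPt.flat_stalk_of_isPullback hc.flip x' hg
  obtain ⟨E⟩ := nonempty_stalk_pullback_equiv g' F x'
  have hw : g' ≫ f = f' ≫ g := hc.w
  -- the comparison of the two base stalks
  let κ : S.presheaf.stalk (f.base (g'.base x')) ⟶ S.presheaf.stalk (g.base (f'.base x')) :=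
    (S.presheaf.stalkCongr (.of_eq (by
      change (g' ≫ f).base x' = (f' ≫ g).base x'
      rw [hw]))).hom
  have hκ : f.stalkMap (g'.base x') ≫ g'.stalkMap x' =
      κ ≫ g.stalkMap (f'.base x') ≫ f'.stalkMap x' := by
    rw [← Scheme.Hom.stalkMap_comp, ← Scheme.Hom.stalkMap_comp]
    exact Scheme.Hom.stalkMap_congr_hom _ _ hw x'
  letI algBB' : Algebra (X.presheaf.stalk (g'.base x')) (X'.presheaf.stalk x') :=
    (g'.stalkMap x').hom.toAlgebra
  letI algAB : Algebra (S.presheaf.stalk (f.base (g'.base x'))) (X.presheaf.stalk (g'.base x')) :=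
    (f.stalkMap (g'.base x')).hom.toAlgebra
  letI algAA' : Algebra (S.presheaf.stalk (f.base (g'.base x'))) (S'.presheaf.stalk (f'.base x')) :=
    (κ ≫ g.stalkMap (f'.base x')).hom.toAlgebra
  letI algA'B' : Algebra (S'.presheaf.stalk (f'.base x')) (X'.presheaf.stalk x') :=
    (f'.stalkMap x').hom.toAlgebra
  letI algAB' : Algebra (S.presheaf.stalk (f.base (g'.base x'))) (X'.presheaf.stalk x') :=
    (f.stalkMap (g'.base x') ≫ g'.stalkMap x').hom.toAlgebra
  haveI t1 : IsScalarTower (S.presheaf.stalk (f.base (g'.base x'))) (X.presheaf.stalk (g'.base x'))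
      (X'.presheaf.stalk x') :=
    IsScalarTower.of_algebraMap_eq (fun a => rfl)
  haveI t2 : IsScalarTower (S.presheaf.stalk (f.base (g'.base x'))) (S'.presheaf.stalk (f'.base x'))
      (X'.presheaf.stalk x') :=
    IsScalarTower.of_algebraMap_eq (fun a => by
      change (f.stalkMap (g'.base x') ≫ g'.stalkMap x') a =
        (f'.stalkMap x') ((κ ≫ g.stalkMap (f'.base x')) a)
      rw [hκ]
      rfl)
  letI mAN : Module (S.presheaf.stalk (f.base (g'.base x'))) (F.presheaf.stalk (g'.base x')) :=
    FlatMod.moduleStalkOver f F (g'.base x')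
  haveI t3 : IsScalarTower (S.presheaf.stalk (f.base (g'.base x'))) (X.presheaf.stalk (g'.base x'))
      (F.presheaf.stalk (g'.base x')) :=
    IsScalarTower.of_compHom _ _ _
  letI mA'P : Module (S'.presheaf.stalk (f'.base x'))
      (((Scheme.Modules.pullback g').obj F).presheaf.stalk x') :=
    FlatMod.moduleStalkOver f' ((Scheme.Modules.pullback g').obj F) x'
  haveI t4 : IsScalarTower (S'.presheaf.stalk (f'.base x')) (X'.presheaf.stalk x')
      (((Scheme.Modules.pullback g').obj F).presheaf.stalk x') :=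
    IsScalarTower.of_compHom _ _ _
  haveI : Module.Flat (X.presheaf.stalk (g'.base x')) (X'.presheaf.stalk x') := hB
  haveI : IsLocalHom (algebraMap (X.presheaf.stalk (g'.base x')) (X'.presheaf.stalk x')) :=
    inferInstanceAs (IsLocalHom (g'.stalkMap x').hom)
  haveI : Module.FaithfullyFlat (X.presheaf.stalk (g'.base x')) (X'.presheaf.stalk x') :=
    Module.FaithfullyFlat.of_flat_of_isLocalHom
  -- `A → A'` is flat
  haveI : Module.Flat (S.presheaf.stalk (f.base (g'.base x'))) (S'.presheaf.stalk (f'.base x')) := by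
    have h1 : (κ ≫ g.stalkMap (f'.base x')).hom.Flat := by
      rw [CommRingCat.hom_comp]
      refine RingHom.Flat.comp ?_ hg
      exact RingHom.Flat.of_bijective (ConcreteCategory.bijective_of_isIso κ)
    exact h1
  let E' : (((Scheme.Modules.pullback g').obj F).presheaf.stalk x') ≃ₗ[S'.presheaf.stalk (f'.base x')]
      (X'.presheaf.stalk x') ⊗[X.presheaf.stalk (g'.base x')] (F.presheaf.stalk (g'.base x')) :=
    E.restrictScalars (S'.presheaf.stalk (f'.base x'))
  have hP : Module.Flat (S'.presheaf.stalk (f'.base x'))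
      (((Scheme.Modules.pullback g').obj F).presheaf.stalk x') := h
  have h1 : Module.Flat (S'.presheaf.stalk (f'.base x'))
      ((X'.presheaf.stalk x') ⊗[X.presheaf.stalk (g'.base x')] (F.presheaf.stalk (g'.base x'))) :=
    Module.Flat.of_linearEquiv E'.symm
  have h2 : Module.Flat (S.presheaf.stalk (f.base (g'.base x')))
      ((X'.presheaf.stalk x') ⊗[X.presheaf.stalk (g'.base x')] (F.presheaf.stalk (g'.base x'))) :=
    Module.Flat.trans _ (S'.presheaf.stalk (f'.base x')) _
  have h3 : Module.Flat (S.presheaf.stalk (f.base (g'.base x'))) (F.presheaf.stalk (g'.base x')) :=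
    flat_of_flat_tensor (C := X'.presheaf.stalk x') (B := X.presheaf.stalk (g'.base x')) h2
  exact h3

end Groth.Agent.Lead.StalkPull
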