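import Mathlib
import Groth.Agent.Lead.FpqcSheaf2
import Groth.Agent.Lead.FlatBC2
import Groth.Agent.Lead.StalkPull4
import Groth.Agent.Lead.PullFF

set_option autoImplicit false
universe u
open CategoryTheory CategoryTheory.Limits AlgebraicGeometry TopologicalSpace Opposite

namespace Groth.Agent.Lead.FpqcSheaf
open Groth.Agent.Lead.ModDict Scheme.Modules Groth.Agent.Helper4

theorem isFlatOverAt_of_iso {X S : Scheme.{u}} (f : X ⟶ S) {M M' : X.Modules} (e : M ≅ M') (x : X)
    (h : FlatMod.IsFlatOverAt f M x) : FlatMod.IsFlatOverAt f M' x := by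
  letI := FlatMod.moduleStalkOver f M x
  letI := FlatMod.moduleStalkOver f M' x
  have hb := PullFF.stalkLin_bijective_of_isIso e.hom x
  let E0 : M.presheaf.stalk x ≃ₗ[X.presheaf.stalk x] M'.presheaf.stalk x :=
    LinearEquiv.ofBijective (StalkDict.stalkLin e.hom x) hb
  let E : M.presheaf.stalk x ≃ₗ[S.presheaf.stalk (f x)] M'.presheaf.stalk x :=
    { E0.toAddEquiv with
      map_smul' := fun a m => by
        change E0 ((f.stalkMap x).hom a • m) = (f.stalkMap x).hom a • E0 m
        exact E0.map_smul _ _ }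
  have h2 : Module.Flat (S.presheaf.stalk (f x)) (M.presheaf.stalk x) := h
  have h3 : Module.Flat (S.presheaf.stalk (f x)) (M'.presheaf.stalk x) :=
    Module.Flat.of_linearEquiv E.symm
  exact h3

/-- S9012 -/
theorem main_flat {X S : Scheme.{u}} (f : X ⟶ S) (F : X.Modules) [Coh.IsQCoh F] :
    Presheaf.IsSheaf (QuotSh.J Scheme.fpqcPrecoverage S)
      (FlatFun.genPSp S (fun T => FlatMod.IsFlatOver (PicF.XTproj f T) (FGA.ET f F T))) := by
  haveI : F.IsQuasicoherent := ‹Coh.IsQCoh F›
  apply isSheaf_genPSp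
  · intro T T₀ k hk x'
    have hk' : FlatMod.IsFlatOver (pullback.snd f T₀.hom)
        ((Scheme.Modules.pullback (pullback.fst f T₀.hom)).obj F) := hk
    haveI := StalkPull.isQuasicoherent_pullbackObj (pullback.fst f T₀.hom) F
    have hc : IsPullback (PicF.XTmap f k) (pullback.snd f T.hom) (pullback.snd f T₀.hom) k.left := by
      refine IsPullback.of_right ?_ ?_ (IsPullback.of_hasPullback f T₀.hom)
      · rw [FGA.XTmap_fst]
        have hw : k.left ≫ T₀.hom = T.hom := Over.w k
        rw [hw]
        exact IsPullback.of_hasPullback f T.hom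
      · unfold PicF.XTmap
        rw [pullback.lift_snd]
    have h1 := FlatBC.main_baseChange (pullback.snd f T₀.hom) (pullback.snd f T.hom)
      (PicF.XTmap f k) k.left hc _ inferInstance x' (hk' _)
    exact isFlatOverAt_of_iso _ ((Φ' f k).app F) x' h1
  · intro t I W h hfl hs H x
    haveI := hfl
    haveI := StalkPull.isQuasicoherent_pullbackObj (pullback.fst f t.hom) F
    obtain ⟨i, xi, rfl⟩ := Hm_surj f t.hom W h hs x
    have Hi : FlatMod.IsFlatOver (pullback.snd f (h i ≫ t.hom))
        ((Scheme.Modules.pullback (pullback.fst f (h i ≫ t.hom))).obj F) := H i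
    have h1 : FlatMod.IsFlatOverAt (pullback.snd f (h i ≫ t.hom))
        ((Scheme.Modules.pullback (Hm f t.hom (h i))).obj
          ((Scheme.Modules.pullback (pullback.fst f t.hom)).obj F)) xi :=
      isFlatOverAt_of_iso _ ((Φ f t.hom (h i)).app F).symm xi (Hi xi)
    exact StalkPull.main_descent (pullback.snd f t.hom) (pullback.snd f (h i ≫ t.hom))
      (Hm f t.hom (h i)) (h i) (isPullback_Hm f t.hom (h i)) _ inferInstance xi
      ((Flat.iff_flat_stalkMap (h i)).mp inferInstance _) h1

end Groth.Agent.Lead.FpqcSheaf
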