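import Groth.Agent.Lead.LimPullback
open CategoryTheory Limits AlgebraicGeometry

namespace Groth.Agent.Lead.LimHom
open Groth.Agent.Lead.LimPullback
universe u
variable {I : Type u} [SmallCategory I] [IsCofiltered I] (D : I ⥤ Scheme.{u}) (c : Cone D)
  (hc : IsLimit c) [∀ {i j : I} (f : i ⟶ j), IsAffineHom (D.map f)] (i : I)
  {Xi : Scheme.{u}} (xi : Xi ⟶ D.obj i)

set_option backward.isDefEq.respectTransparency false in
/-- the structure transformation of the pulled-back diagram to the base stage -/
noncomputable def pbT : pbDiag D i xi ⟶ (Functor.const (Over i)).obj (D.obj i) where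
  app j := pullback.snd (D.map j.hom) xi ≫ xi
  naturality j k f := by
    simp [pbDiag]

omit [IsCofiltered I] in
lemma isAffineHom_snd (j : Over i) : IsAffineHom (pullback.snd (D.map j.hom) xi) :=
  MorphismProperty.pullback_snd _ _
    (‹∀ {i j : I} (f : i ⟶ j), IsAffineHom (D.map f)› j.hom)

set_option backward.isDefEq.respectTransparency false in
lemma compactSpace_pbDiag [CompactSpace Xi] (j : Over i) :
    CompactSpace ↥((pbDiag D i xi).obj j) := by
  have := isAffineHom_snd D i xi j
  exact QuasiCompact.compactSpace_of_compactSpace (pullback.snd (D.map j.hom) xi)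

set_option backward.isDefEq.respectTransparency false in
lemma quasiSeparatedSpace_pbDiag [QuasiSeparatedSpace Xi] (j : Over i) :
    QuasiSeparatedSpace ↥((pbDiag D i xi).obj j) := by
  have := isAffineHom_snd D i xi j
  exact quasiSeparatedSpace_of_quasiSeparated (pullback.snd (D.map j.hom) xi)

include hc in
set_option backward.isDefEq.respectTransparency false in
/-- faithfulness: two maps from a stage to a scheme of finite type over the base which agree
on the limit agree on a later stage -/
theorem hom_eq_eventually [CompactSpace Xi] {Z : Scheme.{u}} (z : Z ⟶ D.obj i)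
    [LocallyOfFiniteType z] (j₀ : Over i) (a b : (pbDiag D i xi).obj j₀ ⟶ Z)
    (ha : a ≫ z = pullback.snd (D.map j₀.hom) xi ≫ xi)
    (hb : b ≫ z = pullback.snd (D.map j₀.hom) xi ≫ xi)
    (h : (pbCone D c i xi).π.app j₀ ≫ a = (pbCone D c i xi).π.app j₀ ≫ b) :
    ∃ (j : Over i) (φ : j ⟶ j₀), (pbDiag D i xi).map φ ≫ a = (pbDiag D i xi).map φ ≫ b := by
  have hA : ∀ {j k : Over i} (f : j ⟶ k), IsAffineHom ((pbDiag D i xi).map f) :=
    fun f ↦ isAffineHom_pbDiag_map i xi f
  have hC : ∀ j : Over i, CompactSpace ↥((pbDiag D i xi).obj j) :=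
    fun j ↦ compactSpace_pbDiag D i xi j
  exact Scheme.exists_hom_comp_eq_comp_of_locallyOfFiniteType (pbDiag D i xi) (pbT D i xi) z
    (pbCone D c i xi) (pbConeIsLimit i xi hc) a b (by simp [pbT, ha]) (by simp [pbT, hb]) h

include hc in
set_option backward.isDefEq.respectTransparency false in
/-- fullness: a map from the limit to a scheme locally of finite presentation over the base
factors through a stage -/
theorem exists_hom_descend [CompactSpace Xi] [QuasiSeparatedSpace Xi] {Z : Scheme.{u}}
    (z : Z ⟶ D.obj i) [LocallyOfFinitePresentation z] (a : pullback (c.π.app i) xi ⟶ Z)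
    (ha : a ≫ z = pullback.snd (c.π.app i) xi ≫ xi) :
    ∃ (j : Over i) (g : (pbDiag D i xi).obj j ⟶ Z),
      (pbCone D c i xi).π.app j ≫ g = a ∧ g ≫ z = pullback.snd (D.map j.hom) xi ≫ xi := by
  have hA : ∀ {j k : Over i} (f : j ⟶ k), IsAffineHom ((pbDiag D i xi).map f) :=
    fun f ↦ isAffineHom_pbDiag_map i xi f
  have hC : ∀ j : Over i, CompactSpace ↥((pbDiag D i xi).obj j) :=
    fun j ↦ compactSpace_pbDiag D i xi j
  have hQ : ∀ j : Over i, QuasiSeparatedSpace ↥((pbDiag D i xi).obj j) :=
    fun j ↦ quasiSeparatedSpace_pbDiag D i xi j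
  obtain ⟨j, g, h1, h2⟩ := Scheme.exists_π_app_comp_eq_of_locallyOfFinitePresentation
    (pbDiag D i xi) (pbT D i xi) z (pbCone D c i xi) (pbConeIsLimit i xi hc) a (by
      ext j
      simp only [NatTrans.comp_app, Functor.const_obj_obj, Functor.const_map_app]
      change (pbCone D c i xi).π.app j ≫ _ = _
      rw [ha]
      simp [pbT, pbCone])
  exact ⟨j, g, h1, by simpa [pbT] using h2⟩

end Groth.Agent.Lead.LimHom
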