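import Mathlib
import Groth.Prelude.Def_RefHull
import Groth.Agent.Helper4.StalkDict

/-!
# Sections of the sheaf Hom out of a quasi-coherent module over (an open inside) an affine open

For `U` affine open, `F` quasi-coherent, `G` arbitrary, `V ≤ U` open and a `Γ(X,U)`-semilinear
additive map `l : Γ(F,U) → Γ(G,V)` we build a section `ofLin` of `RefHull.homSh F G` over `V`
whose stalk maps send the germ of `m ∈ Γ(F,U)` to the germ of `l m`.
-/

set_option autoImplicit false
set_option linter.style.haveILetI false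
set_option linter.unusedSectionVars false

universe u

open CategoryTheory CategoryTheory.Limits AlgebraicGeometry TopologicalSpace Opposite

namespace Groth.Agent.Lead.HomShA

open Groth.Agent.Helper4.StalkDict

variable {X : Scheme.{u}} {U : X.Opens} (hU : IsAffineOpen U) (F G : X.Modules)

include hU in
theorem isUnit_end (y : X) (hy : y ∈ U) (s : (hU.primeIdealOf ⟨y, hy⟩).asIdeal.primeCompl) :
    letI := sectionModStalk G y hy
    IsUnit (algebraMap Γ(X, U) (Module.End Γ(X, U) (G.presheaf.stalk y)) s) := by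
  letI := sectionModStalk G y hy
  obtain ⟨s, hs⟩ := s
  have hs' : y ∈ X.basicOpen s := (mem_basicOpen_iff_notMem_primeIdealOf hU y hy s).mpr hs
  have hu : IsUnit (X.presheaf.germ U y hy s) := (X.mem_basicOpen s y hy).mp hs'
  rw [Module.End.isUnit_iff]
  obtain ⟨u, hu⟩ := hu
  constructor
  · intro a b hab
    have hab' : X.presheaf.germ U y hy s • a = X.presheaf.germ U y hy s • b := hab
    rw [← hu] at hab'
    have := congrArg (fun z => (↑u⁻¹ : X.presheaf.stalk y) • z) hab'
    simpa [smul_smul] using this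
  · intro b
    refine ⟨(↑u⁻¹ : X.presheaf.stalk y) • b, ?_⟩
    change X.presheaf.germ U y hy s • ((↑u⁻¹ : X.presheaf.stalk y) • b) = b
    rw [← hu, smul_smul]
    simp

section ofLin

variable [F.IsQuasicoherent] {V : X.Opens} (hVU : V ≤ U) (l : Γ(F, U) →+ Γ(G, V))
  (hl : ∀ (r : Γ(X, U)) (m : Γ(F, U)), l (r • m) = X.presheaf.map (homOfLE hVU).op r • l m)

include hl in
theorem germ_l_smul (y : X) (hy : y ∈ V) (r : Γ(X, U)) (m : Γ(F, U)) :
    G.presheaf.germ V y hy (l (r • m)) =
      X.presheaf.germ U y (hVU hy) r • G.presheaf.germ V y hy (l m) := by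
  rw [hl, germ_smul]
  congr 1
  exact TopCat.Presheaf.germ_res_apply X.presheaf (homOfLE hVU) y hy r

/-- `germ ∘ l`, as a `Γ(X,U)`-linear map into the stalk -/
noncomputable def germComp (y : X) (hy : y ∈ V) :
    letI := sectionModStalk G y (hVU hy)
    Γ(F, U) →ₗ[Γ(X, U)] G.presheaf.stalk y :=
  letI := sectionModStalk G y (hVU hy)
  { toFun := fun m => G.presheaf.germ V y hy (l m)
    map_add' := fun a b => by rw [map_add, map_add]
    map_smul' := fun r m => germ_l_smul F G hVU l hl y hy r m }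

/-- the stalk map, as a `Γ(X,U)`-linear map -/
noncomputable def stalkR (y : X) (hy : y ∈ V) :
    letI := sectionModStalk F y (hVU hy)
    letI := sectionModStalk G y (hVU hy)
    F.presheaf.stalk y →ₗ[Γ(X, U)] G.presheaf.stalk y :=
  letI := sectionModStalk F y (hVU hy)
  letI := sectionModStalk G y (hVU hy)
  haveI := isLocalizedModule_germ hU F y (hVU hy)
  IsLocalizedModule.lift (hU.primeIdealOf ⟨y, hVU hy⟩).asIdeal.primeCompl (germLin F y (hVU hy))
    (germComp F G hVU l hl y hy) (isUnit_end hU G y (hVU hy))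

theorem stalkR_germ (y : X) (hy : y ∈ V) (m : Γ(F, U)) :
    stalkR hU F G hVU l hl y hy (F.presheaf.germ U y (hVU hy) m) =
      G.presheaf.germ V y hy (l m) := by
  letI := sectionModStalk F y (hVU hy)
  letI := sectionModStalk G y (hVU hy)
  haveI := isLocalizedModule_germ hU F y (hVU hy)
  exact IsLocalizedModule.lift_apply (hU.primeIdealOf ⟨y, hVU hy⟩).asIdeal.primeCompl
    (germLin F y (hVU hy)) (germComp F G hVU l hl y hy) (isUnit_end hU G y (hVU hy)) m

/-- the stalk map, as an `O_{X,y}`-linear map -/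
noncomputable def stalkO (y : X) (hy : y ∈ V) : RefHull.StalkHom F G y :=
  letI := sectionModStalk F y (hVU hy)
  letI := sectionModStalk G y (hVU hy)
  letI := X.presheaf.algebra_section_stalk (⟨y, hVU hy⟩ : U)
  haveI := hU.isLocalization_stalk ⟨y, hVU hy⟩
  haveI : IsScalarTower Γ(X, U) (X.presheaf.stalk y) (F.presheaf.stalk y) :=
    ⟨fun r a m => by
      change (X.presheaf.germ U y (hVU hy) r * a) • m = X.presheaf.germ U y (hVU hy) r • (a • m)
      rw [mul_smul]⟩
  haveI : IsScalarTower Γ(X, U) (X.presheaf.stalk y) (G.presheaf.stalk y) :=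
    ⟨fun r a m => by
      change (X.presheaf.germ U y (hVU hy) r * a) • m = X.presheaf.germ U y (hVU hy) r • (a • m)
      rw [mul_smul]⟩
  (stalkR hU F G hVU l hl y hy).extendScalarsOfIsLocalization
    (hU.primeIdealOf ⟨y, hVU hy⟩).asIdeal.primeCompl (X.presheaf.stalk y)

theorem stalkO_germ (y : X) (hy : y ∈ V) (m : Γ(F, U)) :
    stalkO hU F G hVU l hl y hy (F.presheaf.germ U y (hVU hy) m) =
      G.presheaf.germ V y hy (l m) :=
  stalkR_germ hU F G hVU l hl y hy m

/-- the family of stalk maps is admissible -/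
theorem isLocSect_stalkO :
    RefHull.IsLocSect F G (fun y : V => stalkO hU F G hVU l hl y.1 y.2) := by
  intro V' i m y
  have hyU : y.1 ∈ U := hVU (i.le y.2)
  obtain ⟨f, hfV', hyf⟩ := hU.exists_basicOpen_le y hyU
  obtain ⟨n, m₀, hnm⟩ := exists_pow_smul_eq_res hU F f (F.presheaf.map (homOfLE hfV').op m)
  have hWV : X.basicOpen f ≤ V := hfV'.trans i.le
  have hu : IsUnit (X.presheaf.map (homOfLE (X.basicOpen_le f)).op f) :=
    X.toRingedSpace.isUnit_res_basicOpen f
  obtain ⟨v, hv⟩ : ∃ v : Γ(X, X.basicOpen f),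
      X.presheaf.map (homOfLE (X.basicOpen_le f)).op (f ^ n) * v = 1 := by
    rw [map_pow]
    exact ⟨_, (hu.pow n).mul_val_inv⟩
  refine ⟨X.basicOpen f, hyf, homOfLE hfV',
    v • G.presheaf.map (homOfLE hWV).op (l m₀), fun z => ?_⟩
  have hzU : z.1 ∈ U := X.basicOpen_le f z.2
  have hzV : z.1 ∈ V := hWV z.2
  -- the unit
  have ha : IsUnit (X.presheaf.germ (X.basicOpen f) z.1 z.2
      (X.presheaf.map (homOfLE (X.basicOpen_le f)).op (f ^ n))) :=
    (IsUnit.of_mul_eq_one _ hv).map _
  have hcancel : ∀ a b : G.presheaf.stalk z.1,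
      X.presheaf.germ (X.basicOpen f) z.1 z.2
        (X.presheaf.map (homOfLE (X.basicOpen_le f)).op (f ^ n)) • a =
      X.presheaf.germ (X.basicOpen f) z.1 z.2
        (X.presheaf.map (homOfLE (X.basicOpen_le f)).op (f ^ n)) • b → a = b := by
    intro a b hab
    obtain ⟨w, hw⟩ := ha
    rw [← hw] at hab
    have := congrArg (fun t => (↑w⁻¹ : X.presheaf.stalk z.1) • t) hab
    simpa [smul_smul] using this
  apply hcancel
  -- left side
  have h1 := congrArg (F.presheaf.germ (X.basicOpen f) z.1 z.2) hnm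
  rw [germ_smul, TopCat.Presheaf.germ_res_apply F.presheaf (homOfLE hfV') z.1 z.2 m,
    TopCat.Presheaf.germ_res_apply F.presheaf (homOfLE (X.basicOpen_le f)) z.1 z.2 m₀] at h1
  have h2 : X.presheaf.germ (X.basicOpen f) z.1 z.2
        (X.presheaf.map (homOfLE (X.basicOpen_le f)).op (f ^ n)) •
      stalkO hU F G hVU l hl z.1 hzV (F.presheaf.germ V' z.1 (hfV' z.2) m) =
      G.presheaf.germ V z.1 hzV (l m₀) := by
    rw [← LinearMap.map_smul, h1]
    exact stalkO_germ hU F G hVU l hl z.1 hzV m₀
  refine h2.trans ?_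
  -- right side
  rw [germ_smul, smul_smul, ← map_mul, hv, map_one, one_smul,
    TopCat.Presheaf.germ_res_apply]

/-- **the section of the sheaf Hom defined by a semilinear map on sections over an affine open** -/
noncomputable def ofLin : Γ(RefHull.homSh F G, V) :=
  ⟨fun y => stalkO hU F G hVU l hl y.1 y.2, isLocSect_stalkO hU F G hVU l hl⟩

theorem ofLin_apply_germ (y : V) (m : Γ(F, U)) :
    (ofLin hU F G hVU l hl).1 y (F.presheaf.germ U y.1 (hVU y.2) m) =
      G.presheaf.germ V y.1 y.2 (l m) :=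
  stalkO_germ hU F G hVU l hl y.1 y.2 m

end ofLin

end Groth.Agent.Lead.HomShA
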