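import Mathlib
import Groth.Prelude.Def_RefHull
import Groth.Agent.Helper4.StalkDict
import Groth.Agent.Helper4.QcqsMod
import Groth.Agent.Lead.HomShA

/-!
# Sections of the sheaf Hom as maps on sections (`toLin`), and an extensionality lemma
-/

set_option autoImplicit false
set_option linter.style.haveILetI false
set_option linter.unusedSectionVars false

universe u

open CategoryTheory CategoryTheory.Limits AlgebraicGeometry TopologicalSpace Opposite

namespace Groth.Agent.Lead.HomShC

open Groth.Agent.Helper4.StalkDict Groth.Agent.Helper4.QcqsMod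

variable {X : Scheme.{u}} (F G : X.Modules)

/-- a section of the sheaf Hom over `V` acts on sections over `V` -/
theorem exists_section {V : X.Opens} (t : Γ(RefHull.homSh F G, V)) (m : Γ(F, V)) :
    ∃ n : Γ(G, V), ∀ (y : X) (hy : y ∈ V),
      G.presheaf.germ V y hy n = t.1 ⟨y, hy⟩ (F.presheaf.germ V y hy m) := by
  have h := RefHull.isLocSect_of_mem t V (𝟙 V) m
  choose W hW j n hn using h
  have hcompat : TopCat.Presheaf.IsCompatible G.presheaf (fun y : V => W y) n := by
    intro y y'
    apply section_ext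
    intro z hz
    change G.presheaf.germ _ z hz (G.presheaf.map (homOfLE _).op (n y)) =
      G.presheaf.germ _ z hz (G.presheaf.map (homOfLE _).op (n y'))
    rw [germ_res, germ_res]
    have h1 := hn y ⟨z, hz.1⟩
    have h2 := hn y' ⟨z, hz.2⟩
    exact h1.symm.trans h2
  have hcover : V ≤ iSup (fun y : V => W y) := by
    intro y hy
    exact Opens.mem_iSup.mpr ⟨⟨y, hy⟩, hW ⟨y, hy⟩⟩
  obtain ⟨s, hs, -⟩ := TopCat.Sheaf.existsUnique_gluing'
    (⟨G.presheaf, G.isSheaf⟩ : TopCat.Sheaf Ab X)
    (fun y : V => W y) V (fun y => j y) hcover n hcompat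
  refine ⟨s, fun y hy => ?_⟩
  have h1 := hs ⟨y, hy⟩
  have h2 := hn ⟨y, hy⟩ ⟨y, hW ⟨y, hy⟩⟩
  refine Eq.trans ?_ h2.symm
  refine Eq.trans ?_ (congrArg (G.presheaf.germ (W ⟨y, hy⟩) y (hW ⟨y, hy⟩)) h1)
  exact (TopCat.Presheaf.germ_res_apply G.presheaf (j ⟨y, hy⟩) y (hW ⟨y, hy⟩) s).symm

/-- the map on sections defined by a section of the sheaf Hom -/
noncomputable def toFun {V : X.Opens} (t : Γ(RefHull.homSh F G, V)) (m : Γ(F, V)) : Γ(G, V) :=
  (exists_section F G t m).choose

theorem germ_toFun {V : X.Opens} (t : Γ(RefHull.homSh F G, V)) (m : Γ(F, V)) (y : X)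
    (hy : y ∈ V) :
    G.presheaf.germ V y hy (toFun F G t m) = t.1 ⟨y, hy⟩ (F.presheaf.germ V y hy m) :=
  (exists_section F G t m).choose_spec y hy

/-- the linear map on sections defined by a section of the sheaf Hom -/
noncomputable def toLin {V : X.Opens} (t : Γ(RefHull.homSh F G, V)) :
    Γ(F, V) →ₗ[Γ(X, V)] Γ(G, V) where
  toFun := toFun F G t
  map_add' a b := by
    apply section_ext
    intro y hy
    rw [map_add, germ_toFun, germ_toFun, germ_toFun, map_add, map_add]
  map_smul' r a := by
    apply section_ext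
    intro y hy
    rw [RingHom.id_apply, germ_smul, germ_toFun, germ_toFun, germ_smul, LinearMap.map_smul]

theorem germ_toLin {V : X.Opens} (t : Γ(RefHull.homSh F G, V)) (m : Γ(F, V)) (y : X)
    (hy : y ∈ V) :
    G.presheaf.germ V y hy (toLin F G t m) = t.1 ⟨y, hy⟩ (F.presheaf.germ V y hy m) :=
  germ_toFun F G t m y hy

variable {U : X.Opens} (hU : IsAffineOpen U)

include hU in
/-- stalk maps out of a quasi-coherent module are determined on germs of sections over an affine
open -/
theorem stalkHom_ext [F.IsQuasicoherent] (y : X) (hy : y ∈ U) (φ ψ : RefHull.StalkHom F G y)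
    (h : ∀ m : Γ(F, U), φ (F.presheaf.germ U y hy m) = ψ (F.presheaf.germ U y hy m)) : φ = ψ := by
  letI := sectionModStalk F y hy
  letI := sectionModStalk G y hy
  haveI := isLocalizedModule_germ hU F y hy
  have hR : ∀ (χ : RefHull.StalkHom F G y) (r : Γ(X, U)) (v : F.presheaf.stalk y),
      χ (r • v) = r • χ v := fun χ r v => χ.map_smul _ v
  let φ₁ : F.presheaf.stalk y →ₗ[Γ(X, U)] G.presheaf.stalk y :=
    { toFun := φ, map_add' := map_add _, map_smul' := hR _ }
  let φ₂ : F.presheaf.stalk y →ₗ[Γ(X, U)] G.presheaf.stalk y :=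
    { toFun := ψ, map_add' := map_add _, map_smul' := hR _ }
  have h12 : φ₁ = φ₂ := by
    apply IsLocalizedModule.ext (hU.primeIdealOf ⟨y, hy⟩).asIdeal.primeCompl (germLin F y hy)
      (HomShA.isUnit_end hU G y hy)
    ext a
    exact h a
  ext v
  exact congrArg (fun χ => χ v) h12

end Groth.Agent.Lead.HomShC
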