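import Mathlib
import Groth.Prelude.Def_RefHull
import Groth.Agent.Helper4.StalkDict
import Groth.Agent.Helper4.QcqsMod
import Groth.Agent.Helper4.QcohGlue
import Groth.Agent.Helper4.FPGlue
import Groth.Agent.Lead.HomShA
import Groth.Agent.Lead.HomShC

/-!
# The sheaf Hom from a finitely presented module to a quasi-coherent module is quasi-coherent
-/

set_option autoImplicit false
set_option linter.style.haveILetI false
set_option linter.unusedSectionVars false

universe u

open CategoryTheory CategoryTheory.Limits AlgebraicGeometry TopologicalSpace Opposite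

namespace Groth.Agent.Lead.HomShD

open Groth.Agent.Helper4.StalkDict Groth.Agent.Helper4.QcqsMod

variable {X : Scheme.{u}} {U : X.Opens}

section res

variable (N : X.Modules) (f : Γ(X, U))

/-- `Γ(X,U)`-module structure on sections over `D(f)` -/
@[reducible] noncomputable def modR : Module Γ(X, U) Γ(N, X.basicOpen f) :=
  Module.compHom _ (X.presheaf.map (homOfLE (X.basicOpen_le f)).op).hom

theorem modR_smul (r : Γ(X, U)) (t : Γ(N, X.basicOpen f)) :
    letI := modR N f
    r • t = X.presheaf.map (homOfLE (X.basicOpen_le f)).op r • t := rfl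

/-- restriction as a linear map -/
noncomputable def resL :
    letI := modR N f
    Γ(N, U) →ₗ[Γ(X, U)] Γ(N, X.basicOpen f) :=
  letI := modR N f
  { toFun := N.presheaf.map (homOfLE (X.basicOpen_le f)).op
    map_add' := map_add _
    map_smul' := fun r m => Scheme.Modules.map_smul N (homOfLE (X.basicOpen_le f)) r m }

theorem resL_apply (m : Γ(N, U)) :
    resL N f m = N.presheaf.map (homOfLE (X.basicOpen_le f)).op m := rfl

theorem isUnit_end (x : Submonoid.powers f) :
    letI := modR N f
    IsUnit (algebraMap Γ(X, U) (Module.End Γ(X, U) Γ(N, X.basicOpen f)) x) := by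
  letI := modR N f
  obtain ⟨_, n, rfl⟩ := x
  have hu : IsUnit (X.presheaf.map (homOfLE (X.basicOpen_le f)).op (f ^ n)) := by
    rw [map_pow]
    exact (X.toRingedSpace.isUnit_res_basicOpen f).pow n
  obtain ⟨w, hw⟩ := hu
  rw [Module.End.isUnit_iff]
  constructor
  · intro a b hab
    have hab' : X.presheaf.map (homOfLE (X.basicOpen_le f)).op (f ^ n) • a =
        X.presheaf.map (homOfLE (X.basicOpen_le f)).op (f ^ n) • b := hab
    rw [← hw] at hab'
    have := congrArg (fun z => (↑w⁻¹ : Γ(X, X.basicOpen f)) • z) hab'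
    simpa [smul_smul] using this
  · intro b
    refine ⟨(↑w⁻¹ : Γ(X, X.basicOpen f)) • b, ?_⟩
    change X.presheaf.map (homOfLE (X.basicOpen_le f)).op (f ^ n) •
      ((↑w⁻¹ : Γ(X, X.basicOpen f)) • b) = b
    rw [← hw, smul_smul]
    simp

theorem isLocalizedModule_res (hU : IsAffineOpen U) [N.IsQuasicoherent] :
    letI := modR N f
    IsLocalizedModule (Submonoid.powers f) (resL N f) := by
  letI := modR N f
  refine ⟨isUnit_end N f, ?_, ?_⟩
  · intro t
    obtain ⟨n, m, hm⟩ := exists_pow_smul_eq_res hU N f t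
    exact ⟨(m, ⟨f ^ n, n, rfl⟩), hm⟩
  · intro x₁ x₂ h
    have h0 : N.presheaf.map (homOfLE (X.basicOpen_le f)).op (x₁ - x₂) = 0 := by
      rw [map_sub, sub_eq_zero]
      exact h
    obtain ⟨n, hn⟩ := exists_pow_smul_eq_zero hU N f (x₁ - x₂) h0
    refine ⟨⟨f ^ n, n, rfl⟩, ?_⟩
    rw [smul_sub, sub_eq_zero] at hn
    exact hn

end res

section main

variable (F G : X.Modules) (hF : SheafOfModules.IsFinitePresentation (R := X.ringCatSheaf) F)
  [G.IsQuasicoherent] (hU : IsAffineOpen U)

include hF hU in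
theorem zero_homSh (f : Γ(X, U)) (s : Γ(RefHull.homSh F G, U))
    (hs : (RefHull.homSh F G).presheaf.map (homOfLE (X.basicOpen_le f)).op s = 0) :
    ∃ n : ℕ, f ^ n • s = 0 := by
  haveI := hF
  haveI : F.IsQuasicoherent := inferInstance
  haveI : Module.FinitePresentation Γ(X, U) Γ(F, U) :=
    Groth.Agent.Helper4.FPGlue.fp_sections F hF hU
  haveI : Module.Finite Γ(X, U) Γ(F, U) := inferInstance
  letI := modR G f
  haveI := isLocalizedModule_res G f hU
  let l : Γ(F, U) →ₗ[Γ(X, U)] Γ(G, U) := HomShC.toLin F G s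
  have hcomp : (resL G f).comp l = (resL G f).comp (0 : Γ(F, U) →ₗ[Γ(X, U)] Γ(G, U)) := by
    ext m
    rw [LinearMap.comp_apply, LinearMap.comp_apply, LinearMap.zero_apply, map_zero, resL_apply]
    apply section_ext
    intro y hy
    rw [germ_res, map_zero, HomShC.germ_toLin]
    have h1 : ((RefHull.homSh F G).presheaf.map (homOfLE (X.basicOpen_le f)).op s).1 ⟨y, hy⟩ = 0 := by
      rw [hs]; rfl
    have h2 : s.1 ⟨y, X.basicOpen_le f hy⟩ = 0 := h1
    rw [h2, LinearMap.zero_apply]
  obtain ⟨⟨_, n, rfl⟩, hn⟩ :=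
    Module.Finite.exists_smul_of_comp_eq_of_isLocalizedModule (Submonoid.powers f) (resL G f)
      l 0 hcomp
  refine ⟨n, ?_⟩
  refine Subtype.ext (funext fun y => ?_)
  change X.presheaf.germ U y.1 y.2 (f ^ n) • s.1 y = 0
  apply HomShC.stalkHom_ext F G hU y.1 y.2
  intro m
  rw [LinearMap.smul_apply, LinearMap.zero_apply, ← HomShC.germ_toLin, ← germ_smul]
  have h3 : f ^ n • l m = 0 := by
    have := congrArg (fun φ => φ m) hn
    simp only [LinearMap.smul_apply, LinearMap.zero_apply, smul_zero] at this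
    exact this
  change G.presheaf.germ U y.1 y.2 (f ^ n • l m) = 0
  rw [h3, map_zero]

include hF hU in
theorem surj_homSh (f : Γ(X, U)) (t : Γ(RefHull.homSh F G, X.basicOpen f)) :
    ∃ (n : ℕ) (s : Γ(RefHull.homSh F G, U)),
      (X.presheaf.map (homOfLE (X.basicOpen_le f)).op (f ^ n)) • t =
        (RefHull.homSh F G).presheaf.map (homOfLE (X.basicOpen_le f)).op s := by
  haveI := hF
  haveI : F.IsQuasicoherent := inferInstance
  haveI : Module.FinitePresentation Γ(X, U) Γ(F, U) :=
    Groth.Agent.Helper4.FPGlue.fp_sections F hF hU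
  letI := modR G f
  letI := modR F f
  haveI := isLocalizedModule_res G f hU
  let tl : Γ(F, X.basicOpen f) →ₗ[Γ(X, X.basicOpen f)] Γ(G, X.basicOpen f) := HomShC.toLin F G t
  let h : Γ(F, U) →ₗ[Γ(X, U)] Γ(G, X.basicOpen f) :=
    { toFun := fun m => tl (resL F f m)
      map_add' := fun a b => by rw [map_add, map_add]
      map_smul' := fun r m => by
        rw [LinearMap.map_smul, modR_smul, LinearMap.map_smul]
        rfl }
  obtain ⟨h', ⟨_, n, rfl⟩, e⟩ :=
    Module.FinitePresentation.exists_lift_of_isLocalizedModule (Submonoid.powers f) (resL G f) h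
  have hl : ∀ (r : Γ(X, U)) (m : Γ(F, U)),
      h'.toAddMonoidHom (r • m) = X.presheaf.map (homOfLE (le_refl U)).op r • h'.toAddMonoidHom m := by
    intro r m
    change h' (r • m) = _
    rw [LinearMap.map_smul]
    congr 1
    change r = X.presheaf.map (𝟙 (op U)) r
    rw [X.presheaf.map_id]
    rfl
  refine ⟨n, HomShA.ofLin hU F G (le_refl U) h'.toAddMonoidHom hl, ?_⟩
  refine Subtype.ext (funext fun y => ?_)
  have hyU : y.1 ∈ U := X.basicOpen_le f y.2
  change X.presheaf.germ (X.basicOpen f) y.1 y.2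
      (X.presheaf.map (homOfLE (X.basicOpen_le f)).op (f ^ n)) • t.1 y =
    (HomShA.ofLin hU F G (le_refl U) h'.toAddMonoidHom hl).1 ⟨y.1, hyU⟩
  apply HomShC.stalkHom_ext F G hU y.1 hyU
  intro m
  rw [LinearMap.smul_apply]
  have h1 := HomShA.ofLin_apply_germ hU F G (le_refl U) h'.toAddMonoidHom hl ⟨y.1, hyU⟩ m
  refine Eq.trans ?_ h1.symm
  change _ = G.presheaf.germ U y.1 hyU (h' m)
  rw [← germ_res G (X.basicOpen_le f) y.1 y.2 (h' m)]
  have h2 : G.presheaf.map (homOfLE (X.basicOpen_le f)).op (h' m) =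
      X.presheaf.map (homOfLE (X.basicOpen_le f)).op (f ^ n) • tl (resL F f m) := by
    have := congrArg (fun φ => φ m) e
    exact this
  rw [h2, germ_smul, HomShC.germ_toLin, resL_apply, germ_res]

include hF hU in
theorem isLocalizingOn_homSh : IsLocalizingOn (RefHull.homSh F G) U :=
  ⟨fun f s hs => zero_homSh F G hF hU f s hs, fun f t => surj_homSh F G hF hU f t⟩

include hF in
/-- **the sheaf Hom from a finitely presented module to a quasi-coherent one is quasi-coherent** -/
theorem isQuasicoherent_homSh : (RefHull.homSh F G).IsQuasicoherent := by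
  apply Groth.Agent.Helper4.QcohGlue.isQuasicoherent_of_isLocalizingOn
  intro x
  obtain ⟨_, ⟨U, hU : IsAffineOpen U, rfl⟩, hxU, -⟩ :=
    X.isBasis_affineOpens.exists_subset_of_mem_open (Set.mem_univ x) isOpen_univ
  exact ⟨U, hU, hxU, isLocalizingOn_homSh F G hF hU⟩

end main

end Groth.Agent.Lead.HomShD
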