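import Mathlib
import Groth.Prelude.Def_RefHull
import Groth.Agent.Helper4.StalkDict
import Groth.Agent.Helper4.QcqsMod
import Groth.Agent.Helper4.FPGlue
import Groth.Agent.Helper4.SecDict
import Groth.Agent.Helper4.CohFP
import Groth.Agent.Lead.HomShC
import Groth.Agent.Lead.HomShD

/-!
# The sheaf Hom of two coherent modules on a locally Noetherian scheme is coherent
-/

set_option autoImplicit false
set_option linter.style.haveILetI false
set_option linter.unusedSectionVars false

universe u

open CategoryTheory CategoryTheory.Limits AlgebraicGeometry TopologicalSpace Opposite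

namespace Groth.Agent.Lead.HomShE

open Groth.Agent.Helper4.StalkDict Groth.Agent.Helper4.QcqsMod

variable {X : Scheme.{u}} (F G : X.Modules)

/-- `toLin` as a linear map -/
noncomputable def toLinₗ (V : X.Opens) :
    Γ(RefHull.homSh F G, V) →ₗ[Γ(X, V)] (Γ(F, V) →ₗ[Γ(X, V)] Γ(G, V)) where
  toFun t := HomShC.toLin F G t
  map_add' s t := by
    ext m
    apply section_ext
    intro y hy
    rw [LinearMap.add_apply, map_add, HomShC.germ_toLin, HomShC.germ_toLin, HomShC.germ_toLin]
    rfl
  map_smul' r t := by
    ext m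
    apply section_ext
    intro y hy
    rw [RingHom.id_apply, LinearMap.smul_apply, germ_smul, HomShC.germ_toLin, HomShC.germ_toLin]
    rfl

theorem toLinₗ_injective [F.IsQuasicoherent] {U : X.Opens} (hU : IsAffineOpen U) :
    Function.Injective (toLinₗ F G U) := by
  rw [← LinearMap.ker_eq_bot, eq_bot_iff]
  intro t ht
  rw [LinearMap.mem_ker] at ht
  rw [Submodule.mem_bot]
  apply Subtype.ext
  funext y
  apply HomShC.stalkHom_ext F G hU y.1 y.2
  intro m
  have h1 := HomShC.germ_toLin F G t m y.1 y.2
  have h2 : HomShC.toLin F G t m = 0 := congrArg (fun l => l m) ht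
  rw [h2, map_zero] at h1
  refine h1.symm.trans ?_
  rfl

/-- sections of the sheaf Hom of coherent modules over a Noetherian affine open are finite -/
theorem finite_sections [IsLocallyNoetherian X] (hF : Coh.IsCoh F) (hG : Coh.IsCoh G)
    {U : X.Opens} (hU : IsAffineOpen U) :
    Module.Finite Γ(X, U) Γ(RefHull.homSh F G, U) := by
  haveI : IsNoetherianRing Γ(X, U) := IsLocallyNoetherian.component_noetherian ⟨U, hU⟩
  haveI := hF.1
  haveI : Module.Finite Γ(X, U) Γ(F, U) :=
    Groth.Agent.Helper4.SecDict.finite_sections hU F hF.1 hF.2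
  haveI : Module.Finite Γ(X, U) Γ(G, U) :=
    Groth.Agent.Helper4.SecDict.finite_sections hU G hG.1 hG.2
  haveI : IsNoetherian Γ(X, U) Γ(G, U) := isNoetherian_of_isNoetherianRing_of_finite _ _
  haveI : IsNoetherian Γ(X, U) Γ(RefHull.homSh F G, U) :=
    isNoetherian_of_injective (toLinₗ F G U) (toLinₗ_injective F G hU)
  infer_instance

/-- **the sheaf Hom of coherent modules on a locally Noetherian scheme is finitely presented** -/
theorem isFP_homSh [IsLocallyNoetherian X] (hF : Coh.IsCoh F) (hG : Coh.IsCoh G) :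
    SheafOfModules.IsFinitePresentation (R := X.ringCatSheaf) (RefHull.homSh F G) := by
  have hFP := Groth.Agent.Helper4.CohFP.isFP_of_isCoh F hF.1 hF.2
  haveI := hG.1
  haveI := HomShD.isQuasicoherent_homSh F G hFP
  apply Groth.Agent.Helper4.FPGlue.isFinitePresentation_of_fp_sections
  intro x
  obtain ⟨_, ⟨U, hU : IsAffineOpen U, rfl⟩, hxU, -⟩ :=
    X.isBasis_affineOpens.exists_subset_of_mem_open (Set.mem_univ x) isOpen_univ
  refine ⟨U, hU, hxU, ?_⟩
  haveI : IsNoetherianRing Γ(X, U) := IsLocallyNoetherian.component_noetherian ⟨U, hU⟩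
  haveI := finite_sections F G hF hG hU
  exact Module.finitePresentation_of_finite _ _

theorem isCoh_homSh [IsLocallyNoetherian X] (hF : Coh.IsCoh F) (hG : Coh.IsCoh G) :
    Coh.IsCoh (RefHull.homSh F G) := by
  haveI := isFP_homSh F G hF hG
  exact ⟨inferInstance, inferInstance⟩

end Groth.Agent.Lead.HomShE
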