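import Mathlib
import Groth.Prelude.Def_CurvBase
import Groth.Prelude.Def_Coh
import Groth.Prelude.Def_CAlg
import Groth.Agent.Helper9.DepthS2
import Groth.Agent.Helper4.AssMax2
import Groth.Agent.Helper4.AssMono
import Groth.Agent.Helper4.EpiStalk
import Groth.Agent.Helper4.QcohLimits
import Groth.Agent.Helper4.QcohLocal
import Groth.Agent.Helper4.FinLocFree2
import Groth.Agent.Lead.StalkNhd

set_option autoImplicit false
universe u
open CategoryTheory CategoryTheory.Limits AlgebraicGeometry TopologicalSpace Opposite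

namespace Groth.Agent.Lead.DepthIso
open Groth.Agent.Helper4 Groth.Agent.Helper4.StalkDict Groth.Agent.Lead.StalkNhd

section Algebra

variable {R : Type u} [CommRing R] [IsLocalRing R]
variable {M N : Type u} [AddCommGroup M] [Module R M] [AddCommGroup N] [Module R N]

/-- Hartogs-type lemma: if `depth M ≥ 2`, `N` torsion free, `ψ : M → N` injective and `𝔪 n ⊆ ψ(M)`
then `n ∈ ψ(M)`. -/
theorem mem_range_of_depth_two [Module.Finite R M] [Nontrivial M] [NoZeroSMulDivisors R N]
    (ψ : M →ₗ[R] N) (hψ : Function.Injective ψ) (hd : (2 : ℕ∞) ≤ LocCoh.depth R M) (n : N)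
    (hn : ∀ r ∈ IsLocalRing.maximalIdeal R, ∃ m : M, ψ m = r • n) : ∃ m : M, ψ m = n := by
  obtain ⟨a, b, ha, hb, hreg, hquot⟩ := Groth.Agent.Helper9.DepthS2.exists_regSeq_of_two_le_depth hd
  obtain ⟨m₁, hm₁⟩ := hn a ha
  obtain ⟨m₂, hm₂⟩ := hn b hb
  have h1 : b • m₁ = a • m₂ := by
    apply hψ
    rw [map_smul, map_smul, hm₁, hm₂, smul_comm]
  obtain ⟨m', hm'⟩ := hquot m₁ ⟨m₂, h1⟩
  refine ⟨m', ?_⟩
  have ha0 : a ≠ 0 := by
    intro h0
    obtain ⟨x, y, hxy⟩ := exists_pair_ne M
    apply hxy
    apply hreg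
    simp [h0]
  have h2 : a • (n - ψ m') = 0 := by
    rw [smul_sub, ← hm₁, hm', map_smul, sub_self]
  rcases NoZeroSMulDivisors.eq_zero_or_eq_zero_of_smul_eq_zero h2 with h3 | h3
  · exact absurd h3 ha0
  · exact (sub_eq_zero.mp h3).symm

end Algebra


section Geometry

variable {X : Scheme.{u}}

/-- socle element at an associated point (Noetherian stalks) -/
theorem exists_socle_of_isAssPoint [IsLocallyNoetherian X] (C : X.Modules) (z : X)
    (hz : Curv2.IsAssPoint C z) :
    ∃ c : C.presheaf.stalk z, c ≠ 0 ∧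
      ∀ r ∈ IsLocalRing.maximalIdeal (X.presheaf.stalk z), r • c = 0 := by
  rw [Curv2.IsAssPoint, isAssociatedPrime_iff] at hz
  obtain ⟨hp, c, hc⟩ := hz
  refine ⟨c, ?_, ?_⟩
  · rintro rfl
    have h1 : (1 : X.presheaf.stalk z) ∈ IsLocalRing.maximalIdeal (X.presheaf.stalk z) := by
      rw [hc, Submodule.mem_colon_singleton, Submodule.mem_bot, smul_zero]
    exact (Ideal.ne_top_iff_one _).mp hp.ne_top h1
  · intro r hr
    rw [hc, Submodule.mem_colon_singleton, Submodule.mem_bot] at hr
    exact hr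

set_option backward.isDefEq.respectTransparency false in
/-- if all germs at `z` of sections over an affine `U ∋ z` vanish, the stalk vanishes -/
theorem subsingleton_stalk_of_germs_eq_zero (F : X.Modules) [F.IsQuasicoherent] {U : X.Opens}
    (hU : IsAffineOpen U) (x : X) (hx : x ∈ U)
    (h : ∀ m : Γ(F, U), F.presheaf.germ U x hx m = 0) :
    Subsingleton (F.presheaf.stalk x) := by
  letI := sectionModStalk F x hx
  haveI := isLocalizedModule_germ hU F x hx
  refine ⟨fun a b => ?_⟩
  obtain ⟨⟨m, s⟩, rfl⟩ := IsLocalizedModule.mk'_surjective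
    (hU.primeIdealOf ⟨x, hx⟩).asIdeal.primeCompl (germLin F x hx) a
  obtain ⟨⟨m', s'⟩, rfl⟩ := IsLocalizedModule.mk'_surjective
    (hU.primeIdealOf ⟨x, hx⟩).asIdeal.primeCompl (germLin F x hx) b
  simp only [Function.uncurry_apply_pair]
  have h1 : germLin F x hx m = 0 := h m
  have h2 : germLin F x hx m' = 0 := h m'
  rw [(IsLocalizedModule.mk'_eq_zero s).mpr h1, (IsLocalizedModule.mk'_eq_zero s').mpr h2]

/-- a torsion-free quasi-coherent module on an integral scheme with zero generic stalk has zero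
stalks -/
theorem subsingleton_stalk_of_generic [IsIntegral X] (G : X.Modules) [G.IsQuasicoherent] (z : X)
    (htf : NoZeroSMulDivisors (X.presheaf.stalk z) (G.presheaf.stalk z))
    (hη : Subsingleton (G.presheaf.stalk (genericPoint X))) :
    Subsingleton (G.presheaf.stalk z) := by
  obtain ⟨U, hU, hz⟩ := QcohLimits.exists_affine_nhd z
  have hηU : genericPoint X ∈ U :=
    ((genericPoint_spec X).mem_open_set_iff U.isOpen).mpr ⟨z, trivial, hz⟩
  apply subsingleton_stalk_of_germs_eq_zero G hU z hz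
  intro s
  have h0 : G.presheaf.germ U (genericPoint X) hηU s = 0 := Subsingleton.elim _ _
  rw [AssDict.germ_eq_zero_iff hU G _ hηU s, SetLike.not_le_iff_exists] at h0
  obtain ⟨a, ha, hap⟩ := h0
  rw [Submodule.mem_colon_singleton, Submodule.mem_bot] at ha
  have ha0 : a ≠ 0 := by
    rintro rfl
    exact hap (Ideal.zero_mem _)
  have h1 : X.presheaf.germ U z hz a • G.presheaf.germ U z hz s = 0 := by
    rw [← germ_smul, ha, map_zero]
  rcases NoZeroSMulDivisors.eq_zero_or_eq_zero_of_smul_eq_zero h1 with h2 | h2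
  · exfalso
    apply ha0
    apply germ_injective_of_isIntegral X z hz
    rw [h2, map_zero]
  · exact h2


section Main

variable [IsIntegral X] [IsLocallyNoetherian X] {F G : X.Modules} (φ : F ⟶ G)

/-- Step 1: the kernel has zero stalks. -/
theorem subsingleton_kernel_stalk [F.IsQuasicoherent] [G.IsQuasicoherent]
    (hFT : SheafOfModules.IsFiniteType (R := X.ringCatSheaf) F)
    (h : ∀ x : X, Function.Bijective (stalkLin φ x) ∨
      ((2 : ℕ∞) ≤ LocCoh.depth (X.presheaf.stalk x) (F.presheaf.stalk x) ∧ x ≠ genericPoint X))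
    (x : X) : Subsingleton ((kernel φ).presheaf.stalk x) := by
  by_contra hns
  rw [not_subsingleton_iff_nontrivial] at hns
  haveI := QcohLimits.isQuasicoherent_kernel φ
  obtain ⟨z, hz, -⟩ := AssMax2.exists_isAssPoint_specializes (kernel φ) x hns
  obtain ⟨k, hk0, hk⟩ := exists_socle_of_isAssPoint (kernel φ) z hz
  have hinj := StalkExact.stalkLin_injective (kernel.ι φ) z
  have hk'0 : stalkLin (kernel.ι φ) z k ≠ 0 := by
    intro h0
    apply hk0
    apply hinj
    rw [h0, map_zero]
  have hk' : ∀ r ∈ IsLocalRing.maximalIdeal (X.presheaf.stalk z),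
      r • stalkLin (kernel.ι φ) z k = 0 := by
    intro r hr
    rw [← map_smul, hk r hr, map_zero]
  have hφk : stalkLin φ z (stalkLin (kernel.ι φ) z k) = 0 := by
    rw [← stalkLin_comp, kernel.condition, stalkLin_zero]
  rcases h z with hb | ⟨hd, -⟩
  · apply hk'0
    apply hb.1
    rw [hφk, map_zero]
  · haveI := FinLocFree2.finite_stalk F hFT z
    exact Groth.Agent.Helper9.DepthS2.not_one_le_depth_of_socle _ hk'0 hk'
      (le_trans (by norm_num) hd)


/-- Step 2: the cokernel has zero stalks (given `φ` is a monomorphism). -/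
theorem subsingleton_cokernel_stalk [F.IsQuasicoherent] [G.IsQuasicoherent] [Mono φ]
    (hFT : SheafOfModules.IsFiniteType (R := X.ringCatSheaf) F)
    (htf : ∀ x : X, NoZeroSMulDivisors (X.presheaf.stalk x) (G.presheaf.stalk x))
    (h : ∀ x : X, Function.Bijective (stalkLin φ x) ∨
      ((2 : ℕ∞) ≤ LocCoh.depth (X.presheaf.stalk x) (F.presheaf.stalk x) ∧ x ≠ genericPoint X))
    (x : X) : Subsingleton ((cokernel φ).presheaf.stalk x) := by
  by_contra hns
  rw [not_subsingleton_iff_nontrivial] at hns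
  haveI := QcohLimits.isQuasicoherent_cokernel φ
  obtain ⟨z, hz, -⟩ := AssMax2.exists_isAssPoint_specializes (cokernel φ) x hns
  obtain ⟨c, hc0, hc⟩ := exists_socle_of_isAssPoint (cokernel φ) z hz
  obtain ⟨n, rfl⟩ := EpiStalk.stalkLin_surjective_of_epi (cokernel.π φ) z c
  have hex : (ShortComplex.mk φ (cokernel.π φ) (cokernel.condition φ)).Exact :=
    ShortComplex.exact_of_g_is_cokernel _ (cokernelIsCokernel φ)
  haveI : Mono (ShortComplex.mk φ (cokernel.π φ) (cokernel.condition φ)).f :=
    inferInstanceAs (Mono φ)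
  have hE := StalkExact.stalkLin_exact _ hex z
  have hn : ∀ r ∈ IsLocalRing.maximalIdeal (X.presheaf.stalk z),
      ∃ m : F.presheaf.stalk z, stalkLin φ z m = r • n := by
    intro r hr
    apply (hE (r • n)).mp
    change stalkLin (cokernel.π φ) z (r • n) = 0
    rw [map_smul, hc r hr]
  have hinj : Function.Injective (stalkLin φ z) := StalkExact.stalkLin_injective φ z
  have hcontra : ∀ m : F.presheaf.stalk z, stalkLin φ z m = n → False := by
    intro m hm
    apply hc0
    rw [← hm]
    exact (hE (stalkLin φ z m)).mpr ⟨m, rfl⟩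
  rcases h z with hb | ⟨hd, -⟩
  · obtain ⟨m, hm⟩ := hb.2 n
    exact hcontra m hm
  · by_cases hF0 : Subsingleton (F.presheaf.stalk z)
    · -- `F_z = 0 ⇒ F_η = 0 ⇒ G_η = 0 ⇒ G_z = 0`
      obtain ⟨W, hzW, hW⟩ := exists_nhd_subsingleton F hFT z hF0
      have hηW : genericPoint X ∈ W :=
        ((genericPoint_spec X).mem_open_set_iff W.isOpen).mpr ⟨z, trivial, hzW⟩
      have hFη : Subsingleton (F.presheaf.stalk (genericPoint X)) := hW _ hηW
      have hGη : Subsingleton (G.presheaf.stalk (genericPoint X)) := by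
        rcases h (genericPoint X) with hb | ⟨-, hne⟩
        · refine ⟨fun a b => ?_⟩
          obtain ⟨a', rfl⟩ := hb.2 a
          obtain ⟨b', rfl⟩ := hb.2 b
          rw [Subsingleton.elim a' b']
        · exact absurd rfl hne
      haveI := subsingleton_stalk_of_generic G z (htf z) hGη
      exact hcontra 0 (Subsingleton.elim _ _)
    · rw [not_subsingleton_iff_nontrivial] at hF0
      haveI := FinLocFree2.finite_stalk F hFT z
      haveI := htf z
      obtain ⟨m, hm⟩ := mem_range_of_depth_two (stalkLin φ z) hinj hd n hn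
      exact hcontra m hm

theorem main (hF : Coh.IsCoh F) (hG : Coh.IsQCoh G)
    (htf : ∀ x : X, NoZeroSMulDivisors (X.presheaf.stalk x) (G.presheaf.stalk x))
    (h : ∀ x : X, Function.Bijective (stalkLin φ x) ∨
      ((2 : ℕ∞) ≤ LocCoh.depth (X.presheaf.stalk x) (F.presheaf.stalk x) ∧ x ≠ genericPoint X)) :
    IsIso φ := by
  haveI : F.IsQuasicoherent := hF.1
  haveI : G.IsQuasicoherent := hG
  have hinj : ∀ x, Function.Injective (stalkLin φ x) := fun x =>
    stalkLin_injective_of_subsingleton_kernel φ x (subsingleton_kernel_stalk φ hF.2 h x)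
  haveI : Mono φ := AssMono.mono_of_stalkLin_injective φ hinj
  have hex : (ShortComplex.mk φ (cokernel.π φ) (cokernel.condition φ)).Exact :=
    ShortComplex.exact_of_g_is_cokernel _ (cokernelIsCokernel φ)
  haveI : Mono (ShortComplex.mk φ (cokernel.π φ) (cokernel.condition φ)).f :=
    inferInstanceAs (Mono φ)
  apply QcohLocal.isIso_of_stalkLin_bijective
  intro x
  refine ⟨hinj x, fun n => ?_⟩
  have hE := StalkExact.stalkLin_exact _ hex x
  haveI := subsingleton_cokernel_stalk φ hF.2 htf h x
  exact (hE n).mp (Subsingleton.elim _ _)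

end Main

end Geometry

end Groth.Agent.Lead.DepthIso
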