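import Mathlib
import Groth.Agent.Lead.PushStalk

/-!
# Support of a pushforward along a closed map
-/

universe u

open CategoryTheory Limits AlgebraicGeometry TopologicalSpace Opposite

namespace Groth.Agent.Lead.PushSupp

variable {X Y : Scheme.{u}} (f : X ⟶ Y) (M : X.Modules)

/-- a section all of whose stalks live in trivial groups vanishes -/
theorem eq_zero_of_subsingleton_stalks (V : X.Opens)
    (hV : ∀ x ∈ V, Subsingleton (M.presheaf.stalk x)) (m : Γ(M, V)) : m = 0 := by
  apply TopCat.Presheaf.section_ext ⟨M.presheaf, M.isSheaf⟩ V m 0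
  intro x hx
  haveI := hV x hx
  exact Subsingleton.elim _ _

/-- the stalk of the pushforward along a closed map vanishes at points all of whose preimages
have vanishing stalk (the support being closed). -/
theorem subsingleton_stalk_push (hf : IsClosedMap f.base)
    (hZ : IsClosed {x : X | Nontrivial (M.presheaf.stalk x)}) (y : Y)
    (hy : ∀ x : X, f x = y → Subsingleton (M.presheaf.stalk x)) :
    Subsingleton (((Scheme.Modules.pushforward f).obj M).presheaf.stalk y) := by
  refine ⟨fun a b => ?_⟩
  suffices h : ∀ a : ((Scheme.Modules.pushforward f).obj M).presheaf.stalk y, a = 0 by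
    rw [h a, h b]
  intro a
  obtain ⟨U, hyU, m, rfl⟩ := TopCat.Presheaf.exists_germ_eq _ a
  have hcl : IsClosed (f.base '' {x : X | Nontrivial (M.presheaf.stalk x)}) := hf _ hZ
  let W : Y.Opens := U ⊓ ⟨(f.base '' {x : X | Nontrivial (M.presheaf.stalk x)})ᶜ, hcl.isOpen_compl⟩
  have hyW : y ∈ W := by
    refine ⟨hyU, ?_⟩
    rintro ⟨x, hx, rfl⟩
    exact not_subsingleton_iff_nontrivial.mpr hx (hy x rfl)
  rw [← TopCat.Presheaf.germ_res_apply _ (homOfLE (inf_le_left : W ≤ U)) y hyW m]
  have h0 : ((Scheme.Modules.pushforward f).obj M).presheaf.map (homOfLE (inf_le_left : W ≤ U)).op m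
      = 0 := by
    apply eq_zero_of_subsingleton_stalks M (f ⁻¹ᵁ W)
    intro x hx
    have hx2 : f x ∉ f.base '' {x : X | Nontrivial (M.presheaf.stalk x)} := hx.2
    by_contra hns
    exact hx2 ⟨x, not_subsingleton_iff_nontrivial.mp hns, rfl⟩
  rw [h0, map_zero]

/-- a point in the support of the pushforward along a closed map has a preimage in the support -/
theorem exists_nontrivial_of_nontrivial_push (hf : IsClosedMap f.base)
    (hZ : IsClosed {x : X | Nontrivial (M.presheaf.stalk x)}) (y : Y)
    (hy : Nontrivial (((Scheme.Modules.pushforward f).obj M).presheaf.stalk y)) :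
    ∃ x : X, f x = y ∧ Nontrivial (M.presheaf.stalk x) := by
  by_contra hne
  push_neg at hne
  have := subsingleton_stalk_push f M hf hZ y
    (fun x hx => hne x hx)
  exact not_subsingleton_iff_nontrivial.mpr hy this

end Groth.Agent.Lead.PushSupp
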