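import Mathlib
import Groth.Agent.Lead.DepthIso
import Groth.Agent.Lead.PullFF
import Groth.Agent.Lead.PushSupp
import Groth.Agent.Helper4.QcohGlue
import Groth.Agent.Helper4.SecDict
import Groth.Agent.Lead.PushStalk

set_option autoImplicit false
universe u
open CategoryTheory CategoryTheory.Limits AlgebraicGeometry TopologicalSpace Opposite

namespace Groth.Agent.Lead.Hartogs
open Groth.Agent.Helper4 Groth.Agent.Helper4.StalkDict Groth.Agent.Lead.StalkNhd
  Groth.Agent.Lead.DepthIso Groth.Agent.Lead.FlatLib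

section Algebra

variable {R : Type u} [CommRing R] [IsLocalRing R]
variable {M N : Type u} [AddCommGroup M] [Module R M] [AddCommGroup N] [Module R N]

theorem mem_range_of_depth_two' [Module.Finite R M] [Nontrivial M]
    (ψ : M →ₗ[R] N) (hψ : Function.Injective ψ) (hd : (2 : ℕ∞) ≤ LocCoh.depth R M)
    (hN : ∀ a ∈ IsLocalRing.maximalIdeal R, IsSMulRegular M a → IsSMulRegular N a) (n : N)
    (hn : ∀ r ∈ IsLocalRing.maximalIdeal R, ∃ m : M, ψ m = r • n) : ∃ m : M, ψ m = n := by
  obtain ⟨a, b, ha, hb, hreg, hquot⟩ := Groth.Agent.Helper9.DepthS2.exists_regSeq_of_two_le_depth hd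
  obtain ⟨m₁, hm₁⟩ := hn a ha
  obtain ⟨m₂, hm₂⟩ := hn b hb
  have h1 : b • m₁ = a • m₂ := by
    apply hψ
    rw [map_smul, map_smul, hm₁, hm₂, smul_comm]
  obtain ⟨m', hm'⟩ := hquot m₁ ⟨m₂, h1⟩
  refine ⟨m', ?_⟩
  apply hN a ha hreg
  change a • ψ m' = a • n
  rw [← map_smul, ← hm', hm₁]

end Algebra

section Criterion

variable {X : Scheme.{u}} [IsLocallyNoetherian X] {F G : X.Modules} (φ : F ⟶ G)

theorem subsingleton_kernel_stalk' [F.IsQuasicoherent] [G.IsQuasicoherent]
    (hFT : SheafOfModules.IsFiniteType (R := X.ringCatSheaf) F)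
    (h : ∀ x : X, Function.Bijective (stalkLin φ x) ∨
      (2 : ℕ∞) ≤ LocCoh.depth (X.presheaf.stalk x) (F.presheaf.stalk x))
    (x : X) : Subsingleton ((kernel φ).presheaf.stalk x) := by
  by_contra hns
  rw [not_subsingleton_iff_nontrivial] at hns
  haveI := QcohLimits.isQuasicoherent_kernel φ
  obtain ⟨z, hz, -⟩ := AssMax2.exists_isAssPoint_specializes (kernel φ) x hns
  obtain ⟨k, hk0, hk⟩ := exists_socle_of_isAssPoint (kernel φ) z hz
  have hinj := StalkExact.stalkLin_injective (kernel.ι φ) z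
  have hk'0 : stalkLin (kernel.ι φ) z k ≠ 0 := by
    intro h0
    apply hk0
    apply hinj
    rw [h0, map_zero]
  have hk' : ∀ r ∈ IsLocalRing.maximalIdeal (X.presheaf.stalk z),
      r • stalkLin (kernel.ι φ) z k = 0 := by
    intro r hr
    rw [← map_smul, hk r hr, map_zero]
  have hφk : stalkLin φ z (stalkLin (kernel.ι φ) z k) = 0 := by
    rw [← stalkLin_comp, kernel.condition, stalkLin_zero]
  rcases h z with hb | hd
  · apply hk'0
    apply hb.1
    rw [hφk, map_zero]
  · haveI := FinLocFree2.finite_stalk F hFT z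
    exact Groth.Agent.Helper9.DepthS2.not_one_le_depth_of_socle _ hk'0 hk'
      (le_trans (by norm_num) hd)

theorem subsingleton_cokernel_stalk' [F.IsQuasicoherent] [G.IsQuasicoherent] [Mono φ]
    (hFT : SheafOfModules.IsFiniteType (R := X.ringCatSheaf) F)
    (h : ∀ x : X, Function.Bijective (stalkLin φ x) ∨
      (2 : ℕ∞) ≤ LocCoh.depth (X.presheaf.stalk x) (F.presheaf.stalk x))
    (hreg : ∀ x : X, ∀ a ∈ IsLocalRing.maximalIdeal (X.presheaf.stalk x),
      IsSMulRegular (F.presheaf.stalk x) a → IsSMulRegular (G.presheaf.stalk x) a)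
    (hzero : ∀ x : X, Subsingleton (F.presheaf.stalk x) → Subsingleton (G.presheaf.stalk x))
    (x : X) : Subsingleton ((cokernel φ).presheaf.stalk x) := by
  by_contra hns
  rw [not_subsingleton_iff_nontrivial] at hns
  haveI := QcohLimits.isQuasicoherent_cokernel φ
  obtain ⟨z, hz, -⟩ := AssMax2.exists_isAssPoint_specializes (cokernel φ) x hns
  obtain ⟨c, hc0, hc⟩ := exists_socle_of_isAssPoint (cokernel φ) z hz
  obtain ⟨n, rfl⟩ := EpiStalk.stalkLin_surjective_of_epi (cokernel.π φ) z c
  have hex : (ShortComplex.mk φ (cokernel.π φ) (cokernel.condition φ)).Exact :=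
    ShortComplex.exact_of_g_is_cokernel _ (cokernelIsCokernel φ)
  haveI : Mono (ShortComplex.mk φ (cokernel.π φ) (cokernel.condition φ)).f :=
    inferInstanceAs (Mono φ)
  have hE := StalkExact.stalkLin_exact _ hex z
  have hn : ∀ r ∈ IsLocalRing.maximalIdeal (X.presheaf.stalk z),
      ∃ m : F.presheaf.stalk z, stalkLin φ z m = r • n := by
    intro r hr
    apply (hE (r • n)).mp
    change stalkLin (cokernel.π φ) z (r • n) = 0
    rw [map_smul, hc r hr]
  have hinj : Function.Injective (stalkLin φ z) := StalkExact.stalkLin_injective φ z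
  have hcontra : ∀ m : F.presheaf.stalk z, stalkLin φ z m = n → False := by
    intro m hm
    apply hc0
    rw [← hm]
    exact (hE (stalkLin φ z m)).mpr ⟨m, rfl⟩
  rcases h z with hb | hd
  · obtain ⟨m, hm⟩ := hb.2 n
    exact hcontra m hm
  · by_cases hF0 : Subsingleton (F.presheaf.stalk z)
    · haveI := hzero z hF0
      exact hcontra 0 (Subsingleton.elim _ _)
    · rw [not_subsingleton_iff_nontrivial] at hF0
      haveI := FinLocFree2.finite_stalk F hFT z
      obtain ⟨m, hm⟩ := mem_range_of_depth_two' (stalkLin φ z) hinj hd (hreg z) n hn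
      exact hcontra m hm

/-- General criterion. -/
theorem isIso_of_depth_two [F.IsQuasicoherent] [G.IsQuasicoherent]
    (hFT : SheafOfModules.IsFiniteType (R := X.ringCatSheaf) F)
    (h : ∀ x : X, Function.Bijective (stalkLin φ x) ∨
      (2 : ℕ∞) ≤ LocCoh.depth (X.presheaf.stalk x) (F.presheaf.stalk x))
    (hreg : ∀ x : X, ∀ a ∈ IsLocalRing.maximalIdeal (X.presheaf.stalk x),
      IsSMulRegular (F.presheaf.stalk x) a → IsSMulRegular (G.presheaf.stalk x) a)
    (hzero : ∀ x : X, Subsingleton (F.presheaf.stalk x) → Subsingleton (G.presheaf.stalk x)) :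
    IsIso φ := by
  have hinj : ∀ x, Function.Injective (stalkLin φ x) := fun x =>
    stalkLin_injective_of_subsingleton_kernel φ x (subsingleton_kernel_stalk' φ hFT h x)
  haveI : Mono φ := AssMono.mono_of_stalkLin_injective φ hinj
  have hex : (ShortComplex.mk φ (cokernel.π φ) (cokernel.condition φ)).Exact :=
    ShortComplex.exact_of_g_is_cokernel _ (cokernelIsCokernel φ)
  haveI : Mono (ShortComplex.mk φ (cokernel.π φ) (cokernel.condition φ)).f :=
    inferInstanceAs (Mono φ)
  apply QcohLocal.isIso_of_stalkLin_bijective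
  intro x
  refine ⟨hinj x, fun n => ?_⟩
  have hE := StalkExact.stalkLin_exact _ hex x
  haveI := subsingleton_cokernel_stalk' φ hFT h hreg hzero x
  exact (hE n).mp (Subsingleton.elim _ _)

end Criterion


section RegularNhd

variable {X : Scheme.{u}} [IsLocallyNoetherian X] (F : X.Modules)

set_option backward.isDefEq.respectTransparency false in
/-- The locus where a section `a₀ ∈ O(W)` is a nonzerodivisor on the stalks of a coherent module
is open (we only produce a basic open neighbourhood). -/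
theorem exists_basicOpen_regular [F.IsQuasicoherent]
    (hFT : SheafOfModules.IsFiniteType (R := X.ringCatSheaf) F) {W : X.Opens}
    (hW : IsAffineOpen W) (a₀ : Γ(X, W)) (x : X) (hx : x ∈ W)
    (hreg : IsSMulRegular (F.presheaf.stalk x) (X.presheaf.germ W x hx a₀)) :
    ∃ s : Γ(X, W), x ∈ X.basicOpen s ∧ ∀ (u : X) (hu : u ∈ W), u ∈ X.basicOpen s →
      IsSMulRegular (F.presheaf.stalk u) (X.presheaf.germ W u hu a₀) := by
  haveI : IsNoetherianRing Γ(X, W) := IsLocallyNoetherian.component_noetherian ⟨W, hW⟩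
  haveI : Module.Finite Γ(X, W) Γ(F, W) := SecDict.finite_sections hW F inferInstance hFT
  haveI : IsNoetherian Γ(X, W) Γ(F, W) := isNoetherian_of_isNoetherianRing_of_finite _ _
  -- the kernel of multiplication by `a₀`
  let K : Submodule Γ(X, W) Γ(F, W) := LinearMap.ker (LinearMap.lsmul Γ(X, W) Γ(F, W) a₀)
  have hK : ∀ k : Γ(F, W), k ∈ K ↔ a₀ • k = 0 := fun k => by
    simp [K, LinearMap.mem_ker]
  haveI : Module.Finite Γ(X, W) K := Module.Finite.of_fg (IsNoetherian.noetherian K)
  -- the prime of `x` is not in the support of `K`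
  have hsupp : (hW.primeIdealOf ⟨x, hx⟩) ∉ Module.support Γ(X, W) K := by
    rw [Module.mem_support_iff_exists_annihilator]
    rintro ⟨⟨k, hk⟩, hle⟩
    have hk0 : F.presheaf.germ W x hx k = 0 := by
      apply hreg
      change X.presheaf.germ W x hx a₀ • F.presheaf.germ W x hx k = X.presheaf.germ W x hx a₀ • 0
      rw [← germ_smul, (hK k).mp hk, map_zero, smul_zero]
    rw [AssDict.germ_eq_zero_iff hW F x hx k] at hk0
    apply hk0
    intro r hr
    apply hle
    rw [Submodule.mem_annihilator_span_singleton]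
    rw [Submodule.mem_colon_singleton, Submodule.mem_bot] at hr
    exact Subtype.ext hr
  rw [Module.mem_support_iff_of_finite, SetLike.not_le_iff_exists] at hsupp
  obtain ⟨s, hsK, hsp⟩ := hsupp
  have hsK' : ∀ k ∈ K, s • k = 0 := by
    intro k hk
    have := (Module.mem_annihilator.mp hsK) ⟨k, hk⟩
    exact congrArg Subtype.val this
  refine ⟨s, (mem_basicOpen_iff_notMem_primeIdealOf hW x hx s).mpr hsp, ?_⟩
  intro u hu hus
  have hsu : s ∉ (hW.primeIdealOf ⟨u, hu⟩).asIdeal :=
    (mem_basicOpen_iff_notMem_primeIdealOf hW u hu s).mp hus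
  letI := sectionModStalk F u hu
  haveI := isLocalizedModule_germ hW F u hu
  -- it suffices to show that the kernel is zero
  have key : ∀ m' : F.presheaf.stalk u, X.presheaf.germ W u hu a₀ • m' = 0 → m' = 0 := by
    intro m' hm'
    obtain ⟨⟨m, t⟩, rfl⟩ := IsLocalizedModule.mk'_surjective
      (hW.primeIdealOf ⟨u, hu⟩).asIdeal.primeCompl (germLin F u hu) m'
    simp only [Function.uncurry_apply_pair] at hm' ⊢
    have h1 : IsLocalizedModule.mk' (germLin F u hu) (a₀ • m) t = 0 := by
      rw [IsLocalizedModule.mk'_smul]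
      exact hm'
    rw [IsLocalizedModule.mk'_eq_zero'] at h1
    obtain ⟨t', ht'⟩ := h1
    have h2 : (t' : Γ(X, W)) • m ∈ K := by
      rw [hK, smul_comm]
      exact ht'
    have h3 := hsK' _ h2
    rw [IsLocalizedModule.mk'_eq_zero']
    refine ⟨⟨s, hsu⟩ * t', ?_⟩
    rw [Submonoid.smul_def, Submonoid.coe_mul, mul_smul]
    exact h3
  intro m₁ m₂ h12
  have h0 : X.presheaf.germ W u hu a₀ • (m₁ - m₂) = 0 := by
    rw [smul_sub, sub_eq_zero]
    exact h12
  exact sub_eq_zero.mp (key _ h0)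

end RegularNhd


section Unit

open Groth.Agent.Lead.PushStalk Groth.Agent.Helper4.QcqsMod

variable {X : Scheme.{u}}

theorem stalkLin_bijective_of_isIso_restrict {F G : X.Modules} (φ : F ⟶ G) (V : X.Opens)
    (hV : IsIso ((Scheme.Modules.restrictFunctor V.ι).map φ)) (z : V) :
    Function.Bijective (stalkLin φ (V.ι z)) := by
  have hb := PullFF.stalkLin_bijective_of_isIso ((Scheme.Modules.restrictFunctor V.ι).map φ) z
  constructor
  · intro a b hab
    obtain ⟨a', rfl⟩ := (rsHom_bijective V.ι F z).2 a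
    obtain ⟨b', rfl⟩ := (rsHom_bijective V.ι F z).2 b
    rw [← rsHom_stalkLin, ← rsHom_stalkLin] at hab
    have := hb.1 ((rsHom_bijective V.ι G z).1 hab)
    rw [this]
  · intro c
    obtain ⟨c', rfl⟩ := (rsHom_bijective V.ι G z).2 c
    obtain ⟨a', rfl⟩ := hb.2 c'
    exact ⟨_, (rsHom_stalkLin φ V z a').symm⟩

variable (U : X.Opens) (F : X.Modules)

/-- `j_* (F|_U)` -/
noncomputable abbrev pushRes : X.Modules :=
  (Scheme.Modules.pushforward U.ι).obj (F.restrict U.ι)

/-- the unit `F ⟶ j_* (F|_U)` -/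
noncomputable abbrev unit : F ⟶ pushRes U F := (Scheme.Modules.restrictAdjunction U.ι).unit.app F

theorem unit_stalk_bijective (x : X) (hx : x ∈ U) : Function.Bijective (stalkLin (unit U F) x) :=
  stalkLin_bijective_of_isIso_restrict (unit U F) U
    (PullFF.isIso_restrict_unit_restrict U F) ⟨x, hx⟩

/-- a section of `j_* M` is zero when its germs at the points of `U` vanish -/
theorem push_section_eq_zero (M : (U : Scheme.{u}).Modules) (W : X.Opens)
    (m : Γ((Scheme.Modules.pushforward U.ι).obj M, W))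
    (h : ∀ c : U, ∀ hc : U.ι c ∈ W,
      ((Scheme.Modules.pushforward U.ι).obj M).presheaf.germ W (U.ι c) hc m = 0) : m = 0 := by
  have : (show Γ(M, U.ι ⁻¹ᵁ W) from m) = 0 := by
    apply section_ext
    intro c hc
    have h1 := psHom_germ U.ι M c W hc m
    rw [h c hc, map_zero] at h1
    rw [map_zero]
    exact h1.symm
  exact this


variable [IsLocallyNoetherian X]

/-- `hzero` : vanishing stalk of `F` forces vanishing stalk of `j_*(F|_U)`. -/
theorem pushRes_stalk_subsingleton
    (hFT : SheafOfModules.IsFiniteType (R := X.ringCatSheaf) F) (x : X)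
    (hx : Subsingleton (F.presheaf.stalk x)) : Subsingleton ((pushRes U F).presheaf.stalk x) := by
  obtain ⟨W₀, hxW₀, hW₀⟩ := exists_nhd_subsingleton F hFT x hx
  refine ⟨fun a b => ?_⟩
  suffices h0 : ∀ y : (pushRes U F).presheaf.stalk x, y = 0 by rw [h0 a, h0 b]
  intro y
  obtain ⟨W, hxW, y₀, rfl⟩ := TopCat.Presheaf.exists_germ_eq (pushRes U F).presheaf y
  have hle : W ⊓ W₀ ≤ W := inf_le_left
  rw [← germ_res (pushRes U F) hle x ⟨hxW, hxW₀⟩ y₀]
  have : (pushRes U F).presheaf.map (homOfLE hle).op y₀ = 0 := by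
    apply PushSupp.eq_zero_of_subsingleton_stalks F (U.ι ''ᵁ U.ι ⁻¹ᵁ (W ⊓ W₀))
    rintro _ ⟨c, hc, rfl⟩
    exact hW₀ _ hc.2
  rw [this, map_zero]

/-- `hreg` : an element regular on `F_x` is regular on `(j_*(F|_U))_x`. -/
theorem pushRes_regular [F.IsQuasicoherent]
    (hFT : SheafOfModules.IsFiniteType (R := X.ringCatSheaf) F) (x : X)
    (a : X.presheaf.stalk x) (ha : IsSMulRegular (F.presheaf.stalk x) a) :
    IsSMulRegular ((pushRes U F).presheaf.stalk x) a := by
  suffices key : ∀ y : (pushRes U F).presheaf.stalk x, a • y = 0 → y = 0 by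
    intro y₁ y₂ h12
    have h0 : a • (y₁ - y₂) = 0 := by
      rw [smul_sub, sub_eq_zero]
      exact h12
    exact sub_eq_zero.mp (key _ h0)
  intro y hy
  obtain ⟨W₁, hxW₁, a₁, y₁, rfl, rfl⟩ := exists_common (pushRes U F) x a y
  -- shrink to an affine open
  obtain ⟨_, ⟨W, hW, rfl⟩, hxW, hWW₁⟩ :=
    X.isBasis_affineOpens.exists_subset_of_mem_open hxW₁ W₁.2
  have hWW₁' : W ≤ W₁ := hWW₁
  set a₀ := X.presheaf.map (homOfLE hWW₁').op a₁ with ha₀
  set y₀ := (pushRes U F).presheaf.map (homOfLE hWW₁').op y₁ with hy₀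
  have ea : X.presheaf.germ W x hxW a₀ = X.presheaf.germ W₁ x hxW₁ a₁ :=
    germ_resO hWW₁' x hxW a₁
  have ey : (pushRes U F).presheaf.germ W x hxW y₀ = (pushRes U F).presheaf.germ W₁ x hxW₁ y₁ :=
    germ_res (pushRes U F) hWW₁' x hxW y₁
  rw [← ea] at ha hy
  rw [← ey] at hy ⊢
  rw [← germ_smul] at hy
  -- `a₀ • y₀` vanishes near `x`
  have hy' : (pushRes U F).presheaf.germ W x hxW (a₀ • y₀) =
      (pushRes U F).presheaf.germ W x hxW 0 := by rw [hy, map_zero]
  obtain ⟨W₂, hxW₂, i₁, i₂, hW₂⟩ := TopCat.Presheaf.germ_eq (pushRes U F).presheaf x hxW hxW _ _ hy'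
  rw [map_zero] at hW₂
  obtain ⟨s, hxs, hs⟩ := exists_basicOpen_regular F hFT hW a₀ x hxW ha
  have hle : W₂ ⊓ X.basicOpen s ≤ W := inf_le_left.trans (leOfHom i₁)
  rw [← germ_res (pushRes U F) hle x ⟨hxW₂, hxs⟩ y₀]
  have : (pushRes U F).presheaf.map (homOfLE hle).op y₀ = 0 := by
    apply push_section_eq_zero
    intro c hc
    have hcW : U.ι c ∈ W := hle hc
    have hreg_c := hs (U.ι c) hcW hc.2
    -- transfer regularity through the stalk isomorphism at points of `U`
    have hb := unit_stalk_bijective U F (U.ι c) c.2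
    have hregG : IsSMulRegular ((pushRes U F).presheaf.stalk (U.ι c))
        (X.presheaf.germ W (U.ι c) hcW a₀) := by
      intro g₁ g₂ h12
      obtain ⟨f₁, rfl⟩ := hb.2 g₁
      obtain ⟨f₂, rfl⟩ := hb.2 g₂
      change X.presheaf.germ W (U.ι c) hcW a₀ • stalkLin (unit U F) (U.ι c) f₁ =
        X.presheaf.germ W (U.ι c) hcW a₀ • stalkLin (unit U F) (U.ι c) f₂ at h12
      rw [← map_smul, ← map_smul] at h12
      rw [hreg_c (hb.1 h12)]
    apply hregG
    change X.presheaf.germ W (U.ι c) hcW a₀ • _ = X.presheaf.germ W (U.ι c) hcW a₀ • 0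
    rw [smul_zero, germ_res (pushRes U F) hle (U.ι c) hc y₀, ← germ_smul]
    have h3 := congrArg ((pushRes U F).presheaf.germ W₂ (U.ι c) hc.1) hW₂
    rw [map_zero] at h3
    rw [← h3]
    exact (TopCat.Presheaf.germ_res_apply (pushRes U F).presheaf i₁ (U.ι c) hc.1 (a₀ • y₀)).symm
  rw [this, map_zero]


/-- S1575 -/
theorem main (hF : Coh.IsCoh F)
    (hdepth : ∀ x : X, x ∉ U → 2 ≤ LocCoh.depth (X.presheaf.stalk x) (F.presheaf.stalk x))
    (V : X.Opens) :
    Function.Bijective (F.presheaf.map (homOfLE (inf_le_left : V ⊓ U ≤ V)).op) := by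
  haveI : F.IsQuasicoherent := hF.1
  haveI : (pushRes U F).IsQuasicoherent :=
    QcohGlue.isQuasicoherent_pushforward U.ι (F.restrict U.ι)
  haveI hiso : IsIso (unit U F) := by
    apply isIso_of_depth_two (unit U F) hF.2
    · intro x
      by_cases hx : x ∈ U
      · exact Or.inl (unit_stalk_bijective U F x hx)
      · exact Or.inr (hdepth x hx)
    · intro x a _ ha
      exact pushRes_regular U F hF.2 x a ha
    · intro x hx
      exact pushRes_stalk_subsingleton U F hF.2 x hx
  have hb : Function.Bijective (Scheme.Modules.Hom.app (unit U F) V) :=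
    ConcreteCategory.bijective_of_isIso _
  rw [Scheme.Modules.restrictAdjunction_unit_app_app] at hb
  have e2 : U.ι ''ᵁ (U.ι ⁻¹ᵁ V) = V ⊓ U := by
    rw [Scheme.Hom.image_preimage_eq_opensRange_inf, Scheme.Opens.opensRange_ι, inf_comm]
  exact (ExtFree.bij_congr F rfl e2 _ _).mp hb

end Unit

end Groth.Agent.Lead.Hartogs
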