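import Mathlib
import Groth.Prelude.Def_CurvBase

set_option autoImplicit false
universe u
open CategoryTheory CategoryTheory.Limits AlgebraicGeometry TopologicalSpace Opposite

namespace Groth.Agent.Lead.WeakAss

variable {X : Scheme.{u}}

/-- a section of the structure sheaf seen as a section of the unit module -/
def toF (U : X.Opens) (s : Γ(X, U)) : (Coh.structureModule X).presheaf.obj (op U) := s

/-- germ in the stalk of the unit module -/
noncomputable def germF (U : X.Opens) (x : X) (hx : x ∈ U) (s : Γ(X, U)) :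
    (Coh.structureModule X).presheaf.stalk x :=
  (Coh.structureModule X).presheaf.germ U x hx (toF U s)

theorem germF_res {U V : X.Opens} (i : V ⟶ U) (x : X) (hx : x ∈ V) (s : Γ(X, U)) :
    germF V x hx (X.presheaf.map i.op s) = germF U x (i.le hx) s := by
  unfold germF
  exact TopCat.Presheaf.germ_res_apply (Coh.structureModule X).presheaf i x hx (toF U s)

theorem germF_smul (U : X.Opens) (x : X) (hx : x ∈ U) (r s : Γ(X, U)) :
    X.presheaf.germ U x hx r • germF U x hx s = germF U x hx (r * s) := by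
  unfold germF
  exact (PresheafOfModules.germ_smul (R := X.presheaf) (Coh.structureModule X).val x U hx r (toF U s)).symm

theorem germF_exists (x : X) (m : (Coh.structureModule X).presheaf.stalk x) :
    ∃ (U : X.Opens) (hx : x ∈ U) (s : Γ(X, U)), germF U x hx s = m := by
  obtain ⟨U, hx, s, hs⟩ := TopCat.Presheaf.exists_germ_eq (Coh.structureModule X).presheaf m
  exact ⟨U, hx, s, hs⟩

theorem germF_eq_zero_iff (U : X.Opens) (x : X) (hx : x ∈ U) (s : Γ(X, U)) :
    germF U x hx s = 0 ↔ X.presheaf.germ U x hx s = 0 := by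
  constructor
  · intro h
    have h0 : germF U x hx s = germF U x hx 0 := by
      rw [h]; unfold germF; exact (map_zero _).symm
    obtain ⟨W, hxW, iU, iV, hW⟩ := TopCat.Presheaf.germ_eq (Coh.structureModule X).presheaf x hx hx
      (toF U s) (toF U 0) h0
    have hW' : X.presheaf.map iU.op s = X.presheaf.map iV.op 0 := hW
    rw [← TopCat.Presheaf.germ_res_apply X.presheaf iU x hxW, hW', map_zero, map_zero]
  · intro h
    have h0 : X.presheaf.germ U x hx s = X.presheaf.germ U x hx 0 := by rw [h, map_zero]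
    obtain ⟨W, hxW, iU, iV, hW⟩ := TopCat.Presheaf.germ_eq X.presheaf x hx hx s 0 h0
    rw [← germF_res iU x hxW, hW, map_zero]
    unfold germF
    exact map_zero _

theorem smul_germF_eq_zero_iff (U : X.Opens) (x : X) (hx : x ∈ U) (s : Γ(X, U))
    (r : X.presheaf.stalk x) :
    r • germF U x hx s = 0 ↔ r * X.presheaf.germ U x hx s = 0 := by
  obtain ⟨W, hxW, a, rfl⟩ := TopCat.Presheaf.exists_germ_eq X.presheaf r
  have hxUW : x ∈ U ⊓ W := ⟨hx, hxW⟩
  have e1 : X.presheaf.germ W x hxW a =
      X.presheaf.germ (U ⊓ W) x hxUW (X.presheaf.map (homOfLE inf_le_right).op a) :=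
    (TopCat.Presheaf.germ_res_apply X.presheaf (homOfLE inf_le_right) x hxUW a).symm
  have e2 : germF U x hx s = germF (U ⊓ W) x hxUW (X.presheaf.map (homOfLE inf_le_left).op s) :=
    (germF_res (homOfLE inf_le_left) x hxUW s).symm
  have e3 : X.presheaf.germ U x hx s =
      X.presheaf.germ (U ⊓ W) x hxUW (X.presheaf.map (homOfLE inf_le_left).op s) :=
    (TopCat.Presheaf.germ_res_apply X.presheaf (homOfLE inf_le_left) x hxUW s).symm
  rw [e1, e2, e3, germF_smul, germF_eq_zero_iff, map_mul]

theorem ker_toSpanSingleton_germF (U : X.Opens) (x : X) (hx : x ∈ U) (s : Γ(X, U)) :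
    LinearMap.ker (LinearMap.toSpanSingleton (X.presheaf.stalk x)
      ((Coh.structureModule X).presheaf.stalk x) (germF U x hx s)) =
    LinearMap.ker (LinearMap.toSpanSingleton (X.presheaf.stalk x) (X.presheaf.stalk x)
      (X.presheaf.germ U x hx s)) := by
  ext r
  rw [LinearMap.mem_ker, LinearMap.mem_ker, LinearMap.toSpanSingleton_apply,
    LinearMap.toSpanSingleton_apply, smul_eq_mul]
  exact smul_germF_eq_zero_iff U x hx s r

theorem isWeakAssPoint_iff (x : X) :
    Curv2.IsWeakAssPoint (Coh.structureModule X) x ↔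
      ∃ m : X.presheaf.stalk x, Ideal.radical (LinearMap.ker (LinearMap.toSpanSingleton
        (X.presheaf.stalk x) (X.presheaf.stalk x) m)) =
        IsLocalRing.maximalIdeal (X.presheaf.stalk x) := by
  constructor
  · rintro ⟨m, hm⟩
    obtain ⟨U, hx, s, rfl⟩ := germF_exists x m
    rw [ker_toSpanSingleton_germF] at hm
    exact ⟨_, hm⟩
  · rintro ⟨m, hm⟩
    obtain ⟨U, hx, s, rfl⟩ := TopCat.Presheaf.exists_germ_eq X.presheaf m
    refine ⟨germF U x hx s, ?_⟩
    rw [ker_toSpanSingleton_germF]
    exact hm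

/-- annihilators of elements commute with localization at a prime -/
theorem ker_toSpanSingleton_map {A : Type*} [CommRing A] (P : Ideal A) [P.IsPrime]
    (R : Type*) [CommRing R] [Algebra A R] [IsLocalization.AtPrime R P] (z : A) :
    LinearMap.ker (LinearMap.toSpanSingleton R R (algebraMap A R z)) =
      Ideal.map (algebraMap A R) (LinearMap.ker (LinearMap.toSpanSingleton A A z) : Ideal A) := by
  ext v
  obtain ⟨r, t, rfl⟩ := IsLocalization.exists_mk'_eq P.primeCompl v
  have h1 : IsLocalization.mk' R r t * algebraMap A R z = IsLocalization.mk' R (r * z) t := by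
    rw [mul_comm, IsLocalization.mul_mk'_eq_mk'_of_mul, mul_comm]
  rw [LinearMap.mem_ker, LinearMap.toSpanSingleton_apply, smul_eq_mul, h1,
    IsLocalization.mk'_mem_map_algebraMap_iff P.primeCompl, IsLocalization.mk'_eq_zero_iff]
  constructor
  · rintro ⟨m, hm⟩
    refine ⟨m.1, m.2, ?_⟩
    rw [LinearMap.mem_ker, LinearMap.toSpanSingleton_apply, smul_eq_mul, mul_assoc]
    exact hm
  · rintro ⟨m, hm, h⟩
    refine ⟨⟨m, hm⟩, ?_⟩
    rw [LinearMap.mem_ker, LinearMap.toSpanSingleton_apply, smul_eq_mul, mul_assoc] at h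
    exact h

theorem radical_ker_eq_maximalIdeal {A : Type*} [CommRing A] (P : Ideal A) [P.IsPrime]
    (R : Type*) [CommRing R] [Algebra A R] [IsLocalRing R] [IsLocalization.AtPrime R P] (z : A)
    (h : P ∈ Ideal.minimalPrimes (LinearMap.ker (LinearMap.toSpanSingleton A A z) : Ideal A)) :
    Ideal.radical (LinearMap.ker (LinearMap.toSpanSingleton R R (algebraMap A R z))) =
      IsLocalRing.maximalIdeal R := by
  rw [ker_toSpanSingleton_map P R z, IsLocalization.AtPrime.radical_map_of_mem_minimalPrimes R P _ h,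
    IsLocalization.AtPrime.map_eq_maximalIdeal P R]

/-- a point of an affine open whose prime is minimal over the annihilator of a section is weakly
associated to the structure sheaf -/
theorem isWeakAssPoint_of_mem_minimalPrimes {V : X.Opens} (hV : IsAffineOpen V) (x : X) (hx : x ∈ V)
    (z : Γ(X, V))
    (h : (hV.primeIdealOf ⟨x, hx⟩).asIdeal ∈ Ideal.minimalPrimes
      (LinearMap.ker (LinearMap.toSpanSingleton Γ(X, V) Γ(X, V) z) : Ideal Γ(X, V))) :
    Curv2.IsWeakAssPoint (Coh.structureModule X) x := by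
  rw [isWeakAssPoint_iff]
  let _ := X.presheaf.algebra_section_stalk ⟨x, hx⟩
  have := hV.isLocalization_stalk ⟨x, hx⟩
  exact ⟨algebraMap Γ(X, V) (X.presheaf.stalk x) z,
    radical_ker_eq_maximalIdeal (hV.primeIdealOf ⟨x, hx⟩).asIdeal (X.presheaf.stalk x) z h⟩

/-- the point of an affine open attached to a prime ideal -/
theorem primeIdealOf_fromSpec {V : X.Opens} (hV : IsAffineOpen V) (p : PrimeSpectrum Γ(X, V))
    (hx : hV.fromSpec p ∈ V) : hV.primeIdealOf ⟨hV.fromSpec p, hx⟩ = p := by
  have hinj : Function.Injective hV.fromSpec := hV.fromSpec.isOpenEmbedding.injective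
  apply hinj
  exact hV.fromSpec_primeIdealOf ⟨hV.fromSpec p, hx⟩

theorem fromSpec_mem {V : X.Opens} (hV : IsAffineOpen V) (p : PrimeSpectrum Γ(X, V)) :
    hV.fromSpec p ∈ V := by
  have : hV.fromSpec p ∈ Set.range hV.fromSpec := ⟨p, rfl⟩
  rw [hV.range_fromSpec] at this
  exact this

/-- a section avoiding all weakly associated points of an affine open is a nonzerodivisor -/
theorem nzd_of_forall_weakAss {V : X.Opens} (hV : IsAffineOpen V) (g : Γ(X, V))
    (h : ∀ x : X, x ∈ V → Curv2.IsWeakAssPoint (Coh.structureModule X) x → x ∈ X.basicOpen g) :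
    g ∈ nonZeroDivisors Γ(X, V) := by
  rw [mem_nonZeroDivisors_iff_right]
  intro z hz
  by_contra hne
  set I : Ideal Γ(X, V) := LinearMap.ker (LinearMap.toSpanSingleton Γ(X, V) Γ(X, V) z) with hI
  have hItop : I ≠ ⊤ := by
    intro htop
    apply hne
    have : (1 : Γ(X, V)) ∈ I := by rw [htop]; trivial
    rw [hI, LinearMap.mem_ker, LinearMap.toSpanSingleton_apply, one_smul] at this
    exact this
  obtain ⟨M, hM, hIM⟩ := Ideal.exists_le_maximal I hItop
  obtain ⟨p, hp, hpM⟩ := Ideal.exists_minimalPrimes_le hIM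
  have hpp : p.IsPrime := hp.1.1
  have hgI : g ∈ I := by
    rw [hI, LinearMap.mem_ker, LinearMap.toSpanSingleton_apply, smul_eq_mul, mul_comm]; exact hz
  have hgp : g ∈ p := hp.1.2 hgI
  set ξ := hV.fromSpec ⟨p, hpp⟩ with hξ
  have hξV : ξ ∈ V := fromSpec_mem hV _
  have hw : Curv2.IsWeakAssPoint (Coh.structureModule X) ξ := by
    apply isWeakAssPoint_of_mem_minimalPrimes hV ξ hξV z
    rw [primeIdealOf_fromSpec hV ⟨p, hpp⟩ hξV]
    exact hp
  have := h ξ hξV hw
  have h2 : (⟨p, hpp⟩ : PrimeSpectrum Γ(X, V)) ∈ hV.fromSpec ⁻¹ᵁ X.basicOpen g := this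
  rw [hV.fromSpec_preimage_basicOpen] at h2
  exact h2 hgp

end Groth.Agent.Lead.WeakAss
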