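import Mathlib
import Groth.Agent.Lead.Hartogs
import Groth.Agent.Lead.WeakAss
import Groth.Agent.Lead.PerfLib5
import Groth.Agent.Helper4.FinLocFree6
import Groth.Agent.Helper9.ReflKer

set_option autoImplicit false
universe u
open CategoryTheory CategoryTheory.Limits AlgebraicGeometry TopologicalSpace Opposite

namespace Groth.Agent.Lead.Hartogs2
open Groth.Agent.Helper4 Groth.Agent.Lead.WeakAss

variable {X : Scheme.{u}}

/-- the stalk of the unit module is the local ring -/
noncomputable def unitEquiv (x : X) :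
    X.presheaf.stalk x ≃ₗ[X.presheaf.stalk x] (Coh.structureModule X).presheaf.stalk x := by
  refine LinearEquiv.ofBijective (LinearMap.toSpanSingleton (X.presheaf.stalk x)
    ((Coh.structureModule X).presheaf.stalk x) (germF ⊤ x trivial 1)) ⟨?_, ?_⟩
  · rw [← LinearMap.ker_eq_bot, eq_bot_iff]
    intro r hr
    rw [LinearMap.mem_ker, LinearMap.toSpanSingleton_apply, smul_germF_eq_zero_iff, map_one,
      mul_one] at hr
    exact hr
  · intro m
    obtain ⟨V, hx, s, rfl⟩ := germF_exists x m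
    refine ⟨X.presheaf.germ V x hx s, ?_⟩
    rw [LinearMap.toSpanSingleton_apply]
    have h1 : germF ⊤ x trivial (1 : Γ(X, ⊤)) = germF V x hx 1 := by
      rw [← germF_res (homOfLE (le_top : V ≤ ⊤)) x hx (1 : Γ(X, ⊤)), map_one]
    rw [h1, germF_smul, mul_one]

theorem depth_unit (x : X) :
    LocCoh.depth (X.presheaf.stalk x) ((Coh.structureModule X).presheaf.stalk x) =
      LocCoh.depth (X.presheaf.stalk x) (X.presheaf.stalk x) :=
  (Groth.Agent.Helper9.ReflKer.idealDepth_congr _ (unitEquiv x)).symm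

/-- Hartogs for the structure sheaf -/
theorem bijective_res [IsLocallyNoetherian X] (U : X.Opens)
    (hU : ∀ x : X, x ∉ U → (2 : ℕ∞) ≤ LocCoh.depth (X.presheaf.stalk x) (X.presheaf.stalk x))
    (V : X.Opens) :
    Function.Bijective (X.presheaf.map (homOfLE (inf_le_left : V ⊓ U ≤ V)).op) := by
  have h := Hartogs.main U (Coh.structureModule X)
    (Groth.Agent.Lead.PerfLib.isCoh_of_isFinLocFree FinLocFree6.isFinLocFree_unit)
    (fun x hx => by rw [depth_unit]; exact hU x hx) V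
  exact h


/-- a morphism to an affine scheme with prescribed map on global sections -/
noncomputable def ofAppTop {X Y : Scheme.{u}} [IsAffine Y] (χ : Γ(Y, ⊤) ⟶ Γ(X, ⊤)) : X ⟶ Y :=
  X.toSpecΓ ≫ Spec.map χ ≫ Y.isoSpec.inv

theorem ofAppTop_appTop {X Y : Scheme.{u}} [IsAffine Y] (χ : Γ(Y, ⊤) ⟶ Γ(X, ⊤)) :
    (ofAppTop χ).appTop = χ := by
  have h := congrArg Scheme.Hom.appTop (Scheme.toSpecΓ_isoSpec_inv Y)
  rw [Scheme.Hom.comp_appTop, Scheme.toSpecΓ_appTop] at h
  simp only [ofAppTop, Scheme.Hom.comp_appTop, Scheme.toSpecΓ_appTop, Category.assoc]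
  rw [Scheme.ΓSpecIso_naturality, ← Category.assoc, h]
  simp

/-- S2848 -/
theorem main (X Y : Scheme.{u}) [IsLocallyNoetherian X] [IsAffine Y] (U : X.Opens)
    (hU : ∀ x : X, x ∉ U → (2 : ℕ∞) ≤ LocCoh.depth (X.presheaf.stalk x) (X.presheaf.stalk x))
    (f : (U : Scheme.{u}) ⟶ Y) : ∃! g : X ⟶ Y, U.ι ≫ g = f := by
  have hb : Function.Bijective (U.ι.appTop) := by
    have e2 : U.ι ''ᵁ (U.ι ⁻¹ᵁ ⊤) = ⊤ ⊓ U := by
      rw [Scheme.Hom.image_preimage_eq_opensRange_inf, Scheme.Opens.opensRange_ι, inf_comm]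
    have h1 := (ExtFree.bij_congrO rfl e2 (U.ι.image_preimage_le ⊤) inf_le_left).mpr
      (bijective_res U hU ⊤)
    have h2 : U.ι.appTop = X.presheaf.map (homOfLE (U.ι.image_preimage_le ⊤)).op :=
      Scheme.Opens.ι_app U ⊤
    rw [h2]
    exact h1
  haveI : IsIso U.ι.appTop := (ConcreteCategory.isIso_iff_bijective _).mpr hb
  refine ⟨ofAppTop (f.appTop ≫ inv U.ι.appTop), ?_, ?_⟩
  · apply ext_of_isAffine
    rw [Scheme.Hom.comp_appTop, ofAppTop_appTop, Category.assoc, IsIso.inv_hom_id,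
      Category.comp_id]
  · intro g hg
    apply ext_of_isAffine
    rw [ofAppTop_appTop, ← hg, Scheme.Hom.comp_appTop, Category.assoc, IsIso.hom_inv_id,
      Category.comp_id]

end Groth.Agent.Lead.Hartogs2
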