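import Mathlib
import Groth.Prelude.Def_RefHull
import Groth.Prelude.Def_TorSh
import Groth.Agent.Helper4.StalkDict
import Groth.Agent.Helper4.SecDict

/-!
# The hand-rolled sheaf Hom `RefHull.homSh`: injectivity of evaluation at a point

For `F` quasi-coherent of finite type, `RefHull.evalStalk F G x` is injective.
-/

universe u

open CategoryTheory Limits AlgebraicGeometry TopologicalSpace Opposite

namespace Groth.Agent.Lead.HomSh

open Groth.Agent.Helper4.StalkDict

variable {X : Scheme.{u}}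

/-- On an affine open `U`, generators of `Γ(F,U)` generate every stalk `F_y`, `y ∈ U`. -/
theorem span_germ_eq_top {U : X.Opens} (hU : IsAffineOpen U) (F : X.Modules) [F.IsQuasicoherent]
    (S : Set Γ(F, U)) (hS : Submodule.span Γ(X, U) S = ⊤) (y : X) (hy : y ∈ U) :
    Submodule.span (X.presheaf.stalk y) ((F.presheaf.germ U y hy) '' S) = ⊤ := by
  letI := sectionModStalk F y hy
  haveI := isLocalizedModule_germ hU F y hy
  rw [eq_top_iff]
  intro v _
  have hgen : ∀ m : Γ(F, U), F.presheaf.germ U y hy m ∈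
      Submodule.span (X.presheaf.stalk y) ((F.presheaf.germ U y hy) '' S) := by
    intro m
    have hm : m ∈ Submodule.span Γ(X, U) S := by rw [hS]; trivial
    induction hm using Submodule.span_induction with
    | mem a ha => exact Submodule.subset_span ⟨a, ha, rfl⟩
    | zero => rw [map_zero]; exact Submodule.zero_mem _
    | add a b _ _ iha ihb => rw [map_add]; exact Submodule.add_mem _ iha ihb
    | smul r a _ iha => rw [germ_smul]; exact Submodule.smul_mem _ _ iha
  obtain ⟨⟨m, s⟩, hms⟩ := IsLocalizedModule.surj (hU.primeIdealOf ⟨y, hy⟩).asIdeal.primeCompl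
    (germLin F y hy) v
  -- `s • v = germ m`
  have hs' : y ∈ X.basicOpen (s : Γ(X, U)) :=
    (mem_basicOpen_iff_notMem_primeIdealOf hU y hy s).mpr s.2
  have hu : IsUnit (X.presheaf.germ U y hy (s : Γ(X, U))) := (X.mem_basicOpen _ y hy).mp hs'
  have hgm := hgen m
  have hv : X.presheaf.germ U y hy (s : Γ(X, U)) • v = F.presheaf.germ U y hy m := hms
  obtain ⟨w, hw⟩ := hu
  have : v = (↑w⁻¹ : X.presheaf.stalk y) • F.presheaf.germ U y hy m := by
    rw [← hv, ← hw, smul_smul, Units.inv_mul, one_smul]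
  rw [this]
  exact Submodule.smul_mem _ _ hgm

/-- a single section: the stalk maps of a section of the sheaf Hom vanishing at `x` kill the
germs of `m` near `x`. -/
theorem exists_nhd_apply_germ_eq_zero (F G : X.Modules) {V : X.Opens}
    (g : Γ(RefHull.homSh F G, V)) (x : X) (hxV : x ∈ V) (hg : g.1 ⟨x, hxV⟩ = 0)
    {U : X.Opens} (hUV : U ≤ V) (hxU : x ∈ U) (m : Γ(F, U)) :
    ∃ W : X.Opens, x ∈ W ∧ ∃ hWU : W ≤ U, ∀ (y : X) (hy : y ∈ W),
      g.1 ⟨y, hUV (hWU hy)⟩ (F.presheaf.germ U y (hWU hy) m) = 0 := by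
  obtain ⟨W, hxW, j, n, hW⟩ := RefHull.isLocSect_of_mem g U (homOfLE hUV) m ⟨x, hxU⟩
  have h0 : G.presheaf.germ W x hxW n = 0 := by
    rw [← hW ⟨x, hxW⟩]
    have : g.1 ⟨x, (homOfLE hUV).le (j.le hxW)⟩ = 0 := hg
    rw [this]; rfl
  have h0' : G.presheaf.germ W x hxW n = G.presheaf.germ W x hxW 0 := by rw [h0, map_zero]
  obtain ⟨W', hxW', i1, i2, hn⟩ := TopCat.Presheaf.germ_eq G.presheaf x hxW hxW n 0 h0'
  rw [map_zero] at hn
  refine ⟨W', hxW', i1.le.trans j.le, fun y hy => ?_⟩
  have := hW ⟨y, i1.le hy⟩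
  dsimp only at this
  rw [this, ← TopCat.Presheaf.germ_res_apply G.presheaf i1 y hy n, hn, map_zero]

/-- finitely many sections. -/
theorem exists_nhd_apply_germ_eq_zero_finset (F G : X.Modules) {V : X.Opens}
    (g : Γ(RefHull.homSh F G, V)) (x : X) (hxV : x ∈ V) (hg : g.1 ⟨x, hxV⟩ = 0)
    {U : X.Opens} (hUV : U ≤ V) (hxU : x ∈ U) (S : Finset Γ(F, U)) :
    ∃ W : X.Opens, x ∈ W ∧ ∃ hWU : W ≤ U, ∀ m ∈ S, ∀ (y : X) (hy : y ∈ W),
      g.1 ⟨y, hUV (hWU hy)⟩ (F.presheaf.germ U y (hWU hy) m) = 0 := by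
  classical
  induction S using Finset.induction_on with
  | empty => exact ⟨U, hxU, le_rfl, fun m hm => absurd hm (Finset.notMem_empty m)⟩
  | insert a S _ ih =>
    obtain ⟨W₁, hx₁, hW₁, h₁⟩ := ih
    obtain ⟨W₂, hx₂, hW₂, h₂⟩ := exists_nhd_apply_germ_eq_zero F G g x hxV hg hUV hxU a
    refine ⟨W₁ ⊓ W₂, ⟨hx₁, hx₂⟩, inf_le_left.trans hW₁, fun m hm y hy => ?_⟩
    rcases Finset.mem_insert.mp hm with rfl | hm
    · exact h₂ y hy.2
    · exact h₁ m hm y hy.1

/-- **Injectivity of evaluation**: for `F` quasi-coherent of finite type the canonical map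
`𝓗om(F, G)_x → Hom(F_x, G_x)` is injective. -/
theorem evalStalk_injective (F G : X.Modules)
    (hq : SheafOfModules.IsQuasicoherent (R := X.ringCatSheaf) F)
    (hft : SheafOfModules.IsFiniteType (R := X.ringCatSheaf) F) (x : X) :
    Function.Injective (RefHull.evalStalk F G x) := by
  haveI : F.IsQuasicoherent := hq
  rw [injective_iff_map_eq_zero]
  intro θ hθ
  obtain ⟨V, hxV, g, rfl⟩ := TopCat.Presheaf.exists_germ_eq (RefHull.homSh F G).presheaf θ
  rw [RefHull.evalStalk_germ] at hθ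
  obtain ⟨U, hU, hxU, hUV⟩ : ∃ U : X.Opens, IsAffineOpen U ∧ x ∈ U ∧ U ≤ V := by
    obtain ⟨_, ⟨U, hU, rfl⟩, hxU, hUV⟩ := X.isBasis_affineOpens.exists_subset_of_mem_open
      (show x ∈ (V : Set X) from hxV) V.isOpen
    exact ⟨U, hU, hxU, hUV⟩
  haveI := Groth.Agent.Helper4.SecDict.finite_sections hU F hq hft
  obtain ⟨S, hS⟩ := Module.Finite.fg_top (R := Γ(X, U)) (M := Γ(F, U))
  obtain ⟨W, hxW, hWU, hW⟩ :=
    exists_nhd_apply_germ_eq_zero_finset F G g x hxV hθ hUV hxU S
  have hres : (RefHull.homSh F G).presheaf.map (homOfLE (hWU.trans hUV)).op g = 0 := by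
    refine Subtype.ext (funext fun y => ?_)
    change g.1 ⟨y.1, _⟩ = 0
    refine LinearMap.ext_on (span_germ_eq_top hU F (S : Set Γ(F, U)) hS y.1 (hWU y.2)) ?_
    rintro _ ⟨m, hm, rfl⟩
    exact hW m hm y.1 y.2
  rw [← TopCat.Presheaf.germ_res_apply (RefHull.homSh F G).presheaf (homOfLE (hWU.trans hUV)) x hxW g,
    hres, map_zero]

/-- `Hom` into a torsion-free module is torsion-free. -/
theorem isTorsionFree_linearMap (R M N : Type*) [CommRing R] [AddCommGroup M] [Module R M]
    [AddCommGroup N] [Module R N] [Module.IsTorsionFree R N] :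
    Module.IsTorsionFree R (M →ₗ[R] N) where
  isSMulRegular r hr f g hfg := by
    ext v
    have := LinearMap.congr_fun hfg v
    exact hr.isSMulRegular this

/-- the sheaf Hom into a torsion-free module is torsion-free, for `F` qcoh of finite type. -/
theorem isTorsionFree_homSh (F G : X.Modules)
    (hq : SheafOfModules.IsQuasicoherent (R := X.ringCatSheaf) F)
    (hft : SheafOfModules.IsFiniteType (R := X.ringCatSheaf) F)
    (hGt : TorSh.IsTorsionFree G) : TorSh.IsTorsionFree (RefHull.homSh F G) := by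
  intro x
  haveI := hGt x
  haveI : Module.IsTorsionFree (X.presheaf.stalk x) (RefHull.StalkHom F G x) :=
    isTorsionFree_linearMap _ _ _
  exact Function.Injective.moduleIsTorsionFree (RefHull.evalStalk F G x)
    (evalStalk_injective F G hq hft x) (fun r m => map_smul _ r m)

end Groth.Agent.Lead.HomSh
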