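import Mathlib
import Groth.Prelude.Def_RefHull
import Groth.Prelude.Def_TorSh
import Groth.Agent.Helper4.EpiStalk
import Groth.Agent.Helper4.FTLocal
import Groth.Agent.Lead.FlatLib1
import Groth.Agent.Lead.HomSh1

/-!
# `RefHull.evalStalk` is injective for modules of finite type (no quasi-coherence)
-/

universe u

open CategoryTheory Limits AlgebraicGeometry TopologicalSpace Opposite

namespace Groth.Agent.Lead.HomSh

open Groth.Agent.Helper4.StalkDict

theorem sigma_total {C : Type*} [Category C] [Preadditive C] {I : Type*} [Fintype I]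
    [DecidableEq I] (A : C) [HasCoproduct (fun _ : I => A)] :
    ∑ i, Sigma.desc (fun j : I => if j = i then 𝟙 A else 0) ≫ Sigma.ι (fun _ : I => A) i =
      𝟙 (∐ fun _ : I => A) := by
  apply Sigma.hom_ext
  intro j
  rw [Preadditive.comp_sum, Category.comp_id, Finset.sum_eq_single j]
  · rw [Sigma.ι_desc_assoc, if_pos rfl, Category.id_comp]
  · intro i _ hij
    rw [Sigma.ι_desc_assoc, if_neg (Ne.symm hij), zero_comp]
  · intro h; exact absurd (Finset.mem_univ j) h

variable {Y : Scheme.{u}}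

/-- evaluation of morphisms at a section, as an additive map. -/
noncomputable def appAt {M N : Y.Modules} (W : Y.Opens) (s : Γ(M, W)) : (M ⟶ N) →+ Γ(N, W) where
  toFun φ := φ.app W s
  map_zero' := rfl
  map_add' _ _ := rfl

theorem sum_app_apply {M N : Y.Modules} {I : Type*} (t : Finset I) (f : I → (M ⟶ N))
    (W : Y.Opens) (s : Γ(M, W)) :
    (∑ i ∈ t, f i).app W s = ∑ i ∈ t, (f i).app W s :=
  map_sum (appAt W s) f t

/-- local sections are locally combinations of finitely many generating sections -/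
theorem exists_local_combination (N : Y.Modules)
    (σ : SheafOfModules.GeneratingSections (R := Y.ringCatSheaf) N) [Fintype σ.I]
    (U : Y.Opens) (t : Γ(N, U)) (y : Y) (hy : y ∈ U) :
    ∃ (W : Y.Opens) (hWU : W ≤ U) (_ : y ∈ W) (c : σ.I → Γ(Y, W)),
      N.presheaf.map (homOfLE hWU).op t = ∑ i, c i • (show Γ(N, W) from (σ.s i).val (op W)) := by
  classical
  let p : (SheafOfModules.free (R := Y.ringCatSheaf) σ.I : Y.Modules) ⟶ N := σ.π
  haveI hpe : @Epi Y.Modules _ _ _ p := σ.epi
  obtain ⟨W, hWU, hyW, s, hs⟩ := Groth.Agent.Helper4.EpiStalk.exists_local_lift_of_epi p U t y hy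
  let πF : σ.I → ((SheafOfModules.free (R := Y.ringCatSheaf) σ.I : Y.Modules) ⟶
      (SheafOfModules.unit Y.ringCatSheaf : Y.Modules)) := fun i =>
    Sigma.desc (fun j : σ.I => if j = i then 𝟙 (SheafOfModules.unit Y.ringCatSheaf) else 0)
  let ιF : σ.I → ((SheafOfModules.unit Y.ringCatSheaf : Y.Modules) ⟶
      (SheafOfModules.free (R := Y.ringCatSheaf) σ.I : Y.Modules)) := fun i =>
    SheafOfModules.ιFree i
  have htot : ∑ i, πF i ≫ ιF i = 𝟙 _ := sigma_total (SheafOfModules.unit Y.ringCatSheaf)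
  refine ⟨W, hWU, hyW, fun i => Scheme.Modules.Hom.app (πF i) W s, ?_⟩
  rw [← hs]
  have h1 : s = ∑ i, Scheme.Modules.Hom.app (ιF i) W (Scheme.Modules.Hom.app (πF i) W s) := by
    have h2 := sum_app_apply Finset.univ (fun i => πF i ≫ ιF i) W s
    have h3 : Scheme.Modules.Hom.app (𝟙 _) W s = Scheme.Modules.Hom.app (∑ i, πF i ≫ ιF i) W s :=
      congrArg (fun f => Scheme.Modules.Hom.app f W s) htot.symm
    exact h3.trans h2
  have h5 : ∀ i, N.freeHomEquiv p i = σ.s i := fun i => by
    change N.freeHomEquiv (N.freeHomEquiv.symm σ.s) i = σ.s i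
    rw [Equiv.apply_symm_apply]
  have h6 : ∀ (i : σ.I) (c : Γ(Y, W)),
      Scheme.Modules.Hom.app p W (Scheme.Modules.Hom.app (ιF i) W c) =
        c • (show Γ(N, W) from (σ.s i).val (op W)) := by
    intro i c
    have e1 : (show Γ((SheafOfModules.unit Y.ringCatSheaf : Y.Modules), W) from c) =
        c • (show Γ((SheafOfModules.unit Y.ringCatSheaf : Y.Modules), W) from (1 : Γ(Y, W))) := by
      change c = c * 1
      rw [mul_one]
    have e2 : Scheme.Modules.Hom.app p W (Scheme.Modules.Hom.app (ιF i) W c) =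
        Scheme.Modules.Hom.app (ιF i ≫ p) W c := rfl
    rw [e2]
    have e3 := Scheme.Modules.Hom.app_smul (ιF i ≫ p) c
      (show Γ((SheafOfModules.unit Y.ringCatSheaf : Y.Modules), W) from (1 : Γ(Y, W)))
    rw [← h5 i]
    refine Eq.trans ?_ e3
    exact congrArg _ e1
  conv_lhs => rw [h1]
  rw [map_sum]
  exact Finset.sum_congr rfl (fun i _ => h6 i _)

/-- the stalks of a module with finitely many generating sections are spanned by their germs -/
theorem span_germ_generatingSections (N : Y.Modules)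
    (σ : SheafOfModules.GeneratingSections (R := Y.ringCatSheaf) N) [Fintype σ.I] (y : Y) :
    Submodule.span (Y.presheaf.stalk y)
      (Set.range fun i => N.presheaf.germ ⊤ y trivial (show Γ(N, ⊤) from (σ.s i).val (op ⊤))) =
      ⊤ := by
  rw [eq_top_iff]
  intro v _
  obtain ⟨U, hyU, t, rfl⟩ := TopCat.Presheaf.exists_germ_eq N.presheaf v
  obtain ⟨W, hWU, hyW, c, hc⟩ := exists_local_combination N σ U t y hyU
  rw [← TopCat.Presheaf.germ_res_apply N.presheaf (homOfLE hWU) y hyW t, hc, map_sum]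
  refine Submodule.sum_mem _ (fun i _ => ?_)
  rw [germ_smul]
  refine Submodule.smul_mem _ _ (Submodule.subset_span ⟨i, ?_⟩)
  have hcomp : (show Γ(N, W) from (σ.s i).val (op W)) =
      N.presheaf.map (homOfLE (le_top : W ≤ ⊤)).op (show Γ(N, ⊤) from (σ.s i).val (op ⊤)) :=
    ((σ.s i).property (homOfLE (le_top : W ≤ ⊤)).op).symm
  rw [hcomp, TopCat.Presheaf.germ_res_apply]

variable {X : Scheme.{u}}

open Groth.Agent.Lead.FlatLib in
/-- generating sections of a restriction to an open span the stalks of the original module -/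
theorem span_germ_restrict (F : X.Modules) (W : X.Opens)
    (σ : SheafOfModules.GeneratingSections (R := (W : Scheme.{u}).ringCatSheaf) (F.restrict W.ι))
    [Fintype σ.I] (y : W) :
    Submodule.span (X.presheaf.stalk (W.ι y))
      (Set.range fun i => F.presheaf.germ (W.ι ''ᵁ ⊤) (W.ι y) ⟨y, trivial, rfl⟩
         (show Γ(F, W.ι ''ᵁ ⊤) from (σ.s i).val (op ⊤))) = ⊤ := by
  rw [eq_top_iff]
  intro v hv
  clear hv
  obtain ⟨v', rfl⟩ := (rsHom_bijective W.ι F y).2 v
  have hv' : v' ∈ Submodule.span ((W : Scheme.{u}).presheaf.stalk y)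
      (Set.range fun i => (F.restrict W.ι).presheaf.germ ⊤ y trivial
        (show Γ(F.restrict W.ι, ⊤) from (σ.s i).val (op ⊤))) := by
    rw [span_germ_generatingSections (F.restrict W.ι) σ y]; trivial
  induction hv' using Submodule.span_induction with
  | mem a ha =>
    obtain ⟨i, rfl⟩ := ha
    refine Submodule.subset_span ⟨i, ?_⟩
    exact (rsHom_germ W.ι F y ⊤ trivial _).symm
  | zero => rw [map_zero]; exact Submodule.zero_mem _
  | add a b _ _ iha ihb => rw [map_add]; exact Submodule.add_mem _ iha ihb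
  | smul a w _ ih =>
    obtain ⟨b, rfl⟩ : ∃ b, (W.ι.stalkMap y).hom b = a :=
      ((ConcreteCategory.isIso_iff_bijective (W.ι.stalkMap y)).mp inferInstance).2 a
    rw [rsHom_smul]
    exact Submodule.smul_mem _ _ ih

/-- injectivity of evaluation from local generators -/
theorem evalStalk_injective_of_generators (F G : X.Modules) (x : X)
    (h : ∀ V : X.Opens, x ∈ V → ∃ (U : X.Opens) (_ : U ≤ V) (_ : x ∈ U) (S : Finset Γ(F, U)),
      ∀ (y : X) (hy : y ∈ U), Submodule.span (X.presheaf.stalk y)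
        ((F.presheaf.germ U y hy) '' (S : Set Γ(F, U))) = ⊤) :
    Function.Injective (RefHull.evalStalk F G x) := by
  rw [injective_iff_map_eq_zero]
  intro θ hθ
  obtain ⟨V, hxV, g, rfl⟩ := TopCat.Presheaf.exists_germ_eq (RefHull.homSh F G).presheaf θ
  rw [RefHull.evalStalk_germ] at hθ
  obtain ⟨U, hUV, hxU, S, hS⟩ := h V hxV
  obtain ⟨W, hxW, hWU, hW⟩ :=
    exists_nhd_apply_germ_eq_zero_finset F G g x hxV hθ hUV hxU S
  have hres : (RefHull.homSh F G).presheaf.map (homOfLE (hWU.trans hUV)).op g = 0 := by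
    refine Subtype.ext (funext fun y => ?_)
    change g.1 ⟨y.1, _⟩ = 0
    refine LinearMap.ext_on (hS y.1 (hWU y.2)) ?_
    rintro _ ⟨m, hm, rfl⟩
    exact hW m hm y.1 y.2
  rw [← TopCat.Presheaf.germ_res_apply (RefHull.homSh F G).presheaf (homOfLE (hWU.trans hUV)) x hxW g,
    hres, map_zero]

/-- **S16484**: evaluation is injective for modules of finite type. -/
theorem evalStalk_injective_of_isFT (F G : X.Modules)
    (hft : SheafOfModules.IsFiniteType (R := X.ringCatSheaf) F) (x : X) :
    Function.Injective (RefHull.evalStalk F G x) := by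
  classical
  apply evalStalk_injective_of_generators
  intro V hxV
  obtain ⟨W₀, hxW₀, hW₀⟩ := Groth.Agent.Helper4.FTLocal.exists_generatingSections_restrict F hft x
  obtain ⟨W, hWle, hWV, hxW⟩ : ∃ W : X.Opens, W ≤ W₀ ∧ W ≤ V ∧ x ∈ W :=
    ⟨W₀ ⊓ V, inf_le_left, inf_le_right, ⟨hxW₀, hxV⟩⟩
  obtain ⟨σ, hσ⟩ := hW₀ W hWle
  haveI : Finite σ.I := SheafOfModules.GeneratingSections.IsFiniteType.finite (self := hσ)
  letI : Fintype σ.I := Fintype.ofFinite _
  have htop : W.ι ''ᵁ ⊤ = W := Scheme.Opens.ι_image_top W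
  refine ⟨W.ι ''ᵁ ⊤, ?_, ?_, Finset.univ.image (fun i =>
    (show Γ(F, W.ι ''ᵁ ⊤) from (σ.s i).val (op ⊤))), ?_⟩
  · rw [htop]; exact hWV
  · rw [htop]; exact hxW
  · intro y hy
    obtain ⟨y', -, rfl⟩ := id hy
    have := span_germ_restrict F W σ y'
    rw [Finset.coe_image, Finset.coe_univ, Set.image_univ, ← Set.range_comp]
    exact this

end Groth.Agent.Lead.HomSh
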