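import Mathlib
import Groth.Prelude.Def_RefHull
import Groth.Agent.Helper4.StalkDict
import Groth.Agent.Helper4.FPGlue
import Groth.Agent.Lead.HomShA

/-!
# Surjectivity of `RefHull.evalStalk` for finitely presented modules
-/

set_option autoImplicit false
set_option linter.style.haveILetI false
set_option linter.unusedSectionVars false

universe u

open CategoryTheory CategoryTheory.Limits AlgebraicGeometry TopologicalSpace Opposite

namespace Groth.Agent.Lead.HomShB

open Groth.Agent.Helper4.StalkDict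

variable {X : Scheme.{u}}

/-- finitely many germs are germs of sections over a common neighbourhood -/
theorem exists_common_nhd {ι : Type*} [Finite ι] (G : X.Modules) (x : X) (U : X.Opens)
    (hxU : x ∈ U) (t : ι → G.presheaf.stalk x) :
    ∃ (V : X.Opens) (_ : V ≤ U) (hxV : x ∈ V) (τ : ι → Γ(G, V)),
      ∀ i, G.presheaf.germ V x hxV (τ i) = t i := by
  choose W hW σ hσ using fun i => TopCat.Presheaf.exists_germ_eq G.presheaf (t i)
  have hx : x ∈ U ⊓ ⨅ i, W i := by
    refine ⟨hxU, ?_⟩
    rw [SetLike.mem_coe, ← SetLike.mem_coe, Opens.coe_iInf]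
    exact Set.mem_iInter.2 fun i => hW i
  refine ⟨U ⊓ ⨅ i, W i, inf_le_left, hx,
    fun i => G.presheaf.map (homOfLE (inf_le_right.trans (iInf_le W i))).op (σ i), fun i => ?_⟩
  rw [TopCat.Presheaf.germ_res_apply]
  exact hσ i

/-- finitely many sections with vanishing germ vanish on a common neighbourhood -/
theorem exists_common_zero {ι : Type*} [Finite ι] (G : X.Modules) (x : X) (V : X.Opens)
    (hxV : x ∈ V) (σ : ι → Γ(G, V)) (hσ : ∀ j, G.presheaf.germ V x hxV (σ j) = 0) :
    ∃ (W : X.Opens) (hWV : W ≤ V) (_ : x ∈ W),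
      ∀ j, G.presheaf.map (homOfLE hWV).op (σ j) = 0 := by
  have h : ∀ j, ∃ (W : X.Opens) (_ : x ∈ W) (hWV : W ≤ V),
      G.presheaf.map (homOfLE hWV).op (σ j) = 0 := by
    intro j
    have h0 : G.presheaf.germ V x hxV (σ j) = G.presheaf.germ V x hxV 0 := by
      rw [hσ j, map_zero]
    obtain ⟨W, hxW, i₁, i₂, hW⟩ := TopCat.Presheaf.germ_eq G.presheaf x hxV hxV (σ j) 0 h0
    refine ⟨W, hxW, i₁.le, ?_⟩
    rw [map_zero] at hW
    exact hW
  choose W hW hWV hz using h
  have hx : x ∈ V ⊓ ⨅ i, W i := by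
    refine ⟨hxV, ?_⟩
    rw [SetLike.mem_coe, ← SetLike.mem_coe, Opens.coe_iInf]
    exact Set.mem_iInter.2 fun i => hW i
  refine ⟨V ⊓ ⨅ i, W i, inf_le_left, hx, fun j => ?_⟩
  have e : G.presheaf.map (homOfLE (inf_le_left : V ⊓ ⨅ i, W i ≤ V)).op (σ j) =
      G.presheaf.map (homOfLE (inf_le_right.trans (iInf_le W j) : V ⊓ ⨅ i, W i ≤ W j)).op
        (G.presheaf.map (homOfLE (hWV j)).op (σ j)) := by
    rw [← ConcreteCategory.comp_apply, ← Functor.map_comp]
    rfl
  rw [e, hz j, map_zero]

/-- descending a linear map along a surjection whose kernel is killed -/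
theorem exists_descend {R M L N : Type*} [CommRing R] [AddCommGroup M] [Module R M]
    [AddCommGroup L] [Module R L] [AddCommGroup N] [Module R N]
    (f : L →ₗ[R] M) (hf : Function.Surjective f) (l₀ : L →ₗ[R] N)
    (h : LinearMap.ker f ≤ LinearMap.ker l₀) :
    ∃ l : M →ₗ[R] N, ∀ c, l (f c) = l₀ c := by
  refine ⟨((LinearMap.ker f).liftQ l₀ h).comp
    (LinearMap.quotKerEquivOfSurjective f hf).symm.toLinearMap, fun c => ?_⟩
  have : (LinearMap.quotKerEquivOfSurjective f hf).symm (f c) =
      Submodule.Quotient.mk c := by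
    rw [LinearEquiv.symm_apply_eq]
    rfl
  simp only [LinearMap.comp_apply, LinearEquiv.coe_coe, this, Submodule.liftQ_apply]

/-- **surjectivity of the evaluation map for finitely presented modules** -/
theorem evalStalk_surjective (F G : X.Modules)
    (hF : SheafOfModules.IsFinitePresentation (R := X.ringCatSheaf) F) (x : X) :
    Function.Surjective (RefHull.evalStalk F G x) := by
  classical
  intro θ
  haveI := hF
  haveI : F.IsQuasicoherent := inferInstance
  obtain ⟨_, ⟨U, hU : IsAffineOpen U, rfl⟩, hxU, -⟩ :=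
    X.isBasis_affineOpens.exists_subset_of_mem_open (Set.mem_univ x) isOpen_univ
  replace hxU : x ∈ U := hxU
  haveI := Groth.Agent.Helper4.FPGlue.fp_sections F hF hU
  obtain ⟨n, m, f, g, hf, hfg⟩ := Module.FinitePresentation.exists_fin' Γ(X, U) Γ(F, U)
  -- images of the generators
  obtain ⟨V, hVU, hxV, τ, hτ⟩ := exists_common_nhd G x U hxU
    (fun i : Fin n => θ (F.presheaf.germ U x hxU (f (Pi.single i 1))))
  -- key computation: `θ` on germs of elements `f c`
  have hfc : ∀ c : Fin n → Γ(X, U), f c = ∑ i, c i • f (Pi.single i 1) := fun c => by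
    rw [LinearMap.pi_apply_eq_sum_univ f c]
    refine Finset.sum_congr rfl fun i _ => ?_
    congr 2
    ext j
    simp [Pi.single_apply, eq_comm]
  have hθ : ∀ c : Fin n → Γ(X, U), θ (F.presheaf.germ U x hxU (f c)) =
      G.presheaf.germ V x hxV (∑ i, X.presheaf.map (homOfLE hVU).op (c i) • τ i) := by
    intro c
    rw [hfc c, map_sum, map_sum, map_sum]
    refine Finset.sum_congr rfl fun i _ => ?_
    rw [germ_smul, LinearMap.map_smul, germ_smul, hτ i,
      TopCat.Presheaf.germ_res_apply X.presheaf (homOfLE hVU) x hxV (c i)]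
  -- the relations vanish near `x`
  obtain ⟨W, hWV, hxW, hW⟩ := exists_common_zero G x V hxV
    (fun j : Fin m => ∑ i, X.presheaf.map (homOfLE hVU).op (g (Pi.single j 1) i) • τ i)
    (fun j => by
      rw [← hθ, hfg.apply_apply_eq_zero, map_zero, map_zero])
  have hWU : W ≤ U := hWV.trans hVU
  -- `Γ(G, W)` as a `Γ(X,U)`-module
  letI : Module Γ(X, U) Γ(G, W) := Module.compHom _ (X.presheaf.map (homOfLE hWU).op).hom
  have hsm : ∀ (r : Γ(X, U)) (t : Γ(G, W)), r • t = X.presheaf.map (homOfLE hWU).op r • t :=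
    fun _ _ => rfl
  let l₀ : (Fin n → Γ(X, U)) →ₗ[Γ(X, U)] Γ(G, W) :=
    Fintype.linearCombination Γ(X, U) (fun i => G.presheaf.map (homOfLE hWV).op (τ i))
  have hl₀ : ∀ c, l₀ c = G.presheaf.map (homOfLE hWV).op
      (∑ i, X.presheaf.map (homOfLE hVU).op (c i) • τ i) := by
    intro c
    rw [Fintype.linearCombination_apply, map_sum]
    refine Finset.sum_congr rfl fun i _ => ?_
    rw [hsm, Scheme.Modules.map_smul]
    congr 1
    rw [← ConcreteCategory.comp_apply, ← Functor.map_comp]
    rfl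
  have hker : LinearMap.ker f ≤ LinearMap.ker l₀ := by
    intro c hc
    rw [LinearMap.mem_ker] at hc ⊢
    obtain ⟨d, rfl⟩ := (hfg c).1 hc
    have hd : d = ∑ j, d j • Pi.single j (1 : Γ(X, U)) := by
      ext k
      simp [Finset.sum_apply, Pi.single_apply]
    rw [hd, map_sum, map_sum]
    refine Finset.sum_eq_zero fun j _ => ?_
    rw [LinearMap.map_smul, LinearMap.map_smul, hl₀, hW j, smul_zero]
  obtain ⟨l, hl⟩ := exists_descend f hf l₀ hker
  -- the section of the sheaf Hom
  let s : Γ(RefHull.homSh F G, W) := HomShA.ofLin hU F G hWU l.toAddMonoidHom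
    (fun r a => by
      change l (r • a) = _
      rw [LinearMap.map_smul]
      rfl)
  refine ⟨(RefHull.homSh F G).presheaf.germ W x hxW s, ?_⟩
  rw [RefHull.evalStalk_germ]
  -- compare on germs
  letI := sectionModStalk F x hxU
  letI := sectionModStalk G x hxU
  haveI := isLocalizedModule_germ hU F x hxU
  have key : ∀ a : Γ(F, U), s.1 ⟨x, hxW⟩ (F.presheaf.germ U x hxU a) =
      θ (F.presheaf.germ U x hxU a) := by
    intro a
    obtain ⟨c, rfl⟩ := hf a
    rw [hθ c]
    have h1 := HomShA.ofLin_apply_germ hU F G hWU l.toAddMonoidHom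
      (fun r a => by
        change l (r • a) = _
        rw [LinearMap.map_smul]
        rfl) ⟨x, hxW⟩ (f c)
    refine h1.trans ?_
    change G.presheaf.germ W x hxW (l (f c)) = _
    rw [hl c, hl₀ c, TopCat.Presheaf.germ_res_apply]
  have hR : ∀ (φ : RefHull.StalkHom F G x) (r : Γ(X, U)) (v : F.presheaf.stalk x),
      φ (r • v) = r • φ v := fun φ r v => φ.map_smul _ v
  let φ₁ : F.presheaf.stalk x →ₗ[Γ(X, U)] G.presheaf.stalk x :=
    { toFun := s.1 ⟨x, hxW⟩, map_add' := map_add _, map_smul' := hR _ }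
  let φ₂ : F.presheaf.stalk x →ₗ[Γ(X, U)] G.presheaf.stalk x :=
    { toFun := θ, map_add' := map_add _, map_smul' := hR _ }
  have h12 : φ₁ = φ₂ := by
    apply IsLocalizedModule.ext (hU.primeIdealOf ⟨x, hxU⟩).asIdeal.primeCompl (germLin F x hxU)
      (HomShA.isUnit_end hU G x hxU)
    ext a
    exact key a
  ext v
  exact congrArg (fun ψ => ψ v) h12

end Groth.Agent.Lead.HomShB
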