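import Mathlib
import Groth.Prelude.Def_RefHull
import Groth.Agent.Lead.HomShB
import Groth.Agent.Lead.HomSh2
import Groth.Agent.Lead.Hartogs2

/-!
# Reflexivity of a stalk in terms of the stalk of the biduality map
-/

set_option autoImplicit false
set_option linter.style.haveILetI false
set_option linter.unusedSectionVars false

universe u

open CategoryTheory CategoryTheory.Limits AlgebraicGeometry TopologicalSpace Opposite

namespace Groth.Agent.Lead.HomShF

/-- pure algebra: reflexivity through a perfect-pairing model of the dual -/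
theorem isReflexive_iff_of_pairing {R M D O : Type*} [CommRing R] [AddCommGroup M] [Module R M]
    [AddCommGroup D] [Module R D] [AddCommGroup O] [Module R O] (u : R ≃ₗ[R] O)
    (E1 : D →ₗ[R] (M →ₗ[R] O)) (hE1 : Function.Bijective E1)
    (b : M →ₗ[R] (D →ₗ[R] O)) (hb : ∀ v θ, b v θ = E1 θ v) :
    Function.Bijective b ↔ Module.IsReflexive R M := by
  let e1 : D ≃ₗ[R] Module.Dual R M :=
    (LinearEquiv.ofBijective E1 hE1).trans (LinearEquiv.congrRight u.symm)
  let e2 : (D →ₗ[R] O) ≃ₗ[R] Module.Dual R (Module.Dual R M) := LinearEquiv.arrowCongr e1 u.symm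
  have key : ∀ v, e2 (b v) = Module.Dual.eval R M v := by
    intro v
    ext f
    obtain ⟨θ, rfl⟩ := e1.surjective f
    rw [LinearEquiv.arrowCongr_apply, hb, Module.Dual.eval_apply, LinearEquiv.symm_apply_apply]
    rfl
  have h2 : (Module.Dual.eval R M : M → _) = e2 ∘ b := by
    funext v; exact (key v).symm
  constructor
  · intro h
    refine ⟨?_⟩
    rw [h2]
    exact e2.bijective.comp h
  · intro h
    have h3 := h.bijective_dual_eval'
    rw [h2] at h3
    exact (Function.Bijective.of_comp_iff' e2.bijective _).mp h3

variable {X : Scheme.{u}} (F : X.Modules)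

/-- compatibility of the stalk of the biduality map with the evaluation maps -/
theorem evalStalk_stalkMap_bidualMap (x : X) (v : F.presheaf.stalk x) :
    RefHull.evalStalk (RefHull.dual F) (Coh.structureModule X) x
      (RefHull.stalkMapₗ (RefHull.bidualMap F) x v) = RefHull.bidualAt F x v := by
  obtain ⟨U, hx, s, rfl⟩ := TopCat.Presheaf.exists_germ_eq F.presheaf v
  rw [RefHull.stalkMapₗ_germ, RefHull.evalStalk_germ]
  exact RefHull.bidualMap_app_apply F s ⟨x, hx⟩

/-- **the stalk at `x` is reflexive iff the biduality map is bijective on the stalks at `x`** -/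
theorem isReflexiveAt_iff
    (hF : SheafOfModules.IsFinitePresentation (R := X.ringCatSheaf) F)
    (hD : SheafOfModules.IsFinitePresentation (R := X.ringCatSheaf) (RefHull.dual F)) (x : X) :
    RefHull.IsReflexiveAt F x ↔
      Function.Bijective (RefHull.stalkMapₗ (RefHull.bidualMap F) x) := by
  haveI := hF
  haveI := hD
  have hE1 : Function.Bijective (RefHull.evalStalk F (Coh.structureModule X) x) :=
    ⟨Groth.Agent.Lead.HomSh.evalStalk_injective_of_isFT F _ inferInstance x,
      Groth.Agent.Lead.HomShB.evalStalk_surjective F _ hF x⟩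
  have hE2 : Function.Bijective
      (RefHull.evalStalk (RefHull.dual F) (Coh.structureModule X) x) :=
    ⟨Groth.Agent.Lead.HomSh.evalStalk_injective_of_isFT (RefHull.dual F) _ inferInstance x,
      Groth.Agent.Lead.HomShB.evalStalk_surjective (RefHull.dual F) _ hD x⟩
  have h1 := isReflexive_iff_of_pairing (Groth.Agent.Lead.Hartogs2.unitEquiv x)
    (RefHull.evalStalk F (Coh.structureModule X) x) hE1 (RefHull.bidualAt F x) (fun v θ => rfl)
  unfold RefHull.IsReflexiveAt
  rw [← h1]
  have h2 : (RefHull.bidualAt F x : F.presheaf.stalk x → _) =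
      (RefHull.evalStalk (RefHull.dual F) (Coh.structureModule X) x) ∘
        (RefHull.stalkMapₗ (RefHull.bidualMap F) x) :=
    funext fun v => (evalStalk_stalkMap_bidualMap F x v).symm
  rw [h2]
  exact Function.Bijective.of_comp_iff' hE2 _

end Groth.Agent.Lead.HomShF
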