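import Mathlib
import Groth.Prelude.Def_RefHull
import Groth.Agent.Lead.HomShB
import Groth.Agent.Lead.HomSh2

/-!
# The locus where a morphism of finitely presented modules is bijective on stalks is open
-/

set_option autoImplicit false
set_option linter.style.haveILetI false
set_option linter.unusedSectionVars false

universe u

open CategoryTheory CategoryTheory.Limits AlgebraicGeometry TopologicalSpace Opposite

namespace Groth.Agent.Lead.HomShG

variable {X : Scheme.{u}} {F G : X.Modules}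

/-- a morphism followed by a section of the sheaf Hom -/
noncomputable def compLeft (φ : F ⟶ G) {H : X.Modules} {V : X.Opens} (t : Γ(RefHull.homSh G H, V)) :
    Γ(RefHull.homSh F H, V) :=
  ⟨fun y => (t.1 y).comp (RefHull.stalkMapₗ φ y.1), fun W i m x => by
    obtain ⟨W', hx, j, n, h⟩ := RefHull.isLocSect_of_mem t W i (φ.app W m) x
    refine ⟨W', hx, j, n, fun y => ?_⟩
    rw [LinearMap.comp_apply, RefHull.stalkMapₗ_germ]
    exact h y⟩

theorem compLeft_apply (φ : F ⟶ G) {H : X.Modules} {V : X.Opens} (t : Γ(RefHull.homSh G H, V))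
    (y : V) : (compLeft φ t).1 y = (t.1 y).comp (RefHull.stalkMapₗ φ y.1) := rfl

/-- a section of the sheaf Hom followed by a morphism -/
noncomputable def compRight {H : X.Modules} {V : X.Opens} (t : Γ(RefHull.homSh H F, V)) (φ : F ⟶ G) :
    Γ(RefHull.homSh H G, V) :=
  ⟨fun y => (RefHull.stalkMapₗ φ y.1).comp (t.1 y), fun W i m x => by
    obtain ⟨W', hx, j, n, h⟩ := RefHull.isLocSect_of_mem t W i m x
    refine ⟨W', hx, j, φ.app W' n, fun y => ?_⟩
    rw [LinearMap.comp_apply, h y, RefHull.stalkMapₗ_germ]⟩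

theorem compRight_apply {H : X.Modules} {V : X.Opens} (t : Γ(RefHull.homSh H F, V)) (φ : F ⟶ G)
    (y : V) : (compRight t φ).1 y = (RefHull.stalkMapₗ φ y.1).comp (t.1 y) := rfl

theorem stalkMapₗ_id (F : X.Modules) (x : X) (v : F.presheaf.stalk x) :
    RefHull.stalkMapₗ (𝟙 F) x v = v := by
  obtain ⟨U, hx, s, rfl⟩ := TopCat.Presheaf.exists_germ_eq F.presheaf v
  rw [RefHull.stalkMapₗ_germ]
  rfl

/-- **the bijective locus of a morphism of finitely presented modules is open** -/
theorem isOpen_bijective (φ : F ⟶ G)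
    (hF : SheafOfModules.IsFiniteType (R := X.ringCatSheaf) F)
    (hG : SheafOfModules.IsFinitePresentation (R := X.ringCatSheaf) G) :
    IsOpen {x : X | Function.Bijective (RefHull.stalkMapₗ φ x)} := by
  haveI := hG
  have hGft : SheafOfModules.IsFiniteType (R := X.ringCatSheaf) G := inferInstance
  rw [isOpen_iff_forall_mem_open]
  intro x hx
  let e := LinearEquiv.ofBijective (RefHull.stalkMapₗ φ x) hx
  obtain ⟨θ, hθ⟩ := HomShB.evalStalk_surjective G F hG x (e.symm : _ →ₗ[X.presheaf.stalk x] _)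
  obtain ⟨V, hxV, t, rfl⟩ := TopCat.Presheaf.exists_germ_eq (RefHull.homSh G F).presheaf θ
  rw [RefHull.evalStalk_germ] at hθ
  -- left inverse near `x`
  have ha : (RefHull.homSh F F).presheaf.germ V x hxV (compLeft φ t) =
      (RefHull.homSh F F).presheaf.germ V x hxV (RefHull.ofHom (𝟙 F) V) := by
    apply HomSh.evalStalk_injective_of_isFT F F hF x
    rw [RefHull.evalStalk_germ, RefHull.evalStalk_germ, compLeft_apply, hθ]
    ext v
    rw [LinearMap.comp_apply, RefHull.ofHom_apply, stalkMapₗ_id]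
    exact e.symm_apply_apply v
  obtain ⟨W1, hxW1, i1, i1', h1⟩ := TopCat.Presheaf.germ_eq _ x hxV hxV _ _ ha
  have hb : (RefHull.homSh G G).presheaf.germ V x hxV (compRight t φ) =
      (RefHull.homSh G G).presheaf.germ V x hxV (RefHull.ofHom (𝟙 G) V) := by
    apply HomSh.evalStalk_injective_of_isFT G G hGft x
    rw [RefHull.evalStalk_germ, RefHull.evalStalk_germ, compRight_apply, hθ]
    ext v
    rw [LinearMap.comp_apply, RefHull.ofHom_apply, stalkMapₗ_id]
    exact e.apply_symm_apply v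
  obtain ⟨W2, hxW2, i2, i2', h2⟩ := TopCat.Presheaf.germ_eq _ x hxV hxV _ _ hb
  refine ⟨W1 ⊓ W2, ?_, (W1 ⊓ W2).isOpen, ⟨hxW1, hxW2⟩⟩
  intro y hy
  have hyV : y ∈ V := i1.le hy.1
  have l : ∀ v, t.1 ⟨y, hyV⟩ (RefHull.stalkMapₗ φ y v) = v := by
    intro v
    have h := congrArg (fun s : Γ(RefHull.homSh F F, W1) => s.1 ⟨y, hy.1⟩ v) h1
    have h' : (compLeft φ t).1 ⟨y, hyV⟩ v = (RefHull.ofHom (𝟙 F) V).1 ⟨y, hyV⟩ v := h
    rw [compLeft_apply, LinearMap.comp_apply, RefHull.ofHom_apply, stalkMapₗ_id] at h'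
    exact h'
  have r : ∀ w, RefHull.stalkMapₗ φ y (t.1 ⟨y, hyV⟩ w) = w := by
    intro w
    have h := congrArg (fun s : Γ(RefHull.homSh G G, W2) => s.1 ⟨y, hy.2⟩ w) h2
    have h' : (compRight t φ).1 ⟨y, hyV⟩ w = (RefHull.ofHom (𝟙 G) V).1 ⟨y, hyV⟩ w := h
    rw [compRight_apply, LinearMap.comp_apply, RefHull.ofHom_apply, stalkMapₗ_id] at h'
    exact h'
  exact ⟨Function.LeftInverse.injective l, Function.RightInverse.surjective r⟩

end Groth.Agent.Lead.HomShG
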