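import Mathlib
import Groth.Prelude.Def_RefHull
import Groth.Agent.Lead.HomShE
import Groth.Agent.Lead.HomShF
import Groth.Agent.Lead.HomShG
import Groth.Agent.Helper4.QcohLocal
import Groth.Agent.Helper5.JacSch

/-!
# Reflexive coherent modules on a locally Noetherian scheme: the three characterizations
-/

set_option autoImplicit false
set_option linter.style.haveILetI false
set_option linter.unusedSectionVars false

universe u

open CategoryTheory CategoryTheory.Limits AlgebraicGeometry TopologicalSpace Opposite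

namespace Groth.Agent.Lead.HomShH

variable {X : Scheme.{u}}

theorem stalkMapₗ_comp {F G H : X.Modules} (φ : F ⟶ G) (ψ : G ⟶ H) (x : X)
    (v : F.presheaf.stalk x) :
    RefHull.stalkMapₗ (φ ≫ ψ) x v = RefHull.stalkMapₗ ψ x (RefHull.stalkMapₗ φ x v) := by
  obtain ⟨U, hx, s, rfl⟩ := TopCat.Presheaf.exists_germ_eq F.presheaf v
  rw [RefHull.stalkMapₗ_germ, RefHull.stalkMapₗ_germ, RefHull.stalkMapₗ_germ]
  rfl

theorem bijective_stalkMapₗ_of_isIso {F G : X.Modules} (φ : F ⟶ G) [IsIso φ] (x : X) :
    Function.Bijective (RefHull.stalkMapₗ φ x) := by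
  have l : ∀ v, RefHull.stalkMapₗ (inv φ) x (RefHull.stalkMapₗ φ x v) = v := by
    intro v
    rw [← stalkMapₗ_comp, IsIso.hom_inv_id]
    exact HomShG.stalkMapₗ_id F x v
  have r : ∀ w, RefHull.stalkMapₗ φ x (RefHull.stalkMapₗ (inv φ) x w) = w := by
    intro w
    rw [← stalkMapₗ_comp, IsIso.inv_hom_id]
    exact HomShG.stalkMapₗ_id G x w
  exact ⟨Function.LeftInverse.injective l, Function.RightInverse.surjective r⟩

theorem isCoh_unit (X : Scheme.{u}) : Coh.IsCoh (Coh.structureModule X) :=
  Groth.Agent.Lead.PerfLib.isCoh_of_isFinLocFree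
    Groth.Agent.Helper4.FinLocFree6.isFinLocFree_unit

/-- biduality map bijective on all stalks iff reflexive -/
theorem isReflexive_of_forall_bijective (F : X.Modules)
    (h : ∀ x : X, Function.Bijective (RefHull.stalkMapₗ (RefHull.bidualMap F) x)) :
    RefHull.IsReflexive F :=
  Groth.Agent.Helper4.QcohLocal.isIso_of_stalkLin_bijective (RefHull.bidualMap F) h

/-- **S16080** -/
theorem tfae [IsLocallyNoetherian X] (F : X.Modules) (hF : Coh.IsCoh F) :
    [RefHull.IsReflexive F, ∀ x : ↥X, RefHull.IsReflexiveAt F x,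
      ∀ x : ↥X, IsClosed ({x} : Set ↥X) → RefHull.IsReflexiveAt F x].TFAE := by
  have hFP := Groth.Agent.Helper4.CohFP.isFP_of_isCoh F hF.1 hF.2
  have hO := isCoh_unit X
  have hD : Coh.IsCoh (RefHull.dual F) := HomShE.isCoh_homSh F _ hF hO
  have hDFP := HomShE.isFP_homSh F _ hF hO
  have hDD := HomShE.isFP_homSh (RefHull.dual F) _ hD hO
  have key := fun x => HomShF.isReflexiveAt_iff F hFP hDFP x
  tfae_have 1 → 2 := by
    intro h x
    haveI : IsIso (RefHull.bidualMap F) := h
    rw [key]
    exact bijective_stalkMapₗ_of_isIso _ x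
  tfae_have 2 → 3 := fun h x _ => h x
  tfae_have 3 → 1 := by
    intro h
    have hopen := HomShG.isOpen_bijective (RefHull.bidualMap F) hF.2 hDD
    apply isReflexive_of_forall_bijective
    by_contra hcon
    push Not at hcon
    obtain ⟨x0, hx0⟩ := hcon
    obtain ⟨y, hyZ, hy⟩ := Groth.Agent.Helper5.Jac.exists_closedPoint_of_isClosed
      {x : X | Function.Bijective (RefHull.stalkMapₗ (RefHull.bidualMap F) x)}ᶜ
      (isClosed_compl_iff.mpr hopen) ⟨x0, hx0⟩
    exact hyZ ((key y).mp (h y hy))
  tfae_finish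

end Groth.Agent.Lead.HomShH
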