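import Mathlib

/-!
# Reflexive modules over a domain: kernels of maps into torsion-free modules, and Hom
-/

set_option autoImplicit false
set_option linter.style.haveILetI false
set_option linter.unusedSectionVars false

open TensorProduct

namespace Groth.Agent.Lead.ReflAlgA

variable (R : Type*) [CommRing R] [IsDomain R]

local notation "K" => FractionRing R

/-- clearing denominators of an `R`-linear map from a finite module into the fraction field -/
theorem exists_clear_denominators {B : Type*} [AddCommGroup B] [Module R B] [Module.Finite R B]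
    (Φ : B →ₗ[R] K) :
    ∃ (s : R) (_ : s ≠ 0) (φ : B →ₗ[R] R), ∀ b, algebraMap R K (φ b) = s • Φ b := by
  obtain ⟨n, g, hg⟩ := Module.Finite.exists_fin (R := R) (M := B)
  obtain ⟨s, hs⟩ := IsLocalization.exist_integer_multiples_of_finite (nonZeroDivisors R)
    (fun i => Φ (g i))
  have hs0 : (s : R) ≠ 0 := nonZeroDivisors.ne_zero s.2
  let Ψ : B →ₗ[R] K := (s : R) • Φ
  have hle : LinearMap.range Ψ ≤ LinearMap.range (Algebra.linearMap R K) := by
    rw [LinearMap.range_eq_map, ← hg, Submodule.map_span_le]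
    rintro _ ⟨i, rfl⟩
    obtain ⟨a, ha⟩ := hs i
    exact ⟨a, ha⟩
  have hinj : Function.Injective (Algebra.linearMap R K) :=
    IsFractionRing.injective R K
  let e := LinearEquiv.ofInjective (Algebra.linearMap R K) hinj
  let φ : B →ₗ[R] R := e.symm.toLinearMap ∘ₗ
    (Ψ.codRestrict (LinearMap.range (Algebra.linearMap R K)) (fun b => hle ⟨b, rfl⟩))
  refine ⟨s, hs0, φ, fun b => ?_⟩
  have h1 : (e (φ b) : K) = Ψ b := by
    change (e (e.symm _) : K) = _
    rw [LinearEquiv.apply_symm_apply]
    rfl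
  exact h1

/-- a nonzero element of a finite torsion-free module is detected by a linear form -/
theorem exists_dual_ne_zero {Q : Type*} [AddCommGroup Q] [Module R Q] [Module.Finite R Q]
    (htf : ∀ (r : R) (q : Q), r ≠ 0 → r • q = 0 → q = 0) (q : Q) (hq : q ≠ 0) :
    ∃ ψ : Q →ₗ[R] R, ψ q ≠ 0 := by
  haveI : IsLocalizedModule (nonZeroDivisors R) (TensorProduct.mk R K Q 1) :=
    (isLocalizedModule_iff_isBaseChange (nonZeroDivisors R) K _).mpr
      (TensorProduct.isBaseChange R Q K)
  have h1 : (TensorProduct.mk R K Q 1) q ≠ 0 := by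
    intro h
    rw [IsLocalizedModule.eq_zero_iff (nonZeroDivisors R)] at h
    obtain ⟨c, hc⟩ := h
    exact hq (htf c q (nonZeroDivisors.ne_zero c.2) hc)
  obtain ⟨f, hf⟩ := Module.Projective.exists_dual_ne_zero K h1
  let Φ : Q →ₗ[R] K := (f.restrictScalars R) ∘ₗ (TensorProduct.mk R K Q 1)
  obtain ⟨s, hs0, ψ, hψ⟩ := exists_clear_denominators R Φ
  refine ⟨ψ, fun h => ?_⟩
  have h2 := hψ q
  rw [h, map_zero] at h2
  have h3 : s • Φ q = 0 := h2.symm
  rw [Algebra.smul_def, mul_eq_zero] at h3
  rcases h3 with h3 | h3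
  · exact hs0 ((IsFractionRing.injective R K) (h3.trans (map_zero _).symm))
  · exact hf h3

/-- a linear form on a submodule of a finite module extends after multiplication by a nonzero
scalar -/
theorem exists_extend_smul {A B : Type*} [AddCommGroup A] [Module R A] [AddCommGroup B]
    [Module R B] [Module.Finite R B] (i : A →ₗ[R] B) (hi : Function.Injective i)
    (φ : A →ₗ[R] R) :
    ∃ (r : R) (_ : r ≠ 0) (φ' : B →ₗ[R] R), φ' ∘ₗ i = r • φ := by
  have hinj : Function.Injective (i.baseChange K) := by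
    have h := Module.Flat.lTensor_preserves_injective_linearMap (M := K) i hi
    intro x y hxy
    apply h
    simpa [LinearMap.baseChange_eq_ltensor] using hxy
  obtain ⟨g, hg⟩ := (i.baseChange K).exists_leftInverse_of_injective
    (LinearMap.ker_eq_bot.mpr hinj)
  let Φ₀ : K ⊗[R] A →ₗ[K] K :=
    (TensorProduct.AlgebraTensorModule.rid R K K).toLinearMap ∘ₗ (φ.baseChange K)
  let Φ : B →ₗ[R] K := ((Φ₀ ∘ₗ g).restrictScalars R) ∘ₗ (TensorProduct.mk R K B 1)
  have hΦ : ∀ a, Φ (i a) = algebraMap R K (φ a) := by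
    intro a
    change Φ₀ (g ((1 : K) ⊗ₜ[R] i a)) = _
    have h1 : (1 : K) ⊗ₜ[R] i a = i.baseChange K ((1 : K) ⊗ₜ[R] a) := by
      rw [LinearMap.baseChange_tmul]
    rw [h1]
    have h2 : g (i.baseChange K ((1 : K) ⊗ₜ[R] a)) = (1 : K) ⊗ₜ[R] a :=
      congrArg (fun l => l ((1 : K) ⊗ₜ[R] a)) hg
    rw [h2]
    change (TensorProduct.AlgebraTensorModule.rid R K K) (φ.baseChange K ((1 : K) ⊗ₜ[R] a)) = _
    rw [LinearMap.baseChange_tmul, TensorProduct.AlgebraTensorModule.rid_tmul,
      Algebra.smul_def, mul_one]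
  obtain ⟨s, hs0, φ', hφ'⟩ := exists_clear_denominators R Φ
  refine ⟨s, hs0, φ', ?_⟩
  ext a
  apply IsFractionRing.injective R K
  rw [LinearMap.comp_apply, hφ', hΦ, LinearMap.smul_apply, smul_eq_mul, map_mul,
    Algebra.smul_def]

/-- **Stacks 15.23.5**: a submodule of a finite reflexive module with torsion-free quotient is
reflexive. -/
theorem isReflexive_of_injective {A B : Type*} [AddCommGroup A] [Module R A] [AddCommGroup B]
    [Module R B] [Module.Finite R B] [Module.IsReflexive R B]
    (i : A →ₗ[R] B) (hi : Function.Injective i)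
    (htf : ∀ (r : R) (b : B), r ≠ 0 → r • b ∈ LinearMap.range i → b ∈ LinearMap.range i) :
    Module.IsReflexive R A := by
  refine ⟨⟨?_, ?_⟩⟩
  · -- injective
    rw [← LinearMap.ker_eq_bot, eq_bot_iff]
    intro a ha
    rw [LinearMap.mem_ker] at ha
    rw [Submodule.mem_bot]
    apply hi
    rw [map_zero]
    apply (Module.bijective_dual_eval R B).injective
    rw [map_zero]
    ext φ'
    rw [Module.Dual.eval_apply, LinearMap.zero_apply]
    have h := congrArg (fun ξ : Module.Dual R (Module.Dual R A) => ξ (φ' ∘ₗ i)) ha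
    exact h
  · -- surjective
    intro ξ
    let ξ' : Module.Dual R (Module.Dual R B) := ξ ∘ₗ (Module.Dual.transpose (R := R) i)
    obtain ⟨b, hb⟩ := (Module.bijective_dual_eval R B).surjective ξ'
    have hb' : ∀ φ' : B →ₗ[R] R, φ' b = ξ (φ' ∘ₗ i) := fun φ' =>
      congrArg (fun ζ : Module.Dual R (Module.Dual R B) => ζ φ') hb
    -- `b` lies in the range of `i`
    have hbr : b ∈ LinearMap.range i := by
      by_contra hcon
      have hq : (LinearMap.range i).mkQ b ≠ 0 := by
        rwa [Ne, Submodule.mkQ_apply, Submodule.Quotient.mk_eq_zero]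
      have htfQ : ∀ (r : R) (q : B ⧸ LinearMap.range i), r ≠ 0 → r • q = 0 → q = 0 := by
        intro r q hr hrq
        obtain ⟨b', rfl⟩ := Submodule.Quotient.mk_surjective _ q
        rw [← Submodule.Quotient.mk_smul, Submodule.Quotient.mk_eq_zero] at hrq
        rw [Submodule.Quotient.mk_eq_zero]
        exact htf r b' hr hrq
      obtain ⟨ψ, hψ⟩ := exists_dual_ne_zero R htfQ _ hq
      apply hψ
      have h0 : (ψ ∘ₗ (LinearMap.range i).mkQ) ∘ₗ i = 0 := by
        ext a
        change ψ ((LinearMap.range i).mkQ (i a)) = 0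
        rw [Submodule.mkQ_apply, (Submodule.Quotient.mk_eq_zero (LinearMap.range i)).mpr (LinearMap.mem_range_self i a), map_zero]
      have h1 := hb' (ψ ∘ₗ (LinearMap.range i).mkQ)
      rw [h0, map_zero] at h1
      exact h1
    obtain ⟨a, rfl⟩ := hbr
    refine ⟨a, ?_⟩
    ext φ
    rw [Module.Dual.eval_apply]
    obtain ⟨r, hr, φ', hφ'⟩ := exists_extend_smul R i hi φ
    have h1 := hb' φ'
    rw [hφ', map_smul] at h1
    have h2 : φ' (i a) = r • φ a := congrArg (fun l => l a) hφ'
    rw [h2, smul_eq_mul, smul_eq_mul] at h1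
    exact (mul_left_cancel₀ hr h1)

end Groth.Agent.Lead.ReflAlgA
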