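import Mathlib
import Groth.Agent.Lead.ReflAlgA

/-!
# `Hom(M, N)` is reflexive when `N` is (finite modules over a domain)
-/

set_option autoImplicit false
set_option linter.style.haveILetI false
set_option linter.unusedSectionVars false

namespace Groth.Agent.Lead.ReflAlgB

theorem isReflexive_pi (R : Type*) [CommRing R] (N : Type*) [AddCommGroup N] [Module R N]
    [Module.IsReflexive R N] (n : ℕ) : Module.IsReflexive R (Fin n → N) := by
  induction n with
  | zero => infer_instance
  | succ n ih =>
    haveI := ih
    exact Module.equiv (Fin.consLinearEquiv R (fun _ : Fin (n + 1) => N))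

variable (R : Type*) [CommRing R] [IsDomain R]

/-- **Stacks 15.23.8** -/
theorem isReflexive_linearMap (M N : Type*) [AddCommGroup M] [Module R M] [AddCommGroup N]
    [Module R N] [Module.Finite R M] [Module.Finite R N] [Module.IsReflexive R N] :
    Module.IsReflexive R (M →ₗ[R] N) := by
  obtain ⟨n, p, hp⟩ := Module.Finite.exists_fin' R M
  let i : (M →ₗ[R] N) →ₗ[R] ((Fin n → R) →ₗ[R] N) := LinearMap.lcomp R N p
  haveI : Module.IsReflexive R (Fin n → N) := isReflexive_pi R N n
  haveI : Module.IsReflexive R ((Fin n → R) →ₗ[R] N) :=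
    Module.equiv (Module.piEquiv (Fin n) R N)
  haveI : Module.Finite R ((Fin n → R) →ₗ[R] N) :=
    Module.Finite.equiv (Module.piEquiv (Fin n) R N)
  apply ReflAlgA.isReflexive_of_injective R i
  · intro f g hfg
    ext m
    obtain ⟨c, rfl⟩ := hp m
    exact congrArg (fun l : (Fin n → R) →ₗ[R] N => l c) hfg
  · rintro r f hr ⟨g, hg⟩
    have hker : LinearMap.ker p ≤ LinearMap.ker f := by
      intro k hk
      rw [LinearMap.mem_ker] at hk ⊢
      have h1 : r • f k = 0 := by
        have h2 := congrArg (fun l : (Fin n → R) →ₗ[R] N => l k) hg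
        change g (p k) = r • f k at h2
        rw [← h2, hk, map_zero]
      exact (smul_eq_zero.mp h1).resolve_left hr
    refine ⟨(LinearMap.ker p).liftQ f hker ∘ₗ (p.quotKerEquivOfSurjective hp).symm.toLinearMap, ?_⟩
    apply LinearMap.ext
    intro c
    change (LinearMap.ker p).liftQ f hker ((p.quotKerEquivOfSurjective hp).symm (p c)) = f c
    have h3 : (p.quotKerEquivOfSurjective hp).symm (p c) = Submodule.Quotient.mk c := by
      rw [LinearEquiv.symm_apply_eq]
      rfl
    rw [h3, Submodule.liftQ_apply]

end Groth.Agent.Lead.ReflAlgB
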