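import Mathlib
import Groth.Prelude.Def_RefHull
import Groth.Agent.Lead.HomShH
import Groth.Agent.Lead.ReflAlgB
import Groth.Agent.Helper4.FinLocFree2

/-!
# The sheaf Hom into a reflexive coherent module is reflexive
-/

set_option autoImplicit false
set_option linter.style.haveILetI false
set_option linter.unusedSectionVars false

universe u

open CategoryTheory CategoryTheory.Limits AlgebraicGeometry TopologicalSpace Opposite

namespace Groth.Agent.Lead.HomShI

variable {X : Scheme.{u}}

/-- **S16081** -/
theorem isReflexive_homSh [IsIntegral X] [IsLocallyNoetherian X] (F G : X.Modules)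
    (hF : Coh.IsCoh F) (hG : Coh.IsCoh G) (hGr : RefHull.IsReflexive G) :
    RefHull.IsReflexive (RefHull.homSh F G) := by
  have hH : Coh.IsCoh (RefHull.homSh F G) := HomShE.isCoh_homSh F G hF hG
  have hFP := Groth.Agent.Helper4.CohFP.isFP_of_isCoh F hF.1 hF.2
  refine ((HomShH.tfae (RefHull.homSh F G) hH).out 1 0).mp ?_
  intro x
  have hGall : ∀ y : X, RefHull.IsReflexiveAt G y := ((HomShH.tfae G hG).out 0 1).mp hGr
  have hGx : RefHull.IsReflexiveAt G x := hGall x
  haveI : Module.IsReflexive (X.presheaf.stalk x) (G.presheaf.stalk x) := hGx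
  haveI := hF.1
  haveI := hG.1
  haveI : Module.Finite (X.presheaf.stalk x) (F.presheaf.stalk x) :=
    Groth.Agent.Helper4.FinLocFree2.finite_stalk F hF.2 x
  haveI : Module.Finite (X.presheaf.stalk x) (G.presheaf.stalk x) :=
    Groth.Agent.Helper4.FinLocFree2.finite_stalk G hG.2 x
  haveI := hFP
  have hE : Function.Bijective (RefHull.evalStalk F G x) :=
    ⟨Groth.Agent.Lead.HomSh.evalStalk_injective_of_isFT F G inferInstance x,
      Groth.Agent.Lead.HomShB.evalStalk_surjective F G hFP x⟩
  haveI : Module.IsReflexive (X.presheaf.stalk x)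
      (F.presheaf.stalk x →ₗ[X.presheaf.stalk x] G.presheaf.stalk x) :=
    ReflAlgB.isReflexive_linearMap (X.presheaf.stalk x) _ _
  exact Module.equiv (LinearEquiv.ofBijective (RefHull.evalStalk F G x) hE).symm

end Groth.Agent.Lead.HomShI
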