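import Mathlib
import Groth.Prelude.Def_RefHull
import Groth.Agent.Helper4.StalkDict
import Groth.Agent.Helper4.QcqsMod
import Groth.Agent.Lead.HomShA
import Groth.Agent.Lead.HomShC

/-!
# Extension of sections of the sheaf Hom across a closed subset, when sections of the target extend
-/

set_option autoImplicit false
set_option linter.style.haveILetI false
set_option linter.unusedSectionVars false

universe u

open CategoryTheory CategoryTheory.Limits AlgebraicGeometry TopologicalSpace Opposite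

namespace Groth.Agent.Lead.HomShJ

open Groth.Agent.Helper4.StalkDict Groth.Agent.Helper4.QcqsMod

variable {X : Scheme.{u}} (G N : X.Modules)

/-- sections of `N` over opens inside `U` are determined on `V` -/
def InjProp (U V : X.Opens) : Prop :=
  ∀ (W : X.Opens), W ≤ U → ∀ n : Γ(N, W),
    (∀ (z : X) (hz : z ∈ W), z ∈ V → N.presheaf.germ W z hz n = 0) → n = 0

/-- sections of `N` over `W ⊓ V` extend to `W`, for opens `W` inside `U` -/
def SurjProp (U V : X.Opens) : Prop :=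
  ∀ (W : X.Opens), W ≤ U → ∀ n' : Γ(N, W ⊓ V),
    ∃ n : Γ(N, W), N.presheaf.map (homOfLE (inf_le_left : W ⊓ V ≤ W)).op n = n'

variable {N}

theorem InjProp.mono {U U' V : X.Opens} (h : InjProp N U V) (hU : U' ≤ U) : InjProp N U' V :=
  fun W hW n hn => h W (hW.trans hU) n hn

theorem SurjProp.mono {U U' V : X.Opens} (h : SurjProp N U V) (hU : U' ≤ U) : SurjProp N U' V :=
  fun W hW n' => h W (hW.trans hU) n'

/-- sections of the sheaf Hom over `U` are determined on `V` -/
theorem eq_zero_of_eq_zero_on {U V : X.Opens} (hinj : InjProp N U V)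
    (t : Γ(RefHull.homSh G N, U))
    (h : ∀ (z : X) (hzU : z ∈ U), z ∈ V → t.1 ⟨z, hzU⟩ = 0) : t = 0 := by
  apply Subtype.ext
  funext y
  change t.1 y = 0
  apply LinearMap.ext
  intro v
  obtain ⟨W₀, hy, m, rfl⟩ := TopCat.Presheaf.exists_germ_eq G.presheaf v
  have hyW : y.1 ∈ W₀ ⊓ U := ⟨hy, y.2⟩
  let W : X.Opens := W₀ ⊓ U
  let m' : Γ(G, W) := G.presheaf.map (homOfLE (inf_le_left : W₀ ⊓ U ≤ W₀)).op m
  let t' : Γ(RefHull.homSh G N, W) :=
    (RefHull.homSh G N).presheaf.map (homOfLE (inf_le_right : W₀ ⊓ U ≤ U)).op t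
  have ht' : ∀ (z : X) (hz : z ∈ W), t'.1 ⟨z, hz⟩ = t.1 ⟨z, hz.2⟩ := fun z hz => rfl
  have hn : HomShC.toLin G N t' m' = 0 := by
    apply hinj W inf_le_right
    intro z hz hzV
    rw [HomShC.germ_toLin, ht', h z hz.2 hzV, LinearMap.zero_apply]
  have h1 := HomShC.germ_toLin G N t' m' y.1 hyW
  rw [hn, map_zero, ht'] at h1
  have h2 : G.presheaf.germ W y.1 hyW m' = G.presheaf.germ W₀ y.1 hy m :=
    germ_res G inf_le_left y.1 hyW m
  rw [h2] at h1
  rw [LinearMap.zero_apply]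
  exact h1.symm

theorem eq_of_eq_on {U V : X.Opens} (hinj : InjProp N U V)
    (t t' : Γ(RefHull.homSh G N, U))
    (h : ∀ (z : X) (hzU : z ∈ U), z ∈ V → t.1 ⟨z, hzU⟩ = t'.1 ⟨z, hzU⟩) : t = t' := by
  rw [← sub_eq_zero]
  apply eq_zero_of_eq_zero_on G hinj
  intro z hzU hzV
  have h1 : (t - t').1 ⟨z, hzU⟩ = t.1 ⟨z, hzU⟩ - t'.1 ⟨z, hzU⟩ := rfl
  rw [h1, h z hzU hzV, sub_self]

section ext

variable {U V : X.Opens} (hinj : InjProp N U V) (hsur : SurjProp N U V)
  (t : Γ(RefHull.homSh G N, V)) {W : X.Opens} (hWU : W ≤ U)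

include hinj hsur hWU in
/-- the unique extension to `W` of the image of a section of `G` under `t` -/
theorem existsUnique_ext (m : Γ(G, W)) :
    ∃! n : Γ(N, W), ∀ (z : X) (hzW : z ∈ W) (hzV : z ∈ V),
      N.presheaf.germ W z hzW n = t.1 ⟨z, hzV⟩ (G.presheaf.germ W z hzW m) := by
  let t' : Γ(RefHull.homSh G N, W ⊓ V) :=
    (RefHull.homSh G N).presheaf.map (homOfLE (inf_le_right : W ⊓ V ≤ V)).op t
  let m' : Γ(G, W ⊓ V) := G.presheaf.map (homOfLE (inf_le_left : W ⊓ V ≤ W)).op m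
  obtain ⟨n, hn⟩ := hsur W hWU (HomShC.toLin G N t' m')
  refine ⟨n, ?_, ?_⟩
  · intro z hzW hzV
    have hz : z ∈ W ⊓ V := ⟨hzW, hzV⟩
    have h1 : N.presheaf.germ W z hzW n =
        N.presheaf.germ (W ⊓ V) z hz (N.presheaf.map (homOfLE inf_le_left).op n) :=
      (germ_res N inf_le_left z hz n).symm
    rw [h1, hn, HomShC.germ_toLin]
    have h2 : G.presheaf.germ (W ⊓ V) z hz m' = G.presheaf.germ W z hzW m :=
      germ_res G inf_le_left z hz m
    rw [h2]
    rfl
  · intro n₂ hn₂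
    rw [← sub_eq_zero]
    apply hinj W hWU
    intro z hzW hzV
    rw [map_sub, hn₂ z hzW hzV, sub_eq_zero]
    have hz : z ∈ W ⊓ V := ⟨hzW, hzV⟩
    have h1 : N.presheaf.germ W z hzW n =
        N.presheaf.germ (W ⊓ V) z hz (N.presheaf.map (homOfLE inf_le_left).op n) :=
      (germ_res N inf_le_left z hz n).symm
    rw [h1, hn, HomShC.germ_toLin]
    have h2 : G.presheaf.germ (W ⊓ V) z hz m' = G.presheaf.germ W z hzW m :=
      germ_res G inf_le_left z hz m
    rw [h2]
    rfl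

/-- the extension map on sections -/
noncomputable def extFun (m : Γ(G, W)) : Γ(N, W) :=
  (existsUnique_ext G hinj hsur t hWU m).exists.choose

theorem extFun_spec (m : Γ(G, W)) (z : X) (hzW : z ∈ W) (hzV : z ∈ V) :
    N.presheaf.germ W z hzW (extFun G hinj hsur t hWU m) =
      t.1 ⟨z, hzV⟩ (G.presheaf.germ W z hzW m) :=
  (existsUnique_ext G hinj hsur t hWU m).exists.choose_spec z hzW hzV

theorem extFun_unique (m : Γ(G, W)) (n : Γ(N, W))
    (hn : ∀ (z : X) (hzW : z ∈ W) (hzV : z ∈ V),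
      N.presheaf.germ W z hzW n = t.1 ⟨z, hzV⟩ (G.presheaf.germ W z hzW m)) :
    n = extFun G hinj hsur t hWU m :=
  (existsUnique_ext G hinj hsur t hWU m).unique hn (extFun_spec G hinj hsur t hWU m)

/-- the extension map as an additive map -/
noncomputable def extAdd : Γ(G, W) →+ Γ(N, W) where
  toFun := extFun G hinj hsur t hWU
  map_zero' := by
    symm
    apply extFun_unique
    intro z hzW hzV
    rw [map_zero, map_zero, map_zero]
  map_add' a b := by
    symm
    apply extFun_unique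
    intro z hzW hzV
    rw [map_add, map_add, map_add, extFun_spec G hinj hsur t hWU a z hzW hzV,
      extFun_spec G hinj hsur t hWU b z hzW hzV]

theorem extAdd_smul (r : Γ(X, W)) (m : Γ(G, W)) :
    extAdd G hinj hsur t hWU (r • m) =
      X.presheaf.map (homOfLE (le_refl W)).op r • extAdd G hinj hsur t hWU m := by
  have h0 : X.presheaf.map (homOfLE (le_refl W)).op r = r := by
    have : (homOfLE (le_refl W)).op = 𝟙 (op W) := rfl
    rw [this, X.presheaf.map_id]
    rfl
  rw [h0]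
  symm
  refine extFun_unique G hinj hsur t hWU (r • m) _ (fun z hzW hzV => ?_)
  rw [germ_smul, germ_smul, LinearMap.map_smul]
  congr 1
  exact extFun_spec G hinj hsur t hWU m z hzW hzV

variable [G.IsQuasicoherent] (hW : IsAffineOpen W)

/-- the extension over an affine open inside `U` -/
noncomputable def extAff : Γ(RefHull.homSh G N, W) :=
  HomShA.ofLin hW G N (le_refl W) (extAdd G hinj hsur t hWU) (extAdd_smul G hinj hsur t hWU)

theorem extAff_apply (z : X) (hzW : z ∈ W) (hzV : z ∈ V) :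
    (extAff G hinj hsur t hWU hW).1 ⟨z, hzW⟩ = t.1 ⟨z, hzV⟩ := by
  apply HomShC.stalkHom_ext G N hW z hzW
  intro m
  have h1 := HomShA.ofLin_apply_germ hW G N (le_refl W) (extAdd G hinj hsur t hWU)
    (extAdd_smul G hinj hsur t hWU) ⟨z, hzW⟩ m
  refine h1.trans ?_
  exact extFun_spec G hinj hsur t hWU m z hzW hzV

end ext

/-- **extension of sections of the sheaf Hom** -/
theorem exists_extension [G.IsQuasicoherent] {U V : X.Opens} (hinj : InjProp N U V)
    (hsur : SurjProp N U V) (hVU : V ≤ U) (t : Γ(RefHull.homSh G N, V)) :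
    ∃ s : Γ(RefHull.homSh G N, U), ∀ (z : X) (hzV : z ∈ V), s.1 ⟨z, hVU hzV⟩ = t.1 ⟨z, hzV⟩ := by
  -- affine cover of `U`
  have hcov : ∀ y : U, ∃ W : X.Opens, IsAffineOpen W ∧ y.1 ∈ W ∧ W ≤ U := by
    intro y
    obtain ⟨_, ⟨W, hW : IsAffineOpen W, rfl⟩, hyW, hWU⟩ :=
      X.isBasis_affineOpens.exists_subset_of_mem_open y.2 U.isOpen
    exact ⟨W, hW, hyW, hWU⟩
  choose W hW hyW hWU using hcov
  let sf : ∀ y : U, Γ(RefHull.homSh G N, W y) := fun y =>
    extAff G hinj hsur t (hWU y) (hW y)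
  have hcompat : TopCat.Presheaf.IsCompatible (RefHull.homSh G N).presheaf W sf := by
    intro y y'
    apply eq_of_eq_on G (hinj.mono ((inf_le_left : W y ⊓ W y' ≤ W y).trans (hWU y)))
    intro z hz hzV
    change (sf y).1 ⟨z, hz.1⟩ = (sf y').1 ⟨z, hz.2⟩
    rw [extAff_apply G hinj hsur t (hWU y) (hW y) z hz.1 hzV,
      extAff_apply G hinj hsur t (hWU y') (hW y') z hz.2 hzV]
  have hcover : U ≤ iSup W := by
    intro y hy
    exact Opens.mem_iSup.mpr ⟨⟨y, hy⟩, hyW ⟨y, hy⟩⟩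
  obtain ⟨s, hs, -⟩ := TopCat.Sheaf.existsUnique_gluing'
    (⟨(RefHull.homSh G N).presheaf, (RefHull.homSh G N).isSheaf⟩ : TopCat.Sheaf Ab X)
    W U (fun y => homOfLE (hWU y)) hcover sf hcompat
  refine ⟨s, fun z hzV => ?_⟩
  have hzU : z ∈ U := hVU hzV
  have h1 := hs ⟨z, hzU⟩
  have h2 : (sf ⟨z, hzU⟩).1 ⟨z, hyW ⟨z, hzU⟩⟩ = s.1 ⟨z, hzU⟩ := by
    rw [← h1]
    rfl
  rw [← h2]
  exact extAff_apply G hinj hsur t (hWU ⟨z, hzU⟩) (hW ⟨z, hzU⟩) z (hyW ⟨z, hzU⟩) hzV

/-- **the sheaf Hom into a module with the extension property has the extension property** -/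
theorem bijective_res [G.IsQuasicoherent] {U V : X.Opens} (hinj : InjProp N U V)
    (hsur : SurjProp N U V) (hVU : V ≤ U) :
    Function.Bijective ((RefHull.homSh G N).presheaf.map (homOfLE hVU).op) := by
  constructor
  · rw [injective_iff_map_eq_zero]
    intro t ht
    apply eq_zero_of_eq_zero_on G hinj
    intro z hzU hzV
    have h1 : ((RefHull.homSh G N).presheaf.map (homOfLE hVU).op t).1 ⟨z, hzV⟩ = t.1 ⟨z, hzU⟩ := rfl
    rw [← h1, ht]
    rfl
  · intro t
    obtain ⟨s, hs⟩ := exists_extension G hinj hsur hVU t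
    refine ⟨s, ?_⟩
    apply Subtype.ext
    funext z
    exact hs z.1 z.2

end Groth.Agent.Lead.HomShJ
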