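import Mathlib
import Groth.Agent.Lead.Hartogs2
import Groth.Prelude.Def_CInt
import Groth.Prelude.Def_Pic
import Groth.Agent.Lead.ParaFLib

set_option autoImplicit false
universe u
open CategoryTheory CategoryTheory.Limits AlgebraicGeometry TopologicalSpace Opposite

namespace Groth.Agent.Lead.SchDense

section Algebra
open TensorProduct

/-- a finitely generated ideal with zero annihilator still has zero annihilator after a flat base
change -/
theorem flat_ann {R B : Type u} [CommRing R] [CommRing B] [Algebra R B] [Module.Flat R B]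
    (J : Ideal R) (hJ : J.FG) (hann : ∀ a : R, (∀ g ∈ J, g * a = 0) → a = 0)
    (b : B) (hb : ∀ g ∈ J, algebraMap R B g * b = 0) : b = 0 := by
  obtain ⟨k, r, hr⟩ := Submodule.fg_iff_exists_fin_generating_family.mp hJ
  let φ : R →ₗ[R] (Fin k → R) := LinearMap.pi (fun i => LinearMap.mulLeft R (r i))
  have hφa : ∀ a i, φ a i = r i * a := fun a i => rfl
  have hφ : Function.Injective φ := by
    rw [injective_iff_map_eq_zero]
    intro a ha
    apply hann
    intro g hg
    rw [← hr] at hg
    refine Submodule.span_induction ?_ ?_ ?_ ?_ hg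
    · rintro _ ⟨i, rfl⟩
      have := congrFun ha i
      rw [hφa] at this
      exact this
    · exact zero_mul a
    · intro x y _ _ hx hy
      rw [add_mul, hx, hy, add_zero]
    · intro c x _ hx
      rw [smul_eq_mul, mul_assoc, hx, mul_zero]
  have h1 := Module.Flat.lTensor_preserves_injective_linearMap (M := B) φ hφ
  have h2 : (φ.lTensor B) (b ⊗ₜ 1) = 0 := by
    rw [LinearMap.lTensor_tmul]
    apply (TensorProduct.piScalarRight R B B (Fin k)).injective
    rw [map_zero]
    ext i
    rw [TensorProduct.piScalarRight_apply, TensorProduct.piScalarRightHom_tmul]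
    change φ 1 i • b = 0
    rw [hφa, mul_one, Algebra.smul_def]
    exact hb (r i) (hr ▸ Submodule.subset_span ⟨i, rfl⟩)
  have h3 : (b ⊗ₜ[R] (1 : R)) = 0 := h1 (h2.trans (map_zero _).symm)
  have h4 := congrArg (TensorProduct.rid R B) h3
  rw [TensorProduct.rid_tmul, one_smul, map_zero] at h4
  exact h4

end Algebra

section Geometry
open Groth.Agent.Helper4.QcqsMod

theorem sectionO_ext {X : Scheme.{u}} (U : X.Opens) (s t : Γ(X, U))
    (h : ∀ (x : X) (hx : x ∈ U), X.presheaf.germ U x hx s = X.presheaf.germ U x hx t) : s = t :=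
  TopCat.Presheaf.section_ext X.sheaf U s t h

/-- flat preimages of schematically dense opens are schematically dense (locally Noetherian base) -/
theorem isSchematicallyDense_preimage {S A : Scheme.{u}} [IsLocallyNoetherian S] (f : A ⟶ S)
    [Flat f] (V : S.Opens) (hV : CInt.IsSchematicallyDense V) :
    CInt.IsSchematicallyDense (f ⁻¹ᵁ V) := by
  intro W'
  rw [injective_iff_map_eq_zero]
  intro c hc
  apply sectionO_ext
  intro x hx
  rw [map_zero]
  -- affine neighbourhoods
  obtain ⟨_, ⟨W, hW, rfl⟩, hfxW, -⟩ :=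
    S.isBasis_affineOpens.exists_subset_of_mem_open (Set.mem_univ (f x)) isOpen_univ
  have hxW' : x ∈ W' ⊓ f ⁻¹ᵁ W := ⟨hx, hfxW⟩
  obtain ⟨_, ⟨W'', hW'', rfl⟩, hxW'', hle⟩ :=
    A.isBasis_affineOpens.exists_subset_of_mem_open hxW' (W' ⊓ f ⁻¹ᵁ W).2
  have hle1 : W'' ≤ W' := fun y hy => (hle hy).1
  have hle2 : W'' ≤ f ⁻¹ᵁ W := fun y hy => (hle hy).2
  haveI : IsNoetherianRing Γ(S, W) := IsLocallyNoetherian.component_noetherian ⟨W, hW⟩
  let ρ := f.appLE W W'' hle2
  have hρ : ρ.hom.Flat := f.flat_appLE hW hW'' hle2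
  letI : Algebra Γ(S, W) Γ(A, W'') := ρ.hom.toAlgebra
  haveI : Module.Flat Γ(S, W) Γ(A, W'') := hρ
  let c'' : Γ(A, W'') := A.presheaf.map (homOfLE hle1).op c
  -- the annihilator of c'' in Γ(S, W)
  let J : Ideal Γ(S, W) := Ideal.comap ρ.hom (Ideal.span {c''}).annihilator
  have hJmem : ∀ g : Γ(S, W), g ∈ J ↔ ρ g * c'' = 0 := by
    intro g
    rw [Ideal.mem_comap, Submodule.mem_annihilator_span_singleton, smul_eq_mul]
  have hc'' : c'' = 0 := by
    apply flat_ann J (IsNoetherian.noetherian J)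
    · intro a ha
      apply hV W
      rw [map_zero]
      apply sectionO_ext
      intro y hy
      rw [map_zero, germ_resO]
      obtain ⟨g, hgV, hyg⟩ := hW.exists_basicOpen_le (V := V) ⟨y, hy.2⟩ hy.1
      -- c'' vanishes on the basic open of ρ g
      have hbo : A.basicOpen (ρ g) ≤ W' ⊓ f ⁻¹ᵁ V := by
        rw [Scheme.basicOpen_appLE]
        intro z hz
        exact ⟨hle1 hz.1, hgV hz.2⟩
      have hres : A.presheaf.map (homOfLE (A.basicOpen_le (ρ g))).op c'' = 0 := by
        have h1 : A.presheaf.map (homOfLE (A.basicOpen_le (ρ g))).op c'' =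
            A.presheaf.map (homOfLE hbo).op (A.presheaf.map (homOfLE inf_le_left).op c) := by
          simp only [c'']
          rw [← ConcreteCategory.comp_apply, ← ConcreteCategory.comp_apply, ← Functor.map_comp,
            ← Functor.map_comp]
          rfl
        rw [h1, hc, map_zero]
      obtain ⟨n, hn⟩ := exists_pow_mul_eq_zero_of_res_basicOpen_eq_zero_of_isAffineOpen A hW''
        c'' (ρ g) hres
      have hgJ : g ^ n ∈ J := by
        rw [hJmem, map_pow]
        exact hn
      have h2 := ha _ hgJ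
      have h3 := congrArg (S.presheaf.germ W y hy.1) h2
      rw [map_mul, map_pow, map_zero] at h3
      have hu : IsUnit (S.presheaf.germ W y hy.1 g) := (S.mem_basicOpen g y hy.1).mp hyg
      exact (hu.pow n).mul_right_eq_zero.mp h3
    · intro g hg
      exact (hJmem g).mp hg
  have e := germ_resO hle1 x hxW'' c
  rw [← e]
  change A.presheaf.germ W'' x hxW'' c'' = 0
  rw [hc'', map_zero]

end Geometry

section InjLocFree
open Groth.Agent.Helper4 Groth.Agent.Helper4.QcqsMod Groth.Agent.Helper4.StalkExact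
  Groth.Agent.Lead.ExtFree

variable {X : Scheme.{u}}

theorem inj_congr (E : X.Modules) {V₁ V₂ V₁' V₂' : X.Opens} (e1 : V₁ = V₁') (e2 : V₂ = V₂')
    (h : V₂ ≤ V₁) (h' : V₂' ≤ V₁') :
    Function.Injective (E.presheaf.map (homOfLE h).op) ↔
      Function.Injective (E.presheaf.map (homOfLE h').op) := by
  subst e1 e2
  rfl

theorem inj_congrO {V₁ V₂ V₁' V₂' : X.Opens} (e1 : V₁ = V₁') (e2 : V₂ = V₂')
    (h : V₂ ≤ V₁) (h' : V₂' ≤ V₁') :
    Function.Injective (X.presheaf.map (homOfLE h).op) ↔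
      Function.Injective (X.presheaf.map (homOfLE h').op) := by
  subst e1 e2
  rfl

theorem glue_injective (E : X.Modules) (U : X.Opens)
    (hloc : ∀ x : X, ∃ W : X.Opens, x ∈ W ∧ ∀ V : X.Opens, V ≤ W →
      Function.Injective (E.presheaf.map (homOfLE (inf_le_left : V ⊓ U ≤ V)).op))
    (V : X.Opens) : Function.Injective (E.presheaf.map (homOfLE (inf_le_left : V ⊓ U ≤ V)).op) := by
  choose W hxW hW using hloc
  intro s s' hss'
  apply section_ext
  intro x hx
  have hle : V ⊓ W x ≤ V := inf_le_left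
  have h1 : E.presheaf.map (homOfLE hle).op s = E.presheaf.map (homOfLE hle).op s' := by
    apply hW x (V ⊓ W x) inf_le_right
    rw [res_res, res_res]
    have hle2 : (V ⊓ W x) ⊓ U ≤ V ⊓ U := inf_le_inf_right U inf_le_left
    have := congrArg (E.presheaf.map (homOfLE hle2).op) hss'
    rw [res_res, res_res] at this
    exact this
  have h2 := congrArg (E.presheaf.germ (V ⊓ W x) x ⟨hx, hxW x⟩) h1
  rw [germ_res, germ_res] at h2
  exact h2

theorem inj_of_iso {E E' : X.Modules} (φ : E ≅ E') {V' V : X.Opens} (h : V' ≤ V)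
    (hb : Function.Injective (E'.presheaf.map (homOfLE h).op)) :
    Function.Injective (E.presheaf.map (homOfLE h).op) := by
  have hinv : ∀ (W : X.Opens) (s : Γ(E, W)),
      (Scheme.Modules.Hom.app φ.inv W) ((Scheme.Modules.Hom.app φ.hom W) s) = s := by
    intro W s
    have := congrArg (fun ψ : E ⟶ E => (Scheme.Modules.Hom.app ψ W) s) φ.hom_inv_id
    exact this
  intro s s' hss'
  have h1 : (Scheme.Modules.Hom.app φ.hom V) s = (Scheme.Modules.Hom.app φ.hom V) s' := by
    apply hb
    rw [← app_res φ.hom (homOfLE h) s, ← app_res φ.hom (homOfLE h) s', hss']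
  rw [← hinv V s, ← hinv V s', h1]

theorem inj_of_triv (E : X.Modules) (W : X.Opens)
    (φ : E.restrict W.ι ≅ Coh.structureModule (↑W)) {V' V : X.Opens} (h : V' ≤ V) (hVW : V ≤ W)
    (hb : Function.Injective (X.presheaf.map (homOfLE h).op)) :
    Function.Injective (E.presheaf.map (homOfLE h).op) := by
  have h₀ : W.ι ⁻¹ᵁ V' ≤ W.ι ⁻¹ᵁ V := fun x hx => h hx
  have e1 : W.ι ''ᵁ (W.ι ⁻¹ᵁ V) = V := by
    rw [Scheme.Hom.image_preimage_eq_opensRange_inf, Scheme.Opens.opensRange_ι]
    exact inf_eq_right.mpr hVW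
  have e2 : W.ι ''ᵁ (W.ι ⁻¹ᵁ V') = V' := by
    rw [Scheme.Hom.image_preimage_eq_opensRange_inf, Scheme.Opens.opensRange_ι]
    exact inf_eq_right.mpr (h.trans hVW)
  have hle : W.ι ''ᵁ (W.ι ⁻¹ᵁ V') ≤ W.ι ''ᵁ (W.ι ⁻¹ᵁ V) := Scheme.Hom.image_mono _ h₀
  have hbW : Function.Injective ((W : Scheme.{u}).presheaf.map (homOfLE h₀).op) := by
    have := (inj_congrO e1 e2 hle h).mpr hb
    exact this
  have hbF : Function.Injective ((Coh.structureModule (↑W)).presheaf.map (homOfLE h₀).op) := hbW
  have hbR := inj_of_iso φ h₀ hbF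
  have hbR' : Function.Injective (E.presheaf.map (homOfLE hle).op) := hbR
  exact (inj_congr E e1 e2 hle h).mp hbR'

/-- injectivity of restriction passes from `O_X` to invertible modules -/
theorem inj_of_isInvertible (L : X.Modules) (hL : PicF.IsInvertible L) (U : X.Opens)
    (h : ∀ V : X.Opens, Function.Injective (X.presheaf.map (homOfLE (inf_le_left : V ⊓ U ≤ V)).op))
    (V : X.Opens) : Function.Injective (L.presheaf.map (homOfLE (inf_le_left : V ⊓ U ≤ V)).op) := by
  apply glue_injective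
  intro x
  obtain ⟨W, hxW, ⟨φ⟩⟩ := hL x
  exact ⟨W, hxW, fun V hVW => inj_of_triv L W φ _ hVW (h V)⟩

end InjLocFree

section DepthFlat

/-- depth ≥ 2 ascends along flat local homomorphisms -/
theorem two_le_depth_of_flat {R B : Type u} [CommRing R] [CommRing B] [IsLocalRing R]
    [IsLocalRing B] [Algebra R B] [Module.Flat R B] [IsLocalHom (algebraMap R B)]
    (h : 2 ≤ LocCoh.depth R R) : 2 ≤ LocCoh.depth B B := by
  obtain ⟨rs, hreg, hmem, hlen⟩ := Groth.Agent.Helper9.DepthKer.exists_of_le_idealDepth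
    (IsLocalRing.maximalIdeal R) R 2 (by norm_num) (by exact_mod_cast h)
    (Groth.Agent.Helper9.DepthS2.max_smul_top_ne_top R)
  have hreg' : RingTheory.Sequence.IsWeaklyRegular B (rs.map (algebraMap R B)) := hreg.of_flat
  have hmem' : ∀ b ∈ rs.map (algebraMap R B), b ∈ IsLocalRing.maximalIdeal B := by
    intro b hb
    obtain ⟨r, hr, rfl⟩ := List.mem_map.mp hb
    have h1 := hmem r hr
    rw [IsLocalRing.mem_maximalIdeal, mem_nonunits_iff] at h1 ⊢
    intro hu
    exact h1 (isUnit_of_map_unit (algebraMap R B) r hu)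
  have h2 := Groth.Agent.Helper9.DepthKer.le_idealDepth_of (IsLocalRing.maximalIdeal B) B _
    hreg' hmem'
  rw [List.length_map] at h2
  have h3 : (2 : ℕ∞) ≤ (rs.length : ℕ∞) := by exact_mod_cast hlen
  exact h3.trans h2

end DepthFlat

section Main

/-- S14330 -/
theorem main {S A : Scheme.{u}} [IsLocallyNoetherian S]
    (f : A ⟶ S) [Smooth f] (L : A.Modules) (hL : PicF.IsInvertible L) (V : S.Opens) :
    (CInt.IsSchematicallyDense V →
      ∀ W : S.Opens, Function.Injective (L.val.map (homOfLE (inf_le_left : f ⁻¹ᵁ W ⊓ f ⁻¹ᵁ V ≤ f ⁻¹ᵁ W)).op)) ∧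
    ((∀ x : S, x ∉ V → 2 ≤ LocCoh.depth (S.presheaf.stalk x) (S.presheaf.stalk x)) →
      ∀ W : S.Opens, Function.Bijective (L.val.map (homOfLE (inf_le_left : f ⁻¹ᵁ W ⊓ f ⁻¹ᵁ V ≤ f ⁻¹ᵁ W)).op)) := by
  haveI : Flat f := inferInstance
  haveI : LocallyOfFiniteType f := inferInstance
  haveI : IsLocallyNoetherian A := LocallyOfFiniteType.isLocallyNoetherian f
  constructor
  · intro hV W
    have hd := isSchematicallyDense_preimage f V hV
    exact inj_of_isInvertible L hL (f ⁻¹ᵁ V) hd (f ⁻¹ᵁ W)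
  · intro hdepth W
    have hdepthA : ∀ a : A, a ∉ f ⁻¹ᵁ V →
        (2 : ℕ∞) ≤ LocCoh.depth (A.presheaf.stalk a) (A.presheaf.stalk a) := by
      intro a ha
      have h1 := hdepth (f a) ha
      letI : Algebra (S.presheaf.stalk (f a)) (A.presheaf.stalk a) :=
        (f.stalkMap a).hom.toAlgebra
      haveI : Module.Flat (S.presheaf.stalk (f a)) (A.presheaf.stalk a) :=
        (Flat.iff_flat_stalkMap f).mp inferInstance a
      haveI : IsLocalHom (algebraMap (S.presheaf.stalk (f a)) (A.presheaf.stalk a)) :=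
        inferInstanceAs (IsLocalHom (f.stalkMap a).hom)
      exact two_le_depth_of_flat h1
    have hb := Hartogs2.bijective_res (f ⁻¹ᵁ V) hdepthA
    exact ExtFree.bij_of_isFinLocFree L (ParaFLib.isFinLocFree_of_isInvertible L hL) (f ⁻¹ᵁ V) hb
      (f ⁻¹ᵁ W)

end Main

end Groth.Agent.Lead.SchDense
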