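import Mathlib
import Groth.Prelude.Def_RefHull
import Groth.Agent.Lead.HomShJ
import Groth.Agent.Lead.HomShD
import Groth.Agent.Lead.HomShH
import Groth.Agent.Lead.Hartogs2
import Groth.Agent.Lead.SchDense
import Groth.Agent.Lead.ExtFree
import Groth.Agent.Helper2.RegCM

/-!
# Reflexive coherent modules on a regular scheme are normal (sections extend across codimension two)
-/

set_option autoImplicit false
set_option linter.style.haveILetI false
set_option linter.unusedSectionVars false

universe u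

open CategoryTheory CategoryTheory.Limits AlgebraicGeometry TopologicalSpace Opposite

namespace Groth.Agent.Lead.HomShK

open Groth.Agent.Helper4.StalkDict Groth.Agent.Helper4.QcqsMod

theorem depth_two_of_regular (R : Type u) [CommRing R] [IsRegularLocalRing R]
    (h : (2 : WithBot ℕ∞) ≤ ringKrullDim R) : (2 : ℕ∞) ≤ LocCoh.depth R R := by
  have hCM : Module.supportDim R R = ((LocCoh.depth R R : ℕ∞) : WithBot ℕ∞) :=
    Groth.Agent.Helper2.RegCM.cm_of_isRegularLocalRing R
  rw [Module.supportDim_self_eq_ringKrullDim] at hCM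
  rw [hCM] at h
  exact WithBot.coe_le_coe.mp h

variable {X : Scheme.{u}}

/-- relative Hartogs for the structure sheaf -/
theorem hartogs_rel [IsLocallyNoetherian X] (U V : X.Opens)
    (hd : ∀ x : X, x ∈ U → x ∉ V →
      (2 : ℕ∞) ≤ LocCoh.depth (X.presheaf.stalk x) (X.presheaf.stalk x))
    (W : X.Opens) (hWU : W ≤ U) :
    Function.Bijective (X.presheaf.map (homOfLE (inf_le_left : W ⊓ V ≤ W)).op) := by
  let V' : (U : Scheme.{u}).Opens := U.ι ⁻¹ᵁ V
  have hdepth : ∀ x : (U : Scheme.{u}), x ∉ V' →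
      (2 : ℕ∞) ≤ LocCoh.depth ((U : Scheme.{u}).presheaf.stalk x)
        ((U : Scheme.{u}).presheaf.stalk x) := by
    intro x hx
    have h1 : (2 : ℕ∞) ≤ LocCoh.depth (X.presheaf.stalk (U.ι x)) (X.presheaf.stalk (U.ι x)) :=
      hd x.1 x.2 hx
    letI : Algebra (X.presheaf.stalk (U.ι x)) ((U : Scheme.{u}).presheaf.stalk x) :=
      (U.ι.stalkMap x).hom.toAlgebra
    haveI : Module.Flat (X.presheaf.stalk (U.ι x)) ((U : Scheme.{u}).presheaf.stalk x) :=
      (Flat.iff_flat_stalkMap U.ι).mp inferInstance x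
    haveI : IsLocalHom (algebraMap (X.presheaf.stalk (U.ι x))
        ((U : Scheme.{u}).presheaf.stalk x)) :=
      inferInstanceAs (IsLocalHom (U.ι.stalkMap x).hom)
    exact Groth.Agent.Lead.SchDense.two_le_depth_of_flat h1
  have h := Hartogs2.bijective_res (X := (U : Scheme.{u})) V' hdepth (U.ι ⁻¹ᵁ W)
  have e1 : U.ι ''ᵁ (U.ι ⁻¹ᵁ W) = W := by
    rw [Scheme.Hom.image_preimage_eq_opensRange_inf, Scheme.Opens.opensRange_ι]
    exact inf_eq_right.mpr hWU
  have e2 : U.ι ''ᵁ ((U.ι ⁻¹ᵁ W) ⊓ V') = W ⊓ V := by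
    have : (U.ι ⁻¹ᵁ W) ⊓ V' = U.ι ⁻¹ᵁ (W ⊓ V) := rfl
    rw [this, Scheme.Hom.image_preimage_eq_opensRange_inf, Scheme.Opens.opensRange_ι]
    exact inf_eq_right.mpr (inf_le_left.trans hWU)
  have h' : Function.Bijective (X.presheaf.map
      (homOfLE (Scheme.Hom.image_mono U.ι (inf_le_left : (U.ι ⁻¹ᵁ W) ⊓ V' ≤ U.ι ⁻¹ᵁ W))).op) := h
  exact (ExtFree.bij_congrO e1 e2 _ _).mp h'

theorem injProp_unit [IsLocallyNoetherian X] (U V : X.Opens)
    (hd : ∀ x : X, x ∈ U → x ∉ V →
      (2 : ℕ∞) ≤ LocCoh.depth (X.presheaf.stalk x) (X.presheaf.stalk x)) :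
    HomShJ.InjProp (Coh.structureModule X) U V := by
  intro W hWU n hn
  have hb := hartogs_rel U V hd W hWU
  have hb' : Function.Injective
      ((Coh.structureModule X).presheaf.map (homOfLE (inf_le_left : W ⊓ V ≤ W)).op) := hb.1
  apply hb'
  rw [map_zero]
  apply section_ext
  intro z hz
  rw [germ_res, map_zero]
  exact hn z hz.1 hz.2

theorem surjProp_unit [IsLocallyNoetherian X] (U V : X.Opens)
    (hd : ∀ x : X, x ∈ U → x ∉ V →
      (2 : ℕ∞) ≤ LocCoh.depth (X.presheaf.stalk x) (X.presheaf.stalk x)) :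
    HomShJ.SurjProp (Coh.structureModule X) U V := by
  intro W hWU n'
  have hb := hartogs_rel U V hd W hWU
  have hb' : Function.Surjective
      ((Coh.structureModule X).presheaf.map (homOfLE (inf_le_left : W ⊓ V ≤ W)).op) := hb.2
  exact hb' n'

/-- duals are normal -/
theorem bijective_res_dual [IsLocallyNoetherian X] (G : X.Modules) [G.IsQuasicoherent]
    (U V : X.Opens) (hVU : V ≤ U)
    (hd : ∀ x : X, x ∈ U → x ∉ V →
      (2 : ℕ∞) ≤ LocCoh.depth (X.presheaf.stalk x) (X.presheaf.stalk x)) :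
    Function.Bijective ((RefHull.dual G).presheaf.map (homOfLE hVU).op) :=
  HomShJ.bijective_res G (injProp_unit U V hd) (surjProp_unit U V hd) hVU

theorem app_bijective_of_isIso {F G : X.Modules} (φ : F ⟶ G) [IsIso φ] (U : X.Opens) :
    Function.Bijective (φ.app U) := by
  have l : ∀ v, (inv φ).app U (φ.app U v) = v := by
    intro v
    have h : (φ ≫ inv φ).app U v = v := by rw [IsIso.hom_inv_id]; rfl
    exact h
  have r : ∀ w, φ.app U ((inv φ).app U w) = w := by
    intro w
    have h : (inv φ ≫ φ).app U w = w := by rw [IsIso.inv_hom_id]; rfl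
    exact h
  exact ⟨Function.LeftInverse.injective l, Function.RightInverse.surjective r⟩

theorem app_res {F G : X.Modules} (φ : F ⟶ G) {U V : X.Opens} (hVU : V ≤ U) (s : Γ(F, U)) :
    G.presheaf.map (homOfLE hVU).op (φ.app U s) = φ.app V (F.presheaf.map (homOfLE hVU).op s) := by
  have nat := φ.mapPresheaf.naturality (homOfLE hVU).op
  exact (ConcreteCategory.congr_hom nat s).symm

/-- **a reflexive coherent module is normal, when the structure sheaf has depth two in codimension
two** -/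
theorem normal_of_isReflexive [IsLocallyNoetherian X] (F : X.Modules) (hF : Coh.IsCoh F)
    (hrefl : RefHull.IsReflexive F) (U V : X.Opens) (hVU : V ≤ U)
    (hd : ∀ x : X, x ∈ U → x ∉ V →
      (2 : ℕ∞) ≤ LocCoh.depth (X.presheaf.stalk x) (X.presheaf.stalk x)) :
    Function.Bijective (F.presheaf.map (homOfLE hVU).op) := by
  haveI : IsIso (RefHull.bidualMap F) := hrefl
  have hFP := Groth.Agent.Helper4.CohFP.isFP_of_isCoh F hF.1 hF.2
  haveI : (Coh.structureModule X).IsQuasicoherent := (HomShH.isCoh_unit X).1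
  haveI : (RefHull.dual F).IsQuasicoherent :=
    HomShD.isQuasicoherent_homSh F (Coh.structureModule X) hFP
  have hdd := bijective_res_dual (RefHull.dual F) U V hVU hd
  have hU := app_bijective_of_isIso (RefHull.bidualMap F) U
  have hV := app_bijective_of_isIso (RefHull.bidualMap F) V
  have hsq : ∀ s, (RefHull.ddual F).presheaf.map (homOfLE hVU).op ((RefHull.bidualMap F).app U s) =
      (RefHull.bidualMap F).app V (F.presheaf.map (homOfLE hVU).op s) :=
    fun s => app_res (RefHull.bidualMap F) hVU s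
  constructor
  · intro s s' hss'
    apply hU.1
    apply hdd.1
    rw [hsq, hsq, hss']
  · intro t
    obtain ⟨d, hd'⟩ := hdd.2 ((RefHull.bidualMap F).app V t)
    obtain ⟨s, rfl⟩ := hU.2 d
    refine ⟨s, hV.1 ?_⟩
    rw [← hsq, hd']

end Groth.Agent.Lead.HomShK
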