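import Mathlib
import Groth.Prelude.Def_FlatMod2
import Groth.Prelude.Def_Coh
import Groth.Agent.Lead.RegLocal
import Groth.Agent.Helper4.FinLocFree2
import Groth.Agent.Helper4.CohFP

/-!
# Regular schemes of dimension ≤ 1: torsion free coherent modules are locally free (S1688)
-/

set_option autoImplicit false
universe u
open CategoryTheory CategoryTheory.Limits AlgebraicGeometry TopologicalSpace

namespace Groth.Agent.Lead.RegDimOne

attribute [local instance] specializationOrder in
/-- The dimension of a scheme is the supremum of the codimensions of its points. -/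
theorem topologicalKrullDim_eq_iSup_coheight (X : Scheme.{u}) :
    topologicalKrullDim ↥X = ⨆ x : ↥X, ((Order.coheight x : ℕ∞) : WithBot ℕ∞) := by
  rw [topologicalKrullDim, Order.krullDim_eq_of_orderIso (irreducibleSetEquivPoints (α := ↥X)),
    Order.krullDim_eq_iSup_coheight]

theorem ringKrullDim_stalk_le_dim (X : Scheme.{u}) (x : ↥X) :
    ringKrullDim (X.presheaf.stalk x) ≤ topologicalKrullDim ↥X := by
  rw [ringKrullDim_stalk_eq_coheight, topologicalKrullDim_eq_iSup_coheight]
  exact le_iSup (fun x : ↥X => ((Order.coheight x : ℕ∞) : WithBot ℕ∞)) x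

/-- a regular local domain of dimension `≤ 1` is a principal ideal ring. -/
theorem isPrincipalIdealRing_of_regular_dim_le_one (R : Type u) [CommRing R] [IsRegularLocalRing R]
    [IsDomain R] (h : ringKrullDim R ≤ 1) : IsPrincipalIdealRing R := by
  have h1 := (IsRegularLocalRing.iff_finrank_cotangentSpace R).mp inferInstance
  have h2 : Module.finrank (IsLocalRing.ResidueField R) (IsLocalRing.CotangentSpace R) ≤ 1 := by
    have h3 : ((Module.finrank (IsLocalRing.ResidueField R) (IsLocalRing.CotangentSpace R) : ℕ) :
        WithBot ℕ∞) ≤ ((1 : ℕ) : WithBot ℕ∞) := by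
      rw [h1]
      exact_mod_cast h
    exact_mod_cast h3
  exact ((tfae_of_isNoetherianRing_of_isLocalRing_of_isDomain R).out 5 0).mp h2

theorem torsionFree_iff_isFinLocFree (X : Scheme.{u}) [IsIntegral X] [IsLocallyNoetherian X]
    (hreg : ∀ x : ↥X, IsRegularLocalRing (X.presheaf.stalk x))
    (hdim : topologicalKrullDim ↥X ≤ 1) (F : X.Modules) (hF : Coh.IsCoh F) :
    (∀ x : ↥X, NoZeroSMulDivisors (X.presheaf.stalk x) (F.presheaf.stalk x)) ↔
      FlatMod.IsFinLocFree F := by
  haveI : F.IsQuasicoherent := hF.1
  constructor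
  · intro h
    apply Groth.Agent.Helper4.FinLocFree2.isFinLocFree_of_fp_of_free_stalks F
      (Groth.Agent.Helper4.CohFP.isFP_of_isCoh F hF.1 hF.2)
    intro x
    haveI := hreg x
    haveI : IsPrincipalIdealRing (X.presheaf.stalk x) :=
      isPrincipalIdealRing_of_regular_dim_le_one _ ((ringKrullDim_stalk_le_dim X x).trans hdim)
    haveI := h x
    haveI := Groth.Agent.Helper4.FinLocFree2.finite_stalk F hF.2 x
    exact Module.free_of_finite_type_torsion_free'
  · intro h x
    haveI := Groth.Agent.Helper4.FinLocFree2.free_stalk_of_isFinLocFree F h x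
    haveI : Module.IsTorsionFree (X.presheaf.stalk x) (F.presheaf.stalk x) := inferInstance
    rw [noZeroSMulDivisors_iff_right_eq_zero_of_smul]
    intro r hr m hm
    exact Module.IsTorsionFree.isSMulRegular (isRegular_of_ne_zero hr) (by simpa using hm)

end Groth.Agent.Lead.RegDimOne
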