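import Mathlib
import Groth.Prelude.Def_RefHull
import Groth.Prelude.Def_TorSh
import Groth.Agent.Lead.HomShK
import Groth.Agent.Lead.RegDimOne
import Groth.Agent.Lead.RegLocal
import Groth.Agent.Helper4.FinLocFree2
import Groth.Agent.Helper4.AffineDict
import Groth.Agent.Helper4.QcohExt

/-!
# Reflexive = torsion-free and normal on regular schemes; kernels of maps to torsion-free modules
-/

set_option autoImplicit false
set_option linter.style.haveILetI false
set_option linter.unusedSectionVars false

universe u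

open CategoryTheory CategoryTheory.Limits AlgebraicGeometry TopologicalSpace Opposite

namespace Groth.Agent.Lead.HomShL

open Groth.Agent.Helper4.StalkDict Groth.Agent.Helper4.QcqsMod

variable {X : Scheme.{u}}

theorem isIso_of_app_bijective {F G : X.Modules} (φ : F ⟶ G)
    (h : ∀ U : X.Opens, Function.Bijective (φ.app U)) : IsIso φ := by
  suffices IsIso ((Scheme.Modules.toPresheaf X).map φ) from
    isIso_of_reflects_iso φ (Scheme.Modules.toPresheaf X)
  haveI : ∀ V, IsIso (((Scheme.Modules.toPresheaf X).map φ).app V) := by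
    intro V
    exact (ConcreteCategory.isIso_iff_bijective _).mpr (h V.unop)
  exact NatIso.isIso_of_isIso_app _

/-- a section of a torsion-free quasi-coherent module on an integral scheme vanishing on a nonempty
open subset vanishes -/
theorem eq_zero_of_torsionFree [IsIntegral X] (Q : X.Modules) [Q.IsQuasicoherent]
    (hQ : TorSh.IsTorsionFree Q) {U V : X.Opens} (hVU : V ≤ U) (hV : (V : Set X).Nonempty)
    (q : Γ(Q, U)) (hq : Q.presheaf.map (homOfLE hVU).op q = 0) : q = 0 := by
  apply section_ext
  intro y hy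
  rw [map_zero]
  obtain ⟨_, ⟨W, hW : IsAffineOpen W, rfl⟩, hyW, hWU⟩ :=
    X.isBasis_affineOpens.exists_subset_of_mem_open hy U.isOpen
  replace hyW : y ∈ W := hyW
  replace hWU : W ≤ U := hWU
  obtain ⟨z, hzW, hzV⟩ : ((W : Set X) ∩ (V : Set X)).Nonempty :=
    nonempty_preirreducible_inter W.isOpen V.isOpen ⟨y, hyW⟩ hV
  obtain ⟨f, hfle, hzf⟩ := hW.exists_basicOpen_le (⟨z, hzV⟩ : V) hzW
  let qW : Γ(Q, W) := Q.presheaf.map (homOfLE hWU).op q
  have h0 : Q.presheaf.map (homOfLE (X.basicOpen_le f)).op qW = 0 := by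
    apply section_ext
    intro w hw
    rw [map_zero, germ_res, germ_res]
    have h1 : Q.presheaf.germ U w (hVU (hfle hw)) q =
        Q.presheaf.germ V w (hfle hw) (Q.presheaf.map (homOfLE hVU).op q) :=
      (germ_res Q hVU w (hfle hw) q).symm
    rw [h1, hq, map_zero]
  obtain ⟨n, hn⟩ := exists_pow_smul_eq_zero hW Q f qW h0
  have h1 : X.presheaf.germ W y hyW (f ^ n) • Q.presheaf.germ W y hyW qW = 0 := by
    rw [← germ_smul, hn, map_zero]
  have hf0 : f ≠ 0 := by
    rintro rfl
    rw [Scheme.basicOpen_zero] at hzf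
    exact hzf
  have hg : X.presheaf.germ W y hyW (f ^ n) ≠ 0 := by
    intro h
    have h2 : f ^ n = 0 := by
      apply germ_injective_of_isIntegral X y hyW
      rw [h, map_zero]
    haveI : IsDomain Γ(X, W) := by
      haveI : Nonempty W := ⟨⟨y, hyW⟩⟩
      infer_instance
    exact hf0 (IsReduced.eq_zero f ⟨n, h2⟩)
  haveI := hQ y
  have h3 := (smul_eq_zero.mp h1).resolve_left hg
  rw [← germ_res Q hWU y hyW q]
  exact h3

/-- **torsion-free and normal implies reflexive on a regular scheme** -/
theorem isReflexive_of_torsionFree_normal [IsIntegral X] [IsLocallyNoetherian X]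
    (hreg : ∀ x : X, IsRegularLocalRing (X.presheaf.stalk x)) (F : X.Modules) (hF : Coh.IsCoh F)
    (htf : TorSh.IsTorsionFree F)
    (hnorm : ∀ (U V : X.Opens) (hVU : V ≤ U),
      (∀ x : X, x ∈ U → x ∉ V → (2 : WithBot ℕ∞) ≤ ringKrullDim (X.presheaf.stalk x)) →
        Function.Bijective (F.presheaf.map (homOfLE hVU).op)) :
    RefHull.IsReflexive F := by
  have hFP := Groth.Agent.Helper4.CohFP.isFP_of_isCoh F hF.1 hF.2
  have hO := HomShH.isCoh_unit X
  have hD : Coh.IsCoh (RefHull.dual F) := HomShE.isCoh_homSh F _ hF hO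
  have hDFP := HomShE.isFP_homSh F _ hF hO
  have hDD := HomShE.isFP_homSh (RefHull.dual F) _ hD hO
  have hopen := HomShG.isOpen_bijective (RefHull.bidualMap F) hF.2 hDD
  let W : X.Opens := ⟨{x | Function.Bijective (RefHull.stalkMapₗ (RefHull.bidualMap F) x)}, hopen⟩
  haveI := hF.1
  haveI := hD.1
  have hW2 : ∀ x : X, x ∉ W → (2 : WithBot ℕ∞) ≤ ringKrullDim (X.presheaf.stalk x) := by
    intro x hx
    by_contra hcon
    apply hx
    haveI := hreg x
    haveI : IsDomain (X.presheaf.stalk x) :=
      Groth.Agent.Lead.RegLocal.isDomain_of_isRegularLocalRing _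
    have h1 : ringKrullDim (X.presheaf.stalk x) ≤ 1 := by
      rw [not_le] at hcon
      have hne : ringKrullDim (X.presheaf.stalk x) ≠ ⊥ := ringKrullDim_ne_bot
      obtain ⟨e, he⟩ := WithBot.ne_bot_iff_exists.mp hne
      rw [← he] at hcon ⊢
      have h22 : (2 : WithBot ℕ∞) = ((2 : ℕ∞) : WithBot ℕ∞) := rfl
      have h11 : (1 : WithBot ℕ∞) = ((1 : ℕ∞) : WithBot ℕ∞) := rfl
      rw [h22, WithBot.coe_lt_coe] at hcon
      rw [h11, WithBot.coe_le_coe]
      cases e with
      | top => exact absurd hcon (by simp)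
      | coe k =>
        have h1 : k < 2 := by exact_mod_cast hcon
        have h2 : k ≤ 1 := by omega
        exact_mod_cast h2
    haveI : IsPrincipalIdealRing (X.presheaf.stalk x) :=
      Groth.Agent.Lead.RegDimOne.isPrincipalIdealRing_of_regular_dim_le_one _ h1
    haveI := htf x
    haveI : Module.Finite (X.presheaf.stalk x) (F.presheaf.stalk x) :=
      Groth.Agent.Helper4.FinLocFree2.finite_stalk F hF.2 x
    haveI : Module.Free (X.presheaf.stalk x) (F.presheaf.stalk x) :=
      Module.free_of_finite_type_torsion_free'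
    have hr : RefHull.IsReflexiveAt F x :=
      (inferInstance : Module.IsReflexive (X.presheaf.stalk x) (F.presheaf.stalk x))
    exact (HomShF.isReflexiveAt_iff F hFP hDFP x).mp hr
  have happ : ∀ U' : X.Opens, Function.Bijective ((RefHull.bidualMap F).app U') := by
    intro U'
    have hVU : U' ⊓ W ≤ U' := inf_le_left
    have h1 := hnorm U' (U' ⊓ W) hVU (fun x hxU hx => hW2 x (fun hxW => hx ⟨hxU, hxW⟩))
    have h2 := HomShK.bijective_res_dual (RefHull.dual F) U' (U' ⊓ W) hVU
      (fun x hxU hx => by
        haveI := hreg x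
        exact HomShK.depth_two_of_regular _ (hW2 x (fun hxW => hx ⟨hxU, hxW⟩)))
    have h3 : Function.Bijective ((RefHull.bidualMap F).app (U' ⊓ W)) :=
      TopCat.Presheaf.app_bijective_of_stalkFunctor_map_bijective
        (F := ⟨F.presheaf, F.isSheaf⟩)
        (G := ⟨(RefHull.ddual F).presheaf, (RefHull.ddual F).isSheaf⟩)
        ⟨(RefHull.bidualMap F).mapPresheaf⟩ (U' ⊓ W) (fun x hx => hx.2)
    have hsq : ∀ s, (RefHull.ddual F).presheaf.map (homOfLE hVU).op
        ((RefHull.bidualMap F).app U' s) =
        (RefHull.bidualMap F).app (U' ⊓ W) (F.presheaf.map (homOfLE hVU).op s) :=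
      fun s => HomShK.app_res (RefHull.bidualMap F) hVU s
    constructor
    · intro s s' hss'
      apply h1.1
      apply h3.1
      rw [← hsq, ← hsq, hss']
    · intro d
      obtain ⟨s₀, hs₀⟩ := h3.2 ((RefHull.ddual F).presheaf.map (homOfLE hVU).op d)
      obtain ⟨s, rfl⟩ := h1.2 s₀
      refine ⟨s, h2.1 ?_⟩
      rw [hsq, hs₀]
  exact isIso_of_app_bijective _ happ

/-- **S16489** -/
theorem reflexive_iff [IsIntegral X] [IsLocallyNoetherian X]
    (hreg : ∀ x : X, IsRegularLocalRing (X.presheaf.stalk x)) (F : X.Modules) (hF : Coh.IsCoh F) :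
    RefHull.IsReflexive F ↔
      TorSh.IsTorsionFree F ∧
      (∀ (U V : X.Opens) (hVU : V ≤ U), (∀ x : X, x ∈ U → x ∉ V →
          (2 : WithBot ℕ∞) ≤ ringKrullDim (X.presheaf.stalk x)) →
        Function.Bijective (F.presheaf.map (homOfLE hVU).op)) := by
  constructor
  · intro hrefl
    refine ⟨?_, ?_⟩
    · intro x
      have hall : ∀ y : X, RefHull.IsReflexiveAt F y := ((HomShH.tfae F hF).out 0 1).mp hrefl
      haveI : Module.IsReflexive (X.presheaf.stalk x) (F.presheaf.stalk x) := hall x
      infer_instance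
    · intro U V hVU hd
      exact HomShK.normal_of_isReflexive F hF hrefl U V hVU (fun x hxU hxV => by
        haveI := hreg x
        exact HomShK.depth_two_of_regular _ (hd x hxU hxV))
  · rintro ⟨htf, hnorm⟩
    exact isReflexive_of_torsionFree_normal hreg F hF htf hnorm

/-- **S16490** -/
theorem normal_of_sub [IsIntegral X] [IsLocallyNoetherian X]
    (hreg : ∀ x : X, IsRegularLocalRing (X.presheaf.stalk x)) (S : ShortComplex X.Modules)
    (hS : S.ShortExact) (hE : Coh.IsCoh S.X₂) (hQ : Coh.IsCoh S.X₃)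
    (hErefl : RefHull.IsReflexive S.X₂) (hQtf : TorSh.IsTorsionFree S.X₃)
    (U V : X.Opens) (hVU : V ≤ U)
    (hd : ∀ x : X, x ∈ U → x ∉ V → (2 : WithBot ℕ∞) ≤ ringKrullDim (X.presheaf.stalk x)) :
    Function.Bijective (S.X₁.presheaf.map (homOfLE hVU).op) := by
  haveI := hS.mono_f
  have hEn := HomShK.normal_of_isReflexive S.X₂ hE hErefl U V hVU (fun x hxU hxV => by
    haveI := hreg x
    exact HomShK.depth_two_of_regular _ (hd x hxU hxV))
  have hiU := Groth.Agent.Helper4.AffineDict.app_injective_of_mono S.f U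
  have hiV := Groth.Agent.Helper4.AffineDict.app_injective_of_mono S.f V
  constructor
  · intro s s' hss'
    apply hiU
    apply hEn.1
    rw [HomShK.app_res, HomShK.app_res, hss']
  · intro s
    obtain ⟨e, he⟩ := hEn.2 (S.f.app V s)
    -- the image of `e` in `Q(U)` vanishes
    by_cases hUe : (U : Set X) = ∅
    · -- `U` empty
      have hVe : V = U := le_antisymm hVU (by
        intro x hx
        have : x ∈ (U : Set X) := hx
        rw [hUe] at this
        exact absurd this (Set.notMem_empty x))
      subst hVe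
      exact ⟨s, by
        have : (homOfLE hVU).op = 𝟙 (op V) := rfl
        rw [this, S.X₁.presheaf.map_id]
        rfl⟩
    · have hUne : (U : Set X).Nonempty := Set.nonempty_iff_ne_empty.mpr hUe
      have hηU : genericPoint X ∈ U := by
        obtain ⟨y, hy⟩ := hUne
        exact (genericPoint_specializes y).mem_open U.isOpen hy
      have hηV : genericPoint X ∈ V := by
        by_contra hcon
        have h2 := hd _ hηU hcon
        have hf : IsField (X.presheaf.stalk (genericPoint X)) :=
          Field.toIsField X.functionField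
        rw [ringKrullDim_eq_zero_of_isField hf] at h2
        exact absurd h2 (by decide)
      haveI := hQ.1
      have hq : S.g.app U e = 0 := by
        apply eq_zero_of_torsionFree S.X₃ hQtf hVU ⟨_, hηV⟩
        rw [HomShK.app_res, he]
        have hz : (S.f ≫ S.g).app V s = 0 := by
          rw [S.zero]
          rfl
        exact hz
      -- exactness on sections
      obtain ⟨s', hs'⟩ : ∃ s' : Γ(S.X₁, U), S.f.app U s' = e :=
        Groth.Agent.Helper4.QcohExt.exists_of_app_g_eq_zero S hS e hq
      refine ⟨s', hiV ?_⟩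
      rw [← HomShK.app_res, hs', he]

end Groth.Agent.Lead.HomShL
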