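import Mathlib
import Groth.Prelude.Def_RefHull
import Groth.Agent.Lead.HomShK
import Groth.Agent.Lead.HomShL
import Groth.Agent.Lead.ReflAlgB
import Groth.Agent.Helper4.FinLocFree2

/-!
# Reflexive coherent modules extend uniquely across closed subsets of depth at least two
-/

set_option autoImplicit false
set_option linter.style.haveILetI false
set_option linter.unusedSectionVars false

universe u

open CategoryTheory CategoryTheory.Limits AlgebraicGeometry TopologicalSpace Opposite

namespace Groth.Agent.Lead.ReflExtA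

variable {X : Scheme.{u}}

/-- stalkwise reflexive coherent modules are reflexive -/
theorem isReflexive_of_stalks [IsLocallyNoetherian X] (F : X.Modules) (hF : Coh.IsCoh F)
    (h : ∀ x : X, Module.IsReflexive (X.presheaf.stalk x) (F.presheaf.stalk x)) :
    RefHull.IsReflexive F :=
  ((HomShH.tfae F hF).out 1 0).mp h

theorem stalks_of_isReflexive [IsLocallyNoetherian X] (F : X.Modules) (hF : Coh.IsCoh F)
    (h : RefHull.IsReflexive F) (x : X) :
    Module.IsReflexive (X.presheaf.stalk x) (F.presheaf.stalk x) := by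
  have hall : ∀ y : X, RefHull.IsReflexiveAt F y := ((HomShH.tfae F hF).out 0 1).mp h
  exact hall x

/-- **S1691 (a)** -/
theorem isIso_unit [IsLocallyNoetherian X] (U : X.Opens)
    (hU : ∀ x : X, x ∉ U →
      (2 : ℕ∞) ≤ LocCoh.depth (X.presheaf.stalk x) (X.presheaf.stalk x))
    (F : X.Modules) (hF : Coh.IsCoh F)
    (h : ∀ x : X, Module.IsReflexive (X.presheaf.stalk x) (F.presheaf.stalk x)) :
    IsIso ((Scheme.Modules.restrictAdjunction U.ι).unit.app F) := by
  have hrefl := isReflexive_of_stalks F hF h
  apply HomShL.isIso_of_app_bijective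
  intro W
  rw [Scheme.Modules.restrictAdjunction_unit_app_app]
  have e2 : U.ι ''ᵁ (U.ι ⁻¹ᵁ W) = W ⊓ U := by
    rw [Scheme.Hom.image_preimage_eq_opensRange_inf, Scheme.Opens.opensRange_ι, inf_comm]
  have hb := HomShK.normal_of_isReflexive F hF hrefl W (W ⊓ U) inf_le_left
    (fun x _ hx2 => hU x (fun hxU => hx2 ⟨‹x ∈ W›, hxU⟩))
  exact (ExtFree.bij_congr F rfl e2 _ _).mpr hb

/-- the dual of a coherent module is stalkwise reflexive on an integral locally Noetherian scheme -/
theorem isReflexive_stalk_dual [IsIntegral X] [IsLocallyNoetherian X] (G : X.Modules)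
    (hG : Coh.IsCoh G) (x : X) :
    Module.IsReflexive (X.presheaf.stalk x) ((RefHull.dual G).presheaf.stalk x) := by
  have hFP := Groth.Agent.Helper4.CohFP.isFP_of_isCoh G hG.1 hG.2
  haveI := hG.1
  haveI := hFP
  haveI : Module.Finite (X.presheaf.stalk x) (G.presheaf.stalk x) :=
    Groth.Agent.Helper4.FinLocFree2.finite_stalk G hG.2 x
  have hE : Function.Bijective (RefHull.evalStalk G (Coh.structureModule X) x) :=
    ⟨Groth.Agent.Lead.HomSh.evalStalk_injective_of_isFT G _ inferInstance x,
      Groth.Agent.Lead.HomShB.evalStalk_surjective G _ hFP x⟩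
  haveI : Module.IsReflexive (X.presheaf.stalk x) ((Coh.structureModule X).presheaf.stalk x) :=
    Module.equiv (Groth.Agent.Lead.Hartogs2.unitEquiv x)
  haveI : Module.Finite (X.presheaf.stalk x) ((Coh.structureModule X).presheaf.stalk x) :=
    Module.Finite.equiv (Groth.Agent.Lead.Hartogs2.unitEquiv x)
  haveI : Module.IsReflexive (X.presheaf.stalk x)
      (G.presheaf.stalk x →ₗ[X.presheaf.stalk x] (Coh.structureModule X).presheaf.stalk x) :=
    ReflAlgB.isReflexive_linearMap (X.presheaf.stalk x) _ _
  exact Module.equiv (LinearEquiv.ofBijective (RefHull.evalStalk G (Coh.structureModule X) x) hE).symm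

end Groth.Agent.Lead.ReflExtA
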