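import Mathlib

/-!
# Transfer of reflexivity and freeness along a semilinear bijection over a ring isomorphism
-/

set_option autoImplicit false
set_option linter.style.haveILetI false
set_option linter.unusedSectionVars false

namespace Groth.Agent.Lead.SemiReflA

variable {R R' M M' : Type*} [CommRing R] [CommRing R'] [AddCommGroup M] [Module R M]
  [AddCommGroup M'] [Module R' M']
  (σ : R ≃+* R') (e : M' ≃+ M) (hsl : ∀ (r : R) (m' : M'), e (σ r • m') = r • e m')

include hsl in
theorem symm_smul (r : R) (m : M) : e.symm (r • m) = σ r • e.symm m := by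
  apply e.injective
  rw [hsl, e.apply_symm_apply, e.apply_symm_apply]

/-- transport of linear forms -/
def dualMap (f : M →ₗ[R] R) : M' →ₗ[R'] R' where
  toFun m' := σ (f (e m'))
  map_add' a b := by rw [map_add, map_add, map_add]
  map_smul' r' m' := by
    obtain ⟨r, rfl⟩ := σ.surjective r'
    rw [hsl, map_smul, smul_eq_mul, map_mul, RingHom.id_apply, smul_eq_mul]

/-- inverse transport of linear forms -/
def dualMapInv (g : M' →ₗ[R'] R') : M →ₗ[R] R where
  toFun m := σ.symm (g (e.symm m))
  map_add' a b := by rw [map_add, map_add, map_add]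
  map_smul' r m := by
    rw [symm_smul σ e hsl, map_smul, smul_eq_mul, map_mul, RingEquiv.symm_apply_apply,
      RingHom.id_apply, smul_eq_mul]

/-- the induced additive equivalence of duals -/
def dualEquiv : (M' →ₗ[R'] R') ≃+ (M →ₗ[R] R) where
  toFun := dualMapInv σ e hsl
  invFun := dualMap σ e hsl
  left_inv g := by
    ext m'
    change σ (σ.symm (g (e.symm (e m')))) = g m'
    rw [RingEquiv.apply_symm_apply, e.symm_apply_apply]
  right_inv f := by
    ext m
    change σ.symm (σ (f (e (e.symm m)))) = f m
    rw [RingEquiv.symm_apply_apply, e.apply_symm_apply]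
  map_add' a b := by
    ext m
    change σ.symm ((a + b) (e.symm m)) = σ.symm (a (e.symm m)) + σ.symm (b (e.symm m))
    rw [LinearMap.add_apply, map_add]

theorem dualEquiv_apply (g : M' →ₗ[R'] R') (m : M) :
    dualEquiv σ e hsl g m = σ.symm (g (e.symm m)) := rfl

theorem dualEquiv_symm_apply (f : M →ₗ[R] R) (m' : M') :
    (dualEquiv σ e hsl).symm f m' = σ (f (e m')) := rfl

theorem dualEquiv_smul (r : R) (g : M' →ₗ[R'] R') :
    dualEquiv σ e hsl (σ r • g) = r • dualEquiv σ e hsl g := by
  ext m
  rw [dualEquiv_apply, LinearMap.smul_apply, LinearMap.smul_apply, dualEquiv_apply, smul_eq_mul,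
    map_mul, RingEquiv.symm_apply_apply, smul_eq_mul]

/-- the induced additive equivalence of double duals -/
def ddualEquiv : Module.Dual R' (Module.Dual R' M') ≃+ Module.Dual R (Module.Dual R M) :=
  dualEquiv σ (dualEquiv σ e hsl) (dualEquiv_smul σ e hsl)

theorem ddualEquiv_eval (m' : M') :
    ddualEquiv σ e hsl (Module.Dual.eval R' M' m') = Module.Dual.eval R M (e m') := by
  ext f
  change σ.symm ((Module.Dual.eval R' M' m') ((dualEquiv σ e hsl).symm f)) = f (e m')
  rw [Module.Dual.eval_apply, dualEquiv_symm_apply, RingEquiv.symm_apply_apply]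

include σ e hsl in
/-- **reflexivity transfers along a semilinear bijection** -/
theorem isReflexive_iff : Module.IsReflexive R' M' ↔ Module.IsReflexive R M := by
  have h : (Module.Dual.eval R M : M → _) =
      (ddualEquiv σ e hsl) ∘ (Module.Dual.eval R' M') ∘ e.symm := by
    funext m
    change _ = ddualEquiv σ e hsl (Module.Dual.eval R' M' (e.symm m))
    rw [ddualEquiv_eval, e.apply_symm_apply]
  constructor
  · intro h'
    refine ⟨?_⟩
    rw [h]
    exact (ddualEquiv σ e hsl).bijective.comp
      ((Module.bijective_dual_eval R' M').comp e.symm.bijective)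
  · intro h'
    have hb := Module.bijective_dual_eval R M
    rw [h] at hb
    have h1 := (Function.Bijective.of_comp_iff' (ddualEquiv σ e hsl).bijective _).mp hb
    exact ⟨(Function.Bijective.of_comp_iff _ e.symm.bijective).mp h1⟩

include σ e hsl in
/-- **freeness transfers along a semilinear bijection** -/
theorem free_of_free [Module.Free R' M'] : Module.Free R M := by
  let b' := Module.Free.chooseBasis R' M'
  let ι := Module.Free.ChooseBasisIndex R' M'
  let c : (ι →₀ R') ≃+ (ι →₀ R) := Finsupp.mapRange.addEquiv σ.symm.toAddEquiv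
  let l : M →ₗ[R] (ι →₀ R) :=
    { toFun := fun m => c (b'.repr (e.symm m))
      map_add' := fun a b => by rw [map_add, map_add, map_add]
      map_smul' := fun r m => by
        rw [symm_smul σ e hsl, map_smul, RingHom.id_apply]
        ext i
        change σ.symm ((σ r • b'.repr (e.symm m)) i) = r • σ.symm ((b'.repr (e.symm m)) i)
        rw [Finsupp.smul_apply, smul_eq_mul, map_mul, RingEquiv.symm_apply_apply, smul_eq_mul] }
  have hl : Function.Bijective l :=
    c.bijective.comp (b'.repr.bijective.comp e.symm.bijective)
  exact Module.Free.of_equiv (LinearEquiv.ofBijective l hl).symm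

end Groth.Agent.Lead.SemiReflA
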