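import Mathlib
import Groth.Prelude.Def_RefHull
import Groth.Prelude.Def_Pi1
import Groth.Agent.Lead.ReflExtA
import Groth.Agent.Lead.SemiReflA
import Groth.Agent.Lead.FlatLib1
import Groth.Agent.Helper5.NormDepth1
import Groth.Agent.Helper2.Depth

/-!
# Reflexive modules on normal schemes: tools
-/

set_option autoImplicit false
set_option linter.style.haveILetI false
set_option linter.unusedSectionVars false

universe u

open CategoryTheory CategoryTheory.Limits AlgebraicGeometry TopologicalSpace Opposite

namespace Groth.Agent.Lead.ReflExtB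

section Alg

variable (R : Type u) [CommRing R] [IsDomain R] [IsNoetherianRing R] [IsLocalRing R]
  [IsIntegrallyClosed R]

theorem isPrincipalIdealRing_of_normal_dim_le_one (h : ringKrullDim R ≤ 1) :
    IsPrincipalIdealRing R := by
  haveI : Ring.KrullDimLE 1 R := Ring.krullDimLE_iff.mpr (by exact_mod_cast h)
  have h4 : IsIntegrallyClosed R ∧
      ∀ P : Ideal R, P ≠ ⊥ → P.IsPrime → P = IsLocalRing.maximalIdeal R := by
    refine ⟨inferInstance, fun P hP hP' => ?_⟩
    have := Ring.krullDimLE_one_iff_of_noZeroDivisors.mp ‹Ring.KrullDimLE 1 R› P hP hP'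
    exact IsLocalRing.eq_maximalIdeal this
  exact ((tfae_of_isNoetherianRing_of_isLocalRing_of_isDomain R).out 3 0).mp h4

theorem depth_two_of_normal (h : (2 : WithBot ℕ∞) ≤ ringKrullDim R) :
    (2 : ℕ∞) ≤ LocCoh.depth R R := by
  have hnf : ¬ IsField R := fun hf => by
    rw [ringKrullDim_eq_zero_of_isField hf] at h
    exact absurd h (by decide)
  have h0 : LocCoh.depth R R ≠ 0 := by
    intro h0
    rw [Groth.Agent.Helper2.Depth.depth_eq_zero_iff] at h0
    obtain ⟨a, ham, ha0⟩ : ∃ a ∈ IsLocalRing.maximalIdeal R, a ≠ 0 := by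
      by_contra hcon
      push Not at hcon
      exact hnf (IsLocalRing.isField_iff_maximalIdeal_eq.mpr
        (eq_bot_iff.mpr fun a ha => hcon a ha))
    apply h0 a ham
    intro x y hxy
    exact mul_left_cancel₀ ha0 hxy
  have h1 : LocCoh.depth R R ≠ 1 := by
    intro h1
    haveI := Groth.Agent.Helper5.NormDepth.isDiscreteValuationRing_of_depth_one R h1
    have h2 := IsDiscreteValuationRing.ringKrullDim_eq_one R
    rw [h2] at h
    exact absurd h (by decide)
  cases hd : LocCoh.depth R R with
  | top => exact le_top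
  | coe n =>
    rw [hd] at h0 h1
    have h0' : n ≠ 0 := fun hn => h0 (by rw [hn]; rfl)
    have h1' : n ≠ 1 := fun hn => h1 (by rw [hn]; rfl)
    have : 2 ≤ n := by omega
    exact_mod_cast this

end Alg

open Groth.Agent.Lead.FlatLib

variable {X : Scheme.{u}}

section Restr

variable (U : X.Opens) (M : X.Modules) (z : U)

/-- the ring isomorphism of stalks for an open subscheme -/
noncomputable def σ : X.presheaf.stalk (U.ι z) ≃+* (U : Scheme.{u}).presheaf.stalk z :=
  (asIso (U.ι.stalkMap z)).commRingCatIsoToRingEquiv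

/-- the additive isomorphism of stalks of a restricted module -/
noncomputable def e : (M.restrict U.ι).presheaf.stalk z ≃+ M.presheaf.stalk (U.ι z) :=
  AddEquiv.ofBijective (rsHom U.ι M z) (rsHom_bijective U.ι M z)

theorem hsl (r : X.presheaf.stalk (U.ι z)) (m' : (M.restrict U.ι).presheaf.stalk z) :
    e U M z (σ U z r • m') = r • e U M z m' :=
  rsHom_smul U.ι M z r m'

theorem isReflexive_restrict_iff :
    Module.IsReflexive ((U : Scheme.{u}).presheaf.stalk z) ((M.restrict U.ι).presheaf.stalk z) ↔
      Module.IsReflexive (X.presheaf.stalk (U.ι z)) (M.presheaf.stalk (U.ι z)) :=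
  SemiReflA.isReflexive_iff (σ U z) (e U M z) (hsl U M z)

theorem free_of_free_restrict
    [Module.Free ((U : Scheme.{u}).presheaf.stalk z) ((M.restrict U.ι).presheaf.stalk z)] :
    Module.Free (X.presheaf.stalk (U.ι z)) (M.presheaf.stalk (U.ι z)) :=
  SemiReflA.free_of_free (σ U z) (e U M z) (hsl U M z)

theorem free_restrict_of_free
    [Module.Free (X.presheaf.stalk (U.ι z)) (M.presheaf.stalk (U.ι z))] :
    Module.Free ((U : Scheme.{u}).presheaf.stalk z) ((M.restrict U.ι).presheaf.stalk z) := by
  refine SemiReflA.free_of_free (σ U z).symm (e U M z).symm (fun r' m => ?_)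
  apply (e U M z).injective
  rw [AddEquiv.apply_symm_apply]
  have h := hsl U M z ((σ U z).symm r') ((e U M z).symm m)
  rw [RingEquiv.apply_symm_apply, AddEquiv.apply_symm_apply] at h
  exact h.symm

end Restr

/-- the restriction to `U` of a morphism which is bijective on the stalks at the points of `U` is
an isomorphism -/
theorem isIso_restrict_map (U : X.Opens) {F G : X.Modules} (φ : F ⟶ G)
    (h : ∀ x ∈ U, Function.Bijective (RefHull.stalkMapₗ φ x)) :
    IsIso ((Scheme.Modules.restrictFunctor U.ι).map φ) := by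
  apply HomShL.isIso_of_app_bijective
  intro W
  have hb : Function.Bijective (φ.app (U.ι ''ᵁ W)) :=
    TopCat.Presheaf.app_bijective_of_stalkFunctor_map_bijective
      (F := ⟨F.presheaf, F.isSheaf⟩) (G := ⟨G.presheaf, G.isSheaf⟩)
      ⟨φ.mapPresheaf⟩ (U.ι ''ᵁ W) (fun x hx => h x (by
        obtain ⟨y, -, rfl⟩ := hx
        exact y.2))
  exact hb

/-- transport of stalkwise reflexivity along an isomorphism -/
theorem isReflexive_stalk_of_iso {F G : X.Modules} (i : F ≅ G) (x : X)
    [Module.IsReflexive (X.presheaf.stalk x) (F.presheaf.stalk x)] :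
    Module.IsReflexive (X.presheaf.stalk x) (G.presheaf.stalk x) :=
  Module.equiv (LinearEquiv.ofBijective (RefHull.stalkMapₗ i.hom x)
    (HomShH.bijective_stalkMapₗ_of_isIso i.hom x))

end Groth.Agent.Lead.ReflExtB
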