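import Mathlib
import Groth.Prelude.Def_RefHull
import Groth.Prelude.Def_Pi1
import Groth.Agent.Lead.ReflExtA
import Groth.Agent.Lead.ReflExtB
import Groth.Agent.Lead.PerfLib5
import Groth.Agent.Helper4.FinLocFree
import Groth.Agent.Helper4.FinLocFree2
import Groth.Agent.Helper4.FTRestrict
import Groth.Agent.Helper4.QcohGlue
import Groth.Agent.S2252

/-!
# Reflexive modules on normal schemes: extension from big opens (S1690, S1691)
-/

set_option autoImplicit false
set_option linter.style.haveILetI false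
set_option linter.unusedSectionVars false

universe u

open CategoryTheory CategoryTheory.Limits AlgebraicGeometry TopologicalSpace Opposite

namespace Groth.Agent.Lead.ReflExtC

variable {X : Scheme.{u}}

theorem exists_noetherian_nhd [IsLocallyNoetherian X] (x : X) :
    ∃ U : X.Opens, x ∈ U ∧ TopologicalSpace.NoetherianSpace (U : Set X) := by
  obtain ⟨_, ⟨U, hU : IsAffineOpen U, rfl⟩, hxU, -⟩ :=
    X.isBasis_affineOpens.exists_subset_of_mem_open (Set.mem_univ x) isOpen_univ
  haveI : IsNoetherianRing Γ(X, U) := IsLocallyNoetherian.component_noetherian ⟨U, hU⟩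
  exact ⟨U, hxU, noetherianSpace_of_isAffineOpen U hU⟩

theorem isCoh_ddual [IsLocallyNoetherian X] (G : X.Modules) (hG : Coh.IsCoh G) :
    Coh.IsCoh (RefHull.ddual G) :=
  HomShE.isCoh_homSh _ _ (HomShE.isCoh_homSh G _ hG (HomShH.isCoh_unit X)) (HomShH.isCoh_unit X)

/-- the restriction to `U` of the biduality map is an isomorphism if the stalks at the points of
`U` are reflexive -/
theorem isIso_restrict_bidualMap [IsLocallyNoetherian X] (U : X.Opens) (G : X.Modules)
    (hG : Coh.IsCoh G)
    (h : ∀ x ∈ U, Module.IsReflexive (X.presheaf.stalk x) (G.presheaf.stalk x)) :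
    IsIso ((Scheme.Modules.restrictFunctor U.ι).map (RefHull.bidualMap G)) := by
  apply ReflExtB.isIso_restrict_map
  intro x hx
  have hFP := Groth.Agent.Helper4.CohFP.isFP_of_isCoh G hG.1 hG.2
  have hDFP := HomShE.isFP_homSh G _ hG (HomShH.isCoh_unit X)
  exact (HomShF.isReflexiveAt_iff G hFP hDFP x).mp (h x hx)

/-- **S1691 (b)** -/
theorem pushforward_reflexive [IsIntegral X] [IsLocallyNoetherian X] (U : X.Opens)
    (hU : ∀ x : X, x ∉ U →
      (2 : ℕ∞) ≤ LocCoh.depth (X.presheaf.stalk x) (X.presheaf.stalk x))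
    (G : (U : Scheme.{u}).Modules) (hG : Coh.IsCoh G)
    (hGr : ∀ x : ↥(U : Scheme.{u}),
      Module.IsReflexive ((U : Scheme.{u}).presheaf.stalk x) (G.presheaf.stalk x)) :
    Coh.IsCoh ((Scheme.Modules.pushforward U.ι).obj G) ∧
      (∀ x : X, Module.IsReflexive (X.presheaf.stalk x)
        (((Scheme.Modules.pushforward U.ι).obj G).presheaf.stalk x)) := by
  haveI : Coh.IsQCoh G := hG.1
  obtain ⟨G', hG'q, hG'ft, ⟨i⟩⟩ := Groth.Agent.S2252.result (fun x => exists_noetherian_nhd x) U G hG.2
  have hG' : Coh.IsCoh G' := ⟨hG'q, hG'ft⟩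
  let K := RefHull.ddual G'
  have hK : Coh.IsCoh K := isCoh_ddual G' hG'
  have hKr : ∀ x : X, Module.IsReflexive (X.presheaf.stalk x) (K.presheaf.stalk x) := fun x =>
    ReflExtA.isReflexive_stalk_dual (RefHull.dual G')
      (HomShE.isCoh_homSh G' _ hG' (HomShH.isCoh_unit X)) x
  -- stalks of `G'` at points of `U` are reflexive
  have hG'r : ∀ x ∈ U, Module.IsReflexive (X.presheaf.stalk x) (G'.presheaf.stalk x) := by
    intro x hx
    let z : U := ⟨x, hx⟩
    haveI := hGr z
    haveI : Module.IsReflexive ((U : Scheme.{u}).presheaf.stalk z)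
        ((G'.restrict U.ι).presheaf.stalk z) :=
      ReflExtB.isReflexive_stalk_of_iso i.symm z
    exact (ReflExtB.isReflexive_restrict_iff U G' z).mp inferInstance
  haveI := isIso_restrict_bidualMap U G' hG' hG'r
  haveI := ReflExtA.isIso_unit U hU K hK hKr
  let β : G'.restrict U.ι ≅ K.restrict U.ι :=
    asIso ((Scheme.Modules.restrictFunctor U.ι).map (RefHull.bidualMap G'))
  let j : (Scheme.Modules.pushforward U.ι).obj G ≅ K :=
    (Scheme.Modules.pushforward U.ι).mapIso (i.symm ≪≫ β) ≪≫
      (asIso ((Scheme.Modules.restrictAdjunction U.ι).unit.app K)).symm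
  refine ⟨Groth.Agent.Lead.PerfLib.isCoh_of_iso j.symm hK, fun x => ?_⟩
  haveI := hKr x
  exact ReflExtB.isReflexive_stalk_of_iso j.symm x

/-- **S1691** -/
theorem s1691 [IsIntegral X] [IsLocallyNoetherian X] (U : X.Opens)
    (hU : ∀ x : ↥X, x ∉ U →
      (2 : ℕ∞) ≤ LocCoh.depth (X.presheaf.stalk x) (X.presheaf.stalk x)) :
    (∀ F : X.Modules, Coh.IsCoh F →
        (∀ x : ↥X, Module.IsReflexive (X.presheaf.stalk x) (F.presheaf.stalk x)) →
        IsIso ((Scheme.Modules.restrictAdjunction U.ι).unit.app F)) ∧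
      (∀ G : (U : Scheme.{u}).Modules, Coh.IsCoh G →
        (∀ x : ↥(U : Scheme.{u}),
          Module.IsReflexive ((U : Scheme.{u}).presheaf.stalk x) (G.presheaf.stalk x)) →
        Coh.IsCoh ((Scheme.Modules.pushforward U.ι).obj G) ∧
          (∀ x : ↥X, Module.IsReflexive (X.presheaf.stalk x)
            (((Scheme.Modules.pushforward U.ι).obj G).presheaf.stalk x))) :=
  ⟨fun F hF h => ReflExtA.isIso_unit U hU F hF h,
    fun G hG hGr => pushforward_reflexive U hU G hG hGr⟩

/-- the free locus of a coherent module is open -/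
theorem isOpen_freeLocus [IsLocallyNoetherian X] (F : X.Modules) (hF : Coh.IsCoh F) :
    IsOpen {x : X | Module.Free (X.presheaf.stalk x) (F.presheaf.stalk x)} := by
  haveI := hF.1
  have hFP := Groth.Agent.Helper4.CohFP.isFP_of_isCoh F hF.1 hF.2
  rw [isOpen_iff_forall_mem_open]
  intro x hx
  obtain ⟨_, ⟨W, hW : IsAffineOpen W, rfl⟩, hxW, -⟩ :=
    X.isBasis_affineOpens.exists_subset_of_mem_open (Set.mem_univ x) isOpen_univ
  obtain ⟨V, n, hxV, hV⟩ := Groth.Agent.Helper4.FinLocFree.exists_isFreeAlong_of_fp_of_free_stalk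
    F hW x hxW (Groth.Agent.Helper4.FPGlue.fp_sections F hFP hW) hx
  refine ⟨V, ?_, V.isOpen, hxV⟩
  intro y hy
  obtain ⟨b⟩ := Groth.Agent.Helper4.FinLocFree2.nonempty_basis_stalk_of_isFreeAlong F hV y hy
  exact Module.Free.of_basis b

/-- **S1690** -/
theorem s1690 [IsIntegral X] [IsLocallyNoetherian X] (hX : Pi1.IsNormalScheme X)
    (F : X.Modules) (hF : Coh.IsCoh F) :
    (∀ x : ↥X, Module.IsReflexive (X.presheaf.stalk x) (F.presheaf.stalk x)) ↔
      ∃ U : X.Opens, (∀ x : ↥X, x ∉ U → (2 : WithBot ℕ∞) ≤ ringKrullDim (X.presheaf.stalk x)) ∧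
        FlatMod.IsFinLocFree (F.restrict U.ι) ∧
          IsIso ((Scheme.Modules.restrictAdjunction U.ι).unit.app F) := by
  haveI := hF.1
  have hFP := Groth.Agent.Helper4.CohFP.isFP_of_isCoh F hF.1 hF.2
  have hdepth : ∀ (U : X.Opens),
      (∀ x : ↥X, x ∉ U → (2 : WithBot ℕ∞) ≤ ringKrullDim (X.presheaf.stalk x)) →
      ∀ x : X, x ∉ U → (2 : ℕ∞) ≤ LocCoh.depth (X.presheaf.stalk x) (X.presheaf.stalk x) := by
    intro U hU x hx
    haveI := (hX x).1
    haveI := (hX x).2
    exact ReflExtB.depth_two_of_normal _ (hU x hx)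
  constructor
  · intro h
    let U : X.Opens := ⟨_, isOpen_freeLocus F hF⟩
    have hU2 : ∀ x : ↥X, x ∉ U → (2 : WithBot ℕ∞) ≤ ringKrullDim (X.presheaf.stalk x) := by
      intro x hx
      by_contra hcon
      apply hx
      haveI := (hX x).1
      haveI := (hX x).2
      have h1 : ringKrullDim (X.presheaf.stalk x) ≤ 1 := by
        rw [not_le] at hcon
        have hne : ringKrullDim (X.presheaf.stalk x) ≠ ⊥ := ringKrullDim_ne_bot
        obtain ⟨e, he⟩ := WithBot.ne_bot_iff_exists.mp hne
        rw [← he] at hcon ⊢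
        have h22 : (2 : WithBot ℕ∞) = ((2 : ℕ∞) : WithBot ℕ∞) := rfl
        have h11 : (1 : WithBot ℕ∞) = ((1 : ℕ∞) : WithBot ℕ∞) := rfl
        rw [h22, WithBot.coe_lt_coe] at hcon
        rw [h11, WithBot.coe_le_coe]
        cases e with
        | top => exact absurd hcon (by simp)
        | coe k =>
          have h1 : k < 2 := by exact_mod_cast hcon
          have h2 : k ≤ 1 := by omega
          exact_mod_cast h2
      haveI : IsPrincipalIdealRing (X.presheaf.stalk x) :=
        ReflExtB.isPrincipalIdealRing_of_normal_dim_le_one _ h1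
      haveI := h x
      haveI : Module.Finite (X.presheaf.stalk x) (F.presheaf.stalk x) :=
        Groth.Agent.Helper4.FinLocFree2.finite_stalk F hF.2 x
      exact (Module.free_of_finite_type_torsion_free' :
        Module.Free (X.presheaf.stalk x) (F.presheaf.stalk x))
    refine ⟨U, hU2, ?_, ReflExtA.isIso_unit U (hdepth U hU2) F hF h⟩
    haveI : (F.restrict U.ι).IsQuasicoherent := inferInstance
    apply Groth.Agent.Helper4.FinLocFree2.isFinLocFree_of_fp_of_free_stalks (F.restrict U.ι)
      (Groth.Agent.Helper4.FTRestrict.isFP_restrict _ _ hFP)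
    intro z
    haveI : Module.Free (X.presheaf.stalk (U.ι z)) (F.presheaf.stalk (U.ι z)) := z.2
    exact ReflExtB.free_restrict_of_free U F z
  · rintro ⟨U, hU2, hfree, hiso⟩ x
    have hK : Coh.IsCoh (RefHull.ddual F) := isCoh_ddual F hF
    have hKr : ∀ y : X, Module.IsReflexive (X.presheaf.stalk y)
        ((RefHull.ddual F).presheaf.stalk y) := fun y =>
      ReflExtA.isReflexive_stalk_dual (RefHull.dual F)
        (HomShE.isCoh_homSh F _ hF (HomShH.isCoh_unit X)) y
    have hFr : ∀ y ∈ U, Module.IsReflexive (X.presheaf.stalk y) (F.presheaf.stalk y) := by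
      intro y hy
      let z : U := ⟨y, hy⟩
      haveI : (F.restrict U.ι).IsQuasicoherent := inferInstance
      haveI := Groth.Agent.Helper4.FinLocFree2.free_stalk_of_isFinLocFree (F.restrict U.ι) hfree z
      haveI : Module.Free (X.presheaf.stalk (U.ι z)) (F.presheaf.stalk (U.ι z)) :=
        ReflExtB.free_of_free_restrict U F z
      haveI : Module.Finite (X.presheaf.stalk (U.ι z)) (F.presheaf.stalk (U.ι z)) :=
        Groth.Agent.Helper4.FinLocFree2.finite_stalk F hF.2 _
      exact (inferInstance : Module.IsReflexive (X.presheaf.stalk (U.ι z))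
        (F.presheaf.stalk (U.ι z)))
    haveI := isIso_restrict_bidualMap U F hF hFr
    haveI := ReflExtA.isIso_unit U (hdepth U hU2) (RefHull.ddual F) hK hKr
    haveI := hiso
    have hnat := (Scheme.Modules.restrictAdjunction U.ι).unit.naturality (RefHull.bidualMap F)
    have hb : IsIso (RefHull.bidualMap F) := by
      have h1 : RefHull.bidualMap F ≫
          (Scheme.Modules.restrictAdjunction U.ι).unit.app (RefHull.ddual F) =
          (Scheme.Modules.restrictAdjunction U.ι).unit.app F ≫
            (Scheme.Modules.pushforward U.ι).map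
              ((Scheme.Modules.restrictFunctor U.ι).map (RefHull.bidualMap F)) := hnat
      have h2 : RefHull.bidualMap F =
          ((Scheme.Modules.restrictAdjunction U.ι).unit.app F ≫
            (Scheme.Modules.pushforward U.ι).map
              ((Scheme.Modules.restrictFunctor U.ι).map (RefHull.bidualMap F))) ≫
          inv ((Scheme.Modules.restrictAdjunction U.ι).unit.app (RefHull.ddual F)) := by
        rw [← h1, Category.assoc, IsIso.hom_inv_id, Category.comp_id]
      rw [h2]
      infer_instance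
    exact ReflExtA.stalks_of_isReflexive F hF hb x

end Groth.Agent.Lead.ReflExtC
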