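import Mathlib
import Groth.Prelude.Def_RefHull
import Groth.Prelude.Def_RefFun
import Groth.Prelude.Def_Pi1
import Groth.Agent.Lead.HomShL
import Groth.Agent.Lead.HomShI
import Groth.Agent.Lead.ReflExtB
import Groth.Agent.Lead.ReflExtC

/-!
# Morphisms of reflexive modules on normal schemes: isomorphisms in codimension one
-/

set_option autoImplicit false
set_option linter.style.haveILetI false
set_option linter.unusedSectionVars false

universe u

open CategoryTheory CategoryTheory.Limits AlgebraicGeometry TopologicalSpace Opposite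

namespace Groth.Agent.Lead.Ref1A

variable {X : Scheme.{u}}

theorem dim_le_one_of_not_two_le (R : Type u) [CommRing R] [Nontrivial R]
    (hcon : ¬ (2 : WithBot ℕ∞) ≤ ringKrullDim R) : ringKrullDim R ≤ 1 := by
  rw [not_le] at hcon
  have hne : ringKrullDim R ≠ ⊥ := by
    have h0 := ringKrullDim_nonneg_of_nontrivial (R := R)
    intro hb
    rw [hb] at h0
    exact absurd h0 (by simp)
  obtain ⟨e, he⟩ := WithBot.ne_bot_iff_exists.mp hne
  rw [← he] at hcon ⊢
  have h22 : (2 : WithBot ℕ∞) = ((2 : ℕ∞) : WithBot ℕ∞) := rfl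
  have h11 : (1 : WithBot ℕ∞) = ((1 : ℕ∞) : WithBot ℕ∞) := rfl
  rw [h22, WithBot.coe_lt_coe] at hcon
  rw [h11, WithBot.coe_le_coe]
  cases e with
  | top => exact absurd hcon (by simp)
  | coe k =>
    have h1 : k < 2 := by exact_mod_cast hcon
    have h2 : k ≤ 1 := by omega
    exact_mod_cast h2

/-- **a morphism of reflexive coherent modules which is bijective at the points of depth `≤ 1` is
an isomorphism** -/
theorem isIso_of_bijective_of_depth [IsLocallyNoetherian X] {A B : X.Modules}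
    (hA : Coh.IsCoh A) (hB : Coh.IsCoh B) (hAr : RefHull.IsReflexive A)
    (hBr : RefHull.IsReflexive B) (φ : A ⟶ B)
    (h : ∀ x : X, ¬ (2 : ℕ∞) ≤ LocCoh.depth (X.presheaf.stalk x) (X.presheaf.stalk x) →
      Function.Bijective (RefHull.stalkMapₗ φ x)) : IsIso φ := by
  have hBFP := Groth.Agent.Helper4.CohFP.isFP_of_isCoh B hB.1 hB.2
  have hopen := HomShG.isOpen_bijective φ hA.2 hBFP
  let W : X.Opens := ⟨{x | Function.Bijective (RefHull.stalkMapₗ φ x)}, hopen⟩
  have hW2 : ∀ x : X, x ∉ W →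
      (2 : ℕ∞) ≤ LocCoh.depth (X.presheaf.stalk x) (X.presheaf.stalk x) := by
    intro x hx
    by_contra hcon
    exact hx (h x hcon)
  apply HomShL.isIso_of_app_bijective
  intro U'
  have hVU : U' ⊓ W ≤ U' := inf_le_left
  have h1 := HomShK.normal_of_isReflexive A hA hAr U' (U' ⊓ W) hVU
    (fun x hxU hx => hW2 x (fun hxW => hx ⟨hxU, hxW⟩))
  have h2 := HomShK.normal_of_isReflexive B hB hBr U' (U' ⊓ W) hVU
    (fun x hxU hx => hW2 x (fun hxW => hx ⟨hxU, hxW⟩))
  have h3 : Function.Bijective (φ.app (U' ⊓ W)) :=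
    TopCat.Presheaf.app_bijective_of_stalkFunctor_map_bijective
      (F := ⟨A.presheaf, A.isSheaf⟩) (G := ⟨B.presheaf, B.isSheaf⟩)
      ⟨φ.mapPresheaf⟩ (U' ⊓ W) (fun x hx => hx.2)
  have hsq : ∀ s, B.presheaf.map (homOfLE hVU).op (φ.app U' s) =
      φ.app (U' ⊓ W) (A.presheaf.map (homOfLE hVU).op s) :=
    fun s => HomShK.app_res φ hVU s
  constructor
  · intro s s' hss'
    apply h1.1
    apply h3.1
    rw [← hsq, ← hsq, hss']
  · intro d
    obtain ⟨s₀, hs₀⟩ := h3.2 (B.presheaf.map (homOfLE hVU).op d)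
    obtain ⟨s, rfl⟩ := h1.2 s₀
    refine ⟨s, h2.1 ?_⟩
    rw [hsq, hs₀]

/-- on a normal scheme: bijective at the points of codimension `≤ 1` suffices -/
theorem isIso_of_bijective_codim_one [IsLocallyNoetherian X] (hX : Pi1.IsNormalScheme X)
    {A B : X.Modules} (hA : Coh.IsCoh A) (hB : Coh.IsCoh B) (hAr : RefHull.IsReflexive A)
    (hBr : RefHull.IsReflexive B) (φ : A ⟶ B)
    (h : ∀ x : X, ringKrullDim (X.presheaf.stalk x) ≤ 1 →
      Function.Bijective (RefHull.stalkMapₗ φ x)) : IsIso φ := by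
  apply isIso_of_bijective_of_depth hA hB hAr hBr φ
  intro x hx
  apply h x
  apply dim_le_one_of_not_two_le
  intro h2
  apply hx
  haveI := (hX x).1
  haveI := (hX x).2
  exact ReflExtB.depth_two_of_normal _ h2

/-! ### stalks of `homComap` -/

theorem evalStalk_homComap {F F' : X.Modules} (ψ : F' ⟶ F) (G : X.Modules) (x : X)
    (t : (RefHull.homSh F G).presheaf.stalk x) :
    RefHull.evalStalk F' G x (RefHull.stalkMapₗ (RefFun.homComap ψ G) x t) =
      (RefHull.evalStalk F G x t).comp (RefHull.stalkMapₗ ψ x) := by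
  obtain ⟨U, hx, g, rfl⟩ := TopCat.Presheaf.exists_germ_eq (RefHull.homSh F G).presheaf t
  rw [RefHull.stalkMapₗ_germ, RefHull.evalStalk_germ, RefHull.evalStalk_germ]
  rfl

theorem bijective_stalkMapₗ_homComap {F F' : X.Modules} (ψ : F' ⟶ F) (G : X.Modules)
    (hF : SheafOfModules.IsFinitePresentation (R := X.ringCatSheaf) F)
    (hF' : SheafOfModules.IsFinitePresentation (R := X.ringCatSheaf) F') (x : X)
    (hψ : Function.Bijective (RefHull.stalkMapₗ ψ x)) :
    Function.Bijective (RefHull.stalkMapₗ (RefFun.homComap ψ G) x) := by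
  haveI := hF
  haveI := hF'
  have hE : Function.Bijective (RefHull.evalStalk F G x) :=
    ⟨Groth.Agent.Lead.HomSh.evalStalk_injective_of_isFT F _ inferInstance x,
      Groth.Agent.Lead.HomShB.evalStalk_surjective F _ hF x⟩
  have hE' : Function.Bijective (RefHull.evalStalk F' G x) :=
    ⟨Groth.Agent.Lead.HomSh.evalStalk_injective_of_isFT F' _ inferInstance x,
      Groth.Agent.Lead.HomShB.evalStalk_surjective F' _ hF' x⟩
  let e := LinearEquiv.ofBijective (RefHull.stalkMapₗ ψ x) hψ
  have hpre : Function.Bijective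
      (fun f : RefHull.StalkHom F G x => f.comp (RefHull.stalkMapₗ ψ x)) := by
    constructor
    · intro f f' hff'
      apply LinearMap.ext
      intro v
      obtain ⟨w, rfl⟩ := hψ.2 v
      exact LinearMap.congr_fun hff' w
    · intro f'
      refine ⟨f'.comp (e.symm : _ →ₗ[X.presheaf.stalk x] _), ?_⟩
      apply LinearMap.ext
      intro w
      change f' (e.symm (e w)) = f' w
      rw [LinearEquiv.symm_apply_apply]
  have hcomp : (RefHull.evalStalk F' G x) ∘ (RefHull.stalkMapₗ (RefFun.homComap ψ G) x) =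
      (fun f : RefHull.StalkHom F G x => f.comp (RefHull.stalkMapₗ ψ x)) ∘
        (RefHull.evalStalk F G x) := by
    funext t
    exact evalStalk_homComap ψ G x t
  have h1 : Function.Bijective
      ((RefHull.evalStalk F' G x) ∘ (RefHull.stalkMapₗ (RefFun.homComap ψ G) x)) := by
    rw [hcomp]
    exact hpre.comp hE
  exact (Function.Bijective.of_comp_iff' hE' _).mp h1

theorem bijective_stalkMapₗ_ddualMap [IsLocallyNoetherian X] {F G : X.Modules} (φ : F ⟶ G)
    (hF : Coh.IsCoh F) (hG : Coh.IsCoh G) (x : X)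
    (hφ : Function.Bijective (RefHull.stalkMapₗ φ x)) :
    Function.Bijective (RefHull.stalkMapₗ (RefFun.ddualMap φ) x) := by
  have hO := HomShH.isCoh_unit X
  have hFP := Groth.Agent.Helper4.CohFP.isFP_of_isCoh F hF.1 hF.2
  have hGP := Groth.Agent.Helper4.CohFP.isFP_of_isCoh G hG.1 hG.2
  have hDF := HomShE.isFP_homSh F _ hF hO
  have hDG := HomShE.isFP_homSh G _ hG hO
  have h1 := bijective_stalkMapₗ_homComap φ (Coh.structureModule X) hGP hFP x hφ
  exact bijective_stalkMapₗ_homComap (RefFun.dualMap φ) (Coh.structureModule X) hDF hDG x h1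

theorem isCoh_dual [IsLocallyNoetherian X] (F : X.Modules) (hF : Coh.IsCoh F) :
    Coh.IsCoh (RefHull.dual F) :=
  HomShE.isCoh_homSh F _ hF (HomShH.isCoh_unit X)

theorem isReflexive_dual [IsIntegral X] [IsLocallyNoetherian X] (F : X.Modules)
    (hF : Coh.IsCoh F) : RefHull.IsReflexive (RefHull.dual F) :=
  ReflExtA.isReflexive_of_stalks _ (isCoh_dual F hF) (ReflExtA.isReflexive_stalk_dual F hF)

theorem isReflexive_ddual [IsIntegral X] [IsLocallyNoetherian X] (F : X.Modules)
    (hF : Coh.IsCoh F) : RefHull.IsReflexive (RefHull.ddual F) :=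
  isReflexive_dual _ (isCoh_dual F hF)

/-- **the reflexive hull of a morphism which is bijective in codimension one is an isomorphism** -/
theorem isIso_ddualMap [IsIntegral X] [IsLocallyNoetherian X] (hX : Pi1.IsNormalScheme X)
    {F G : X.Modules} (φ : F ⟶ G) (hF : Coh.IsCoh F) (hG : Coh.IsCoh G)
    (h : ∀ x : X, ringKrullDim (X.presheaf.stalk x) ≤ 1 →
      Function.Bijective (RefHull.stalkMapₗ φ x)) : IsIso (RefFun.ddualMap φ) :=
  isIso_of_bijective_codim_one hX (ReflExtC.isCoh_ddual F hF) (ReflExtC.isCoh_ddual G hG)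
    (isReflexive_ddual F hF) (isReflexive_ddual G hG) _
    (fun x hx => bijective_stalkMapₗ_ddualMap φ hF hG x (h x hx))

/-- dual version -/
theorem isIso_dualMap [IsIntegral X] [IsLocallyNoetherian X] (hX : Pi1.IsNormalScheme X)
    {F G : X.Modules} (φ : F ⟶ G) (hF : Coh.IsCoh F) (hG : Coh.IsCoh G)
    (h : ∀ x : X, ringKrullDim (X.presheaf.stalk x) ≤ 1 →
      Function.Bijective (RefHull.stalkMapₗ φ x)) : IsIso (RefFun.dualMap φ) := by
  have hFP := Groth.Agent.Helper4.CohFP.isFP_of_isCoh F hF.1 hF.2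
  have hGP := Groth.Agent.Helper4.CohFP.isFP_of_isCoh G hG.1 hG.2
  exact isIso_of_bijective_codim_one hX (isCoh_dual G hG) (isCoh_dual F hF)
    (isReflexive_dual G hG) (isReflexive_dual F hF) _
    (fun x hx => bijective_stalkMapₗ_homComap φ _ hGP hFP x (h x hx))

end Groth.Agent.Lead.Ref1A
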