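import Mathlib
import Groth.Prelude.Def_RefHull
import Groth.Prelude.Def_RefFun
import Groth.Prelude.Def_KoszTw
import Groth.Prelude.Def_SecTwist
import Groth.Agent.Helper9.StalkTensor8
import Groth.Agent.Lead.QcohTensor

/-!
# Structural isomorphisms of the tensor product of modules on a scheme, and its stalks
-/

set_option autoImplicit false
set_option linter.style.haveILetI false
set_option linter.unusedSectionVars false

universe u

open CategoryTheory CategoryTheory.Limits AlgebraicGeometry TopologicalSpace Opposite MonoidalCategory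
open Groth.Agent.Helper9.SkyMod4 Groth.Agent.Helper9.SkyMod5 Groth.Agent.Helper9.StalkTensor8
  Groth.Agent.Helper9.TensorSh

namespace Groth.Agent.Lead.Ref1B

variable {X : Scheme.{u}}

theorem St_map_apply {M N : X.Modules} (φ : M ⟶ N) (x : X) (m : M.presheaf.stalk x) :
    ((St x).map φ).hom m = RefHull.stalkMapₗ φ x m := by
  obtain ⟨U, hxU, s, rfl⟩ := M.presheaf.exists_germ_eq (x := x) m
  rw [RefHull.stalkMapₗ_germ]
  exact DerSch.stalkFunctor_map_germ x φ U hxU s

theorem isIso_St_map_iff {M N : X.Modules} (φ : M ⟶ N) (x : X) :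
    IsIso ((St x).map φ) ↔ Function.Bijective (RefHull.stalkMapₗ φ x) := by
  rw [ConcreteCategory.isIso_iff_bijective]
  have h : ⇑(ConcreteCategory.hom ((St x).map φ)) = ⇑(RefHull.stalkMapₗ φ x) := by
    funext m
    exact St_map_apply φ x m
  rw [h]
  exact Iff.rfl

theorem bijective_stalkMapₗ_tensorMap {M M' N N' : X.Modules} (φ : M ⟶ M') (ψ : N ⟶ N') (x : X)
    (hφ : Function.Bijective (RefHull.stalkMapₗ φ x))
    (hψ : Function.Bijective (RefHull.stalkMapₗ ψ x)) :
    Function.Bijective (RefHull.stalkMapₗ (KoszTw.tensorMap φ ψ) x) := by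
  rw [← isIso_St_map_iff] at hφ hψ ⊢
  haveI := hφ
  haveI := hψ
  have h := stIso_natural x φ ψ
  have h2 : (St x).map (KoszTw.tensorMap φ ψ) =
      (stIso x M N).inv ≫ ((St x).map φ ⊗ₘ (St x).map ψ) ≫ (stIso x M' N').hom := by
    rw [h, Iso.inv_hom_id_assoc]
    rfl
  rw [h2]
  haveI : IsIso ((St x).map φ ⊗ₘ (St x).map ψ) :=
    (inferInstance : IsIso (asIso ((St x).map φ) ⊗ᵢ asIso ((St x).map ψ)).hom)
  exact IsIso.comp_isIso' (Iso.isIso_inv _) (IsIso.comp_isIso' this (Iso.isIso_hom _))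

/-- the braiding -/
noncomputable def braid (F G : X.Modules) : CohB1.tensorMod F G ≅ CohB1.tensorMod G F :=
  (CohB1.sheafifyMod X).mapIso
    (show (CohB1.tensorPre F G : X.PresheafOfModules) ≅ (CohB1.tensorPre G F : X.PresheafOfModules) from
      β_ (CohB1.toPMod F) (CohB1.toPMod G))

/-- the associator -/
noncomputable def assoc (F G H : X.Modules) :
    CohB1.tensorMod (CohB1.tensorMod F G) H ≅ CohB1.tensorMod F (CohB1.tensorMod G H) :=
  (asIso ((a X.sheaf).map (η X.sheaf ((ι X.sheaf).obj F ⊗ (ι X.sheaf).obj G) ▷ (ι X.sheaf).obj H))).symm ≪≫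
    (a X.sheaf).mapIso (α_ ((ι X.sheaf).obj F) ((ι X.sheaf).obj G) ((ι X.sheaf).obj H)) ≪≫
    @asIso _ _ _ _ ((a X.sheaf).map ((ι X.sheaf).obj F ◁ η X.sheaf ((ι X.sheaf).obj G ⊗ (ι X.sheaf).obj H)))
      (isIso_a_map_whiskerLeft _ _)

/-- the left unitor -/
noncomputable def unitorL (F : X.Modules) : CohB1.tensorMod (Coh.structureModule X) F ≅ F :=
  braid _ _ ≪≫ SecTwist.unitorR F

theorem isCoh_tensorMod (F G : X.Modules) (hF : Coh.IsCoh F) (hG : Coh.IsCoh G) :
    Coh.IsCoh (CohB1.tensorMod F G) := by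
  haveI := hF.1
  haveI := hG.1
  exact ⟨QcohTensor.isQuasicoherent_tensorMod F G, QcohTensor.isFT_tensorMod F G hF.2 hG.2⟩

/-- the stalk of the tensor product -/
noncomputable def stalkTensorEquiv (M N : X.Modules) (x : X) :
    TensorProduct (X.presheaf.stalk x) (M.presheaf.stalk x) (N.presheaf.stalk x)
      ≃ₗ[X.presheaf.stalk x] (CohB1.tensorMod M N).presheaf.stalk x :=
  (stIso x M N).toLinearEquiv

set_option backward.isDefEq.respectTransparency false in
theorem stalkTensorEquiv_germ (M N : X.Modules) (x : X) (U : X.Opens) (hx : x ∈ U) (a : Γ(M, U))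
    (b : Γ(N, U)) :
    stalkTensorEquiv M N x
      ((M.presheaf.germ U x hx a) ⊗ₜ[X.presheaf.stalk x] (N.presheaf.germ U x hx b)) =
      (CohB1.tensorMod M N).presheaf.germ U x hx (SecTwist.tmul M N U a b) := by
  open Groth.Agent.Helper9.StalkTensor1 Groth.Agent.Helper9.StalkTensor2
    Groth.Agent.Helper9.StalkTensor7 Groth.Agent.Helper9.TensorSh in
  change stEquiv (X := X.toTopCat) (O := X.sheaf) x M N
    (gm ((ι X.sheaf).obj M) x U hx a ⊗ₜ gm ((ι X.sheaf).obj N) x U hx b) = _
  refine (Groth.Agent.Helper9.StalkTensor7.stEquiv_apply (X := X.toTopCat) (O := X.sheaf) x M N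
    _).trans ?_
  refine (congrArg (Groth.Agent.Helper9.StalkTensor2.smLin (R := X.sheaf.obj)
    (Groth.Agent.Helper9.TensorSh.η X.sheaf ((Groth.Agent.Helper9.TensorSh.ι X.sheaf).obj M ⊗
      (Groth.Agent.Helper9.TensorSh.ι X.sheaf).obj N)) x)
    (Groth.Agent.Helper9.StalkTensor1.pair_gm ((Groth.Agent.Helper9.TensorSh.ι X.sheaf).obj M)
      ((Groth.Agent.Helper9.TensorSh.ι X.sheaf).obj N) x U hx a b)).trans ?_
  refine (Groth.Agent.Helper9.StalkTensor2.smLin_gm _ x U hx _).trans ?_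
  rfl

theorem free_stalk_tensorMod (M N : X.Modules) (x : X)
    [Module.Free (X.presheaf.stalk x) (M.presheaf.stalk x)]
    [Module.Free (X.presheaf.stalk x) (N.presheaf.stalk x)] :
    Module.Free (X.presheaf.stalk x) ((CohB1.tensorMod M N).presheaf.stalk x) :=
  Module.Free.of_equiv (stalkTensorEquiv M N x)

end Groth.Agent.Lead.Ref1B
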