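import Mathlib

/-!
# Modules free of rank one
-/

set_option autoImplicit false
set_option linter.style.haveILetI false
set_option linter.unusedSectionVars false

universe u

open TensorProduct

namespace Groth.Agent.Lead.Ref1C

/-- `M` is free of rank one: some element `t` of `M` is a basis -/
def IsFR1 (R : Type*) (M : Type*) [CommRing R] [AddCommGroup M] [Module R M] : Prop :=
  ∃ t : M, Function.Bijective (fun r : R => r • t)

variable {R : Type*} [CommRing R] {M N : Type*} [AddCommGroup M] [Module R M] [AddCommGroup N]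
  [Module R N]

theorem IsFR1.self : IsFR1 R R := ⟨1, by
  have : (fun r : R => r • (1 : R)) = id := by funext r; simp
  rw [this]; exact Function.bijective_id⟩

theorem IsFR1.nonempty_equiv (h : IsFR1 R M) : Nonempty (R ≃ₗ[R] M) := by
  obtain ⟨t, ht⟩ := h
  exact ⟨LinearEquiv.ofBijective (LinearMap.toSpanSingleton R M t) ht⟩

theorem IsFR1.of_equiv (e : M ≃ₗ[R] N) (h : IsFR1 R M) : IsFR1 R N := by
  obtain ⟨t, ht⟩ := h
  refine ⟨e t, ?_⟩
  have : (fun r : R => r • e t) = e ∘ (fun r : R => r • t) := by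
    funext r; simp
  rw [this]
  exact e.bijective.comp ht

theorem isFR1_iff_nonempty_equiv : IsFR1 R M ↔ Nonempty (R ≃ₗ[R] M) :=
  ⟨IsFR1.nonempty_equiv, fun ⟨e⟩ => IsFR1.self.of_equiv e⟩

theorem IsFR1.free (h : IsFR1 R M) : Module.Free R M := by
  obtain ⟨e⟩ := h.nonempty_equiv
  exact Module.Free.of_equiv e

theorem IsFR1.finite (h : IsFR1 R M) : Module.Finite R M := by
  obtain ⟨e⟩ := h.nonempty_equiv
  exact Module.Finite.equiv e

theorem IsFR1.tensor (hM : IsFR1 R M) (hN : IsFR1 R N) : IsFR1 R (M ⊗[R] N) := by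
  obtain ⟨e⟩ := hM.nonempty_equiv
  obtain ⟨f⟩ := hN.nonempty_equiv
  exact IsFR1.self.of_equiv ((TensorProduct.lid R R).symm ≪≫ₗ TensorProduct.congr e f)

theorem IsFR1.linearMap (hM : IsFR1 R M) (hN : IsFR1 R N) : IsFR1 R (M →ₗ[R] N) := by
  obtain ⟨e⟩ := hM.nonempty_equiv
  obtain ⟨f⟩ := hN.nonempty_equiv
  exact IsFR1.self.of_equiv ((LinearMap.ringLmapEquivSelf R R R).symm ≪≫ₗ LinearEquiv.arrowCongr e f)

theorem IsFR1.dual_dual (hM : IsFR1 R M) (hN : IsFR1 R N) :
    IsFR1 R ((M →ₗ[R] N) →ₗ[R] N) :=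
  (hM.linearMap hN).linearMap hN

/-- transport along a semilinear bijection -/
theorem IsFR1.of_semilinear {R' M' : Type*} [CommRing R'] [AddCommGroup M'] [Module R' M']
    (σ : R ≃+* R') (e : M ≃+ M') (hsl : ∀ (r : R) (m : M), e (r • m) = σ r • e m)
    (h : IsFR1 R M) : IsFR1 R' M' := by
  obtain ⟨t, ht⟩ := h
  refine ⟨e t, ?_⟩
  have : (fun r' : R' => r' • e t) = e ∘ (fun r : R => r • t) ∘ σ.symm := by
    funext r'
    change r' • e t = e (σ.symm r' • t)
    rw [hsl, RingEquiv.apply_symm_apply]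
  rw [this]
  exact e.bijective.comp (ht.comp σ.symm.bijective)

theorem IsFR1.of_basis (b : Module.Basis (Fin 1) R M) : IsFR1 R M := by
  rw [isFR1_iff_nonempty_equiv]
  exact ⟨(LinearEquiv.funUnique (Fin 1) R R).symm ≪≫ₗ (b.equivFun).symm⟩

theorem IsFR1.eq_one_of_basis [Nontrivial R] (h : IsFR1 R M) {n : ℕ}
    (b : Module.Basis (Fin n) R M) : n = 1 := by
  obtain ⟨e⟩ := h.nonempty_equiv
  have b1 : Module.Basis (Fin 1) R M :=
    Module.Basis.ofEquivFun (e.symm ≪≫ₗ (LinearEquiv.funUnique (Fin 1) R R).symm)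
  have := Module.Basis.indexEquiv b b1
  have h2 := Fintype.card_congr this
  simpa using h2

/-- the contraction `Hom(M, N) ⊗ M → N` -/
noncomputable def contraction (R : Type*) (M N : Type*) [CommRing R] [AddCommGroup M] [Module R M]
    [AddCommGroup N] [Module R N] : (M →ₗ[R] N) ⊗[R] M →ₗ[R] N :=
  TensorProduct.lift (LinearMap.id : (M →ₗ[R] N) →ₗ[R] (M →ₗ[R] N))

@[simp] theorem contraction_tmul (h : M →ₗ[R] N) (m : M) : contraction R M N (h ⊗ₜ m) = h m := by
  simp [contraction]

theorem contraction_bijective (hM : IsFR1 R M) : Function.Bijective (contraction R M N) := by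
  obtain ⟨t, ht⟩ := hM
  let e : R ≃ₗ[R] M := LinearEquiv.ofBijective (LinearMap.toSpanSingleton R M t) ht
  have het : ∀ r : R, e r = r • t := fun r => rfl
  have hm : ∀ m : M, m = (e.symm m) • t := fun m => by
    rw [← het, LinearEquiv.apply_symm_apply]
  -- every element is of the form `h ⊗ t`
  have hform : ∀ z : (M →ₗ[R] N) ⊗[R] M, ∃ h : M →ₗ[R] N, z = h ⊗ₜ t := by
    intro z
    induction z using TensorProduct.induction_on with
    | zero => exact ⟨0, by rw [TensorProduct.zero_tmul]⟩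
    | tmul h m =>
      refine ⟨e.symm m • h, ?_⟩
      conv_lhs => rw [hm m]
      rw [TensorProduct.tmul_smul, TensorProduct.smul_tmul']
    | add z z' hz hz' =>
      obtain ⟨h, rfl⟩ := hz
      obtain ⟨h', rfl⟩ := hz'
      exact ⟨h + h', by rw [TensorProduct.add_tmul]⟩
  constructor
  · rw [injective_iff_map_eq_zero]
    intro z hz
    obtain ⟨h, rfl⟩ := hform z
    rw [contraction_tmul] at hz
    have : h = 0 := by
      apply LinearMap.ext
      intro m
      rw [hm m, map_smul, hz, smul_zero, LinearMap.zero_apply]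
    rw [this, TensorProduct.zero_tmul]
  · intro n
    refine ⟨((LinearMap.toSpanSingleton R N n).comp (e.symm : M →ₗ[R] R)) ⊗ₜ t, ?_⟩
    rw [contraction_tmul]
    change (e.symm t) • n = n
    have : e.symm t = 1 := by
      apply e.injective
      rw [LinearEquiv.apply_symm_apply, het, one_smul]
    rw [this, one_smul]

end Groth.Agent.Lead.Ref1C
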