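import Mathlib
import Groth.Prelude.Def_RefHull
import Groth.Prelude.Def_RefFun
import Groth.Prelude.Def_Pi1
import Groth.Agent.Lead.Ref1A
import Groth.Agent.Lead.Ref1B
import Groth.Agent.Lead.Ref1C
import Groth.Agent.Lead.Hartogs2
import Groth.Agent.Helper4.FinLocFree2
import Groth.Agent.Helper4.QAffSec

/-!
# Rank one stalks of modules on a scheme
-/

set_option autoImplicit false
set_option linter.style.haveILetI false
set_option linter.unusedSectionVars false

universe u

open CategoryTheory CategoryTheory.Limits AlgebraicGeometry TopologicalSpace Opposite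
open Groth.Agent.Lead.Ref1C

namespace Groth.Agent.Lead.Ref1D

variable {X : Scheme.{u}}

/-- the stalk at `x` is free of rank one -/
abbrev FR1At (F : X.Modules) (x : X) : Prop :=
  IsFR1 (X.presheaf.stalk x) (F.presheaf.stalk x)

theorem fr1At_unit (x : X) : FR1At (Coh.structureModule X) x :=
  IsFR1.self.of_equiv (Groth.Agent.Lead.Hartogs2.unitEquiv x)

theorem fr1At_of_iso {F G : X.Modules} (i : F ≅ G) (x : X) (h : FR1At F x) : FR1At G x :=
  h.of_equiv (LinearEquiv.ofBijective (RefHull.stalkMapₗ i.hom x)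
    (HomShH.bijective_stalkMapₗ_of_isIso i.hom x))

theorem fr1At_tensorMod (F G : X.Modules) (x : X) (hF : FR1At F x) (hG : FR1At G x) :
    FR1At (CohB1.tensorMod F G) x :=
  (hF.tensor hG).of_equiv (Ref1B.stalkTensorEquiv F G x)

theorem fr1At_dual (F : X.Modules)
    (hFP : SheafOfModules.IsFinitePresentation (R := X.ringCatSheaf) F) (x : X)
    (hF : FR1At F x) : FR1At (RefHull.dual F) x := by
  haveI := hFP
  have hE : Function.Bijective (RefHull.evalStalk F (Coh.structureModule X) x) :=
    ⟨Groth.Agent.Lead.HomSh.evalStalk_injective_of_isFT F _ inferInstance x,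
      Groth.Agent.Lead.HomShB.evalStalk_surjective F _ hFP x⟩
  exact (hF.linearMap (fr1At_unit x)).of_equiv
    (LinearEquiv.ofBijective (RefHull.evalStalk F (Coh.structureModule X) x) hE).symm

theorem fr1At_ddual [IsLocallyNoetherian X] (F : X.Modules) (hF : Coh.IsCoh F) (x : X)
    (h : FR1At F x) : FR1At (RefHull.ddual F) x := by
  have hFP := Groth.Agent.Helper4.CohFP.isFP_of_isCoh F hF.1 hF.2
  have hDFP := HomShE.isFP_homSh F _ hF (HomShH.isCoh_unit X)
  exact fr1At_dual _ hDFP x (fr1At_dual F hFP x h)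

theorem fr1At_restrict_iff (U : X.Opens) (M : X.Modules) (z : U) :
    FR1At (M.restrict U.ι) z ↔ FR1At M (U.ι z) := by
  constructor
  · intro h
    refine h.of_semilinear (ReflExtB.σ U z).symm (ReflExtB.e U M z) (fun r' m' => ?_)
    have := ReflExtB.hsl U M z ((ReflExtB.σ U z).symm r') m'
    rw [RingEquiv.apply_symm_apply] at this
    exact this
  · intro h
    refine h.of_semilinear (ReflExtB.σ U z) (ReflExtB.e U M z).symm (fun r m => ?_)
    apply (ReflExtB.e U M z).injective
    rw [AddEquiv.apply_symm_apply, ReflExtB.hsl, AddEquiv.apply_symm_apply]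

theorem isInvertible_of_iso {L L' : X.Modules} (e : L ≅ L') (hL : PicF.IsInvertible L) :
    PicF.IsInvertible L' := by
  intro y
  obtain ⟨U, hy, ⟨i⟩⟩ := hL y
  exact ⟨U, hy, ⟨(Scheme.Modules.restrictFunctor U.ι).mapIso e.symm ≪≫ i⟩⟩

theorem genericPoint_mem [IsIntegral X] (V : X.Opens) (hV : (V : Set X).Nonempty) :
    genericPoint X ∈ V := by
  have h := (genericPoint_spec X).mem_open_set_iff V.isOpen
  exact h.mpr (by simpa using hV)

/-- a generically invertible module has a rank one stalk at the generic point -/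
theorem fr1At_generic_of_genInvertible [IsIntegral X] (F : X.Modules)
    (h : RefHull.GenInvertible F) : FR1At F (genericPoint X) := by
  obtain ⟨U, hUd, hinv⟩ := h
  have hη : genericPoint X ∈ U := genericPoint_mem U hUd.nonempty
  let y : U := ⟨genericPoint X, hη⟩
  obtain ⟨V, hyV, ⟨i⟩⟩ := hinv y
  let z : V := ⟨y, hyV⟩
  have h1 : FR1At ((F.restrict U.ι).restrict V.ι) z := fr1At_of_iso i.symm z (fr1At_unit (X := (V : Scheme.{u})) z)
  have h2 : FR1At (F.restrict U.ι) (V.ι z) := (fr1At_restrict_iff V _ z).mp h1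
  have h3 : FR1At F (U.ι (V.ι z)) := (fr1At_restrict_iff U F (V.ι z)).mp h2
  exact h3

/-- a finitely presented module whose stalk at `x` is free of rank one is invertible near `x` -/
theorem exists_iso_unit_of_fr1At (F : X.Modules)
    (hFP : SheafOfModules.IsFinitePresentation (R := X.ringCatSheaf) F) (x : X)
    (h : FR1At F x) :
    ∃ V : X.Opens, x ∈ V ∧ Nonempty (F.restrict V.ι ≅ Coh.structureModule (V : Scheme.{u})) := by
  haveI := Groth.Agent.Helper4.FinLocFree2.isQuasicoherent_of_isFinitePresentation F hFP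
  haveI := h.free
  obtain ⟨V, n, hxV, hV⟩ :=
    Groth.Agent.Helper4.FinLocFree2.exists_isFreeAlong_of_fp_of_flat_stalk F hFP x inferInstance
  obtain ⟨b⟩ := Groth.Agent.Helper4.FinLocFree2.nonempty_basis_stalk_of_isFreeAlong F hV x hxV
  have hn : n = 1 := h.eq_one_of_basis b
  subst hn
  obtain ⟨i⟩ := hV
  exact ⟨V, hxV, ⟨i ≪≫ Groth.Agent.Helper4.QAffSec.freeOneIso _⟩⟩

theorem isInvertible_of_iso_unit {Y : Scheme.{u}} (L : Y.Modules)
    (i : L ≅ Coh.structureModule Y) : PicF.IsInvertible L :=
  isInvertible_of_iso i.symm Groth.Agent.Helper4.TensorInv.isInvertible_structureModule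

theorem genInvertible_of_fr1At_generic [IsIntegral X] (F : X.Modules)
    (hFP : SheafOfModules.IsFinitePresentation (R := X.ringCatSheaf) F)
    (h : FR1At F (genericPoint X)) : RefHull.GenInvertible F := by
  obtain ⟨V, hηV, ⟨i⟩⟩ := exists_iso_unit_of_fr1At F hFP _ h
  exact ⟨V, V.isOpen.dense ⟨_, hηV⟩, isInvertible_of_iso_unit _ i⟩

/-- the stalks of a reflexive coherent module on a normal scheme at the points of codimension
`≤ 1` are free -/
theorem free_stalk_of_isReflexive [IsLocallyNoetherian X] (hX : Pi1.IsNormalScheme X)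
    (F : X.Modules) (hF : Coh.IsCoh F) (hr : RefHull.IsReflexive F) (x : X)
    (hx : ringKrullDim (X.presheaf.stalk x) ≤ 1) :
    Module.Free (X.presheaf.stalk x) (F.presheaf.stalk x) := by
  haveI := (hX x).1
  haveI := (hX x).2
  haveI := hF.1
  haveI : IsPrincipalIdealRing (X.presheaf.stalk x) :=
    ReflExtB.isPrincipalIdealRing_of_normal_dim_le_one _ hx
  haveI : Module.IsReflexive (X.presheaf.stalk x) (F.presheaf.stalk x) :=
    ReflExtA.stalks_of_isReflexive F hF hr x
  haveI : Module.Finite (X.presheaf.stalk x) (F.presheaf.stalk x) :=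
    Groth.Agent.Helper4.FinLocFree2.finite_stalk F hF.2 x
  exact Module.free_of_finite_type_torsion_free'

/-- the stalks of a rank one reflexive module on a normal integral scheme at the points of
codimension `≤ 1` are free of rank one -/
theorem fr1At_of_isRef1 [IsIntegral X] [IsLocallyNoetherian X] (hX : Pi1.IsNormalScheme X)
    (F : X.Modules) (hF : RefHull.IsRef1 F) (x : X)
    (hx : ringKrullDim (X.presheaf.stalk x) ≤ 1) : FR1At F x := by
  have hFP := Groth.Agent.Helper4.CohFP.isFP_of_isCoh F hF.1.1 hF.1.2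
  haveI := hF.1.1
  haveI := free_stalk_of_isReflexive hX F hF.1 hF.2.1 x hx
  obtain ⟨V, n, hxV, hV⟩ :=
    Groth.Agent.Helper4.FinLocFree2.exists_isFreeAlong_of_fp_of_flat_stalk F hFP x inferInstance
  have hηV : genericPoint X ∈ V := genericPoint_mem V ⟨x, hxV⟩
  obtain ⟨bη⟩ := Groth.Agent.Helper4.FinLocFree2.nonempty_basis_stalk_of_isFreeAlong F hV _ hηV
  have hn : n = 1 := (fr1At_generic_of_genInvertible F hF.2.2).eq_one_of_basis bη
  subst hn
  obtain ⟨b⟩ := Groth.Agent.Helper4.FinLocFree2.nonempty_basis_stalk_of_isFreeAlong F hV x hxV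
  exact IsFR1.of_basis b

/-- the biduality map of a coherent module is bijective at the points where the stalk is free -/
theorem bijective_bidualMap_of_free [IsLocallyNoetherian X] (F : X.Modules) (hF : Coh.IsCoh F)
    (x : X) [Module.Free (X.presheaf.stalk x) (F.presheaf.stalk x)] :
    Function.Bijective (RefHull.stalkMapₗ (RefHull.bidualMap F) x) := by
  have hFP := Groth.Agent.Helper4.CohFP.isFP_of_isCoh F hF.1 hF.2
  have hDFP := HomShE.isFP_homSh F _ hF (HomShH.isCoh_unit X)
  haveI := hF.1
  haveI : Module.Finite (X.presheaf.stalk x) (F.presheaf.stalk x) :=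
    Groth.Agent.Helper4.FinLocFree2.finite_stalk F hF.2 x
  refine (HomShF.isReflexiveAt_iff F hFP hDFP x).mp ?_
  exact (inferInstance : Module.IsReflexive (X.presheaf.stalk x) (F.presheaf.stalk x))

end Groth.Agent.Lead.Ref1D
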