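import Mathlib
import Groth.Prelude.Def_RefHull
import Groth.Prelude.Def_RefFun
import Groth.Agent.Lead.Ref1B
import Groth.Agent.Lead.Ref1C
import Groth.Agent.Lead.Ref1D
import Groth.Agent.Lead.HomShC
import Groth.Agent.Helper4.TensorLift

/-!
# The evaluation pairing `F^∨ ⊗ F ⟶ O`
-/

set_option autoImplicit false
set_option linter.style.haveILetI false
set_option linter.unusedSectionVars false

universe u

open CategoryTheory CategoryTheory.Limits AlgebraicGeometry TopologicalSpace Opposite TensorProduct
open Groth.Agent.Lead.Ref1C Groth.Agent.Helper4.TensorLift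
open Groth.Agent.Helper4.StalkDict Groth.Agent.Helper4.QcqsMod

namespace Groth.Agent.Lead.Ref1E

variable {X : Scheme.{u}} (F : X.Modules)

/-- the evaluation pairing, as a bilinear family -/
noncomputable def evBil : Bil (RefHull.dual F) F (Coh.structureModule X) where
  f V g m := HomShC.toLin F (Coh.structureModule X) g m
  add_left V g g' m := by
    apply section_ext
    intro y hy
    rw [map_add, HomShC.germ_toLin, HomShC.germ_toLin, HomShC.germ_toLin]
    rfl
  add_right V g m m' := map_add _ m m'
  smul_left V r g m := by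
    apply section_ext
    intro y hy
    rw [germ_smul, HomShC.germ_toLin, HomShC.germ_toLin]
    rfl
  smul_right V r g m := map_smul _ r m
  map {V V'} i g m := by
    apply section_ext
    intro y hy
    have h1 : (Coh.structureModule X).presheaf.germ V' y hy
        ((Coh.structureModule X).presheaf.map i.op
          (HomShC.toLin F (Coh.structureModule X) g m)) =
        (Coh.structureModule X).presheaf.germ V y (i.le hy)
          (HomShC.toLin F (Coh.structureModule X) g m) :=
      TopCat.Presheaf.germ_res_apply (Coh.structureModule X).presheaf i y hy _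
    rw [h1, HomShC.germ_toLin, HomShC.germ_toLin]
    have h2 : F.presheaf.germ V' y hy (F.presheaf.map i.op m) = F.presheaf.germ V y (i.le hy) m :=
      TopCat.Presheaf.germ_res_apply F.presheaf i y hy m
    rw [h2]
    rfl

/-- the evaluation pairing -/
noncomputable def ev : CohB1.tensorMod (RefHull.dual F) F ⟶ Coh.structureModule X :=
  (evBil F).lift

theorem stalkMapₗ_ev_germ (x : X) (V : X.Opens) (hx : x ∈ V) (g : Γ(RefHull.dual F, V))
    (m : Γ(F, V)) :
    RefHull.stalkMapₗ (ev F) x ((CohB1.tensorMod (RefHull.dual F) F).presheaf.germ V x hx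
      (SecTwist.tmul (RefHull.dual F) F V g m)) = g.1 ⟨x, hx⟩ (F.presheaf.germ V x hx m) := by
  rw [RefHull.stalkMapₗ_germ]
  have h : (ev F).app V (SecTwist.tmul (RefHull.dual F) F V g m) =
      HomShC.toLin F (Coh.structureModule X) g m := (evBil F).lift_tmul V g m
  rw [h, HomShC.germ_toLin]

theorem exists_common {M N : X.Modules} (x : X) (μ : M.presheaf.stalk x) (ν : N.presheaf.stalk x) :
    ∃ (V : X.Opens) (hx : x ∈ V) (a : Γ(M, V)) (b : Γ(N, V)),
      μ = M.presheaf.germ V x hx a ∧ ν = N.presheaf.germ V x hx b := by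
  obtain ⟨U, hU, a, rfl⟩ := TopCat.Presheaf.exists_germ_eq M.presheaf μ
  obtain ⟨U', hU', b, rfl⟩ := TopCat.Presheaf.exists_germ_eq N.presheaf ν
  refine ⟨U ⊓ U', ⟨hU, hU'⟩, M.presheaf.map (homOfLE inf_le_left).op a,
    N.presheaf.map (homOfLE inf_le_right).op b, ?_, ?_⟩
  · exact (TopCat.Presheaf.germ_res_apply M.presheaf (homOfLE inf_le_left : U ⊓ U' ⟶ U) x
      ⟨hU, hU'⟩ a).symm
  · exact (TopCat.Presheaf.germ_res_apply N.presheaf (homOfLE inf_le_right : U ⊓ U' ⟶ U') x
      ⟨hU, hU'⟩ b).symm

theorem ev_comp_stalkTensorEquiv (x : X) :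
    (RefHull.stalkMapₗ (ev F) x).comp
        (Ref1B.stalkTensorEquiv (RefHull.dual F) F x : _ →ₗ[X.presheaf.stalk x] _) =
      (contraction (X.presheaf.stalk x) (F.presheaf.stalk x)
          ((Coh.structureModule X).presheaf.stalk x)).comp
        (TensorProduct.map (RefHull.evalStalk F (Coh.structureModule X) x) LinearMap.id) := by
  apply TensorProduct.ext'
  intro θ v
  obtain ⟨V, hx, g, m, rfl, rfl⟩ := exists_common x θ v
  rw [LinearMap.comp_apply, LinearMap.comp_apply, TensorProduct.map_tmul, contraction_tmul,
    RefHull.evalStalk_germ, LinearMap.id_apply]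
  have h1 : (Ref1B.stalkTensorEquiv (RefHull.dual F) F x : _ →ₗ[X.presheaf.stalk x] _)
      ((RefHull.dual F).presheaf.germ V x hx g ⊗ₜ[X.presheaf.stalk x] F.presheaf.germ V x hx m) =
      (CohB1.tensorMod (RefHull.dual F) F).presheaf.germ V x hx
        (SecTwist.tmul (RefHull.dual F) F V g m) :=
    Ref1B.stalkTensorEquiv_germ (RefHull.dual F) F x V hx g m
  rw [h1]
  exact stalkMapₗ_ev_germ F x V hx g m

/-- **the evaluation pairing is bijective at the points where the stalk is free of rank one** -/
theorem bijective_stalkMapₗ_ev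
    (hFP : SheafOfModules.IsFinitePresentation (R := X.ringCatSheaf) F) (x : X)
    (h : Ref1D.FR1At F x) : Function.Bijective (RefHull.stalkMapₗ (ev F) x) := by
  haveI := hFP
  have hE : Function.Bijective (RefHull.evalStalk F (Coh.structureModule X) x) :=
    ⟨Groth.Agent.Lead.HomSh.evalStalk_injective_of_isFT F _ inferInstance x,
      Groth.Agent.Lead.HomShB.evalStalk_surjective F _ hFP x⟩
  let E := LinearEquiv.ofBijective (RefHull.evalStalk F (Coh.structureModule X) x) hE
  have h1 : Function.Bijective
      (TensorProduct.map (RefHull.evalStalk F (Coh.structureModule X) x)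
        (LinearMap.id : F.presheaf.stalk x →ₗ[X.presheaf.stalk x] F.presheaf.stalk x)) :=
    (TensorProduct.congr E (LinearEquiv.refl _ _)).bijective
  have h2 := contraction_bijective (N := (Coh.structureModule X).presheaf.stalk x) h
  have h3 : Function.Bijective ((RefHull.stalkMapₗ (ev F) x) ∘
      (Ref1B.stalkTensorEquiv (RefHull.dual F) F x)) := by
    have := congrArg (fun l : _ →ₗ[X.presheaf.stalk x] _ => (l : _ → _))
      (ev_comp_stalkTensorEquiv F x)
    simp only [LinearMap.coe_comp, LinearEquiv.coe_coe] at this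
    rw [this]
    exact h2.comp h1
  exact (Function.Bijective.of_comp_iff _ (Ref1B.stalkTensorEquiv (RefHull.dual F) F x).bijective).mp h3

end Groth.Agent.Lead.Ref1E
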