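import Mathlib
import Groth.Prelude.Def_RefHull
import Groth.Prelude.Def_RefFun
import Groth.Prelude.Def_RefPow
import Groth.Prelude.Def_Pi1
import Groth.Agent.Lead.Ref1A
import Groth.Agent.Lead.Ref1B
import Groth.Agent.Lead.Ref1C
import Groth.Agent.Lead.Ref1D
import Groth.Agent.Lead.Ref1E

/-!
# Rank one reflexive modules on a normal integral scheme: closure properties and the group law
-/

set_option autoImplicit false
set_option linter.style.haveILetI false
set_option linter.unusedSectionVars false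

universe u

open CategoryTheory CategoryTheory.Limits AlgebraicGeometry TopologicalSpace Opposite

namespace Groth.Agent.Lead.Ref1F

variable {X : Scheme.{u}}

theorem isReflexive_unit [IsLocallyNoetherian X] :
    RefHull.IsReflexive (Coh.structureModule X) :=
  ReflExtA.isReflexive_of_stalks _ (HomShH.isCoh_unit X)
    (fun x => Module.equiv (Groth.Agent.Lead.Hartogs2.unitEquiv x))

theorem isRef1_unit [IsIntegral X] [IsLocallyNoetherian X] :
    RefHull.IsRef1 (Coh.structureModule X) := by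
  have hO := HomShH.isCoh_unit X
  exact ⟨hO, isReflexive_unit,
    Ref1D.genInvertible_of_fr1At_generic _ (Groth.Agent.Helper4.CohFP.isFP_of_isCoh _ hO.1 hO.2)
      (Ref1D.fr1At_unit _)⟩

theorem isRef1_refTensor [IsIntegral X] [IsLocallyNoetherian X] (F G : X.Modules)
    (hF : RefHull.IsRef1 F) (hG : RefHull.IsRef1 G) : RefHull.IsRef1 (RefPow.refTensor F G) := by
  have hT := Ref1B.isCoh_tensorMod F G hF.1 hG.1
  have hC := ReflExtC.isCoh_ddual _ hT
  refine ⟨hC, Ref1A.isReflexive_ddual _ hT, ?_⟩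
  apply Ref1D.genInvertible_of_fr1At_generic _
    (Groth.Agent.Helper4.CohFP.isFP_of_isCoh _ hC.1 hC.2)
  apply Ref1D.fr1At_ddual _ hT
  exact Ref1D.fr1At_tensorMod F G _ (Ref1D.fr1At_generic_of_genInvertible F hF.2.2)
    (Ref1D.fr1At_generic_of_genInvertible G hG.2.2)

theorem isRef1_dual [IsIntegral X] [IsLocallyNoetherian X] (F : X.Modules)
    (hF : RefHull.IsRef1 F) : RefHull.IsRef1 (RefHull.dual F) := by
  have hC := Ref1A.isCoh_dual F hF.1
  refine ⟨hC, Ref1A.isReflexive_dual F hF.1, ?_⟩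
  apply Ref1D.genInvertible_of_fr1At_generic _
    (Groth.Agent.Helper4.CohFP.isFP_of_isCoh _ hC.1 hC.2)
  exact Ref1D.fr1At_dual F (Groth.Agent.Helper4.CohFP.isFP_of_isCoh _ hF.1.1 hF.1.2) _
    (Ref1D.fr1At_generic_of_genInvertible F hF.2.2)

theorem refTensor_comm (F G : X.Modules) :
    Nonempty (RefPow.refTensor F G ≅ RefPow.refTensor G F) :=
  ⟨RefFun.ddualIso (Ref1B.braid F G)⟩

/-- the reflexive hull of `b ⊗ 1` is an isomorphism -/
theorem isIso_ddualMap_left [IsIntegral X] [IsLocallyNoetherian X] (hX : Pi1.IsNormalScheme X)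
    (F G H : X.Modules) (hF : Coh.IsCoh F) (hG : Coh.IsCoh G) (hH : Coh.IsCoh H)
    (hFr : RefHull.IsReflexive F) (hGr : RefHull.IsReflexive G) :
    IsIso (RefFun.ddualMap
      (KoszTw.tensorMap (RefHull.bidualMap (CohB1.tensorMod F G)) (𝟙 H))) := by
  have hT := Ref1B.isCoh_tensorMod F G hF hG
  apply Ref1A.isIso_ddualMap hX _ (Ref1B.isCoh_tensorMod _ H hT hH)
    (Ref1B.isCoh_tensorMod _ H (ReflExtC.isCoh_ddual _ hT) hH)
  intro x hx
  haveI := Ref1D.free_stalk_of_isReflexive hX F hF hFr x hx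
  haveI := Ref1D.free_stalk_of_isReflexive hX G hG hGr x hx
  haveI := Ref1B.free_stalk_tensorMod F G x
  exact Ref1B.bijective_stalkMapₗ_tensorMap _ _ x
    (Ref1D.bijective_bidualMap_of_free _ hT x)
    (HomShH.bijective_stalkMapₗ_of_isIso (𝟙 H) x)

theorem isIso_ddualMap_right [IsIntegral X] [IsLocallyNoetherian X] (hX : Pi1.IsNormalScheme X)
    (F G H : X.Modules) (hF : Coh.IsCoh F) (hG : Coh.IsCoh G) (hH : Coh.IsCoh H)
    (hGr : RefHull.IsReflexive G) (hHr : RefHull.IsReflexive H) :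
    IsIso (RefFun.ddualMap
      (KoszTw.tensorMap (𝟙 F) (RefHull.bidualMap (CohB1.tensorMod G H)))) := by
  have hT := Ref1B.isCoh_tensorMod G H hG hH
  apply Ref1A.isIso_ddualMap hX _ (Ref1B.isCoh_tensorMod F _ hF hT)
    (Ref1B.isCoh_tensorMod F _ hF (ReflExtC.isCoh_ddual _ hT))
  intro x hx
  haveI := Ref1D.free_stalk_of_isReflexive hX G hG hGr x hx
  haveI := Ref1D.free_stalk_of_isReflexive hX H hH hHr x hx
  haveI := Ref1B.free_stalk_tensorMod G H x
  exact Ref1B.bijective_stalkMapₗ_tensorMap _ _ x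
    (HomShH.bijective_stalkMapₗ_of_isIso (𝟙 F) x)
    (Ref1D.bijective_bidualMap_of_free _ hT x)

theorem refTensor_assoc [IsIntegral X] [IsLocallyNoetherian X] (hX : Pi1.IsNormalScheme X)
    (F G H : X.Modules) (hF : Coh.IsCoh F) (hG : Coh.IsCoh G) (hH : Coh.IsCoh H)
    (hFr : RefHull.IsReflexive F) (hGr : RefHull.IsReflexive G) (hHr : RefHull.IsReflexive H) :
    Nonempty (RefPow.refTensor (RefPow.refTensor F G) H ≅
      RefPow.refTensor F (RefPow.refTensor G H)) := by
  haveI := isIso_ddualMap_left hX F G H hF hG hH hFr hGr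
  haveI := isIso_ddualMap_right hX F G H hF hG hH hGr hHr
  exact ⟨(asIso (RefFun.ddualMap
      (KoszTw.tensorMap (RefHull.bidualMap (CohB1.tensorMod F G)) (𝟙 H)))).symm ≪≫
    RefFun.ddualIso (Ref1B.assoc F G H) ≪≫
    asIso (RefFun.ddualMap
      (KoszTw.tensorMap (𝟙 F) (RefHull.bidualMap (CohB1.tensorMod G H))))⟩

theorem refTensor_unit (F : X.Modules) (hFr : RefHull.IsReflexive F) :
    Nonempty (RefPow.refTensor (Coh.structureModule X) F ≅ F) := by
  haveI : IsIso (RefHull.bidualMap F) := hFr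
  exact ⟨RefFun.ddualIso (Ref1B.unitorL F) ≪≫ (asIso (RefHull.bidualMap F)).symm⟩

theorem refTensor_dual [IsIntegral X] [IsLocallyNoetherian X] (hX : Pi1.IsNormalScheme X)
    (F : X.Modules) (hF : RefHull.IsRef1 F) :
    Nonempty (RefPow.refTensor (RefHull.dual F) F ≅ Coh.structureModule X) := by
  have hO := HomShH.isCoh_unit X
  have hFP := Groth.Agent.Helper4.CohFP.isFP_of_isCoh F hF.1.1 hF.1.2
  haveI : IsIso (RefFun.ddualMap (Ref1E.ev F)) :=
    Ref1A.isIso_ddualMap hX _ (Ref1B.isCoh_tensorMod _ F (Ref1A.isCoh_dual F hF.1) hF.1) hO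
      (fun x hx => Ref1E.bijective_stalkMapₗ_ev F hFP x (Ref1D.fr1At_of_isRef1 hX F hF x hx))
  haveI : IsIso (RefHull.bidualMap (Coh.structureModule X)) := isReflexive_unit
  exact ⟨asIso (RefFun.ddualMap (Ref1E.ev F)) ≪≫
    (asIso (RefHull.bidualMap (Coh.structureModule X))).symm⟩

end Groth.Agent.Lead.Ref1F
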