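import Mathlib
import Groth.Prelude.Def_RefHull
import Groth.Prelude.Def_RefFun
import Groth.Prelude.Def_Pi1
import Groth.Agent.Lead.Ref1A
import Groth.Agent.Lead.Ref1D
import Groth.Agent.Lead.Ref1F
import Groth.Agent.Helper4.SubExt3

/-!
# The zero locus of a section of a rank one reflexive module has pure codimension one
-/

set_option autoImplicit false
set_option linter.style.haveILetI false
set_option linter.unusedSectionVars false

universe u

open CategoryTheory CategoryTheory.Limits AlgebraicGeometry TopologicalSpace Opposite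

namespace Groth.Agent.Lead.Ref1G

open Groth.Agent.Lead.Ref1C Groth.Agent.Lead.Ref1D Groth.Agent.Lead.WeakAss

/-- in a Noetherian quasi-sober space, a maximal point of a closed set has a neighbourhood in which
the closed set is contained in the closure of the point -/
theorem exists_nhd_specializes {α : Type*} [TopologicalSpace α] [NoetherianSpace α] [QuasiSober α]
    {Z : Set α} (hZ : IsClosed Z) (z : α) (hmax : ∀ y ∈ Z, y ⤳ z → y = z) :
    ∃ U : Set α, IsOpen U ∧ z ∈ U ∧ ∀ x ∈ U, x ∈ Z → z ⤳ x := by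
  obtain ⟨S, hSf, hSc, hSi, rfl⟩ := NoetherianSpace.exists_finite_set_isClosed_irreducible hZ
  refine ⟨(⋃₀ {t ∈ S | z ∉ t})ᶜ, ?_, ?_, ?_⟩
  · rw [isOpen_compl_iff]
    rw [Set.sUnion_eq_biUnion]
    exact Set.Finite.isClosed_biUnion (hSf.subset (Set.sep_subset _ _)) (fun t ht => hSc t ht.1)
  · rintro ⟨t, ⟨_, hzt⟩, hzt'⟩
    exact hzt hzt'
  · rintro x hxU ⟨t, htS, hxt⟩
    have hzt : z ∈ t := by
      by_contra hzt
      exact hxU ⟨t, ⟨htS, hzt⟩, hxt⟩
    obtain ⟨y, hy⟩ := QuasiSober.sober (hSi t htS) (hSc t htS)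
    have hyt : y ∈ t := hy.mem
    have hyz : y = z := hmax y ⟨t, htS, hyt⟩ (hy.specializes hzt)
    subst hyz
    exact hy.specializes hxt

variable {X : Scheme.{u}}

theorem exists_opens_specializes [IsLocallyNoetherian X] {Z : Set X} (hZ : IsClosed Z) (z : X)
    (hmax : ∀ y ∈ Z, y ⤳ z → y = z) :
    ∃ U : X.Opens, z ∈ U ∧ ∀ x ∈ U, x ∈ Z → z ⤳ x := by
  obtain ⟨N, hzN, hN⟩ := ReflExtC.exists_noetherian_nhd z
  haveI := hN
  haveI : QuasiSober (N : Set X) := N.isOpen.isOpenEmbedding_subtypeVal.quasiSober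
  let z' : (N : Set X) := ⟨z, hzN⟩
  obtain ⟨U', hU'o, hzU', hU'⟩ := exists_nhd_specializes (α := (N : Set X))
    (Z := Subtype.val ⁻¹' Z) (hZ.preimage continuous_subtype_val) z' (by
      intro y hy hyz
      apply Subtype.ext
      exact hmax y.1 hy (hyz.map continuous_subtype_val))
  refine ⟨⟨Subtype.val '' U', N.isOpen.isOpenEmbedding_subtypeVal.isOpenMap _ hU'o⟩,
    ⟨z', hzU', rfl⟩, ?_⟩
  rintro x ⟨x', hx', rfl⟩ hxZ
  exact (hU' x' hx' hxZ).map continuous_subtype_val


/-- the morphism `O ⟶ F` defined by a global section -/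
theorem exists_unit_hom (F : X.Modules) (s : Γ(F, ⊤)) :
    ∃ σ : Coh.structureModule X ⟶ F, ∀ x : X, ∀ a : X.presheaf.stalk x,
      RefHull.stalkMapₗ σ x (Hartogs2.unitEquiv x a) = a • F.presheaf.germ ⊤ x trivial s := by
  obtain ⟨σ, hσ⟩ := Groth.Agent.Helper4.SubExt.exists_unit_hom_of_section F s
  refine ⟨σ, fun x a => ?_⟩
  have h1 : Hartogs2.unitEquiv x a = a • germF ⊤ x trivial 1 := rfl
  rw [h1, map_smul]
  congr 1
  unfold germF
  rw [RefHull.stalkMapₗ_germ]
  congr 1

theorem dim_le_zero_of_not_one_le (R : Type u) [CommRing R] [Nontrivial R]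
    (hcon : ¬ (1 : WithBot ℕ∞) ≤ ringKrullDim R) : ringKrullDim R ≤ 0 := by
  rw [not_le] at hcon
  have hne : ringKrullDim R ≠ ⊥ := by
    have h0 := ringKrullDim_nonneg_of_nontrivial (R := R)
    intro hb
    rw [hb] at h0
    exact absurd h0 (by simp)
  obtain ⟨e, he⟩ := WithBot.ne_bot_iff_exists.mp hne
  rw [← he] at hcon ⊢
  have h11 : (1 : WithBot ℕ∞) = ((1 : ℕ∞) : WithBot ℕ∞) := rfl
  have h00 : (0 : WithBot ℕ∞) = ((0 : ℕ∞) : WithBot ℕ∞) := rfl
  rw [h11, WithBot.coe_lt_coe] at hcon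
  rw [h00, WithBot.coe_le_coe]
  cases e with
  | top => exact absurd hcon (by simp)
  | coe k =>
    have h1 : k < 1 := by exact_mod_cast hcon
    have h2 : k ≤ 0 := by omega
    exact_mod_cast h2

/-- over a ring in which the nonzero elements are units, a nonzero element of a free module of
rank one is a generator -/
theorem IsFR1.bijective_smul {R M : Type*} [CommRing R] [AddCommGroup M] [Module R M]
    (h : IsFR1 R M) (hR : ∀ c : R, c ≠ 0 → IsUnit c) (m : M) (hm : m ≠ 0) :
    Function.Bijective (fun a : R => a • m) := by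
  obtain ⟨t, ht⟩ := h
  obtain ⟨c, rfl⟩ := ht.2 m
  have hc : c ≠ 0 := by
    rintro rfl
    exact hm (zero_smul _ _)
  obtain ⟨u, rfl⟩ := hR c hc
  have : (fun a : R => a • ((u : R) • t)) = (fun r : R => r • t) ∘ (fun a : R => a * u) := by
    funext a
    simp [mul_smul]
  rw [this]
  refine ht.comp ⟨?_, ?_⟩
  · intro a b hab
    exact (Units.mul_left_inj u).mp hab
  · intro b
    exact ⟨b * ↑u⁻¹, by simp⟩

theorem exists_res_eq_zero (F : X.Modules) {U : X.Opens} (x : X) (hx : x ∈ U) (m : Γ(F, U))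
    (h : F.presheaf.germ U x hx m = 0) :
    ∃ (W : X.Opens) (hW : W ≤ U), x ∈ W ∧ F.presheaf.map (homOfLE hW).op m = 0 := by
  have h' : F.presheaf.germ U x hx m = F.presheaf.germ U x hx 0 := by rw [h, map_zero]
  obtain ⟨W, hxW, iU, iV, e⟩ := TopCat.Presheaf.germ_eq F.presheaf x hx hx _ _ h'
  refine ⟨W, iU.le, hxW, ?_⟩
  rw [map_zero] at e
  exact e

/-- a morphism which is bijective on the sections over all opens contained in `U` is bijective on
the stalks at the points of `U` -/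
theorem bijective_stalkMapₗ_of_app {A B : X.Modules} (φ : A ⟶ B) (U : X.Opens)
    (h : ∀ U' : X.Opens, U' ≤ U → Function.Bijective (φ.app U')) (x : X) (hx : x ∈ U) :
    Function.Bijective (RefHull.stalkMapₗ φ x) := by
  constructor
  · rw [injective_iff_map_eq_zero]
    intro a ha
    obtain ⟨V, hxV, m, rfl⟩ := TopCat.Presheaf.exists_germ_eq A.presheaf a
    have hVU : V ⊓ U ≤ V := inf_le_left
    rw [← TopCat.Presheaf.germ_res_apply A.presheaf (homOfLE hVU) x ⟨hxV, hx⟩] at ha ⊢
    rw [RefHull.stalkMapₗ_germ] at ha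
    obtain ⟨W, hW, hxW, hW0⟩ := exists_res_eq_zero B x _ _ ha
    rw [HomShK.app_res φ hW] at hW0
    have h0 : A.presheaf.map (homOfLE hW).op (A.presheaf.map (homOfLE hVU).op m) = 0 := by
      apply (h W (hW.trans inf_le_right)).1
      rw [hW0, map_zero]
    rw [← TopCat.Presheaf.germ_res_apply A.presheaf (homOfLE hW) x hxW, h0, map_zero]
  · intro b
    obtain ⟨V, hxV, m, rfl⟩ := TopCat.Presheaf.exists_germ_eq B.presheaf b
    have hVU : V ⊓ U ≤ V := inf_le_left
    obtain ⟨m', hm'⟩ := (h (V ⊓ U) inf_le_right).2 (B.presheaf.map (homOfLE hVU).op m)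
    refine ⟨A.presheaf.germ (V ⊓ U) x ⟨hxV, hx⟩ m', ?_⟩
    rw [RefHull.stalkMapₗ_germ, hm']
    exact TopCat.Presheaf.germ_res_apply B.presheaf (homOfLE hVU) x ⟨hxV, hx⟩ m


theorem s16084 (X : Scheme.{u}) [IsIntegral X] [IsLocallyNoetherian X]
    (hX : Pi1.IsNormalScheme X) (F : X.Modules) (hF : RefHull.IsRef1 F) (s : Γ(F, ⊤)) (hs : s ≠ 0)
    (z : ↥X)
    (hz : ¬ Function.Bijective fun a : ↑(X.presheaf.stalk z) => a • F.presheaf.germ ⊤ z trivial s)
    (hmax : ∀ y : ↥X, ¬ Function.Bijective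
      (fun a : ↑(X.presheaf.stalk y) => a • F.presheaf.germ ⊤ y trivial s) → y ⤳ z → y = z) :
    ringKrullDim ↑(X.presheaf.stalk z) = 1 := by
  obtain ⟨σ, hσ⟩ := exists_unit_hom F s
  have hbij : ∀ x : X, Function.Bijective (RefHull.stalkMapₗ σ x) ↔
      Function.Bijective (fun a : X.presheaf.stalk x => a • F.presheaf.germ ⊤ x trivial s) := by
    intro x
    have : (fun a : X.presheaf.stalk x => a • F.presheaf.germ ⊤ x trivial s) =
        RefHull.stalkMapₗ σ x ∘ Hartogs2.unitEquiv x := funext (fun a => (hσ x a).symm)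
    rw [this]
    exact (Function.Bijective.of_comp_iff _ (Hartogs2.unitEquiv x).bijective).symm
  have hO := HomShH.isCoh_unit X
  have hFP := Groth.Agent.Helper4.CohFP.isFP_of_isCoh F hF.1.1 hF.1.2
  have hopen := HomShG.isOpen_bijective σ hO.2 hFP
  haveI := hF.1.1
  -- torsion freeness
  have htf : TorSh.IsTorsionFree F := by
    intro x
    have hall : ∀ y : X, RefHull.IsReflexiveAt F y := ((HomShH.tfae F hF.1).out 0 1).mp hF.2.1
    haveI : Module.IsReflexive (X.presheaf.stalk x) (F.presheaf.stalk x) := hall x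
    infer_instance
  -- the germ of `s` is nonzero
  have hgerm : F.presheaf.germ ⊤ z trivial s ≠ 0 := by
    intro h0
    obtain ⟨V, hV, hzV, hV0⟩ := exists_res_eq_zero F (U := ⊤) z trivial s h0
    exact hs (HomShL.eq_zero_of_torsionFree F htf hV ⟨z, hzV⟩ s hV0)
  by_cases h2 : (2 : WithBot ℕ∞) ≤ ringKrullDim (X.presheaf.stalk z)
  · exfalso
    apply hz
    rw [← hbij]
    let Z : Set X := {x | ¬ Function.Bijective (RefHull.stalkMapₗ σ x)}
    have hZc : IsClosed Z := by
      rw [← isOpen_compl_iff]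
      convert hopen using 1
      ext x
      simp [Z]
    obtain ⟨U, hzU, hU⟩ := exists_opens_specializes hZc z
      (fun y hy hyz => hmax y (fun hb => hy ((hbij y).mpr hb)) hyz)
    have hdepth : ∀ x : X, x ∈ U → x ∈ Z →
        (2 : ℕ∞) ≤ LocCoh.depth (X.presheaf.stalk x) (X.presheaf.stalk x) := by
      intro x hxU hxZ
      have hsp : z ⤳ x := hU x hxU hxZ
      haveI := (hX x).1
      haveI := (hX x).2
      apply ReflExtB.depth_two_of_normal
      rw [ringKrullDim_stalk_eq_coheight] at h2 ⊢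
      refine h2.trans ?_
      have hle : x ≤ z := hsp
      exact_mod_cast Order.coheight_anti hle
    let W : X.Opens := ⟨{x | Function.Bijective (RefHull.stalkMapₗ σ x)}, hopen⟩
    apply bijective_stalkMapₗ_of_app σ U ?_ z hzU
    intro U' hU'
    have hVU : U' ⊓ W ≤ U' := inf_le_left
    have hd : ∀ x : X, x ∈ U' → x ∉ U' ⊓ W →
        (2 : ℕ∞) ≤ LocCoh.depth (X.presheaf.stalk x) (X.presheaf.stalk x) :=
      fun x hxU hx => hdepth x (hU' hxU) (fun hxW => hx ⟨hxU, hxW⟩)
    have h1 := HomShK.normal_of_isReflexive _ hO Ref1F.isReflexive_unit U' (U' ⊓ W) hVU hd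
    have h2' := HomShK.normal_of_isReflexive F hF.1 hF.2.1 U' (U' ⊓ W) hVU hd
    have h3 : Function.Bijective (σ.app (U' ⊓ W)) :=
      TopCat.Presheaf.app_bijective_of_stalkFunctor_map_bijective
        (F := ⟨(Coh.structureModule X).presheaf, (Coh.structureModule X).isSheaf⟩)
        (G := ⟨F.presheaf, F.isSheaf⟩)
        ⟨σ.mapPresheaf⟩ (U' ⊓ W) (fun x hx => hx.2)
    have hsq : ∀ m, F.presheaf.map (homOfLE hVU).op (σ.app U' m) =
        σ.app (U' ⊓ W) ((Coh.structureModule X).presheaf.map (homOfLE hVU).op m) :=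
      fun m => HomShK.app_res σ hVU m
    constructor
    · intro m m' hmm'
      apply h1.1
      apply h3.1
      rw [← hsq, ← hsq, hmm']
    · intro d
      obtain ⟨m₀, hm₀⟩ := h3.2 (F.presheaf.map (homOfLE hVU).op d)
      obtain ⟨m, rfl⟩ := h1.2 m₀
      refine ⟨m, h2'.1 ?_⟩
      rw [hsq, hm₀]
  · have h1 := Ref1A.dim_le_one_of_not_two_le _ h2
    apply le_antisymm h1
    by_contra h0
    have h00 := dim_le_zero_of_not_one_le _ h0
    apply hz
    haveI : Ring.KrullDimLE 0 (X.presheaf.stalk z) := (Ring.krullDimLE_iff).mpr h00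
    have hfield : IsField (X.presheaf.stalk z) := Ring.KrullDimLE.isField_of_isDomain
    have hfr := Ref1D.fr1At_of_isRef1 hX F hF z h1
    exact IsFR1.bijective_smul hfr
      (fun c hc => by
        obtain ⟨b, hb⟩ := hfield.mul_inv_cancel hc
        exact IsUnit.of_mul_eq_one b hb) _ hgerm

end Groth.Agent.Lead.Ref1G
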