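import Mathlib
import Groth.Prelude.Def_RefHull
import Groth.Prelude.Def_RefFun
import Groth.Prelude.Def_Pi1
import Groth.Agent.Lead.Ref1A
import Groth.Agent.Lead.Ref1D
import Groth.Agent.Lead.Ref1G

/-!
# Extending a generic linear map to a morphism into the reflexive hull
-/

set_option autoImplicit false
set_option linter.style.haveILetI false
set_option linter.unusedSectionVars false

universe u

open CategoryTheory CategoryTheory.Limits AlgebraicGeometry TopologicalSpace Opposite

namespace Groth.Agent.Lead.Ref1H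

open Groth.Agent.Helper4.StalkDict Groth.Agent.Helper4.QcqsMod

variable {X : Scheme.{u}}

/-! ### generization maps of stalks of modules -/

section sp

variable (M : X.Modules) {x y : X} (h : y ⤳ x)

theorem sp_germ {U : X.Opens} (hx : x ∈ U) (m : Γ(M, U)) :
    (M.presheaf.stalkSpecializes h).hom (M.presheaf.germ U x hx m) =
      M.presheaf.germ U y (h.mem_open U.isOpen hx) m :=
  TopCat.Presheaf.germ_stalkSpecializes_apply M.presheaf hx h m

theorem spO_germ {U : X.Opens} (hx : x ∈ U) (a : Γ(X, U)) :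
    (X.presheaf.stalkSpecializes h).hom (X.presheaf.germ U x hx a) =
      X.presheaf.germ U y (h.mem_open U.isOpen hx) a :=
  TopCat.Presheaf.germ_stalkSpecializes_apply X.presheaf hx h a

theorem sp_smul (a : X.presheaf.stalk x) (m : M.presheaf.stalk x) :
    (M.presheaf.stalkSpecializes h).hom (a • m) =
      (X.presheaf.stalkSpecializes h).hom a • (M.presheaf.stalkSpecializes h).hom m := by
  obtain ⟨Ua, ha, r, rfl⟩ := TopCat.Presheaf.exists_germ_eq X.presheaf a
  obtain ⟨Uv, hv, s, rfl⟩ := TopCat.Presheaf.exists_germ_eq M.presheaf m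
  rw [← TopCat.Presheaf.germ_res_apply X.presheaf (homOfLE (inf_le_left : Ua ⊓ Uv ≤ Ua)) x ⟨ha, hv⟩,
    ← TopCat.Presheaf.germ_res_apply M.presheaf (homOfLE (inf_le_right : Ua ⊓ Uv ≤ Uv)) x ⟨ha, hv⟩,
    ← germ_smul, sp_germ, sp_germ, spO_germ, germ_smul]

theorem sp_stalkMapₗ {M N : X.Modules} (φ : M ⟶ N) {x y : X} (h : y ⤳ x)
    (m : M.presheaf.stalk x) :
    RefHull.stalkMapₗ φ y ((M.presheaf.stalkSpecializes h).hom m) =
      (N.presheaf.stalkSpecializes h).hom (RefHull.stalkMapₗ φ x m) := by
  obtain ⟨U, hx, s, rfl⟩ := TopCat.Presheaf.exists_germ_eq M.presheaf m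
  rw [sp_germ, RefHull.stalkMapₗ_germ, RefHull.stalkMapₗ_germ, sp_germ]

theorem sp_injective [IsIntegral X] (E : X.Modules) [E.IsQuasicoherent]
    (hE : TorSh.IsTorsionFree E) {x y : X} (h : y ⤳ x) :
    Function.Injective (E.presheaf.stalkSpecializes h).hom := by
  rw [injective_iff_map_eq_zero]
  intro e he
  obtain ⟨U, hx, s, rfl⟩ := TopCat.Presheaf.exists_germ_eq E.presheaf e
  rw [sp_germ] at he
  obtain ⟨W, hW, hyW, hW0⟩ := Ref1G.exists_res_eq_zero E y _ s he
  rw [HomShL.eq_zero_of_torsionFree E hE hW ⟨y, hyW⟩ s hW0, map_zero]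

theorem span_range_sp (M : X.Modules) [M.IsQuasicoherent] {x y : X} (h : y ⤳ x) :
    Submodule.span (X.presheaf.stalk y) (Set.range (M.presheaf.stalkSpecializes h).hom) = ⊤ := by
  obtain ⟨_, ⟨U, hU : IsAffineOpen U, rfl⟩, hxU, -⟩ :=
    X.isBasis_affineOpens.exists_subset_of_mem_open (Set.mem_univ x) isOpen_univ
  have hyU : y ∈ U := h.mem_open U.isOpen hxU
  have h1 := Groth.Agent.Lead.HomSh.span_germ_eq_top hU M Set.univ (by simp) y hyU
  rw [eq_top_iff, ← h1]
  apply Submodule.span_mono
  rintro _ ⟨m, -, rfl⟩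
  exact ⟨M.presheaf.germ U x hxU m, sp_germ M h hxU m⟩

end sp


/-! ### sections of a reflexive module from germs at the generic point -/

theorem isTorsionFree_of_isReflexive [IsIntegral X] [IsLocallyNoetherian X] (H : X.Modules)
    (hH : Coh.IsCoh H) (hHr : RefHull.IsReflexive H) : TorSh.IsTorsionFree H := by
  intro x
  have hall : ∀ y : X, RefHull.IsReflexiveAt H y := ((HomShH.tfae H hH).out 0 1).mp hHr
  haveI : Module.IsReflexive (X.presheaf.stalk x) (H.presheaf.stalk x) := hall x
  infer_instance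

theorem eq_genericPoint_of_dim_le_zero [IsIntegral X] (x : X)
    (h : ringKrullDim (X.presheaf.stalk x) ≤ 0) : x = genericPoint X := by
  rw [ringKrullDim_stalk_eq_coheight] at h
  have h0 : Order.coheight x = 0 := by
    have : Order.coheight x ≤ 0 := by exact_mod_cast h
    exact le_antisymm this bot_le
  have hmax : IsMax x := Order.coheight_eq_zero.mp h0
  have h1 : x ≤ genericPoint X := genericPoint_specializes x
  have h2 : genericPoint X ≤ x := hmax h1
  exact (Specializes.antisymm h2 h1).eq

/-- a reflexive coherent module on a normal scheme: a germ at the generic point which comes from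
the stalks at all the points of codimension one is the germ of a global section -/
theorem exists_section_of_generic [IsIntegral X] [IsLocallyNoetherian X]
    (hX : Pi1.IsNormalScheme X) (H : X.Modules) (hH : Coh.IsCoh H) (hHr : RefHull.IsReflexive H)
    (τ : H.presheaf.stalk (genericPoint X))
    (hτ : ∀ x : X, ringKrullDim (X.presheaf.stalk x) = 1 →
      τ ∈ Set.range (H.presheaf.stalkSpecializes (genericPoint_specializes x)).hom) :
    ∃ t : Γ(H, ⊤), H.presheaf.germ ⊤ (genericPoint X) trivial t = τ := by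
  classical
  haveI := hH.1
  have htf := isTorsionFree_of_isReflexive H hH hHr
  let ι := {p : Σ V : X.Opens, Γ(H, V) //
    ∃ hη : genericPoint X ∈ p.1, H.presheaf.germ p.1 (genericPoint X) hη p.2 = τ}
  let U : ι → X.Opens := fun i => i.1.1
  let sf : ∀ i : ι, Γ(H, U i) := fun i => i.1.2
  have hηU : ∀ i, genericPoint X ∈ U i := fun i => i.2.choose
  have hsf : ∀ i, H.presheaf.germ (U i) (genericPoint X) (hηU i) (sf i) = τ :=
    fun i => i.2.choose_spec
  have hcompat : TopCat.Presheaf.IsCompatible H.presheaf U sf := by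
    intro i j
    rw [← sub_eq_zero]
    have hη : genericPoint X ∈ U i ⊓ U j := ⟨hηU i, hηU j⟩
    have h0 : H.presheaf.germ (U i ⊓ U j) (genericPoint X) hη
        (H.presheaf.map (Opens.infLELeft (U i) (U j)).op (sf i) -
          H.presheaf.map (Opens.infLERight (U i) (U j)).op (sf j)) = 0 := by
      rw [map_sub, TopCat.Presheaf.germ_res_apply, TopCat.Presheaf.germ_res_apply, hsf, hsf,
        sub_self]
    obtain ⟨W, hW, hηW, hW0⟩ := Ref1G.exists_res_eq_zero H _ hη _ h0
    exact HomShL.eq_zero_of_torsionFree H htf hW ⟨_, hηW⟩ _ hW0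
  obtain ⟨s, hs, -⟩ := TopCat.Sheaf.existsUnique_gluing'
    (⟨H.presheaf, H.isSheaf⟩ : TopCat.Sheaf Ab X)
    U (iSup U) (fun i => homOfLE (le_iSup U i)) le_rfl sf hcompat
  -- the generic point
  obtain ⟨V₀, hηV₀, s₀, hs₀⟩ := TopCat.Presheaf.exists_germ_eq H.presheaf τ
  let i₀ : ι := ⟨⟨V₀, s₀⟩, hηV₀, hs₀⟩
  have hηW : genericPoint X ∈ iSup U := le_iSup U i₀ (hηU i₀)
  have hsη : H.presheaf.germ (iSup U) (genericPoint X) hηW s = τ := by
    rw [← hsf i₀, ← hs i₀]
    exact (TopCat.Presheaf.germ_res_apply H.presheaf (homOfLE (le_iSup U i₀)) _ (hηU i₀) s).symm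
  -- the depth condition
  have hd : ∀ x : X, x ∈ (⊤ : X.Opens) → x ∉ iSup U →
      (2 : ℕ∞) ≤ LocCoh.depth (X.presheaf.stalk x) (X.presheaf.stalk x) := by
    intro x _ hxW
    haveI := (hX x).1
    haveI := (hX x).2
    apply ReflExtB.depth_two_of_normal
    by_contra hcon
    apply hxW
    have h1 := Ref1A.dim_le_one_of_not_two_le _ hcon
    by_cases h11 : ringKrullDim (X.presheaf.stalk x) = 1
    · obtain ⟨θ, hθ⟩ := hτ x h11
      obtain ⟨V, hxV, g, rfl⟩ := TopCat.Presheaf.exists_germ_eq H.presheaf θ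
      rw [sp_germ] at hθ
      let i : ι := ⟨⟨V, g⟩, _, hθ⟩
      exact le_iSup U i hxV
    · have h00 : ringKrullDim (X.presheaf.stalk x) ≤ 0 := by
        apply Ref1G.dim_le_zero_of_not_one_le
        intro h1'
        exact h11 (le_antisymm h1 h1')
      rw [eq_genericPoint_of_dim_le_zero x h00]
      exact hηW
  have hbij := HomShK.normal_of_isReflexive H hH hHr ⊤ (iSup U) le_top hd
  obtain ⟨t, ht⟩ := hbij.2 s
  refine ⟨t, ?_⟩
  rw [← hsη, ← ht]
  exact (TopCat.Presheaf.germ_res_apply H.presheaf (homOfLE le_top) _ hηW t).symm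

/-! ### morphisms from global sections of the sheaf Hom -/

/-- a global section of the sheaf Hom defines a morphism -/
theorem exists_hom_of_section (G E : X.Modules) (t : Γ(RefHull.homSh G E, ⊤)) :
    ∃ ψ : G ⟶ E, ∀ x : X, RefHull.stalkMapₗ ψ x = t.1 ⟨x, trivial⟩ := by
  let tV : ∀ V : X.Opens, Γ(RefHull.homSh G E, V) := fun V =>
    (RefHull.homSh G E).presheaf.map (homOfLE (le_top : V ≤ ⊤)).op t
  have htV : ∀ (V : X.Opens) (y : X) (hy : y ∈ V), (tV V).1 ⟨y, hy⟩ = t.1 ⟨y, trivial⟩ :=
    fun _ _ _ => rfl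
  let D : G.presheaf ⟶ E.presheaf :=
    { app := fun V => AddCommGrpCat.ofHom (HomShC.toLin G E (tV V.unop)).toAddMonoidHom
      naturality := by
        intro V W f
        ext m
        apply section_ext
        intro y hy
        change E.presheaf.germ W.unop y hy (HomShC.toLin G E (tV W.unop) (G.presheaf.map f m)) =
          E.presheaf.germ W.unop y hy (E.presheaf.map f (HomShC.toLin G E (tV V.unop) m))
        rw [HomShC.germ_toLin, htV]
        have hWV : W.unop ≤ V.unop := f.unop.le
        have h1 : G.presheaf.germ W.unop y hy (G.presheaf.map f m) =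
            G.presheaf.germ V.unop y (hWV hy) m :=
          TopCat.Presheaf.germ_res_apply G.presheaf f.unop y hy m
        have h2 : E.presheaf.germ W.unop y hy (E.presheaf.map f (HomShC.toLin G E (tV V.unop) m)) =
            E.presheaf.germ V.unop y (hWV hy) (HomShC.toLin G E (tV V.unop) m) :=
          TopCat.Presheaf.germ_res_apply E.presheaf f.unop y hy _
        rw [h1, h2, HomShC.germ_toLin, htV] }
  let ψ : G ⟶ E := ⟨PresheafOfModules.homMk D
    (fun U a m => (HomShC.toLin G E (tV U.unop)).map_smul a m)⟩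
  refine ⟨ψ, fun x => ?_⟩
  apply LinearMap.ext
  intro v
  obtain ⟨V, hxV, m, rfl⟩ := TopCat.Presheaf.exists_germ_eq G.presheaf v
  rw [RefHull.stalkMapₗ_germ]
  change E.presheaf.germ V x hxV (HomShC.toLin G E (tV V) m) = _
  rw [HomShC.germ_toLin, htV]

/-! ### algebra -/

theorem surjective_dual_eval_of_pid (R M : Type*) [CommRing R] [IsDomain R]
    [IsPrincipalIdealRing R] [AddCommGroup M] [Module R M] [Module.Finite R M] :
    Function.Surjective (Module.Dual.eval R M) := by
  let T := Submodule.torsion R M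
  let π : M →ₗ[R] M ⧸ T := T.mkQ
  haveI : Module.IsTorsionFree R (M ⧸ T) := inferInstance
  haveI : Module.Free R (M ⧸ T) := Module.free_of_finite_type_torsion_free'
  have hπs : Function.Surjective (Module.Dual.transpose (R := R) π) := by
    intro g
    have hker : T ≤ LinearMap.ker g := by
      intro t ht
      obtain ⟨a, ha⟩ := (Submodule.mem_torsion_iff t).mp ht
      rw [LinearMap.mem_ker]
      have h1 : (a : R) • g t = 0 := by
        rw [← map_smul]
        have : (a : R) • t = 0 := ha
        rw [this, map_zero]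
      exact (smul_eq_zero.mp h1).resolve_left (nonZeroDivisors.ne_zero a.2)
    refine ⟨T.liftQ g hker, ?_⟩
    ext m
    simp [Module.Dual.transpose_apply, π]
  intro ξ
  obtain ⟨q, hq⟩ := (Module.IsReflexive.bijective_dual_eval' (R := R) (M := M ⧸ T)).2
    (ξ.comp (Module.Dual.transpose (R := R) π))
  obtain ⟨m, rfl⟩ := T.mkQ_surjective q
  refine ⟨m, ?_⟩
  ext g
  obtain ⟨f, rfl⟩ := hπs g
  have := LinearMap.congr_fun hq f
  exact this

theorem free_of_isField (R M : Type*) [CommRing R] [AddCommGroup M] [Module R M] (hR : IsField R) :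
    Module.Free R M := by
  letI := hR.toField
  exact Module.Free.of_divisionRing R M

theorem isField_stalk_generic (X : Scheme.{u}) [IsIntegral X] :
    IsField (X.presheaf.stalk (genericPoint X)) := by
  exact Field.toIsField (X.functionField)

theorem surjective_of_pairing {R M D O : Type*} [CommRing R] [AddCommGroup M] [Module R M]
    [AddCommGroup D] [Module R D] [AddCommGroup O] [Module R O] (u : R ≃ₗ[R] O)
    (E1 : D →ₗ[R] (M →ₗ[R] O)) (hE1 : Function.Bijective E1)
    (b : M →ₗ[R] (D →ₗ[R] O)) (hb : ∀ v θ, b v θ = E1 θ v)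
    (h : Function.Surjective (Module.Dual.eval R M)) : Function.Surjective b := by
  let e1 : D ≃ₗ[R] Module.Dual R M :=
    (LinearEquiv.ofBijective E1 hE1).trans (LinearEquiv.congrRight u.symm)
  let e2 : (D →ₗ[R] O) ≃ₗ[R] Module.Dual R (Module.Dual R M) := LinearEquiv.arrowCongr e1 u.symm
  have key : ∀ v, e2 (b v) = Module.Dual.eval R M v := by
    intro v
    ext f
    obtain ⟨θ, rfl⟩ := e1.surjective f
    rw [LinearEquiv.arrowCongr_apply, hb, Module.Dual.eval_apply, LinearEquiv.symm_apply_apply]
    rfl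
  have h2 : (Module.Dual.eval R M : M → _) = e2 ∘ b := by
    funext v; exact (key v).symm
  rw [h2] at h
  exact Function.Surjective.of_comp_left h e2.injective

/-- the biduality map is surjective on the stalks at the points whose local ring is principal -/
theorem surjective_stalkMapₗ_bidualMap [IsLocallyNoetherian X] (F : X.Modules) (hF : Coh.IsCoh F)
    (x : X) [IsDomain (X.presheaf.stalk x)] [IsPrincipalIdealRing (X.presheaf.stalk x)] :
    Function.Surjective (RefHull.stalkMapₗ (RefHull.bidualMap F) x) := by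
  have hFP := Groth.Agent.Helper4.CohFP.isFP_of_isCoh F hF.1 hF.2
  have hDFP := HomShE.isFP_homSh F _ hF (HomShH.isCoh_unit X)
  haveI := hF.1
  haveI := hFP
  haveI := hDFP
  haveI : Module.Finite (X.presheaf.stalk x) (F.presheaf.stalk x) :=
    Groth.Agent.Helper4.FinLocFree2.finite_stalk F hF.2 x
  have hE1 : Function.Bijective (RefHull.evalStalk F (Coh.structureModule X) x) :=
    ⟨Groth.Agent.Lead.HomSh.evalStalk_injective_of_isFT F _ inferInstance x,
      Groth.Agent.Lead.HomShB.evalStalk_surjective F _ hFP x⟩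
  have hE2 : Function.Injective
      (RefHull.evalStalk (RefHull.dual F) (Coh.structureModule X) x) :=
    Groth.Agent.Lead.HomSh.evalStalk_injective_of_isFT (RefHull.dual F) _ inferInstance x
  have h1 := surjective_of_pairing (Groth.Agent.Lead.Hartogs2.unitEquiv x)
    (RefHull.evalStalk F (Coh.structureModule X) x) hE1 (RefHull.bidualAt F x) (fun v θ => rfl)
    (surjective_dual_eval_of_pid _ _)
  have h2 : (RefHull.bidualAt F x : F.presheaf.stalk x → _) =
      (RefHull.evalStalk (RefHull.dual F) (Coh.structureModule X) x) ∘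
        (RefHull.stalkMapₗ (RefHull.bidualMap F) x) :=
    funext fun v => (HomShF.evalStalk_stalkMap_bidualMap F x v).symm
  rw [h2] at h1
  exact Function.Surjective.of_comp_left h1 hE2

/-- the evaluation maps are compatible with generization -/
theorem evalStalk_sp (G E : X.Modules) {x y : X} (h : y ⤳ x)
    (θ : (RefHull.homSh G E).presheaf.stalk x) (g : G.presheaf.stalk x) :
    RefHull.evalStalk G E y (((RefHull.homSh G E).presheaf.stalkSpecializes h).hom θ)
        ((G.presheaf.stalkSpecializes h).hom g) =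
      (E.presheaf.stalkSpecializes h).hom (RefHull.evalStalk G E x θ g) := by
  obtain ⟨V, hxV, t, rfl⟩ := TopCat.Presheaf.exists_germ_eq (RefHull.homSh G E).presheaf θ
  obtain ⟨V', hxV', m, rfl⟩ := TopCat.Presheaf.exists_germ_eq G.presheaf g
  rw [← TopCat.Presheaf.germ_res_apply (RefHull.homSh G E).presheaf
      (homOfLE (inf_le_left : V ⊓ V' ≤ V)) x ⟨hxV, hxV'⟩,
    ← TopCat.Presheaf.germ_res_apply G.presheaf (homOfLE (inf_le_right : V ⊓ V' ≤ V')) x
      ⟨hxV, hxV'⟩]
  rw [sp_germ, sp_germ, RefHull.evalStalk_germ, RefHull.evalStalk_germ,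
    ← HomShC.germ_toLin, ← HomShC.germ_toLin, sp_germ]


/-! ### the main theorem -/

theorem s16083 (X : Scheme.{u}) [IsIntegral X] [IsLocallyNoetherian X]
    (hX : Pi1.IsNormalScheme X) (F G : X.Modules) (hF : Coh.IsCoh F) (hG : Coh.IsCoh G)
    (T : ↑(G.presheaf.stalk (genericPoint ↥X)) →ₗ[↑(X.presheaf.stalk (genericPoint ↥X))]
      ↑(F.presheaf.stalk (genericPoint ↥X))) :
    (∃ ψ : G ⟶ RefHull.ddual F, RefHull.stalkMapₗ ψ (genericPoint ↥X) =
        (RefHull.stalkMapₗ (RefHull.bidualMap F) (genericPoint ↥X)).comp T) ↔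
      ∀ x : ↥X, ringKrullDim ↑(X.presheaf.stalk x) = 1 →
        Set.MapsTo ⇑T
          (Set.range ⇑(G.presheaf.stalkSpecializes
            ((genericPoint_spec ↥X).specializes (Set.mem_univ x))).hom)
          (Set.range ⇑(F.presheaf.stalkSpecializes
            ((genericPoint_spec ↥X).specializes (Set.mem_univ x))).hom) := by
  have hE : Coh.IsCoh (RefHull.ddual F) := ReflExtC.isCoh_ddual F hF
  have hEr : RefHull.IsReflexive (RefHull.ddual F) := Ref1A.isReflexive_ddual F hF
  have htfE := isTorsionFree_of_isReflexive _ hE hEr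
  haveI := hE.1
  haveI := hG.1
  haveI := hF.1
  constructor
  · rintro ⟨ψ, hψ⟩ x hx
    rintro _ ⟨g, rfl⟩
    have hsp : genericPoint X ⤳ x := (genericPoint_spec ↥X).specializes (Set.mem_univ x)
    haveI := (hX x).1
    haveI := (hX x).2
    haveI : IsPrincipalIdealRing (X.presheaf.stalk x) :=
      ReflExtB.isPrincipalIdealRing_of_normal_dim_le_one _ hx.le
    obtain ⟨m, hm⟩ := surjective_stalkMapₗ_bidualMap F hF x (RefHull.stalkMapₗ ψ x g)
    refine ⟨m, ?_⟩
    haveI : Module.Free (X.presheaf.stalk (genericPoint X))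
        (F.presheaf.stalk (genericPoint X)) := free_of_isField _ _ (isField_stalk_generic X)
    apply (Ref1D.bijective_bidualMap_of_free F hF (genericPoint X)).1
    rw [sp_stalkMapₗ, hm, ← sp_stalkMapₗ, hψ]
    rfl
  · intro h
    have hH : Coh.IsCoh (RefHull.homSh G (RefHull.ddual F)) := HomShE.isCoh_homSh G _ hG hE
    have hHr := HomShI.isReflexive_homSh G _ hG hE hEr
    have hGFP := Groth.Agent.Helper4.CohFP.isFP_of_isCoh G hG.1 hG.2
    haveI := hGFP
    have hEv : ∀ y : X, Function.Bijective (RefHull.evalStalk G (RefHull.ddual F) y) := fun y =>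
      ⟨Groth.Agent.Lead.HomSh.evalStalk_injective_of_isFT G _ inferInstance y,
        Groth.Agent.Lead.HomShB.evalStalk_surjective G _ hGFP y⟩
    obtain ⟨τ, hτ⟩ := (hEv (genericPoint X)).2
      ((RefHull.stalkMapₗ (RefHull.bidualMap F) (genericPoint ↥X)).comp T)
    obtain ⟨t, ht⟩ := exists_section_of_generic hX _ hH hHr τ (by
      intro x hx
      have hsp : genericPoint X ⤳ x := genericPoint_specializes x
      -- the map on the stalks at `x`
      have hex : ∀ g : G.presheaf.stalk x, ∃ e : (RefHull.ddual F).presheaf.stalk x,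
          ((RefHull.ddual F).presheaf.stalkSpecializes hsp).hom e =
            RefHull.stalkMapₗ (RefHull.bidualMap F) (genericPoint X)
              (T ((G.presheaf.stalkSpecializes hsp).hom g)) := by
        intro g
        obtain ⟨m, hm⟩ := h x hx ⟨g, rfl⟩
        refine ⟨RefHull.stalkMapₗ (RefHull.bidualMap F) x m, ?_⟩
        rw [← sp_stalkMapₗ]
        exact congrArg _ hm
      choose fx hfx using hex
      have hinj := sp_injective (RefHull.ddual F) htfE hsp
      let fxl : RefHull.StalkHom G (RefHull.ddual F) x :=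
        { toFun := fx
          map_add' := by
            intro g g'
            apply hinj
            rw [map_add, hfx, hfx, hfx, map_add, map_add, map_add]
          map_smul' := by
            intro a g
            apply hinj
            rw [RingHom.id_apply, sp_smul, hfx, hfx, sp_smul, map_smul, map_smul] }
      obtain ⟨θ, hθ⟩ := (hEv x).2 fxl
      refine ⟨θ, ?_⟩
      apply (hEv (genericPoint X)).1
      rw [hτ]
      refine LinearMap.ext_on (span_range_sp G hsp) ?_
      rintro _ ⟨g, rfl⟩
      rw [evalStalk_sp, hθ]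
      exact hfx g)
    obtain ⟨ψ, hψ⟩ := exists_hom_of_section G (RefHull.ddual F) t
    refine ⟨ψ, ?_⟩
    rw [hψ, ← hτ, ← ht, RefHull.evalStalk_germ]

end Groth.Agent.Lead.Ref1H
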