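import Mathlib
import Groth.Prelude.Def_RefHull
import Groth.Prelude.Def_RefFun
import Groth.Prelude.Def_Pi1
import Groth.Prelude.Def_C1
import Groth.Agent.Lead.Ref1A
import Groth.Agent.Lead.Ref1D
import Groth.Agent.Lead.Ref1G
import Groth.Agent.Lead.Ref1H
import Groth.Agent.Helper3.OrdOpen
import Groth.Agent.Helper6.Dim1Ord

/-!
# Orders of rational sections of rank one reflexive modules
-/

set_option autoImplicit false
set_option linter.style.haveILetI false
set_option linter.unusedSectionVars false

universe u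

open CategoryTheory CategoryTheory.Limits AlgebraicGeometry TopologicalSpace Opposite

namespace Groth.Agent.Lead.Ref1I

open Groth.Agent.Helper4.StalkDict Groth.Agent.Helper4.QcqsMod

variable {X : Scheme.{u}} [IsIntegral X] [IsLocallyNoetherian X]

/-- the residue map at the generic point, on the function field -/
noncomputable def resK : X.functionField →+* X.residueField (genericPoint X) :=
  (X.residue (genericPoint X)).hom

theorem resK_bijective : Function.Bijective (resK (X := X)) :=
  ⟨RingHom.injective _, IsLocalRing.residue_surjective⟩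

theorem specMap_apply (x : X) (h : genericPoint X ⤳ x) (a : X.presheaf.stalk x) :
    Cyc.specMap x (genericPoint X) h a = resK (algebraMap (X.presheaf.stalk x) X.functionField a) :=
  rfl

theorem specMap_injective (x : X) (h : genericPoint X ⤳ x) :
    Function.Injective (Cyc.specMap x (genericPoint X) h) := by
  intro a b hab
  rw [specMap_apply, specMap_apply] at hab
  exact IsFractionRing.injective (X.presheaf.stalk x) X.functionField (resK_bijective.1 hab)

/-- the order along `η ⤳ x` of the prelude is Mathlib's order of vanishing -/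
theorem ordAt_resK (x : X) (hx : Order.coheight x = 1) (h : genericPoint X ⤳ x)
    (φ : X.functionField) :
    Cyc.ordAt x (genericPoint X) h (resK φ) = Scheme.ord φ x := by
  haveI : Ring.KrullDimLE 1 (X.presheaf.stalk x) := krullDimLE_of_coheight_le hx.le
  have hinj := specMap_injective x h
  have hker : RingHom.ker (Cyc.specMap x (genericPoint X) h) = ⊥ :=
    (RingHom.injective_iff_ker_eq_bot _).mp hinj
  let e : X.presheaf.stalk x ≃+* Cyc.LocQuot x (genericPoint X) h :=
    RingEquiv.ofBijective (Ideal.Quotient.mk _)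
      ⟨by rw [RingHom.injective_iff_ker_eq_bot, Ideal.mk_ker, hker], Ideal.Quotient.mk_surjective⟩
  have halg : ∀ r : X.presheaf.stalk x,
      algebraMap (Cyc.LocQuot x (genericPoint X) h) (X.residueField (genericPoint X)) (e r) =
        resK (algebraMap (X.presheaf.stalk x) X.functionField r) := fun r => rfl
  haveI : IsDomain (Cyc.LocQuot x (genericPoint X) h) := e.symm.toMulEquiv.isDomain _
  haveI : Ring.KrullDimLE 1 (Cyc.LocQuot x (genericPoint X) h) := by
    rw [Ring.krullDimLE_iff, ← ringKrullDim_eq_of_ringEquiv e]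
    exact Ring.krullDimLE_iff.mp inferInstance
  haveI : FaithfulSMul (Cyc.LocQuot x (genericPoint X) h) (X.residueField (genericPoint X)) := by
    rw [faithfulSMul_iff_algebraMap_injective]
    intro a b hab
    obtain ⟨a, rfl⟩ := e.surjective a
    obtain ⟨b, rfl⟩ := e.surjective b
    rw [halg, halg] at hab
    exact congrArg e (IsFractionRing.injective _ _ (resK_bijective.1 hab))
  haveI : IsFractionRing (Cyc.LocQuot x (genericPoint X) h) (X.residueField (genericPoint X)) :=
    IsFractionRing.of_field _ _ (by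
      intro z
      obtain ⟨ψ, rfl⟩ := resK_bijective.2 z
      obtain ⟨a, b, hb, rfl⟩ := IsFractionRing.div_surjective (A := X.presheaf.stalk x) ψ
      exact ⟨e a, e b, by rw [halg, halg, map_div₀]⟩)
  unfold Cyc.ordAt
  rw [Groth.Agent.Helper6.Dim1.ordFrac_eq]
  have h1 := Groth.Agent.Helper3.OrdOpen.ordFrac_equiv e (ψ := resK)
    (hψ := fun r => (halg r).symm) φ
  rw [h1]
  by_cases hφ : φ = 0
  · subst hφ
    simp
  · rw [Scheme.ord_eq_unzero_ordHom hx hφ]
    have hne : Ring.ordFrac (X.presheaf.stalk x) φ ≠ 0 := (map_ne_zero _).mpr hφ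
    obtain ⟨z, hz⟩ := WithZero.ne_zero_iff_exists.mp hne
    have h2 : Scheme.ordHom x hx φ = Ring.ordFrac (X.presheaf.stalk x) φ := rfl
    simp only [h2, ← hz, WithZero.recZeroCoe_coe, WithZero.unzero_coe]


/-! ### the fibre at the generic point -/

theorem eq_zero_of_mem_maximalIdeal_generic (a : X.presheaf.stalk (genericPoint X))
    (ha : a ∈ IsLocalRing.maximalIdeal (X.presheaf.stalk (genericPoint X))) : a = 0 := by
  by_contra h0
  obtain ⟨b, hb⟩ := (Ref1H.isField_stalk_generic X).mul_inv_cancel h0
  exact (IsLocalRing.mem_maximalIdeal _).mp ha (IsUnit.of_mul_eq_one b hb)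

/-- the quotient map onto the fibre at the generic point -/
noncomputable def mkη (F : X.Modules) :
    F.presheaf.stalk (genericPoint X) →ₗ[X.presheaf.stalk (genericPoint X)]
      Cyc.secFibre F (genericPoint X) :=
  Submodule.mkQ _

theorem mkη_surjective (F : X.Modules) : Function.Surjective (mkη F) :=
  Submodule.mkQ_surjective _

theorem mkη_injective (F : X.Modules) : Function.Injective (mkη F) := by
  rw [injective_iff_map_eq_zero]
  intro v hv
  have hv' : v ∈ IsLocalRing.maximalIdeal (X.presheaf.stalk (genericPoint X)) •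
      (⊤ : Submodule (X.presheaf.stalk (genericPoint X)) (F.presheaf.stalk (genericPoint X))) :=
    (Submodule.Quotient.mk_eq_zero _).mp hv
  refine Submodule.smul_induction_on hv' ?_ ?_
  · intro a ha n _
    rw [eq_zero_of_mem_maximalIdeal_generic a ha, zero_smul]
  · intro v w hv hw
    rw [hv, hw, add_zero]

/-- `t` generates the stalk freely -/
def IsGen (F : X.Modules) (x : X) (t : F.presheaf.stalk x) : Prop :=
  Function.Bijective (fun a : X.presheaf.stalk x => a • t)

theorem IsGen.span_eq_top {F : X.Modules} {x : X} {t : F.presheaf.stalk x} (ht : IsGen F x t) :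
    Submodule.span (X.presheaf.stalk x) {t} = ⊤ := by
  rw [eq_top_iff]
  intro v _
  obtain ⟨a, rfl⟩ := ht.2 v
  exact Submodule.mem_span_singleton.mpr ⟨a, rfl⟩

theorem IsGen.ne_zero {F : X.Modules} {x : X} {t : F.presheaf.stalk x} (ht : IsGen F x t) :
    t ≠ 0 := by
  rintro rfl
  have := ht.1 (a₁ := 0) (a₂ := 1) (by simp)
  exact zero_ne_one this

/-- the image of a generator of `F_x` is a basis of the fibre at the generic point -/
theorem bijective_smul_mkη (F : X.Modules) [F.IsQuasicoherent] (htf : TorSh.IsTorsionFree F)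
    {x : X} (h : genericPoint X ⤳ x) {t : F.presheaf.stalk x} (ht : IsGen F x t) :
    Function.Bijective (fun c : X.presheaf.stalk (genericPoint X) =>
      c • mkη F ((F.presheaf.stalkSpecializes h).hom t)) := by
  constructor
  · intro c c' hcc'
    have h1 : mkη F ((c - c') • (F.presheaf.stalkSpecializes h).hom t) = 0 := by
      rw [map_smul, sub_smul]
      exact sub_eq_zero.mpr hcc'
    have h2 := (injective_iff_map_eq_zero (mkη F)).mp (mkη_injective F) _ h1
    haveI := htf (genericPoint X)
    by_contra hne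
    have hreg : IsSMulRegular (F.presheaf.stalk (genericPoint X)) (c - c') :=
      Module.IsTorsionFree.isSMulRegular (isRegular_of_ne_zero (sub_ne_zero.mpr hne))
    have h3 : (F.presheaf.stalkSpecializes h).hom t = 0 :=
      hreg (by change (c - c') • _ = (c - c') • (0 : F.presheaf.stalk (genericPoint X)); rw [h2, smul_zero])
    have h4 := (injective_iff_map_eq_zero _).mp (Ref1H.sp_injective F htf h) _ h3
    exact ht.ne_zero h4
  · intro w
    obtain ⟨v, rfl⟩ := mkη_surjective F w
    have hv : v ∈ Submodule.span (X.presheaf.stalk (genericPoint X))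
        (Set.range (F.presheaf.stalkSpecializes h).hom) := by
      rw [Ref1H.span_range_sp F h]; trivial
    have hle : Submodule.span (X.presheaf.stalk (genericPoint X))
        (Set.range (F.presheaf.stalkSpecializes h).hom) ≤
        Submodule.span (X.presheaf.stalk (genericPoint X))
          {(F.presheaf.stalkSpecializes h).hom t} := by
      rw [Submodule.span_le]
      rintro _ ⟨m, rfl⟩
      obtain ⟨a, rfl⟩ := ht.2 m
      change (F.presheaf.stalkSpecializes h).hom (a • t) ∈ _
      rw [Ref1H.sp_smul]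
      exact Submodule.smul_mem _ _ (Submodule.subset_span rfl)
    obtain ⟨c, rfl⟩ := Submodule.mem_span_singleton.mp (hle hv)
    exact ⟨c, (map_smul _ _ _).symm⟩


theorem ord_algebraMap_of_isUnit (x : X) (b : X.presheaf.stalk x) (hb : IsUnit b) :
    Scheme.ord (algebraMap (X.presheaf.stalk x) X.functionField b) x = 0 := by
  by_cases hx : Order.coheight x = 1
  · haveI : Ring.KrullDimLE 1 (X.presheaf.stalk x) := krullDimLE_of_coheight_le hx.le
    have hne : algebraMap (X.presheaf.stalk x) X.functionField b ≠ 0 := by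
      intro h0
      have := IsFractionRing.injective (X.presheaf.stalk x) X.functionField
        (h0.trans (map_zero _).symm)
      exact hb.ne_zero this
    rw [Scheme.ord_eq_iff hx hne]
    exact Ring.ordFrac_of_isUnit hb
  · exact Scheme.ord_eq_zero_of_coheight_neq_one hx _

/-- **the order of a rational section, computed with any generator** -/
theorem secOrdAt_eq (F : X.Modules) [F.IsQuasicoherent] (htf : TorSh.IsTorsionFree F)
    (x : X) (hx : Order.coheight x = 1) (h : genericPoint X ⤳ x)
    (t : F.presheaf.stalk x) (ht : IsGen F x t) (s : Cyc.secFibre F (genericPoint X))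
    (φ : X.functionField)
    (hs : s = φ • mkη F ((F.presheaf.stalkSpecializes h).hom t)) :
    Cyc.secOrdAt F (genericPoint X) x h s = Scheme.ord φ x := by
  unfold Cyc.secOrdAt
  have hex1 : ∃ t : F.presheaf.stalk x, Submodule.span (X.presheaf.stalk x) {t} = ⊤ :=
    ⟨t, ht.span_eq_top⟩
  rw [dif_pos hex1]
  have ht₀ := Classical.choose_spec hex1
  generalize Classical.choose hex1 = t₀ at ht₀
  obtain ⟨b, hb⟩ : ∃ b : X.presheaf.stalk x, b • t₀ = t :=
    Submodule.mem_span_singleton.mp (ht₀ ▸ Submodule.mem_top)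
  obtain ⟨a, ha⟩ := ht.2 t₀
  have ha : a • t = t₀ := ha
  have hab : b * a = 1 := by
    apply ht.1
    change (b * a) • t = (1 : X.presheaf.stalk x) • t
    rw [mul_smul, ha, hb, one_smul]
  have hbu : IsUnit b := IsUnit.of_mul_eq_one a hab
  have hspt₀ : mkη F ((F.presheaf.stalkSpecializes h).hom t₀) =
      algebraMap (X.presheaf.stalk x) X.functionField a •
        mkη F ((F.presheaf.stalkSpecializes h).hom t) := by
    rw [← ha, Ref1H.sp_smul, map_smul]
    rfl
  have hex2 : ∃ φ' : X.presheaf.stalk (genericPoint X),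
      s = φ' • (Submodule.Quotient.mk ((F.presheaf.stalkSpecializes h) t₀) :
        Cyc.secFibre F (genericPoint X)) := by
    refine ⟨φ * algebraMap (X.presheaf.stalk x) X.functionField b, ?_⟩
    change s = _ • mkη F ((F.presheaf.stalkSpecializes h).hom t₀)
    rw [hs, hspt₀, smul_smul, mul_assoc, ← map_mul, hab, map_one, mul_one]
  rw [dif_pos hex2]
  have hφ₀ := Classical.choose_spec hex2
  generalize Classical.choose hex2 = φ₀ at hφ₀
  have hφ₀' : φ₀ = φ * algebraMap (X.presheaf.stalk x) X.functionField b := by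
    have h1 : φ₀ * algebraMap (X.presheaf.stalk x) X.functionField a = φ := by
      apply (bijective_smul_mkη F htf h ht).1
      change (φ₀ * _) • mkη F ((F.presheaf.stalkSpecializes h).hom t) =
        φ • mkη F ((F.presheaf.stalkSpecializes h).hom t)
      rw [← hs, mul_smul, ← hspt₀]
      exact hφ₀.symm
    rw [← h1, mul_assoc, ← map_mul, mul_comm a b, hab, map_one, mul_one]
  change Cyc.ordAt x (genericPoint X) h (resK φ₀) = _
  rw [ordAt_resK x hx h, hφ₀']
  by_cases hφ : φ = 0
  · subst hφ
    simp
  · have hne : algebraMap (X.presheaf.stalk x) X.functionField b ≠ 0 := by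
      intro h0
      have := IsFractionRing.injective (X.presheaf.stalk x) X.functionField
        (h0.trans (map_zero _).symm)
      exact hbu.ne_zero this
    rw [Scheme.ord_mul hφ hne, ord_algebraMap_of_isUnit x b hbu, add_zero]


/-! ### generators -/

theorem bijective_smul_tmul {R M N : Type*} [CommRing R] [AddCommGroup M] [Module R M]
    [AddCommGroup N] [Module R N] {t : M} {u : N}
    (ht : Function.Bijective (fun r : R => r • t)) (hu : Function.Bijective (fun r : R => r • u)) :
    Function.Bijective (fun r : R => r • (t ⊗ₜ[R] u)) := by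
  let e₁ : R ≃ₗ[R] M := LinearEquiv.ofBijective (LinearMap.toSpanSingleton R M t) ht
  let e₂ : R ≃ₗ[R] N := LinearEquiv.ofBijective (LinearMap.toSpanSingleton R N u) hu
  let e : R ≃ₗ[R] TensorProduct R M N := (TensorProduct.lid R R).symm ≪≫ₗ TensorProduct.congr e₁ e₂
  have : (fun r : R => r • (t ⊗ₜ[R] u)) = e := by
    funext r
    change _ = TensorProduct.congr e₁ e₂ ((TensorProduct.lid R R).symm r)
    rw [TensorProduct.lid_symm_apply, TensorProduct.congr_tmul]
    change _ = ((1 : R) • t) ⊗ₜ[R] (r • u)
    rw [one_smul, TensorProduct.tmul_smul]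
  rw [this]
  exact e.bijective

theorem bijective_smul_map {R M N : Type*} [CommRing R] [AddCommGroup M] [Module R M]
    [AddCommGroup N] [Module R N] (f : M →ₗ[R] N) (hf : Function.Bijective f) {t : M}
    (ht : Function.Bijective (fun r : R => r • t)) :
    Function.Bijective (fun r : R => r • f t) := by
  have : (fun r : R => r • f t) = f ∘ (fun r : R => r • t) := by
    funext r; simp
  rw [this]
  exact hf.comp ht

omit [IsIntegral X] [IsLocallyNoetherian X] in
/-- the pairing `F_x × G_x → ((F ⊗ G)^**)_x` -/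
noncomputable def pair (F G : X.Modules) (x : X) (a : F.presheaf.stalk x)
    (c : G.presheaf.stalk x) : (RefHull.ddual (CohB1.tensorMod F G)).presheaf.stalk x :=
  RefHull.stalkMapₗ (RefHull.bidualMap (CohB1.tensorMod F G)) x
    (Ref1B.stalkTensorEquiv F G x (a ⊗ₜ c))

omit [IsIntegral X] [IsLocallyNoetherian X] in
theorem pair_smul_smul (F G : X.Modules) (x : X) (φ ψ : X.presheaf.stalk x)
    (a : F.presheaf.stalk x) (c : G.presheaf.stalk x) :
    pair F G x (φ • a) (ψ • c) = (φ * ψ) • pair F G x a c := by
  unfold pair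
  rw [TensorProduct.smul_tmul_smul, map_smul, map_smul]

omit [IsIntegral X] [IsLocallyNoetherian X] in
theorem sp_pair (F G : X.Modules) {x y : X} (h : y ⤳ x) (a : F.presheaf.stalk x)
    (c : G.presheaf.stalk x) :
    ((RefHull.ddual (CohB1.tensorMod F G)).presheaf.stalkSpecializes h).hom (pair F G x a c) =
      pair F G y ((F.presheaf.stalkSpecializes h).hom a) ((G.presheaf.stalkSpecializes h).hom c) := by
  obtain ⟨V, hxV, m, rfl⟩ := TopCat.Presheaf.exists_germ_eq F.presheaf a
  obtain ⟨V', hxV', n, rfl⟩ := TopCat.Presheaf.exists_germ_eq G.presheaf c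
  rw [← TopCat.Presheaf.germ_res_apply F.presheaf (homOfLE (inf_le_left : V ⊓ V' ≤ V)) x
      ⟨hxV, hxV'⟩,
    ← TopCat.Presheaf.germ_res_apply G.presheaf (homOfLE (inf_le_right : V ⊓ V' ≤ V')) x
      ⟨hxV, hxV'⟩]
  unfold pair
  rw [Ref1H.sp_germ, Ref1H.sp_germ, Ref1B.stalkTensorEquiv_germ, Ref1B.stalkTensorEquiv_germ,
    ← Ref1H.sp_stalkMapₗ, Ref1H.sp_germ]

omit [IsIntegral X] in
theorem isGen_pair (F G : X.Modules) (hF : Coh.IsCoh F) (hG : Coh.IsCoh G) (x : X)
    {a : F.presheaf.stalk x} {c : G.presheaf.stalk x} (ha : IsGen F x a) (hc : IsGen G x c) :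
    IsGen (RefHull.ddual (CohB1.tensorMod F G)) x (pair F G x a c) := by
  have hP := Ref1B.isCoh_tensorMod F G hF hG
  have h1 : Function.Bijective (fun r : X.presheaf.stalk x =>
      r • Ref1B.stalkTensorEquiv F G x (a ⊗ₜ c)) :=
    bijective_smul_map (Ref1B.stalkTensorEquiv F G x).toLinearMap
      (Ref1B.stalkTensorEquiv F G x).bijective (bijective_smul_tmul ha hc)
  haveI : Module.Free (X.presheaf.stalk x) ((CohB1.tensorMod F G).presheaf.stalk x) :=
    Ref1C.IsFR1.free ⟨_, h1⟩
  exact bijective_smul_map _ (Ref1D.bijective_bidualMap_of_free _ hP x) h1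


/-! ### rational sections of rank one reflexive modules -/

theorem dim_le_one_of_coheight {x : X} (hx : Order.coheight x = 1) :
    ringKrullDim (X.presheaf.stalk x) ≤ 1 := by
  rw [ringKrullDim_stalk_eq_coheight, hx]
  rfl

theorem dim_generic_le_one : ringKrullDim (X.presheaf.stalk (genericPoint X)) ≤ 1 := by
  rw [ringKrullDim_stalk_eq_coheight]
  have h0 : Order.coheight (genericPoint X) = 0 := by
    rw [Order.coheight_eq_zero]
    intro b _
    exact genericPoint_specializes b
  rw [h0]
  exact zero_le_one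

/-- the coordinates of a rational section with respect to a generator of the stalk at `x` -/
theorem exists_coord (hX : Pi1.IsNormalScheme X) (F : X.Modules) (hF : RefHull.IsRef1 F)
    (x : X) (hx : ringKrullDim (X.presheaf.stalk x) ≤ 1) (h : genericPoint X ⤳ x)
    (s' : F.presheaf.stalk (genericPoint X)) (hs : s' ≠ 0) :
    ∃ (a : F.presheaf.stalk x) (_ : IsGen F x a) (φ : X.presheaf.stalk (genericPoint X)),
      φ ≠ 0 ∧ s' = φ • (F.presheaf.stalkSpecializes h).hom a := by
  haveI := hF.1.1
  have htf := Ref1H.isTorsionFree_of_isReflexive F hF.1 hF.2.1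
  obtain ⟨a, ha⟩ := Ref1D.fr1At_of_isRef1 hX F hF x hx
  obtain ⟨φ, hφ⟩ := (bijective_smul_mkη F htf h ha).2 (mkη F s')
  have hφ' : s' = φ • (F.presheaf.stalkSpecializes h).hom a := by
    apply mkη_injective F
    rw [map_smul]
    exact hφ.symm
  refine ⟨a, ha, φ, ?_, hφ'⟩
  rintro rfl
  rw [zero_smul] at hφ'
  exact hs hφ'

theorem s16090 (X : Scheme.{u}) [IsIntegral X] [IsLocallyNoetherian X]
    (hX : Pi1.IsNormalScheme X) (F G : X.Modules) (hF : RefHull.IsRef1 F) (hG : RefHull.IsRef1 G)
    (s : Cyc.secFibre F (genericPoint ↥X)) (hs : s ≠ 0) (t : Cyc.secFibre G (genericPoint ↥X))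
    (ht : t ≠ 0) :
    ∃ w : Cyc.secFibre (RefHull.ddual (CohB1.tensorMod F G)) (genericPoint ↥X), w ≠ 0 ∧
      ∀ (x : ↥X), Order.coheight x = 1 →
        Cyc.secOrdAt (RefHull.ddual (CohB1.tensorMod F G)) (genericPoint ↥X) x
            ((genericPoint_spec ↥X).specializes (Set.mem_univ x)) w =
          Cyc.secOrdAt F (genericPoint ↥X) x
              ((genericPoint_spec ↥X).specializes (Set.mem_univ x)) s +
            Cyc.secOrdAt G (genericPoint ↥X) x
              ((genericPoint_spec ↥X).specializes (Set.mem_univ x)) t := by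
  obtain ⟨s', rfl⟩ := mkη_surjective F s
  obtain ⟨t', rfl⟩ := mkη_surjective G t
  have hs' : s' ≠ 0 := fun h0 => hs (by rw [h0, map_zero])
  have ht' : t' ≠ 0 := fun h0 => ht (by rw [h0, map_zero])
  have hP := Ref1B.isCoh_tensorMod F G hF.1 hG.1
  have hE : Coh.IsCoh (RefHull.ddual (CohB1.tensorMod F G)) := ReflExtC.isCoh_ddual _ hP
  have hEr := Ref1A.isReflexive_ddual _ hP
  have htfE := Ref1H.isTorsionFree_of_isReflexive _ hE hEr
  have htfF := Ref1H.isTorsionFree_of_isReflexive F hF.1 hF.2.1
  have htfG := Ref1H.isTorsionFree_of_isReflexive G hG.1 hG.2.1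
  haveI := hE.1
  haveI := hF.1.1
  haveI := hG.1.1
  -- the key computation
  have key : ∀ (x : X) (_ : ringKrullDim (X.presheaf.stalk x) ≤ 1) (h : genericPoint X ⤳ x),
      ∃ (a : F.presheaf.stalk x) (_ : IsGen F x a) (c : G.presheaf.stalk x) (_ : IsGen G x c)
        (φ ψ : X.presheaf.stalk (genericPoint X)), φ ≠ 0 ∧ ψ ≠ 0 ∧
        s' = φ • (F.presheaf.stalkSpecializes h).hom a ∧
        t' = ψ • (G.presheaf.stalkSpecializes h).hom c ∧
        mkη _ (pair F G (genericPoint X) s' t') = (φ * ψ) • mkη _
          (((RefHull.ddual (CohB1.tensorMod F G)).presheaf.stalkSpecializes h).hom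
            (pair F G x a c)) := by
    intro x hx h
    obtain ⟨a, ha, φ, hφ, hsa⟩ := exists_coord hX F hF x hx h s' hs'
    obtain ⟨c, hc, ψ, hψ, htc⟩ := exists_coord hX G hG x hx h t' ht'
    refine ⟨a, ha, c, hc, φ, ψ, hφ, hψ, hsa, htc, ?_⟩
    rw [sp_pair, ← map_smul, ← pair_smul_smul, ← hsa, ← htc]
  refine ⟨mkη _ (pair F G (genericPoint X) s' t'), ?_, ?_⟩
  · obtain ⟨a, ha, c, hc, φ, ψ, hφ, hψ, -, -, hw⟩ :=
      key (genericPoint X) dim_generic_le_one specializes_rfl
    rw [hw]
    intro h0
    have h1 := (bijective_smul_mkη _ htfE specializes_rfl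
      (isGen_pair F G hF.1 hG.1 _ ha hc)).1 (a₁ := φ * ψ) (a₂ := 0) (by
        change (φ * ψ) • _ = (0 : X.presheaf.stalk (genericPoint X)) • _
        rw [h0, zero_smul])
    exact mul_ne_zero hφ hψ h1
  · intro x hx
    obtain ⟨a, ha, c, hc, φ, ψ, hφ, hψ, hsa, htc, hw⟩ :=
      key x (dim_le_one_of_coheight hx) ((genericPoint_spec ↥X).specializes (Set.mem_univ x))
    rw [secOrdAt_eq _ htfE x hx _ _ (isGen_pair F G hF.1 hG.1 _ ha hc) _ (φ * ψ) hw,
      secOrdAt_eq F htfF x hx _ a ha _ φ (by rw [hsa, map_smul]),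
      secOrdAt_eq G htfG x hx _ c hc _ ψ (by rw [htc, map_smul])]
    exact Scheme.ord_mul hφ hψ

end Groth.Agent.Lead.Ref1I
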