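import Mathlib
import Groth.Prelude.Def_RefHull
import Groth.Prelude.Def_RefFun
import Groth.Prelude.Def_Pi1
import Groth.Prelude.Def_C1
import Groth.Agent.Lead.Ref1A
import Groth.Agent.Lead.Ref1D
import Groth.Agent.Lead.Ref1G
import Groth.Agent.Lead.Ref1H
import Groth.Agent.Lead.Ref1I

/-!
# Isomorphism classes of rank one reflexive modules and linear equivalence
-/

set_option autoImplicit false
set_option linter.style.haveILetI false
set_option linter.unusedSectionVars false

universe u

open CategoryTheory CategoryTheory.Limits AlgebraicGeometry TopologicalSpace Opposite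

namespace Groth.Agent.Lead.Ref1J

open Groth.Agent.Helper4.StalkDict Groth.Agent.Helper4.QcqsMod Groth.Agent.Lead.Ref1I

/-! ### discrete valuation rings -/

/-- in a discrete valuation ring, elements of the fraction field of non-negative order are
integral -/
theorem mem_range_of_one_le_ordFrac (R : Type*) [CommRing R] [IsDomain R]
    [IsDiscreteValuationRing R] (K : Type*) [Field K] [Algebra R K] [IsFractionRing R K] (f : K)
    (h : 1 ≤ Ring.ordFrac R f) : f ∈ Set.range (algebraMap R K) := by
  rw [Ring.ordFrac_eq_valuation_inv] at h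
  have hpos : 0 < (IsDiscreteValuationRing.maximalIdeal R).valuation K f := by
    rw [zero_lt_iff]
    intro h0
    rw [h0, inv_zero] at h
    exact absurd h (by simp)
  have h1 : (IsDiscreteValuationRing.maximalIdeal R).valuation K f ≤ 1 := (one_le_inv₀ hpos).1 h
  exact IsDiscreteValuationRing.exists_lift_of_le_one h1

theorem exists_isUnit_of_ordFrac_eq_one (R : Type*) [CommRing R] [IsDomain R]
    [IsDiscreteValuationRing R] (K : Type*) [Field K] [Algebra R K] [IsFractionRing R K] (f : K)
    (h : Ring.ordFrac R f = 1) : ∃ u : R, IsUnit u ∧ algebraMap R K u = f := by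
  obtain ⟨u, hu⟩ := mem_range_of_one_le_ordFrac R K f h.ge
  obtain ⟨v, hv⟩ := mem_range_of_one_le_ordFrac R K f⁻¹ (by rw [map_inv₀, h, inv_one])
  have hf : f ≠ 0 := by
    rintro rfl
    rw [map_zero] at h
    exact zero_ne_one h
  refine ⟨u, IsUnit.of_mul_eq_one v ?_, hu⟩
  apply IsFractionRing.injective R K
  rw [map_mul, hu, hv, map_one, mul_inv_cancel₀ hf]

variable {X : Scheme.{u}} [IsIntegral X] [IsLocallyNoetherian X]

theorem isDiscreteValuationRing_stalk (hX : Pi1.IsNormalScheme X) (x : X)
    (hx : ringKrullDim (X.presheaf.stalk x) = 1) :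
    IsDiscreteValuationRing (X.presheaf.stalk x) := by
  haveI := (hX x).1
  haveI := (hX x).2
  haveI : IsPrincipalIdealRing (X.presheaf.stalk x) :=
    ReflExtB.isPrincipalIdealRing_of_normal_dim_le_one _ hx.le
  refine { not_a_field' := ?_ }
  intro hbot
  have hfield : IsField (X.presheaf.stalk x) := IsLocalRing.isField_iff_maximalIdeal_eq.mpr hbot
  have h0 := ringKrullDim_eq_zero_of_isField hfield
  rw [hx] at h0
  exact one_ne_zero h0

/-- a rational function of order zero at a point of codimension one of a normal scheme is a unit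
of the local ring -/
theorem exists_isUnit_of_ord_eq_zero (hX : Pi1.IsNormalScheme X) (x : X)
    (hx : Order.coheight x = 1) (u : X.functionField) (hu : u ≠ 0) (h0 : Scheme.ord u x = 0) :
    ∃ u₀ : X.presheaf.stalk x, IsUnit u₀ ∧ algebraMap (X.presheaf.stalk x) X.functionField u₀ = u := by
  have hdim : ringKrullDim (X.presheaf.stalk x) = 1 := by
    rw [ringKrullDim_stalk_eq_coheight, hx]; rfl
  haveI := isDiscreteValuationRing_stalk hX x hdim
  apply exists_isUnit_of_ordFrac_eq_one
  have := (Scheme.ord_eq_iff hx hu).mp h0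
  exact this


/-! ### coordinates in the generic stalk -/

/-- the image of a generator of `F_x` generates the generic stalk -/
theorem isGen_sp (F : X.Modules) [F.IsQuasicoherent] (htf : TorSh.IsTorsionFree F)
    {x : X} (h : genericPoint X ⤳ x) {a : F.presheaf.stalk x} (ha : IsGen F x a) :
    IsGen F (genericPoint X) ((F.presheaf.stalkSpecializes h).hom a) := by
  have h1 := bijective_smul_mkη F htf h ha
  have h2 : (fun c : X.presheaf.stalk (genericPoint X) =>
      c • mkη F ((F.presheaf.stalkSpecializes h).hom a)) =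
      mkη F ∘ (fun c : X.presheaf.stalk (genericPoint X) =>
        c • (F.presheaf.stalkSpecializes h).hom a) := by
    funext c
    exact (map_smul _ _ _).symm
  rw [h2] at h1
  exact (Function.Bijective.of_comp_iff' ⟨mkη_injective F, mkη_surjective F⟩ _).mp h1

theorem isUnit_of_ne_zero_generic (c : X.presheaf.stalk (genericPoint X)) (hc : c ≠ 0) :
    IsUnit c := by
  obtain ⟨b, hb⟩ := (Ref1H.isField_stalk_generic X).mul_inv_cancel hc
  exact IsUnit.of_mul_eq_one b hb

/-- a nonzero element of the generic stalk of a rank one reflexive module is a generator -/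
theorem isGen_generic (hX : Pi1.IsNormalScheme X) (F : X.Modules) (hF : RefHull.IsRef1 F)
    (s' : F.presheaf.stalk (genericPoint X)) (hs : s' ≠ 0) : IsGen F (genericPoint X) s' :=
  Ref1G.IsFR1.bijective_smul (Ref1D.fr1At_of_isRef1 hX F hF _ dim_generic_le_one)
    isUnit_of_ne_zero_generic s' hs

theorem isGen_unit_smul {F : X.Modules} {x : X} {c : F.presheaf.stalk x} (hc : IsGen F x c)
    (u : X.presheaf.stalk x) (hu : IsUnit u) : IsGen F x (u • c) := by
  obtain ⟨w, rfl⟩ := hu
  have : (fun r : X.presheaf.stalk x => r • ((w : X.presheaf.stalk x) • c)) =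
      (fun r : X.presheaf.stalk x => r • c) ∘ (fun r : X.presheaf.stalk x => r * w) := by
    funext r
    simp [mul_smul]
  unfold IsGen
  rw [this]
  refine hc.comp ⟨?_, ?_⟩
  · intro r r' hrr'
    exact (Units.mul_left_inj w).mp hrr'
  · intro r
    exact ⟨r * ↑w⁻¹, by simp⟩

/-- a linear map sending a generator to a generator is bijective -/
theorem bijective_of_isGen {F G : X.Modules} {x : X}
    (f : F.presheaf.stalk x →ₗ[X.presheaf.stalk x] G.presheaf.stalk x)
    {a : F.presheaf.stalk x} (ha : IsGen F x a) (hfa : IsGen G x (f a)) :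
    Function.Bijective f := by
  have h1 : (fun r : X.presheaf.stalk x => r • f a) =
      f ∘ (fun r : X.presheaf.stalk x => r • a) := by
    funext r; simp
  unfold IsGen at hfa
  rw [h1] at hfa
  exact (Function.Bijective.of_comp_iff f ha).mp hfa


theorem coheight_eq_one_of_dim {x : X} (hx : ringKrullDim (X.presheaf.stalk x) = 1) :
    Order.coheight x = 1 := by
  rw [ringKrullDim_stalk_eq_coheight] at hx
  exact_mod_cast hx

theorem ord_one (x : X) : Scheme.ord (1 : X.functionField) x = 0 := by
  have := ord_algebraMap_of_isUnit x (1 : X.presheaf.stalk x) isUnit_one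
  rwa [map_one] at this

/-! ### the main theorem -/

theorem s16086 (X : Scheme.{u}) [IsIntegral X] [IsLocallyNoetherian X]
    (hX : Pi1.IsNormalScheme X) (F G : X.Modules) (hF : RefHull.IsRef1 F) (hG : RefHull.IsRef1 G)
    (s : Cyc.secFibre F (genericPoint ↥X)) (hs : s ≠ 0) (t : Cyc.secFibre G (genericPoint ↥X))
    (ht : t ≠ 0) :
    Nonempty (F ≅ G) ↔
      ∃ f : ↑X.functionField, f ≠ 0 ∧
        ∀ (x : ↥X), Order.coheight x = 1 →
          Cyc.secOrdAt F (genericPoint ↥X) x
              ((genericPoint_spec ↥X).specializes (Set.mem_univ x)) s =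
            Cyc.secOrdAt G (genericPoint ↥X) x
                ((genericPoint_spec ↥X).specializes (Set.mem_univ x)) t +
              Scheme.ord f x := by
  obtain ⟨s', rfl⟩ := mkη_surjective F s
  obtain ⟨t', rfl⟩ := mkη_surjective G t
  have hs' : s' ≠ 0 := fun h0 => hs (by rw [h0, map_zero])
  have ht' : t' ≠ 0 := fun h0 => ht (by rw [h0, map_zero])
  haveI := hF.1.1
  haveI := hG.1.1
  have htfF := Ref1H.isTorsionFree_of_isReflexive F hF.1 hF.2.1
  have htfG := Ref1H.isTorsionFree_of_isReflexive G hG.1 hG.2.1
  have hsgen := isGen_generic hX F hF s' hs'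
  have htgen := isGen_generic hX G hG t' ht'
  constructor
  · rintro ⟨α⟩
    obtain ⟨f, hf⟩ := htgen.2 (RefHull.stalkMapₗ α.hom (genericPoint X) s')
    have hf : f • t' = RefHull.stalkMapₗ α.hom (genericPoint X) s' := hf
    have hf0 : f ≠ 0 := by
      rintro rfl
      rw [zero_smul] at hf
      have hinj := (HomShH.bijective_stalkMapₗ_of_isIso α.hom (genericPoint X)).1
      exact hs' (hinj (by rw [← hf, map_zero]))
    refine ⟨f, hf0, fun x hx => ?_⟩
    obtain ⟨a, ha⟩ := Ref1D.fr1At_of_isRef1 hX F hF x (dim_le_one_of_coheight hx)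
    have ha : IsGen F x a := ha
    have hαx := HomShH.bijective_stalkMapₗ_of_isIso α.hom x
    have hc : IsGen G x (RefHull.stalkMapₗ α.hom x a) := bijective_smul_map _ hαx ha
    obtain ⟨φ, hφ⟩ := (isGen_sp F htfF
      ((genericPoint_spec ↥X).specializes (Set.mem_univ x)) ha).2 s'
    obtain ⟨ψ, hψ⟩ := (isGen_sp G htfG
      ((genericPoint_spec ↥X).specializes (Set.mem_univ x)) hc).2 t'
    have hφ : φ • (F.presheaf.stalkSpecializes
      ((genericPoint_spec ↥X).specializes (Set.mem_univ x))).hom a = s' := hφ
    have hψ : ψ • (G.presheaf.stalkSpecializes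
      ((genericPoint_spec ↥X).specializes (Set.mem_univ x))).hom
        (RefHull.stalkMapₗ α.hom x a) = t' := hψ
    have hψ0 : ψ ≠ 0 := by
      rintro rfl
      rw [zero_smul] at hψ
      exact ht' hψ.symm
    have hφψ : φ = f * ψ := by
      apply (isGen_sp G htfG ((genericPoint_spec ↥X).specializes (Set.mem_univ x)) hc).1
      change φ • _ = (f * ψ) • _
      rw [mul_smul, hψ, hf, ← hφ, map_smul, Ref1H.sp_stalkMapₗ]
    rw [secOrdAt_eq F htfF x hx _ a ha _ φ (by rw [← hφ, map_smul]),
      secOrdAt_eq G htfG x hx _ _ hc _ ψ (by rw [← hψ, map_smul]), hφψ,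
      Scheme.ord_mul hf0 hψ0, add_comm]
  · rintro ⟨f, hf0, hord⟩
    -- the generic map
    let es : X.presheaf.stalk (genericPoint X) ≃ₗ[X.presheaf.stalk (genericPoint X)]
        F.presheaf.stalk (genericPoint X) :=
      LinearEquiv.ofBijective (LinearMap.toSpanSingleton _ _ s') hsgen
    let T : F.presheaf.stalk (genericPoint X) →ₗ[X.presheaf.stalk (genericPoint X)]
        G.presheaf.stalk (genericPoint X) :=
      (LinearMap.toSpanSingleton _ _ (f • t')).comp es.symm.toLinearMap
    have hT : T s' = f • t' := by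
      have h1 : es.symm s' = 1 := by
        rw [LinearEquiv.symm_apply_eq]
        change s' = (1 : X.presheaf.stalk (genericPoint X)) • s'
        rw [one_smul]
      change LinearMap.toSpanSingleton _ _ (f • t') (es.symm s') = _
      rw [h1, LinearMap.toSpanSingleton_apply, one_smul]
    -- the points of codimension one
    have key : ∀ (x : X) (_ : Order.coheight x = 1),
        ∃ (a : F.presheaf.stalk x) (_ : IsGen F x a) (c : G.presheaf.stalk x) (_ : IsGen G x c),
          T ((F.presheaf.stalkSpecializes
            ((genericPoint_spec ↥X).specializes (Set.mem_univ x))).hom a) =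
          (G.presheaf.stalkSpecializes
            ((genericPoint_spec ↥X).specializes (Set.mem_univ x))).hom c := by
      intro x hx
      obtain ⟨a, ha⟩ := Ref1D.fr1At_of_isRef1 hX F hF x (dim_le_one_of_coheight hx)
      have ha : IsGen F x a := ha
      obtain ⟨c₀, hc₀⟩ := Ref1D.fr1At_of_isRef1 hX G hG x (dim_le_one_of_coheight hx)
      have hc₀ : IsGen G x c₀ := hc₀
      obtain ⟨φ, hφ⟩ := (isGen_sp F htfF
        ((genericPoint_spec ↥X).specializes (Set.mem_univ x)) ha).2 s'
      obtain ⟨ψ, hψ⟩ := (isGen_sp G htfG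
        ((genericPoint_spec ↥X).specializes (Set.mem_univ x)) hc₀).2 t'
      have hφ : φ • (F.presheaf.stalkSpecializes
        ((genericPoint_spec ↥X).specializes (Set.mem_univ x))).hom a = s' := hφ
      have hψ : ψ • (G.presheaf.stalkSpecializes
        ((genericPoint_spec ↥X).specializes (Set.mem_univ x))).hom c₀ = t' := hψ
      have hφ0 : φ ≠ 0 := by
        rintro rfl
        rw [zero_smul] at hφ
        exact hs' hφ.symm
      have hψ0 : ψ ≠ 0 := by
        rintro rfl
        rw [zero_smul] at hψ
        exact ht' hψ.symm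
      have hordx := hord x hx
      rw [secOrdAt_eq F htfF x hx _ a ha _ φ (by rw [← hφ, map_smul]),
        secOrdAt_eq G htfG x hx _ c₀ hc₀ _ ψ (by rw [← hψ, map_smul])] at hordx
      let u : X.functionField := f * ψ / φ
      have hu : (φ : X.functionField) * u = f * ψ := by
        change (φ : X.functionField) * (f * ψ / φ) = f * ψ
        field_simp
      have hu0 : u ≠ 0 := by
        intro h0
        rw [h0, mul_zero] at hu
        exact mul_ne_zero hf0 hψ0 hu.symm
      have hordu : Scheme.ord u x = 0 := by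
        have h1 := Scheme.ord_mul (x := x) hφ0 hu0
        rw [hu, Scheme.ord_mul hf0 hψ0] at h1
        omega
      obtain ⟨u₀, hu₀, hu₀'⟩ := exists_isUnit_of_ord_eq_zero hX x hx u hu0 hordu
      refine ⟨a, ha, u₀ • c₀, isGen_unit_smul hc₀ u₀ hu₀, ?_⟩
      rw [Ref1H.sp_smul]
      change _ = algebraMap (X.presheaf.stalk x) X.functionField u₀ • _
      rw [hu₀']
      haveI := htfG (genericPoint X)
      have hreg : IsSMulRegular (G.presheaf.stalk (genericPoint X)) φ :=
        Module.IsTorsionFree.isSMulRegular (isRegular_of_ne_zero hφ0)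
      apply hreg
      change φ • T _ = φ • (u • _)
      rw [← map_smul, hφ, hT, ← hψ, smul_smul, smul_smul, hu]
    obtain ⟨ψ₀, hψ₀⟩ := (Ref1H.s16083 X hX G F hG.1 hF.1 T).mpr (by
      intro x hx
      rintro _ ⟨m, rfl⟩
      obtain ⟨a, ha, c, hc, hTa⟩ := key x (coheight_eq_one_of_dim hx)
      obtain ⟨r, hr⟩ := ha.2 m
      have hr : r • a = m := hr
      refine ⟨r • c, ?_⟩
      rw [← hr, Ref1H.sp_smul, Ref1H.sp_smul, map_smul, hTa])
    haveI : IsIso (RefHull.bidualMap G) := hG.2.1
    let α : F ⟶ G := ψ₀ ≫ inv (RefHull.bidualMap G)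
    have hαη : ∀ v, RefHull.stalkMapₗ α (genericPoint X) v = T v := by
      intro v
      rw [HomShH.stalkMapₗ_comp, hψ₀]
      change RefHull.stalkMapₗ (inv (RefHull.bidualMap G)) _
        (RefHull.stalkMapₗ (RefHull.bidualMap G) _ (T v)) = T v
      rw [← HomShH.stalkMapₗ_comp, IsIso.hom_inv_id, HomShG.stalkMapₗ_id]
    haveI : IsIso α := by
      apply Ref1A.isIso_of_bijective_codim_one hX hF.1 hG.1 hF.2.1 hG.2.1 α
      intro x hx
      by_cases h1 : ringKrullDim (X.presheaf.stalk x) = 1
      · obtain ⟨a, ha, c, hc, hTa⟩ := key x (coheight_eq_one_of_dim h1)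
        apply bijective_of_isGen _ ha
        have : RefHull.stalkMapₗ α x a = c := by
          apply Ref1H.sp_injective G htfG ((genericPoint_spec ↥X).specializes (Set.mem_univ x))
          rw [← Ref1H.sp_stalkMapₗ, hαη, hTa]
        rw [this]
        exact hc
      · have h00 : ringKrullDim (X.presheaf.stalk x) ≤ 0 :=
          Ref1G.dim_le_zero_of_not_one_le _ (fun h1' => h1 (le_antisymm hx h1'))
        have hxη := Ref1H.eq_genericPoint_of_dim_le_zero x h00
        subst hxη
        apply bijective_of_isGen _ hsgen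
        rw [hαη, hT]
        exact isGen_unit_smul htgen f (isUnit_of_ne_zero_generic f hf0)
    exact ⟨asIso α⟩

end Groth.Agent.Lead.Ref1J
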