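import Mathlib
import Groth.Prelude.Def_RefHull
import Groth.Prelude.Def_RefFun
import Groth.Prelude.Def_Pi1
import Groth.Prelude.Def_C1
import Groth.Agent.Lead.Ref1A
import Groth.Agent.Lead.Ref1D
import Groth.Agent.Lead.Ref1F
import Groth.Agent.Lead.Ref1G
import Groth.Agent.Lead.Ref1H
import Groth.Agent.Lead.Ref1I
import Groth.Agent.Lead.Ref1J
import Groth.Agent.Lead.PerfLib5
import Groth.Agent.Helper4.TensorInv

/-!
# Invertible modules as rank one reflexive modules; divisors of rational sections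
-/

set_option autoImplicit false
set_option linter.style.haveILetI false
set_option linter.unusedSectionVars false

universe u

open CategoryTheory CategoryTheory.Limits AlgebraicGeometry TopologicalSpace Opposite

namespace Groth.Agent.Lead.Ref1K

open Groth.Agent.Helper4.StalkDict Groth.Agent.Helper4.QcqsMod Groth.Agent.Lead.Ref1I
  Groth.Agent.Lead.Ref1J Groth.Agent.Lead.Ref1D

variable {X : Scheme.{u}}

theorem fr1At_of_isInvertible (L : X.Modules) (hL : PicF.IsInvertible L) (x : X) : FR1At L x := by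
  obtain ⟨V, hxV, ⟨i⟩⟩ := hL x
  let z : V := ⟨x, hxV⟩
  have h1 : FR1At (L.restrict V.ι) z :=
    fr1At_of_iso i.symm z (fr1At_unit (X := (V : Scheme.{u})) z)
  exact (fr1At_restrict_iff V L z).mp h1

theorem isFinLocFree_of_isInvertible (L : X.Modules) (hL : PicF.IsInvertible L) :
    FlatMod.IsFinLocFree L := by
  intro x
  obtain ⟨U, hxU, ⟨e⟩⟩ := hL x
  exact ⟨U, 1, hxU, ⟨e ≪≫ (Limits.coproductUniqueIso
    (fun _ : Fin 1 => Coh.structureModule (↑U))).symm⟩⟩

theorem isCoh_of_isInvertible (L : X.Modules) (hL : PicF.IsInvertible L) : Coh.IsCoh L :=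
  Groth.Agent.Lead.PerfLib.isCoh_of_isFinLocFree (isFinLocFree_of_isInvertible L hL)

theorem isTorsionFree_of_fr1At [IsIntegral X] (L : X.Modules) (h : ∀ x, FR1At L x) :
    TorSh.IsTorsionFree L := by
  intro x
  haveI := (h x).free
  infer_instance

theorem isRef1_of_isInvertible [IsIntegral X] [IsLocallyNoetherian X] (L : X.Modules)
    (hL : PicF.IsInvertible L) : RefHull.IsRef1 L := by
  have hcoh := isCoh_of_isInvertible L hL
  refine ⟨hcoh, ?_, ?_⟩
  · apply ReflExtA.isReflexive_of_stalks L hcoh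
    intro x
    haveI := (fr1At_of_isInvertible L hL x).free
    haveI := (fr1At_of_isInvertible L hL x).finite
    infer_instance
  · exact Ref1D.genInvertible_of_fr1At_generic L
      (Groth.Agent.Helper4.CohFP.isFP_of_isCoh L hcoh.1 hcoh.2) (fr1At_of_isInvertible L hL _)


/-! ### S5103 -/

section
variable [IsIntegral X] [IsLocallyNoetherian X]

/-- the unit rational section of the structure sheaf -/
noncomputable def oneη : (Coh.structureModule X).presheaf.stalk (genericPoint X) :=
  Groth.Agent.Lead.Hartogs2.unitEquiv (genericPoint X) 1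

theorem isGen_unit (x : X) : IsGen (Coh.structureModule X) x
    (Groth.Agent.Lead.Hartogs2.unitEquiv x 1) := by
  have h : (fun a : X.presheaf.stalk x => a • Groth.Agent.Lead.Hartogs2.unitEquiv x 1) =
      Groth.Agent.Lead.Hartogs2.unitEquiv x := by
    funext a
    rw [← map_smul, smul_eq_mul, mul_one]
  unfold IsGen
  rw [h]
  exact (Groth.Agent.Lead.Hartogs2.unitEquiv x).bijective

theorem sp_unit {x : X} (h : genericPoint X ⤳ x) :
    ((Coh.structureModule X).presheaf.stalkSpecializes h).hom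
      (Groth.Agent.Lead.Hartogs2.unitEquiv x 1) = oneη := by
  have h1 : ∀ y : X, Groth.Agent.Lead.Hartogs2.unitEquiv y 1 =
      (1 : X.presheaf.stalk y) • Groth.Agent.Lead.WeakAss.germF ⊤ y trivial 1 := fun y => rfl
  unfold oneη
  rw [h1, h1, one_smul, one_smul]
  unfold Groth.Agent.Lead.WeakAss.germF
  exact Ref1H.sp_germ _ h _ _

theorem secOrdAt_unit (x : X) (hx : Order.coheight x = 1) (h : genericPoint X ⤳ x) :
    Cyc.secOrdAt (Coh.structureModule X) (genericPoint X) x h (mkη _ oneη) = 0 := by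
  have hO := HomShH.isCoh_unit X
  haveI := hO.1
  have htf : TorSh.IsTorsionFree (Coh.structureModule X) :=
    isTorsionFree_of_fr1At _ (fun y => Ref1D.fr1At_unit y)
  rw [secOrdAt_eq _ htf x hx h _ (isGen_unit x) _ 1 (by rw [one_smul, sp_unit])]
  exact Ref1J.ord_one x

theorem s5103 (X : Scheme.{u}) [IsIntegral X] [IsLocallyNoetherian X]
    (hX : Pi1.IsNormalScheme X) (L : X.Modules) (hL : PicF.IsInvertible L)
    (s : Cyc.secFibre L (genericPoint ↥X)) (hs : s ≠ 0) (f : ↑X.functionField) (hf : f ≠ 0)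
    (h : ∀ x : ↥X, Order.coheight x = 1 →
      Cyc.secOrdAt L (genericPoint ↥X) x (genericPoint_specializes x) s = Scheme.ord f x) :
    Nonempty (L ≅ Coh.structureModule X) := by
  have h1ne : mkη (Coh.structureModule X) oneη ≠ 0 := by
    intro h0
    have h1 := (injective_iff_map_eq_zero _).mp (mkη_injective (Coh.structureModule X)) _ h0
    exact (isGen_unit (genericPoint X)).ne_zero h1
  refine (Ref1J.s16086 X hX L (Coh.structureModule X) (isRef1_of_isInvertible L hL)
    Ref1F.isRef1_unit s hs _ h1ne).mpr ⟨f, hf, fun x hx => ?_⟩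
  rw [secOrdAt_unit x hx, zero_add]
  exact h x hx

end


/-! ### S16092 -/

/-- the pairing `F_x × G_x → (F ⊗ G)_x` -/
noncomputable def pair' (F G : X.Modules) (x : X) (a : F.presheaf.stalk x)
    (c : G.presheaf.stalk x) : (CohB1.tensorMod F G).presheaf.stalk x :=
  Ref1B.stalkTensorEquiv F G x (a ⊗ₜ c)

theorem pair'_smul_smul (F G : X.Modules) (x : X) (φ ψ : X.presheaf.stalk x)
    (a : F.presheaf.stalk x) (c : G.presheaf.stalk x) :
    pair' F G x (φ • a) (ψ • c) = (φ * ψ) • pair' F G x a c := by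
  unfold pair'
  rw [TensorProduct.smul_tmul_smul, map_smul]

theorem sp_pair' (F G : X.Modules) {x y : X} (h : y ⤳ x) (a : F.presheaf.stalk x)
    (c : G.presheaf.stalk x) :
    ((CohB1.tensorMod F G).presheaf.stalkSpecializes h).hom (pair' F G x a c) =
      pair' F G y ((F.presheaf.stalkSpecializes h).hom a)
        ((G.presheaf.stalkSpecializes h).hom c) := by
  obtain ⟨V, hxV, m, rfl⟩ := TopCat.Presheaf.exists_germ_eq F.presheaf a
  obtain ⟨V', hxV', n, rfl⟩ := TopCat.Presheaf.exists_germ_eq G.presheaf c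
  rw [← TopCat.Presheaf.germ_res_apply F.presheaf (homOfLE (inf_le_left : V ⊓ V' ≤ V)) x
      ⟨hxV, hxV'⟩,
    ← TopCat.Presheaf.germ_res_apply G.presheaf (homOfLE (inf_le_right : V ⊓ V' ≤ V')) x
      ⟨hxV, hxV'⟩]
  unfold pair'
  rw [Ref1H.sp_germ, Ref1H.sp_germ, Ref1B.stalkTensorEquiv_germ, Ref1B.stalkTensorEquiv_germ,
    Ref1H.sp_germ]

theorem isGen_pair' (F G : X.Modules) (x : X)
    {a : F.presheaf.stalk x} {c : G.presheaf.stalk x} (ha : IsGen F x a) (hc : IsGen G x c) :
    IsGen (CohB1.tensorMod F G) x (pair' F G x a c) :=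
  bijective_smul_map (Ref1B.stalkTensorEquiv F G x).toLinearMap
    (Ref1B.stalkTensorEquiv F G x).bijective (bijective_smul_tmul ha hc)

section
variable [IsIntegral X] [IsLocallyNoetherian X]

/-- coordinates of a rational section with respect to a generator -/
theorem exists_coord' (F : X.Modules) [F.IsQuasicoherent] (htf : TorSh.IsTorsionFree F)
    (x : X) (hfr : FR1At F x) (h : genericPoint X ⤳ x)
    (s' : F.presheaf.stalk (genericPoint X)) (hs : s' ≠ 0) :
    ∃ (a : F.presheaf.stalk x) (_ : IsGen F x a) (φ : X.presheaf.stalk (genericPoint X)),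
      φ ≠ 0 ∧ s' = φ • (F.presheaf.stalkSpecializes h).hom a := by
  obtain ⟨a, ha⟩ := hfr
  obtain ⟨φ, hφ⟩ := (isGen_sp F htf h ha).2 s'
  have hφ : φ • (F.presheaf.stalkSpecializes h).hom a = s' := hφ
  refine ⟨a, ha, φ, ?_, hφ.symm⟩
  rintro rfl
  rw [zero_smul] at hφ
  exact hs hφ.symm

theorem s16092 (X : Scheme.{u}) [IsIntegral X] [IsLocallyNoetherian X] (L N : X.Modules)
    (hL : PicF.IsInvertible L) (hN : PicF.IsInvertible N)
    (s : Cyc.secFibre L (genericPoint ↥X)) (hs : s ≠ 0)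
    (t : Cyc.secFibre N (genericPoint ↥X)) (ht : t ≠ 0) :
    ∃ w : Cyc.secFibre (CohB1.tensorMod L N) (genericPoint ↥X), w ≠ 0 ∧
      ∀ (x : ↥X), ringKrullDim ↑(X.presheaf.stalk x) = 1 →
        Cyc.secOrdAt (CohB1.tensorMod L N) (genericPoint ↥X) x
            ((genericPoint_spec ↥X).specializes (Set.mem_univ x)) w =
          Cyc.secOrdAt L (genericPoint ↥X) x
              ((genericPoint_spec ↥X).specializes (Set.mem_univ x)) s +
            Cyc.secOrdAt N (genericPoint ↥X) x
              ((genericPoint_spec ↥X).specializes (Set.mem_univ x)) t := by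
  obtain ⟨s', rfl⟩ := mkη_surjective L s
  obtain ⟨t', rfl⟩ := mkη_surjective N t
  have hs' : s' ≠ 0 := fun h0 => hs (by rw [h0, map_zero])
  have ht' : t' ≠ 0 := fun h0 => ht (by rw [h0, map_zero])
  have hLN := Groth.Agent.Helper4.TensorInv.isInvertible_tensorMod hL hN
  have htfL := isTorsionFree_of_fr1At L (fr1At_of_isInvertible L hL)
  have htfN := isTorsionFree_of_fr1At N (fr1At_of_isInvertible N hN)
  have htfP := isTorsionFree_of_fr1At _ (fr1At_of_isInvertible _ hLN)
  haveI := (isCoh_of_isInvertible L hL).1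
  haveI := (isCoh_of_isInvertible N hN).1
  haveI := (isCoh_of_isInvertible _ hLN).1
  have key : ∀ (x : X) (h : genericPoint X ⤳ x),
      ∃ (a : L.presheaf.stalk x) (_ : IsGen L x a) (c : N.presheaf.stalk x) (_ : IsGen N x c)
        (φ ψ : X.presheaf.stalk (genericPoint X)), φ ≠ 0 ∧ ψ ≠ 0 ∧
        s' = φ • (L.presheaf.stalkSpecializes h).hom a ∧
        t' = ψ • (N.presheaf.stalkSpecializes h).hom c ∧
        mkη _ (pair' L N (genericPoint X) s' t') = (φ * ψ) • mkη _
          (((CohB1.tensorMod L N).presheaf.stalkSpecializes h).hom (pair' L N x a c)) := by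
    intro x h
    obtain ⟨a, ha, φ, hφ, hsa⟩ :=
      exists_coord' L htfL x (fr1At_of_isInvertible L hL x) h s' hs'
    obtain ⟨c, hc, ψ, hψ, htc⟩ :=
      exists_coord' N htfN x (fr1At_of_isInvertible N hN x) h t' ht'
    refine ⟨a, ha, c, hc, φ, ψ, hφ, hψ, hsa, htc, ?_⟩
    rw [sp_pair', ← map_smul, ← pair'_smul_smul, ← hsa, ← htc]
  refine ⟨mkη _ (pair' L N (genericPoint X) s' t'), ?_, ?_⟩
  · obtain ⟨a, ha, c, hc, φ, ψ, hφ, hψ, -, -, hw⟩ := key (genericPoint X) specializes_rfl
    rw [hw]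
    intro h0
    have h1 := (bijective_smul_mkη _ htfP specializes_rfl
      (isGen_pair' L N _ ha hc)).1 (a₁ := φ * ψ) (a₂ := 0) (by
        change (φ * ψ) • _ = (0 : X.presheaf.stalk (genericPoint X)) • _
        rw [h0, zero_smul])
    exact mul_ne_zero hφ hψ h1
  · intro x hx
    have hcx := Ref1J.coheight_eq_one_of_dim hx
    obtain ⟨a, ha, c, hc, φ, ψ, hφ, hψ, hsa, htc, hw⟩ :=
      key x ((genericPoint_spec ↥X).specializes (Set.mem_univ x))
    rw [secOrdAt_eq _ htfP x hcx _ _ (isGen_pair' L N _ ha hc) _ (φ * ψ) hw,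
      secOrdAt_eq L htfL x hcx _ a ha _ φ (by rw [hsa, map_smul]),
      secOrdAt_eq N htfN x hcx _ c hc _ ψ (by rw [htc, map_smul])]
    exact Scheme.ord_mul hφ hψ

end

end Groth.Agent.Lead.Ref1K
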