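import Mathlib
import Groth.Prelude.Def_Coh

/-!
# Finiteness of `f_* O_X` from finiteness of `H⁰`

* `finite_toGlobal` : if `H⁰(X, O_X)` is a finite `A`-module (structure via `g : X ⟶ Spec A`),
  then `A → Γ(X, ⊤)` is a finite ring map.
* `finite_app_of_finite_restrict` : transfer to `f.app U` for an affine open `U` of the base.
* `isFinite_fromNormalization_of_finite_app` : the relative normalization is finite if all
  `f.app U` (`U` affine) are finite and the base is locally Noetherian.
-/

universe u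
open AlgebraicGeometry CategoryTheory Limits Opposite TopologicalSpace

namespace Groth.Agent.Lead.ProperFinA

section H0

variable {X : Scheme.{u}}

/-- `H⁰(X, M) ≃ Γ(X, M)` -/
noncomputable def h0Equiv (M : X.Modules) : Coh.HH X M 0 ≃+ (Coh.toAb M).obj.obj (op ⊤) :=
  Sheaf.H.equiv₀ (Coh.toAb M) (isTerminalTop)

theorem resTop_top (r : Coh.Γtop X) : Coh.resTop X (op ⊤) r = r := by
  change (X.ringCatSheaf.obj.map (homOfLE (le_top (a := (⊤ : Opens X)))).op).hom r = r
  have : (homOfLE (le_top (a := (⊤ : Opens X)))) = 𝟙 _ := Subsingleton.elim _ _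
  rw [this, op_id, X.ringCatSheaf.obj.map_id]
  rfl

theorem h0Equiv_smul (M : X.Modules) (r : Coh.Γtop X) (x : Coh.HH X M 0) :
    h0Equiv M (r • x) =
      @HSMul.hSMul (X.ringCatSheaf.obj.obj (op ⊤)) (M.val.obj (op ⊤)) (M.val.obj (op ⊤)) _ r
        (h0Equiv M x) := by
  have h1 := Sheaf.H.equiv₀_naturality (isTerminalTop (α := Opens X)) (Coh.smulAb M r) x
  change h0Equiv M (Sheaf.H.map (Coh.smulAb M r) 0 x) = _
  unfold h0Equiv
  rw [← h1, Coh.smulAb_app, resTop_top]

theorem finite_toGlobal {A : Type u} [CommRing A] (g : X ⟶ Spec (CommRingCat.of A))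
    (h : letI : X.Over (Spec (CommRingCat.of A)) := ⟨g⟩
      Module.Finite A (Coh.HH X (Coh.structureModule X) 0)) :
    (g.appTop.hom.comp (Scheme.ΓSpecIso (CommRingCat.of A)).inv.hom).Finite := by
  letI : X.Over (Spec (CommRingCat.of A)) := ⟨g⟩
  letI := (g.appTop.hom.comp (Scheme.ΓSpecIso (CommRingCat.of A)).inv.hom).toAlgebra
  change Module.Finite A Γ(X, ⊤)
  haveI := h
  let e : Coh.HH X (Coh.structureModule X) 0 ≃ₗ[A] Γ(X, ⊤) :=
    { (h0Equiv (Coh.structureModule X)) with
      map_smul' := by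
        intro a x
        change h0Equiv (Coh.structureModule X) (Coh.toGlobal g a • x) = _
        rw [h0Equiv_smul]
        rfl }
  exact Module.Finite.equiv e

end H0

section App

variable {X S : Scheme.{u}} (f : X ⟶ S)

theorem finite_app_of_finite_restrict {U : S.Opens} (hU : IsAffineOpen U)
    (h : (((f ∣_ U) ≫ hU.isoSpec.hom).appTop.hom.comp
      (Scheme.ΓSpecIso (CommRingCat.of Γ(S, U))).inv.hom).Finite) :
    (f.app U).hom.Finite := by
  have h1 : (((f ∣_ U) ≫ hU.isoSpec.hom).appTop.hom.comp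
      (Scheme.ΓSpecIso (CommRingCat.of Γ(S, U))).inv.hom) =
      (f ∣_ U).appTop.hom.comp
        ((Scheme.ΓSpecIso (CommRingCat.of Γ(S, U))).inv ≫ hU.isoSpec.hom.appTop).hom := by
    rw [Scheme.Hom.comp_appTop, CommRingCat.hom_comp, CommRingCat.hom_comp, RingHom.comp_assoc]
  rw [h1] at h
  have h2 : (f ∣_ U).appTop.hom.Finite := RingHom.Finite.of_comp_finite h
  have h3 : (f.resLE U (f ⁻¹ᵁ U) le_rfl).appTop.hom.Finite := by
    rwa [Scheme.Hom.resLE_eq_morphismRestrict]
  rw [RingHom.finite_respectsIso.arrow_mk_iso_iff (arrowResLEAppIso f U (f ⁻¹ᵁ U) le_rfl)] at h3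
  rwa [Scheme.Hom.appLE_eq_app] at h3

end App

section Norm

variable {X Y : Scheme.{u}} (f : X ⟶ Y) [QuasiCompact f] [QuasiSeparated f]

set_option backward.isDefEq.respectTransparency false in
theorem isFinite_fromNormalization_of_finite_app
    (hN : ∀ U : Y.affineOpens, IsNoetherianRing Γ(Y, U.1))
    (h : ∀ U : Y.affineOpens, (f.app U.1).hom.Finite) :
    IsFinite f.fromNormalization := by
  rw [IsZariskiLocalAtTarget.iff_of_iSup_eq_top (P := @IsFinite) _
    (iSup_affineOpens_eq_top _)]
  intro U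
  let e := IsOpenImmersion.isoOfRangeEq (f.fromNormalization ⁻¹ᵁ U).ι (f.normalizationOpenCover.f U)
      (by simpa using congr($(f.fromNormalization_preimage U).1))
  rw [← MorphismProperty.cancel_left_of_respectsIso @IsFinite e.inv,
    ← MorphismProperty.cancel_right_of_respectsIso @IsFinite _ U.2.isoSpec.hom]
  have : (f.normalizationDiagramMap.app (.op U)).hom.Finite := by
    let := (f.app U).hom.toAlgebra
    change (algebraMap Γ(Y, U) (integralClosure Γ(Y, U) Γ(X, f ⁻¹ᵁ U))).Finite
    haveI := hN U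
    haveI : Module.Finite Γ(Y, U) Γ(X, f ⁻¹ᵁ U) := h U
    rw [RingHom.finite_algebraMap]
    exact Module.Finite.of_injective
      ((integralClosure Γ(Y, U) Γ(X, f ⁻¹ᵁ U)).val.toLinearMap) Subtype.val_injective
  convert! (IsFinite.SpecMap_iff _).mpr this
  rw [← cancel_mono U.2.fromSpec]
  simp [IsAffineOpen.isoSpec_hom, e, Scheme.Hom.ι_fromNormalization]

end Norm

end Groth.Agent.Lead.ProperFinA
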