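import Groth.Agent.Lead.GlobGen
import Groth.Agent.S0020
import Groth.Agent.Helper2.TopDim
import Groth.Agent.Helper4.QcohLocal
import Groth.Prelude.Def_Curv2
import Mathlib

/-!
# Lead: a finite type module with zero-dimensional support on a Noetherian scheme is globally
generated
-/

set_option autoImplicit false
open CategoryTheory AlgebraicGeometry Opposite TopologicalSpace
universe u

namespace Groth.Agent.Lead.ZeroDimGG
open Scheme.Modules Groth.Agent.Helper4 Groth.Agent.Helper4.StalkDict

variable {X : Scheme.{u}} (F : X.Modules)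

/-- `F` as a sheaf of abelian groups on the underlying space -/
noncomputable abbrev sh : TopCat.Sheaf Ab X.toTopCat := ⟨F.presheaf, F.isSheaf⟩

/-- two sections over an open disjoint from the support agree -/
theorem eq_of_disjoint_support (W : X.Opens) (hW : ∀ x ∈ W, x ∉ CohB1.support F)
    (s t : Γ(F, W)) : s = t := by
  apply TopCat.Presheaf.section_ext (sh F) W s t
  intro x hx
  have h : Subsingleton (F.presheaf.stalk x) := by
    by_contra hn
    exact hW x hx hn
  exact Subsingleton.elim _ _

/-- extension by zero of a section over `W` when `F` vanishes on `W ∩ V` and `W ∪ V = X` -/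
theorem exists_extension (W V : X.Opens) (hcov : (⊤ : X.Opens) ≤ W ⊔ V)
    (hWV : ∀ y ∈ W ⊓ V, y ∉ CohB1.support F) (s : Γ(F, W)) :
    ∃ σ : Γ(F, ⊤), F.presheaf.map (homOfLE (le_top : W ≤ ⊤)).op σ = s := by
  let U : Bool → X.Opens := fun b => cond b W V
  let sf : ∀ b : Bool, Γ(F, U b) := fun b =>
    match b with
    | true => s
    | false => (0 : Γ(F, V))
  have hcomp : TopCat.Presheaf.IsCompatible (sh F).1 U sf := by
    intro i j
    match i, j with
    | true, true => rfl
    | false, false => rfl
    | true, false =>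
      apply eq_of_disjoint_support F (U true ⊓ U false)
      intro y hy
      exact hWV y hy
    | false, true =>
      apply eq_of_disjoint_support F (U false ⊓ U true)
      intro y hy
      exact hWV y ⟨hy.2, hy.1⟩
  obtain ⟨σ, hσ, -⟩ := (sh F).existsUnique_gluing' U ⊤ (fun b => homOfLE le_top)
    (by
      refine hcov.trans ?_
      rw [sup_le_iff]
      exact ⟨le_iSup U true, le_iSup U false⟩) sf hcomp
  exact ⟨σ, hσ true⟩

theorem isClosed_of_discrete {T : Type*} [TopologicalSpace T] {Z : Set T} (hZ : IsClosed Z)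
    [DiscreteTopology Z] (A : Set T) (hA : A ⊆ Z) : IsClosed A := by
  have h : A = Subtype.val '' (Subtype.val ⁻¹' A : Set Z) := by
    rw [Subtype.image_preimage_coe]
    exact (Set.inter_eq_right.mpr hA).symm
  rw [h]
  exact hZ.isClosedEmbedding_subtypeVal.isClosedMap _ (isClosed_discrete _)

theorem epi_canFree_of_discrete_support (hcl : IsClosed (CohB1.support F))
    [DiscreteTopology (CohB1.support F)] : Epi (Groth.Agent.Lead.GlobGen.canFree F) := by
  apply QcohLocal.epi_of_stalkLin_surjective
  intro x t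
  by_cases hx : x ∈ CohB1.support F
  · obtain ⟨U, hxU, s, rfl⟩ := TopCat.Presheaf.exists_germ_eq F.presheaf t
    have hA : IsClosed (CohB1.support F \ {x}) := isClosed_of_discrete hcl _ Set.diff_subset
    have hB : IsClosed ({x} : Set X) :=
      isClosed_of_discrete hcl _ (Set.singleton_subset_iff.mpr hx)
    let W : X.Opens := U ⊓ ⟨(CohB1.support F \ {x})ᶜ, hA.isOpen_compl⟩
    let V : X.Opens := ⟨{x}ᶜ, hB.isOpen_compl⟩
    have hxW : x ∈ W := ⟨hxU, fun h => h.2 rfl⟩
    have hcov : (⊤ : X.Opens) ≤ W ⊔ V := by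
      intro y _
      by_cases hy : y = x
      · subst hy
        exact Or.inl hxW
      · exact Or.inr hy
    have hWV : ∀ y ∈ W ⊓ V, y ∉ CohB1.support F := by
      rintro y ⟨⟨_, hy1⟩, hy2⟩ hy3
      exact hy1 ⟨hy3, hy2⟩
    obtain ⟨σ, hσ⟩ := exists_extension F W V hcov hWV
      (F.presheaf.map (homOfLE (inf_le_left : W ≤ U)).op s)
    obtain ⟨z, hz⟩ := Groth.Agent.Lead.GlobGen.canFree_surj F σ
    refine ⟨Scheme.Modules.presheaf (SheafOfModules.free Γ(F, ⊤) : X.Modules) |>.germ ⊤ x trivial z, ?_⟩
    rw [StalkExact.stalkLin_germ, hz]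
    rw [← TopCat.Presheaf.germ_res_apply F.presheaf (homOfLE (le_top : W ≤ ⊤)) x hxW σ]
    rw [hσ]
    exact TopCat.Presheaf.germ_res_apply F.presheaf (homOfLE (inf_le_left : W ≤ U)) x hxW s
  · have : Subsingleton (F.presheaf.stalk x) := not_not.mp hx
    exact ⟨0, Subsingleton.elim _ _⟩

theorem main (k : Type u) [Field k] (X : Scheme.{u}) [X.Over (Spec (CommRingCat.of k))]
    [IsProper (X ↘ (Spec (CommRingCat.of k)))]
    (F : X.Modules) (hF : Coh.IsCoh F) (hsupp : topologicalKrullDim (CohB1.support F) ≤ 0) :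
    Curv2.IsGloballyGenerated F := by
  haveI : IsLocallyNoetherian X :=
    LocallyOfFiniteType.isLocallyNoetherian (X ↘ (Spec (CommRingCat.of k)))
  haveI : CompactSpace X :=
    QuasiCompact.compactSpace_of_compactSpace (X ↘ (Spec (CommRingCat.of k)))
  haveI : IsNoetherian X := {}
  have hcl : IsClosed (CohB1.support F) := Groth.Agent.S0020.result X F hF.2
  obtain ⟨-, hd⟩ := Groth.Agent.Helper2.TopDim.finite_discrete_of_dim_le_zero
    (↥(CohB1.support F)) hsupp
  haveI := hd
  exact ⟨Γ(F, ⊤), Groth.Agent.Lead.GlobGen.canFree F, epi_canFree_of_discrete_support F hcl⟩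

end Groth.Agent.Lead.ZeroDimGG
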