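import Mathlib
import Groth.Prelude.Def_ClSub2
import Groth.Prelude.Def_BlowUp2
import Groth.Prelude.Def_Pic
import Groth.Agent.Helper4.SubSec
import Groth.Agent.Helper4.AffineDict
import Groth.Agent.Helper4.AffineIso
import Groth.Agent.Helper1.IdealMod

/-!
# Dictionary for `ClSub.idealMod`

* `exists_section_iff` : sections of `idealMod 𝓘` over an affine open `U` ↔ elements of `𝓘.ideal U`.
* `isQuasicoherent_idealMod`.
* `ofSection`, `isIso_ofSection` : on an affine scheme, `O_Y ⟶ N` attached to a global section `t`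
  of a quasi-coherent `N` is an iso iff `a ↦ a • t` is bijective on global sections.
* `isEffCartierIdeal_of_isInvertible`, `isInvertible_of_isEffCartierIdeal` (= S8914).
-/

set_option autoImplicit false
universe u
open CategoryTheory CategoryTheory.Limits AlgebraicGeometry TopologicalSpace Opposite

namespace Groth.Agent.Lead.IdealModDict

open Groth.Agent.Helper1.IdealMod (fn ofFn)

variable {X : Scheme.{u}} (𝓘 : X.IdealSheafData)

/-- sections of `idealMod` over an affine open are the elements of the ideal -/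
theorem exists_section_iff (U : X.affineOpens) (s : Γ(X, U.1)) :
    (∃ t : Γ(ClSub.idealMod 𝓘, U.1),
      (ClSub.idealModι 𝓘).app U.1 t = (show Γ(Coh.structureModule X, U.1) from s)) ↔
      s ∈ 𝓘.ideal U := by
  rw [← 𝓘.ker_subschemeι_app U, RingHom.mem_ker]
  exact Groth.Agent.Helper4.SubSec.exists_kernel_section_iff (ClSub.toSubscheme 𝓘) U.1
    (show Γ(Coh.structureModule X, U.1) from s)

instance : Mono (ClSub.idealModι 𝓘) := inferInstanceAs (Mono (kernel.ι _))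

theorem idealModι_app_injective (T : X.Opens) :
    Function.Injective ((ClSub.idealModι 𝓘).app T) :=
  Groth.Agent.Helper4.AffineDict.app_injective_of_mono _ T

instance isQuasicoherent_idealMod : (ClSub.idealMod 𝓘).IsQuasicoherent := by
  haveI : ((Scheme.Modules.pushforward 𝓘.subschemeι).obj
      (Coh.structureModule 𝓘.subscheme)).IsQuasicoherent :=
    Groth.Agent.Helper4.QcohGlue.isQuasicoherent_pushforward 𝓘.subschemeι _
  exact Groth.Agent.Helper4.QcohLimits.isQuasicoherent_kernel (ClSub.toSubscheme 𝓘)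

theorem isEffCartierIdeal_of_isInvertible (h : PicF.IsInvertible (ClSub.idealMod 𝓘)) :
    BlowUp.IsEffCartierIdeal 𝓘 := by
  intro x
  obtain ⟨V, hxV, ⟨e⟩⟩ := h x
  obtain ⟨_, ⟨U', hU', rfl⟩, hxU', -⟩ :=
    (V : Scheme.{u}).isBasis_affineOpens.exists_subset_of_mem_open
      (Set.mem_univ (⟨x, hxV⟩ : V)) isOpen_univ
  have hT : IsAffineOpen (V.ι ''ᵁ U') := hU'.image_of_isOpenImmersion V.ι
  refine ⟨⟨V.ι ''ᵁ U', hT⟩, ⟨⟨x, hxV⟩, hxU', rfl⟩, ?_⟩
  -- the two inverse maps on sections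
  have hαβ : ∀ r : Γ(Coh.structureModule (V : Scheme.{u}), U'),
      e.hom.app U' (e.inv.app U' r) = r := fun r => by
    have := congr(($(e.inv_hom_id)).app U' r)
    exact this
  have hβα : ∀ m : Γ((ClSub.idealMod 𝓘).restrict V.ι, U'),
      e.inv.app U' (e.hom.app U' m) = m := fun m => by
    have := congr(($(e.hom_inv_id)).app U' m)
    exact this
  -- the generator
  let one : Γ(Coh.structureModule (V : Scheme.{u}), U') := (1 : Γ((V : Scheme.{u}), U'))
  let g : Γ(ClSub.idealMod 𝓘, V.ι ''ᵁ U') := e.inv.app U' one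
  let f : Γ(X, V.ι ''ᵁ U') := fn ((ClSub.idealModι 𝓘).app (V.ι ''ᵁ U') g)
  -- scalar multiplication on the restriction
  have hsm : ∀ (r : Γ((V : Scheme.{u}), U')) (m : Γ(ClSub.idealMod 𝓘, V.ι ''ᵁ U')),
      (r • (show Γ((ClSub.idealMod 𝓘).restrict V.ι, U') from m)) =
        (show Γ((ClSub.idealMod 𝓘).restrict V.ι, U') from ((V.ι.appIso U').inv r) • m) :=
    fun r m => rfl
  have hι : ∀ (a : Γ(X, V.ι ''ᵁ U')) (m : Γ(ClSub.idealMod 𝓘, V.ι ''ᵁ U')),
      fn ((ClSub.idealModι 𝓘).app (V.ι ''ᵁ U') (a • m)) =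
        a * fn ((ClSub.idealModι 𝓘).app (V.ι ''ᵁ U') m) := fun a m =>
    Scheme.Modules.Hom.app_smul (ClSub.idealModι 𝓘) a m
  refine ⟨f, ?_, ?_⟩
  · -- nonzerodivisor
    rw [mem_nonZeroDivisors_iff_right]
    intro a ha
    have h1 : a • g = 0 := by
      apply idealModι_app_injective 𝓘 (V.ι ''ᵁ U')
      rw [map_zero]
      have := hι a g
      rw [ha] at this
      exact this
    -- transport to the restriction
    let r : Γ((V : Scheme.{u}), U') := (V.ι.appIso U').hom a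
    have hr : (V.ι.appIso U').inv r = a := by
      change ((V.ι.appIso U').hom ≫ (V.ι.appIso U').inv) a = a
      rw [Iso.hom_inv_id]; rfl
    have h2 : r • (show Γ((ClSub.idealMod 𝓘).restrict V.ι, U') from g) = 0 := by
      rw [hsm r g, hr]; exact h1
    have h3 := congrArg (e.hom.app U') h2
    rw [Scheme.Modules.Hom.app_smul, map_zero, hαβ] at h3
    have h4 : r = 0 := by
      have : r * 1 = 0 := h3
      rwa [mul_one] at this
    rw [← hr, h4, map_zero]
  · apply le_antisymm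
    · intro s hs
      obtain ⟨t, ht⟩ := (exists_section_iff 𝓘 ⟨V.ι ''ᵁ U', hT⟩ s).2 hs
      let r : Γ((V : Scheme.{u}), U') :=
        fn (e.hom.app U' (show Γ((ClSub.idealMod 𝓘).restrict V.ι, U') from t))
      have h1 : (show Γ((ClSub.idealMod 𝓘).restrict V.ι, U') from t) =
          r • (show Γ((ClSub.idealMod 𝓘).restrict V.ι, U') from g) := by
        have h2 : e.hom.app U' (show Γ((ClSub.idealMod 𝓘).restrict V.ι, U') from t) =
            r • one := by
          change _ = r * 1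
          rw [mul_one]; rfl
        have h3 := congrArg (e.inv.app U') h2
        rw [hβα, Scheme.Modules.Hom.app_smul] at h3
        exact h3
      rw [hsm r g] at h1
      have h4 : t = ((V.ι.appIso U').inv r) • g := h1
      rw [Ideal.mem_span_singleton']
      refine ⟨(V.ι.appIso U').inv r, ?_⟩
      rw [← hι, ← h4]
      exact ht
    · rw [Ideal.span_le, Set.singleton_subset_iff]
      exact (exists_section_iff 𝓘 ⟨V.ι ''ᵁ U', hT⟩ f).1 ⟨g, rfl⟩

/-- the morphism `O_Y ⟶ N` attached to a global section -/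
noncomputable def ofSection {Y : Scheme.{u}} (N : Y.Modules) (t : Γ(N, ⊤)) :
    Coh.structureModule Y ⟶ N :=
  (SheafOfModules.unitHomEquiv N).symm
    (PresheafOfModules.sectionsMk (M := N.val)
      (fun W => N.presheaf.map (homOfLE (le_top : W.unop ≤ ⊤)).op t)
      (by
        intro W W' i
        change (N.presheaf.map (homOfLE (le_top : W.unop ≤ ⊤)).op ≫ N.presheaf.map i) t = _
        rw [← N.presheaf.map_comp]
        rfl))

theorem ofSection_app {Y : Scheme.{u}} (N : Y.Modules) (t : Γ(N, ⊤)) (W : Y.Opens)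
    (a : Γ(Y, W)) :
    (ofSection N t).app W (ofFn a) = a • N.presheaf.map (homOfLE (le_top : W ≤ ⊤)).op t := by
  rfl

theorem isIso_ofSection {Y : Scheme.{u}} [IsAffine Y] (N : Y.Modules) [hN : N.IsQuasicoherent]
    (t : Γ(N, ⊤)) (h : Function.Bijective (fun a : Γ(Y, ⊤) => a • t)) :
    IsIso (ofSection N t) := by
  apply Groth.Agent.Helper4.AffineIso.isIso_of_isIso_restrict
  intro y
  refine ⟨⊤, trivial, ?_⟩
  have key : ∀ W : Y.Opens, W = ⊤ → Function.Bijective ((ofSection N t).app W) := by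
    rintro _ rfl
    have : ((ofSection N t).app ⊤ : Γ(Coh.structureModule Y, ⊤) → Γ(N, ⊤)) =
        fun a : Γ(Y, ⊤) => a • t := by
      funext a
      have h1 := ofSection_app N t ⊤ a
      have h2 : N.presheaf.map (homOfLE (le_top : (⊤ : Y.Opens) ≤ ⊤)).op t = t := by
        have : (homOfLE (le_top : (⊤ : Y.Opens) ≤ ⊤)) = 𝟙 _ := Subsingleton.elim _ _
        rw [this, op_id, N.presheaf.map_id]
        rfl
      rw [h2] at h1
      exact h1
    rw [this]
    exact h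
  refine Groth.Agent.Helper4.AffineIso.isIso_restrict_of_affModMap_bijective
    (Groth.Agent.Helper1.IdealMod.isQuasicoherent_structureModule Y) hN _ ⊤ (isAffineOpen_top Y) ?_
  exact key _ (by simp)

theorem transport_gen (U T : X.affineOpens) (h : T = U) (f : Γ(X, U.1))
    (hf : f ∈ nonZeroDivisors Γ(X, U.1)) (h𝓘 : 𝓘.ideal U = Ideal.span {f}) :
    ∃ f' : Γ(X, T.1), f' ∈ nonZeroDivisors Γ(X, T.1) ∧ 𝓘.ideal T = Ideal.span {f'} := by
  subst h; exact ⟨f, hf, h𝓘⟩

theorem isInvertible_of_isEffCartierIdeal (h : BlowUp.IsEffCartierIdeal 𝓘) :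
    PicF.IsInvertible (ClSub.idealMod 𝓘) := by
  intro x
  obtain ⟨U, hxU, f, hf, h𝓘⟩ := h x
  refine ⟨U.1, hxU, ?_⟩
  haveI : IsAffine (U.1 : Scheme.{u}) := U.2
  have hTU : U.1.ι ''ᵁ ⊤ = U.1 := by simp
  have hT : IsAffineOpen (U.1.ι ''ᵁ ⊤) := by rw [hTU]; exact U.2
  obtain ⟨f', hf', h𝓘'⟩ := transport_gen 𝓘 U ⟨U.1.ι ''ᵁ ⊤, hT⟩ (Subtype.ext hTU) f hf h𝓘
  obtain ⟨t, ht⟩ := (exists_section_iff 𝓘 ⟨U.1.ι ''ᵁ ⊤, hT⟩ f').2
    (h𝓘' ▸ Ideal.mem_span_singleton_self f')
  have hι : ∀ (a : Γ(X, U.1.ι ''ᵁ ⊤)) (m : Γ(ClSub.idealMod 𝓘, U.1.ι ''ᵁ ⊤)),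
      fn ((ClSub.idealModι 𝓘).app (U.1.ι ''ᵁ ⊤) (a • m)) =
        a * fn ((ClSub.idealModι 𝓘).app (U.1.ι ''ᵁ ⊤) m) := fun a m =>
    Scheme.Modules.Hom.app_smul (ClSub.idealModι 𝓘) a m
  have hft : fn ((ClSub.idealModι 𝓘).app (U.1.ι ''ᵁ ⊤) t) = f' := ht
  have hsm : ∀ (r : Γ((U.1 : Scheme.{u}), ⊤)) (m : Γ(ClSub.idealMod 𝓘, U.1.ι ''ᵁ ⊤)),
      (r • (show Γ((ClSub.idealMod 𝓘).restrict U.1.ι, ⊤) from m)) =
        (show Γ((ClSub.idealMod 𝓘).restrict U.1.ι, ⊤) from ((U.1.ι.appIso ⊤).inv r) • m) :=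
    fun r m => rfl
  have hρ : Function.Injective ((U.1.ι.appIso ⊤).inv : Γ((U.1 : Scheme.{u}), ⊤) → Γ(X, U.1.ι ''ᵁ ⊤)) :=
    ((ConcreteCategory.isIso_iff_bijective (U.1.ι.appIso ⊤).inv).1 inferInstance).1
  haveI hiso : IsIso (ofSection ((ClSub.idealMod 𝓘).restrict U.1.ι)
      (show Γ((ClSub.idealMod 𝓘).restrict U.1.ι, ⊤) from t)) := by
    apply isIso_ofSection
    constructor
    · intro a b hab
      change a • (show Γ((ClSub.idealMod 𝓘).restrict U.1.ι, ⊤) from t) =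
        b • (show Γ((ClSub.idealMod 𝓘).restrict U.1.ι, ⊤) from t) at hab
      rw [hsm, hsm] at hab
      have h1 := congrArg (fun m => fn ((ClSub.idealModι 𝓘).app (U.1.ι ''ᵁ ⊤) m)) hab
      simp only [] at h1
      rw [hι, hι, hft] at h1
      exact hρ (mul_cancel_right_mem_nonZeroDivisors hf' |>.1 h1)
    · intro m
      have hm : fn ((ClSub.idealModι 𝓘).app (U.1.ι ''ᵁ ⊤) m) ∈ 𝓘.ideal ⟨U.1.ι ''ᵁ ⊤, hT⟩ :=
        (exists_section_iff 𝓘 ⟨U.1.ι ''ᵁ ⊤, hT⟩ _).1 ⟨m, rfl⟩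
      rw [h𝓘', Ideal.mem_span_singleton'] at hm
      obtain ⟨c, hc⟩ := hm
      refine ⟨(U.1.ι.appIso ⊤).hom c, ?_⟩
      change ((U.1.ι.appIso ⊤).hom c) • (show Γ((ClSub.idealMod 𝓘).restrict U.1.ι, ⊤) from t) = m
      rw [hsm]
      have hc' : (U.1.ι.appIso ⊤).inv ((U.1.ι.appIso ⊤).hom c) = c := by
        change ((U.1.ι.appIso ⊤).hom ≫ (U.1.ι.appIso ⊤).inv) c = c
        rw [Iso.hom_inv_id]; rfl
      rw [hc']
      apply idealModι_app_injective 𝓘 (U.1.ι ''ᵁ ⊤)
      have := hι c t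
      rw [hft, hc] at this
      exact this
  exact ⟨(asIso (ofSection ((ClSub.idealMod 𝓘).restrict U.1.ι)
      (show Γ((ClSub.idealMod 𝓘).restrict U.1.ι, ⊤) from t))).symm⟩

end Groth.Agent.Lead.IdealModDict
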