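import Groth.Agent.Lead.BCMap11
import Groth.Agent.Lead.FlatPull
import Groth.Agent.Helper8.TildeBC

set_option autoImplicit false
open CategoryTheory CategoryTheory.Limits AlgebraicGeometry Opposite TopologicalSpace
universe u

namespace Groth.Agent.Lead.GlobGen
open Scheme.Modules Groth.Agent.Helper4 Groth.Agent.Lead.BCMap


theorem isQuasicoherent_free {X : Scheme.{u}} (I : Type u) :
    (SheafOfModules.free I : X.Modules).IsQuasicoherent := by
  have H : (0 : (SheafOfModules.free PEmpty.{u+1} : X.Modules) ⟶ SheafOfModules.free I) ≫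
      𝟙 (SheafOfModules.free I : X.Modules) = 0 := zero_comp
  exact (SheafOfModules.presentationOfIsCokernelFree
    (0 : (SheafOfModules.free PEmpty.{u+1} : X.Modules) ⟶ SheafOfModules.free I)
    (𝟙 (SheafOfModules.free I : X.Modules)) H
    (CokernelCofork.IsColimit.ofId _ rfl)).isQuasicoherent


section Sections
variable {X : Scheme.{u}}

/-- the global section attached to an element of `Γ(M, ⊤)` -/
noncomputable def secOfTop (M : X.Modules) (m : Γ(M, ⊤)) : SheafOfModules.sections M :=
  PresheafOfModules.sectionsMk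
    (fun U => M.presheaf.map (homOfLE (le_top : U.unop ≤ ⊤)).op m)
    (fun U V f => by
      change M.presheaf.map f (M.presheaf.map (homOfLE (le_top : U.unop ≤ ⊤)).op m) =
        M.presheaf.map (homOfLE (le_top : V.unop ≤ ⊤)).op m
      exact QcohGlue.map_map_thin M _ _ _ m)

theorem secOfTop_top (M : X.Modules) (m : Γ(M, ⊤)) :
    (secOfTop M m).val (op ⊤) = m := by
  change M.presheaf.map (homOfLE (le_top : (⊤ : X.Opens) ≤ ⊤)).op m = m
  have : (homOfLE (le_top : (⊤ : X.Opens) ≤ ⊤)).op = 𝟙 (op ⊤) := Subsingleton.elim _ _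
  rw [this, M.presheaf.map_id]
  rfl

theorem sections_eq_zero_of_top (M : X.Modules) (σ τ : SheafOfModules.sections M)
    (h : σ.val (op ⊤) = τ.val (op ⊤)) : σ = τ := by
  apply PresheafOfModules.sections_ext
  intro U
  have h1 := PresheafOfModules.sections_property σ (homOfLE (le_top : U.unop ≤ ⊤)).op
  have h2 := PresheafOfModules.sections_property τ (homOfLE (le_top : U.unop ≤ ⊤)).op
  rw [← h1, ← h2]
  exact congrArg _ h

/-- a morphism out of a free module is determined by the images of the global sections -/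
theorem free_comp_eq_zero {J : Type u} {N C : X.Modules} (q : (SheafOfModules.free J : X.Modules) ⟶ N)
    (c : N ⟶ C) (hc : ∀ t : Γ(N, ⊤), c.app ⊤ t = 0) : q ≫ c = 0 := by
  apply (SheafOfModules.freeHomEquiv C).injective
  funext j
  rw [SheafOfModules.freeHomEquiv_comp_apply]
  apply sections_eq_zero_of_top
  change c.app ⊤ ((N.freeHomEquiv q j).val (op ⊤)) = _
  rw [hc]
  rfl

/-- the canonical morphism from the free module on the global sections -/
noncomputable def canFree (F : X.Modules) : (SheafOfModules.free Γ(F, ⊤) : X.Modules) ⟶ F :=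
  (SheafOfModules.freeHomEquiv F).symm (fun s => secOfTop F s)

theorem canFree_surj (F : X.Modules) (s : Γ(F, ⊤)) :
    ∃ x : Γ((SheafOfModules.free Γ(F, ⊤) : X.Modules), ⊤), Scheme.Modules.Hom.app (canFree F) ⊤ x = s := by
  refine ⟨(SheafOfModules.freeSection s).val (op ⊤), ?_⟩
  have h := SheafOfModules.sectionsMap_freeHomEquiv_symm_freeSection
    (M := F) (fun s : Γ(F, ⊤) => secOfTop F s) s
  have h2 := congrArg (fun σ : SheafOfModules.sections F => σ.val (op ⊤)) h
  simp only [secOfTop_top] at h2
  exact h2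

end Sections


section Span
variable {X S X' S' : Scheme.{u}} (f : X ⟶ S) (g : S' ⟶ S) (g' : X' ⟶ X) (f' : X' ⟶ S')
  (h : IsPullback g' f' f g) (F : X.Modules) [F.IsQuasicoherent]

attribute [local instance] modRestr towerRestr

include h in
/-- over affine bases, with `g` flat and `f` qcqs, a morphism out of `g'^* F` which kills the
pullbacks of the global sections of `F` kills all global sections -/
theorem app_top_eq_zero [Flat g] [QuasiCompact f] [QuasiSeparated f] [IsAffine S] [IsAffine S']
    {C : X'.Modules} (c : (Scheme.Modules.pullback g').obj F ⟶ C)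
    (hc : ∀ s : Γ(F, ⊤), c.app ⊤ (pbSec g' F ⊤ ⊤ (top_le g') s) = 0)
    (t : Γ((Scheme.Modules.pullback g').obj F, ⊤)) : c.app ⊤ t = 0 := by
  have e : (⊤ : S'.Opens) ≤ g ⁻¹ᵁ ⊤ := top_le g
  letI := (g.appLE ⊤ ⊤ e).hom.toAlgebra
  haveI : CompactSpace X := by
    haveI : CompactSpace S := inferInstance
    exact QuasiCompact.compactSpace_of_compactSpace f
  haveI : QuasiSeparatedSpace X := quasiSeparatedSpace_of_quasiSeparated f
  have hUc : IsCompact ((⊤ : X.Opens) : Set X) := isCompact_univ
  have hUqs : IsQuasiSeparated ((⊤ : X.Opens) : Set X) :=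
    isQuasiSeparated_univ_iff.mpr inferInstance
  have hb := cT_isBaseChange_of_qcqs f g g' f' h F e (isAffineOpen_top S) (isAffineOpen_top S')
    (U := ⊤) hUc hUqs (top_le f) (U' := ⊤) (top_le f') (top_le g') (by ext; simp)
  refine hb.inductionOn (show SecT ((Scheme.Modules.pullback g').obj F) (f'.app ⊤).hom ⊤
    (top_le f') from t) (motive := fun t => c.app ⊤ (show Γ((Scheme.Modules.pullback g').obj F, ⊤)
      from t) = 0) ?_ ?_ ?_ ?_
  · exact map_zero _
  · intro m
    exact hc m
  · intro r n hn
    change c.app ⊤ ((strT (f'.app ⊤).hom ⊤ (top_le f') r) •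
      (show Γ((Scheme.Modules.pullback g').obj F, ⊤) from n)) = 0
    rw [Hom.app_smul, hn, smul_zero]
  · intro n₁ n₂ h₁ h₂
    change c.app ⊤ ((show Γ((Scheme.Modules.pullback g').obj F, ⊤) from n₁) +
      (show Γ((Scheme.Modules.pullback g').obj F, ⊤) from n₂)) = 0
    rw [map_add, h₁, h₂, add_zero]

end Span


section Main
variable {X S X' S' : Scheme.{u}} (f : X ⟶ S) (g : S' ⟶ S) (g' : X' ⟶ X) (f' : X' ⟶ S')
  (h : IsPullback g' f' f g) (F : X.Modules) [F.IsQuasicoherent]

include h in
theorem epi_pullback_canFree [Flat g] [QuasiCompact f] [QuasiSeparated f] [IsAffine S]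
    [IsAffine S'] {J : Type u}
    (q : (SheafOfModules.free J : X'.Modules) ⟶ (Scheme.Modules.pullback g').obj F) [Epi q] :
    Epi ((Scheme.Modules.pullback g').map (canFree F)) := by
  have hc0 : cokernel.π ((Scheme.Modules.pullback g').map (canFree F)) = 0 := by
    refine (cancel_epi q).mp ?_
    refine Eq.trans ?_ comp_zero.symm
    apply free_comp_eq_zero
    apply app_top_eq_zero f g g' f' h F
    intro s
    obtain ⟨x, hx⟩ := canFree_surj F s
    rw [← hx, pbSec_naturality]
    have h1 := cokernel.condition ((Scheme.Modules.pullback g').map (canFree F))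
    have h2 := congrArg (fun ψ => Scheme.Modules.Hom.app ψ ⊤
      (pbSec g' (SheafOfModules.free Γ(F, ⊤) : X.Modules) ⊤ ⊤ (top_le g') x)) h1
    exact h2
  exact Preadditive.epi_of_cokernel_zero hc0

include h in
theorem epi_canFree [Flat g] [Surjective g] [QuasiCompact f] [QuasiSeparated f] [IsAffine S]
    [IsAffine S'] {J : Type u}
    (q : (SheafOfModules.free J : X'.Modules) ⟶ (Scheme.Modules.pullback g').obj F) (hq : Epi q) :
    Epi (canFree F) := by
  haveI : Flat g' := MorphismProperty.of_isPullback (P := @Flat) h.flip inferInstance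
  haveI : Surjective g' := MorphismProperty.of_isPullback (P := @Surjective) h.flip inferInstance
  haveI := isQuasicoherent_free (X := X) Γ(F, ⊤)
  exact Groth.Agent.Lead.FlatPull.epi_of_forall_epi_pullback (ι := Unit) (fun _ => X')
    (fun _ => g') (fun z => ⟨(), g'.surjective z⟩) (canFree F)
    (fun _ => epi_pullback_canFree f g g' f' h F q)

/-- pullback preserves global generation -/
theorem globGen_pullback {X X' : Scheme.{u}} (g' : X' ⟶ X) (F : X.Modules) {I : Type u}
    (p : (SheafOfModules.free I : X.Modules) ⟶ F) (hp : Epi p) :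
    ∃ p' : (SheafOfModules.free I : X'.Modules) ⟶ (Scheme.Modules.pullback g').obj F, Epi p' := by
  haveI := Groth.Agent.Helper8.TildeBC.opensMap_final g'
  refine ⟨(SheafOfModules.pullbackObjFreeIso g'.toRingCatSheafHom I).inv ≫
    (Scheme.Modules.pullback g').map p, ?_⟩
  haveI : (Scheme.Modules.pullback g').PreservesEpimorphisms :=
    Functor.preservesEpimorphisms_of_adjunction (pullbackPushforwardAdjunction g')
  have hp' : @Epi X.Modules _ _ _ p := hp
  have h1 : Epi ((Scheme.Modules.pullback g').map p) :=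
    @Functor.map_epi _ _ _ _ (Scheme.Modules.pullback g') _ _ _ p hp'
  exact @epi_comp X'.Modules _ _ _ _ _ _ _ h1

end Main

end Groth.Agent.Lead.GlobGen
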