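import Groth.Agent.Lead.LimCISys
import Groth.Agent.Lead.LimHom
open CategoryTheory Limits AlgebraicGeometry

namespace Groth.Agent.Lead.LimCIStage
open Groth.Agent.Lead.LimPullback Groth.Agent.Lead.LimHom Groth.Agent.Lead.LimCISys
universe u
variable {I : Type u} [SmallCategory I] [IsCofiltered I] {D : I ⥤ Scheme.{u}} {c : Cone D}
  (hc : IsLimit c) [∀ {i j : I} (f : i ⟶ j), IsAffineHom (D.map f)] (i₀ : I)
  {U : Scheme.{u}} (u : U ⟶ D.obj i₀)

omit [IsCofiltered I] [∀ {i j : I} (f : i ⟶ j), IsAffineHom (D.map f)] in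
set_option backward.isDefEq.respectTransparency false in
/-- the projections of `pbCone` are base changes of the projections of `c` -/
theorem isPullback_pbCone_π (j : Over i₀) :
    IsPullback (pullback.fst (c.π.app i₀) u) ((pbCone D c i₀ u).π.app j) (c.π.app j.left)
      (pullback.fst (D.map j.hom) u) := by
  refine (IsPullback.of_right ?_ ?_ (IsPullback.of_hasPullback (D.map j.hom) u).flip).flip
  · have e1 : (pbCone D c i₀ u).π.app j ≫ pullback.snd (D.map j.hom) u =
        pullback.snd (c.π.app i₀) u := by simp [pbCone]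
    rw [e1, c.w]
    exact (IsPullback.of_hasPullback (c.π.app i₀) u).flip
  · simp [pbCone]

variable {Y : Scheme.{u}} (h : Y ⟶ c.pt)

omit [IsCofiltered I] [∀ {i j : I} (f : i ⟶ j), IsAffineHom (D.map f)] in
set_option backward.isDefEq.respectTransparency false in
theorem isPullback_stage (j : Over i₀) :
    IsPullback (pullback.fst h (pullback.fst (c.π.app i₀) u))
      (pullback.snd h (pullback.fst (c.π.app i₀) u) ≫ (pbCone D c i₀ u).π.app j)
      (h ≫ c.π.app j.left) (pullback.fst (D.map j.hom) u) :=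
  ((IsPullback.of_hasPullback h (pullback.fst (c.π.app i₀) u)).flip.paste_horiz
    (isPullback_pbCone_π i₀ u j).flip).flip

include hc in
set_option backward.isDefEq.respectTransparency false in
/-- local statement: over an affine open `U` of the stage `i₀` -/
theorem local_stage [IsAffine U] [IsOpenImmersion u] [IsClosedImmersion h]
    [LocallyOfFiniteType (h ≫ c.π.app i₀)] :
    ∃ j : Over i₀, ∀ (k : Over i₀) (_ : k ⟶ j), IsClosedImmersion
      (pullback.snd h (pullback.fst (c.π.app i₀) u) ≫ (pbCone D c i₀ u).π.app k) := by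
  classical
  have hπ : IsAffineHom (c.π.app i₀) := isAffineHom_π_app D c hc i₀
  let 𝒳 := pbDiag D i₀ u
  let cX := pbCone D c i₀ u
  have hcX : IsLimit cX := pbConeIsLimit i₀ u hc
  have hXA : ∀ {j k : Over i₀} (f : j ⟶ k), IsAffineHom (𝒳.map f) :=
    fun f ↦ isAffineHom_pbDiag_map i₀ u f
  have hXaff : ∀ j : Over i₀, IsAffine (𝒳.obj j) := fun j ↦ by
    have := isAffineHom_snd D i₀ u j
    exact isAffine_of_isAffineHom (pullback.snd (D.map j.hom) u)
  have hXlim : IsAffine cX.pt := by
    have : IsAffineHom (pullback.snd (c.π.app i₀) u) := MorphismProperty.pullback_snd _ _ hπ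
    exact isAffine_of_isAffineHom (pullback.snd (c.π.app i₀) u)
  let hU := pullback.snd h (pullback.fst (c.π.app i₀) u)
  have hYU : IsAffine (pullback h (pullback.fst (c.π.app i₀) u)) :=
    isAffine_of_isAffineHom hU
  -- structure maps to `U`
  let σ : ∀ j : Over i₀, 𝒳.obj j ⟶ U := fun j ↦ pullback.snd (D.map j.hom) u
  let τ : pullback h (pullback.fst (c.π.app i₀) u) ⟶ U := hU ≫ pullback.snd (c.π.app i₀) u
  have hσ : ∀ j : Over i₀, (hU ≫ cX.π.app j) ≫ σ j = τ := fun j ↦ by
    simp [cX, pbCone, σ, τ]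
  have hτ : LocallyOfFiniteType τ := by
    have hpb : IsPullback (pullback.fst h (pullback.fst (c.π.app i₀) u)) τ
        (h ≫ c.π.app i₀) u :=
      (IsPullback.of_hasPullback h (pullback.fst (c.π.app i₀) u)).flip.paste_horiz
        (IsPullback.of_hasPullback (c.π.app i₀) u).flip |>.flip
    exact MorphismProperty.of_isPullback (P := @LocallyOfFiniteType) hpb inferInstance
  have app2 : ∀ {A B C : Scheme.{u}} (f : A ⟶ B) (g : B ⟶ C) (x : Γ(C, ⊤)),
      f.appTop.hom (g.appTop.hom x) = (f ≫ g).appTop.hom x := by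
    intro A B C f g x; simp
  have comp2 : ∀ {A B C : Scheme.{u}} (f : A ⟶ B) (g : B ⟶ C),
      f.appTop.hom.comp g.appTop.hom = (f ≫ g).appTop.hom := by
    intro A B C f g; ext x; simp
  have hft : τ.appTop.hom.FiniteType :=
    HasRingHomProperty.appTop (P := @LocallyOfFiniteType) _ hτ
  have hsurj : Function.Surjective hU.appTop.hom :=
    (IsClosedImmersion.isAffine_surjective_of_isAffine hU).2
  have key : ∀ b : Γ(pullback h (pullback.fst (c.π.app i₀) u), ⊤), ∃ (k : Over i₀),
      ∀ (l : Over i₀) (_ : l ⟶ k), b ∈ (hU ≫ cX.π.app l).appTop.hom.range := by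
    intro b
    obtain ⟨x, hx⟩ := hsurj b
    obtain ⟨k, xk, hxk⟩ := exists_appTop_π_eq_of_isAffine_of_isLimit 𝒳 cX hcX x
    refine ⟨k, fun l ψ ↦ ⟨(𝒳.map ψ).appTop.hom xk, ?_⟩⟩
    have hxk' : (cX.π.app k).appTop.hom xk = x := hxk
    have e : (hU ≫ cX.π.app l) ≫ 𝒳.map ψ = hU ≫ cX.π.app k := by
      rw [Category.assoc, cX.w]
    have e2 : (hU ≫ cX.π.app k).appTop.hom xk = hU.appTop.hom ((cX.π.app k).appTop.hom xk) :=
      (app2 hU (cX.π.app k) xk).symm
    rw [app2, e, e2]
    exact (congrArg hU.appTop.hom hxk').trans hx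
  letI alg : Algebra Γ(U, ⊤) Γ(pullback h (pullback.fst (c.π.app i₀) u), ⊤) :=
    τ.appTop.hom.toAlgebra
  obtain ⟨s, hs⟩ := hft.out
  choose kk hkk using key
  obtain ⟨j, hj⟩ := IsCofiltered.inf_objs_exists (s.image kk)
  refine ⟨j, fun k φ ↦ ?_⟩
  have hk : IsAffine (𝒳.obj k) := hXaff k
  change IsClosedImmersion (hU ≫ cX.π.app k)
  apply IsClosedImmersion.of_surjective_of_isAffine
  change Function.Surjective (hU ≫ cX.π.app k).appTop.hom
  -- the range is a subring containing the image of `Γ(U)` and the generators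
  have hrange : ((hU ≫ cX.π.app k).appTop.hom.range : Subring _) = ⊤ := by
    have h1 : Algebra.adjoin Γ(U, ⊤)
        (s : Set Γ(pullback h (pullback.fst (c.π.app i₀) u), ⊤)) ≤
        (Subalgebra.mk (hU ≫ cX.π.app k).appTop.hom.range.toSubsemiring (fun r ↦ by
          refine ⟨(σ k).appTop.hom r, ?_⟩
          rw [app2, hσ]
          rfl) : Subalgebra Γ(U, ⊤) Γ(pullback h (pullback.fst (c.π.app i₀) u), ⊤)) := by
      apply Algebra.adjoin_le
      intro b hb
      obtain ⟨ψ⟩ := hj (Finset.mem_image_of_mem kk hb)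
      exact hkk b k (φ ≫ ψ)
    rw [hs] at h1
    rw [eq_top_iff]
    intro x _
    exact h1 (Algebra.mem_top)
  intro b
  have : b ∈ ((hU ≫ cX.π.app k).appTop.hom.range : Subring _) := by rw [hrange]; trivial
  exact this


include hc in
set_option backward.isDefEq.respectTransparency false in
/-- a closed subscheme of the limit, of finite type over a (compact) stage, is a closed subscheme
of some stage -/
theorem exists_isClosedImmersion_stage [CompactSpace (D.obj i₀)] [IsClosedImmersion h]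
    [LocallyOfFiniteType (h ≫ c.π.app i₀)] :
    ∃ j : Over i₀, IsClosedImmersion (h ≫ c.π.app j.left) := by
  classical
  let 𝒰 := (D.obj i₀).affineCover.finiteSubcover
  have hfin : Fintype 𝒰.I₀ := inferInstance
  have hU : ∀ r : 𝒰.I₀, ∃ j : Over i₀, ∀ (k : Over i₀) (_ : k ⟶ j), IsClosedImmersion
      (pullback.snd h (pullback.fst (c.π.app i₀) (𝒰.f r)) ≫ (pbCone D c i₀ (𝒰.f r)).π.app k) := by
    intro r
    have : IsAffine (𝒰.X r) := by dsimp [𝒰]; infer_instance
    exact local_stage hc i₀ (𝒰.f r) h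
  choose jr hjr using hU
  obtain ⟨j, hj⟩ := IsCofiltered.inf_objs_exists (Finset.univ.image jr)
  refine ⟨j, ?_⟩
  rw [IsZariskiLocalAtTarget.iff_of_openCover (P := @IsClosedImmersion)
    (𝒰.pullback₁ (D.map j.hom))]
  intro (r : 𝒰.I₀)
  obtain ⟨φ⟩ := hj (Finset.mem_image_of_mem jr (Finset.mem_univ r))
  have h1 := hjr r j φ
  have hpb := isPullback_stage i₀ (𝒰.f r) h j
  change IsClosedImmersion (pullback.snd (h ≫ c.π.app j.left) (pullback.fst (D.map j.hom) (𝒰.f r)))
  rw [← hpb.isoPullback_inv_snd]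
  infer_instance

end Groth.Agent.Lead.LimCIStage
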