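import Groth.Agent.Lead.NApxL
import Mathlib
open CategoryTheory Limits AlgebraicGeometry Opposite TopologicalSpace

namespace Groth.Agent.Lead.NApxM
universe u
open Groth.Agent.Lead.NApxK Groth.Agent.Lead.NApxL Groth.Agent.Lead.LimModel

section
variable {I : Type u} [Preorder I] [IsDirected I (· ≤ ·)] [Nonempty I]
  (D : Iᵒᵖ ⥤ Scheme.{u}) (hAff : ∀ (i j : Iᵒᵖ) (φ : i ⟶ j), IsAffineHom (D.map φ))
  (hD : ∀ i, CompactSpace (D.obj i) ∧ LocallyOfFiniteType (toSZ (D.obj i)))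
  (c : Cone D) (hc : IsLimit c)

include hAff hD hc in
lemma HasExt.of_isIso {Y : Scheme.{u}} (a : c.pt ⟶ Y) [IsIso a] : HasExt D c a := by
  refine ⟨I, inferInstance, inferInstance, inferInstance, D, c, hc, asIso a, OrderHom.id,
    fun j ↦ 𝟙 _, fun j ↦ inferInstanceAs (IsOpenImmersion (𝟙 (D.obj (op j)))), hAff, hD,
    fun j j' h ↦ ?_, fun j ↦ ?_⟩
  · change IsPullback (D.map (homOfLE h).op) (𝟙 (D.obj (op j))) (𝟙 (D.obj (op j')))
      (D.map (homOfLE h).op)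
    exact IsPullback.id_vert _
  · have : a ≫ (asIso a).inv = 𝟙 _ := by simp
    rw [this]
    exact IsPullback.id_vert (c.π.app (op j))

omit [IsDirected I (· ≤ ·)] [Nonempty I] in
lemma HasExt.comp {Y Y' : Scheme.{u}} (a : c.pt ⟶ Y) (a' : Y ⟶ Y') (h1 : HasExt D c a)
    (H : ∀ (J : Type u) [Preorder J] [IsDirected J (· ≤ ·)] [Nonempty J] (DS : Jᵒᵖ ⥤ Scheme.{u})
      (cS : Cone DS) (_ : IsLimit cS) (e : cS.pt ≅ Y),
      (∀ (j j' : Jᵒᵖ) (φ : j ⟶ j'), IsAffineHom (DS.map φ)) →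
      (∀ j, CompactSpace (DS.obj j) ∧ LocallyOfFiniteType (toSZ (DS.obj j))) →
      HasExt DS cS (e.hom ≫ a')) : HasExt D c (a ≫ a') := by
  obtain ⟨J, i1, i2, i3, DS, cS, hcS, e, α, u, h1, h2, h3, h4, h5⟩ := h1
  obtain ⟨J', i1', i2', i3', DS', cS', hcS', e', α', u', h1', h2', h3', h4', h5'⟩ :=
    H J DS cS hcS e h2 h3
  refine ⟨J', i1', i2', i3', DS', cS', hcS', e', α.comp α', fun j ↦ u (α' j) ≫ u' j, fun j ↦ ?_,
    h2', h3', fun j j' h ↦ ?_, fun j ↦ ?_⟩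
  · haveI := h1 (α' j)
    haveI := h1' j
    exact inferInstanceAs (IsOpenImmersion (u (α' j) ≫ u' j))
  · exact (h4 (α' j) (α' j') (α'.mono h)).paste_vert (h4' j j' h)
  · have := (h5 (α' j)).paste_vert (h5' j)
    have e2 : (a ≫ e.inv) ≫ (e.hom ≫ a') ≫ e'.inv = (a ≫ a') ≫ e'.inv := by simp
    rw [e2] at this
    exact this

end

section Induction
variable {I : Type u} [Preorder I] [IsDirected I (· ≤ ·)] [Nonempty I]
  (D : Iᵒᵖ ⥤ Scheme.{u}) (hAff : ∀ (i j : Iᵒᵖ) (φ : i ⟶ j), IsAffineHom (D.map φ))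
  (hD : ∀ i, CompactSpace (D.obj i) ∧ LocallyOfFiniteType (toSZ (D.obj i)))
  (c : Cone D) (hc : IsLimit c)
  (S : Scheme.{u}) [CompactSpace S] [QuasiSeparatedSpace S] (V : S.Opens) (eV : c.pt ≅ (V : Scheme.{u}))

include hAff hD hc in
theorem hasExt_of_qcqs : HasExt D c (eV.hom ≫ V.ι) := by
  have key : ∀ T : S.Opens, IsCompact (T : Set S) →
      HasExt D c (eV.hom ≫ S.homOfLE (le_sup_left : V ≤ V ⊔ T)) := by
    intro T hT
    refine compact_open_induction_on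
      (P := fun T ↦ HasExt D c (eV.hom ≫ S.homOfLE (le_sup_left : V ≤ V ⊔ T))) T hT ?_ ?_
    · haveI : IsIso (S.homOfLE (le_sup_left : V ≤ V ⊔ ⊥)) := by
        refine ⟨S.homOfLE (by simp), ?_, ?_⟩
        · rw [Scheme.homOfLE_homOfLE]; exact Scheme.homOfLE_rfl _ _
        · rw [Scheme.homOfLE_homOfLE]; exact Scheme.homOfLE_rfl _ _
      exact HasExt.of_isIso D hAff hD c hc _
    · intro T hT U ih
      have hle : V ⊔ T ≤ V ⊔ (T ⊔ U.1) := sup_le le_sup_left (le_sup_right.trans' le_sup_left)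
      have e : eV.hom ≫ S.homOfLE (le_sup_left : V ≤ V ⊔ (T ⊔ U.1)) =
          (eV.hom ≫ S.homOfLE (le_sup_left : V ≤ V ⊔ T)) ≫ S.homOfLE hle := by
        rw [Category.assoc, Scheme.homOfLE_homOfLE]
      rw [e]
      refine HasExt.comp D c _ _ ih ?_
      intro J _ _ _ DS cS hcS e hA hDS
      haveI : ∀ {i j : Jᵒᵖ} (φ : i ⟶ j), IsAffineHom (DS.map φ) := fun φ ↦ hA _ _ φ
      haveI : IsAffine (U.1 : Scheme.{u}) := U.2
      have hU : U.1 ≤ V ⊔ (T ⊔ U.1) := le_sup_right.trans' le_sup_right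
      haveI : QuasiSeparatedSpace ((V ⊔ (T ⊔ U.1) : S.Opens) : Scheme.{u}) :=
        (isQuasiSeparated_iff_quasiSeparatedSpace _ (V ⊔ (T ⊔ U.1)).2).mp
          (.of_quasiSeparatedSpace _)
      refine one_step DS hDS cS hcS (e.hom ≫ S.homOfLE hle) (S.homOfLE hU) ?_
      rintro ⟨y, hy⟩
      rcases hy with hy | hy | hy
      · left
        refine ⟨e.inv (⟨y, Or.inl hy⟩ : (V ⊔ T : S.Opens)), ?_⟩
        rw [← Scheme.Hom.comp_apply, Iso.inv_hom_id_assoc]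
        exact Scheme.homOfLE_apply' _ _ _
      · left
        refine ⟨e.inv (⟨y, Or.inr hy⟩ : (V ⊔ T : S.Opens)), ?_⟩
        rw [← Scheme.Hom.comp_apply, Iso.inv_hom_id_assoc]
        exact Scheme.homOfLE_apply' _ _ _
      · right
        exact ⟨⟨y, hy⟩, Scheme.homOfLE_apply' _ _ _⟩
  have h := key ⊤ isCompact_univ
  have htop : V ⊔ (⊤ : S.Opens) = ⊤ := by simp
  haveI : IsIso (V ⊔ (⊤ : S.Opens)).ι := by
    rw [htop]
    exact inferInstanceAs (IsIso S.topIso.hom)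
  have h2 := HasExt.of_iso D c _ (asIso (V ⊔ (⊤ : S.Opens)).ι) h
  have e : (eV.hom ≫ S.homOfLE (le_sup_left : V ≤ V ⊔ ⊤)) ≫ (asIso (V ⊔ (⊤ : S.Opens)).ι).hom =
      eV.hom ≫ V.ι := by
    rw [Category.assoc]
    congr 1
    exact Scheme.homOfLE_ι _ _
  rw [e] at h2
  exact h2

end Induction

end Groth.Agent.Lead.NApxM
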