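import Mathlib

set_option autoImplicit false
universe u
open AlgebraicGeometry CategoryTheory Limits TopologicalSpace

namespace Groth.Agent.Lead.LimSepStruct

set_option backward.isDefEq.respectTransparency false in
/-- key claim: with `f` separated, a point of the closure of the diagonal of `tj = f ≫ ti`
mapping into the diagonal of `ti` lies on the diagonal -/
theorem claim {Y X S : Scheme.{u}} (f : Y ⟶ X) (ti : X ⟶ S) (tj : Y ⟶ S) (h : f ≫ ti = tj)
    [IsSeparated f] (z : ↥(pullback tj tj))
    (hz : z ∈ closure (Set.range (pullback.diagonal tj)))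
    (hp : (pullback.map tj tj ti ti f f (𝟙 S) (by simp [h]) (by simp [h])) z ∈
      Set.range (pullback.diagonal ti)) :
    z ∈ Set.range (pullback.diagonal tj) := by
  subst h
  let m : pullback f f ⟶ pullback (f ≫ ti) (f ≫ ti) :=
    pullback.map f f (f ≫ ti) (f ≫ ti) (𝟙 Y) (𝟙 Y) ti (Category.id_comp _).symm
      (Category.id_comp _).symm
  have hpb := pullback_map_diagonal_isPullback f f ti
  haveI : IsImmersion m := MorphismProperty.of_isPullback hpb inferInstance
  have hm : pullback.diagonal (f ≫ ti) = pullback.diagonal f ≫ m := by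
    apply pullback.hom_ext <;> simp [m]
  obtain ⟨x, hx⟩ := hp
  obtain ⟨q, -, hq⟩ := Scheme.exists_preimage_of_isPullback hpb x z hx
  have hq' : m q = z := hq
  have hemb : Topology.IsEmbedding m := m.isEmbedding
  have hrange : Set.range (pullback.diagonal (f ≫ ti)) = m '' Set.range (pullback.diagonal f) := by
    rw [hm, ← Set.range_comp]
    rfl
  have hqcl : q ∈ closure (Set.range (pullback.diagonal f)) := by
    rw [hemb.closure_eq_preimage_closure_image, ← hrange]
    show m q ∈ closure (Set.range (pullback.diagonal (f ≫ ti)))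
    rw [hq']
    exact hz
  have hcl : IsClosed (Set.range (pullback.diagonal f)) :=
    (pullback.diagonal f).isClosedEmbedding.isClosed_range
  rw [hcl.closure_eq] at hqcl
  obtain ⟨y, hy⟩ := hqcl
  refine ⟨y, ?_⟩
  rw [hm, Scheme.Hom.comp_apply, hy, hq']

section
variable {I : Type u} [SmallCategory I] (S : Scheme.{u}) (D : I ⥤ Scheme.{u})
  (t : D ⟶ (Functor.const I).obj S)

theorem t_nat {i j : I} (φ : i ⟶ j) : D.map φ ≫ t.app j = t.app i := by
  simpa using t.naturality φ

set_option backward.isDefEq.respectTransparency false in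
/-- the diagram `i ↦ X_i ×_S X_i` -/
noncomputable def PD : I ⥤ Scheme.{u} where
  obj i := pullback (t.app i) (t.app i)
  map {i j} φ := pullback.map (t.app i) (t.app i) (t.app j) (t.app j) (D.map φ) (D.map φ) (𝟙 S)
    (by simp [t_nat]) (by simp [t_nat])
  map_id i := by apply pullback.hom_ext <;> simp
  map_comp φ ψ := by apply pullback.hom_ext <;> simp

variable {S D t}

set_option backward.isDefEq.respectTransparency false in
theorem diag_nat {i j : I} (φ : i ⟶ j) :
    pullback.diagonal (t.app i) ≫ (PD S D t).map φ = D.map φ ≫ pullback.diagonal (t.app j) := by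
  apply pullback.hom_ext <;> simp [PD]

variable (c : Cone D) (tX : c.pt ⟶ S) (htX : ∀ i, c.π.app i ≫ t.app i = tX)

set_option backward.isDefEq.respectTransparency false in
/-- the cone over `PD` with point `X ×_S X` -/
noncomputable def Pc : Cone (PD S D t) where
  pt := pullback tX tX
  π :=
    { app := fun i => pullback.map tX tX (t.app i) (t.app i) (c.π.app i) (c.π.app i) (𝟙 S)
        (by simp [htX]) (by simp [htX])
      naturality := fun i j φ => by
        apply pullback.hom_ext <;> simp [PD] }

set_option backward.isDefEq.respectTransparency false in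
theorem diag_cone (i : I) :
    pullback.diagonal tX ≫ (Pc c tX htX).π.app i = c.π.app i ≫ pullback.diagonal (t.app i) := by
  apply pullback.hom_ext <;> simp [Pc]

set_option backward.isDefEq.respectTransparency false in
/-- `X ×_S X` is the limit of the `X_i ×_S X_i` -/
noncomputable def PcIsLimit [IsCofiltered I] (hc : IsLimit c) : IsLimit (Pc c tX htX) where
  lift s := pullback.lift
    (hc.lift ⟨s.pt, { app := fun i => s.π.app i ≫ pullback.fst _ _
                      naturality := fun i j φ => by
                        have := s.w φ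
                        simp only [Functor.const_obj_obj, Functor.const_obj_map, Category.id_comp,
                          Category.assoc]
                        rw [← this]
                        simp [PD] }⟩)
    (hc.lift ⟨s.pt, { app := fun i => s.π.app i ≫ pullback.snd _ _
                      naturality := fun i j φ => by
                        have := s.w φ
                        simp only [Functor.const_obj_obj, Functor.const_obj_map, Category.id_comp,
                          Category.assoc]
                        rw [← this]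
                        simp [PD] }⟩)
    (by
      obtain ⟨i₀⟩ := IsCofiltered.nonempty (C := I)
      rw [← htX i₀, ← Category.assoc, ← Category.assoc, hc.fac, hc.fac]
      simp [pullback.condition])
  fac s i := by
    apply pullback.hom_ext
    · simp [Pc]
    · simp [Pc]
  uniq s m hm := by
    apply pullback.hom_ext
    · refine hc.hom_ext fun i => ?_
      simp only [pullback.lift_fst, IsLimit.fac, Category.assoc]
      rw [← hm i]
      simp [Pc]
    · refine hc.hom_ext fun i => ?_
      simp only [pullback.lift_snd, IsLimit.fac, Category.assoc]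
      rw [← hm i]
      simp [Pc]

end


section Main
variable {I : Type u} [SmallCategory I] [IsCofiltered I] {S : Scheme.{u}} [QuasiSeparatedSpace S]
  {D : I ⥤ Scheme.{u}} (t : D ⟶ (Functor.const I).obj S) (c : Cone D) (hc : IsLimit c)
  [∀ {i j : I} (a : i ⟶ j), IsAffineHom (D.map a)]
  [∀ i, CompactSpace (D.obj i)] [∀ i, QuasiSeparatedSpace (D.obj i)]

include hc in
set_option backward.isDefEq.respectTransparency false in
theorem exists_isSeparated (tX : c.pt ⟶ S) (htX : ∀ i, c.π.app i ≫ t.app i = tX)
    [IsSeparated tX] : ∃ i, IsSeparated (t.app i) := by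
  by_contra H
  push_neg at H
  haveI hPaff : ∀ {i j : I} (a : i ⟶ j), IsAffineHom ((PD S D t).map a) := fun a =>
    MorphismProperty.pullbackMap (P := @IsAffineHom) inferInstance inferInstance
      (t_nat S D t a).symm (t_nat S D t a).symm
  haveI hPc : ∀ i, CompactSpace ((PD S D t).obj i) := fun i => by
    haveI : QuasiCompact (t.app i) := quasiCompact_of_compactSpace (Y := S) (t.app i)
    exact inferInstanceAs (CompactSpace ↥(pullback (t.app i) (t.app i)))
  let Δ (i : I) : D.obj i ⟶ (PD S D t).obj i := pullback.diagonal (t.app i)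
  let Z (i : I) : Set ((PD S D t).obj i) := closure (Set.range (Δ i)) \ Set.range (Δ i)
  have hZc : ∀ i, IsClosed (Z i) := fun i => by
    have := (Δ i).isLocallyClosed_range.isOpen_coborder
    rw [coborder] at this
    exact isOpen_compl_iff.mp this
  have hZne : ∀ i, (Z i).Nonempty := by
    intro i
    by_contra hne
    rw [Set.not_nonempty_iff_eq_empty, Set.sdiff_eq_empty] at hne
    apply H i
    have hcl : IsClosed (Set.range (Δ i)) := closure_subset_iff_isClosed.mp hne
    have : IsClosedImmersion (Δ i) := IsClosedImmersion.of_isPreimmersion _ hcl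
    exact ⟨this⟩
  have hZmaps : ∀ {i j : I} (a : i ⟶ j), Set.MapsTo ((PD S D t).map a) (Z i) (Z j) := by
    intro i j a z hz
    constructor
    · have h1 : (PD S D t).map a z ∈ closure ((PD S D t).map a '' Set.range (Δ i)) :=
        image_closure_subset_closure_image ((PD S D t).map a).continuous ⟨z, hz.1, rfl⟩
      refine closure_mono ?_ h1
      rintro _ ⟨_, ⟨y, rfl⟩, rfl⟩
      refine ⟨D.map a y, ?_⟩
      rw [← Scheme.Hom.comp_apply, ← Scheme.Hom.comp_apply, diag_nat]
    · intro hmem
      exact hz.2 (claim (D.map a) (t.app j) (t.app i) (t_nat S D t a) z hz.1 hmem)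
  obtain ⟨s, hs⟩ := exists_mem_of_isClosed_of_nonempty (PD S D t) (Pc c tX htX)
    (PcIsLimit c tX htX hc) Z hZc hZne (fun i => (hZc i).isCompact) hZmaps
  let ΔX : c.pt ⟶ pullback tX tX := pullback.diagonal tX
  let πP (i : I) : pullback tX tX ⟶ (PD S D t).obj i := (Pc c tX htX).π.app i
  have hπΔ : ∀ i, ΔX ≫ πP i = c.π.app i ≫ Δ i := fun i => diag_cone c tX htX i
  have hπw : ∀ {i j : I} (a : i ⟶ j), πP i ≫ (PD S D t).map a = πP j := fun a =>
    (Pc c tX htX).w a
  replace hs : ∀ i, πP i s ∈ Z i := hs
  have hsX : s ∉ Set.range ΔX := by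
    rintro ⟨x, rfl⟩
    obtain ⟨i⟩ := IsCofiltered.nonempty (C := I)
    apply (hs i).2
    refine ⟨c.π.app i x, ?_⟩
    rw [← Scheme.Hom.comp_apply, ← Scheme.Hom.comp_apply, hπΔ]
    rfl
  have hclX : IsClosed (Set.range ΔX) := ΔX.isClosedEmbedding.isClosed_range
  let O : (pullback tX tX).Opens := ⟨(Set.range ΔX)ᶜ, hclX.isOpen_compl⟩
  obtain ⟨_, ⟨i, V, hV, rfl⟩, hsV, hVO⟩ :=
    (TopologicalSpace.Opens.isBasis_iff_nbhd.mp (isBasis_preimage_isAffineOpen (PD S D t)
      (Pc c tX htX) (PcIsLimit c tX htX hc))) (show s ∈ O from hsX)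
  replace hsV : πP i s ∈ V := hsV
  replace hVO : ∀ w, πP i w ∈ V → w ∉ Set.range ΔX := fun w hw => hVO hw
  let E : (D.obj i).Opens := Δ i ⁻¹ᵁ V
  have hEc : IsCompact (E : Set (D.obj i)) :=
    QuasiCompact.isCompact_preimage (f := Δ i) _ V.2 hV.isCompact
  have hE : c.π.app i ⁻¹ᵁ E ≤ c.π.app i ⁻¹ᵁ ⊥ := by
    intro x hx
    exfalso
    have h3 : πP i (ΔX x) ∈ V := by
      rw [← Scheme.Hom.comp_apply, hπΔ, Scheme.Hom.comp_apply]
      exact hx
    exact hVO _ h3 ⟨x, rfl⟩
  obtain ⟨j, a, hj⟩ := exists_map_preimage_le_map_preimage D c hc hEc hE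
  have h1 : πP j s ∈ closure (Set.range (Δ j)) := (hs j).1
  have h2 : πP j s ∈ ((PD S D t).map a ⁻¹ᵁ V : Opens _) := by
    show (PD S D t).map a (πP j s) ∈ V
    rw [← Scheme.Hom.comp_apply, hπw a]
    exact hsV
  obtain ⟨_, hw1, ⟨y, rfl⟩⟩ := mem_closure_iff.mp h1 _ ((PD S D t).map a ⁻¹ᵁ V).2 h2
  have h4 : y ∈ D.map a ⁻¹ᵁ E := by
    show Δ i (D.map a y) ∈ V
    rw [← Scheme.Hom.comp_apply, ← diag_nat, Scheme.Hom.comp_apply]
    exact hw1
  exact (hj h4).elim

include hc in
theorem main (i₀ : I) [IsSeparated (c.π.app i₀ ≫ t.app i₀)] :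
    ∃ i₁ : I, ∀ (i : I) (_ : i ⟶ i₁), IsSeparated (t.app i) := by
  have htX : ∀ i, c.π.app i ≫ t.app i = c.π.app i₀ ≫ t.app i₀ := by
    intro i
    obtain ⟨k, a, b, -⟩ := IsCofiltered.cospan (𝟙 i₀) (𝟙 i₀)
    let k := IsCofiltered.min i i₀
    rw [← c.w (IsCofiltered.minToLeft i i₀), ← c.w (IsCofiltered.minToRight i i₀),
      Category.assoc, Category.assoc, t_nat, t_nat]
  obtain ⟨i₁, h₁⟩ := exists_isSeparated t c hc (c.π.app i₀ ≫ t.app i₀) htX
  refine ⟨i₁, fun i a => ?_⟩
  rw [← t_nat S D t a]
  infer_instance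

end Main

end Groth.Agent.Lead.LimSepStruct
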