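import Mathlib
open CategoryTheory Limits AlgebraicGeometry Topology

namespace Groth.Agent.Lead.LimConstr
universe u

/-- A constructible subset of a compact space is compact. -/
lemma isCompact_of_isConstructible {X : Type*} [TopologicalSpace X] [CompactSpace X]
    {s : Set X} (hs : IsConstructible s) : IsCompact s := by
  induction s, hs using BooleanSubalgebra.closure_sdiff_sup_induction with
  | isSublattice =>
    exact ⟨fun s hs t ht ↦ ⟨hs.1.union ht.1, hs.2.union ht.2⟩,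
      fun s hs t ht ↦ ⟨hs.1.inter ht.1, hs.2.inter_isOpen ht.2 ht.1⟩⟩
  | bot_mem => exact ⟨isOpen_empty, .empty⟩
  | top_mem => exact ⟨isOpen_univ, .univ⟩
  | sdiff U hU V hV => exact hU.2.isCompact.diff hV.1
  | sup s _ t _ hs' ht' => exact hs'.union ht'

variable {I : Type u} [SmallCategory I] [IsCofiltered I] (D : I ⥤ Scheme.{u}) (c : Cone D)
  (hc : IsLimit c) [∀ {i j : I} (f : i ⟶ j), IsAffineHom (D.map f)]

include hc in
/-- Key descent lemma for constructible sets. -/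
lemma exists_map_preimage_inter_subset {k : I} (T : Set (D.obj k)) (hT : IsConstructible T)
    (W₁ W₂ : (D.obj k).Opens) (hW₁ : IsCompact (W₁ : Set (D.obj k)))
    (H : ⇑(c.π.app k) ⁻¹' (T ∩ W₁) ⊆ ⇑(c.π.app k) ⁻¹' W₂) :
    ∃ (j : I) (f : j ⟶ k), ⇑(D.map f) ⁻¹' (T ∩ W₁) ⊆ ⇑(D.map f) ⁻¹' W₂ := by
  induction T, hT using BooleanSubalgebra.closure_sdiff_sup_induction with
  | isSublattice =>
    exact ⟨fun s hs t ht ↦ ⟨hs.1.union ht.1, hs.2.union ht.2⟩,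
      fun s hs t ht ↦ ⟨hs.1.inter ht.1, hs.2.inter_isOpen ht.2 ht.1⟩⟩
  | bot_mem => exact ⟨isOpen_empty, .empty⟩
  | top_mem => exact ⟨isOpen_univ, .univ⟩
  | sdiff U hU V hV =>
    let A : (D.obj k).Opens := ⟨U, hU.1⟩ ⊓ W₁
    let B : (D.obj k).Opens := ⟨V, hV.1⟩ ⊔ W₂
    have hA : IsCompact (A : Set (D.obj k)) := hU.2 hW₁ W₁.2
    obtain ⟨j, f, hj⟩ := exists_map_preimage_le_map_preimage D c hc (U := A) (V := B) hA
      (by
        rintro x ⟨hx1 : c.π.app k x ∈ U, hx2 : c.π.app k x ∈ W₁⟩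
        by_cases hxV : c.π.app k x ∈ V
        · exact Or.inl hxV
        · exact Or.inr (H ⟨⟨hx1, hxV⟩, hx2⟩))
    refine ⟨j, f, ?_⟩
    rintro y ⟨⟨hy1, hy2⟩, hy3⟩
    have : y ∈ D.map f ⁻¹ᵁ B := hj ⟨hy1, hy3⟩
    rcases this with h | h
    · exact (hy2 h).elim
    · exact h
  | sup s _ t _ hs' ht' =>
    obtain ⟨j1, f1, h1⟩ := hs' (fun x hx ↦ H ⟨Or.inl hx.1, hx.2⟩)
    obtain ⟨j2, f2, h2⟩ := ht' (fun x hx ↦ H ⟨Or.inr hx.1, hx.2⟩)
    obtain ⟨l, g1, g2, hg⟩ := IsCofiltered.cospan f1 f2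
    refine ⟨l, g1 ≫ f1, ?_⟩
    rintro y ⟨hy1 | hy1, hy2⟩
    · have e : D.map (g1 ≫ f1) y = D.map f1 (D.map g1 y) := by
        rw [D.map_comp, Scheme.Hom.comp_apply]
      have : D.map g1 y ∈ ⇑(D.map f1) ⁻¹' (s ∩ W₁) := by
        constructor
        · show D.map f1 (D.map g1 y) ∈ s
          rw [← e]; exact hy1
        · show D.map f1 (D.map g1 y) ∈ W₁
          rw [← e]; exact hy2
      have := h1 this
      show D.map (g1 ≫ f1) y ∈ W₂
      rw [e]; exact this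
    · have e : D.map (g1 ≫ f1) y = D.map f2 (D.map g2 y) := by
        rw [hg, D.map_comp, Scheme.Hom.comp_apply]
      have : D.map g2 y ∈ ⇑(D.map f2) ⁻¹' (t ∩ W₁) := by
        constructor
        · show D.map f2 (D.map g2 y) ∈ t
          rw [← e]; exact hy1
        · show D.map f2 (D.map g2 y) ∈ W₁
          rw [← e]; exact hy2
      have := h2 this
      show D.map (g1 ≫ f1) y ∈ W₂
      rw [e]; exact this

omit [IsCofiltered I] [∀ {i j : I} (f : i ⟶ j), IsAffineHom (D.map f)] in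
/-- Inclusions of preimages persist at later stages. -/
lemma preimage_subset_comp {j l k : I} (f : j ⟶ k) (g : l ⟶ j) {A B : Set (D.obj k)}
    (h : ⇑(D.map f) ⁻¹' A ⊆ ⇑(D.map f) ⁻¹' B) :
    ⇑(D.map (g ≫ f)) ⁻¹' A ⊆ ⇑(D.map (g ≫ f)) ⁻¹' B := by
  intro y hy
  have e : D.map (g ≫ f) y = D.map f (D.map g y) := by
    rw [D.map_comp, Scheme.Hom.comp_apply]
  have h1 : D.map g y ∈ ⇑(D.map f) ⁻¹' A := by
    show D.map f (D.map g y) ∈ A
    rw [← e]; exact hy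
  have := h h1
  show D.map (g ≫ f) y ∈ B
  rw [e]; exact this

omit [∀ {i j : I} (f : i ⟶ j), IsAffineHom (D.map f)] in
/-- Two eventually-true stable inclusions hold simultaneously at some stage. -/
lemma exists_and_of_stable {k : I} {P Q : ∀ j : I, (j ⟶ k) → Prop}
    (hP : ∀ ⦃j l : I⦄ (f : j ⟶ k) (g : l ⟶ j), P j f → P l (g ≫ f))
    (hQ : ∀ ⦃j l : I⦄ (f : j ⟶ k) (g : l ⟶ j), Q j f → Q l (g ≫ f))
    (h1 : ∃ j f, P j f) (h2 : ∃ j f, Q j f) : ∃ j f, P j f ∧ Q j f := by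
  obtain ⟨j1, f1, h1⟩ := h1
  obtain ⟨j2, f2, h2⟩ := h2
  obtain ⟨l, g1, g2, hg⟩ := IsCofiltered.cospan f1 f2
  exact ⟨l, g1 ≫ f1, hP f1 g1 h1, hg ▸ hQ f2 g2 h2⟩

end Groth.Agent.Lead.LimConstr
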