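import Mathlib
open CategoryTheory Limits AlgebraicGeometry

namespace Groth.Agent.Lead.LimPullback
universe u
variable {I : Type u} [SmallCategory I] (D : I ⥤ Scheme.{u}) (c : Cone D)
  (i : I) {T : Scheme.{u}} (g : T ⟶ D.obj i)

set_option backward.isDefEq.respectTransparency false in
/-- The diagram of pullbacks along `g` of the part of the diagram over `i`. -/
noncomputable def pbDiag : Over i ⥤ Scheme.{u} where
  obj j := pullback (D.map j.hom) g
  map {j k} f := pullback.map (D.map j.hom) g (D.map k.hom) g (D.map f.left) (𝟙 T) (𝟙 _)
    (by simp [← D.map_comp]) (by simp)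
  map_id j := by
    apply pullback.hom_ext <;> simp
  map_comp f h := by
    apply pullback.hom_ext <;> simp

set_option backward.isDefEq.respectTransparency false in
/-- The cone of pullbacks. -/
noncomputable def pbCone : Cone (pbDiag D i g) where
  pt := pullback (c.π.app i) g
  π :=
  { app j := pullback.map (c.π.app i) g (D.map j.hom) g (c.π.app j.left) (𝟙 T) (𝟙 _)
      (by simp) (by simp)
    naturality j k f := by
      apply pullback.hom_ext <;> simp [pbDiag] }

set_option backward.isDefEq.respectTransparency false in
/-- Auxiliary cone. -/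
noncomputable def auxCone (s : Cone (pbDiag D i g)) : Cone (Over.forget i ⋙ D) where
  pt := s.pt
  π :=
  { app j := s.π.app j ≫ pullback.fst _ _
    naturality j k f := by
      have := s.w f
      simp only [Functor.const_obj_obj, Functor.const_obj_map, Category.id_comp, Functor.comp_obj,
        Over.forget_obj, Functor.comp_map, Over.forget_map]
      rw [← this]
      simp [pbDiag] }

set_option backward.isDefEq.respectTransparency false in
variable {D c} in
/-- The cone of pullbacks is a limit cone. -/
noncomputable def pbConeIsLimit [IsCofiltered I] (hc : IsLimit c) : IsLimit (pbCone D c i g) := by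
  have hc' : IsLimit (c.whisker (Over.forget i)) :=
    (Functor.Initial.isLimitWhiskerEquiv (Over.forget i) c).symm hc
  have key : ∀ (s : Cone (pbDiag D i g)) (j : Over i),
      s.π.app j ≫ pullback.snd _ _ = s.π.app (Over.mk (𝟙 i)) ≫ pullback.snd _ _ := by
    intro s j
    have := s.w (Over.homMk j.hom : j ⟶ Over.mk (𝟙 i))
    rw [← this]
    simp [pbDiag]
  refine
  { lift s := pullback.lift (hc'.lift (auxCone D i g s))
      (s.π.app (Over.mk (𝟙 i)) ≫ pullback.snd _ _) ?_
    fac s j := ?_
    uniq s m hm := ?_ }
  · have := hc'.fac (auxCone D i g s) (Over.mk (𝟙 i))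
    simp only [Cone.whisker_pt, Functor.comp_obj, Over.forget_obj, Cone.whisker_π,
      Functor.whiskerLeft_app, Over.mk_left] at this
    rw [this, Category.assoc, ← pullback.condition]
    simp [auxCone]
  · apply pullback.hom_ext
    · have := hc'.fac (auxCone D i g s) j
      simpa [pbCone, auxCone] using this
    · simp [pbCone, key s j]
  · apply pullback.hom_ext
    · simp only [pullback.lift_fst]
      refine hc'.hom_ext fun j ↦ ?_
      rw [hc'.fac]
      simp only [Cone.whisker_pt, Functor.comp_obj, Over.forget_obj, Cone.whisker_π,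
        Functor.whiskerLeft_app, Category.assoc, auxCone]
      rw [← hm j]
      simp [pbCone]
    · simp only [pullback.lift_snd]
      rw [← hm (Over.mk (𝟙 i))]
      simp [pbCone]

set_option backward.isDefEq.respectTransparency false in
/-- A cofiltered limit with affine transition maps, pulled back along a map from an affine scheme,
is nonempty as soon as all the pullbacks of the stages are nonempty. -/
lemma nonempty_pullback [IsCofiltered I] {D : I ⥤ Scheme.{u}} {c : Cone D} (hc : IsLimit c)
    [∀ {i j : I} (f : i ⟶ j), IsAffineHom (D.map f)] (i : I) {T : Scheme.{u}} (g : T ⟶ D.obj i)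
    [IsAffine T] (h : ∀ (j : I) (φ : j ⟶ i), Nonempty ↑(pullback (D.map φ) g)) :
    Nonempty ↑(pullback (c.π.app i) g) := by
  have hA : ∀ j : Over i, IsAffineHom (D.map j.hom) := fun j ↦
    ‹∀ {i j : I} (f : i ⟶ j), IsAffineHom (D.map f)› j.hom
  have h1 : ∀ {j k : Over i} (f : j ⟶ k), IsAffineHom ((pbDiag D i g).map f) := by
    intro j k f
    have := hA j
    have := hA k
    have : IsAffineHom (pullback.snd (D.map j.hom) g) := MorphismProperty.pullback_snd _ _ (hA j)
    have : IsAffineHom (pullback.snd (D.map k.hom) g) := MorphismProperty.pullback_snd _ _ (hA k)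
    have : IsAffineHom ((pbDiag D i g).map f ≫ pullback.snd (D.map k.hom) g) := by
      have e : (pbDiag D i g).map f ≫ pullback.snd (D.map k.hom) g =
          pullback.snd (D.map j.hom) g := by simp [pbDiag]
      rw [e]; infer_instance
    exact .of_comp _ (pullback.snd (D.map k.hom) g)
  have h2 : ∀ j : Over i, Nonempty ↑((pbDiag D i g).obj j) := fun j ↦ h j.left j.hom
  have h3 : ∀ j : Over i, CompactSpace ↑((pbDiag D i g).obj j) := by
    intro j
    have : IsAffineHom (pullback.snd (D.map j.hom) g) := MorphismProperty.pullback_snd _ _ (hA j)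
    have : IsAffine ((pbDiag D i g).obj j) :=
      isAffine_of_isAffineHom (pullback.snd (D.map j.hom) g)
    infer_instance
  exact Scheme.nonempty_of_isLimit (pbDiag D i g) (pbCone D c i g) (pbConeIsLimit i g hc)

set_option backward.isDefEq.respectTransparency false in
/-- The transition maps of the pulled-back diagram are affine. -/
lemma isAffineHom_pbDiag_map {D : I ⥤ Scheme.{u}}
    [∀ {i j : I} (f : i ⟶ j), IsAffineHom (D.map f)] (i : I) {T : Scheme.{u}} (g : T ⟶ D.obj i)
    {j k : Over i} (f : j ⟶ k) : IsAffineHom ((pbDiag D i g).map f) := by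
  have hA : ∀ j : Over i, IsAffineHom (D.map j.hom) := fun j ↦
    ‹∀ {i j : I} (f : i ⟶ j), IsAffineHom (D.map f)› j.hom
  have : IsAffineHom (pullback.snd (D.map j.hom) g) := MorphismProperty.pullback_snd _ _ (hA j)
  have : IsAffineHom (pullback.snd (D.map k.hom) g) := MorphismProperty.pullback_snd _ _ (hA k)
  have : IsAffineHom ((pbDiag D i g).map f ≫ pullback.snd (D.map k.hom) g) := by
    have e : (pbDiag D i g).map f ≫ pullback.snd (D.map k.hom) g =
        pullback.snd (D.map j.hom) g := by simp [pbDiag]
    rw [e]; infer_instance
  exact .of_comp _ (pullback.snd (D.map k.hom) g)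

end Groth.Agent.Lead.LimPullback
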