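import Groth.Agent.Lead.LimFinSys
open CategoryTheory Limits AlgebraicGeometry

namespace Groth.Agent.Lead.LimCISys
open Groth.Agent.Lead.LimFinSys
universe u

section Algebra

/-- `R → A₁ → B` with `A₁` generated over `R` by `s`, `A₁ → B` surjective, and the images of the
elements of `s` in the image of `R`: then `R → B` is surjective. -/
theorem surjective_comp_of_generators {R A₁ B : Type*} [CommRing R] [CommRing A₁] [CommRing B]
    (ρ₁ : R →+* A₁) (φ : A₁ →+* B) (s : Set A₁)
    (hs : ∀ T : Subring A₁, (∀ r, ρ₁ r ∈ T) → s ⊆ T → T = ⊤)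
    (hφ : Function.Surjective φ) (himg : ∀ a ∈ s, φ a ∈ (φ.comp ρ₁).range) :
    Function.Surjective (φ.comp ρ₁) := by
  have hT : (φ.comp ρ₁).range.comap φ = ⊤ := by
    apply hs
    · intro r
      exact ⟨r, rfl⟩
    · intro a ha
      exact himg a ha
  intro b
  obtain ⟨x, rfl⟩ := hφ b
  have : x ∈ (φ.comp ρ₁).range.comap φ := by rw [hT]; trivial
  exact this

end Algebra

variable {I : Type u} [SmallCategory I] [IsCofiltered I] {S : Scheme.{u}} (D : I ⥤ Over S)
  (c : Cone D) (hc : IsLimit c)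

include hc in
set_option backward.isDefEq.respectTransparency false in
theorem isClosedImmersion_eventually_of_isAffine [IsAffine S]
    [∀ {i j : I} (f : i ⟶ j), IsClosedImmersion (D.map f).left] [∀ i, CompactSpace (D.obj i).left]
    [∀ i, QuasiSeparatedSpace (D.obj i).left] [∀ i, LocallyOfFiniteType (D.obj i).hom]
    [IsClosedImmersion c.pt.hom] :
    ∃ i₀ : I, ∀ (i : I) (_ : i ⟶ i₀), IsClosedImmersion (D.obj i).hom := by
  classical
  let Ds := D ⋙ Over.forget S
  let cs := (Over.forget S).mapCone c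
  have hcs : IsLimit cs := isLimitOfPreserves _ hc
  have hA : ∀ {i j : I} (f : i ⟶ j), IsAffineHom (Ds.map f) := fun f ↦ by
    dsimp [Ds]; infer_instance
  have hC : ∀ i, CompactSpace ↥(Ds.obj i) := fun i ↦ by dsimp [Ds]; infer_instance
  have hQ : ∀ i, QuasiSeparatedSpace ↥(Ds.obj i) := fun i ↦ by dsimp [Ds]; infer_instance
  have hlimaff : IsAffine cs.pt := isAffine_of_isAffineHom c.pt.hom
  obtain ⟨i₁, hi₁⟩ := Scheme.exists_isAffine_of_isLimit Ds cs hcs
  have haff : ∀ (k : I) (_ : k ⟶ i₁), IsAffine (Ds.obj k) := fun k φ ↦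
    isAffine_of_isAffineHom (Ds.map φ)
  let ρ : ∀ i, Ds.obj i ⟶ S := fun i ↦ (D.obj i).hom
  have hρ : ∀ {i j : I} (f : i ⟶ j), Ds.map f ≫ ρ j = ρ i := fun f ↦ Over.w (D.map f)
  have hρc : ∀ i, cs.π.app i ≫ ρ i = c.pt.hom := fun i ↦ Over.w (c.π.app i)
  have app2 : ∀ {A B C : Scheme.{u}} (f : A ⟶ B) (g : B ⟶ C) (x : Γ(C, ⊤)),
      f.appTop.hom (g.appTop.hom x) = (f ≫ g).appTop.hom x := by
    intro A B C f g x; simp
  have comp2 : ∀ {A B C : Scheme.{u}} (f : A ⟶ B) (g : B ⟶ C),
      f.appTop.hom.comp g.appTop.hom = (f ≫ g).appTop.hom := by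
    intro A B C f g; ext x; simp
  have hft : (ρ i₁).appTop.hom.FiniteType :=
    HasRingHomProperty.appTop (P := @LocallyOfFiniteType) _ inferInstance
  have hsurj : Function.Surjective c.pt.hom.appTop.hom :=
    (IsClosedImmersion.isAffine_surjective_of_isAffine c.pt.hom).2
  have key : ∀ a : Γ(Ds.obj i₁, ⊤), ∃ (k : I) (θ : k ⟶ i₁), ∀ (l : I) (ψ : l ⟶ k),
      (Ds.map (ψ ≫ θ)).appTop.hom a ∈ (ρ l).appTop.hom.range := by
    intro a
    obtain ⟨r, hr⟩ := hsurj ((cs.π.app i₁).appTop.hom a)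
    let w := a - (ρ i₁).appTop.hom r
    have hw : (cs.π.app i₁).appTop.hom w = 0 := by
      simp only [w]
      rw [map_sub, sub_eq_zero, app2, hρc]
      exact hr.symm
    obtain ⟨k, θ, hk⟩ := exists_appTop_map_eq_zero_of_isLimit Ds cs hcs w hw
    refine ⟨k, θ, fun l ψ ↦ ⟨r, ?_⟩⟩
    have hk' : (Ds.map θ).appTop.hom w = 0 := hk
    have e1 : (Ds.map (ψ ≫ θ)).appTop.hom w = 0 := by
      rw [Functor.map_comp, ← app2, hk', map_zero]
    simp only [w] at e1
    rw [map_sub, sub_eq_zero, app2, hρ] at e1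
    exact e1.symm
  letI alg : Algebra Γ(S, ⊤) Γ(Ds.obj i₁, ⊤) := (ρ i₁).appTop.hom.toAlgebra
  obtain ⟨s, hs⟩ := hft.out
  choose kk θ hkk using key
  obtain ⟨k, hk⟩ : ∃ k : Over i₁, ∀ a ∈ s, Nonempty (k ⟶ Over.mk (θ a)) := by
    obtain ⟨k, hk⟩ := IsCofiltered.inf_objs_exists (s.image fun a ↦ (Over.mk (θ a) : Over i₁))
    exact ⟨k, fun a ha ↦ hk (Finset.mem_image_of_mem _ ha)⟩
  refine ⟨k.left, fun i φ ↦ ?_⟩
  have hXi : IsAffine (Ds.obj i) := haff i (φ ≫ k.hom)
  have hXi₁ : IsAffine (Ds.obj i₁) := hi₁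
  have hci : IsClosedImmersion (Ds.map (φ ≫ k.hom)) := by dsimp [Ds]; infer_instance
  have hφs : Function.Surjective (Ds.map (φ ≫ k.hom)).appTop.hom :=
    (IsClosedImmersion.isAffine_surjective_of_isAffine (Ds.map (φ ≫ k.hom))).2
  have hcomp : (Ds.map (φ ≫ k.hom)).appTop.hom.comp (ρ i₁).appTop.hom = (ρ i).appTop.hom := by
    rw [comp2, hρ]
  change IsClosedImmersion (ρ i)
  apply IsClosedImmersion.of_surjective_of_isAffine
  change Function.Surjective (ρ i).appTop.hom
  rw [← hcomp]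
  refine surjective_comp_of_generators (ρ i₁).appTop.hom (Ds.map (φ ≫ k.hom)).appTop.hom
    (s : Set Γ(Ds.obj i₁, ⊤)) ?_ hφs ?_
  · intro R hR hsR
    have h1 : Algebra.adjoin Γ(S, ⊤) (s : Set Γ(Ds.obj i₁, ⊤)) ≤
        (Subalgebra.mk R.toSubsemiring (fun b ↦ hR b) :
          Subalgebra Γ(S, ⊤) Γ(Ds.obj i₁, ⊤)) :=
      Algebra.adjoin_le hsR
    rw [hs] at h1
    rw [eq_top_iff]
    intro x _
    exact h1 (Algebra.mem_top)
  · intro a ha
    obtain ⟨ψ⟩ := hk a ha
    have hw : ψ.left ≫ θ a = k.hom := Over.w ψ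
    have := hkk a i (φ ≫ ψ.left)
    rw [Category.assoc, hw] at this
    rw [hcomp]
    exact this

include hc in
set_option backward.isDefEq.respectTransparency false in
theorem isClosedImmersion_eventually [CompactSpace S] [QuasiSeparatedSpace S]
    [∀ {i j : I} (f : i ⟶ j), IsClosedImmersion (D.map f).left] [∀ i, CompactSpace (D.obj i).left]
    [∀ i, QuasiSeparatedSpace (D.obj i).left] [∀ i, LocallyOfFiniteType (D.obj i).hom]
    [IsClosedImmersion c.pt.hom] :
    ∃ i₀ : I, ∀ (i : I) (_ : i ⟶ i₀), IsClosedImmersion (D.obj i).hom := by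
  classical
  let 𝒰 := S.affineCover.finiteSubcover
  have hfin : Fintype 𝒰.I₀ := inferInstance
  have hU : ∀ r : 𝒰.I₀, ∃ i₀ : I, ∀ (i : I) (_ : i ⟶ i₀),
      IsClosedImmersion (pullback.snd (D.obj i).hom (𝒰.f r)) := by
    intro r
    have : IsAffine (𝒰.X r) := by dsimp [𝒰]; infer_instance
    let F := Over.pullback (𝒰.f r)
    have h1 : ∀ {i j : I} (f : i ⟶ j), IsClosedImmersion ((D ⋙ F).map f).left := fun f ↦
      MorphismProperty.of_isPullback (P := @IsClosedImmersion)
        (isPullback_pullback_map (𝒰.f r) (D.map f)) inferInstance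
    have hqc : ∀ i, QuasiCompact (D.obj i).hom := fun i ↦ inferInstance
    have h2 : ∀ i, CompactSpace ((D ⋙ F).obj i).left := fun i ↦
      QuasiCompact.compactSpace_of_compactSpace (pullback.snd (D.obj i).hom (𝒰.f r))
    have h3 : ∀ i, QuasiSeparatedSpace ((D ⋙ F).obj i).left := fun i ↦
      quasiSeparatedSpace_of_quasiSeparated (pullback.fst (D.obj i).hom (𝒰.f r))
    have h4 : ∀ i, LocallyOfFiniteType ((D ⋙ F).obj i).hom := fun i ↦ by
      change LocallyOfFiniteType (pullback.snd (D.obj i).hom (𝒰.f r)); infer_instance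
    have h5 : IsClosedImmersion (F.mapCone c).pt.hom := by
      change IsClosedImmersion (pullback.snd c.pt.hom (𝒰.f r)); infer_instance
    exact isClosedImmersion_eventually_of_isAffine (D ⋙ F) (F.mapCone c)
      (isLimitOfPreserves F hc)
  choose ir hir using hU
  obtain ⟨i₀, hi₀⟩ := IsCofiltered.inf_objs_exists (Finset.univ.image ir)
  refine ⟨i₀, fun i φ ↦ ?_⟩
  rw [IsZariskiLocalAtTarget.iff_of_openCover (P := @IsClosedImmersion) 𝒰]
  intro (r : 𝒰.I₀)
  obtain ⟨ψ⟩ := hi₀ (Finset.mem_image_of_mem ir (Finset.mem_univ r))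
  exact hir r i (φ ≫ ψ)


section Convert
variable {I : Type u} [SmallCategory I] [IsCofiltered I] {S : Scheme.{u}} (D : I ⥤ Scheme.{u})
  (t : D ⟶ (Functor.const I).obj S) (c : Cone D) (hc : IsLimit c)

/-- a system of schemes over `S` as a functor to `Over S` -/
@[simps]
def overDiag : I ⥤ Over S where
  obj i := Over.mk (t.app i)
  map f := Over.homMk (D.map f) (by simpa using t.naturality f)
  map_id i := by ext; simp
  map_comp f g := by ext; simp

theorem π_comp_t (i j : I) : c.π.app i ≫ t.app i = c.π.app j ≫ t.app j := by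
  obtain ⟨k, f, g, -⟩ := IsCofilteredOrEmpty.cone_objs i j
  have h1 : D.map f ≫ t.app i = t.app k := by simpa using t.naturality f
  have h2 : D.map g ≫ t.app j = t.app k := by simpa using t.naturality g
  rw [← c.w f, ← c.w g, Category.assoc, Category.assoc, h1, h2]

/-- the cone over `overDiag` -/
@[simps]
def overCone (i₀ : I) : Cone (overDiag D t) where
  pt := Over.mk (c.π.app i₀ ≫ t.app i₀)
  π :=
  { app i := Over.homMk (c.π.app i) (π_comp_t D t c i i₀)
    naturality i j f := by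
      ext
      simp only [Functor.const_obj_obj, Functor.const_obj_map, Over.comp_left, Over.id_left,
        Category.id_comp, overDiag_obj, overDiag_map, Over.homMk_left]
      exact (c.w f).symm }

/-- it is a limit cone -/
noncomputable def overConeIsLimit (i₀ : I) : IsLimit (overCone D t c i₀) := by
  haveI : IsConnected I := IsCofiltered.isConnected I
  apply isLimitOfReflects (Over.forget S)
  exact IsLimit.ofIsoLimit hc (Cones.ext (Iso.refl _) (fun i ↦ (Category.id_comp _).symm))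

end Convert

end Groth.Agent.Lead.LimCISys
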