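import Mathlib
import Groth.Agent.Helper1.IdealMod
import Groth.Agent.Helper4.SubExt3
import Groth.Agent.Helper4.FTIdealSheaf
import Groth.Agent.Helper4.SecDict
import Groth.Agent.Helper4.SubSec

set_option autoImplicit false
open CategoryTheory AlgebraicGeometry Limits Opposite TensorProduct
universe u

namespace Groth.Agent.Lead.Thick
open Groth.Agent.Helper4 Groth.Agent.Helper1 Groth.Agent.Helper4.GenLoc

variable {X X' : Scheme.{u}} (t : X ⟶ X') [IsClosedImmersion t]

/-- every local section of the ideal of a closed immersion into a qcqs scheme lies in a finite type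
sub-ideal sheaf -/
theorem exists_ft_sub [CompactSpace X'] [QuasiSeparatedSpace X'] (U : X'.affineOpens)
    (a : Γ(X', U)) (ha : a ∈ t.ker.ideal U) :
    ∃ J : X'.IdealSheafData, J ≤ t.ker ∧ (∀ V : X'.affineOpens, (J.ideal V).FG) ∧
      a ∈ J.ideal U := by
  rw [Scheme.Hom.ker_apply, RingHom.mem_ker] at ha
  have h0 : (IdealMod.unitMap t).app U.1 (show Γ(Coh.structureModule X', U.1) from a) = 0 := by
    rw [IdealMod.unitMap_app]
    exact ha
  obtain ⟨k, hk⟩ := (SubSec.exists_kernel_section_iff (IdealMod.unitMap t) U.1 _).2 h0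
  haveI : (IdealMod.ideal t).IsQuasicoherent := IdealMod.isQuasicoherent_ideal t
  obtain ⟨E, iE, hmono, hq, hft, g, hg⟩ :=
    SubExt.exists_submodule_through_section (IdealMod.ideal t) U.1 U.2.isCompact k
  haveI := hq
  refine ⟨FTIdealSheaf.idealSheafOfModule E (iE ≫ IdealMod.idealι t), ?_, ?_, ?_⟩
  · intro V r hr
    obtain ⟨e, rfl⟩ := hr
    rw [Scheme.Hom.ker_apply, RingHom.mem_ker]
    have h1 : (IdealMod.unitMap t).app V.1 ((IdealMod.idealι t).app V.1 (iE.app V.1 e)) = 0 := by
      have := congrArg (fun φ => (Scheme.Modules.Hom.app φ V.1) (iE.app V.1 e))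
        (kernel.condition (IdealMod.unitMap t))
      exact this
    rw [IdealMod.unitMap_app] at h1
    exact h1
  · intro V
    haveI : Module.Finite Γ(X', V.1) Γ(E, V.1) := SecDict.finite_sections V.2 E hq hft
    change (LinearMap.range _).FG
    rw [LinearMap.range_eq_map]
    exact Submodule.FG.map _ Module.Finite.fg_top
  · refine ⟨g, ?_⟩
    change toFn ((IdealMod.idealι t).app U.1 (iE.app U.1 g)) = a
    have : iE.app U.1 g = k := hg
    rw [this]
    exact hk


omit [IsClosedImmersion t] in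
theorem ker_app_le_nilradical (hsurj : Function.Surjective t) {U : X'.Opens} (hU : IsAffineOpen U) :
    RingHom.ker (t.app U).hom ≤ nilradical Γ(X', U) := by
  intro x hx
  rw [mem_nilradical, ← PrimeSpectrum.basicOpen_eq_bot_iff]
  have h1 : t ⁻¹ᵁ X'.basicOpen x = ⊥ := by
    rw [Scheme.preimage_basicOpen, show (t.app U).hom x = 0 from hx, Scheme.basicOpen_zero]
  have h2 : X'.basicOpen x = ⊥ := by
    rw [eq_bot_iff]
    intro y hy
    obtain ⟨z, rfl⟩ := hsurj y
    have : z ∈ t ⁻¹ᵁ X'.basicOpen x := hy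
    rw [h1] at this
    exact this
  rw [← hU.fromSpec_preimage_basicOpen, h2]
  rfl

/-- a finite type sub-ideal of the ideal of a thickening of a quasi-compact scheme is nilpotent -/
theorem exists_pow_eq_bot [CompactSpace X'] (hsurj : Function.Surjective t)
    (J : X'.IdealSheafData) (hJ : J ≤ t.ker) (hfg : ∀ V : X'.affineOpens, (J.ideal V).FG) :
    ∃ n : ℕ, J ^ n = ⊥ := by
  classical
  have hnil : ∀ V : X'.affineOpens, ∃ n : ℕ, (J.ideal V) ^ n = ⊥ := by
    intro V
    have h1 : J.ideal V ≤ nilradical Γ(X', V) := by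
      refine (hJ V).trans ?_
      rw [Scheme.Hom.ker_apply]
      exact ker_app_le_nilradical t hsurj V.2
    obtain ⟨n, hn⟩ := ((hfg V).isNilpotent_iff_le_nilradical).2 h1
    exact ⟨n, hn⟩
  choose n hn using hnil
  obtain ⟨s, hs⟩ := isCompact_univ.elim_finite_subcover
    (fun V : X'.affineOpens => (V.1 : Set X')) (fun V => V.1.isOpen) (by
      intro x _
      obtain ⟨_, ⟨V, hV : IsAffineOpen V, rfl⟩, hxV, -⟩ :=
        X'.isBasis_affineOpens.exists_subset_of_mem_open (Set.mem_univ x) isOpen_univ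
      exact Set.mem_iUnion.2 ⟨⟨V, hV⟩, hxV⟩)
  refine ⟨s.sup n, ?_⟩
  apply Scheme.IdealSheafData.ext_of_iSup_eq_top (fun V : s => V.1)
  · rw [eq_top_iff]
    intro x _
    obtain ⟨V, hV, hxV⟩ := Set.mem_iUnion₂.1 (hs (Set.mem_univ x))
    exact TopologicalSpace.Opens.mem_iSup.2 ⟨⟨V, hV⟩, hxV⟩
  · intro V
    change (J.ideal V.1) ^ (s.sup n) = ⊥
    rw [eq_bot_iff, ← hn V.1]
    exact Ideal.pow_le_pow_right (Finset.le_sup V.2)

section Limit

/-- the index poset of finite type sub-ideals -/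
abbrev Idx : Type u :=
  {J : X'.IdealSheafData // J ≤ t.ker ∧ ∀ V : X'.affineOpens, (J.ideal V).FG}

instance : Nonempty (Idx t) :=
  ⟨⟨⊥, bot_le, fun V => by rw [Scheme.IdealSheafData.ideal_bot]; exact Submodule.fg_bot⟩⟩

instance : IsDirected (Idx t) (· ≤ ·) :=
  ⟨fun a b => ⟨⟨a.1 ⊔ b.1, sup_le a.2.1 b.2.1, fun V => by
    rw [Scheme.IdealSheafData.ideal_sup]; exact Submodule.FG.sup (a.2.2 V) (b.2.2 V)⟩,
    (le_sup_left : a.1 ≤ a.1 ⊔ b.1), (le_sup_right : b.1 ≤ a.1 ⊔ b.1)⟩⟩

/-- the diagram of closed subschemes -/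
noncomputable def D : (Idx t)ᵒᵖ ⥤ Scheme.{u} where
  obj J := J.unop.1.subscheme
  map {J₁ J₂} f := Scheme.IdealSheafData.inclusion (show J₂.unop.1 ≤ J₁.unop.1 from leOfHom f.unop)
  map_id J := Scheme.IdealSheafData.inclusion_id _
  map_comp f g := (Scheme.IdealSheafData.inclusion_comp _ _).symm

instance {J₁ J₂ : (Idx t)ᵒᵖ} (f : J₁ ⟶ J₂) : IsAffineHom ((D t).map f) := by
  dsimp [D]; infer_instance

theorem le_ker (J : Idx t) : J.1.subschemeι.ker ≤ t.ker := by
  rw [Scheme.IdealSheafData.ker_subschemeι]; exact J.2.1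

/-- the canonical map from `X` to the closed subscheme cut out by a smaller ideal -/
noncomputable def π (J : Idx t) : X ⟶ J.1.subscheme :=
  IsClosedImmersion.lift J.1.subschemeι t (le_ker t J)

@[reassoc (attr := simp)]
theorem π_fac (J : Idx t) : π t J ≫ J.1.subschemeι = t :=
  IsClosedImmersion.lift_fac _ _ _

/-- the cone with vertex `X` -/
noncomputable def cone : Cone (D t) where
  pt := X
  π :=
    { app := fun J => π t J.unop
      naturality := by
        intro J₁ J₂ f
        change 𝟙 X ≫ π t J₂.unop = π t J₁.unop ≫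
          Scheme.IdealSheafData.inclusion (show J₂.unop.1 ≤ J₁.unop.1 from leOfHom f.unop)
        rw [← cancel_mono J₂.unop.1.subschemeι, Category.id_comp, Category.assoc,
          Scheme.IdealSheafData.inclusion_subschemeι, π_fac, π_fac] }

/-- the ideal of `t` is the supremum of its finite type sub-ideals -/
theorem ker_le_of_forall_le [CompactSpace X'] [QuasiSeparatedSpace X'] (K : X'.IdealSheafData)
    (h : ∀ J : Idx t, J.1 ≤ K) : t.ker ≤ K := by
  intro U a ha
  obtain ⟨J, hJ, hfg, haJ⟩ := exists_ft_sub t U a ha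
  exact h ⟨J, hJ, hfg⟩ U haJ

/-- the bottom index -/
abbrev botIdx : Idx t :=
  ⟨⊥, bot_le, fun V => by rw [Scheme.IdealSheafData.ideal_bot]; exact Submodule.fg_bot⟩

/-- the components of a cone, with explicit types -/
noncomputable def sπ (s : Cone (D t)) (J : Idx t) : s.pt ⟶ J.1.subscheme := s.π.app (op J)

/-- the morphism to `X'` induced by a cone -/
noncomputable def gOf (s : Cone (D t)) : s.pt ⟶ X' :=
  sπ t s (botIdx t) ≫ Scheme.IdealSheafData.subschemeι ⊥

theorem cone_comp (s : Cone (D t)) (J : Idx t) :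
    sπ t s J ≫ J.1.subschemeι = gOf t s := by
  have hle : botIdx t ≤ J := (bot_le : (⊥ : X'.IdealSheafData) ≤ J.1)
  have h : sπ t s J ≫
      Scheme.IdealSheafData.inclusion (show (⊥ : X'.IdealSheafData) ≤ J.1 from bot_le) =
      sπ t s (botIdx t) := s.w (homOfLE hle).op
  rw [gOf, ← h, Category.assoc]
  congr 1
  exact (Scheme.IdealSheafData.inclusion_subschemeι _).symm

theorem ker_le_gOf [CompactSpace X'] [QuasiSeparatedSpace X'] (s : Cone (D t)) :
    t.ker ≤ (gOf t s).ker := by
  apply ker_le_of_forall_le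
  intro J
  rw [← cone_comp t s J]
  conv_lhs => rw [← Scheme.IdealSheafData.ker_subschemeι J.1]
  exact Scheme.Hom.le_ker_comp _ _

theorem lift_uniq [CompactSpace X'] [QuasiSeparatedSpace X'] (s : Cone (D t)) (m : s.pt ⟶ X)
    (hm : ∀ J : Idx t, m ≫ π t J = sπ t s J) :
    m = IsClosedImmersion.lift t (gOf t s) (ker_le_gOf t s) := by
  rw [← cancel_mono t, IsClosedImmersion.lift_fac]
  have h := hm (botIdx t)
  rw [gOf, ← h, Category.assoc]
  congr 1
  exact (π_fac t (botIdx t)).symm

theorem lift_fac' [CompactSpace X'] [QuasiSeparatedSpace X'] (s : Cone (D t)) (J : Idx t) :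
    IsClosedImmersion.lift t (gOf t s) (ker_le_gOf t s) ≫ π t J = sπ t s J := by
  rw [← cancel_mono J.1.subschemeι, Category.assoc, π_fac, IsClosedImmersion.lift_fac]
  exact (cone_comp t s J).symm

/-- the cone is a limit cone -/
noncomputable def isLimitCone [CompactSpace X'] [QuasiSeparatedSpace X'] : IsLimit (cone t) where
  lift s := (IsClosedImmersion.lift t (gOf t s) (ker_le_gOf t s) : s.pt ⟶ X)
  fac s J := lift_fac' t s J.unop
  uniq s m hm := lift_uniq t s m (fun J => hm (op J))

end Limit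

end Groth.Agent.Lead.Thick
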