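import Mathlib
import Groth.Agent.Lead.Thick3
import Groth.Agent.Lead.LimCISys

/-!
A closed immersion into a qcqs scheme is a directed limit of finitely presented closed immersions.
-/

set_option autoImplicit false
open CategoryTheory AlgebraicGeometry Limits Opposite
universe u

namespace Groth.Agent.Lead.ClImmLim
open Groth.Agent.Lead.Thick Groth.Agent.Lead.LimCISys

variable {X Y : Scheme.{u}} (t : X ⟶ Y) [IsClosedImmersion t]

theorem lfp_subschemeι (J : Y.IdealSheafData) (hfg : ∀ V : Y.affineOpens, (J.ideal V).FG) :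
    LocallyOfFinitePresentation J.subschemeι := by
  rw [HasRingHomProperty.iff_exists_appLE (P := @LocallyOfFinitePresentation)
    (RingHom.finitePresentation_stableUnderComposition.stableUnderCompositionWithLocalizationAway
    RingHom.finitePresentation_holdsForLocalizationAway).1]
  intro x
  obtain ⟨_, ⟨U, hU : IsAffineOpen U, rfl⟩, hxU, -⟩ :=
    Y.isBasis_affineOpens.exists_subset_of_mem_open (Set.mem_univ (J.subschemeι x)) isOpen_univ
  refine ⟨⟨U, hU⟩, ⟨J.subschemeι ⁻¹ᵁ U, hU.preimage _⟩, hxU, le_rfl, ?_⟩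
  rw [← Scheme.Hom.app_eq_appLE]
  refine RingHom.FinitePresentation.of_surjective _ (J.subschemeι_app_surjective ⟨U, hU⟩) ?_
  rw [Scheme.IdealSheafData.ker_subschemeι_app J ⟨U, hU⟩]
  exact hfg ⟨U, hU⟩

/-- the structure maps -/
noncomputable def tnat : D t ⟶ (Functor.const (Idx t)ᵒᵖ).obj Y where
  app J := J.unop.1.subschemeι
  naturality J₁ J₂ f := by
    change Scheme.IdealSheafData.inclusion (show J₂.unop.1 ≤ J₁.unop.1 from leOfHom f.unop) ≫
      J₂.unop.1.subschemeι = J₁.unop.1.subschemeι ≫ 𝟙 Y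
    rw [Scheme.IdealSheafData.inclusion_subschemeι, Category.comp_id]

theorem main [CompactSpace Y] [QuasiSeparatedSpace Y] :
    ∃ (I : Type u) (_ : Preorder I) (_ : IsDirected I (fun a b => a ≤ b)) (_ : Nonempty I)
      (D : Iᵒᵖ ⥤ Over Y) (c : Limits.Cone D) (_ : Limits.IsLimit c),
      (∀ i, IsClosedImmersion (D.obj i).hom ∧ LocallyOfFinitePresentation (D.obj i).hom) ∧
      Nonempty (c.pt ≅ Over.mk t) := by
  refine ⟨Idx t, inferInstance, inferInstance, inferInstance, overDiag (D t) (tnat t),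
    overCone (D t) (tnat t) (cone t) (op (botIdx t)),
    overConeIsLimit (D t) (tnat t) (cone t) (isLimitCone t) (op (botIdx t)), ?_, ?_⟩
  · intro J
    refine ⟨?_, ?_⟩
    · change IsClosedImmersion J.unop.1.subschemeι
      infer_instance
    · change LocallyOfFinitePresentation J.unop.1.subschemeι
      exact lfp_subschemeι J.unop.1 J.unop.2.2
  · refine ⟨Over.isoMk (Iso.refl _) ?_⟩
    change 𝟙 X ≫ t = π t (botIdx t) ≫ (botIdx t).1.subschemeι
    rw [Category.id_comp, π_fac]

end Groth.Agent.Lead.ClImmLim
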