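import Mathlib
open CategoryTheory Limits AlgebraicGeometry

namespace Groth.Agent.Lead.LimFinSys
universe u

section Algebra

/-- `R → A₁ → B` with `A₁` generated over `R` by `s`, `A₁ → B` integral, and the images of the
elements of `s` integral over `R`: then `B` is integral over `R`. -/
theorem isIntegral_comp_of_generators {R A₁ B : Type*} [CommRing R] [CommRing A₁] [CommRing B]
    (ρ₁ : R →+* A₁) (φ : A₁ →+* B) (s : Set A₁)
    (hs : ∀ T : Subring A₁, (∀ r, ρ₁ r ∈ T) → s ⊆ T → T = ⊤)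
    (hφ : φ.IsIntegral) (hint : ∀ a ∈ s, (φ.comp ρ₁).IsIntegralElem (φ a)) :
    (φ.comp ρ₁).IsIntegral := by
  letI : Algebra R B := (φ.comp ρ₁).toAlgebra
  let C : Subalgebra R B := integralClosure R B
  have hT : C.toSubring.comap φ = ⊤ := by
    apply hs
    · intro r
      change φ (ρ₁ r) ∈ C
      exact C.algebraMap_mem r
    · intro a ha
      exact hint a ha
  have hφC : ∀ x, φ x ∈ C := fun x ↦ by
    have : x ∈ C.toSubring.comap φ := by rw [hT]; trivial
    exact this
  intro b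
  obtain ⟨p, hp, hpb⟩ := hφ b
  let φ' : A₁ →+* C := φ.codRestrict C.toSubring hφC
  have h1 : IsIntegral C b := by
    refine ⟨p.map φ', hp.map _, ?_⟩
    rw [Polynomial.eval₂_map]
    have : (algebraMap (↥C) B).comp φ' = φ := by
      ext x; rfl
    rw [this]
    exact hpb
  exact isIntegral_trans (A := C) b h1

end Algebra


variable {I : Type u} [SmallCategory I] [IsCofiltered I] {S : Scheme.{u}} (D : I ⥤ Over S)
  (c : Cone D) (hc : IsLimit c)

include hc in
set_option backward.isDefEq.respectTransparency false in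
/-- affine base: a limit of finite-type schemes with finite transition maps which is integral over
the base has eventually finite stages -/
theorem isFinite_eventually_of_isAffine [IsAffine S]
    [∀ {i j : I} (f : i ⟶ j), IsFinite (D.map f).left] [∀ i, CompactSpace (D.obj i).left]
    [∀ i, QuasiSeparatedSpace (D.obj i).left] [∀ i, LocallyOfFiniteType (D.obj i).hom]
    [IsIntegralHom c.pt.hom] : ∃ i₀ : I, ∀ (i : I) (_ : i ⟶ i₀), IsFinite (D.obj i).hom := by
  classical
  let Ds := D ⋙ Over.forget S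
  let cs := (Over.forget S).mapCone c
  have hcs : IsLimit cs := isLimitOfPreserves _ hc
  have hA : ∀ {i j : I} (f : i ⟶ j), IsAffineHom (Ds.map f) := fun f ↦ by
    dsimp [Ds]; infer_instance
  have hC : ∀ i, CompactSpace ↥(Ds.obj i) := fun i ↦ by dsimp [Ds]; infer_instance
  have hQ : ∀ i, QuasiSeparatedSpace ↥(Ds.obj i) := fun i ↦ by dsimp [Ds]; infer_instance
  have hlimaff : IsAffine cs.pt := isAffine_of_isAffineHom c.pt.hom
  obtain ⟨i₁, hi₁⟩ := Scheme.exists_isAffine_of_isLimit Ds cs hcs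
  have haff : ∀ (k : I) (_ : k ⟶ i₁), IsAffine (Ds.obj k) := fun k φ ↦
    isAffine_of_isAffineHom (Ds.map φ)
  let ρ : ∀ i, Ds.obj i ⟶ S := fun i ↦ (D.obj i).hom
  have hρ : ∀ {i j : I} (f : i ⟶ j), Ds.map f ≫ ρ j = ρ i := fun f ↦ Over.w (D.map f)
  have hρc : ∀ i, cs.π.app i ≫ ρ i = c.pt.hom := fun i ↦ Over.w (c.π.app i)
  have app2 : ∀ {A B C : Scheme.{u}} (f : A ⟶ B) (g : B ⟶ C) (x : Γ(C, ⊤)),
      f.appTop.hom (g.appTop.hom x) = (f ≫ g).appTop.hom x := by
    intro A B C f g x; simp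
  have comp2 : ∀ {A B C : Scheme.{u}} (f : A ⟶ B) (g : B ⟶ C),
      f.appTop.hom.comp g.appTop.hom = (f ≫ g).appTop.hom := by
    intro A B C f g; ext x; simp
  have hft : (ρ i₁).appTop.hom.FiniteType :=
    HasRingHomProperty.appTop (P := @LocallyOfFiniteType) _ inferInstance
  have hint : c.pt.hom.appTop.hom.IsIntegral :=
    ((HasAffineProperty.iff_of_isAffine (P := @IsIntegralHom)).mp inferInstance).2
  have key : ∀ a : Γ(Ds.obj i₁, ⊤), ∃ (k : I) (θ : k ⟶ i₁), ∀ (l : I) (ψ : l ⟶ k),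
      (ρ l).appTop.hom.IsIntegralElem ((Ds.map (ψ ≫ θ)).appTop.hom a) := by
    intro a
    obtain ⟨p, hp, hpa⟩ := hint ((cs.π.app i₁).appTop.hom a)
    let w := p.eval₂ (ρ i₁).appTop.hom a
    have hw : (cs.π.app i₁).appTop.hom w = 0 := by
      simp only [w]
      rw [Polynomial.hom_eval₂, comp2, hρc]
      exact hpa
    obtain ⟨k, θ, hk⟩ := exists_appTop_map_eq_zero_of_isLimit Ds cs hcs w hw
    refine ⟨k, θ, fun l ψ ↦ ⟨p, hp, ?_⟩⟩
    have e1 : p.eval₂ (ρ l).appTop.hom ((Ds.map (ψ ≫ θ)).appTop.hom a) =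
        (Ds.map (ψ ≫ θ)).appTop.hom w := by
      simp only [w]
      rw [Polynomial.hom_eval₂, comp2, hρ]
    rw [e1, Functor.map_comp, ← app2]
    have hk' : (Ds.map θ).appTop.hom w = 0 := hk
    rw [hk', map_zero]
  letI alg : Algebra Γ(S, ⊤) Γ(Ds.obj i₁, ⊤) := (ρ i₁).appTop.hom.toAlgebra
  obtain ⟨s, hs⟩ := hft.out
  choose kk θ hkk using key
  obtain ⟨k, hk⟩ : ∃ k : Over i₁, ∀ a ∈ s, Nonempty (k ⟶ Over.mk (θ a)) := by
    obtain ⟨k, hk⟩ := IsCofiltered.inf_objs_exists (s.image fun a ↦ (Over.mk (θ a) : Over i₁))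
    exact ⟨k, fun a ha ↦ hk (Finset.mem_image_of_mem _ ha)⟩
  refine ⟨k.left, fun i φ ↦ ?_⟩
  have hXi : IsAffine (Ds.obj i) := haff i (φ ≫ k.hom)
  rw [IsFinite.iff_isIntegralHom_and_locallyOfFiniteType]
  refine ⟨?_, inferInstance⟩
  rw [HasAffineProperty.iff_of_isAffine (P := @IsIntegralHom)]
  refine ⟨hXi, ?_⟩
  have hfin : IsFinite (Ds.map (φ ≫ k.hom)) := by dsimp [Ds]; infer_instance
  have hXi₁ : IsAffine (Ds.obj i₁) := hi₁
  have hφint : (Ds.map (φ ≫ k.hom)).appTop.hom.IsIntegral :=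
    ((HasAffineProperty.iff_of_isAffine (P := @IsIntegralHom)).mp inferInstance).2
  have hcomp : (Ds.map (φ ≫ k.hom)).appTop.hom.comp (ρ i₁).appTop.hom = (ρ i).appTop.hom := by
    rw [comp2, hρ]
  change (ρ i).appTop.hom.IsIntegral
  rw [← hcomp]
  refine isIntegral_comp_of_generators (ρ i₁).appTop.hom (Ds.map (φ ≫ k.hom)).appTop.hom
    (s : Set Γ(Ds.obj i₁, ⊤)) ?_ hφint ?_
  · intro R hR hsR
    have h1 : Algebra.adjoin Γ(S, ⊤) (s : Set Γ(Ds.obj i₁, ⊤)) ≤
        (Subalgebra.mk R.toSubsemiring (fun b ↦ hR b) :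
          Subalgebra Γ(S, ⊤) Γ(Ds.obj i₁, ⊤)) :=
      Algebra.adjoin_le hsR
    rw [hs] at h1
    rw [eq_top_iff]
    intro x _
    exact h1 (Algebra.mem_top)
  · intro a ha
    obtain ⟨ψ⟩ := hk a ha
    have hw : ψ.left ≫ θ a = k.hom := Over.w ψ
    have := hkk a i (φ ≫ ψ.left)
    rw [Category.assoc, hw] at this
    rw [hcomp]
    exact this


section Restrict
variable {V : Scheme.{u}} (v : V ⟶ S)

set_option backward.isDefEq.respectTransparency false in
/-- the restriction of a morphism over `S` to `V` is a base change of it -/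
theorem isPullback_pullback_map {A B : Over S} (g : A ⟶ B) :
    IsPullback (pullback.fst A.hom v) ((Over.pullback v).map g).left g.left
      (pullback.fst B.hom v) := by
  refine (IsPullback.of_right ?_ ?_ (IsPullback.of_hasPullback B.hom v).flip).flip
  · have e1 : ((Over.pullback v).map g).left ≫ pullback.snd B.hom v = pullback.snd A.hom v := by
      simp [Over.pullback]
    rw [e1, Over.w g]
    exact (IsPullback.of_hasPullback A.hom v).flip
  · simp [Over.pullback]

end Restrict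

include hc in
set_option backward.isDefEq.respectTransparency false in
theorem isFinite_eventually [CompactSpace S] [QuasiSeparatedSpace S]
    [∀ {i j : I} (f : i ⟶ j), IsFinite (D.map f).left] [∀ i, CompactSpace (D.obj i).left]
    [∀ i, QuasiSeparatedSpace (D.obj i).left] [∀ i, LocallyOfFiniteType (D.obj i).hom]
    [IsIntegralHom c.pt.hom] : ∃ i₀ : I, ∀ (i : I) (_ : i ⟶ i₀), IsFinite (D.obj i).hom := by
  classical
  let 𝒰 := S.affineCover.finiteSubcover
  have hfin : Fintype 𝒰.I₀ := inferInstance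
  have hU : ∀ r : 𝒰.I₀, ∃ i₀ : I, ∀ (i : I) (_ : i ⟶ i₀),
      IsFinite (pullback.snd (D.obj i).hom (𝒰.f r)) := by
    intro r
    have : IsAffine (𝒰.X r) := by dsimp [𝒰]; infer_instance
    let F := Over.pullback (𝒰.f r)
    have h1 : ∀ {i j : I} (f : i ⟶ j), IsFinite ((D ⋙ F).map f).left := fun f ↦
      MorphismProperty.of_isPullback (P := @IsFinite) (isPullback_pullback_map (𝒰.f r) (D.map f))
        inferInstance
    have hqc : ∀ i, QuasiCompact (D.obj i).hom := fun i ↦ inferInstance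
    have h2 : ∀ i, CompactSpace ((D ⋙ F).obj i).left := fun i ↦
      QuasiCompact.compactSpace_of_compactSpace (pullback.snd (D.obj i).hom (𝒰.f r))
    have h3 : ∀ i, QuasiSeparatedSpace ((D ⋙ F).obj i).left := fun i ↦
      quasiSeparatedSpace_of_quasiSeparated (pullback.fst (D.obj i).hom (𝒰.f r))
    have h4 : ∀ i, LocallyOfFiniteType ((D ⋙ F).obj i).hom := fun i ↦ by
      change LocallyOfFiniteType (pullback.snd (D.obj i).hom (𝒰.f r)); infer_instance
    have h5 : IsIntegralHom (F.mapCone c).pt.hom := by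
      change IsIntegralHom (pullback.snd c.pt.hom (𝒰.f r)); infer_instance
    exact isFinite_eventually_of_isAffine (D ⋙ F) (F.mapCone c) (isLimitOfPreserves F hc)
  choose ir hir using hU
  obtain ⟨i₀, hi₀⟩ := IsCofiltered.inf_objs_exists (Finset.univ.image ir)
  refine ⟨i₀, fun i φ ↦ ?_⟩
  rw [IsZariskiLocalAtTarget.iff_of_openCover (P := @IsFinite) 𝒰]
  intro (r : 𝒰.I₀)
  obtain ⟨ψ⟩ := hi₀ (Finset.mem_image_of_mem ir (Finset.mem_univ r))
  exact hir r i (φ ≫ ψ)

end Groth.Agent.Lead.LimFinSys
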