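import Mathlib
import Groth.Agent.Lead.Ref1E
import Groth.Agent.Lead.Ref1K
import Groth.Agent.Helper9.PullMon4
import Groth.Agent.Helper4.FinLocFree2
import Groth.Agent.Helper4.InvOfTensor

/-!
# An invertible module has a tensor inverse: its dual

For an invertible `O_X`-module `L` the evaluation pairing `L^∨ ⊗ L ⟶ O_X` is an isomorphism
(checked on stalks), hence `L^∨` is a tensor inverse of `L`, and is itself invertible.
-/

set_option autoImplicit false
set_option linter.style.haveILetI false
set_option linter.unusedSectionVars false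

universe u

open CategoryTheory CategoryTheory.Limits AlgebraicGeometry TopologicalSpace Opposite

namespace Groth.Agent.Lead.InvDual

variable {X : Scheme.{u}}

theorem isIso_ev (L : X.Modules) (hL : PicF.IsInvertible L) : IsIso (Ref1E.ev L) := by
  have hcoh := Ref1K.isCoh_of_isInvertible L hL
  haveI : L.IsQuasicoherent := hcoh.1
  have hFP : SheafOfModules.IsFinitePresentation (R := X.ringCatSheaf) L :=
    Groth.Agent.Helper4.FinLocFree2.isFinitePresentation_of_isFinLocFree L
      (Ref1K.isFinLocFree_of_isInvertible L hL)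
  apply Groth.Agent.Helper9.PullMon4.isIso_of_stalks
  intro x
  rw [Ref1B.isIso_St_map_iff]
  exact Ref1E.bijective_stalkMapₗ_ev L hFP x (Ref1K.fr1At_of_isInvertible L hL x)

/-- the evaluation isomorphism `L^∨ ⊗ L ≅ O_X` -/
noncomputable def evIso (L : X.Modules) (hL : PicF.IsInvertible L) :
    CohB1.tensorMod (RefHull.dual L) L ≅ Coh.structureModule X :=
  @asIso _ _ _ _ (Ref1E.ev L) (isIso_ev L hL)

theorem isInvertible_dual (L : X.Modules) (hL : PicF.IsInvertible L) :
    PicF.IsInvertible (RefHull.dual L) :=
  Groth.Agent.Helper4.InvOfTensor.isInvertible_of_tensor_iso (RefHull.dual L) L (evIso L hL)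

/-- the isomorphism `L ⊗ L^∨ ≅ O_X` -/
noncomputable def evIso' (L : X.Modules) (hL : PicF.IsInvertible L) :
    CohB1.tensorMod L (RefHull.dual L) ≅ Coh.structureModule X :=
  Ref1B.braid _ _ ≪≫ evIso L hL

/-- **an invertible module has an invertible tensor inverse** -/
theorem exists_inverse (L : X.Modules) (hL : PicF.IsInvertible L) :
    ∃ N : X.Modules, PicF.IsInvertible N ∧
      Nonempty (CohB1.tensorMod N L ≅ Coh.structureModule X) ∧
      Nonempty (CohB1.tensorMod L N ≅ Coh.structureModule X) :=
  ⟨RefHull.dual L, isInvertible_dual L hL, ⟨evIso L hL⟩, ⟨evIso' L hL⟩⟩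

end Groth.Agent.Lead.InvDual
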