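import Mathlib
import Groth.Prelude.Def_Pi1
import Groth.Prelude.Def_ega3

/-!
# Proper dominant morphisms onto normal schemes with algebraically closed function field
extension: `O_Y → f_* O_X` is an isomorphism (S2422)
-/

set_option autoImplicit false
set_option linter.style.haveILetI false
set_option linter.unusedSectionVars false

universe u

open CategoryTheory CategoryTheory.Limits AlgebraicGeometry TopologicalSpace Opposite

namespace Groth.Agent.Lead.PropNormA

variable {X Y : Scheme.{u}} [IsIntegral X] [IsIntegral Y]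

/-- compatibility of `stalkToFunctionField` with germs of sections -/
theorem stalkToFunctionField_germ (f : X ⟶ Y)
    (hdom : f.base (genericPoint X) ⤳ genericPoint Y) (V : Y.Opens)
    (hηV : genericPoint Y ∈ V) (a : Γ(Y, V)) :
    CohIII.stalkToFunctionField f (genericPoint Y) hdom
        (Y.presheaf.germ V (genericPoint Y) hηV a) =
      X.presheaf.germ (f ⁻¹ᵁ V) (genericPoint X) (hdom.mem_open V.isOpen hηV) (f.app V a) := by
  unfold CohIII.stalkToFunctionField
  rw [RingHom.comp_apply]
  have h1 : (Y.presheaf.stalkSpecializes hdom).hom (Y.presheaf.germ V (genericPoint Y) hηV a) =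
      Y.presheaf.germ V (f.base (genericPoint X)) (hdom.mem_open V.isOpen hηV) a :=
    TopCat.Presheaf.germ_stalkSpecializes_apply Y.presheaf hηV hdom a
  rw [h1]
  exact Scheme.Hom.germ_stalkMap_apply f V (genericPoint X) (hdom.mem_open V.isOpen hηV) a

theorem stalkToFunctionField_injective (f : X ⟶ Y)
    (hdom : f.base (genericPoint X) ⤳ genericPoint Y) :
    Function.Injective (CohIII.stalkToFunctionField f (genericPoint Y) hdom) :=
  RingHom.injective (f := (CohIII.stalkToFunctionField f (genericPoint Y) hdom :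
    Y.functionField →+* X.functionField))

theorem genericPoint_mem (V : Y.Opens) (hV : (V : Set Y).Nonempty) : genericPoint Y ∈ V := by
  have h := (genericPoint_spec Y).mem_open_set_iff V.isOpen
  exact h.mpr (by simpa using hV)

/-- the maps on sections are injective -/
theorem app_injective (f : X ⟶ Y) (hdom : f.base (genericPoint X) ⤳ genericPoint Y)
    (V : Y.Opens) : Function.Injective (f.app V) := by
  by_cases hV : (V : Set Y).Nonempty
  · have hηV := genericPoint_mem V hV
    intro a₁ a₂ h12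
    apply germ_injective_of_isIntegral Y (genericPoint Y) hηV
    apply stalkToFunctionField_injective f hdom
    rw [stalkToFunctionField_germ f hdom V hηV, stalkToFunctionField_germ f hdom V hηV, h12]
  · have hV' : V = ⊥ := by
      ext y
      simp only [Opens.coe_bot, Set.mem_empty_iff_false, iff_false]
      exact fun hy => hV ⟨y, hy⟩
    subst hV'
    intro a₁ a₂ _
    exact Subsingleton.elim _ _

/-- the map to the function field on germs -/
theorem algebraMap_germ (V : Y.Opens) (y : Y) (hy : y ∈ V) (a : Γ(Y, V)) :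
    algebraMap (Y.presheaf.stalk y) Y.functionField (Y.presheaf.germ V y hy a) =
      Y.presheaf.germ V (genericPoint Y) ((genericPoint_specializes y).mem_open V.isOpen hy) a :=
  TopCat.Presheaf.germ_stalkSpecializes_apply Y.presheaf hy (genericPoint_specializes y) a

/-- a rational function which is regular at all the points of `V` is a section over `V` -/
theorem exists_section_of_regular (V : Y.Opens) (hηV : genericPoint Y ∈ V)
    (y₀ : Y.functionField)
    (h : ∀ y ∈ V, y₀ ∈ Set.range (algebraMap (Y.presheaf.stalk y) Y.functionField)) :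
    ∃ a : Γ(Y, V), Y.presheaf.germ V (genericPoint Y) hηV a = y₀ := by
  -- local sections
  have hloc : ∀ i : V, ∃ (W : Y.Opens) (_ : i.1 ∈ W) (hη : genericPoint Y ∈ W) (_ : W ≤ V)
      (a : Γ(Y, W)), Y.presheaf.germ W (genericPoint Y) hη a = y₀ := by
    intro i
    obtain ⟨t, ht⟩ := h i.1 i.2
    obtain ⟨W, hiW, a, rfl⟩ := TopCat.Presheaf.exists_germ_eq Y.presheaf t
    have hiWV : i.1 ∈ W ⊓ V := ⟨hiW, i.2⟩
    have hη : genericPoint Y ∈ W ⊓ V :=
      (genericPoint_specializes i.1).mem_open (W ⊓ V).isOpen hiWV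
    refine ⟨W ⊓ V, hiWV, hη, inf_le_right, Y.presheaf.map (homOfLE inf_le_left).op a, ?_⟩
    rw [TopCat.Presheaf.germ_res_apply, ← ht, algebraMap_germ]
  choose U hiU hηU hUV sf hsf using hloc
  have hcompat : TopCat.Presheaf.IsCompatible Y.presheaf U sf := by
    intro i j
    have hη : genericPoint Y ∈ U i ⊓ U j := ⟨hηU i, hηU j⟩
    apply germ_injective_of_isIntegral Y (genericPoint Y) hη
    rw [TopCat.Presheaf.germ_res_apply, TopCat.Presheaf.germ_res_apply, hsf, hsf]
  have hcover : V ≤ iSup U := by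
    intro y hy
    exact Opens.mem_iSup.mpr ⟨⟨y, hy⟩, hiU ⟨y, hy⟩⟩
  obtain ⟨a, ha, -⟩ := TopCat.Sheaf.existsUnique_gluing' Y.sheaf U V
    (fun i => homOfLE (hUV i)) hcover sf hcompat
  refine ⟨a, ?_⟩
  let i₀ : V := ⟨genericPoint Y, hηV⟩
  rw [← hsf i₀, ← ha i₀]
  exact (TopCat.Presheaf.germ_res_apply Y.presheaf (homOfLE (hUV i₀)) _ (hηU i₀) a).symm

omit [IsIntegral X] [IsIntegral Y] in
theorem appTop_restrict (f : X ⟶ Y) (V : Y.Opens) :
    (f ∣_ V).appTop = V.topIso.hom ≫ f.app V ≫ (f ⁻¹ᵁ V).topIso.inv := by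
  rw [← Scheme.Hom.resLE_eq_morphismRestrict]
  change (f.resLE V (f ⁻¹ᵁ V) le_rfl).app ⊤ = _
  rw [Scheme.Hom.resLE_app_top]
  congr 2
  simp [Scheme.Hom.appLE]

omit [IsIntegral X] [IsIntegral Y] in
/-- sections over the preimage of an affine open under a universally closed morphism are
integral over the sections over that affine open -/
theorem isIntegral_app (f : X ⟶ Y) [UniversallyClosed f] (V : Y.Opens)
    (hV : IsAffineOpen V) (b : Γ(X, f ⁻¹ᵁ V)) :
    ∃ p : Polynomial Γ(Y, V), p.Monic ∧ Polynomial.eval₂ (f.app V).hom b p = 0 := by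
  haveI : IsAffine (V : Scheme.{u}) := hV
  have h1 := isIntegral_appTop_of_universallyClosed (f ∣_ V)
  rw [appTop_restrict] at h1
  obtain ⟨p, hp, hpb⟩ := h1 ((f ⁻¹ᵁ V).topIso.inv b)
  refine ⟨p.map V.topIso.hom.hom, hp.map _, ?_⟩
  rw [Polynomial.eval₂_map]
  have h2 := congrArg (f ⁻¹ᵁ V).topIso.hom.hom hpb
  rw [Polynomial.hom_eval₂, map_zero] at h2
  have h3 : (f ⁻¹ᵁ V).topIso.hom.hom ((f ⁻¹ᵁ V).topIso.inv b) = b :=
    CategoryTheory.Iso.inv_hom_id_apply (f ⁻¹ᵁ V).topIso b
  have h4 : ((f ⁻¹ᵁ V).topIso.hom.hom).comp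
      (V.topIso.hom ≫ f.app V ≫ (f ⁻¹ᵁ V).topIso.inv).hom =
      (f.app V).hom.comp V.topIso.hom.hom := by
    ext a
    exact CategoryTheory.Iso.inv_hom_id_apply (f ⁻¹ᵁ V).topIso _
  rw [h3, h4] at h2
  exact h2

/-- the germ at the generic point of a section over the preimage of an open set satisfies a
monic equation over the sections over any affine open contained in this open set -/
theorem exists_monic_eq (f : X ⟶ Y) [IsProper f]
    (hdom : f.base (genericPoint X) ⤳ genericPoint Y) (V : Y.Opens) (b : Γ(X, f ⁻¹ᵁ V))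
    (V' : Y.Opens) (hV' : IsAffineOpen V') (hV'V : V' ≤ V) (hηV' : genericPoint Y ∈ V') :
    ∃ q : Polynomial Γ(Y, V'), q.Monic ∧
      Polynomial.eval₂ (CohIII.stalkToFunctionField f (genericPoint Y) hdom)
        (X.presheaf.germ (f ⁻¹ᵁ V) (genericPoint X)
          (hdom.mem_open V.isOpen (hV'V hηV')) b)
        (q.map (Y.presheaf.germ V' (genericPoint Y) hηV').hom) = 0 := by
  have hle : f ⁻¹ᵁ V' ≤ f ⁻¹ᵁ V := fun x hx => hV'V hx
  obtain ⟨q, hq, hqb⟩ := isIntegral_app f V' hV' (X.presheaf.map (homOfLE hle).op b)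
  refine ⟨q, hq, ?_⟩
  have hηX : genericPoint X ∈ f ⁻¹ᵁ V' := hdom.mem_open V'.isOpen hηV'
  have h1 := congrArg (X.presheaf.germ (f ⁻¹ᵁ V') (genericPoint X) hηX).hom hqb
  rw [Polynomial.hom_eval₂, map_zero] at h1
  rw [Polynomial.eval₂_map]
  have h2 : (X.presheaf.germ (f ⁻¹ᵁ V') (genericPoint X) hηX).hom
      (X.presheaf.map (homOfLE hle).op b) =
      X.presheaf.germ (f ⁻¹ᵁ V) (genericPoint X) (hdom.mem_open V.isOpen (hV'V hηV')) b :=
    TopCat.Presheaf.germ_res_apply X.presheaf (homOfLE hle) _ hηX b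
  have h3 : (X.presheaf.germ (f ⁻¹ᵁ V') (genericPoint X) hηX).hom.comp (f.app V').hom =
      (CohIII.stalkToFunctionField f (genericPoint Y) hdom).comp
        (Y.presheaf.germ V' (genericPoint Y) hηV').hom := by
    ext a
    exact (stalkToFunctionField_germ f hdom V' hηV' a).symm
  rw [h2, h3] at h1
  exact h1

/-- **the maps on sections are surjective** -/
theorem app_surjective (hY : Pi1.IsNormalScheme Y) (f : X ⟶ Y) [IsProper f]
    (hdom : f.base (genericPoint X) ⤳ genericPoint Y)
    (halg : ∀ x : X.functionField,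
      (∃ p : Polynomial Y.functionField, p ≠ 0 ∧
        Polynomial.eval₂ (CohIII.stalkToFunctionField f (genericPoint Y) hdom) x p = 0) →
      x ∈ Set.range (CohIII.stalkToFunctionField f (genericPoint Y) hdom))
    (V : Y.Opens) : Function.Surjective (f.app V) := by
  by_cases hV : (V : Set Y).Nonempty
  · have hηV := genericPoint_mem V hV
    have hηX : genericPoint X ∈ f ⁻¹ᵁ V := hdom.mem_open V.isOpen hηV
    have hφ := stalkToFunctionField_injective f hdom
    intro b
    -- the rational function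
    obtain ⟨_, ⟨V₀, hV₀ : IsAffineOpen V₀, rfl⟩, hηV₀, hV₀V⟩ :=
      Y.isBasis_affineOpens.exists_subset_of_mem_open hηV V.isOpen
    obtain ⟨q₀, hq₀, hq₀b⟩ := exists_monic_eq f hdom V b V₀ hV₀ hV₀V hηV₀
    obtain ⟨y₀, hy₀⟩ := halg _ ⟨_, (hq₀.map _).ne_zero, hq₀b⟩
    -- it is regular at all the points of `V`
    have hreg : ∀ y ∈ V, y₀ ∈ Set.range (algebraMap (Y.presheaf.stalk y) Y.functionField) := by
      intro y hy
      obtain ⟨_, ⟨V', hV' : IsAffineOpen V', rfl⟩, hyV', hV'V⟩ :=
        Y.isBasis_affineOpens.exists_subset_of_mem_open hy V.isOpen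
      have hηV' : genericPoint Y ∈ V' :=
        (genericPoint_specializes y).mem_open V'.isOpen hyV'
      obtain ⟨q, hq, hqb⟩ := exists_monic_eq f hdom V b V' hV' hV'V hηV'
      rw [← hy₀, Polynomial.eval₂_hom] at hqb
      have h1 : Polynomial.eval y₀ (q.map (Y.presheaf.germ V' (genericPoint Y) hηV').hom) = 0 :=
        hφ (hqb.trans (map_zero _).symm)
      haveI := (hY y).1
      haveI : IsIntegrallyClosed (Y.presheaf.stalk y) := (hY y).2
      have hint : IsIntegral (Y.presheaf.stalk y) y₀ := by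
        refine ⟨q.map (Y.presheaf.germ V' y hyV').hom, hq.map _, ?_⟩
        rw [Polynomial.eval₂_map]
        have h2 : (algebraMap (Y.presheaf.stalk y) Y.functionField).comp
            (Y.presheaf.germ V' y hyV').hom = (Y.presheaf.germ V' (genericPoint Y) hηV').hom := by
          ext a
          exact algebraMap_germ V' y hyV' a
        rw [h2, ← Polynomial.eval_map]
        exact h1
      exact (IsIntegrallyClosed.isIntegral_iff (R := Y.presheaf.stalk y)
        (K := Y.functionField)).mp hint
    obtain ⟨a, ha⟩ := exists_section_of_regular V hηV y₀ hreg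
    refine ⟨a, ?_⟩
    apply germ_injective_of_isIntegral X (genericPoint X) hηX
    rw [← stalkToFunctionField_germ f hdom V hηV a, ha, hy₀]
  · have hV' : V = ⊥ := by
      ext y
      simp only [Opens.coe_bot, Set.mem_empty_iff_false, iff_false]
      exact fun hy => hV ⟨y, hy⟩
    subst hV'
    intro b
    haveI : Subsingleton Γ(X, f ⁻¹ᵁ ⊥) := by
      change Subsingleton Γ(X, ⊥)
      infer_instance
    exact ⟨0, Subsingleton.elim _ _⟩

theorem s2422 {X Y : Scheme.{u}}
    [IsIntegral X] [IsIntegral Y] [IsLocallyNoetherian X] [IsLocallyNoetherian Y]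
    (hY : Pi1.IsNormalScheme Y) (f : X ⟶ Y) [IsProper f]
    (hdom : f.base (genericPoint X) ⤳ genericPoint Y)
    (halg : ∀ x : X.functionField,
      (∃ p : Polynomial Y.functionField, p ≠ 0 ∧
        Polynomial.eval₂ (CohIII.stalkToFunctionField f (genericPoint Y) hdom) x p = 0) →
      x ∈ Set.range (CohIII.stalkToFunctionField f (genericPoint Y) hdom)) :
    ∀ V : Y.Opens, IsIso (f.app V) := by
  intro V
  exact (ConcreteCategory.isIso_iff_bijective (f.app V)).mpr
    ⟨app_injective f hdom V, app_surjective hY f hdom halg V⟩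

end Groth.Agent.Lead.PropNormA
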