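import Mathlib
import Groth.Prelude.Def_Coh
import Groth.Agent.Lead.ProperFinA
import Groth.Agent.Helper1.Dev4
import Groth.Agent.S0002

/-!
# `h⁰(O_X) = 1` for proper geometrically reduced and geometrically connected schemes over a field
-/

set_option autoImplicit false

universe u

open AlgebraicGeometry CategoryTheory Limits Opposite TopologicalSpace TensorProduct

namespace Groth.Agent.Lead.H0Geom

/-- A nontrivial finite reduced algebra with connected spectrum over a field is a field. -/
theorem isField_of_reduced_connected (K B : Type u) [Field K] [CommRing B]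
    [Algebra K B] [Module.Finite K B] [IsReduced B] [Nontrivial B]
    [PreconnectedSpace (PrimeSpectrum B)] : IsField B := by
  haveI : IsArtinianRing B := IsArtinianRing.of_finite K B
  have hsub : Subsingleton (PrimeSpectrum B) := by
    have h := (isPreconnected_univ (α := PrimeSpectrum B)).subsingleton
    exact Set.subsingleton_univ_iff.mp h
  haveI : IsLocalRing B := by
    obtain ⟨m, hm⟩ := Ideal.exists_maximal B
    refine IsLocalRing.of_unique_max_ideal ⟨m, hm, fun m' hm' => ?_⟩
    have := Subsingleton.elim (⟨m', hm'.isPrime⟩ : PrimeSpectrum B) ⟨m, hm.isPrime⟩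
    exact congrArg PrimeSpectrum.asIdeal this
  exact IsArtinianRing.isField_of_isReduced_of_isLocalRing B

/-- A finite reduced algebra with connected spectrum over an algebraically closed field is
one-dimensional. -/
theorem finrank_eq_one_of_reduced_connected (K B : Type u) [Field K] [IsAlgClosed K] [CommRing B]
    [Algebra K B] [Module.Finite K B] [IsReduced B] [Nontrivial B]
    [PreconnectedSpace (PrimeSpectrum B)] : Module.finrank K B = 1 := by
  have hfield : IsField B := isField_of_reduced_connected K B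
  letI := hfield.toField
  haveI : Algebra.IsIntegral K B := Algebra.IsIntegral.of_finite K B
  have hbij := IsAlgClosed.algebraMap_bijective_of_isIntegral (k := K) (K := B)
  exact (LinearEquiv.ofBijective (Algebra.linearMap K B) hbij).finrank_eq.symm.trans
    (Module.finrank_self K)

/-- Global sections of a quasi-compact connected scheme have connected spectrum. -/
theorem preconnectedSpace_spec_Γ (Y : Scheme.{u}) [CompactSpace Y] [PreconnectedSpace Y] :
    PreconnectedSpace (PrimeSpectrum Γ(Y, ⊤)) := by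
  have hd : DenseRange Y.toSpecΓ := (inferInstance : IsDominant Y.toSpecΓ).1
  exact hd.preconnectedSpace Y.toSpecΓ.continuous

theorem nontrivial_Γ (Y : Scheme.{u}) [Nonempty Y] : Nontrivial Γ(Y, ⊤) := by
  haveI : Nonempty (⊤ : Y.Opens) := by
    obtain ⟨y⟩ := (inferInstance : Nonempty Y)
    exact ⟨⟨y, trivial⟩⟩
  infer_instance

/-- `H⁰(X, O_X) ≃ₗ[k] Γ(X, O_X)` -/
noncomputable def h0LinearEquiv (k : Type u) [Field k] (X : Scheme.{u})
    [X.Over (Spec (CommRingCat.of k))] :
    letI : Algebra k Γ(X, ⊤) := (Coh.toGlobal (X ↘ Spec (CommRingCat.of k))).toAlgebra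
    Coh.HH X (Coh.structureModule X) 0 ≃ₗ[k] Γ(X, ⊤) :=
  letI : Algebra k Γ(X, ⊤) := (Coh.toGlobal (X ↘ Spec (CommRingCat.of k))).toAlgebra
  { (Groth.Agent.Lead.ProperFinA.h0Equiv (Coh.structureModule X)) with
    map_smul' := by
      intro a x
      change Groth.Agent.Lead.ProperFinA.h0Equiv (Coh.structureModule X)
        (Coh.toGlobal (X ↘ Spec (CommRingCat.of k)) a • x) = _
      rw [Groth.Agent.Lead.ProperFinA.h0Equiv_smul]
      rfl }

theorem finite_Γ (k : Type u) [Field k] (X : Scheme.{u}) [X.Over (Spec (CommRingCat.of k))]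
    [IsProper (X ↘ (Spec (CommRingCat.of k)))] :
    letI : Algebra k Γ(X, ⊤) := (Coh.toGlobal (X ↘ Spec (CommRingCat.of k))).toAlgebra
    Module.Finite k Γ(X, ⊤) := by
  letI : Algebra k Γ(X, ⊤) := (Coh.toGlobal (X ↘ Spec (CommRingCat.of k))).toAlgebra
  haveI : Module.Finite k (Coh.HH X (Coh.structureModule X) 0) :=
    Groth.Agent.S0002.result k X _ (Groth.Agent.Helper1.Dev.isCoh_structureModule _) 0
  exact Module.Finite.equiv (h0LinearEquiv k X)

theorem appLE_top {X Y : Scheme.{u}} (f : X ⟶ Y) (e : (⊤ : X.Opens) ≤ f ⁻¹ᵁ ⊤) :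
    f.appLE ⊤ ⊤ e = f.appTop := by
  simp [Scheme.Hom.appLE, Scheme.Hom.appTop]

/-- Base change of global sections along a field extension, as a linear equivalence. -/
theorem exists_equiv_baseChange (k K : Type u) [Field k] [Field K] [Algebra k K] {X : Scheme.{u}}
    (f : X ⟶ Spec (CommRingCat.of k)) [QuasiCompact f] [QuasiSeparated f] :
    letI g : Spec (CommRingCat.of K) ⟶ Spec (CommRingCat.of k) :=
      Spec.map (CommRingCat.ofHom (algebraMap k K))
    letI : Algebra k Γ(X, ⊤) := (Coh.toGlobal f).toAlgebra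
    letI : Algebra K Γ(pullback f g, ⊤) := (Coh.toGlobal (pullback.snd f g)).toAlgebra
    Nonempty (K ⊗[k] Γ(X, ⊤) ≃ₗ[K] Γ(pullback f g, ⊤)) := by
  let g : Spec (CommRingCat.of K) ⟶ Spec (CommRingCat.of k) :=
    Spec.map (CommRingCat.ofHom (algebraMap k K))
  letI : Algebra k Γ(X, ⊤) := (Coh.toGlobal f).toAlgebra
  letI : Algebra K Γ(pullback f g, ⊤) := (Coh.toGlobal (pullback.snd f g)).toAlgebra
  letI : Algebra Γ(X, ⊤) Γ(pullback f g, ⊤) := (pullback.fst f g).appTop.hom.toAlgebra
  letI : Algebra k Γ(pullback f g, ⊤) :=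
    ((algebraMap K Γ(pullback f g, ⊤)).comp (algebraMap k K)).toAlgebra
  haveI : IsScalarTower k K Γ(pullback f g, ⊤) := IsScalarTower.of_algebraMap_eq' rfl
  have H : IsPullback (pullback.fst f g) (pullback.snd f g) f g := .of_hasPullback f g
  have hcomm : (algebraMap Γ(X, ⊤) Γ(pullback f g, ⊤)).comp (algebraMap k Γ(X, ⊤)) =
      algebraMap k Γ(pullback f g, ⊤) := by
    change ((pullback.fst f g).appTop.hom).comp (f.appTop.hom.comp
        (Scheme.ΓSpecIso (CommRingCat.of k)).inv.hom) =
      ((pullback.snd f g).appTop.hom.comp (Scheme.ΓSpecIso (CommRingCat.of K)).inv.hom).comp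
        (algebraMap k K)
    have h1 : (Scheme.ΓSpecIso (CommRingCat.of k)).inv ≫ f.appTop ≫ (pullback.fst f g).appTop =
        CommRingCat.ofHom (algebraMap k K) ≫ (Scheme.ΓSpecIso (CommRingCat.of K)).inv ≫
          (pullback.snd f g).appTop := by
      rw [← Scheme.Hom.comp_appTop, pullback.condition, Scheme.Hom.comp_appTop,
        ← Category.assoc, ← Category.assoc, Scheme.ΓSpecIso_inv_naturality]
    exact congrArg CommRingCat.Hom.hom h1
  haveI : IsScalarTower k Γ(X, ⊤) Γ(pullback f g, ⊤) := IsScalarTower.of_algebraMap_eq' hcomm.symm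
  haveI : Flat g := by
    rw [Flat.SpecMap_iff]
    exact RingHom.flat_algebraMap_iff.mpr inferInstance
  haveI : CompactSpace X := QuasiCompact.compactSpace_of_compactSpace f
  haveI : QuasiSeparatedSpace X := quasiSeparatedSpace_of_quasiSeparated f
  have hiso := isIso_pushoutSection_of_isQuasiSeparated_of_flat_right H
    (US := ⊤) (UT := ⊤) (UX := ⊤) (UY := ⊤) le_top le_top (by simp)
    (isAffineOpen_top _) (isAffineOpen_top _) isCompact_univ isQuasiSeparated_univ
  have hpo := (isIso_pushoutSection_iff H le_top le_top (by simp)).mp hiso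
  have hpo2 : IsPushout (CommRingCat.ofHom (algebraMap k K))
      (CommRingCat.ofHom (algebraMap k Γ(X, ⊤)))
      (CommRingCat.ofHom (algebraMap K Γ(pullback f g, ⊤)))
      (CommRingCat.ofHom (algebraMap Γ(X, ⊤) Γ(pullback f g, ⊤))) := by
    refine IsPushout.of_iso hpo.flip (Scheme.ΓSpecIso (CommRingCat.of k))
      (Scheme.ΓSpecIso (CommRingCat.of K)) (Iso.refl _) (Iso.refl _) ?_ ?_ ?_ ?_
    · rw [appLE_top]
      exact Scheme.ΓSpecIso_naturality _
    · rw [appLE_top, Iso.refl_hom, Category.comp_id]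
      change f.appTop = (Scheme.ΓSpecIso (CommRingCat.of k)).hom ≫
        ((Scheme.ΓSpecIso (CommRingCat.of k)).inv ≫ f.appTop)
      rw [Iso.hom_inv_id_assoc]
    · rw [appLE_top, Iso.refl_hom, Category.comp_id]
      change (pullback.snd f g).appTop = (Scheme.ΓSpecIso (CommRingCat.of K)).hom ≫
        ((Scheme.ΓSpecIso (CommRingCat.of K)).inv ≫ (pullback.snd f g).appTop)
      rw [Iso.hom_inv_id_assoc]
    · rw [appLE_top, Iso.refl_hom, Category.comp_id, Iso.refl_hom, Category.id_comp]
      rfl
  haveI : Algebra.IsPushout k K Γ(X, ⊤) Γ(pullback f g, ⊤) :=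
    CommRingCat.isPushout_iff_isPushout.mp hpo2
  exact ⟨(Algebra.IsPushout.equiv k K Γ(X, ⊤) Γ(pullback f g, ⊤)).toLinearEquiv⟩

theorem main (k : Type u) [Field k] (X : Scheme.{u}) [X.Over (Spec (CommRingCat.of k))]
    [IsProper (X ↘ (Spec (CommRingCat.of k)))]
    [GeometricallyReduced (X ↘ (Spec (CommRingCat.of k)))]
    [GeometricallyConnected (X ↘ (Spec (CommRingCat.of k)))] :
    Module.finrank k (Coh.HH X (Coh.structureModule X) 0) = 1 := by
  let f : X ⟶ Spec (CommRingCat.of k) := X ↘ Spec (CommRingCat.of k)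
  letI : Algebra k Γ(X, ⊤) := (Coh.toGlobal f).toAlgebra
  haveI : Module.Finite k Γ(X, ⊤) := finite_Γ k X
  rw [(h0LinearEquiv k X).finrank_eq]
  let K : Type u := AlgebraicClosure k
  let g : Spec (CommRingCat.of K) ⟶ Spec (CommRingCat.of k) :=
    Spec.map (CommRingCat.ofHom (algebraMap k K))
  letI : Algebra K Γ(pullback f g, ⊤) := (Coh.toGlobal (pullback.snd f g)).toAlgebra
  obtain ⟨E⟩ := exists_equiv_baseChange k K f
  have h1 : Module.finrank K Γ(pullback f g, ⊤) = Module.finrank k Γ(X, ⊤) := by
    rw [← E.finrank_eq, Module.finrank_baseChange]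
  rw [← h1]
  haveI : Module.Finite K Γ(pullback f g, ⊤) := Module.Finite.equiv E
  haveI : IsReduced (pullback f g) :=
    pullback_of_geometrically (GeometricallyReduced.geometrically_isReduced (f := f)) K g
  haveI : ConnectedSpace ↥(pullback f g : Scheme.{u}) :=
    pullback_of_geometrically (GeometricallyConnected.geometrically_connectedSpace (f := f)) K g
  haveI : CompactSpace ↥(pullback f g : Scheme.{u}) :=
    QuasiCompact.compactSpace_of_compactSpace (pullback.snd f g)
  haveI : Nontrivial Γ(pullback f g, ⊤) := nontrivial_Γ _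
  haveI : PreconnectedSpace (PrimeSpectrum Γ(pullback f g, ⊤)) := preconnectedSpace_spec_Γ _
  exact finrank_eq_one_of_reduced_connected K _

end Groth.Agent.Lead.H0Geom
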