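import Mathlib
import Groth.Prelude.Def_Coh
import Groth.Prelude.Def_CohTop
import Groth.Agent.Helper1.SerreH
import Groth.Agent.Helper1.CohTopBase
import Groth.Agent.Helper1.HHonHU
import Groth.Agent.Helper4.QcohGlue
import Groth.Agent.S0032
import Groth.Agent.S0461
import Groth.Agent.S0462

/-!
# Vanishing of higher direct images of quasi-coherent modules is stable under base change
-/

set_option autoImplicit false
set_option linter.unusedSectionVars false
set_option linter.style.haveILetI false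

open CategoryTheory Limits AlgebraicGeometry TopologicalSpace Opposite

universe u

namespace Groth.Agent.Lead.RpushBC

open Groth.Agent.Helper1.CohTopFun

theorem base_eq {X Y : Scheme.{u}} (f : X ⟶ Y) (V : Y.Opens) :
    (f ∣_ V).base = gV f.base V := by
  ext x
  exact Subtype.ext (morphismRestrict_base_coe f V x)

theorem isZero_Rpush_of_eq {A B : TopCat.{u}} {a b : A ⟶ B} (h : a = b) (i : ℕ)
    (F : CohTop.Ab A) (hz : IsZero ((CohTop.Rpush a i).obj F)) :
    IsZero ((CohTop.Rpush b i).obj F) := by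
  subst h
  exact hz

/-- vanishing of `R^i f_*` on pushforwards from `f⁻¹V` gives vanishing of `R^i (f|_V)_*` -/
theorem isZero_RpushAb_morphismRestrict {X Y : Scheme.{u}} (f : X ⟶ Y) (V : Y.Opens)
    (N : (f ⁻¹ᵁ V).toScheme.Modules) (i : ℕ)
    (hz : IsZero ((Coh.RpushAb f i).obj
      (Coh.toAb ((Scheme.Modules.pushforward (f ⁻¹ᵁ V).ι).obj N)))) :
    IsZero ((Coh.RpushAb (f ∣_ V) i).obj (Coh.toAb N)) := by
  obtain ⟨e1⟩ := nonempty_iso_restr_Rpush f.base V i
    (Coh.toAb ((Scheme.Modules.pushforward (f ⁻¹ᵁ V).ι).obj N))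
  have h1 : IsZero ((CohTop.Rpush (gV f.base V) i).obj
      ((CohTop.restrFunctor ((Opens.map f.base).obj V)).obj
        (Coh.toAb ((Scheme.Modules.pushforward (f ⁻¹ᵁ V).ι).obj N)))) :=
    IsZero.of_iso (Functor.map_isZero (CohTop.restrFunctor V) hz) e1.symm
  let c : ((Scheme.Modules.pushforward (f ⁻¹ᵁ V).ι).obj N).restrict (f ⁻¹ᵁ V).ι ≅ N :=
    asIso ((Scheme.Modules.restrictAdjunction (f ⁻¹ᵁ V).ι).counit.app N)
  let c' : Coh.toAb (((Scheme.Modules.pushforward (f ⁻¹ᵁ V).ι).obj N).restrict (f ⁻¹ᵁ V).ι) ≅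
      Coh.toAb N := (SheafOfModules.toSheaf _).mapIso c
  have h2 : IsZero ((CohTop.Rpush (gV f.base V) i).obj (Coh.toAb N)) :=
    IsZero.of_iso h1 ((CohTop.Rpush (gV f.base V) i).mapIso c').symm
  exact isZero_Rpush_of_eq (base_eq f V).symm i _ h2

/-- cohomology of quasi-coherent modules on `f⁻¹V`, `V` affine, vanishes when `R^i f_*` does -/
theorem subsingleton_HH_preimage {X Y : Scheme.{u}} (f : X ⟶ Y) [QuasiCompact f]
    [QuasiSeparated f] (V : Y.Opens) (hV : IsAffineOpen V)
    (N : (f ⁻¹ᵁ V).toScheme.Modules) [N.IsQuasicoherent] (i : ℕ)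
    (hz : IsZero ((Coh.RpushAb f i).obj
      (Coh.toAb ((Scheme.Modules.pushforward (f ⁻¹ᵁ V).ι).obj N)))) :
    Subsingleton (Coh.HH (f ⁻¹ᵁ V).toScheme N i) := by
  haveI : IsAffine V.toScheme := hV
  haveI : QuasiCompact (f ∣_ V) := MorphismProperty.IsStableUnderBaseChange.of_isPullback
    (isPullback_morphismRestrict f V).flip inferInstance
  haveI : QuasiSeparated (f ∣_ V) := MorphismProperty.IsStableUnderBaseChange.of_isPullback
    (isPullback_morphismRestrict f V).flip inferInstance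
  obtain ⟨e⟩ := Groth.Agent.S0032.result (f ∣_ V) N i
  have hz' := isZero_RpushAb_morphismRestrict f V N i hz
  have h3 : IsZero (((Coh.RpushAb (f ∣_ V) i).obj (Coh.toAb N)).obj.obj (op ⊤)) :=
    Functor.map_isZero (sheafSections _ _ |>.obj (op ⊤)) hz'
  haveI := AddCommGrpCat.subsingleton_of_isZero h3
  exact e.toEquiv.subsingleton

end Groth.Agent.Lead.RpushBC
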