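import Mathlib
import Groth.Agent.Lead.RpushBCA

/-!
# Vanishing of higher direct images of quasi-coherent modules is stable under base change: main
-/

set_option autoImplicit false
set_option linter.unusedSectionVars false
set_option linter.style.haveILetI false

open CategoryTheory Limits AlgebraicGeometry TopologicalSpace Opposite

universe u

namespace Groth.Agent.Lead.RpushBC

open Groth.Agent.Helper1.CohTopFun

/-- degenerate Leray for affine morphisms, as a transfer of vanishing -/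
theorem subsingleton_HH_of_isAffineHom {P Q : Scheme.{u}} (h : P ⟶ Q) [IsAffineHom h]
    (N : P.Modules) [N.IsQuasicoherent] (i : ℕ)
    (hQ : Subsingleton (Coh.HH Q ((Scheme.Modules.pushforward h).obj N) i)) :
    Subsingleton (Coh.HH P N i) := by
  obtain ⟨e⟩ := Groth.Agent.S0462.result h.base (Coh.toAb N)
    (fun q => Groth.Agent.Helper1.Serre.isZero_RpushAb_of_isAffineHom h N q) i
  have e' : Coh.HH P N i ≃+ Coh.HH Q ((Scheme.Modules.pushforward h).obj N) i := e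
  exact e'.toEquiv.subsingleton

theorem isZero_RpushAb_baseChange {X Y X' Y' : Scheme.{u}} (f : X ⟶ Y) [CompactSpace X]
    [QuasiSeparatedSpace X] [CompactSpace Y] [QuasiSeparatedSpace Y] (d : ℕ)
    (hvan : ∀ (M : X.Modules) (i : ℕ), M.IsQuasicoherent → d < i →
      IsZero ((Coh.RpushAb f i).obj (Coh.toAb M)))
    (g : Y' ⟶ Y) (f' : X' ⟶ Y') (g' : X' ⟶ X) (sq : IsPullback g' f' f g) (M' : X'.Modules)
    [M'.IsQuasicoherent] (i : ℕ) (hi : d < i) :
    IsZero ((Coh.RpushAb f' i).obj (Coh.toAb M')) := by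
  haveI : QuasiCompact f := inferInstance
  haveI : QuasiSeparated f := inferInstance
  haveI : QuasiCompact f' := MorphismProperty.IsStableUnderBaseChange.of_isPullback sq
    inferInstance
  haveI : QuasiSeparated f' := MorphismProperty.IsStableUnderBaseChange.of_isPullback sq
    inferInstance
  obtain ⟨e⟩ := Groth.Agent.S0461.result f'.base (Coh.toAb M') i
  refine IsZero.of_iso ?_ e
  apply Groth.Agent.Helper1.Serre.isZero_sheafify_of_basis _
    {W : Y'.Opens | IsAffineOpen W ∧ ∃ V : Y.Opens, IsAffineOpen V ∧ W ≤ g ⁻¹ᵁ V}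
  · rw [Opens.isBasis_iff_nbhd]
    intro U x hx
    obtain ⟨V, hV, hxV, -⟩ := Opens.isBasis_iff_nbhd.1 Y.isBasis_affineOpens
      (show g.base x ∈ (⊤ : Y.Opens) from trivial)
    obtain ⟨W, hW, hxW, hWle⟩ := Opens.isBasis_iff_nbhd.1 Y'.isBasis_affineOpens
      (show x ∈ U ⊓ g ⁻¹ᵁ V from ⟨hx, hxV⟩)
    exact ⟨W, ⟨hW, V, hV, hWle.trans inf_le_right⟩, hxW, hWle.trans inf_le_left⟩
  · rintro W0 ⟨hW0, V, hV, hWV0⟩
    obtain ⟨W, hWW0⟩ : ∃ W : Y'.Opens, W = W0 := ⟨W0, rfl⟩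
    subst hWW0
    have hW : IsAffineOpen W := hW0
    have hWV : W ≤ g ⁻¹ᵁ V := hWV0
    show Subsingleton (CohTop.HU (Coh.toAb M') i (f' ⁻¹ᵁ W))
    obtain ⟨e2⟩ := Groth.Agent.Helper1.HHonHU.nonempty_HHon_HU X' M' (f' ⁻¹ᵁ W) i
    suffices h : Subsingleton (Coh.HHon X' M' (f' ⁻¹ᵁ W) i) from e2.symm.toEquiv.subsingleton
    -- the restricted square
    have hle : f' ⁻¹ᵁ W ≤ g' ⁻¹ᵁ (f ⁻¹ᵁ V) := by
      intro x hx
      show f.base (g'.base x) ∈ V
      have hw : g'.base ≫ f.base = f'.base ≫ g.base := by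
        rw [← Scheme.Hom.comp_base, ← Scheme.Hom.comp_base, sq.w]
      have h1 : f.base (g'.base x) = g.base (f'.base x) :=
        congrArg (fun φ => (ConcreteCategory.hom φ) x) hw
      rw [h1]
      exact hWV hx
    have hUY : f' ⁻¹ᵁ W = g' ⁻¹ᵁ (f ⁻¹ᵁ V) ⊓ f' ⁻¹ᵁ W := (inf_eq_right.mpr hle).symm
    have hpb := Scheme.Hom.isPullback_resLE sq hWV (le_refl (f ⁻¹ᵁ V)) hUY
    haveI : IsAffine W.toScheme := hW
    haveI : IsAffine V.toScheme := hV
    haveI : IsAffineHom (g'.resLE (f ⁻¹ᵁ V) (f' ⁻¹ᵁ W) (by rw [hUY]; exact inf_le_left)) :=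
      MorphismProperty.IsStableUnderBaseChange.of_isPullback hpb.flip inferInstance
    obtain ⟨hh, hhdef⟩ : ∃ hh : (f' ⁻¹ᵁ W).toScheme ⟶ (f ⁻¹ᵁ V).toScheme,
        hh = g'.resLE (f ⁻¹ᵁ V) (f' ⁻¹ᵁ W) (by rw [hUY]; exact inf_le_left) := ⟨_, rfl⟩
    haveI : IsAffineHom hh := by rw [hhdef]; infer_instance
    haveI : (M'.restrict (f' ⁻¹ᵁ W).ι).IsQuasicoherent := inferInstance
    apply subsingleton_HH_of_isAffineHom hh (M'.restrict (f' ⁻¹ᵁ W).ι) i
    haveI : ((Scheme.Modules.pushforward hh).obj (M'.restrict (f' ⁻¹ᵁ W).ι)).IsQuasicoherent :=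
      Groth.Agent.Helper4.QcohGlue.isQuasicoherent_pushforward hh _
    haveI : QuasiCompact (f ⁻¹ᵁ V).ι :=
      (quasiCompact_iff_compactSpace _).mpr (isCompact_iff_compactSpace.1
        (f.isCompact_preimage hV.isCompact))
    haveI : ((Scheme.Modules.pushforward (f ⁻¹ᵁ V).ι).obj
        ((Scheme.Modules.pushforward hh).obj (M'.restrict (f' ⁻¹ᵁ W).ι))).IsQuasicoherent :=
      Groth.Agent.Helper4.QcohGlue.isQuasicoherent_pushforward (f ⁻¹ᵁ V).ι _
    exact subsingleton_HH_preimage f V hV _ i (hvan _ i inferInstance hi)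

end Groth.Agent.Lead.RpushBC
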