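import Mathlib

set_option autoImplicit false
open TensorProduct
universe u

namespace Groth.Agent.Lead.BCMap

section
variable {R : Type*} [CommRing R] (S : Type*) [CommRing S] [Algebra R S]
variable {M N : Type*} [AddCommGroup M] [AddCommGroup N] [Module R M] [Module R N] [Module S N]
  [IsScalarTower R S N]

/-- the canonical map `S ⊗[R] M → N` of a linear map `M → N` into an `S`-module -/
noncomputable def bcLift (h : M →ₗ[R] N) : S ⊗[R] M →ₗ[R] N :=
  TensorProduct.lift (((Algebra.linearMap S <| Module.End S (M →ₗ[R] N)).flip h).restrictScalars R)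

@[simp] theorem bcLift_tmul (h : M →ₗ[R] N) (s : S) (m : M) : bcLift S h (s ⊗ₜ m) = s • h m := by
  simp [bcLift]

theorem isBaseChange_iff_bijective (h : M →ₗ[R] N) :
    IsBaseChange S h ↔ Function.Bijective (bcLift S h) := Iff.rfl

/-- injectivity of the canonical map `S ⊗[R] M → N` -/
def InjBC (h : M →ₗ[R] N) : Prop := Function.Injective (bcLift S h)

theorem IsBaseChange.injBC {h : M →ₗ[R] N} (hb : IsBaseChange S h) : InjBC S h := hb.1

end

section
variable {R : Type*} [CommRing R] (S : Type*) [CommRing S] [Algebra R S]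
variable {M₁ M₂ M₃ N₁ N₂ N₃ : Type*} [AddCommGroup M₁] [AddCommGroup M₂] [AddCommGroup M₃]
  [AddCommGroup N₁] [AddCommGroup N₂] [AddCommGroup N₃] [Module R M₁] [Module R M₂] [Module R M₃]
  [Module R N₁] [Module R N₂] [Module R N₃] [Module S N₁] [Module S N₂] [Module S N₃]
  [IsScalarTower R S N₁] [IsScalarTower R S N₂] [IsScalarTower R S N₃]
  (h₁ : M₁ →ₗ[R] N₁) (h₂ : M₂ →ₗ[R] N₂) (h₃ : M₃ →ₗ[R] N₃)
  {f : M₁ →ₗ[R] M₂} {g : M₂ →ₗ[R] M₃} {f' : N₁ →ₗ[S] N₂} {g' : N₂ →ₗ[S] N₃}

theorem InjBC.of_injective (comm₁ : h₂.comp f = (f'.restrictScalars R).comp h₁) [Module.Flat R S]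
    (inj₂ : InjBC S h₂) (inj₁ : Function.Injective f) : InjBC S h₁ := by
  have hc : (bcLift S h₂).comp ((f.baseChange S).restrictScalars R) =
      (f'.restrictScalars R).comp (bcLift S h₁) := by
    ext s m
    simpa using congr(s • ($comm₁ m))
  have h1 : Function.Injective ((bcLift S h₂).comp ((f.baseChange S).restrictScalars R)) :=
    inj₂.comp (Module.Flat.lTensor_preserves_injective_linearMap f inj₁)
  rw [hc] at h1
  exact Function.Injective.of_comp h1

theorem isBaseChange_of_left_exact' (comm₁ : h₂.comp f = (f'.restrictScalars R).comp h₁)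
    (comm₂ : h₃.comp g = (g'.restrictScalars R).comp h₂) [Module.Flat R S]
    (isb₂ : IsBaseChange S h₂) (inj₃ : InjBC S h₃)
    (exact₁ : Function.Exact f g) (inj₁ : Function.Injective f)
    (exact₂ : Function.Exact f' g') (inj₂ : Function.Injective f') : IsBaseChange S h₁ := by
  simp only [IsBaseChange, IsTensorProduct] at isb₂ ⊢
  refine LinearMap.bijective_of_bijective_of_injective_of_left_exact
    ((f.baseChange S).restrictScalars R) ((g.baseChange S).restrictScalars R)
    (f'.restrictScalars R) (g'.restrictScalars R) _ _ _ ?_ ?_ ?_ exact₂ isb₂ inj₃ ?_ inj₂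
  · ext s m
    simpa using congr(s • ($comm₁ m)).symm
  · ext s m
    simpa using congr(s • ($comm₂ m)).symm
  · exact Module.Flat.lTensor_exact S exact₁
  · exact Module.Flat.lTensor_preserves_injective_linearMap f inj₁

end

section Pi
variable {R : Type*} [CommRing R] (S : Type*) [CommRing S] [Algebra R S]

theorem InjBC.pi {ι : Type*} [Finite ι]
    {M M' : ι → Type*} [∀ i, AddCommGroup (M i)] [∀ i, AddCommGroup (M' i)]
    [∀ i, Module R (M i)] [∀ i, Module R (M' i)] [∀ i, Module S (M' i)]
    [∀ i, IsScalarTower R S (M' i)]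
    (f : ∀ i, M i →ₗ[R] M' i) (hf : ∀ i, InjBC S (f i)) :
    InjBC S (LinearMap.pi fun i ↦ f i ∘ₗ LinearMap.proj i) := by
  classical
  cases nonempty_fintype ι
  have hc : ∀ t : S ⊗[R] (∀ i, M i), ∀ i,
      bcLift S (LinearMap.pi fun i ↦ f i ∘ₗ LinearMap.proj i) t i =
        bcLift S (f i) (TensorProduct.piRight R S S M t i) := by
    intro t i
    induction t using TensorProduct.induction_on with
    | zero => simp
    | tmul s m => simp
    | add x y hx hy => simp only [map_add, Pi.add_apply, hx, hy]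
  intro t₁ t₂ h12
  apply (TensorProduct.piRight R S S M).injective
  funext i
  apply hf i
  rw [← hc, ← hc, h12]

end Pi

end Groth.Agent.Lead.BCMap
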