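import Groth.Agent.Lead.BCMap1

set_option autoImplicit false
open CategoryTheory AlgebraicGeometry Opposite TopologicalSpace
universe u

namespace Groth.Agent.Lead.BCMap
open Scheme.Modules Groth.Agent.Helper4

section SecT
variable {Z : Scheme.{u}} (G : Z.Modules) {T : Type u} [CommRing T] {W₀ : Z.Opens}
  (φ₀ : T →+* Γ(Z, W₀))

/-- sections over `W ≤ W₀`, regarded as a `T`-module through `φ₀ : T →+* Γ(Z, W₀)` -/
@[nolint unusedArguments]
def SecT (_φ₀ : T →+* Γ(Z, W₀)) (W : Z.Opens) (_hW : W ≤ W₀) : Type u := Γ(G, W)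

noncomputable instance (W : Z.Opens) (hW : W ≤ W₀) : AddCommGroup (SecT G φ₀ W hW) :=
  inferInstanceAs (AddCommGroup Γ(G, W))

/-- the structure map `T →+* Γ(Z, W)` -/
noncomputable def strT (W : Z.Opens) (hW : W ≤ W₀) : T →+* Γ(Z, W) :=
  (Z.presheaf.map (homOfLE hW).op).hom.comp φ₀

noncomputable instance (W : Z.Opens) (hW : W ≤ W₀) : Module T (SecT G φ₀ W hW) :=
  Module.compHom (Γ(G, W)) (strT φ₀ W hW)

theorem smulT_def (W : Z.Opens) (hW : W ≤ W₀) (t : T) (m : SecT G φ₀ W hW) :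
    t • m = (show Γ(G, W) from (strT φ₀ W hW t) • (show Γ(G, W) from m)) := rfl

/-- restriction as a `T`-linear map -/
noncomputable def resT {W₁ W₂ : Z.Opens} (h₁ : W₁ ≤ W₀) (h₂ : W₂ ≤ W₀) (h₁₂ : W₂ ≤ W₁) :
    SecT G φ₀ W₁ h₁ →ₗ[T] SecT G φ₀ W₂ h₂ where
  toFun m := G.presheaf.map (homOfLE h₁₂).op (show Γ(G, W₁) from m)
  map_add' a b := map_add _ _ _
  map_smul' t m := by
    change G.presheaf.map (homOfLE h₁₂).op ((strT φ₀ W₁ h₁ t) • (show Γ(G, W₁) from m)) =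
      (strT φ₀ W₂ h₂ t) • G.presheaf.map (homOfLE h₁₂).op (show Γ(G, W₁) from m)
    rw [Scheme.Modules.map_smul]
    congr 1
    change (Z.presheaf.map (homOfLE h₁₂).op) ((Z.presheaf.map (homOfLE h₁).op) (φ₀ t)) =
      (Z.presheaf.map (homOfLE h₂).op) (φ₀ t)
    rw [← ConcreteCategory.comp_apply, ← Functor.map_comp]
    rfl

theorem resT_apply {W₁ W₂ : Z.Opens} (h₁ : W₁ ≤ W₀) (h₂ : W₂ ≤ W₀) (h₁₂ : W₂ ≤ W₁)
    (m : SecT G φ₀ W₁ h₁) :
    resT G φ₀ h₁ h₂ h₁₂ m = G.presheaf.map (homOfLE h₁₂).op (show Γ(G, W₁) from m) := rfl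

end SecT

section Cech
variable {Z : Scheme.{u}} (G : Z.Modules) {T : Type u} [CommRing T] {W₀ : Z.Opens}
  (φ₀ : T →+* Γ(Z, W₀)) {ι : Type*} {W : Z.Opens} (hW : W ≤ W₀) (Wc : ι → Z.Opens)
  (hWc : ∀ i, Wc i ≤ W)

/-- restriction to the members of a cover -/
noncomputable def cechι :
    SecT G φ₀ W hW →ₗ[T] (∀ i, SecT G φ₀ (Wc i) ((hWc i).trans hW)) :=
  LinearMap.pi fun i => resT G φ₀ hW ((hWc i).trans hW) (hWc i)

/-- the difference of the two restrictions to the pairwise intersections -/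
noncomputable def cechd :
    (∀ i, SecT G φ₀ (Wc i) ((hWc i).trans hW)) →ₗ[T]
      (∀ p : ι × ι, SecT G φ₀ (Wc p.1 ⊓ Wc p.2) (inf_le_left.trans ((hWc p.1).trans hW))) :=
  LinearMap.pi fun p =>
    (resT G φ₀ ((hWc p.1).trans hW) (inf_le_left.trans ((hWc p.1).trans hW)) inf_le_left) ∘ₗ
        LinearMap.proj p.1 -
      (resT G φ₀ ((hWc p.2).trans hW) (inf_le_left.trans ((hWc p.1).trans hW)) inf_le_right) ∘ₗ
        LinearMap.proj p.2

theorem cechι_injective (hcover : W ≤ ⨆ i, Wc i) :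
    Function.Injective (cechι G φ₀ hW Wc hWc) := by
  intro a b hab
  refine TopCat.Sheaf.eq_of_locally_eq' (⟨G.presheaf, G.isSheaf⟩ : TopCat.Sheaf Ab Z) Wc W
    (fun i => homOfLE (hWc i)) hcover a b (fun i => ?_)
  exact congrFun hab i

theorem cech_exact (hcover : W ≤ ⨆ i, Wc i) :
    Function.Exact (cechι G φ₀ hW Wc hWc) (cechd G φ₀ hW Wc hWc) := by
  intro x
  constructor
  · intro hx
    have hcomp : TopCat.Presheaf.IsCompatible G.presheaf Wc (fun i => (x i : Γ(G, Wc i))) := by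
      intro i j
      have := congrFun hx (i, j)
      exact sub_eq_zero.mp this
    obtain ⟨s, hs, -⟩ := TopCat.Sheaf.existsUnique_gluing'
      (⟨G.presheaf, G.isSheaf⟩ : TopCat.Sheaf Ab Z) Wc W (fun i => homOfLE (hWc i)) hcover
      (fun i => (x i : Γ(G, Wc i))) hcomp
    exact ⟨s, funext fun i => hs i⟩
  · rintro ⟨s, rfl⟩
    funext p
    change G.presheaf.map (homOfLE _).op (G.presheaf.map (homOfLE _).op (show Γ(G, W) from s)) -
      G.presheaf.map (homOfLE _).op (G.presheaf.map (homOfLE _).op (show Γ(G, W) from s)) = 0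
    rw [sub_eq_zero]
    rw [QcohGlue.map_map_thin G _ _ (homOfLE (inf_le_left.trans (hWc p.1))).op,
      QcohGlue.map_map_thin G _ _ (homOfLE (inf_le_left.trans (hWc p.1))).op]

end Cech

end Groth.Agent.Lead.BCMap
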