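import Groth.Agent.Lead.BCMap7
import Groth.Agent.Lead.BCMap8
import Groth.Agent.Lead.BCMap9

set_option autoImplicit false
open CategoryTheory AlgebraicGeometry Opposite TopologicalSpace TensorProduct
universe u

namespace Groth.Agent.Lead.BCMap
open Scheme.Modules Groth.Agent.Helper4

theorem isBaseChange_of_isPushout
    {R R' A A' M N₂ : Type u} [CommRing R] [CommRing R'] [CommRing A] [CommRing A']
    [Algebra R R'] [Algebra R A] [Algebra A A'] [Algebra R' A'] [Algebra R A']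
    [IsScalarTower R A A'] [IsScalarTower R R' A'] [Algebra.IsPushout R R' A A']
    [AddCommGroup M] [Module R M] [Module A M] [IsScalarTower R A M]
    [AddCommGroup N₂] [Module A N₂] [Module A' N₂] [IsScalarTower A A' N₂]
    [Module R' N₂] [IsScalarTower R' A' N₂] [Module R N₂] [IsScalarTower R R' N₂]
    (ρ₂ : M →ₗ[A] N₂) (h₂ : IsBaseChange A' ρ₂) (ρ : M →ₗ[R] N₂) (hρ : ∀ m, ρ m = ρ₂ m) :
    IsBaseChange R' ρ := by
  let E₂ : R' ⊗[R] M ≃ₗ[R'] N₂ :=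
    (Algebra.IsPushout.cancelBaseChange R R' A A' M).symm ≪≫ₗ (h₂.equiv.restrictScalars R')
  refine IsBaseChange.of_equiv E₂ (fun m => ?_)
  change h₂.equiv ((Algebra.IsPushout.cancelBaseChange R R' A A' M).symm (1 ⊗ₜ m)) = _
  rw [Algebra.IsPushout.cancelBaseChange_symm_tmul, map_one, IsBaseChange.equiv_tmul, one_smul, hρ]

section Flat
variable {X S X' S' : Scheme.{u}} (f : X ⟶ S) (g : S' ⟶ S) (g' : X' ⟶ X) (f' : X' ⟶ S')
  (h : IsPullback g' f' f g) (M : X.Modules)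
  {V : S.Opens} {V' : S'.Opens} (e : V' ≤ g ⁻¹ᵁ V)

/-- `R`-module structure on an `R'`-module of sections -/
@[reducible] noncomputable def modRestr {Z : Scheme.{u}} (G : Z.Modules) {T T' : Type u} [CommRing T]
    [CommRing T'] [Algebra T T'] {W₀ : Z.Opens} (φ₀ : T' →+* Γ(Z, W₀)) (W : Z.Opens)
    (hW : W ≤ W₀) : Module T (SecT G φ₀ W hW) :=
  Module.compHom _ (algebraMap T T')

attribute [local instance] modRestr

theorem towerRestr {Z : Scheme.{u}} (G : Z.Modules) {T T' : Type u} [CommRing T]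
    [CommRing T'] [Algebra T T'] {W₀ : Z.Opens} (φ₀ : T' →+* Γ(Z, W₀)) (W : Z.Opens)
    (hW : W ≤ W₀) : IsScalarTower T T' (SecT G φ₀ W hW) :=
  IsScalarTower.of_compHom _ _ _

attribute [local instance] towerRestr

include h in
theorem appLE_square {U : X.Opens} {U' : X'.Opens} (hU : U ≤ f ⁻¹ᵁ V) (hU' : U' ≤ f' ⁻¹ᵁ V')
    (eU : U' ≤ g' ⁻¹ᵁ U) (r : Γ(S, V)) :
    g'.appLE U U' eU (f.appLE V U hU r) = f'.appLE V' U' hU' (g.appLE V V' e r) := by
  have h1 : f.appLE V U hU ≫ g'.appLE U U' eU = g.appLE V V' e ≫ f'.appLE V' U' hU' := by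
    simp only [Scheme.Hom.appLE_comp_appLE, h.w]
  exact congrArg (fun φ => φ.hom r) h1

/-- the pullback of sections as an `R`-linear map -/
noncomputable def cT {U : X.Opens} {U' : X'.Opens} (hU : U ≤ f ⁻¹ᵁ V) (hU' : U' ≤ f' ⁻¹ᵁ V')
    (eU : U' ≤ g' ⁻¹ᵁ U) :
    letI := (g.appLE V V' e).hom.toAlgebra
    SecT M (f.app V).hom U hU →ₗ[Γ(S, V)]
      SecT ((Scheme.Modules.pullback g').obj M) (f'.app V').hom U' hU' :=
  letI := (g.appLE V V' e).hom.toAlgebra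
  { toFun := fun m => pbSec g' M U U' eU (show Γ(M, U) from m)
    map_add' := fun a b => map_add _ _ _
    map_smul' := fun r m => by
      change pbSec g' M U U' eU ((f.appLE V U hU r) • (show Γ(M, U) from m)) =
        (f'.appLE V' U' hU' (g.appLE V V' e r)) • pbSec g' M U U' eU (show Γ(M, U) from m)
      rw [pbSec_smul, appLE_square f g g' f' h e hU hU' eU r] }

set_option backward.isDefEq.respectTransparency false in
include h in
theorem cT_isBaseChange_of_affine [M.IsQuasicoherent] (hV : IsAffineOpen V)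
    (hV' : IsAffineOpen V') {U : X.Opens} (hUa : IsAffineOpen U) (hU : U ≤ f ⁻¹ᵁ V)
    {U' : X'.Opens} (hU' : U' ≤ f' ⁻¹ᵁ V') (eU : U' ≤ g' ⁻¹ᵁ U)
    (hU'eq : U' = g' ⁻¹ᵁ U ⊓ f' ⁻¹ᵁ V') :
    letI := (g.appLE V V' e).hom.toAlgebra
    IsBaseChange Γ(S', V') (cT f g g' f' h M e hU hU' eU) := by
  have hU'a : IsAffineOpen U' := by
    haveI : IsAffine (V : Scheme) := hV
    haveI : IsAffine (V' : Scheme) := hV'
    haveI : IsAffine (U : Scheme) := hUa
    exact .of_isIso (Scheme.Hom.isPullback_resLE h e hU hU'eq).isoPullback.hom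
  have hpo : IsPushout (f.appLE V U hU) (g.appLE V V' e) (g'.appLE U U' eU)
      (f'.appLE V' U' hU') :=
    (isIso_pushoutSection_iff h e hU hU'eq).mp
      (isIso_pushoutSection_of_isAffineOpen h e hU hU'eq hV hV' hUa)
  -- rings
  letI aRR' : Algebra Γ(S, V) Γ(S', V') := (g.appLE V V' e).hom.toAlgebra
  letI aRA : Algebra Γ(S, V) Γ(X, U) := (f.appLE V U hU).hom.toAlgebra
  letI aAA' : Algebra Γ(X, U) Γ(X', U') := (g'.appLE U U' eU).hom.toAlgebra
  letI aR'A' : Algebra Γ(S', V') Γ(X', U') := (f'.appLE V' U' hU').hom.toAlgebra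
  letI aRA' : Algebra Γ(S, V) Γ(X', U') :=
    ((g'.appLE U U' eU).hom.comp (f.appLE V U hU).hom).toAlgebra
  haveI tRAA' : IsScalarTower Γ(S, V) Γ(X, U) Γ(X', U') :=
    IsScalarTower.of_algebraMap_eq (fun b => rfl)
  haveI tRR'A' : IsScalarTower Γ(S, V) Γ(S', V') Γ(X', U') :=
    IsScalarTower.of_algebraMap_eq (fun b => appLE_square f g g' f' h e hU hU' eU b)
  haveI hpush : Algebra.IsPushout Γ(S, V) Γ(S', V') Γ(X, U) Γ(X', U') :=
    CommRingCat.isPushout_iff_isPushout.mp hpo.flip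
  -- modules
  letI mAN₂ : Module Γ(X, U) Γ((Scheme.Modules.pullback g').obj M, U') :=
    Module.compHom _ (g'.appLE U U' eU).hom
  haveI tN₂ : IsScalarTower Γ(X, U) Γ(X', U') Γ((Scheme.Modules.pullback g').obj M, U') :=
    IsScalarTower.of_compHom _ _ _
  obtain ⟨ρ₂, hρ₂, h₂⟩ := exists_isBaseChange_pbSec g' M hUa hU'a eU
  letI mAM : Module Γ(X, U) (SecT M (f.app V).hom U hU) :=
    (show Module Γ(X, U) Γ(M, U) from inferInstance)
  haveI tM : IsScalarTower Γ(S, V) Γ(X, U) (SecT M (f.app V).hom U hU) := ⟨fun r a m => by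
    change ((f.appLE V U hU r) * a) • (show Γ(M, U) from m) =
      (f.appLE V U hU r) • (a • (show Γ(M, U) from m))
    rw [mul_smul]⟩
  letI mAN₂' : Module Γ(X, U)
      (SecT ((Scheme.Modules.pullback g').obj M) (f'.app V').hom U' hU') := mAN₂
  letI mA'N₂' : Module Γ(X', U')
      (SecT ((Scheme.Modules.pullback g').obj M) (f'.app V').hom U' hU') :=
    (show Module Γ(X', U') Γ((Scheme.Modules.pullback g').obj M, U') from inferInstance)
  haveI tN₂' : IsScalarTower Γ(X, U) Γ(X', U')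
      (SecT ((Scheme.Modules.pullback g').obj M) (f'.app V').hom U' hU') := tN₂
  haveI tN₂'' : IsScalarTower Γ(S', V') Γ(X', U')
      (SecT ((Scheme.Modules.pullback g').obj M) (f'.app V').hom U' hU') := ⟨fun r a m => by
    change ((f'.appLE V' U' hU' r) * a) • (show Γ((Scheme.Modules.pullback g').obj M, U') from m) =
      (f'.appLE V' U' hU' r) • (a • (show Γ((Scheme.Modules.pullback g').obj M, U') from m))
    rw [mul_smul]⟩
  exact isBaseChange_of_isPushout (R := Γ(S, V)) (R' := Γ(S', V')) (A := Γ(X, U))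
    (A' := Γ(X', U')) (M := SecT M (f.app V).hom U hU)
    (N₂ := SecT ((Scheme.Modules.pullback g').obj M) (f'.app V').hom U' hU') ρ₂ h₂
    (cT f g g' f' h M e hU hU' eU) (fun m => (hρ₂ m).symm)

/-- the preimage of `U` in the fibre product over `V'` -/
def pre (U : X.Opens) : X'.Opens := g' ⁻¹ᵁ U ⊓ f' ⁻¹ᵁ V'

theorem pre_le_right (U : X.Opens) : pre (V' := V') g' f' U ≤ f' ⁻¹ᵁ V' := inf_le_right
theorem pre_le_left (U : X.Opens) : pre (V' := V') g' f' U ≤ g' ⁻¹ᵁ U := inf_le_left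

theorem pre_mono {U₁ U₂ : X.Opens} (h12 : U₁ ≤ U₂) : pre (V' := V') g' f' U₁ ≤ pre (V' := V') g' f' U₂ :=
  inf_le_inf_right _ ((Opens.map g'.base).monotone h12)

theorem pre_cover {ι : Type*} {U : X.Opens} (Uc : ι → X.Opens) (hcover : U ≤ ⨆ i, Uc i) :
    pre (V' := V') g' f' U ≤ ⨆ i, pre (V' := V') g' f' (Uc i) := by
  intro x hx
  obtain ⟨hx1, hx2⟩ := hx
  have h3 : g' x ∈ ⨆ i, Uc i := hcover hx1
  rw [Opens.mem_iSup] at h3
  obtain ⟨i, hi⟩ := h3
  rw [Opens.mem_iSup]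
  exact ⟨i, hi, hx2⟩

include h in
theorem cT_res {U₁ U₂ : X.Opens} {U₁' U₂' : X'.Opens} (hU₁ : U₁ ≤ f ⁻¹ᵁ V) (hU₂ : U₂ ≤ f ⁻¹ᵁ V)
    (hU₁' : U₁' ≤ f' ⁻¹ᵁ V') (hU₂' : U₂' ≤ f' ⁻¹ᵁ V') (eU₁ : U₁' ≤ g' ⁻¹ᵁ U₁)
    (eU₂ : U₂' ≤ g' ⁻¹ᵁ U₂) (h12 : U₂ ≤ U₁) (h12' : U₂' ≤ U₁')
    (m : SecT M (f.app V).hom U₁ hU₁) :
    letI := (g.appLE V V' e).hom.toAlgebra
    cT f g g' f' h M e hU₂ hU₂' eU₂ (resT M (f.app V).hom hU₁ hU₂ h12 m) =
      resT ((Scheme.Modules.pullback g').obj M) (f'.app V').hom hU₁' hU₂' h12'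
        (cT f g g' f' h M e hU₁ hU₁' eU₁ m) :=
  pbSec_res g' M eU₁ eU₂ h12 h12' (show Γ(M, U₁) from m)

include h in
theorem cT_injBC_of_cover {ι : Type u} [Finite ι] {U : X.Opens} (hU : U ≤ f ⁻¹ᵁ V)
    {U' : X'.Opens} (hU' : U' ≤ f' ⁻¹ᵁ V') (eU : U' ≤ g' ⁻¹ᵁ U)
    (Uc : ι → X.Opens) (hUc : ∀ i, Uc i ≤ U) (U'c : ι → X'.Opens) (hU'c : ∀ i, U'c i ≤ U')
    (eUc : ∀ i, U'c i ≤ g' ⁻¹ᵁ (Uc i)) (hcover : U ≤ ⨆ i, Uc i)
    (hflat : (g.appLE V V' e).hom.Flat)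
    (hinj : letI := (g.appLE V V' e).hom.toAlgebra
      ∀ i, InjBC Γ(S', V') (cT f g g' f' h M e ((hUc i).trans hU) ((hU'c i).trans hU') (eUc i))) :
    letI := (g.appLE V V' e).hom.toAlgebra
    InjBC Γ(S', V') (cT f g g' f' h M e hU hU' eU) := by
  letI := (g.appLE V V' e).hom.toAlgebra
  haveI : Module.Flat Γ(S, V) Γ(S', V') := hflat
  haveI : ∀ i, IsScalarTower Γ(S, V) Γ(S', V')
      (SecT ((Scheme.Modules.pullback g').obj M) (f'.app V').hom (U'c i) ((hU'c i).trans hU')) :=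
    fun i => towerRestr _ _ _ _
  haveI tt : IsScalarTower Γ(S, V) Γ(S', V')
      (∀ i, SecT ((Scheme.Modules.pullback g').obj M) (f'.app V').hom (U'c i) ((hU'c i).trans hU')) :=
    ⟨fun r r' x => funext fun i => smul_assoc r r' (x i)⟩
  refine InjBC.of_injective (S := Γ(S', V'))
    (h₁ := cT f g g' f' h M e hU hU' eU)
    (h₂ := LinearMap.pi fun i =>
      (cT f g g' f' h M e ((hUc i).trans hU) ((hU'c i).trans hU') (eUc i)) ∘ₗ LinearMap.proj i)
    (f := cechι M (f.app V).hom hU Uc hUc)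
    (f' := cechι ((Scheme.Modules.pullback g').obj M) (f'.app V').hom hU' U'c hU'c) ?_
    (InjBC.pi _ _ hinj) (cechι_injective M (f.app V).hom hU Uc hUc hcover)
  ext m i
  exact cT_res f g g' f' h M e hU ((hUc i).trans hU) hU' ((hU'c i).trans hU') eU (eUc i)
    (hUc i) (hU'c i) m

include h in
theorem cT_isBaseChange_of_cover {ι : Type u} [Finite ι] {U : X.Opens} (hU : U ≤ f ⁻¹ᵁ V)
    {U' : X'.Opens} (hU' : U' ≤ f' ⁻¹ᵁ V') (eU : U' ≤ g' ⁻¹ᵁ U)
    (Uc : ι → X.Opens) (hUc : ∀ i, Uc i ≤ U) (U'c : ι → X'.Opens) (hU'c : ∀ i, U'c i ≤ U')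
    (eUc : ∀ i, U'c i ≤ g' ⁻¹ᵁ (Uc i)) (hcover : U ≤ ⨆ i, Uc i) (hcover' : U' ≤ ⨆ i, U'c i)
    (hflat : (g.appLE V V' e).hom.Flat)
    (hbc : letI := (g.appLE V V' e).hom.toAlgebra
      ∀ i, IsBaseChange Γ(S', V')
        (cT f g g' f' h M e ((hUc i).trans hU) ((hU'c i).trans hU') (eUc i)))
    (hinj : letI := (g.appLE V V' e).hom.toAlgebra
      ∀ p : ι × ι, InjBC Γ(S', V')
        (cT f g g' f' h M e (inf_le_left.trans ((hUc p.1).trans hU))
          (inf_le_left.trans ((hU'c p.1).trans hU'))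
          (le_inf (inf_le_left.trans (eUc p.1)) (inf_le_right.trans (eUc p.2)) :
            U'c p.1 ⊓ U'c p.2 ≤ g' ⁻¹ᵁ (Uc p.1 ⊓ Uc p.2)))) :
    letI := (g.appLE V V' e).hom.toAlgebra
    IsBaseChange Γ(S', V') (cT f g g' f' h M e hU hU' eU) := by
  letI := (g.appLE V V' e).hom.toAlgebra
  haveI : Module.Flat Γ(S, V) Γ(S', V') := hflat
  haveI tt : IsScalarTower Γ(S, V) Γ(S', V')
      (∀ i, SecT ((Scheme.Modules.pullback g').obj M) (f'.app V').hom (U'c i) ((hU'c i).trans hU')) :=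
    ⟨fun r r' x => funext fun i => smul_assoc r r' (x i)⟩
  haveI tt2 : IsScalarTower Γ(S, V) Γ(S', V')
      (∀ p : ι × ι, SecT ((Scheme.Modules.pullback g').obj M) (f'.app V').hom (U'c p.1 ⊓ U'c p.2)
        (inf_le_left.trans ((hU'c p.1).trans hU'))) :=
    ⟨fun r r' x => funext fun i => smul_assoc r r' (x i)⟩
  refine isBaseChange_of_left_exact' (S := Γ(S', V'))
    (h₁ := cT f g g' f' h M e hU hU' eU)
    (h₂ := LinearMap.pi fun i =>
      (cT f g g' f' h M e ((hUc i).trans hU) ((hU'c i).trans hU') (eUc i)) ∘ₗ LinearMap.proj i)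
    (h₃ := LinearMap.pi fun p : ι × ι =>
      (cT f g g' f' h M e (inf_le_left.trans ((hUc p.1).trans hU))
          (inf_le_left.trans ((hU'c p.1).trans hU'))
          (le_inf (inf_le_left.trans (eUc p.1)) (inf_le_right.trans (eUc p.2)) :
            U'c p.1 ⊓ U'c p.2 ≤ g' ⁻¹ᵁ (Uc p.1 ⊓ Uc p.2))) ∘ₗ LinearMap.proj p)
    (f := cechι M (f.app V).hom hU Uc hUc)
    (g := cechd M (f.app V).hom hU Uc hUc)
    (f' := cechι ((Scheme.Modules.pullback g').obj M) (f'.app V').hom hU' U'c hU'c)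
    (g' := cechd ((Scheme.Modules.pullback g').obj M) (f'.app V').hom hU' U'c hU'c) ?_ ?_
    (IsBaseChange.pi _ hbc) (InjBC.pi _ _ hinj)
    (cech_exact M (f.app V).hom hU Uc hUc hcover)
    (cechι_injective M (f.app V).hom hU Uc hUc hcover)
    (cech_exact ((Scheme.Modules.pullback g').obj M) (f'.app V').hom hU' U'c hU'c hcover')
    (cechι_injective ((Scheme.Modules.pullback g').obj M) (f'.app V').hom hU' U'c hU'c hcover')
  · ext m i
    exact cT_res f g g' f' h M e hU ((hUc i).trans hU) hU' ((hU'c i).trans hU') eU (eUc i)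
      (hUc i) (hU'c i) m
  · ext x p
    have a1 : Uc p.1 ≤ f ⁻¹ᵁ V := (hUc p.1).trans hU
    have a2 : Uc p.2 ≤ f ⁻¹ᵁ V := (hUc p.2).trans hU
    have a12 : Uc p.1 ⊓ Uc p.2 ≤ f ⁻¹ᵁ V := inf_le_left.trans a1
    have b1 : U'c p.1 ≤ f' ⁻¹ᵁ V' := (hU'c p.1).trans hU'
    have b2 : U'c p.2 ≤ f' ⁻¹ᵁ V' := (hU'c p.2).trans hU'
    have b12 : U'c p.1 ⊓ U'c p.2 ≤ f' ⁻¹ᵁ V' := inf_le_left.trans b1
    have e12 : U'c p.1 ⊓ U'c p.2 ≤ g' ⁻¹ᵁ (Uc p.1 ⊓ Uc p.2) :=
      le_inf (inf_le_left.trans (eUc p.1)) (inf_le_right.trans (eUc p.2))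
    change cT f g g' f' h M e a12 b12 e12 (resT M (f.app V).hom a1 a12 inf_le_left (x p.1) -
        resT M (f.app V).hom a2 a12 inf_le_right (x p.2)) =
      resT ((Scheme.Modules.pullback g').obj M) (f'.app V').hom b1 b12 inf_le_left
          (cT f g g' f' h M e a1 b1 (eUc p.1) (x p.1)) -
        resT ((Scheme.Modules.pullback g').obj M) (f'.app V').hom b2 b12 inf_le_right
          (cT f g g' f' h M e a2 b2 (eUc p.2) (x p.2))
    rw [map_sub]
    congr 1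
    · exact cT_res f g g' f' h M e a1 a12 b1 b12 (eUc p.1) e12 inf_le_left inf_le_left (x p.1)
    · exact cT_res f g g' f' h M e a2 a12 b2 b12 (eUc p.2) e12 inf_le_right inf_le_right (x p.2)

end Flat
end Groth.Agent.Lead.BCMap
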