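import Mathlib
import Groth.Prelude.Def_ega3

/-!
# Homology commutes with flat extension of scalars; dimension of an extension of scalars
-/

set_option autoImplicit false

universe u

open CategoryTheory Limits

namespace Groth.Agent.Lead.BCField

section

variable {A B : Type u} [CommRing A] [CommRing B] (φ : A →+* B)

/-- Homology commutes with flat extension of scalars. -/
noncomputable def homologyBcCxIso (hφ : φ.Flat) {ι : Type} {c : ComplexShape ι}
    (P : HomologicalComplex (ModuleCat.{u} A) c) (i : ι) :
    (CohIII.bcCx φ P).homology i ≅ (ModuleCat.extendScalars φ).obj (P.homology i) := by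
  haveI : PreservesFiniteLimits (ModuleCat.extendScalars.{u, u, u} φ) :=
    ModuleCat.preservesFiniteLimits_extendScalars_of_flat hφ
  haveI : (ModuleCat.extendScalars.{u, u, u} φ).IsLeftAdjoint :=
    (ModuleCat.extendRestrictScalarsAdj.{u, u, u} φ).isLeftAdjoint
  haveI : PreservesFiniteColimits (ModuleCat.extendScalars.{u, u, u} φ) := inferInstance
  haveI : (ModuleCat.extendScalars.{u, u, u} φ).PreservesHomology := inferInstance
  exact (P.sc i).mapHomologyIso (ModuleCat.extendScalars.{u, u, u} φ)

end

section

variable {k K : Type u} [Field k] [Field K] (φ : k →+* K)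

theorem finrank_extendScalars (M : ModuleCat.{u} k) :
    Module.finrank K ((ModuleCat.extendScalars φ).obj M) = Module.finrank k M := by
  letI : Algebra k K := φ.toAlgebra
  exact Module.finrank_baseChange (R := K) (S := k) (M' := M)

theorem subsingleton_extendScalars_iff (M : ModuleCat.{u} k) :
    Subsingleton ((ModuleCat.extendScalars φ).obj M) ↔ Subsingleton M := by
  letI : Algebra k K := φ.toAlgebra
  exact Module.FaithfullyFlat.subsingleton_tensorProduct_iff_right k K (N := M)

end

end Groth.Agent.Lead.BCField
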