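import Mathlib
import Groth.Agent.Helper1.BCFlatCoh2
import Groth.Agent.Lead.BCFieldA

/-!
# Flat base change for cohomology over an affine base, as an isomorphism of modules
-/

set_option autoImplicit false

universe u

open CategoryTheory Limits MonoidalCategory HomologicalComplex AlgebraicGeometry TensorProduct
open Groth.Agent.Helper1.FlatCx Groth.Agent.Helper1.ACech Groth.Agent.Helper1.Bridge
open Groth.Agent.Helper1.NatCech Groth.Agent.Helper1.BCFlatCoh Groth.Agent.Helper1

namespace Groth.Agent.Lead.BCField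

/-- Flat base change: `H^n(X', g'^*F) ≅ A' ⊗_A H^n(X, F)` as `A'`-modules. -/
theorem nonempty_iso_extendScalars (A A' : Type u) [CommRing A] [CommRing A'] [Algebra A A']
    [Module.Flat A A']
    (X X' : Scheme.{u}) [X.Over (Spec (CommRingCat.of A))] [X'.Over (Spec (CommRingCat.of A'))]
    [QuasiCompact (X ↘ Spec (CommRingCat.of A))] [IsSeparated (X ↘ Spec (CommRingCat.of A))]
    (g' : X' ⟶ X)
    (hsq : IsPullback g' (X' ↘ Spec (CommRingCat.of A')) (X ↘ Spec (CommRingCat.of A))
      (Spec.map (CommRingCat.ofHom (algebraMap A A'))))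
    (F : X.Modules) [F.IsQuasicoherent] (n : ℕ) :
    Nonempty (ModuleCat.of A' (Coh.HH X' ((Scheme.Modules.pullback g').obj F) n) ≅
      (ModuleCat.extendScalars (algebraMap A A')).obj (ModuleCat.of A (Coh.HH X F n))) := by
  classical
  haveI : ((Scheme.Modules.pullback g').obj F).IsQuasicoherent :=
    Groth.Agent.Lead.StalkPull.isQuasicoherent_pullbackObj _ _
  obtain ⟨t, U, hU, hcov⟩ := exists_cover A (X := X)
  have hd := affine_inf A (X := X)
  haveI : IsAffineHom g' := CechBC.isAffineHom_of_isPullback A A' g' hsq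
  haveI : IsSeparated (X' ↘ Spec (CommRingCat.of A')) :=
    MorphismProperty.of_isPullback (P := @IsSeparated) hsq inferInstance
  have hU' : ∀ k, IsAffineOpen (CechBC.Ut g' U k) := fun k => (hU k).preimage g'
  have hd' := affine_inf A' (X := X')
  have hcov' : ⨆ k, CechBC.Ut g' U k = ⊤ := by
    rw [← Scheme.Hom.preimage_iSup, hcov]
    rfl
  obtain ⟨θ⟩ := CechBC.nonempty_PZ_iso A A' g' hsq U hU hd F
  obtain ⟨e1⟩ := nonempty_linearEquiv_PZ A' (CechBC.Ut g' U) hU' hd' hcov'
    ((Scheme.Modules.pullback g').obj F) n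
  obtain ⟨e3⟩ := nonempty_linearEquiv_PZ A U hU hd hcov F n
  let e4 := HomologicalComplex.homologyMapIso θ (-(n : ℤ))
  let e2 := homologyBcCxIso (algebraMap A A') (RingHom.flat_algebraMap_iff.mpr inferInstance)
    (PZ A U F) (-(n : ℤ))
  exact ⟨e1.toModuleIso.symm ≪≫ e4.symm ≪≫ e2 ≪≫
    (ModuleCat.extendScalars (algebraMap A A')).mapIso e3.toModuleIso⟩

section Field

variable (k k' : Type u) [Field k] [Field k'] [Algebra k k']
  (X X' : Scheme.{u}) [X.Over (Spec (CommRingCat.of k))] [X'.Over (Spec (CommRingCat.of k'))]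
  [QuasiCompact (X ↘ Spec (CommRingCat.of k))] [IsSeparated (X ↘ Spec (CommRingCat.of k))]
  (g' : X' ⟶ X)
  (hsq : IsPullback g' (X' ↘ Spec (CommRingCat.of k')) (X ↘ Spec (CommRingCat.of k))
    (Spec.map (CommRingCat.ofHom (algebraMap k k'))))
  (F : X.Modules) [F.IsQuasicoherent] (n : ℕ)

include hsq in
theorem finrank_HH_baseChange :
    Module.finrank k' (Coh.HH X' ((Scheme.Modules.pullback g').obj F) n) =
      Module.finrank k (Coh.HH X F n) := by
  obtain ⟨e⟩ := nonempty_iso_extendScalars k k' X X' g' hsq F n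
  rw [← finrank_extendScalars (algebraMap k k') (ModuleCat.of k (Coh.HH X F n))]
  exact e.toLinearEquiv.finrank_eq

include hsq in
theorem subsingleton_HH_baseChange_iff :
    Subsingleton (Coh.HH X' ((Scheme.Modules.pullback g').obj F) n) ↔
      Subsingleton (Coh.HH X F n) := by
  obtain ⟨e⟩ := nonempty_iso_extendScalars k k' X X' g' hsq F n
  rw [← subsingleton_extendScalars_iff (algebraMap k k') (ModuleCat.of k (Coh.HH X F n))]
  exact e.toLinearEquiv.toEquiv.subsingleton_congr

end Field

end Groth.Agent.Lead.BCField
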