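import Mathlib
import Groth.Agent.Lead.ParaFLib
import Groth.Prelude.Def_FEt

set_option autoImplicit false
universe u
open CategoryTheory CategoryTheory.Limits AlgebraicGeometry TopologicalSpace Opposite

namespace Groth.Agent.Lead.ParaFLib2
open Groth.Agent.Lead.ParaFLib

/-- restriction along the isomorphism `⊤.ι` reflects triviality -/
theorem iso_unit_of_restrict_top {Z : Scheme.{u}} (L : Z.Modules)
    (e : L.restrict (⊤ : Z.Opens).ι ≅ Coh.structureModule (↑(⊤ : Z.Opens))) :
    Nonempty (L ≅ Coh.structureModule Z) := by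
  let t : (↑(⊤ : Z.Opens) : Scheme.{u}) ⟶ Z := (⊤ : Z.Opens).ι
  let s : Z ⟶ ↑(⊤ : Z.Opens) := Z.topIso.inv
  have hst : s ≫ t = 𝟙 Z := Z.toIso_inv_ι
  exact ⟨(Scheme.Modules.restrictFunctorId.symm.app L) ≪≫
    ((Scheme.Modules.restrictFunctorCongr hst.symm).app L) ≪≫
    ((Scheme.Modules.restrictFunctorComp s t).app L) ≪≫
    ((Scheme.Modules.restrictFunctor s).mapIso e) ≪≫
    Scheme.Modules.restrictUnitIso s⟩

theorem picTrivial_of_local {Z : Scheme.{u}} (y : Z) (hy : ∀ U : Z.Opens, y ∈ U → U = ⊤) :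
    ParaF.PicTrivial Z := by
  intro L hL
  obtain ⟨U, hyU, ⟨e⟩⟩ := hL y
  obtain rfl := hy U hyU
  exact iso_unit_of_restrict_top L e

theorem isInvertible_pushforward_of_eq {X : Scheme.{u}} (W V : X.Opens) (h : W ≤ V) (e : W = V)
    (L : (W : Scheme.{u}).Modules) (hL : PicF.IsInvertible L) :
    PicF.IsInvertible ((Scheme.Modules.pushforward (X.homOfLE h)).obj L) := by
  subst e
  have h1 : X.homOfLE h = 𝟙 _ := X.homOfLE_rfl W
  exact isInvertible_of_iso (((Scheme.Modules.pushforwardId _).symm ≪≫
    Scheme.Modules.pushforwardCongr h1.symm).app L) hL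

section Local
variable (A : Type u) [CommRing A] [IsLocalRing A]

/-- the closed point as a closed subset -/
abbrev cl : Closeds (Spec (CommRingCat.of A)) :=
  ⟨{IsLocalRing.closedPoint A}, IsLocalRing.isClosed_singleton_closedPoint A⟩

theorem compl_eq : (cl A).compl = FEt.puncturedSpec A := rfl

theorem eq_top_of_mem (V : (Spec (CommRingCat.of A)).Opens)
    (h : IsLocalRing.closedPoint A ∈ V) : V = ⊤ :=
  IsLocalRing.closed_point_mem_iff.mp h

theorem inf_compl_eq_of_not_mem (V : (Spec (CommRingCat.of A)).Opens)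
    (h : IsLocalRing.closedPoint A ∉ V) : V ⊓ (cl A).compl = V := by
  apply le_antisymm inf_le_left
  intro x hx
  refine ⟨hx, ?_⟩
  intro hx'
  have : x = IsLocalRing.closedPoint A := hx'
  exact h (this ▸ hx)

theorem top_inf_compl : (⊤ : (Spec (CommRingCat.of A)).Opens) ⊓ (cl A).compl = FEt.puncturedSpec A := by
  rw [top_inf_eq, compl_eq]

/-- all restriction maps are bijective once the one to the punctured spectrum is -/
theorem bij_all
    (h : Function.Bijective ((Spec (CommRingCat.of A)).presheaf.map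
          (homOfLE (le_top : FEt.puncturedSpec A ≤ ⊤)).op))
    (V : (Spec (CommRingCat.of A)).Opens) :
    Function.Bijective ((Spec (CommRingCat.of A)).presheaf.map
      (homOfLE (inf_le_left : V ⊓ (cl A).compl ≤ V)).op) := by
  by_cases hV : IsLocalRing.closedPoint A ∈ V
  · obtain rfl := eq_top_of_mem A V hV
    exact (ExtFree.bij_congrO rfl (top_inf_compl A) _ _).mpr h
  · have e2 := inf_compl_eq_of_not_mem A V hV
    refine (ExtFree.bij_congrO rfl e2 _ le_rfl).mpr ?_
    have : (homOfLE (le_refl V)).op = 𝟙 (op V) := rfl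
    rw [this, CategoryTheory.Functor.map_id]
    exact Function.bijective_id

theorem pushforward_invertible_all
    (h : Function.Bijective ((Spec (CommRingCat.of A)).presheaf.map
          (homOfLE (le_top : FEt.puncturedSpec A ≤ ⊤)).op))
    (hPic : ParaF.PicTrivial (FEt.puncturedSpec A : Scheme.{u}))
    (V : (Spec (CommRingCat.of A)).Opens)
    (L : ((V ⊓ (cl A).compl : (Spec (CommRingCat.of A)).Opens) : Scheme.{u}).Modules)
    (hL : PicF.IsInvertible L) :
    PicF.IsInvertible ((Scheme.Modules.pushforward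
      ((Spec (CommRingCat.of A)).homOfLE (inf_le_left : V ⊓ (cl A).compl ≤ V))).obj L) := by
  by_cases hV : IsLocalRing.closedPoint A ∈ V
  · obtain rfl := eq_top_of_mem A V hV
    have hPic' : ParaF.PicTrivial
        (((⊤ : (Spec (CommRingCat.of A)).Opens) ⊓ (cl A).compl :
          (Spec (CommRingCat.of A)).Opens) : Scheme.{u}) := (top_inf_compl A).symm ▸ hPic
    obtain ⟨e⟩ := hPic' L hL
    let j := (Spec (CommRingCat.of A)).homOfLE
      (inf_le_left : (⊤ : (Spec (CommRingCat.of A)).Opens) ⊓ (cl A).compl ≤ ⊤)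
    haveI := isIso_restrict_unit j (star_of_bij (cl A).compl (bij_all A h) ⊤)
      (Coh.structureModule _) (isFinLocFree_of_isInvertible _ isInvertible_structureModule)
    exact isInvertible_of_iso
      (asIso ((Scheme.Modules.restrictAdjunction j).unit.app (Coh.structureModule _)) ≪≫
        (Scheme.Modules.pushforward j).mapIso (Scheme.Modules.restrictUnitIso j) ≪≫
        (Scheme.Modules.pushforward j).mapIso e.symm) isInvertible_structureModule
  · exact isInvertible_pushforward_of_eq _ _ _ (inf_compl_eq_of_not_mem A V hV) L hL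

/-- S2824 -/
theorem main :
    ParaF.IsParafactorialLocalRing A ↔
      (Function.Bijective ((Spec (CommRingCat.of A)).presheaf.map
          (homOfLE (le_top : FEt.puncturedSpec A ≤ ⊤)).op) ∧
        ParaF.PicTrivial (FEt.puncturedSpec A : Scheme.{u})) := by
  unfold ParaF.IsParafactorialLocalRing
  rw [ParaFLib.main]
  constructor
  · rintro ⟨h1, h2⟩
    have hb : Function.Bijective ((Spec (CommRingCat.of A)).presheaf.map
          (homOfLE (le_top : FEt.puncturedSpec A ≤ ⊤)).op) :=
      (ExtFree.bij_congrO rfl (top_inf_compl A) _ _).mp (h1 ⊤)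
    refine ⟨hb, ?_⟩
    have hP : ParaF.IsParafactorialPair (Spec (CommRingCat.of A)) (cl A) :=
      (ParaFLib.main _ _).mpr ⟨h1, h2⟩
    have hPic' : ParaF.PicTrivial
        (((⊤ : (Spec (CommRingCat.of A)).Opens) ⊓ (cl A).compl :
          (Spec (CommRingCat.of A)).Opens) : Scheme.{u}) := by
      intro L₀ hL₀
      obtain ⟨L1, hL1, ⟨e⟩⟩ := (hP ⊤).2 L₀ hL₀
      have hloc : ParaF.PicTrivial ((⊤ : (Spec (CommRingCat.of A)).Opens) : Scheme.{u}) := by
        refine picTrivial_of_local (Z := ((⊤ : (Spec (CommRingCat.of A)).Opens) : Scheme.{u}))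
          ⟨IsLocalRing.closedPoint A, trivial⟩ ?_
        intro U hyU
        rw [eq_top_iff]
        intro z _
        have hz : z ⤳ (⟨IsLocalRing.closedPoint A, trivial⟩ :
            ((⊤ : (Spec (CommRingCat.of A)).Opens) : Scheme.{u})) := by
          rw [← (⊤ : (Spec (CommRingCat.of A)).Opens).ι.isOpenEmbedding.isInducing.specializes_iff]
          exact IsLocalRing.specializes_closedPoint _
        exact hz.mem_open U.2 hyU
      obtain ⟨e1⟩ := hloc L1 hL1
      let j := (Spec (CommRingCat.of A)).homOfLE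
        (inf_le_left : (⊤ : (Spec (CommRingCat.of A)).Opens) ⊓ (cl A).compl ≤ ⊤)
      exact ⟨e.symm ≪≫ (Scheme.Modules.restrictFunctor j).mapIso e1 ≪≫
        Scheme.Modules.restrictUnitIso j⟩
    exact (top_inf_compl A) ▸ hPic'
  · rintro ⟨hb, hPic⟩
    exact ⟨bij_all A hb, pushforward_invertible_all A hb hPic⟩

end Local

end Groth.Agent.Lead.ParaFLib2
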