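import Groth.Agent.Lead.Hartogs2
import Groth.Agent.Helper2.RegCM
import Groth.Agent.Helper2.DepthCM
import Groth.Prelude.Def_Pi1
import Mathlib
set_option autoImplicit false
universe u
open AlgebraicGeometry CategoryTheory CategoryTheory.Limits IsLocalRing

namespace Groth.Agent.Lead.PuncSec

lemma depth_eq_of_ringEquiv {R S : Type u} [CommRing R] [CommRing S] [IsLocalRing R]
    [IsLocalRing S] [IsNoetherianRing R] [IsNoetherianRing S] (e : R ≃+* S) :
    LocCoh.depth R R = LocCoh.depth S S := by
  letI : Algebra R S := e.toRingHom.toAlgebra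
  haveI : IsLocalHom (algebraMap R S) := by
    show IsLocalHom e.toRingHom
    exact IsLocalHom.of_surjective _ e.surjective
  have hbij : Function.Bijective (Algebra.linearMap R S) := e.bijective
  haveI : Module.Finite R S := Module.Finite.of_surjective (Algebra.linearMap R S) hbij.2
  rw [← Groth.Agent.Helper2.RegCM.depth_eq_of_isLocalHom R S S]
  exact Groth.Agent.Helper2.DepthCM.idealDepth_congr (maximalIdeal R)
    (LinearEquiv.ofBijective (Algebra.linearMap R S) hbij)

theorem main (A B : Type u) [CommRing A] [IsNoetherianRing A] [IsLocalRing A] [CommRing B] [Algebra A B]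
    [Module.Finite A B]
    (h : ∀ (m : Ideal B) (_ : m.IsMaximal), (2 : ℕ∞) ≤ LocCoh.depth (Localization.AtPrime m) (Localization.AtPrime m)) :
    IsIso ((Spec (CommRingCat.of B)).presheaf.map (homOfLE (le_top :
      Spec.map (CommRingCat.ofHom (algebraMap A B)) ⁻¹ᵁ FEt.puncturedSpec A ≤ ⊤)).op) := by
  haveI : IsNoetherianRing B := IsNoetherianRing.of_finite A B
  set U := Spec.map (CommRingCat.ofHom (algebraMap A B)) ⁻¹ᵁ FEt.puncturedSpec A with hUdef
  have hU : ∀ x : (Spec (CommRingCat.of B)), x ∉ U → (2 : ℕ∞) ≤
      LocCoh.depth ((Spec (CommRingCat.of B)).presheaf.stalk x) ((Spec (CommRingCat.of B)).presheaf.stalk x) := by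
    intro x hx
    have hx1 : (Spec.map (CommRingCat.ofHom (algebraMap A B))).base x = IsLocalRing.closedPoint A := by
      by_contra hne
      exact hx hne
    have hcomap : x.asIdeal.comap (algebraMap A B) = maximalIdeal A := by
      have := congrArg PrimeSpectrum.asIdeal hx1
      exact this
    haveI : Algebra.IsIntegral A B := Algebra.IsIntegral.of_finite A B
    have hmax : x.asIdeal.IsMaximal := by
      apply Ideal.isMaximal_of_isIntegral_of_isMaximal_comap (R := A) x.asIdeal
      rw [hcomap]; infer_instance
    have h2 := h x.asIdeal hmax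
    let e : Localization.AtPrime x.asIdeal ≃+* ((Spec (CommRingCat.of B)).presheaf.stalk x) :=
      (AlgebraicGeometry.StructureSheaf.stalkIso B x).toRingEquiv
    rw [← depth_eq_of_ringEquiv e]
    exact h2
  have hb := Hartogs2.bijective_res U hU ⊤
  have e2 : (⊤ : (Spec (CommRingCat.of B)).Opens) ⊓ U = U := top_inf_eq U
  have h1 := (ExtFree.bij_congrO rfl e2 inf_le_left le_top).mp hb
  exact (ConcreteCategory.isIso_iff_bijective _).mpr h1

end Groth.Agent.Lead.PuncSec
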