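import Groth.Agent.Lead.PushInvB
import Groth.Agent.Lead.PuncSec
import Groth.Agent.Lead.ParaFLib2

set_option autoImplicit false
open CategoryTheory CategoryTheory.Limits AlgebraicGeometry Opposite TopologicalSpace
universe u

namespace Groth.Agent.Lead.PicCompl
open Scheme.Modules

/-- pullback of the structure sheaf is the structure sheaf -/
noncomputable def pullbackUnitIso {X Y : Scheme.{u}} (f : X ⟶ Y) :
    (Scheme.Modules.pullback f).obj (Coh.structureModule Y) ≅ Coh.structureModule X := by
  have := Groth.Agent.Helper8.TildeBC.opensMap_final f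
  have h1 : IsIso (SheafOfModules.pullbackObjUnitToUnit f.toRingCatSheafHom) := inferInstance
  exact @asIso _ _ _ _ (SheafOfModules.pullbackObjUnitToUnit f.toRingCatSheafHom) h1

theorem picInj_iso_comp {Y Y' Y'' : Scheme.{u}} (i : Y'' ⟶ Y') [IsIso i] (h : Y' ⟶ Y)
    (H : Formal2.PicPullbackInjective h) : Formal2.PicPullbackInjective (i ≫ h) := by
  rintro L hL ⟨e⟩
  apply H L hL
  have hi : inv i ≫ i = 𝟙 Y' := IsIso.inv_hom_id i
  exact ⟨((pullbackId Y').symm.app _) ≪≫ ((pullbackCongr hi.symm).app _) ≪≫
    ((pullbackComp (inv i) i).symm.app _) ≪≫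
    ((Scheme.Modules.pullback (inv i)).mapIso ((pullbackComp i h).app L)) ≪≫
    ((Scheme.Modules.pullback (inv i)).mapIso e) ≪≫ pullbackUnitIso (inv i)⟩

section Local
variable (A : Type u) [CommRing A] [IsNoetherianRing A] [IsLocalRing A]

theorem hf_punctured (hdepth : (2 : ℕ∞) ≤ LocCoh.depth A A)
    (V : (Spec (CommRingCat.of A)).Opens) :
    Function.Bijective ((FEt.puncturedSpec A).ι.app V) := by
  set U := FEt.puncturedSpec A with hUdef
  have hU : ∀ x : (Spec (CommRingCat.of A)), x ∉ U → (2 : ℕ∞) ≤
      LocCoh.depth ((Spec (CommRingCat.of A)).presheaf.stalk x)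
        ((Spec (CommRingCat.of A)).presheaf.stalk x) := by
    intro x hx
    have hx1 : x = IsLocalRing.closedPoint A := by
      by_contra hne
      exact hx hne
    subst hx1
    let e : Localization.AtPrime (IsLocalRing.closedPoint A).asIdeal ≃+*
        ((Spec (CommRingCat.of A)).presheaf.stalk (IsLocalRing.closedPoint A)) :=
      (AlgebraicGeometry.StructureSheaf.stalkIso A (IsLocalRing.closedPoint A)).toRingEquiv
    have hunits : (IsLocalRing.closedPoint A).asIdeal.primeCompl ≤ IsUnit.submonoid A := by
      intro y hy0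
      show IsUnit y
      by_contra hy
      exact hy0 ((IsLocalRing.mem_maximalIdeal _).mpr hy)
    let e' : A ≃+* Localization.AtPrime (IsLocalRing.closedPoint A).asIdeal :=
      (IsLocalization.atUnits A (IsLocalRing.closedPoint A).asIdeal.primeCompl hunits).toRingEquiv
    have : IsNoetherianRing (Localization.AtPrime (IsLocalRing.closedPoint A).asIdeal) :=
      IsLocalization.isNoetherianRing (IsLocalRing.closedPoint A).asIdeal.primeCompl _ inferInstance
    have : IsNoetherianRing ((Spec (CommRingCat.of A)).presheaf.stalk (IsLocalRing.closedPoint A)) :=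
      isNoetherianRing_of_ringEquiv _ e
    rw [← PuncSec.depth_eq_of_ringEquiv e, ← PuncSec.depth_eq_of_ringEquiv e']
    exact hdepth
  have hb := Hartogs2.bijective_res U hU V
  rw [Scheme.Opens.ι_app]
  have e2 : U.ι ''ᵁ U.ι ⁻¹ᵁ V = V ⊓ U := by
    rw [Scheme.Hom.image_preimage_eq_opensRange_inf, Scheme.Opens.opensRange_ι, inf_comm]
  exact (ExtFree.bij_congrO rfl e2 _ inf_le_left).mpr hb

omit [IsNoetherianRing A] in
theorem picInj_spec_local {Y' : Scheme.{u}} (g : Y' ⟶ Spec (CommRingCat.of A)) :
    Formal2.PicPullbackInjective g := by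
  intro L hL _
  exact Groth.Agent.Lead.ParaFLib2.picTrivial_of_local (IsLocalRing.closedPoint A)
    (Groth.Agent.Lead.ParaFLib2.eq_top_of_mem A) L hL

/-- S0813 -/
theorem main (hdepth : (2 : ℕ∞) ≤ LocCoh.depth A A) :
    Formal2.PicPullbackInjective
      (Spec.map (CommRingCat.ofHom (algebraMap A (AdicCompletion (IsLocalRing.maximalIdeal A) A))) ∣_
        FEt.puncturedSpec A) := by
  set g := Spec.map (CommRingCat.ofHom (algebraMap A (AdicCompletion (IsLocalRing.maximalIdeal A) A)))
  set U := FEt.puncturedSpec A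
  have hff : Module.FaithfullyFlat A (AdicCompletion (IsLocalRing.maximalIdeal A) A) :=
    Module.FaithfullyFlat.of_flat_of_isLocalHom
  have hfs : Flat g ∧ Surjective g := by
    rw [flat_and_surjective_SpecMap_iff]
    exact hff
  have := hfs.1
  have := hfs.2
  have key := Groth.Agent.Lead.PushInv.picInj U.ι (hf_punctured A hdepth) g (picInj_spec_local A g)
  have e1 : g ∣_ U = ((pullbackRestrictIsoRestrict g U).inv ≫ (pullbackSymmetry g U.ι).hom) ≫
      pullback.fst U.ι g := by
    rw [Category.assoc, pullbackSymmetry_hom_comp_fst]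
    rfl
  rw [e1]
  exact picInj_iso_comp _ _ key

end Local

end Groth.Agent.Lead.PicCompl
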