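import Mathlib
import Groth.Prelude.Def_Curv2
import Groth.Prelude.Def_Canon
import Groth.Prelude.Def_FlatMod2
import Groth.Agent.Lead.BCFieldB
import Groth.Agent.Lead.PicComplA
import Groth.Agent.Helper4.FinLocFree6

/-!
# Euler characteristic and degree are invariant under field extension
-/

set_option autoImplicit false

universe u

open CategoryTheory Limits AlgebraicGeometry

namespace Groth.Agent.Lead.BCField

section general

variable (A : Type u) [CommRing A] {X : Scheme.{u}} [X.Over (Spec (CommRingCat.of A))]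

/-- an isomorphism of modules induces a linear equivalence on cohomology -/
noncomputable def HHlinEquiv {F G : X.Modules} (φ : F ≅ G) (n : ℕ) :
    Coh.HH X F n ≃ₗ[A] Coh.HH X G n :=
  LinearEquiv.ofLinear (Canon.HHlin A φ.hom n) (Canon.HHlin A φ.inv n)
    (by
      ext x
      show Sheaf.H.map ((SheafOfModules.toSheaf X.ringCatSheaf).map φ.hom) n
        (Sheaf.H.map ((SheafOfModules.toSheaf X.ringCatSheaf).map φ.inv) n x) = x
      rw [← Sheaf.H.map_comp_apply]
      have h := ((SheafOfModules.toSheaf X.ringCatSheaf).mapIso φ).inv_hom_id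
      show Sheaf.H.map (((SheafOfModules.toSheaf X.ringCatSheaf).mapIso φ).inv ≫
        ((SheafOfModules.toSheaf X.ringCatSheaf).mapIso φ).hom) n x = x
      rw [h, Sheaf.H.map_id_apply])
    (by
      ext x
      show Sheaf.H.map ((SheafOfModules.toSheaf X.ringCatSheaf).map φ.inv) n
        (Sheaf.H.map ((SheafOfModules.toSheaf X.ringCatSheaf).map φ.hom) n x) = x
      rw [← Sheaf.H.map_comp_apply]
      have h := ((SheafOfModules.toSheaf X.ringCatSheaf).mapIso φ).hom_inv_id
      show Sheaf.H.map (((SheafOfModules.toSheaf X.ringCatSheaf).mapIso φ).hom ≫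
        ((SheafOfModules.toSheaf X.ringCatSheaf).mapIso φ).inv) n x = x
      rw [h, Sheaf.H.map_id_apply])

end general

theorem euler_congr (k : Type u) [Field k] (X : Scheme.{u}) [X.Over (Spec (CommRingCat.of k))]
    {F G : X.Modules} (φ : F ≅ G) : Curv2.euler k X F = Curv2.euler k X G := by
  unfold Curv2.euler
  refine finsum_congr (fun i => ?_)
  rw [(HHlinEquiv k φ i).finrank_eq]

theorem finrank_HH_structure_baseChange (k k' : Type u) [Field k] [Field k'] [Algebra k k']
    (X X' : Scheme.{u}) [X.Over (Spec (CommRingCat.of k))] [X'.Over (Spec (CommRingCat.of k'))]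
    [QuasiCompact (X ↘ Spec (CommRingCat.of k))] [IsSeparated (X ↘ Spec (CommRingCat.of k))]
    (g' : X' ⟶ X)
    (hsq : IsPullback g' (X' ↘ Spec (CommRingCat.of k')) (X ↘ Spec (CommRingCat.of k))
      (Spec.map (CommRingCat.ofHom (algebraMap k k')))) (i : ℕ) :
    Module.finrank k' (Coh.HH X' (Coh.structureModule X') i) =
      Module.finrank k (Coh.HH X (Coh.structureModule X) i) := by
  haveI : (Coh.structureModule X).IsQuasicoherent :=
    Groth.Agent.Helper4.FinLocFree4.isQuasicoherent_of_isFinLocFree _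
      (Groth.Agent.Helper4.FinLocFree6.isFinLocFree_unit (X := X))
  rw [← finrank_HH_baseChange k k' X X' g' hsq (Coh.structureModule X) i]
  exact (HHlinEquiv k' (Groth.Agent.Lead.PicCompl.pullbackUnitIso g') i).finrank_eq.symm

section

variable (k : Type u) [Field k] (X : Scheme.{u}) [X.Over (Spec (CommRingCat.of k))]
  [QuasiCompact (X ↘ Spec (CommRingCat.of k))] [IsSeparated (X ↘ Spec (CommRingCat.of k))]
  (k' : Type u) [Field k'] [Algebra k k']

theorem euler_baseChange (F : X.Modules) [F.IsQuasicoherent] :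
    @Curv2.euler k' _ (Curv2.bc k X k') ⟨Curv2.bcSnd k X k'⟩
        ((Scheme.Modules.pullback (Curv2.bcFst k X k')).obj F) = Curv2.euler k X F := by
  letI : (Curv2.bc k X k').Over (Spec (CommRingCat.of k')) := ⟨Curv2.bcSnd k X k'⟩
  unfold Curv2.euler
  refine finsum_congr (fun i => ?_)
  rw [finrank_HH_baseChange k k' X (Curv2.bc k X k') (Curv2.bcFst k X k')
    (IsPullback.of_hasPullback _ _) F i]

theorem deg_baseChange (n : ℕ) (E : X.Modules) (hE : FlatMod.IsFinLocFreeOfRank n E) :
    @Curv2.deg k' _ (Curv2.bc k X k') ⟨Curv2.bcSnd k X k'⟩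
        ((Scheme.Modules.pullback (Curv2.bcFst k X k')).obj E) n = Curv2.deg k X E n := by
  letI : (Curv2.bc k X k').Over (Spec (CommRingCat.of k')) := ⟨Curv2.bcSnd k X k'⟩
  have hE' : FlatMod.IsFinLocFree E := fun x => by
    obtain ⟨U, hx, e⟩ := hE x
    exact ⟨U, n, hx, e⟩
  haveI : E.IsQuasicoherent :=
    Groth.Agent.Helper4.FinLocFree4.isQuasicoherent_of_isFinLocFree E hE'
  haveI : (Coh.structureModule X).IsQuasicoherent :=
    Groth.Agent.Helper4.FinLocFree4.isQuasicoherent_of_isFinLocFree _
      (Groth.Agent.Helper4.FinLocFree6.isFinLocFree_unit (X := X))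
  unfold Curv2.deg
  rw [euler_baseChange k X k' E, ← euler_baseChange k X k' (Coh.structureModule X),
    euler_congr k' (Curv2.bc k X k')
      (Groth.Agent.Lead.PicCompl.pullbackUnitIso (Curv2.bcFst k X k'))]

end

end Groth.Agent.Lead.BCField
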