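import Mathlib
import Groth.Prelude.Def_FGA
import Groth.Prelude.Def_PicGrp
import Groth.Agent.Lead.BCFieldC
import Groth.Agent.Lead.QcohTensor
import Groth.Agent.Lead.ParaFLib
import Groth.Agent.Helper9.PullMon4

set_option autoImplicit false
open CategoryTheory CategoryTheory.Limits AlgebraicGeometry Opposite TopologicalSpace
universe u

namespace Groth.Agent.Lead.IntNumBC
open Scheme.Modules

section Pull
variable {X' X : Scheme.{u}} (f : X' ⟶ X)

/-- pullback commutes with the tensor product (all modules) -/
noncomputable def pullTensorIso (A B : X.Modules) :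
    (Scheme.Modules.pullback f).obj (CohB1.tensorMod A B) ≅
      CohB1.tensorMod ((Scheme.Modules.pullback f).obj A) ((Scheme.Modules.pullback f).obj B) :=
  @asIso _ _ _ _ (Groth.Agent.Helper4.PullTensor.θ f A B)
    (Groth.Agent.Helper9.PullMon4.isIso_θ' f A B)

/-- pullback commutes with `FGA.tensorList` -/
noncomputable def pullTensorListIso : (l : List X.Modules) →
    ((Scheme.Modules.pullback f).obj (FGA.tensorList l) ≅
      FGA.tensorList (l.map (Scheme.Modules.pullback f).obj))
  | [] => Groth.Agent.Lead.PicCompl.pullbackUnitIso f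
  | M :: l => pullTensorIso f M (FGA.tensorList l) ≪≫
      PicGrp.tensorModIso (Iso.refl _) (pullTensorListIso l)

end Pull

section Qcoh
variable {X : Scheme.{u}}

theorem isQuasicoherent_of_isInvertible (L : X.Modules) (hL : PicF.IsInvertible L) :
    L.IsQuasicoherent :=
  Groth.Agent.Helper4.FinLocFree4.isQuasicoherent_of_isFinLocFree _
    (Groth.Agent.Lead.ParaFLib.isFinLocFree_of_isInvertible L hL)

theorem isQuasicoherent_tensorList (l : List X.Modules) (hl : ∀ M ∈ l, M.IsQuasicoherent) :
    (FGA.tensorList l).IsQuasicoherent := by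
  induction l with
  | nil =>
    exact Groth.Agent.Helper4.FinLocFree4.isQuasicoherent_of_isFinLocFree _
      (Groth.Agent.Helper4.FinLocFree6.isFinLocFree_unit (X := X))
  | cons M l ih =>
    haveI : M.IsQuasicoherent := hl M (List.mem_cons_self)
    haveI : (FGA.tensorList l).IsQuasicoherent :=
      ih (fun M' hM' => hl M' (List.mem_cons_of_mem _ hM'))
    exact Groth.Agent.Lead.QcohTensor.isQuasicoherent_tensorMod M (FGA.tensorList l)

end Qcoh

section Euler

theorem eulerCharLE_congr (k : Type u) [Field k] (X : Scheme.{u}) [X.Over (Spec (CommRingCat.of k))]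
    {F G : X.Modules} (φ : F ≅ G) (d : ℕ) : FGA.eulerCharLE k X F d = FGA.eulerCharLE k X G d := by
  unfold FGA.eulerCharLE
  refine Finset.sum_congr rfl (fun i _ => ?_)
  rw [(Groth.Agent.Lead.BCField.HHlinEquiv k φ i).finrank_eq]

variable (k K : Type u) [Field k] [Field K] [Algebra k K] (X : Scheme.{u})
  [X.Over (Spec (CommRingCat.of k))]
  [QuasiCompact (X ↘ Spec (CommRingCat.of k))] [IsSeparated (X ↘ Spec (CommRingCat.of k))]

theorem eulerCharLE_baseChange (F : X.Modules) [F.IsQuasicoherent] (d : ℕ) :
    @FGA.eulerCharLE K _ (pullback (X ↘ Spec (CommRingCat.of k))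
          (Spec.map (CommRingCat.ofHom (algebraMap k K)))) ⟨pullback.snd _ _⟩
        ((Scheme.Modules.pullback (pullback.fst (X ↘ Spec (CommRingCat.of k))
          (Spec.map (CommRingCat.ofHom (algebraMap k K))))).obj F) d =
      FGA.eulerCharLE k X F d := by
  letI : (pullback (X ↘ Spec (CommRingCat.of k))
      (Spec.map (CommRingCat.ofHom (algebraMap k K)))).Over (Spec (CommRingCat.of K)) :=
    ⟨pullback.snd _ _⟩
  unfold FGA.eulerCharLE
  refine Finset.sum_congr rfl (fun i _ => ?_)
  rw [Groth.Agent.Lead.BCField.finrank_HH_baseChange k K X _ (pullback.fst (X ↘ Spec (CommRingCat.of k))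
      (Spec.map (CommRingCat.ofHom (algebraMap k K)))) (IsPullback.of_hasPullback _ _) F i]

/-- S11747 -/
theorem main (d : ℕ) {r : ℕ} (M : Fin r → X.Modules) (hM : ∀ i, PicF.IsInvertible (M i))
    (F : X.Modules) [F.IsQuasicoherent] :
    @FGA.intNum K _ (pullback (X ↘ Spec (CommRingCat.of k)) (Spec.map (CommRingCat.ofHom (algebraMap k K))))
        ⟨pullback.snd _ _⟩ d r
        (fun i => (Scheme.Modules.pullback
          (pullback.fst (X ↘ Spec (CommRingCat.of k)) (Spec.map (CommRingCat.ofHom (algebraMap k K))))).obj (M i))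
        ((Scheme.Modules.pullback
          (pullback.fst (X ↘ Spec (CommRingCat.of k)) (Spec.map (CommRingCat.ofHom (algebraMap k K))))).obj F) =
      FGA.intNum k X d M F := by
  letI : (pullback (X ↘ Spec (CommRingCat.of k))
      (Spec.map (CommRingCat.ofHom (algebraMap k K)))).Over (Spec (CommRingCat.of K)) :=
    ⟨pullback.snd _ _⟩
  unfold FGA.intNum
  refine Finset.sum_congr rfl (fun I _ => ?_)
  congr 1
  set g := pullback.fst (X ↘ Spec (CommRingCat.of k))
    (Spec.map (CommRingCat.ofHom (algebraMap k K))) with hg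
  haveI : (FGA.tensorList ((I.sort (· ≤ ·)).map M)).IsQuasicoherent := by
    apply isQuasicoherent_tensorList
    intro M' hM'
    obtain ⟨i, -, rfl⟩ := List.mem_map.mp hM'
    exact isQuasicoherent_of_isInvertible _ (hM i)
  haveI : (CohB1.tensorMod (FGA.tensorList ((I.sort (· ≤ ·)).map M)) F).IsQuasicoherent :=
    Groth.Agent.Lead.QcohTensor.isQuasicoherent_tensorMod _ _
  rw [← eulerCharLE_baseChange k K X (CohB1.tensorMod (FGA.tensorList ((I.sort (· ≤ ·)).map M)) F) d]
  apply eulerCharLE_congr
  refine (PicGrp.tensorModIso ?_ (Iso.refl _)) ≪≫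
    (pullTensorIso g (FGA.tensorList ((I.sort (· ≤ ·)).map M)) F).symm
  have e := (pullTensorListIso g ((I.sort (· ≤ ·)).map M)).symm
  rw [List.map_map] at e
  exact e

end Euler

end Groth.Agent.Lead.IntNumBC
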