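import Mathlib
import Groth.Agent.Helper4.GenTwistMain
import Groth.Agent.Helper9.PullMon4
import Groth.Agent.Helper1.TwistExact
import Groth.Agent.Lead.Ref1B
import Groth.Agent.Lead.InvDualA

/-!
# Quotients of sums of negative twists (towards the resolution property)

For a quasi-compact quasi-separated scheme covered by affine opens of the form `X_ρ`, `ρ` a section
of an invertible module `M`, every quasi-coherent module of finite type is a quotient of a finite
direct sum of inverses of positive powers of such `M`'s.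
-/

set_option autoImplicit false
set_option linter.style.haveILetI false
set_option linter.unusedSectionVars false
set_option linter.unusedVariables false

universe u

open CategoryTheory CategoryTheory.Limits AlgebraicGeometry TopologicalSpace Opposite
  MonoidalCategory

namespace Groth.Agent.Lead.ResProp

open Groth.Agent.Helper4.GenLoc Groth.Agent.Helper4.TensorInv Groth.Agent.Helper4.TensorGen
  Groth.Agent.Helper4.TensorAssoc Groth.Agent.Helper4.TwistExt Groth.Agent.Helper4.GenTwist
  Groth.Agent.Helper4.AmpleFinite Groth.Agent.Helper4.AmplePoints Groth.Agent.Helper4.QAffSec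
open Groth.Agent.Helper9.SkyMod4 Groth.Agent.Helper9.SkyMod5 Groth.Agent.Helper9.StalkTensor8
  Groth.Agent.Helper9.PullMon4

variable {X : Scheme.{u}}

/-- `A` is generated over `W` by the finite family of global sections `τ` -/
def GenOnFam (A : X.Modules) (W : X.Opens) {k : ℕ} (τ : Fin k → (Coh.structureModule X ⟶ A)) :
    Prop :=
  ∀ (Q : X.Modules) (g : A ⟶ Q), (∀ i, τ i ≫ g = 0) →
    (Scheme.Modules.restrictFunctor W.ι).map g = 0

/-- finite version of `genOn_tensor_of_extensions` -/
theorem exists_genOnFam_tensor {B : X.Modules} (σ : Coh.structureModule X ⟶ B)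
    (A : X.Modules) [A.IsQuasicoherent] (W : X.Opens) (hW : W ≤ CohB1.genLocus B σ)
    (hWaff : IsAffineOpen W) (S : Finset Γ(A, W))
    (hS : Submodule.span Γ(X, W) (S : Set Γ(A, W)) = ⊤)
    (hext : ∀ m ∈ S, ∃ τ : Coh.structureModule X ⟶ CohB1.tensorMod A B,
      SecTwist.val τ W = SecTwist.tmul A B W m (SecTwist.val σ W)) :
    ∃ (k : ℕ) (τ : Fin k → (Coh.structureModule X ⟶ CohB1.tensorMod A B)),
      GenOnFam (CohB1.tensorMod A B) W τ := by
  classical
  choose τ' hτ' using fun m : S => hext m.1 m.2
  let e : S ≃ Fin S.card := S.equivFin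
  refine ⟨S.card, fun i => τ' (e.symm i), ?_⟩
  intro Q g hg
  have hkill : ∀ m : Γ(A, W), (tw σ A ≫ g).app W m = 0 := by
    intro m
    have hm : m ∈ Submodule.span Γ(X, W) (S : Set Γ(A, W)) := hS ▸ Submodule.mem_top
    induction hm using Submodule.span_induction with
    | mem m hm =>
      have h1 := hτ' ⟨m, hm⟩
      have h2 : τ' ⟨m, hm⟩ ≫ g = 0 := by
        have h3 := hg (e ⟨m, hm⟩)
        simp only [Equiv.symm_apply_apply] at h3
        exact h3
      change g.app W ((tw σ A).app W m) = 0
      rw [tw_app, ← h1]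
      exact congrArg (fun φ => (Scheme.Modules.Hom.app φ W) (one X W)) h2
    | zero => exact map_zero _
    | add a b _ _ ha hb => rw [map_add, ha, hb, add_zero]
    | smul r a _ ha => rw [Scheme.Modules.Hom.app_smul, ha, smul_zero]
  haveI : IsAffine (W : Scheme.{u}) := hWaff
  haveI : (A.restrict W.ι).IsQuasicoherent := inferInstance
  have hgg : Curv2.IsGloballyGenerated (A.restrict W.ι) :=
    Groth.Agent.Helper4.QuasiAffineGG.isGloballyGenerated_of_isOpenImmersion_Spec
      (W : Scheme.{u}).isoSpec.hom _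
  have h1 := Groth.Agent.Helper4.CounitGG.restrict_map_eq_zero_of_isGloballyGenerated A Q (tw σ A ≫ g) W hgg hkill
  rw [Functor.map_comp] at h1
  haveI := isIso_restrict_tw σ A W hW
  exact (cancel_epi ((Scheme.Modules.restrictFunctor W.ι).map (tw σ A))).mp
    (h1.trans comp_zero.symm)

/-- per chart: all large twists are generated over an affine `X_ρ` by finitely many sections -/
theorem exists_forall_genOnFam [CompactSpace X] [QuasiSeparatedSpace X] {M : X.Modules}
    (hM : PicF.IsInvertible M) (ρ : Coh.structureModule X ⟶ M)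
    (haff : IsAffineOpen (CohB1.genLocus M ρ)) (F : X.Modules) [F.IsQuasicoherent]
    (hFT : SheafOfModules.IsFiniteType (R := X.ringCatSheaf) F) :
    ∃ N₀ : ℕ, ∀ N, N₀ ≤ N →
      ∃ (k : ℕ) (τ : Fin k → (Coh.structureModule X ⟶ CohB1.tensorMod F (CohB1.tensorPow M N))),
        GenOnFam (CohB1.tensorMod F (CohB1.tensorPow M N)) (CohB1.genLocus M ρ) τ := by
  classical
  haveI : Module.Finite Γ(X, CohB1.genLocus M ρ) Γ(F, CohB1.genLocus M ρ) :=
    Groth.Agent.Helper4.SecDict.finite_sections haff F inferInstance hFT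
  obtain ⟨S, hS⟩ := (Module.finite_def.mp
    (inferInstance : Module.Finite Γ(X, CohB1.genLocus M ρ) Γ(F, CohB1.genLocus M ρ)))
  choose N₀ hN₀ using fun m : Γ(F, CohB1.genLocus M ρ) =>
    Groth.Agent.Helper4.TwistExtU.exists_forall_twist_extends M hM ρ F m
  refine ⟨S.sup N₀, fun N hN => exists_genOnFam_tensor (SecTwist.powHom ρ N) F
    (CohB1.genLocus M ρ) (genLocus_le_genLocus_powHom hM ρ N) haff S hS (fun m hm => ?_)⟩
  obtain ⟨t', ht'⟩ := hN₀ m N ((Finset.le_sup hm).trans hN)
  obtain ⟨τ, hτ⟩ := Groth.Agent.Helper4.SubExt.exists_unit_hom_of_section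
    (CohB1.tensorMod F (CohB1.tensorPow M N)) t'
  refine ⟨τ, ?_⟩
  have h1 : SecTwist.val τ (CohB1.genLocus M ρ) =
      (CohB1.tensorMod F (CohB1.tensorPow M N)).presheaf.map
        (homOfLE (le_top : CohB1.genLocus M ρ ≤ ⊤)).op t' := by
    rw [← hτ]
    exact app_one_eq_res _ τ _
  rw [h1, ht', SecTwist.val_powHom]
  rfl

end Groth.Agent.Lead.ResProp
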