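import Mathlib
import Groth.Agent.Lead.ResPropA
import Groth.Prelude.Def_KSix

/-!
# Quotients of sums of negative twists: stalkwise arguments and the main construction
-/

set_option autoImplicit false
set_option linter.style.haveILetI false
set_option linter.unusedSectionVars false
set_option linter.unusedVariables false

universe u

open CategoryTheory CategoryTheory.Limits AlgebraicGeometry TopologicalSpace Opposite
  MonoidalCategory

namespace Groth.Agent.Lead.ResProp

open Groth.Agent.Helper4.GenLoc Groth.Agent.Helper4.TensorInv Groth.Agent.Helper4.TensorGen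
  Groth.Agent.Helper4.TensorAssoc Groth.Agent.Helper4.TwistExt Groth.Agent.Helper4.GenTwist
  Groth.Agent.Helper4.AmpleFinite Groth.Agent.Helper4.AmplePoints Groth.Agent.Helper4.QAffSec
open Groth.Agent.Helper9.SkyMod4 Groth.Agent.Helper9.SkyMod5 Groth.Agent.Helper9.StalkTensor8
  Groth.Agent.Helper9.PullMon4

variable {X : Scheme.{u}}

/-- a morphism vanishing over `W` has zero stalk maps at the points of `W` -/
theorem St_map_eq_zero_of_restrict {A Q : X.Modules} (g : A ⟶ Q) (W : X.Opens)
    (h : (Scheme.Modules.restrictFunctor W.ι).map g = 0) (y : X) (hy : y ∈ W) :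
    (St y).map g = 0 := by
  apply ModuleCat.hom_ext
  apply LinearMap.ext
  intro m
  rw [Groth.Agent.Lead.Ref1B.St_map_apply]
  obtain ⟨U, hyU, s, rfl⟩ := A.presheaf.exists_germ_eq (x := y) m
  have hle : U ⊓ W ≤ U := inf_le_left
  have h1 : A.presheaf.germ U y hyU s =
      A.presheaf.germ (U ⊓ W) y ⟨hyU, hy⟩ (A.presheaf.map (homOfLE hle).op s) :=
    (TopCat.Presheaf.germ_res_apply A.presheaf (homOfLE hle) y ⟨hyU, hy⟩ s).symm
  rw [h1, RefHull.stalkMapₗ_germ,
    Groth.Agent.Helper4.CounitGG.app_eq_zero_of_restrict_map_eq_zero A Q g W h (U ⊓ W) inf_le_right _, map_zero]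
  rfl

/-- a morphism all of whose stalk maps vanish is zero -/
theorem eq_zero_of_St_map_eq_zero {A Q : X.Modules} (g : A ⟶ Q)
    (h : ∀ y : X, (St y).map g = 0) : g = 0 := by
  apply Scheme.Modules.hom_ext
  intro U
  ext s
  show g.app U s = 0
  refine TopCat.Presheaf.section_ext (⟨Q.presheaf, Q.isSheaf⟩ : TopCat.Sheaf Ab X.toTopCat) U
    (g.app U s) 0 (fun y hy => ?_)
  have h1 : Q.presheaf.germ U y hy (g.app U s) =
      RefHull.stalkMapₗ g y (A.presheaf.germ U y hy s) := (RefHull.stalkMapₗ_germ g y hy s).symm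
  have h2 : RefHull.stalkMapₗ g y (A.presheaf.germ U y hy s) = 0 := by
    rw [← Groth.Agent.Lead.Ref1B.St_map_apply, h y]
    rfl
  show Q.presheaf.germ U y hy (g.app U s) = Q.presheaf.germ U y hy 0
  rw [h1, h2, map_zero]

/-- the stalks of the cokernel of a generating family vanish over `W` -/
theorem isZero_St_cokernel_of_genOnFam (A : X.Modules) (W : X.Opens) {k : ℕ}
    (τ : Fin k → (Coh.structureModule X ⟶ A)) (h : GenOnFam A W τ) (y : X) (hy : y ∈ W) :
    IsZero ((St y).obj (cokernel (biproduct.desc τ))) := by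
  have h0 : ∀ i, τ i ≫ cokernel.π (biproduct.desc τ) = 0 := fun i => by
    rw [← biproduct.ι_desc τ i, Category.assoc, cokernel.condition, comp_zero]
  have h1 := St_map_eq_zero_of_restrict (cokernel.π (biproduct.desc τ)) W (h _ _ h0) y hy
  haveI : Epi ((St y).map (cokernel.π (biproduct.desc τ))) := inferInstance
  rw [IsZero.iff_id_eq_zero, ← cancel_epi ((St y).map (cokernel.π (biproduct.desc τ))), h1,
    zero_comp, zero_comp]

/-- twisting a generating family by an invertible module: the twisted sum map is surjective on the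
stalks over `W` -/
theorem epi_St_map_twist (A B' : X.Modules) (hB' : PicF.IsInvertible B') (W : X.Opens) {k : ℕ}
    (τ : Fin k → (Coh.structureModule X ⟶ A)) (h : GenOnFam A W τ) (y : X) (hy : y ∈ W) :
    Epi ((St y).map ((DCoh.tensorRightMod B').map (biproduct.desc τ))) := by
  haveI : PreservesFiniteColimits (DCoh.tensorRightMod B') :=
    Groth.Agent.Helper1.TwistExact.preservesFiniteColimits_tensorRightMod B' hB'
  rw [Preadditive.epi_iff_isZero_cokernel]
  have e1 : (St y).obj (cokernel ((DCoh.tensorRightMod B').map (biproduct.desc τ))) ≅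
      cokernel ((St y).map ((DCoh.tensorRightMod B').map (biproduct.desc τ))) :=
    PreservesCokernel.iso (St y) _
  have e2 : (DCoh.tensorRightMod B').obj (cokernel (biproduct.desc τ)) ≅
      cokernel ((DCoh.tensorRightMod B').map (biproduct.desc τ)) :=
    PreservesCokernel.iso (DCoh.tensorRightMod B') _
  have e3 : (St y).obj (cokernel (biproduct.desc τ)) ⊗ (St y).obj B' ≅
      (St y).obj (CohB1.tensorMod (cokernel (biproduct.desc τ)) B') := stIso' y _ _
  have hz0 := isZero_St_cokernel_of_genOnFam A W τ h y hy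
  have hz : IsZero ((St y).obj (cokernel (biproduct.desc τ)) ⊗ (St y).obj B') :=
    (tensorRight ((St y).obj B')).map_isZero hz0
  exact hz.of_iso (e1.symm ≪≫ (St y).mapIso e2.symm ≪≫ e3.symm)

/-- untwisting: `(F ⊗ B) ⊗ B' ≅ F` when `B ⊗ B' ≅ O` -/
noncomputable def alpha (F B B' : X.Modules) (e : CohB1.tensorMod B B' ≅ Coh.structureModule X) :
    CohB1.tensorMod (CohB1.tensorMod F B) B' ≅ F :=
  Groth.Agent.Lead.Ref1B.assoc F B B' ≪≫ PicGrp.tensorModIso (Iso.refl F) e ≪≫ SecTwist.unitorR F

/-- the map `B' ⟶ F` defined by a section of `F ⊗ B` -/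
noncomputable def psi (F B B' : X.Modules) (e : CohB1.tensorMod B B' ≅ Coh.structureModule X)
    (σ : Coh.structureModule X ⟶ CohB1.tensorMod F B) : B' ⟶ F :=
  (Groth.Agent.Lead.Ref1B.unitorL B').inv ≫ (DCoh.tensorRightMod B').map σ ≫ (alpha F B B' e).hom

/-- the maps `psi` of a family generating `F ⊗ B` over `W` are jointly surjective on the stalks
over `W` -/
theorem St_map_eq_zero_of_psi (F B B' : X.Modules) (hB' : PicF.IsInvertible B')
    (e : CohB1.tensorMod B B' ≅ Coh.structureModule X) (W : X.Opens) {k : ℕ}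
    (τ : Fin k → (Coh.structureModule X ⟶ CohB1.tensorMod F B))
    (h : GenOnFam (CohB1.tensorMod F B) W τ) {Q : X.Modules} (g : F ⟶ Q)
    (hg : ∀ i, psi F B B' e (τ i) ≫ g = 0) (y : X) (hy : y ∈ W) : (St y).map g = 0 := by
  have h1 : ∀ i, (DCoh.tensorRightMod B').map (τ i) ≫ (alpha F B B' e).hom ≫ g = 0 := by
    intro i
    have h2 := hg i
    unfold psi at h2
    rw [Category.assoc, Category.assoc] at h2
    exact (cancel_epi (Groth.Agent.Lead.Ref1B.unitorL B').inv).1 (h2.trans comp_zero.symm)
  have h2 : (DCoh.tensorRightMod B').map (biproduct.desc τ) ≫ (alpha F B B' e).hom ≫ g = 0 := by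
    rw [biproduct.desc_eq, Functor.map_sum, Preadditive.sum_comp]
    apply Finset.sum_eq_zero
    intro i _
    rw [Functor.map_comp, Category.assoc, h1 i, comp_zero]
  haveI := epi_St_map_twist (CohB1.tensorMod F B) B' hB' W τ h y hy
  have h3 : (St y).map ((DCoh.tensorRightMod B').map (biproduct.desc τ)) ≫
      (St y).map ((alpha F B B' e).hom ≫ g) = 0 := by
    rw [← Functor.map_comp, h2, Functor.map_zero]
  have h4 : (St y).map ((alpha F B B' e).hom ≫ g) = 0 :=
    (cancel_epi ((St y).map ((DCoh.tensorRightMod B').map (biproduct.desc τ)))).1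
      (h3.trans comp_zero.symm)
  rw [Functor.map_comp] at h4
  exact (cancel_epi ((St y).map (alpha F B B' e).hom)).1 (h4.trans comp_zero.symm)

end Groth.Agent.Lead.ResProp
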