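import Mathlib
import Groth.Agent.Lead.ResPropB
import Groth.Agent.Lead.LocLift6
import Groth.Agent.Lead.PerfLib7

/-!
# Quotients of sums of negative twists: the main construction
-/

set_option autoImplicit false
set_option linter.style.haveILetI false
set_option linter.unusedSectionVars false
set_option linter.unusedVariables false

universe u

open CategoryTheory CategoryTheory.Limits AlgebraicGeometry TopologicalSpace Opposite
  MonoidalCategory

namespace Groth.Agent.Lead.ResProp

open Groth.Agent.Helper4.GenLoc Groth.Agent.Helper4.TensorInv Groth.Agent.Helper4.TensorGen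
  Groth.Agent.Helper4.TensorAssoc Groth.Agent.Helper4.TwistExt Groth.Agent.Helper4.GenTwist
  Groth.Agent.Helper4.AmpleFinite Groth.Agent.Helper4.AmplePoints Groth.Agent.Helper4.QAffSec
open Groth.Agent.Helper9.SkyMod4 Groth.Agent.Helper9.SkyMod5 Groth.Agent.Helper9.StalkTensor8
  Groth.Agent.Helper9.PullMon4

variable {X : Scheme.{u}}

/-- **the main construction**: on a quasi-compact quasi-separated scheme covered by affine opens
`X_ρ` (`ρ` a section of an invertible module `M` in a class `C`), every quasi-coherent module of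
finite type is a quotient of a finite direct sum of invertible modules `N` with
`N ⊗ M^{⊗ n} ≅ O_X`, `n > 0`, `M` in `C`. -/
theorem exists_epi_of_charts [CompactSpace X] [QuasiSeparatedSpace X] (F : X.Modules)
    [F.IsQuasicoherent] (hFT : SheafOfModules.IsFiniteType (R := X.ringCatSheaf) F)
    (C : X.Modules → Prop)
    (hch : ∀ x : X, ∃ (M : X.Modules) (ρ : Coh.structureModule X ⟶ M), C M ∧
      PicF.IsInvertible M ∧ x ∈ CohB1.genLocus M ρ ∧ IsAffineOpen (CohB1.genLocus M ρ)) :
    ∃ (K : ℕ) (N : Fin K → X.Modules) (π : (⨁ N) ⟶ F), Epi π ∧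
      ∀ j, PicF.IsInvertible (N j) ∧ ∃ (M : X.Modules) (n : ℕ), C M ∧ 0 < n ∧
        Nonempty (CohB1.tensorMod (N j) (CohB1.tensorPow M n) ≅ Coh.structureModule X) := by
  classical
  choose M ρ hC hM hx haff using hch
  obtain ⟨t, ht⟩ := CompactSpace.elim_nhds_subcover
    (fun x => (CohB1.genLocus (M x) (ρ x) : Set X))
    (fun x => (CohB1.genLocus (M x) (ρ x)).isOpen.mem_nhds (hx x))
  choose N₀ hN₀ using fun x => exists_forall_genOnFam (hM x) (ρ x) (haff x) F hFT
  choose k τ hτ using fun x => hN₀ x (N₀ x + 1) (Nat.le_succ _)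
  have hB : ∀ x, PicF.IsInvertible (CohB1.tensorPow (M x) (N₀ x + 1)) :=
    fun x => isInvertible_tensorPow (hM x) _
  let ι : Type u := Σ x : {x // x ∈ t}, Fin (k x.1)
  let e : ι ≃ Fin (Fintype.card ι) := Fintype.equivFin ι
  let ψ' : (a : ι) → (RefHull.dual (CohB1.tensorPow (M a.1.1) (N₀ a.1.1 + 1)) ⟶ F) := fun a =>
    psi F (CohB1.tensorPow (M a.1.1) (N₀ a.1.1 + 1))
      (RefHull.dual (CohB1.tensorPow (M a.1.1) (N₀ a.1.1 + 1)))
      (Groth.Agent.Lead.InvDual.evIso' _ (hB a.1.1)) (τ a.1.1 a.2)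
  refine ⟨Fintype.card ι,
    fun j => RefHull.dual (CohB1.tensorPow (M (e.symm j).1.1) (N₀ (e.symm j).1.1 + 1)),
    biproduct.desc (fun j => ψ' (e.symm j)), ?_, fun j => ⟨?_, M (e.symm j).1.1,
      N₀ (e.symm j).1.1 + 1, hC _, Nat.succ_pos _, ⟨Groth.Agent.Lead.InvDual.evIso _ (hB _)⟩⟩⟩
  · apply Preadditive.epi_of_cancel_zero
    intro Q g hg
    have hψ : ∀ j, ψ' (e.symm j) ≫ g = 0 := fun j => by
      have h1 := biproduct.ι_desc (fun j => ψ' (e.symm j)) j
      rw [← h1, Category.assoc, hg, comp_zero]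
    have hψ' : ∀ a : ι, ψ' a ≫ g = 0 := by
      intro a
      have key : ∀ b : ι, b = a → ψ' b ≫ g = 0 → ψ' a ≫ g = 0 := by
        rintro b rfl h
        exact h
      exact key _ (e.symm_apply_apply a) (hψ (e a))
    apply eq_zero_of_St_map_eq_zero
    intro y
    have hy : y ∈ ⋃ x ∈ t, (CohB1.genLocus (M x) (ρ x) : Set X) := ht ▸ Set.mem_univ y
    obtain ⟨x, hxt, hyx⟩ := Set.mem_iUnion₂.mp hy
    exact St_map_eq_zero_of_psi F (CohB1.tensorPow (M x) (N₀ x + 1))
      (RefHull.dual (CohB1.tensorPow (M x) (N₀ x + 1)))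
      (Groth.Agent.Lead.InvDual.isInvertible_dual _ (hB x))
      (Groth.Agent.Lead.InvDual.evIso' _ (hB x)) (CohB1.genLocus (M x) (ρ x)) (τ x) (hτ x) g
      (fun i => hψ' ⟨⟨x, hxt⟩, i⟩) y hyx
  · exact Groth.Agent.Lead.InvDual.isInvertible_dual _ (hB _)

/-- splitting off the first summand of a finite biproduct -/
theorem nonempty_biproduct_fin_succ_iso {C : Type*} [Category C] [Preadditive C]
    [HasFiniteBiproducts C] [HasBinaryBiproducts C] {n : ℕ} (f : Fin (n + 1) → C) :
    Nonempty ((⨁ f) ≅ f 0 ⊞ ⨁ fun i : Fin n => f i.succ) := by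
  let c₁ : Fan fun i : Fin n => f i.succ := (biproduct.bicone fun i : Fin n => f i.succ).toCone
  have t₁ : IsLimit c₁ := biproduct.isLimit _
  let c₂ : BinaryFan (f 0) c₁.pt := (BinaryBiproduct.bicone (f 0) c₁.pt).toCone
  have t₂ : IsLimit c₂ := BinaryBiproduct.isLimit _ _
  have t := extendFanIsLimit f t₁ t₂
  exact ⟨(biproduct.isLimit f).conePointUniqueUpToIso t⟩

/-- a finite direct sum of finite locally free modules is finite locally free -/
theorem isFinLocFree_biproduct : ∀ (K : ℕ) (N : Fin K → X.Modules),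
    (∀ j, FlatMod.IsFinLocFree (N j)) → FlatMod.IsFinLocFree (⨁ N) := by
  intro K
  induction K with
  | zero =>
    intro N _
    apply Groth.Agent.Lead.PerfLib.isFinLocFree_of_isZero
    rw [IsZero.iff_id_eq_zero]
    apply biproduct.hom_ext
    intro j
    exact j.elim0
  | succ n ih =>
    intro N hN
    obtain ⟨i⟩ := nonempty_biproduct_fin_succ_iso N
    exact Groth.Agent.Helper4.FinLocFree2.isFinLocFree_of_iso i.symm
      (Groth.Agent.Lead.LocLift.isFinLocFree_biprod (hN 0) (ih _ (fun j => hN j.succ)))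

end Groth.Agent.Lead.ResProp
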