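import Groth.Agent.Lead.PushInv
import Groth.Agent.Lead.LocLift6

set_option autoImplicit false
open CategoryTheory CategoryTheory.Limits AlgebraicGeometry Opposite TopologicalSpace
universe u

namespace Groth.Agent.Lead.ParaDesc
open Scheme.Modules Groth.Agent.Helper4 Groth.Agent.Lead.BCMap Groth.Agent.Lead.PushInv

section Square
variable {X X' : Scheme.{u}} (f : X' ⟶ X) (U V : X.Opens) (U' : X'.Opens) (hU' : U' = f ⁻¹ᵁ U)

include hU' in
theorem le1 : f ⁻¹ᵁ V ⊓ U' ≤ f ⁻¹ᵁ (V ⊓ U) := by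
  subst hU'
  rw [Scheme.Hom.preimage_inf]

include hU' in
theorem sq : IsPullback (f.resLE (V ⊓ U) (f ⁻¹ᵁ V ⊓ U') (le1 f U V U' hU'))
    (X'.homOfLE (inf_le_left : f ⁻¹ᵁ V ⊓ U' ≤ f ⁻¹ᵁ V))
    (X.homOfLE (inf_le_left : V ⊓ U ≤ V)) (f.resLE V (f ⁻¹ᵁ V) le_rfl) := by
  have H : IsPullback f (𝟙 X') (𝟙 X) f := IsPullback.of_id_snd
  have h1 := Scheme.Hom.isPullback_resLE H (US := V) (UT := f ⁻¹ᵁ V) (UX := V ⊓ U)
    (le_refl _) (show V ⊓ U ≤ (𝟙 X) ⁻¹ᵁ V from inf_le_left) (UY := f ⁻¹ᵁ V ⊓ U')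
    (by subst hU'; rw [Scheme.Hom.preimage_inf]; ext x; simp)
  simpa only [Scheme.Hom.resLE_id] using h1

end Square

section QC
variable {X : Scheme.{u}} (U V : X.Opens)

theorem quasiCompact_homOfLE_inf (hU : QuasiCompact (X.homOfLE (le_top : U ≤ ⊤))) :
    QuasiCompact (X.homOfLE (inf_le_left : V ⊓ U ≤ V)) := by
  have h := isPullback_opens_inf_le (X := X) (U := V) (V := U) (W := ⊤) le_top le_top
  exact MorphismProperty.of_isPullback (P := @QuasiCompact) h.flip hU

end QC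

section UnitBC
variable {X S X' S' : Scheme.{u}} (f : X ⟶ S) (g : S' ⟶ S) (g' : X' ⟶ X) (f' : X' ⟶ S')
  (w : g' ≫ f = f' ≫ g)

/-- the canonical morphism `g^* O_S ⟶ O_{S'}` -/
noncomputable def pbUnit {S S' : Scheme.{u}} (g : S' ⟶ S) :
    (Scheme.Modules.pullback g).obj (Coh.structureModule S) ⟶ Coh.structureModule S' :=
  SheafOfModules.pullbackObjUnitToUnit g.toRingCatSheafHom

theorem homEquiv_pbUnit {S S' : Scheme.{u}} (g : S' ⟶ S) :
    (pullbackPushforwardAdjunction g).homEquiv _ _ (pbUnit g) = unitPush g :=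
  SheafOfModules.pullbackPushforwardAdjunction_homEquiv_pullbackObjUnitToUnit _

theorem isIso_pbUnit {S S' : Scheme.{u}} (g : S' ⟶ S) : IsIso (pbUnit g) := by
  haveI := Groth.Agent.Helper8.TildeBC.opensMap_final g
  have h1 : IsIso (SheafOfModules.pullbackObjUnitToUnit g.toRingCatSheafHom) := inferInstance
  exact h1

theorem unit_pbUnit_app {S S' : Scheme.{u}} (g : S' ⟶ S) (V : S.Opens) (a : Γ(S, V)) :
    (pbUnit g).app (g ⁻¹ᵁ V)
      (((pullbackPushforwardAdjunction g).unit.app (Coh.structureModule S)).app V a) =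
      g.app V a := by
  have h1 := homEquiv_pbUnit g
  rw [Adjunction.homEquiv_unit] at h1
  have h2 := congrArg (fun ψ : Coh.structureModule S ⟶
    (pushforward g).obj (Coh.structureModule S') => Scheme.Modules.Hom.app ψ V a) h1
  exact h2

theorem unitPush_bc :
    (Scheme.Modules.pullback g).map (unitPush f) ≫ bcMap f g g' f' w (Coh.structureModule X) ≫
        (pushforward f').map (pbUnit g') = pbUnit g ≫ unitPush f' := by
  apply ((pullbackPushforwardAdjunction g).homEquiv _ _).injective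
  rw [Adjunction.homEquiv_naturality_left, Adjunction.homEquiv_naturality_right,
    Adjunction.homEquiv_naturality_right, homEquiv_pbUnit]
  unfold bcMap
  rw [Equiv.apply_symm_apply]
  ext V a
  change (pbUnit g').app (f' ⁻¹ᵁ (g ⁻¹ᵁ V))
      ((bcAdj f g g' f' w (Coh.structureModule X)).app V (f.app V a)) =
    f'.app (g ⁻¹ᵁ V) (g.app V a)
  rw [bcAdj_app, StalkExact.app_res, unit_pbUnit_app]
  have h1 := Scheme.Hom.congr_app w V
  rw [Scheme.Hom.comp_app, Scheme.Hom.comp_app] at h1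
  have h2 := congrArg (fun φ => φ.hom a) h1
  change g'.app (f ⁻¹ᵁ V) (f.app V a) =
    X'.presheaf.map (eqToHom _).op (f'.app (g ⁻¹ᵁ V) (g.app V a)) at h2
  rw [h2]
  change (X'.presheaf.map _ ≫ X'.presheaf.map _).hom (f'.app (g ⁻¹ᵁ V) (g.app V a)) = _
  rw [← Functor.map_comp]
  refine (congrArg (fun φ => (X'.presheaf.map φ).hom (f'.app (g ⁻¹ᵁ V) (g.app V a)))
    (Subsingleton.elim _ (𝟙 _))).trans ?_
  rw [X'.presheaf.map_id]
  rfl

end UnitBC

section UnitDesc
variable {X S X' S' : Scheme.{u}} (f : X ⟶ S) (g : S' ⟶ S) (g' : X' ⟶ X) (f' : X' ⟶ S')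
  (h : IsPullback g' f' f g)

include h in
/-- descent of `O_S ≅ f_* O_X` along a flat surjective base change -/
theorem isIso_unitPush_descent [Flat g] [Surjective g] [QuasiCompact f] [QuasiSeparated f]
    (hu' : IsIso (unitPush f')) : IsIso (unitPush f) := by
  haveI := isQuasicoherent_structureModule S
  haveI := isQuasicoherent_structureModule X
  haveI : ((pushforward f).obj (Coh.structureModule X)).IsQuasicoherent :=
    QcohGlue.isQuasicoherent_pushforward f _
  refine Groth.Agent.Lead.FlatPull.isIso_of_forall_isIso_pullback (ι := Unit) (fun _ => S')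
    (fun _ => g) (fun z => ⟨(), g.surjective z⟩) (unitPush f) (fun _ => ?_)
  have key := unitPush_bc f g g' f' h.w
  haveI i1 : IsIso (bcMap f g g' f' h.w (Coh.structureModule X)) :=
    isIso_bcMap_of_flat f g g' f' h _
  haveI i2 := isIso_pbUnit g'
  haveI i3 := isIso_pbUnit g
  haveI i4 : IsIso ((Scheme.Modules.pullback g).map (unitPush f) ≫
      (bcMap f g g' f' h.w (Coh.structureModule X) ≫ (pushforward f').map (pbUnit g'))) := by
    rw [key]; infer_instance
  exact IsIso.of_isIso_comp_right _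
    (bcMap f g g' f' h.w (Coh.structureModule X) ≫ (pushforward f').map (pbUnit g'))

end UnitDesc

section Inv
variable {Y Y' : Scheme.{u}} (g : Y' ⟶ Y)

set_option backward.isDefEq.respectTransparency false in
/-- a quasi-coherent module whose pullback along an fpqc morphism is invertible is invertible -/
theorem isInvertible_of_pullback_invertible [Flat g] [Surjective g] [QuasiCompact g]
    (M : Y.Modules) [M.IsQuasicoherent]
    (hi : PicF.IsInvertible ((Scheme.Modules.pullback g).obj M)) : PicF.IsInvertible M := by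
  haveI qg : ((Scheme.Modules.pullback g).obj M).IsQuasicoherent :=
    Groth.Agent.Lead.StalkPull.isQuasicoherent_pullbackObj g M
  have h3 : FlatMod.IsFinLocFree ((Scheme.Modules.pullback g).obj M) :=
    Groth.Agent.Lead.ParaFLib.isFinLocFree_of_isInvertible _ hi
  have h4 : FlatMod.IsFinLocFree M := Groth.Agent.S1177.result g M h3
  intro y
  obtain ⟨V, hV, n, hyV, ⟨b⟩⟩ := FinLocFree2.exists_affine_basis M h4 y
  obtain ⟨y', rfl⟩ := g.surjective y
  obtain ⟨W', hy'W', ⟨iW⟩⟩ := hi y'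
  obtain ⟨_, ⟨V', hV' : IsAffineOpen V', rfl⟩, hy'V', hV'VW⟩ :=
    Y'.isBasis_affineOpens.exists_subset_of_mem_open
      (show y' ∈ (((g ⁻¹ᵁ V) ⊓ W' : Y'.Opens) : Set Y') from ⟨hyV, hy'W'⟩) ((g ⁻¹ᵁ V) ⊓ W').isOpen
  have hV'V : V' ≤ g ⁻¹ᵁ V := fun x hx => (hV'VW hx).1
  have hV'W : V' ≤ W' := fun x hx => (hV'VW hx).2
  letI := (g.appLE V V' hV'V).hom.toAlgebra
  letI : Module Γ(Y, V) Γ((Scheme.Modules.pullback g).obj M, V') :=
    Module.compHom _ (g.appLE V V' hV'V).hom
  haveI : IsScalarTower Γ(Y, V) Γ(Y', V') Γ((Scheme.Modules.pullback g).obj M, V') :=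
    IsScalarTower.of_compHom _ _ _
  obtain ⟨ρ, -, hbc⟩ := exists_isBaseChange_pbSec g M hV hV' hV'V
  have b' : Module.Basis (Fin n) Γ(Y', V') Γ((Scheme.Modules.pullback g).obj M, V') :=
    hbc.basis b
  have hfreeW : FinLocFree.IsFreeAlong ((Scheme.Modules.pullback g).obj M)
      (Scheme.Opens.ι W') 1 :=
    ⟨iW ≪≫ (coproductUniqueIso (fun _ : Fin 1 =>
        Coh.structureModule ((W' : Y'.Opens) : Scheme.{u}))).symm⟩
  have hfree1 : FinLocFree.IsFreeAlong ((Scheme.Modules.pullback g).obj M)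
      (Scheme.Opens.ι V') 1 := FinLocFree.IsFreeAlong.of_le hV'W hfreeW
  obtain ⟨b''⟩ := (FinLocFree.isFreeAlong_ι_iff_basis hV' _).mp hfree1
  haveI : Nonempty V' := ⟨⟨y', hy'V'⟩⟩
  haveI : Nontrivial Γ(Y', V') := inferInstance
  have hn : n = 1 := by
    have e1 := Module.finrank_eq_card_basis b'
    have e2 := Module.finrank_eq_card_basis b''
    simp only [Fintype.card_fin] at e1 e2
    omega
  subst hn
  obtain ⟨j⟩ := (FinLocFree.isFreeAlong_ι_iff_basis hV M).mpr ⟨b⟩
  exact ⟨V, hyV, ⟨j ≪≫ coproductUniqueIso (fun _ : Fin 1 => Coh.structureModule (V : Scheme.{u}))⟩⟩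

end Inv


section Pull
open Scheme.Modules

theorem isInvertible_pullback {X Y : Scheme.{u}} (f : X ⟶ Y) {F : Y.Modules}
    (hF : PicF.IsInvertible F) : PicF.IsInvertible ((Scheme.Modules.pullback f).obj F) := by
  intro x
  obtain ⟨U, hxU, ⟨e⟩⟩ := hF (f x)
  refine ⟨f ⁻¹ᵁ U, hxU, ⟨?_⟩⟩
  exact (restrictFunctorIsoPullback (f ⁻¹ᵁ U).ι).app _ ≪≫
    (pullbackComp (f ⁻¹ᵁ U).ι f).app F ≪≫
    (pullbackCongr (morphismRestrict_ι f U).symm).app F ≪≫
    ((pullbackComp (f ∣_ U) U.ι).app F).symm ≪≫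
    (Scheme.Modules.pullback (f ∣_ U)).mapIso ((restrictFunctorIsoPullback U.ι).app F).symm ≪≫
    (Scheme.Modules.pullback (f ∣_ U)).mapIso e ≪≫
    Groth.Agent.Helper8.TildeBC.pullbackUnitIso (f ∣_ U)

end Pull

section Final
variable {X X' : Scheme.{u}} (f : X' ⟶ X) [QuasiCompact f] [Flat f] [Surjective f]

theorem compl_closedsPreimage (Y : Closeds ↥X) :
    (ParaF.closedsPreimage f Y).compl = f ⁻¹ᵁ Y.compl := rfl

/-- S2830 -/
theorem main (Y : Closeds ↥X) (hU : QuasiCompact (X.homOfLE (le_top : Y.compl ≤ ⊤)))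
    (h : ParaF.IsParafactorialPair X' (ParaF.closedsPreimage f Y)) :
    ParaF.IsParafactorialPair X Y := by
  obtain ⟨h1', h2'⟩ := (Groth.Agent.Lead.ParaFLib.main X' (ParaF.closedsPreimage f Y)).mp h
  have hUeq := compl_closedsPreimage f Y
  -- the data attached to an open `V`
  have key : ∀ V : X.Opens,
      IsIso (unitPush (X.homOfLE (inf_le_left : V ⊓ Y.compl ≤ V))) ∧
      ∀ (L : ((V ⊓ Y.compl : X.Opens) : Scheme.{u}).Modules), PicF.IsInvertible L →
        PicF.IsInvertible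
          ((Scheme.Modules.pushforward (X.homOfLE (inf_le_left : V ⊓ Y.compl ≤ V))).obj L) := by
    intro V
    have hsq := sq f Y.compl V (ParaF.closedsPreimage f Y).compl hUeq
    haveI : QuasiCompact (X.homOfLE (inf_le_left : V ⊓ Y.compl ≤ V)) :=
      quasiCompact_homOfLE_inf Y.compl V hU
    haveI : Surjective (f.resLE V (f ⁻¹ᵁ V) le_rfl) := by
      rw [Scheme.Hom.resLE_eq_morphismRestrict]
      exact IsZariskiLocalAtTarget.restrict ‹Surjective f› V
    haveI : QuasiCompact (f.resLE V (f ⁻¹ᵁ V) le_rfl) := by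
      rw [Scheme.Hom.resLE_eq_morphismRestrict]
      infer_instance
    have hu' : IsIso (unitPush (X'.homOfLE
        (inf_le_left : f ⁻¹ᵁ V ⊓ (ParaF.closedsPreimage f Y).compl ≤ f ⁻¹ᵁ V))) := by
      apply GenLoc.isIso_of_app_bijective
      intro W
      exact Groth.Agent.Lead.ParaFLib.star_of_bij (ParaF.closedsPreimage f Y).compl h1'
        (f ⁻¹ᵁ V) W
    refine ⟨isIso_unitPush_descent _ _ _ _ hsq hu', ?_⟩
    intro L hL
    haveI : L.IsQuasicoherent := FinLocFree4.isQuasicoherent_of_isFinLocFree _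
      (Groth.Agent.Lead.ParaFLib.isFinLocFree_of_isInvertible L hL)
    haveI : ((pushforward (X.homOfLE (inf_le_left : V ⊓ Y.compl ≤ V))).obj L).IsQuasicoherent :=
      QcohGlue.isQuasicoherent_pushforward _ L
    apply isInvertible_of_pullback_invertible (f.resLE V (f ⁻¹ᵁ V) le_rfl)
    haveI i1 := isIso_bcMap_of_flat _ _ _ _ hsq L
    refine Groth.Agent.Lead.ParaFLib.isInvertible_of_iso (asIso (bcMap _ _ _ _ hsq.w L)).symm ?_
    exact h2' (f ⁻¹ᵁ V) _ (isInvertible_pullback _ hL)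
  refine (Groth.Agent.Lead.ParaFLib.main X Y).mpr ⟨fun V => ?_, fun V L hL => (key V).2 L hL⟩
  apply Groth.Agent.Lead.ParaFLib.bij_of_appTop
  haveI := (key V).1
  have : IsIso ((unitPush (X.homOfLE (inf_le_left : V ⊓ Y.compl ≤ V))).app ⊤) := inferInstance
  have hb := (ConcreteCategory.isIso_iff_bijective
    ((unitPush (X.homOfLE (inf_le_left : V ⊓ Y.compl ≤ V))).app ⊤)).mp this
  exact ⟨fun a b hab => hb.1 hab, fun c => hb.2 c⟩

end Final

end Groth.Agent.Lead.ParaDesc
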