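import Mathlib
import Groth.Prelude.Def_Wider

/-! # Injective hulls: basic theory -/

set_option autoImplicit false
universe u

namespace Groth.Agent.Lead.InjHullLib

open InjHull

variable {R : Type u} [CommRing R]

/-- If `f : M → E` is an essential injection and `α ∘ f` is injective then `α` is injective. -/
theorem injective_of_essential {M E I : Type u} [AddCommGroup M] [Module R M] [AddCommGroup E]
    [Module R E] [AddCommGroup I] [Module R I] {f : M →ₗ[R] E}
    (hess : ∀ N : Submodule R E, N ≠ ⊥ → N ⊓ LinearMap.range f ≠ ⊥) (α : E →ₗ[R] I)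
    (h : Function.Injective (α ∘ₗ f)) : Function.Injective α := by
  rw [← LinearMap.ker_eq_bot]
  by_contra hne
  apply hess _ hne
  rw [eq_bot_iff]
  rintro x ⟨hx1, ⟨m, rfl⟩⟩
  have : (α ∘ₗ f) m = (α ∘ₗ f) 0 := by
    rw [map_zero]; exact hx1
  rw [h this, map_zero]
  exact Submodule.zero_mem _

/-- An injective module embedded in a module is a direct summand: there is a retraction. -/
theorem exists_retraction {E I : Type u} [AddCommGroup E] [Module R E] [AddCommGroup I]
    [Module R I] [Module.Injective R E] (α : E →ₗ[R] I) (hα : Function.Injective α) :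
    ∃ ρ : I →ₗ[R] E, ρ ∘ₗ α = LinearMap.id :=
  Module.Injective.extension_property R E E I α hα LinearMap.id

/-- The range of an injective map from an injective module has a complement. -/
theorem exists_isCompl_range {E I : Type u} [AddCommGroup E] [Module R E] [AddCommGroup I]
    [Module R I] [Module.Injective R E] (α : E →ₗ[R] I) (hα : Function.Injective α) :
    ∃ I' : Submodule R I, IsCompl (LinearMap.range α) I' := by
  obtain ⟨ρ, hρ⟩ := exists_retraction α hα
  let ρ' : I →ₗ[R] LinearMap.range α := α.rangeRestrict ∘ₗ ρ
  refine ⟨LinearMap.ker ρ', LinearMap.isCompl_of_proj (f := ρ') ?_⟩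
  rintro ⟨_, ⟨e, rfl⟩⟩
  apply Subtype.ext
  have : ρ (α e) = e := LinearMap.congr_fun hρ e
  simp [ρ', this]

/-- A direct summand of an injective module is injective. -/
theorem injective_of_isCompl {I : Type u} [AddCommGroup I] [Module R I] [Module.Injective R I]
    (E C : Submodule R I) (h : IsCompl E C) : Module.Injective R E := by
  refine ⟨fun X Y _ _ _ _ f hf g => ?_⟩
  obtain ⟨k, hk⟩ := Module.Injective.extension_property R I X Y f hf (E.subtype ∘ₗ g)
  refine ⟨(Submodule.projectionOnto E C h) ∘ₗ k, fun x => ?_⟩
  have : k (f x) = (g x : I) := LinearMap.congr_fun hk x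
  rw [LinearMap.comp_apply, this, Submodule.projectionOnto_apply_left]

end Groth.Agent.Lead.InjHullLib
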