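import Mathlib
import Groth.Agent.Lead.InjHull

/-! # Injective submodules of injective modules -/

set_option autoImplicit false
universe u

namespace Groth.Agent.Lead.InjHullLib

variable {R : Type u} [CommRing R]

/-- There is a submodule maximal among those disjoint from `E`. -/
theorem exists_maximal_disjoint {I : Type u} [AddCommGroup I] [Module R I] (E : Submodule R I) :
    ∃ C : Submodule R I, Maximal (fun C => Disjoint C E) C := by
  refine zorn_le₀ {C | Disjoint C E} fun c hc hchain => ⟨sSup c, ?_, fun z hz => le_sSup hz⟩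
  exact (hchain.directedOn.disjoint_sSup_left).mpr fun b hb => hc hb

/-- An injective submodule has no proper essential extension. -/
theorem eq_of_essential_of_injective {I : Type u} [AddCommGroup I] [Module R I]
    (E : Submodule R I) [Module.Injective R E] (E' : Submodule R I) (hEE' : E ≤ E')
    (hess : ∀ N : Submodule R I, N ≤ E' → N ≠ ⊥ → N ⊓ E ≠ ⊥) : E' = E := by
  obtain ⟨ρ, hρ⟩ := exists_retraction E.subtype E.injective_subtype
  have hρe : ∀ e : E, ρ (e : I) = e := fun e => LinearMap.congr_fun hρ e
  let K : Submodule R I := LinearMap.ker ρ ⊓ E'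
  have hK : K = ⊥ := by
    by_contra hne
    apply hess K inf_le_right hne
    rw [eq_bot_iff]
    rintro x ⟨⟨hx1, _⟩, hx2⟩
    have h1 : ρ x = 0 := hx1
    have h2 := hρe ⟨x, hx2⟩
    rw [Submodule.mem_bot]
    have : (⟨x, hx2⟩ : E) = 0 := by rw [← h2]; exact h1
    exact congrArg Subtype.val this
  refine le_antisymm (fun x hx => ?_) hEE'
  have hmem : x - (ρ x : I) ∈ K := by
    refine ⟨?_, E'.sub_mem hx (hEE' (ρ x).2)⟩
    show x - (ρ x : I) ∈ LinearMap.ker ρ
    rw [LinearMap.mem_ker, map_sub, hρe, sub_self]
  rw [hK, Submodule.mem_bot, sub_eq_zero] at hmem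
  rw [hmem]
  exact (ρ x).2

/-- A submodule of an injective module with no proper essential extension is injective. -/
theorem injective_of_no_essential_extension {I : Type u} [AddCommGroup I] [Module R I]
    [Module.Injective R I] (E : Submodule R I)
    (h : ∀ E' : Submodule R I, E ≤ E' →
      (∀ N : Submodule R I, N ≤ E' → N ≠ ⊥ → N ⊓ E ≠ ⊥) → E' = E) :
    Module.Injective R E := by
  obtain ⟨C, hC⟩ := exists_maximal_disjoint E
  have hCE : Disjoint C E := hC.prop
  let π : I →ₗ[R] I ⧸ C := C.mkQ
  let j : E →ₗ[R] I ⧸ C := π ∘ₗ E.subtype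
  have hπ0 : ∀ e : I, e ∈ E → π e = 0 → e = 0 := by
    intro e he h0
    have heC : e ∈ C := by
      rwa [Submodule.mkQ_apply, Submodule.Quotient.mk_eq_zero] at h0
    exact (Submodule.disjoint_def.mp hCE) e heC he
  have hjinj : Function.Injective j := by
    rw [← LinearMap.ker_eq_bot, eq_bot_iff]
    intro e he
    rw [Submodule.mem_bot]
    apply Subtype.ext
    exact hπ0 e e.2 he
  have hjess : ∀ N : Submodule R (I ⧸ C), N ≠ ⊥ → N ⊓ LinearMap.range j ≠ ⊥ := by
    intro N hN
    have hCN : C ≤ N.comap π := by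
      intro c hc
      rw [Submodule.mem_comap]
      have : π c = 0 := by
        rw [Submodule.mkQ_apply, Submodule.Quotient.mk_eq_zero]; exact hc
      rw [this]; exact N.zero_mem
    have hne : ¬ Disjoint (N.comap π) E := by
      intro hd
      have heq : N.comap π = C := le_antisymm (hC.le_of_ge hd hCN) hCN
      apply hN
      rw [← Submodule.map_comap_eq_of_surjective (Submodule.mkQ_surjective C) N, heq]
      rw [eq_bot_iff]
      rintro _ ⟨c, hc, rfl⟩
      rw [Submodule.mem_bot, Submodule.mkQ_apply, Submodule.Quotient.mk_eq_zero]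
      exact hc
    rw [Submodule.disjoint_def] at hne
    push Not at hne
    obtain ⟨e, heN, heE, he0⟩ := hne
    intro hbot
    have hmem : π e ∈ N ⊓ LinearMap.range j := ⟨heN, ⟨⟨e, heE⟩, rfl⟩⟩
    rw [hbot, Submodule.mem_bot] at hmem
    exact he0 (hπ0 e heE hmem)
  obtain ⟨k, hk⟩ := Module.Injective.extension_property R I E (I ⧸ C) j hjinj E.subtype
  have hkj : ∀ e : E, k (π e) = e := fun e => LinearMap.congr_fun hk e
  have hkinj : Function.Injective k :=
    injective_of_essential hjess k (by rw [hk]; exact E.injective_subtype)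
  have hEk : E ≤ LinearMap.range k := fun e he => ⟨π e, hkj ⟨e, he⟩⟩
  have hrange : LinearMap.range k = E := by
    apply h _ hEk
    intro N hNk hN
    have hN' : N.comap k ≠ ⊥ := by
      intro h0
      apply hN
      rw [← Submodule.map_comap_eq_of_le hNk, h0, Submodule.map_bot]
    have := hjess _ hN'
    intro hbot
    apply this
    rw [eq_bot_iff]
    rintro y ⟨hy1, ⟨e, rfl⟩⟩
    have hy1' : k (j e) ∈ N := hy1
    have hke : k (j e) = e := hkj e
    rw [hke] at hy1'
    have : (e : I) ∈ N ⊓ E := ⟨hy1', e.2⟩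
    rw [hbot, Submodule.mem_bot] at this
    rw [Submodule.mem_bot]
    have he0 : e = 0 := Subtype.ext this
    rw [he0, map_zero]
  have hcompl : IsCompl E C := by
    refine ⟨hCE.symm, ?_⟩
    rw [codisjoint_iff, eq_top_iff]
    intro x _
    have hkx : k (π x) ∈ E := hrange ▸ LinearMap.mem_range_self k (π x)
    have h1 : k (π (k (π x))) = k (π x) := hkj ⟨_, hkx⟩
    have h2 : π (k (π x)) = π x := hkinj h1
    have h3 : x - k (π x) ∈ C := by
      rw [← Submodule.Quotient.mk_eq_zero, Submodule.Quotient.mk_sub, sub_eq_zero]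
      exact h2.symm
    have : x = k (π x) + (x - k (π x)) := by abel
    rw [this]
    exact Submodule.add_mem_sup hkx h3
  exact injective_of_isCompl E C hcompl

end Groth.Agent.Lead.InjHullLib
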