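import Mathlib
import Groth.Agent.Lead.InjHull2

/-! # Existence of injective hulls -/

set_option autoImplicit false
universe u

namespace Groth.Agent.Lead.InjHullLib

open CategoryTheory

variable {R : Type u} [CommRing R]

/-- Every module embeds into an injective module. -/
theorem exists_injective_embedding (M : Type u) [AddCommGroup M] [Module R M] :
    ∃ (I : Type u) (_ : AddCommGroup I) (_ : Module R I) (i : M →ₗ[R] I),
      Module.Injective R I ∧ Function.Injective i := by
  obtain ⟨P⟩ := (inferInstance : EnoughInjectives (ModuleCat.{u} R)).presentation (ModuleCat.of R M)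
  have := P.injective
  have := P.mono
  refine ⟨P.J, inferInstance, inferInstance, P.f.hom, ?_, ?_⟩
  · exact Module.injective_module_of_injective_object R P.J
  · exact (ModuleCat.mono_iff_injective P.f).mp P.mono

/-- `E'` is an essential extension of `M'` inside `I`. -/
def EssIn {I : Type u} [AddCommGroup I] [Module R I] (M' E' : Submodule R I) : Prop :=
  M' ≤ E' ∧ ∀ N : Submodule R I, N ≤ E' → N ≠ ⊥ → N ⊓ M' ≠ ⊥

theorem exists_maximal_essIn {I : Type u} [AddCommGroup I] [Module R I] (M' : Submodule R I) :
    ∃ E : Submodule R I, M' ≤ E ∧ Maximal (fun E' => EssIn M' E') E := by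
  have h0 : EssIn M' M' := by
    refine ⟨le_rfl, fun N hN hN0 => ?_⟩
    rwa [inf_eq_left.mpr hN]
  refine zorn_le_nonempty₀ {E' | EssIn M' E'} ?_ M' h0
  intro c hc hchain y hy
  refine ⟨sSup c, ⟨(hc hy).1.trans (le_sSup hy), ?_⟩, fun z hz => le_sSup hz⟩
  intro N hN hN0
  obtain ⟨x, hxN, hx0⟩ := Submodule.exists_mem_ne_zero_of_ne_bot hN0
  obtain ⟨E', hE'c, hxE'⟩ :=
    (Submodule.mem_sSup_of_directed ⟨y, hy⟩ hchain.directedOn).mp (hN hxN)
  have hspan : Submodule.span R {x} ≤ E' := by
    rw [Submodule.span_le, Set.singleton_subset_iff]; exact hxE'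
  have hspan0 : Submodule.span R {x} ≠ ⊥ := by
    rw [Ne, Submodule.span_singleton_eq_bot]; exact hx0
  have h1 := (hc hE'c).2 _ hspan hspan0
  intro hbot
  apply h1
  rw [eq_bot_iff, ← hbot]
  refine inf_le_inf_right _ ?_
  rw [Submodule.span_le, Set.singleton_subset_iff]; exact hxN

theorem exists_hull (M : Type u) [AddCommGroup M] [Module R M] :
    ∃ (E : Type u) (_ : AddCommGroup E) (_ : Module R E) (f : M →ₗ[R] E),
      InjHull.IsInjectiveHull f := by
  obtain ⟨I, _, _, i, hI, hi⟩ := exists_injective_embedding (R := R) M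
  let M' : Submodule R I := LinearMap.range i
  obtain ⟨E, hME, hE⟩ := exists_maximal_essIn M'
  have hEinj : Module.Injective R E := by
    apply injective_of_no_essential_extension
    intro E' hEE' hess
    have : EssIn M' E' := by
      refine ⟨hME.trans hEE', fun N hN hN0 => ?_⟩
      have h1 := hess N hN hN0
      have h2 := hE.prop.2 (N ⊓ E) inf_le_right h1
      intro hbot
      apply h2
      rw [eq_bot_iff, ← hbot]
      exact inf_le_inf_right _ inf_le_left
    exact le_antisymm (hE.le_of_ge this hEE') hEE'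
  let f : M →ₗ[R] E := LinearMap.codRestrict E i (fun m => hME (LinearMap.mem_range_self i m))
  refine ⟨E, inferInstance, inferInstance, f, ⟨⟨?_, ?_⟩, hEinj⟩⟩
  · intro a b hab
    apply hi
    exact congrArg Subtype.val hab
  · intro N hN0
    have hN' : N.map E.subtype ≠ ⊥ := by
      intro h0
      apply hN0
      apply Submodule.map_injective_of_injective E.injective_subtype
      rw [h0, Submodule.map_bot]
    have h1 := hE.prop.2 (N.map E.subtype) (Submodule.map_subtype_le E N) hN'
    obtain ⟨x, hx, hx0⟩ := Submodule.exists_mem_ne_zero_of_ne_bot h1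
    obtain ⟨⟨e, heN, rfl⟩, ⟨m, hm⟩⟩ := hx
    intro hbot
    have hmem : e ∈ N ⊓ LinearMap.range f := by
      refine ⟨heN, ⟨m, ?_⟩⟩
      apply Subtype.ext
      exact hm
    rw [hbot, Submodule.mem_bot] at hmem
    apply hx0
    rw [hmem]; rfl

end Groth.Agent.Lead.InjHullLib
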