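import Mathlib
import Groth.Prelude.Def_RefHull
import Groth.Prelude.Def_RefFun
import Groth.Prelude.Def_DCoh4
import Groth.Prelude.Def_KoszTw
import Groth.Agent.Helper4.StalkDict
import Groth.Agent.Helper4.QcqsMod
import Groth.Agent.Helper4.TensorLift
import Groth.Agent.Lead.HomShC

/-!
# The tensor–Hom adjunction for the constructed sheaf Hom `RefHull.homSh`

`F ⊗ - ⊣ 𝓗om(F, -)` on `X.Modules`, hence `(DCoh.sheafHom F).obj G ≅ RefHull.homSh F G`.
-/

set_option autoImplicit false
set_option linter.style.haveILetI false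
set_option linter.unusedSectionVars false

universe u

open CategoryTheory CategoryTheory.Limits AlgebraicGeometry TopologicalSpace Opposite

namespace Groth.Agent.Lead.SheafHomAdj

open Groth.Agent.Helper4.StalkDict Groth.Agent.Helper4.QcqsMod Groth.Agent.Helper4.TensorLift

variable {X : Scheme.{u}}

/-- restriction of sections of a module, as an additive map -/
noncomputable abbrev rs (F : X.Modules) {V W : X.Opens} (h : W ≤ V) : Γ(F, V) →+ Γ(F, W) :=
  (F.presheaf.map (homOfLE h).op).hom

theorem rs_rs (F : X.Modules) {V W W' : X.Opens} (h : W ≤ V) (h' : W' ≤ W) (m : Γ(F, V)) :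
    rs F h' (rs F h m) = rs F (h'.trans h) m := by
  change (F.presheaf.map (homOfLE h).op ≫ F.presheaf.map (homOfLE h').op).hom m = _
  rw [← F.presheaf.map_comp]
  rfl

theorem rs_self (F : X.Modules) {V : X.Opens} (h : V ≤ V) (m : Γ(F, V)) : rs F h m = m := by
  have : (homOfLE h).op = 𝟙 (op V) := rfl
  change (F.presheaf.map (homOfLE h).op).hom m = m
  rw [this, F.presheaf.map_id]
  rfl

theorem germ_rs (F : X.Modules) {V W : X.Opens} (h : W ≤ V) (x : X) (hx : x ∈ W) (m : Γ(F, V)) :
    F.presheaf.germ W x hx (rs F h m) = F.presheaf.germ V x (h hx) m :=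
  germ_res F h x hx m

/-- a compatible family of maps on sections over the opens contained in `U` -/
structure Fam (F H : X.Modules) (U : X.Opens) where
  app : ∀ V : X.Opens, V ≤ U → (Γ(F, V) →+ Γ(H, V))
  res : ∀ (V W : X.Opens) (hV : V ≤ U) (hWV : W ≤ V) (m : Γ(F, V)),
    rs H hWV (app V hV m) = app W (hWV.trans hV) (rs F hWV m)
  smul : ∀ (V : X.Opens) (hV : V ≤ U) (r : Γ(X, V)) (m : Γ(F, V)),
    app V hV (r • m) = r • app V hV m

namespace Fam

variable {F H : X.Modules} {U : X.Opens} (a : Fam F H U)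

/-- the cocone defining the stalk map of a compatible family -/
noncomputable def cocone (x : X) (hx : x ∈ U) :
    Cocone ((OpenNhds.inclusion x).op ⋙ F.presheaf) where
  pt := H.presheaf.stalk x
  ι :=
    { app := fun V => AddCommGrpCat.ofHom
        (((H.presheaf.germ (V.unop.1 ⊓ U) x ⟨V.unop.2, hx⟩).hom.comp
          (a.app (V.unop.1 ⊓ U) inf_le_right)).comp (rs F inf_le_left))
      naturality := fun V W i => by
        ext m
        have hWV : W.unop.1 ≤ V.unop.1 := i.unop.le
        change H.presheaf.germ (W.unop.1 ⊓ U) x ⟨W.unop.2, hx⟩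
            (a.app (W.unop.1 ⊓ U) inf_le_right (rs F inf_le_left (rs F hWV m))) =
          H.presheaf.germ (V.unop.1 ⊓ U) x ⟨V.unop.2, hx⟩
            (a.app (V.unop.1 ⊓ U) inf_le_right (rs F inf_le_left m))
        have h1 : W.unop.1 ⊓ U ≤ V.unop.1 ⊓ U := inf_le_inf_right U hWV
        rw [rs_rs, ← rs_rs F (inf_le_left : V.unop.1 ⊓ U ≤ V.unop.1) h1 m, ← a.res _ _ _ h1,
          germ_rs] }

/-- the stalk map of a compatible family, as an additive map -/
noncomputable def stalkAdd (x : X) (hx : x ∈ U) : F.presheaf.stalk x ⟶ H.presheaf.stalk x :=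
  colimit.desc _ (a.cocone x hx)

theorem stalkAdd_germ (x : X) (hx : x ∈ U) (V : X.Opens) (hxV : x ∈ V) (m : Γ(F, V)) :
    (a.stalkAdd x hx).hom (F.presheaf.germ V x hxV m) =
      H.presheaf.germ (V ⊓ U) x ⟨hxV, hx⟩ (a.app (V ⊓ U) inf_le_right (rs F inf_le_left m)) := by
  change (F.presheaf.germ V x hxV ≫ a.stalkAdd x hx).hom m = _
  have e : F.presheaf.germ V x hxV ≫ a.stalkAdd x hx = (a.cocone x hx).ι.app (op ⟨V, hxV⟩) :=
    colimit.ι_desc _ _
  rw [e]
  rfl

theorem stalkAdd_germ_of_le (x : X) (hx : x ∈ U) (V : X.Opens) (hV : V ≤ U) (hxV : x ∈ V)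
    (m : Γ(F, V)) :
    (a.stalkAdd x hx).hom (F.presheaf.germ V x hxV m) = H.presheaf.germ V x hxV (a.app V hV m) := by
  rw [stalkAdd_germ, ← a.res V (V ⊓ U) hV inf_le_left m, germ_rs]

/-- the stalk map of a compatible family, as a linear map -/
noncomputable def stalkLin (x : X) (hx : x ∈ U) : RefHull.StalkHom F H x where
  toFun := (a.stalkAdd x hx).hom
  map_add' := map_add _
  map_smul' r v := by
    obtain ⟨W, hxW, r₀, m₀, rfl, rfl⟩ := exists_common F x r v
    have h1 : X.presheaf.germ W x hxW r₀ • F.presheaf.germ W x hxW m₀ =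
        F.presheaf.germ (W ⊓ U) x ⟨hxW, hx⟩
          ((X.presheaf.map (homOfLE (inf_le_left : W ⊓ U ≤ W)).op r₀) • rs F inf_le_left m₀) := by
      rw [germ_smul, germ_rs, germ_resO]
    rw [RingHom.id_apply, h1, stalkAdd_germ_of_le a x hx (W ⊓ U) inf_le_right, a.smul, germ_smul,
      germ_resO, ← stalkAdd_germ_of_le a x hx (W ⊓ U) inf_le_right, germ_rs]

theorem stalkLin_germ (x : X) (hx : x ∈ U) (V : X.Opens) (hV : V ≤ U) (hxV : x ∈ V)
    (m : Γ(F, V)) :
    a.stalkLin x hx (F.presheaf.germ V x hxV m) = H.presheaf.germ V x hxV (a.app V hV m) :=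
  stalkAdd_germ_of_le a x hx V hV hxV m

/-- the section of the sheaf Hom defined by a compatible family -/
noncomputable def toSec : Γ(RefHull.homSh F H, U) :=
  ⟨fun x => a.stalkLin x.1 x.2, fun V i m x =>
    ⟨V, x.2, 𝟙 V, a.app V i.le m, fun y => a.stalkLin_germ y.1 (i.le y.2) V i.le y.2 m⟩⟩

theorem toSec_apply_germ (x : X) (hx : x ∈ U) (V : X.Opens) (hV : V ≤ U) (hxV : x ∈ V)
    (m : Γ(F, V)) :
    a.toSec.1 ⟨x, hx⟩ (F.presheaf.germ V x hxV m) = H.presheaf.germ V x hxV (a.app V hV m) :=
  a.stalkLin_germ x hx V hV hxV m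

end Fam

/-- sections of the sheaf Hom are determined by their values on germs of sections over the
opens contained in `U` -/
theorem homSh_ext {F H : X.Modules} {U : X.Opens} (t t' : Γ(RefHull.homSh F H, U))
    (h : ∀ (x : X) (hx : x ∈ U) (V : X.Opens) (_ : V ≤ U) (hxV : x ∈ V) (m : Γ(F, V)),
      t.1 ⟨x, hx⟩ (F.presheaf.germ V x hxV m) = t'.1 ⟨x, hx⟩ (F.presheaf.germ V x hxV m)) :
    t = t' := by
  apply Subtype.ext
  funext x
  apply LinearMap.ext
  intro v
  obtain ⟨V, hxV, m, rfl⟩ := TopCat.Presheaf.exists_germ_eq F.presheaf v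
  have h1 := h x.1 x.2 (V ⊓ U) inf_le_right ⟨hxV, x.2⟩ (rs F inf_le_left m)
  rw [germ_rs] at h1
  exact h1


/-! ### Sections of the sheaf Hom: pointwise formulas -/

theorem add_apply {F H : X.Modules} {U : X.Opens} (t t' : Γ(RefHull.homSh F H, U)) (x : U) :
    (t + t').1 x = t.1 x + t'.1 x := rfl

theorem zero_apply {F H : X.Modules} {U : X.Opens} (x : U) :
    (0 : Γ(RefHull.homSh F H, U)).1 x = 0 := rfl

theorem smul_apply {F H : X.Modules} {U : X.Opens} (r : Γ(X, U)) (t : Γ(RefHull.homSh F H, U))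
    (x : U) : (r • t).1 x = X.presheaf.germ U x.1 x.2 r • t.1 x := rfl

theorem rs_apply {F H : X.Modules} {U V : X.Opens} (h : V ≤ U) (t : Γ(RefHull.homSh F H, U))
    (x : V) : (rs (RefHull.homSh F H) h t).1 x = t.1 ⟨x.1, h x.2⟩ := rfl

theorem app_rs {F G : X.Modules} (φ : F ⟶ G) {U V : X.Opens} (hVU : V ≤ U) (s : Γ(F, U)) :
    rs G hVU (φ.app U s) = φ.app V (rs F hVU s) := by
  have nat := φ.mapPresheaf.naturality (homOfLE hVU).op
  exact (ConcreteCategory.congr_hom nat s).symm

theorem rs_smul (F : X.Modules) {U V : X.Opens} (h : V ≤ U) (r : Γ(X, U)) (m : Γ(F, U)) :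
    rs F h (r • m) = (X.presheaf.map (homOfLE h).op r) • rs F h m :=
  Scheme.Modules.map_smul F (homOfLE h) r m

/-! ### Bilinear families and morphisms into the sheaf Hom -/

section Bil

variable {F K H : X.Modules}

theorem bil_zero_left (b : Bil F K H) (V : X.Opens) (n : Γ(K, V)) : b.f V 0 n = 0 := by
  have h := b.add_left V 0 0 n
  rw [add_zero] at h
  exact left_eq_add.mp h

theorem bil_zero_right (b : Bil F K H) (V : X.Opens) (m : Γ(F, V)) : b.f V m 0 = 0 := by
  have h := b.add_right V m 0 0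
  rw [add_zero] at h
  exact left_eq_add.mp h

theorem bil_rs (b : Bil F K H) {V W : X.Opens} (h : W ≤ V) (m : Γ(F, V)) (n : Γ(K, V)) :
    rs H h (b.f V m n) = b.f W (rs F h m) (rs K h n) :=
  b.map (homOfLE h) m n

theorem bil_ext {b b' : Bil F K H} (h : ∀ V m n, b.f V m n = b'.f V m n) : b = b' := by
  cases b; cases b'
  congr
  funext V m n
  exact h V m n

/-- the compatible family defined by a bilinear family and a section of `K` -/
noncomputable def famOf (b : Bil F K H) (U : X.Opens) (k : Γ(K, U)) : Fam F H U where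
  app V hV :=
    { toFun := fun m => b.f V m (rs K hV k)
      map_zero' := bil_zero_left b V _
      map_add' := fun m m' => b.add_left V m m' _ }
  res V W hV hWV m := by
    change rs H hWV (b.f V m (rs K hV k)) = b.f W (rs F hWV m) (rs K (hWV.trans hV) k)
    rw [bil_rs, rs_rs]
  smul V hV r m := b.smul_left V r m _

theorem famOf_toSec_germ (b : Bil F K H) (U : X.Opens) (k : Γ(K, U)) (x : X) (hx : x ∈ U)
    (V : X.Opens) (hV : V ≤ U) (hxV : x ∈ V) (m : Γ(F, V)) :
    (famOf b U k).toSec.1 ⟨x, hx⟩ (F.presheaf.germ V x hxV m) =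
      H.presheaf.germ V x hxV (b.f V m (rs K hV k)) :=
  Fam.toSec_apply_germ _ x hx V hV hxV m

/-- the map on sections `K(U) → 𝓗om(F, H)(U)` defined by a bilinear family -/
noncomputable def secOf (b : Bil F K H) (U : X.Opens) : Γ(K, U) →+ Γ(RefHull.homSh F H, U) where
  toFun k := (famOf b U k).toSec
  map_zero' := by
    apply homSh_ext
    intro x hx V hV hxV m
    rw [famOf_toSec_germ b U 0 x hx V hV hxV m, map_zero, bil_zero_right, map_zero, zero_apply,
      LinearMap.zero_apply]
  map_add' k k' := by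
    apply homSh_ext
    intro x hx V hV hxV m
    rw [famOf_toSec_germ b U (k + k') x hx V hV hxV m, add_apply, LinearMap.add_apply,
      famOf_toSec_germ b U k x hx V hV hxV m, famOf_toSec_germ b U k' x hx V hV hxV m,
      map_add, b.add_right, map_add]

theorem secOf_germ (b : Bil F K H) (U : X.Opens) (k : Γ(K, U)) (x : X) (hx : x ∈ U)
    (V : X.Opens) (hV : V ≤ U) (hxV : x ∈ V) (m : Γ(F, V)) :
    (secOf b U k).1 ⟨x, hx⟩ (F.presheaf.germ V x hxV m) =
      H.presheaf.germ V x hxV (b.f V m (rs K hV k)) :=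
  famOf_toSec_germ b U k x hx V hV hxV m

/-- the morphism `K ⟶ 𝓗om(F, H)` defined by a bilinear family -/
noncomputable def homOf (b : Bil F K H) : K ⟶ RefHull.homSh F H :=
  ⟨PresheafOfModules.homMk
    { app := fun U => AddCommGrpCat.ofHom (secOf b U.unop)
      naturality := fun {U V} i => by
        ext k
        have hVU : V.unop ≤ U.unop := i.unop.le
        change secOf b V.unop (rs K hVU k) = rs (RefHull.homSh F H) hVU (secOf b U.unop k)
        apply homSh_ext
        intro x hx W hW hxW m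
        rw [secOf_germ b V.unop _ x hx W hW hxW m, rs_apply,
          secOf_germ b U.unop k x (hVU hx) W (hW.trans hVU) hxW m, rs_rs] }
    (fun U r k => by
      have h : ∀ (r : Γ(X, U.unop)) (k : Γ(K, U.unop)),
          secOf b U.unop (r • k) = r • secOf b U.unop k := by
        intro r k
        apply homSh_ext
        intro x hx W hW hxW m
        rw [secOf_germ b U.unop _ x hx W hW hxW m, smul_apply, LinearMap.smul_apply,
          secOf_germ b U.unop k x hx W hW hxW m, rs_smul, b.smul_right, germ_smul, germ_resO]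
      exact h r k)⟩

theorem homOf_app (b : Bil F K H) (U : X.Opens) (k : Γ(K, U)) :
    (homOf b).app U k = secOf b U k := rfl

/-- the bilinear family defined by a morphism `K ⟶ 𝓗om(F, H)` -/
noncomputable def bilOf (ψ : K ⟶ RefHull.homSh F H) : Bil F K H where
  f V m k := HomShC.toFun F H (ψ.app V k) m
  add_left V m m' k := by
    apply section_ext
    intro y hy
    rw [map_add, HomShC.germ_toFun, HomShC.germ_toFun, HomShC.germ_toFun, map_add, map_add]
  add_right V m k k' := by
    apply section_ext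
    intro y hy
    have h1 : ψ.app V (k + k') = ψ.app V k + ψ.app V k' := map_add _ _ _
    rw [h1, HomShC.germ_toFun, add_apply, LinearMap.add_apply, map_add, HomShC.germ_toFun,
      HomShC.germ_toFun]
  smul_left V r m k := by
    apply section_ext
    intro y hy
    rw [germ_smul, HomShC.germ_toFun, HomShC.germ_toFun, germ_smul, LinearMap.map_smul]
  smul_right V r m k := by
    apply section_ext
    intro y hy
    rw [germ_smul, HomShC.germ_toFun, HomShC.germ_toFun, Scheme.Modules.Hom.app_smul, smul_apply,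
      LinearMap.smul_apply]
  map {V V'} i m k := by
    have hV : V' ≤ V := i.le
    change rs H hV (HomShC.toFun F H (ψ.app V k) m) =
      HomShC.toFun F H (ψ.app V' (rs K hV k)) (rs F hV m)
    apply section_ext
    intro y hy
    rw [germ_rs, HomShC.germ_toFun, HomShC.germ_toFun, germ_rs, ← app_rs, rs_apply]

theorem germ_bilOf (ψ : K ⟶ RefHull.homSh F H) (V : X.Opens) (m : Γ(F, V)) (k : Γ(K, V)) (y : X)
    (hy : y ∈ V) :
    H.presheaf.germ V y hy ((bilOf ψ).f V m k) =
      (ψ.app V k).1 ⟨y, hy⟩ (F.presheaf.germ V y hy m) :=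
  HomShC.germ_toFun F H _ m y hy

theorem bilOf_homOf (b : Bil F K H) : bilOf (homOf b) = b := by
  apply bil_ext
  intro V m k
  apply section_ext
  intro y hy
  rw [germ_bilOf, homOf_app, secOf_germ b V k y hy V le_rfl hy m, rs_self]

theorem homOf_bilOf (ψ : K ⟶ RefHull.homSh F H) : homOf (bilOf ψ) = ψ := by
  apply Scheme.Modules.hom_ext
  intro U
  ext k
  change secOf (bilOf ψ) U k = ψ.app U k
  apply homSh_ext
  intro x hx V hV hxV m
  rw [secOf_germ (bilOf ψ) U k x hx V hV hxV m, germ_bilOf, ← app_rs, rs_apply]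

/-- bilinear families `F × K → H` are the morphisms `K ⟶ 𝓗om(F, H)` -/
noncomputable def bilEquivHom : Bil F K H ≃ (K ⟶ RefHull.homSh F H) where
  toFun := homOf
  invFun := bilOf
  left_inv := bilOf_homOf
  right_inv := homOf_bilOf

end Bil


/-! ### Morphisms out of the tensor product and bilinear families -/

section Adj

variable (F : X.Modules)

/-- the bilinear family of a morphism out of the tensor product -/
noncomputable def bilOfTensor {K H : X.Modules} (φ : CohB1.tensorMod F K ⟶ H) : Bil F K H where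
  f V m k := φ.app V (SecTwist.tmul F K V m k)
  add_left V m m' k :=
    (congrArg (fun t => (φ.app V) t) (tmul_add_left F K V m m' k)).trans (map_add _ _ _)
  add_right V m k k' :=
    (congrArg (fun t => (φ.app V) t) (tmul_add_right F K V m k k')).trans (map_add _ _ _)
  smul_left V r m k :=
    (congrArg (fun t => (φ.app V) t) (tmul_smul_left F K V r m k)).trans
      (Scheme.Modules.Hom.app_smul φ r _)
  smul_right V r m k :=
    (congrArg (fun t => (φ.app V) t) (tmul_smul_right F K V r m k)).trans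
      (Scheme.Modules.Hom.app_smul φ r _)
  map {V V'} i m k := by
    have h := app_rs φ i.le (SecTwist.tmul F K V m k)
    have h2 : rs (CohB1.tensorMod F K) i.le (SecTwist.tmul F K V m k) =
        SecTwist.tmul F K V' (rs F i.le m) (rs K i.le k) :=
      SecTwist.map_tmul F K (homOfLE i.le) m k
    rw [h2] at h
    exact h

/-- morphisms out of the tensor product are the bilinear families -/
noncomputable def tensorEquivBil (K H : X.Modules) : (CohB1.tensorMod F K ⟶ H) ≃ Bil F K H where
  toFun := bilOfTensor F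
  invFun b := b.lift
  left_inv φ := hom_ext (fun V m n => by rw [Bil.lift_tmul]; rfl)
  right_inv b := bil_ext (fun V m n => b.lift_tmul V m n)

/-- the Hom-set bijection of the tensor–Hom adjunction -/
noncomputable def e (K H : X.Modules) :
    ((DCoh.tensorBi.obj F).obj K ⟶ H) ≃ (K ⟶ RefHull.homSh F H) :=
  (tensorEquivBil F K H).trans bilEquivHom

theorem e_app_germ {K H : X.Modules} (φ : (DCoh.tensorBi.obj F).obj K ⟶ H) (U : X.Opens)
    (k : Γ(K, U)) (x : X) (hx : x ∈ U) (V : X.Opens) (hV : V ≤ U) (hxV : x ∈ V) (m : Γ(F, V)) :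
    ((e F K H φ).app U k).1 ⟨x, hx⟩ (F.presheaf.germ V x hxV m) =
      H.presheaf.germ V x hxV
        (Scheme.Modules.Hom.app (M := CohB1.tensorMod F K) φ V
          (SecTwist.tmul F K V m (rs K hV k))) :=
  secOf_germ (bilOfTensor F φ) U k x hx V hV hxV m

theorem he (K' K H : X.Modules) (g : K' ⟶ K) (φ : (DCoh.tensorBi.obj F).obj K ⟶ H) :
    e F K' H ((DCoh.tensorBi.obj F).map g ≫ φ) = g ≫ e F K H φ := by
  apply Scheme.Modules.hom_ext
  intro U
  ext k
  apply homSh_ext
  intro x hx V hV hxV m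
  have h1 : ((g ≫ e F K H φ).app U) k = (e F K H φ).app U (g.app U k) := rfl
  rw [e_app_germ F _ U k x hx V hV hxV m, h1, e_app_germ F φ U _ x hx V hV hxV m, app_rs]
  congr 1
  have h2 : Scheme.Modules.Hom.app (M := CohB1.tensorMod F K')
      ((DCoh.tensorBi.obj F).map g ≫ φ) V (SecTwist.tmul F K' V m (rs K' hV k)) =
      Scheme.Modules.Hom.app (M := CohB1.tensorMod F K) φ V
        ((KoszTw.tensorMap (𝟙 F) g).app V (SecTwist.tmul F K' V m (rs K' hV k))) := by
    rw [KoszTw.tensorBi_obj_map]
    rfl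
  refine h2.trans ?_
  have h3 := KoszTw.tensorMap_tmul (𝟙 F) g V m (rs K' hV k)
  exact congrArg (fun t => (Scheme.Modules.Hom.app (M := CohB1.tensorMod F K) φ V) t) h3

/-- the sheaf Hom functor `𝓗om(F, -)`, as the right adjoint of `F ⊗ -` -/
noncomputable def homFunctor : X.Modules ⥤ X.Modules :=
  Adjunction.rightAdjointOfEquiv (e F) (he F)

theorem homFunctor_obj (G : X.Modules) : (homFunctor F).obj G = RefHull.homSh F G := rfl

/-- **the tensor–Hom adjunction** `F ⊗ - ⊣ 𝓗om(F, -)` -/
noncomputable def adj : DCoh.tensorBi.obj F ⊣ homFunctor F :=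
  Adjunction.adjunctionOfEquivRight (e F) (he F)

/-- the chosen sheaf Hom of the prelude is the constructed sheaf Hom -/
noncomputable def sheafHomIso [DCoh.HasSheafHom F] (G : X.Modules) :
    (DCoh.sheafHom F).obj G ≅ RefHull.homSh F G :=
  ((DCoh.sheafHomAdj F).rightAdjointUniq (adj F)).app G

instance hasSheafHom : DCoh.HasSheafHom F := (adj F).isLeftAdjoint

end Adj

end Groth.Agent.Lead.SheafHomAdj
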