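import Mathlib
import Groth.Prelude.Def_CAlg
import Groth.Agent.Helper2.DepthCM

/-!
# Depth of `Hom(M, N)`: `depth Hom(M, N) ≥ min(2, depth N)`
-/

set_option autoImplicit false
set_option linter.unusedSectionVars false

universe u

open RingTheory.Sequence IsLocalRing Pointwise

namespace Groth.Agent.Lead.HomDepth

variable {R : Type u} [CommRing R] {M N : Type u} [AddCommGroup M] [Module R M]
  [AddCommGroup N] [Module R N]

theorem isSMulRegular_hom (x : R) (h : IsSMulRegular N x) : IsSMulRegular (M →ₗ[R] N) x := by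
  intro f g hfg
  apply LinearMap.ext
  intro m
  apply h
  have := congrArg (fun l : M →ₗ[R] N => l m) hfg
  simpa using this

theorem isWeaklyRegular_hom_two (x y : R) (h : IsWeaklyRegular N [x, y]) :
    IsWeaklyRegular (M →ₗ[R] N) [x, y] := by
  rw [isWeaklyRegular_cons_iff, isWeaklyRegular_singleton_iff] at h ⊢
  obtain ⟨hx, hy⟩ := h
  refine ⟨isSMulRegular_hom x hx, ?_⟩
  rw [isSMulRegular_quotient_iff_mem_of_smul_mem] at hy ⊢
  intro f hf
  rw [Submodule.mem_smul_pointwise_iff_exists] at hf ⊢
  obtain ⟨g, -, hg⟩ := hf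
  -- `x • g = y • f`
  have h1 : ∀ m : M, ∃ n : N, x • n = f m := by
    intro m
    have h2 : y • f m ∈ x • (⊤ : Submodule R N) := by
      rw [Submodule.mem_smul_pointwise_iff_exists]
      refine ⟨g m, trivial, ?_⟩
      have := congrArg (fun l : M →ₗ[R] N => l m) hg
      simpa using this
    have h3 := hy (f m) h2
    rw [Submodule.mem_smul_pointwise_iff_exists] at h3
    obtain ⟨n, -, hn⟩ := h3
    exact ⟨n, hn⟩
  choose c hc using h1
  refine ⟨{ toFun := c, map_add' := ?_, map_smul' := ?_ }, trivial, ?_⟩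
  · intro m m'
    apply hx
    change x • c (m + m') = x • (c m + c m')
    rw [smul_add, hc, hc, hc, map_add]
  · intro r m
    apply hx
    change x • c (r • m) = x • (r • c m)
    rw [hc, smul_comm, hc, map_smul]
  · apply LinearMap.ext
    intro m
    exact hc m

theorem isWeaklyRegular_hom (rs : List R) (hl : rs.length ≤ 2) (h : IsWeaklyRegular N rs) :
    IsWeaklyRegular (M →ₗ[R] N) rs := by
  match rs, hl, h with
  | [], _, _ => exact .nil R _
  | [x], _, h =>
    rw [isWeaklyRegular_singleton_iff] at h ⊢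
    exact isSMulRegular_hom x h
  | [x, y], _, h => exact isWeaklyRegular_hom_two x y h
  | _ :: _ :: _ :: _, hl, _ => simp at hl

variable [IsLocalRing R] [IsNoetherianRing R] [Module.Finite R N]

/-- **`depth Hom(M, N) ≥ k` if `depth N ≥ k`, for `k ≤ 2`** -/
theorem le_depth_hom (k : ℕ) (hk : k ≤ 2) (h : (k : ℕ∞) ≤ LocCoh.depth R N) :
    (k : ℕ∞) ≤ LocCoh.depth R (M →ₗ[R] N) := by
  classical
  unfold LocCoh.depth LocCoh.idealDepth at h ⊢
  by_cases hN : maximalIdeal R • (⊤ : Submodule R N) = ⊤
  · -- `N = 0`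
    have hN0 : (⊤ : Submodule R N) = ⊥ := by
      have h1 : (⊤ : Submodule R N) ≤ maximalIdeal R • (⊤ : Submodule R N) := hN.ge
      exact Submodule.eq_bot_of_le_smul_of_le_jacobson_bot _ _ Module.Finite.fg_top h1
        (maximalIdeal_le_jacobson _)
    have hsub : Subsingleton N := by
      refine ⟨fun a b => ?_⟩
      have ha : a ∈ (⊥ : Submodule R N) := hN0 ▸ Submodule.mem_top
      have hb : b ∈ (⊥ : Submodule R N) := hN0 ▸ Submodule.mem_top
      rw [Submodule.mem_bot] at ha hb
      rw [ha, hb]
    have hH : maximalIdeal R • (⊤ : Submodule R (M →ₗ[R] N)) = ⊤ := by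
      haveI : Subsingleton (M →ₗ[R] N) := ⟨fun f g => LinearMap.ext fun m => Subsingleton.elim _ _⟩
      exact Subsingleton.elim _ _
    rw [if_pos hH]
    exact le_top
  · rw [if_neg hN] at h
    by_cases hH : maximalIdeal R • (⊤ : Submodule R (M →ₗ[R] N)) = ⊤
    · rw [if_pos hH]
      exact le_top
    · rw [if_neg hH]
      -- a regular sequence of length `≥ k` on `N`
      obtain ⟨rs, hrs, hlen⟩ : ∃ rs : List R,
          (IsWeaklyRegular N rs ∧ ∀ r ∈ rs, r ∈ maximalIdeal R) ∧ k ≤ rs.length := by
        by_contra hcon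
        push Not at hcon
        have h2 : (⨆ (rs : List R) (_ : IsWeaklyRegular N rs ∧ ∀ r ∈ rs, r ∈ maximalIdeal R),
            (rs.length : ℕ∞)) ≤ ((k - 1 : ℕ) : ℕ∞) := by
          apply iSup₂_le
          intro rs hrs
          have := hcon rs hrs
          exact_mod_cast Nat.le_pred_of_lt this
        have h3 := h.trans h2
        have h4 : k ≤ k - 1 := by exact_mod_cast h3
        have hk0 : k ≠ 0 := by
          rintro rfl
          exact absurd (hcon [] ⟨.nil R _, by simp⟩) (by simp)
        omega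
      have h5 : rs = rs.take k ++ rs.drop k := (List.take_append_drop k rs).symm
      have h6 : IsWeaklyRegular N (rs.take k) := by
        have := hrs.1
        rw [h5, isWeaklyRegular_append_iff] at this
        exact this.1
      have h7 : (rs.take k).length = k := by
        rw [List.length_take]
        exact min_eq_left hlen
      have h8 : IsWeaklyRegular (M →ₗ[R] N) (rs.take k) :=
        isWeaklyRegular_hom _ (h7.le.trans hk) h6
      have h9 : ∀ r ∈ rs.take k, r ∈ maximalIdeal R := fun r hr =>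
        hrs.2 r (List.mem_of_mem_take hr)
      refine le_trans ?_ (le_iSup₂_of_le (rs.take k) ⟨h8, h9⟩ le_rfl)
      rw [h7]


omit [IsLocalRing R] [IsNoetherianRing R] [Module.Finite R N] in
/-- the support of `Hom(M, N)` is contained in the support of `N`, for `M` finite -/
theorem support_hom_subset [Module.Finite R M] :
    Module.support R (M →ₗ[R] N) ⊆ Module.support R N := by
  classical
  intro p hp
  by_contra hN
  rw [Module.notMem_support_iff'] at hN
  rw [Module.mem_support_iff'] at hp
  obtain ⟨f, hf⟩ := hp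
  obtain ⟨s, hs⟩ := (Module.Finite.fg_top : (⊤ : Submodule R M).FG)
  choose r hr hr0 using fun m => hN (f m)
  have h1 : (∏ m ∈ s, r m) ∉ p.asIdeal := by
    intro h
    obtain ⟨m, -, hm⟩ := (Ideal.IsPrime.prod_mem_iff).mp h
    exact hr m hm
  apply hf _ h1
  apply LinearMap.ext_on hs
  intro m hm
  rw [LinearMap.smul_apply, LinearMap.zero_apply, ← Finset.mul_prod_erase s r hm, mul_comm,
    mul_smul, hr0, smul_zero]

omit [IsLocalRing R] [IsNoetherianRing R] [Module.Finite R N] in
theorem supportDim_hom_le [Module.Finite R M] :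
    Module.supportDim R (M →ₗ[R] N) ≤ Module.supportDim R N :=
  Order.krullDim_le_of_strictMono (fun a => ⟨a.1, support_hom_subset a.2⟩) (fun {_ _} lt => lt)

/-- **`(S_k)` passes from `N` to `Hom(M, N)` at a point, for `k ≤ 2`** -/
theorem sk_hom [Module.Finite R M] (k : ℕ) (hk : k ≤ 2)
    (h : min (k : WithBot ℕ∞) (Module.supportDim R N) ≤ ((LocCoh.depth R N : ℕ∞) : WithBot ℕ∞)) :
    min (k : WithBot ℕ∞) (Module.supportDim R (M →ₗ[R] N)) ≤
      ((LocCoh.depth R (M →ₗ[R] N) : ℕ∞) : WithBot ℕ∞) := by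
  by_cases hd : (k : ℕ∞) ≤ LocCoh.depth R N
  · have h1 := le_depth_hom (M := M) k hk hd
    refine (min_le_left _ _).trans ?_
    exact_mod_cast h1
  · push Not at hd
    obtain ⟨d, hd'⟩ : ∃ d : ℕ, LocCoh.depth R N = d :=
      ⟨(LocCoh.depth R N).toNat, (ENat.natCast_toNat (ne_top_of_lt hd)).symm⟩
    have hdk : d < k := by rw [hd'] at hd; exact_mod_cast hd
    have h2 : Module.supportDim R N ≤ ((d : ℕ∞) : WithBot ℕ∞) := by
      rw [hd'] at h
      rcases min_le_iff.mp h with h3 | h3
      · exfalso
        have : k ≤ d := by exact_mod_cast h3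
        omega
      · exact h3
    have h4 : (d : ℕ∞) ≤ LocCoh.depth R (M →ₗ[R] N) :=
      le_depth_hom (M := M) d (by omega) hd'.ge
    refine (min_le_right _ _).trans ((supportDim_hom_le (M := M)).trans (h2.trans ?_))
    exact_mod_cast h4

end Groth.Agent.Lead.HomDepth
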