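import Mathlib
import Groth.Agent.Lead.SheafHomAdj
import Groth.Agent.Lead.HomShB
import Groth.Agent.Lead.HomSh2
import Groth.Agent.Lead.HomShH
import Groth.Agent.Lead.HomDepth
import Groth.Agent.Helper4.CohFP
import Groth.Agent.Helper4.FinLocFree2

/-!
# Stalks of the prelude's sheaf Hom: `𝓗om(F, G)_x ≃ Hom(F_x, G_x)` for `F` finitely presented
-/

set_option autoImplicit false
set_option linter.style.haveILetI false
set_option linter.unusedSectionVars false

universe u

open CategoryTheory CategoryTheory.Limits AlgebraicGeometry TopologicalSpace Opposite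

namespace Groth.Agent.Lead.SheafHomStalk

variable {X : Scheme.{u}} (F G : X.Modules)

/-- stalks of the constructed sheaf Hom -/
noncomputable def homShStalkEquiv
    (hF : SheafOfModules.IsFinitePresentation (R := X.ringCatSheaf) F) (x : X) :
    (RefHull.homSh F G).presheaf.stalk x ≃ₗ[X.presheaf.stalk x]
      (F.presheaf.stalk x →ₗ[X.presheaf.stalk x] G.presheaf.stalk x) :=
  LinearEquiv.ofBijective (RefHull.evalStalk F G x)
    ⟨HomSh.evalStalk_injective_of_isFT F G inferInstance x, HomShB.evalStalk_surjective F G hF x⟩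

/-- stalks of the prelude's sheaf Hom -/
noncomputable def stalkEquiv [DCoh.HasSheafHom F]
    (hF : SheafOfModules.IsFinitePresentation (R := X.ringCatSheaf) F) (x : X) :
    ((DCoh.sheafHom F).obj G).presheaf.stalk x ≃ₗ[X.presheaf.stalk x]
      (F.presheaf.stalk x →ₗ[X.presheaf.stalk x] G.presheaf.stalk x) :=
  (LinearEquiv.ofBijective (RefHull.stalkMapₗ (SheafHomAdj.sheafHomIso F G).hom x)
    (HomShH.bijective_stalkMapₗ_of_isIso _ x)).trans (homShStalkEquiv F G hF x)

/-- **depth of the stalks of the sheaf Hom** -/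
theorem le_depth_stalk [IsLocallyNoetherian X] [DCoh.HasSheafHom F] (hF : Coh.IsCoh F)
    (hG : Coh.IsCoh G) (x : X) (k : ℕ) (hk : k ≤ 2)
    (h : (k : ℕ∞) ≤ LocCoh.depth (X.presheaf.stalk x) ↑(G.presheaf.stalk x)) :
    (k : ℕ∞) ≤ LocCoh.depth (X.presheaf.stalk x)
      ↑(((DCoh.sheafHom F).obj G).presheaf.stalk x) := by
  haveI := hG.1
  haveI : Module.Finite (X.presheaf.stalk x) (G.presheaf.stalk x) :=
    Groth.Agent.Helper4.FinLocFree2.finite_stalk G hG.2 x
  have hFP := Groth.Agent.Helper4.CohFP.isFP_of_isCoh F hF.1 hF.2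
  have h1 := HomDepth.le_depth_hom (R := X.presheaf.stalk x) (M := F.presheaf.stalk x)
    (N := G.presheaf.stalk x) k hk h
  have h2 := Groth.Agent.Helper2.DepthCM.idealDepth_congr
    (IsLocalRing.maximalIdeal (X.presheaf.stalk x)) (stalkEquiv F G hFP x)
  exact h1.trans h2.symm.le


/-- **`(S_k)` for the sheaf Hom at a point, `k ≤ 2`** -/
theorem sk_stalk [IsLocallyNoetherian X] [DCoh.HasSheafHom F] (hF : Coh.IsCoh F)
    (hG : Coh.IsCoh G) (x : X) (k : ℕ) (hk : k ≤ 2)
    (h : min (k : WithBot ℕ∞) (Module.supportDim (X.presheaf.stalk x) ↑(G.presheaf.stalk x)) ≤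
      ((LocCoh.depth (X.presheaf.stalk x) ↑(G.presheaf.stalk x) : ℕ∞) : WithBot ℕ∞)) :
    min (k : WithBot ℕ∞)
        (Module.supportDim (X.presheaf.stalk x) ↑(((DCoh.sheafHom F).obj G).presheaf.stalk x)) ≤
      ((LocCoh.depth (X.presheaf.stalk x) ↑(((DCoh.sheafHom F).obj G).presheaf.stalk x) : ℕ∞) :
        WithBot ℕ∞) := by
  haveI := hG.1
  haveI := hF.1
  haveI : Module.Finite (X.presheaf.stalk x) (G.presheaf.stalk x) :=
    Groth.Agent.Helper4.FinLocFree2.finite_stalk G hG.2 x
  haveI : Module.Finite (X.presheaf.stalk x) (F.presheaf.stalk x) :=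
    Groth.Agent.Helper4.FinLocFree2.finite_stalk F hF.2 x
  have hFP := Groth.Agent.Helper4.CohFP.isFP_of_isCoh F hF.1 hF.2
  have h1 := HomDepth.sk_hom (R := X.presheaf.stalk x) (M := F.presheaf.stalk x)
    (N := G.presheaf.stalk x) k hk h
  have h2 := Groth.Agent.Helper2.DepthCM.idealDepth_congr
    (IsLocalRing.maximalIdeal (X.presheaf.stalk x)) (stalkEquiv F G hFP x)
  have h3 := Module.supportDim_eq_of_equiv (stalkEquiv F G hFP x)
  rw [h3]
  refine h1.trans ?_
  have h4 : LocCoh.depth (X.presheaf.stalk x)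
      (F.presheaf.stalk x →ₗ[X.presheaf.stalk x] G.presheaf.stalk x) =
      LocCoh.depth (X.presheaf.stalk x) ↑(((DCoh.sheafHom F).obj G).presheaf.stalk x) := h2.symm
  rw [h4]

end Groth.Agent.Lead.SheafHomStalk
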