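import Mathlib
import Groth.Prelude.Def_MeroDiv

/-!
# Local representatives of divisors (in the sense of `Mero`)
-/

set_option autoImplicit false
set_option linter.style.haveILetI false
set_option linter.unusedSectionVars false

universe u

open CategoryTheory CategoryTheory.Limits AlgebraicGeometry TopologicalSpace Opposite IsLocalRing

namespace Groth.Agent.Lead.MeroB

open Mero

variable {X : Scheme.{u}}

theorem mk_mul_algebraMap (x : X) (r : X.presheaf.stalk x) (s : regStalk X x) :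
    (LocalizedModule.mk r s : KStalk X x) * algebraMap (X.presheaf.stalk x) (KStalk X x) s =
      algebraMap (X.presheaf.stalk x) (KStalk X x) r := by
  have : (LocalizedModule.mk r s : KStalk X x) = IsLocalization.mk' (KStalk X x) r s := by
    rw [← Localization.mk_eq_mk']; rfl
  rw [this, IsLocalization.mk'_spec]

/-- local representation of a section of `K_X` as a fraction -/
theorem exists_frac {U : X.Opens} (f : Γ(kmod X, U)) (x : U) :
    ∃ (V : X.Opens) (_ : x.1 ∈ V) (hVU : V ≤ U) (a : Γ(X, V)) (b : Γ(X, V)) (_ : b ∈ regSub X V),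
      ∀ y : V, f.1 ⟨y.1, hVU y.2⟩ *
        algebraMap _ (KStalk X y.1) (X.presheaf.germ V y.1 y.2 b) =
        algebraMap _ (KStalk X y.1) (X.presheaf.germ V y.1 y.2 a) := by
  obtain ⟨V, hxV, i, a, b, hab⟩ := f.2 x
  refine ⟨V, hxV, i.le, a, b.1, b.2, fun y => ?_⟩
  have h1 := hab y
  have h2 : f.1 ⟨y.1, i.le y.2⟩ = LocalizedModule.mk (X.presheaf.germ V y.1 y.2 a) (regGerm y b) := h1
  rw [h2]
  exact mk_mul_algebraMap y.1 _ (regGerm y b)

/-- a local representative of a divisor on an open set: `D = div (a / b)` with `(a / b)⁻¹ = a' / b'` -/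
structure LocalRep (D : Divisor X) (V : X.Opens) where
  a : Γ(X, V)
  b : Γ(X, V)
  a' : Γ(X, V)
  b' : Γ(X, V)
  hb : b ∈ regSub X V
  hb' : b' ∈ regSub X V
  g : ∀ y : V, (KStalk X y.1)ˣ
  hD : ∀ y : V, D.1 y.1 = QuotientGroup.mk (g y)
  hg : ∀ y : V, (g y : KStalk X y.1) * algebraMap _ (KStalk X y.1) (X.presheaf.germ V y.1 y.2 b) =
    algebraMap _ (KStalk X y.1) (X.presheaf.germ V y.1 y.2 a)
  hg' : ∀ y : V, (((g y)⁻¹ : (KStalk X y.1)ˣ) : KStalk X y.1) *
    algebraMap _ (KStalk X y.1) (X.presheaf.germ V y.1 y.2 b') =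
    algebraMap _ (KStalk X y.1) (X.presheaf.germ V y.1 y.2 a')

theorem exists_localRep (D : Divisor X) (x : X) :
    ∃ (V : X.Opens) (_ : x ∈ V), Nonempty (LocalRep D V) := by
  obtain ⟨U, hx, f, hU⟩ := D.2 x
  obtain ⟨V₁, hx₁, hV₁, a₁, b₁, hb₁, h₁⟩ := exists_frac (f : Γ(kmod X, U)) ⟨x, hx⟩
  obtain ⟨V₂, hx₂, hV₂, a₂, b₂, hb₂, h₂⟩ :=
    exists_frac ((f⁻¹ : (Γ(kmod X, U))ˣ) : Γ(kmod X, U)) ⟨x, hx⟩
  refine ⟨V₁ ⊓ V₂, ⟨hx₁, hx₂⟩, ⟨?_⟩⟩
  let i₁ : V₁ ⊓ V₂ ⟶ V₁ := homOfLE inf_le_left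
  let i₂ : V₁ ⊓ V₂ ⟶ V₂ := homOfLE inf_le_right
  refine
    { a := X.presheaf.map i₁.op a₁
      b := X.presheaf.map i₁.op b₁
      a' := X.presheaf.map i₂.op a₂
      b' := X.presheaf.map i₂.op b₂
      hb := regSub_res i₁ hb₁
      hb' := regSub_res i₂ hb₂
      g := fun y => Units.map (evalK X U ⟨y.1, hV₁ y.2.1⟩).toMonoidHom f
      hD := fun y => hU ⟨y.1, hV₁ y.2.1⟩
      hg := fun y => ?_
      hg' := fun y => ?_ }
  · rw [TopCat.Presheaf.germ_res_apply, TopCat.Presheaf.germ_res_apply]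
    exact h₁ ⟨y.1, y.2.1⟩
  · rw [TopCat.Presheaf.germ_res_apply, TopCat.Presheaf.germ_res_apply, ← map_inv]
    exact h₂ ⟨y.1, y.2.2⟩

namespace LocalRep

variable {D : Divisor X} {V : X.Opens} (R : LocalRep D V)

theorem mul_eq (y : V) : X.presheaf.germ V y.1 y.2 R.a * X.presheaf.germ V y.1 y.2 R.a' =
    X.presheaf.germ V y.1 y.2 R.b * X.presheaf.germ V y.1 y.2 R.b' := by
  apply algebraMap_KStalk_injective y.1
  rw [map_mul, map_mul, ← R.hg y, ← R.hg' y]
  have h1 : (R.g y : KStalk X y.1) * (((R.g y)⁻¹ : (KStalk X y.1)ˣ) : KStalk X y.1) = 1 := by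
    rw [← Units.val_mul, mul_inv_cancel, Units.val_one]
  linear_combination (algebraMap _ (KStalk X y.1) (X.presheaf.germ V y.1 y.2 R.b) *
    algebraMap _ (KStalk X y.1) (X.presheaf.germ V y.1 y.2 R.b')) * h1

theorem mul_mem (y : V) : X.presheaf.germ V y.1 y.2 R.a * X.presheaf.germ V y.1 y.2 R.a' ∈
    nonZeroDivisors (X.presheaf.stalk y.1) := by
  rw [R.mul_eq y]
  exact Submonoid.mul_mem _ (R.hb y) (R.hb' y)

theorem ha : R.a ∈ regSub X V := fun y =>
  (mul_mem_nonZeroDivisors.1 (R.mul_mem y)).1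

theorem ha' : R.a' ∈ regSub X V := fun y =>
  (mul_mem_nonZeroDivisors.1 (R.mul_mem y)).2

end LocalRep

/-- a quotient of regular sections which is a germ of a function is a regular germ -/
theorem mem_regStalk_of_mul {V : X.Opens} (y : V) (a b : Γ(X, V)) (ha : a ∈ regSub X V)
    (c : X.presheaf.stalk y.1)
    (h : X.presheaf.germ V y.1 y.2 a = X.presheaf.germ V y.1 y.2 b * c) :
    c ∈ regStalk X y.1 := by
  obtain ⟨V₁, hy₁, c₁, rfl⟩ := TopCat.Presheaf.exists_germ_eq X.presheaf c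
  have hy₂ : y.1 ∈ V ⊓ V₁ := ⟨y.2, hy₁⟩
  have h1 : X.presheaf.germ (V ⊓ V₁) y.1 hy₂ (X.presheaf.map (homOfLE inf_le_left).op a) =
      X.presheaf.germ (V ⊓ V₁) y.1 hy₂ (X.presheaf.map (homOfLE inf_le_left).op b *
        X.presheaf.map (homOfLE inf_le_right).op c₁) := by
    rw [map_mul, TopCat.Presheaf.germ_res_apply, TopCat.Presheaf.germ_res_apply,
      TopCat.Presheaf.germ_res_apply]
    exact h
  obtain ⟨W, hyW, i₁, i₂, h2⟩ := TopCat.Presheaf.germ_eq X.presheaf y.1 hy₂ hy₂ _ _ h1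
  have hWV : W ≤ V := i₁.le.trans inf_le_left
  have hWV₁ : W ≤ V₁ := i₁.le.trans inf_le_right
  refine ⟨W, hyW, X.presheaf.map (homOfLE hWV₁).op c₁, ?_, ?_⟩
  · intro z
    have h3 := congrArg (X.presheaf.germ W z.1 z.2) h2
    rw [TopCat.Presheaf.germ_res_apply, TopCat.Presheaf.germ_res_apply,
      TopCat.Presheaf.germ_res_apply, map_mul, TopCat.Presheaf.germ_res_apply,
      TopCat.Presheaf.germ_res_apply] at h3
    have h4 := ha ⟨z.1, hWV z.2⟩
    simp only at h4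
    rw [h3] at h4
    change X.presheaf.germ W z.1 z.2 (X.presheaf.map (homOfLE hWV₁).op c₁) ∈ _
    rw [TopCat.Presheaf.germ_res_apply]
    exact (mul_mem_nonZeroDivisors.1 h4).2
  · exact TopCat.Presheaf.germ_res_apply X.presheaf (homOfLE hWV₁) y.1 hyW c₁

namespace LocalRep

variable {D : Divisor X} {V : X.Opens} (R : LocalRep D V)

theorem isUnit_b (y : V) :
    IsUnit (algebraMap _ (KStalk X y.1) (X.presheaf.germ V y.1 y.2 R.b)) :=
  IsLocalization.map_units (KStalk X y.1) (regGerm y ⟨R.b, R.hb⟩)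

theorem effectiveAt_iff (y : V) : IsEffectiveAt D y.1 ↔
    ∃ c, X.presheaf.germ V y.1 y.2 R.a = X.presheaf.germ V y.1 y.2 R.b * c := by
  constructor
  · rintro ⟨a₀, ha₀⟩
    rw [R.hD y] at ha₀
    obtain ⟨u, hu⟩ := QuotientGroup.eq.mp ha₀
    have h1 := congrArg (fun z : (KStalk X y.1)ˣ => (z : KStalk X y.1)) hu
    simp only [Units.val_mul] at h1
    have h2 : algebraMap _ (KStalk X y.1) (u : X.presheaf.stalk y.1) =
        (((R.g y)⁻¹ : (KStalk X y.1)ˣ) : KStalk X y.1) *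
          algebraMap _ (KStalk X y.1) (a₀ : X.presheaf.stalk y.1) := h1
    have h3 : (R.g y : KStalk X y.1) * algebraMap _ (KStalk X y.1) (u : X.presheaf.stalk y.1) =
        algebraMap _ (KStalk X y.1) (a₀ : X.presheaf.stalk y.1) := by
      rw [h2, ← mul_assoc, ← Units.val_mul, mul_inv_cancel, Units.val_one, one_mul]
    refine ⟨(a₀ : X.presheaf.stalk y.1) * ((u⁻¹ : (X.presheaf.stalk y.1)ˣ) : X.presheaf.stalk y.1), ?_⟩
    have h4 : X.presheaf.germ V y.1 y.2 R.a * (u : X.presheaf.stalk y.1) =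
        X.presheaf.germ V y.1 y.2 R.b * (a₀ : X.presheaf.stalk y.1) := by
      apply algebraMap_KStalk_injective y.1
      rw [map_mul, map_mul, ← R.hg y, ← h3]
      ring
    calc X.presheaf.germ V y.1 y.2 R.a
        = X.presheaf.germ V y.1 y.2 R.a * (u : X.presheaf.stalk y.1) *
          ((u⁻¹ : (X.presheaf.stalk y.1)ˣ) : X.presheaf.stalk y.1) := by
            rw [mul_assoc, Units.mul_inv, mul_one]
      _ = _ := by rw [h4, mul_assoc]
  · rintro ⟨c, hc⟩
    have hcreg : c ∈ regStalk X y.1 := mem_regStalk_of_mul y R.a R.b R.ha c hc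
    refine ⟨⟨c, hcreg⟩, ?_⟩
    rw [R.hD y]
    congr 1
    apply Units.ext
    change (R.g y : KStalk X y.1) = algebraMap _ (KStalk X y.1) c
    apply (R.isUnit_b y).mul_right_cancel
    rw [R.hg y, hc, map_mul, mul_comm]

theorem eq_one_iff (y : V) : D.1 y.1 = 1 ↔
    (∃ c, X.presheaf.germ V y.1 y.2 R.a = X.presheaf.germ V y.1 y.2 R.b * c) ∧
    (∃ c, X.presheaf.germ V y.1 y.2 R.b = X.presheaf.germ V y.1 y.2 R.a * c) := by
  constructor
  · intro h1
    rw [R.hD y, QuotientGroup.eq_one_iff] at h1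
    obtain ⟨u, hu⟩ := h1
    have h2 : algebraMap _ (KStalk X y.1) (u : X.presheaf.stalk y.1) = (R.g y : KStalk X y.1) :=
      congrArg (fun z : (KStalk X y.1)ˣ => (z : KStalk X y.1)) hu
    have h3 : X.presheaf.germ V y.1 y.2 R.a =
        X.presheaf.germ V y.1 y.2 R.b * (u : X.presheaf.stalk y.1) := by
      apply algebraMap_KStalk_injective y.1
      rw [map_mul, ← R.hg y, h2, mul_comm]
    refine ⟨⟨_, h3⟩, ⟨((u⁻¹ : (X.presheaf.stalk y.1)ˣ) : X.presheaf.stalk y.1), ?_⟩⟩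
    rw [h3, mul_assoc, Units.mul_inv, mul_one]
  · rintro ⟨⟨c, hc⟩, ⟨c', hc'⟩⟩
    have h1 : c * c' = 1 := by
      have hreg := R.ha y
      have h2 : X.presheaf.germ V y.1 y.2 R.a * (c * c' - 1) = 0 := by
        have : X.presheaf.germ V y.1 y.2 R.a * (c * c') = X.presheaf.germ V y.1 y.2 R.a := by
          conv_rhs => rw [hc, hc']
          ring
        rw [mul_sub, this, mul_one, sub_self]
      have h3 := (mem_nonZeroDivisors_iff.1 hreg).1 _ h2
      exact sub_eq_zero.1 h3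
    rw [R.hD y, QuotientGroup.eq_one_iff]
    refine ⟨Units.mkOfMulEqOne c c' h1, ?_⟩
    apply Units.ext
    change algebraMap _ (KStalk X y.1) c = (R.g y : KStalk X y.1)
    apply (R.isUnit_b y).mul_right_cancel
    rw [R.hg y, hc, map_mul, mul_comm]

end LocalRep

end Groth.Agent.Lead.MeroB
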