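import Mathlib
import Groth.Prelude.Def_MeroDiv
import Groth.Agent.Lead.MeroB

/-!
# Meromorphic functions which are regular at every point; domain of definition
-/

set_option autoImplicit false
set_option linter.style.haveILetI false
set_option linter.unusedSectionVars false

universe u

open CategoryTheory CategoryTheory.Limits AlgebraicGeometry TopologicalSpace Opposite IsLocalRing

namespace Groth.Agent.Lead.MeroD

open Mero Groth.Agent.Lead.MeroB

variable {X : Scheme.{u}}

theorem algebraMap_eq_mk (x : X) (r : X.presheaf.stalk x) :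
    algebraMap (X.presheaf.stalk x) (KStalk X x) r = LocalizedModule.mk r 1 := rfl

theorem toK_val {U : X.Opens} (r : Γ(X, U)) (y : U) :
    (toK X U r).1 y = algebraMap _ (KStalk X y.1) (X.presheaf.germ U y.1 y.2 r) := rfl

theorem kmod_ext {U : X.Opens} (s t : Γ(kmod X, U)) (h : ∀ y : U, s.1 y = t.1 y) : s = t :=
  Subtype.ext (funext h)

theorem section_ext' {U : X.Opens} (s t : Γ(X, U))
    (h : ∀ (y : X) (hy : y ∈ U), X.presheaf.germ U y hy s = X.presheaf.germ U y hy t) : s = t :=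
  TopCat.Presheaf.section_ext X.sheaf U s t h

theorem toK_injective (U : X.Opens) : Function.Injective (toK X U) := by
  intro a b hab
  apply section_ext'
  intro y hy
  apply algebraMap_KStalk_injective y
  have := congrArg (fun t : Γ(kmod X, U) => t.1 ⟨y, hy⟩) hab
  exact this

/-- if the value of a meromorphic function at `y` is regular, then it is a regular function near
`y` -/
theorem exists_nhd_eq_toK {U : X.Opens} (t : Γ(kmod X, U)) (y : U)
    (hy : t.1 y ∈ (algebraMap (X.presheaf.stalk y.1) (KStalk X y.1)).range) :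
    ∃ (W : X.Opens) (_ : y.1 ∈ W) (hWU : W ≤ U) (c : Γ(X, W)),
      ∀ z : W, t.1 ⟨z.1, hWU z.2⟩ =
        algebraMap _ (KStalk X z.1) (X.presheaf.germ W z.1 z.2 c) := by
  obtain ⟨c₀, hc₀⟩ := hy
  obtain ⟨V, hyV, hVU, a, b, hb, hab⟩ := exists_frac t y
  obtain ⟨V₁, hy₁, c₁, rfl⟩ := TopCat.Presheaf.exists_germ_eq X.presheaf c₀
  have hy₂ : y.1 ∈ V ⊓ V₁ := ⟨hyV, hy₁⟩
  have h0 : X.presheaf.germ V₁ y.1 hy₁ c₁ * X.presheaf.germ V y.1 hyV b =
      X.presheaf.germ V y.1 hyV a := by
    apply algebraMap_KStalk_injective y.1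
    rw [map_mul]
    have := hab ⟨y.1, hyV⟩
    simp only at this
    rw [← this]
    congr 1
  have h1 : X.presheaf.germ (V ⊓ V₁) y.1 hy₂ (X.presheaf.map (homOfLE inf_le_right).op c₁ *
      X.presheaf.map (homOfLE inf_le_left).op b) =
      X.presheaf.germ (V ⊓ V₁) y.1 hy₂ (X.presheaf.map (homOfLE inf_le_left).op a) := by
    rw [map_mul, TopCat.Presheaf.germ_res_apply, TopCat.Presheaf.germ_res_apply,
      TopCat.Presheaf.germ_res_apply]
    exact h0
  obtain ⟨W, hyW, i₁, i₂, h2⟩ := TopCat.Presheaf.germ_eq X.presheaf y.1 hy₂ hy₂ _ _ h1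
  have hWV : W ≤ V := i₁.le.trans inf_le_left
  have hWV₁ : W ≤ V₁ := i₁.le.trans inf_le_right
  refine ⟨W, hyW, hWV.trans hVU, X.presheaf.map (homOfLE hWV₁).op c₁, fun z => ?_⟩
  have hzVV : z.1 ∈ V ⊓ V₁ := ⟨hWV z.2, hWV₁ z.2⟩
  have h3 : X.presheaf.germ (V ⊓ V₁) z.1 hzVV (X.presheaf.map (homOfLE inf_le_right).op c₁ *
      X.presheaf.map (homOfLE inf_le_left).op b) =
      X.presheaf.germ (V ⊓ V₁) z.1 hzVV (X.presheaf.map (homOfLE inf_le_left).op a) := by
    have e1 := TopCat.Presheaf.germ_res_apply X.presheaf i₁ z.1 z.2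
      (X.presheaf.map (homOfLE inf_le_right).op c₁ * X.presheaf.map (homOfLE inf_le_left).op b)
    have e2 := TopCat.Presheaf.germ_res_apply X.presheaf i₂ z.1 z.2
      (X.presheaf.map (homOfLE inf_le_left).op a)
    rw [← e1, ← e2, h2]
  rw [map_mul, TopCat.Presheaf.germ_res_apply, TopCat.Presheaf.germ_res_apply,
    TopCat.Presheaf.germ_res_apply] at h3
  rw [TopCat.Presheaf.germ_res_apply]
  have hbu : IsUnit (algebraMap _ (KStalk X z.1) (X.presheaf.germ V z.1 (hWV z.2) b)) :=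
    IsLocalization.map_units (KStalk X z.1) (regGerm ⟨z.1, hWV z.2⟩ ⟨b, hb⟩)
  apply hbu.mul_right_cancel
  have h4 := hab ⟨z.1, hWV z.2⟩
  simp only at h4
  rw [h4, ← map_mul]
  congr 1
  exact h3.symm

/-- a meromorphic function all of whose values are regular is a regular function -/
theorem exists_eq_toK {U : X.Opens} (t : Γ(kmod X, U))
    (h : ∀ y : U, t.1 y ∈ (algebraMap (X.presheaf.stalk y.1) (KStalk X y.1)).range) :
    ∃ r : Γ(X, U), toK X U r = t := by
  choose W hyW hWU sf hsf using fun y : U => exists_nhd_eq_toK t y (h y)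
  have hcompat : TopCat.Presheaf.IsCompatible X.presheaf W sf := by
    intro i j
    apply section_ext'
    intro z hz
    rw [TopCat.Presheaf.germ_res_apply, TopCat.Presheaf.germ_res_apply]
    apply algebraMap_KStalk_injective z
    rw [← hsf i ⟨z, hz.1⟩, ← hsf j ⟨z, hz.2⟩]
  have hcover : U ≤ iSup W := by
    intro y hy
    exact Opens.mem_iSup.mpr ⟨⟨y, hy⟩, hyW ⟨y, hy⟩⟩
  obtain ⟨r, hr, -⟩ := TopCat.Sheaf.existsUnique_gluing' X.sheaf W U
    (fun i => homOfLE (hWU i)) hcover sf hcompat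
  refine ⟨r, kmod_ext _ _ fun y => ?_⟩
  rw [toK_val, hsf y ⟨y.1, hyW y⟩, ← hr y]
  congr 1
  exact (TopCat.Presheaf.germ_res_apply X.presheaf (homOfLE (hWU y)) _ (hyW y) r).symm

/-- the domain of definition of a meromorphic function is open -/
theorem isOpen_domain {U : X.Opens} (t : Γ(kmod X, U)) :
    IsOpen {x : X | ∃ hx : x ∈ U,
      t.1 ⟨x, hx⟩ ∈ (algebraMap (X.presheaf.stalk x) (KStalk X x)).range} := by
  rw [isOpen_iff_forall_mem_open]
  rintro x ⟨hx, hxt⟩
  obtain ⟨W, hxW, hWU, c, hc⟩ := exists_nhd_eq_toK t ⟨x, hx⟩ hxt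
  exact ⟨W, fun z hz => ⟨hWU hz, by rw [hc ⟨z, hz⟩]; exact ⟨_, rfl⟩⟩, W.isOpen, hxW⟩

/-- a section on an affine open `W` vanishing on `D(b)`, with `b_y` a non-zero-divisor, has zero germ
at `y` -/
theorem germ_eq_zero_of_res_basicOpen {W : X.Opens} (hW : IsAffineOpen W) (s b : Γ(X, W))
    (H : X.presheaf.map (homOfLE (X.basicOpen_le b)).op s = 0) (y : X) (hy : y ∈ W)
    (hb : X.presheaf.germ W y hy b ∈ nonZeroDivisors (X.presheaf.stalk y)) :
    X.presheaf.germ W y hy s = 0 := by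
  obtain ⟨n, hn⟩ := exists_pow_mul_eq_zero_of_res_basicOpen_eq_zero_of_isAffineOpen X hW s b H
  have h1 := congrArg (X.presheaf.germ W y hy) hn
  rw [map_mul, map_pow, map_zero] at h1
  exact (mem_nonZeroDivisors_iff.mp (pow_mem hb n)).1 _ h1

/-- where the denominator is invertible, a meromorphic function is regular -/
theorem mem_range_of_isUnit {x : X} (t : KStalk X x) (a b : X.presheaf.stalk x) (hb : IsUnit b)
    (h : t * algebraMap _ (KStalk X x) b = algebraMap _ (KStalk X x) a) :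
    t ∈ (algebraMap (X.presheaf.stalk x) (KStalk X x)).range := by
  obtain ⟨u, rfl⟩ := hb
  refine ⟨a * ((u⁻¹ : (X.presheaf.stalk x)ˣ) : X.presheaf.stalk x), ?_⟩
  rw [map_mul, ← h, mul_assoc, ← map_mul, Units.mul_inv, map_one, mul_one]

theorem s10856 (f : Γ(kmod X, ⊤)) :
    ∃ D : X.Opens,
      (D : Set X) = {x | f.1 ⟨x, Opens.mem_top x⟩ ∈
        (algebraMap (X.presheaf.stalk x) (KStalk X x)).range} ∧
        ∀ V : X.Opens, Function.Injective
          (X.presheaf.map (homOfLE (inf_le_left : V ⊓ D ≤ V)).op) := by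
  refine ⟨⟨_, isOpen_domain f⟩, ?_, fun V => ?_⟩
  · ext x
    exact ⟨fun ⟨_, h⟩ => h, fun h => ⟨trivial, h⟩⟩
  · rw [injective_iff_map_eq_zero]
    intro s hs
    apply section_ext'
    intro y hyV
    rw [map_zero]
    obtain ⟨V₀, hy₀, _, a, b, hb, hab⟩ := exists_frac f ⟨y, trivial⟩
    obtain ⟨W, hW, hyW, hWle⟩ := Opens.isBasis_iff_nbhd.mp X.isBasis_affineOpens
      (show y ∈ V ⊓ V₀ from ⟨hyV, hy₀⟩)
    have hWV : W ≤ V := hWle.trans inf_le_left
    have hWV₀ : W ≤ V₀ := hWle.trans inf_le_right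
    have key : X.basicOpen (X.presheaf.map (homOfLE hWV₀).op b) ≤
        V ⊓ ⟨_, isOpen_domain f⟩ := by
      intro z hz
      have hzW : z ∈ W := X.basicOpen_le _ hz
      refine ⟨hWV hzW, trivial, ?_⟩
      have hu := (Scheme.mem_basicOpen X _ z hzW).mp hz
      rw [TopCat.Presheaf.germ_res_apply] at hu
      exact mem_range_of_isUnit _ _ _ hu (hab ⟨z, hWV₀ hzW⟩)
    have H : X.presheaf.map (homOfLE (X.basicOpen_le (X.presheaf.map (homOfLE hWV₀).op b))).op
        (X.presheaf.map (homOfLE hWV).op s) = 0 := by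
      have e : X.presheaf.map (homOfLE (X.basicOpen_le (X.presheaf.map (homOfLE hWV₀).op b))).op
        (X.presheaf.map (homOfLE hWV).op s) = X.presheaf.map (homOfLE key).op
          (X.presheaf.map (homOfLE (inf_le_left : V ⊓ ⟨_, isOpen_domain f⟩ ≤ V)).op s) := by
        rw [← ConcreteCategory.comp_apply, ← ConcreteCategory.comp_apply, ← Functor.map_comp,
          ← Functor.map_comp]
        rfl
      rw [e, hs, map_zero]
    have h0 := germ_eq_zero_of_res_basicOpen hW _ _ H y hyW (by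
      rw [TopCat.Presheaf.germ_res_apply]
      exact hb ⟨y, hy₀⟩)
    rwa [TopCat.Presheaf.germ_res_apply] at h0

end Groth.Agent.Lead.MeroD
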