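import Mathlib
import Groth.Prelude.Def_MeroDiv
import Groth.Agent.Lead.MeroD

/-!
# `K_X(U)` is the total ring of fractions of `O_X(U)` for `U` affine in a locally Noetherian scheme
-/

set_option autoImplicit false
set_option linter.style.haveILetI false
set_option linter.unusedSectionVars false

universe u

open CategoryTheory CategoryTheory.Limits AlgebraicGeometry TopologicalSpace Opposite IsLocalRing

namespace Groth.Agent.Lead.MeroE

open Mero Groth.Agent.Lead.MeroB Groth.Agent.Lead.MeroD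

variable {X : Scheme.{u}}

/-- in the localization of a Noetherian ring at an associated prime, every non-zero-divisor is a
unit -/
theorem isUnit_of_mem_nonZeroDivisors_of_isAssociatedPrime {A S : Type*} [CommRing A]
    [IsNoetherianRing A] [CommRing S] [Algebra A S]
    (p : Ideal A) [p.IsPrime] [IsLocalization.AtPrime S p] (hp : IsAssociatedPrime p A)
    (β : S) (hβ : β ∈ nonZeroDivisors S) : IsUnit β := by
  obtain ⟨_, x₀, hx₀⟩ := isAssociatedPrime_iff.mp hp
  obtain ⟨⟨b, s⟩, hbs⟩ := IsLocalization.surj p.primeCompl β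
  simp only at hbs
  by_cases hb : b ∈ p
  · exfalso
    have h1 : b * x₀ = 0 := by
      have : b ∈ Submodule.colon (⊥ : Submodule A A) {x₀} := hx₀ ▸ hb
      rw [Submodule.mem_colon_singleton] at this
      simpa using this
    have h2 : β * algebraMap A S (s * x₀) = 0 := by
      rw [map_mul, ← mul_assoc, hbs, ← map_mul, h1, map_zero]
    have h3 : algebraMap A S (s * x₀) = 0 :=
      (mem_nonZeroDivisors_iff.mp hβ).1 _ h2
    obtain ⟨m, hm⟩ := (IsLocalization.map_eq_zero_iff p.primeCompl S _).mp h3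
    have h4 : (m : A) * s ∈ p := by
      have : (m : A) * s ∈ Submodule.colon (⊥ : Submodule A A) {x₀} := by
        rw [Submodule.mem_colon_singleton]
        simp only [smul_eq_mul, Submodule.mem_bot]
        rw [mul_assoc]
        exact hm
      exact hx₀ ▸ this
    rcases Ideal.IsPrime.mem_or_mem inferInstance h4 with h | h
    · exact m.2 h
    · exact s.2 h
  · have hu : IsUnit (algebraMap A S b) := IsLocalization.map_units S (⟨b, hb⟩ : p.primeCompl)
    rw [← hbs] at hu
    exact isUnit_of_mul_isUnit_left hu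

/-- on an affine open, the sections with non-zero-divisor germs are the non-zero-divisors
(copy of `Groth.Agent.S12513.result`, by helper6) -/
theorem regSub_eq_nonZeroDivisors {U : X.Opens}
    (hU : IsAffineOpen U) : Mero.regSub X U = nonZeroDivisors Γ(X, U) := by
  ext f
  constructor
  · intro hf
    rw [mem_nonZeroDivisors_iff_right]
    intro a ha
    apply eq_zero_of_localization
    intro J hJ
    have hJp : J.IsPrime := hJ.isPrime
    let y : PrimeSpectrum Γ(X, U) := ⟨J, hJp⟩
    have hy : hU.fromSpec y ∈ U := by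
      have := hU.opensRange_fromSpec
      have h0 : hU.fromSpec y ∈ hU.fromSpec.opensRange := ⟨y, rfl⟩
      rw [this] at h0
      exact h0
    have hloc := hU.isLocalization_stalk' y hy
    have h1 := hf ⟨_, hy⟩
    have h2 : X.presheaf.germ U (hU.fromSpec y) hy a * X.presheaf.germ U (hU.fromSpec y) hy f = 0 := by
      rw [← map_mul, ha, map_zero]
    have h3 : X.presheaf.germ U (hU.fromSpec y) hy a = 0 := (mem_nonZeroDivisors_iff_right.mp h1) _ h2
    letI := TopCat.Presheaf.algebra_section_stalk X.presheaf ⟨hU.fromSpec y, hy⟩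
    have hloc' : IsLocalization J.primeCompl (X.presheaf.stalk (hU.fromSpec y)) := hloc
    have h4 := (IsLocalization.map_eq_zero_iff J.primeCompl (X.presheaf.stalk (hU.fromSpec y)) a).mp h3
    obtain ⟨m, hm⟩ := h4
    exact (IsLocalization.map_eq_zero_iff J.primeCompl (Localization.AtPrime J) a).mpr ⟨m, hm⟩
  · intro hf x
    have hloc := hU.isLocalization_stalk x
    exact IsLocalization.map_nonZeroDivisors_le (hU.primeIdealOf x).asIdeal.primeCompl
      (X.presheaf.stalk x) ⟨f, hf, rfl⟩

/-- the inverse of a regular section in `K_X(U)` -/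
noncomputable def invReg {U : X.Opens} (s : regSub X U) : Γ(kmod X, U) :=
  ⟨fun y => LocalizedModule.mk 1 (regGerm y s), fun y => ⟨U, y.2, 𝟙 _, 1, s, fun z =>
    mk_congr (map_one _).symm rfl⟩⟩

theorem toK_mul_invReg {U : X.Opens} (s : regSub X U) : toK X U s.1 * invReg s = 1 := by
  apply kmod_ext
  intro y
  change (LocalizedModule.mk (X.presheaf.germ U y.1 y.2 s.1) 1 : KStalk X y.1) *
    LocalizedModule.mk 1 (regGerm y s) = 1
  refine LocalizedModule.mk_mul_mk.trans ?_
  rw [mul_one, one_mul]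
  exact mk_self_eq_one (regGerm y s)

theorem isUnit_toK {U : X.Opens} (s : Γ(X, U)) (hs : s ∈ regSub X U) : IsUnit (toK X U s) :=
  IsUnit.of_mul_eq_one _ (toK_mul_invReg ⟨s, hs⟩)

/-- a meromorphic function vanishing on the locus where a regular section `h` is invertible
vanishes -/
theorem eq_zero_of_basicOpen {U : X.Opens} (t : Γ(kmod X, U)) (h : Γ(X, U)) (hh : h ∈ regSub X U)
    (H : ∀ z : U, z.1 ∈ X.basicOpen h → t.1 z = 0) : t = 0 := by
  apply kmod_ext
  intro y
  obtain ⟨V, hyV, hVU, a, b, hb, hab⟩ := exists_frac t y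
  obtain ⟨W, hW, hyW, hWV⟩ := Opens.isBasis_iff_nbhd.mp X.isBasis_affineOpens hyV
  have hWU : W ≤ U := hWV.trans hVU
  have H' : X.presheaf.map (homOfLE (X.basicOpen_le (X.presheaf.map (homOfLE hWU).op h))).op
      (X.presheaf.map (homOfLE hWV).op a) = 0 := by
    apply section_ext'
    intro z hz
    rw [map_zero, TopCat.Presheaf.germ_res_apply, TopCat.Presheaf.germ_res_apply]
    have hzW : z ∈ W := X.basicOpen_le _ hz
    apply algebraMap_KStalk_injective z
    rw [map_zero, ← hab ⟨z, hWV hzW⟩]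
    have hz' : z ∈ X.basicOpen h := by
      rw [Scheme.mem_basicOpen X _ z (hWU hzW)]
      have := (Scheme.mem_basicOpen X _ z hzW).mp hz
      rwa [TopCat.Presheaf.germ_res_apply] at this
    have := H ⟨z, hWU hzW⟩ hz'
    simp only at this ⊢
    rw [this, zero_mul]
  have h0 := germ_eq_zero_of_res_basicOpen hW _ _ H' y.1 hyW (by
    rw [TopCat.Presheaf.germ_res_apply]
    exact hh y)
  rw [TopCat.Presheaf.germ_res_apply] at h0
  have h1 := hab ⟨y.1, hyV⟩
  simp only at h1
  rw [h0, map_zero] at h1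
  have hbu : IsUnit (algebraMap _ (KStalk X y.1) (X.presheaf.germ V y.1 hyV b)) :=
    IsLocalization.map_units (KStalk X y.1) (regGerm ⟨y.1, hyV⟩ ⟨b, hb⟩)
  exact hbu.mul_left_eq_zero.mp h1


/-- a meromorphic function is regular at the associated points -/
theorem mem_range_of_isAssociatedPrime [IsLocallyNoetherian X] {U : X.Opens} (hU : IsAffineOpen U)
    (t : Γ(kmod X, U)) (y : U)
    (hy : IsAssociatedPrime (hU.primeIdealOf y).asIdeal Γ(X, U)) :
    t.1 y ∈ (algebraMap (X.presheaf.stalk y.1) (KStalk X y.1)).range := by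
  haveI : IsNoetherianRing Γ(X, U) := IsLocallyNoetherian.component_noetherian ⟨U, hU⟩
  obtain ⟨⟨α, β⟩, h⟩ := IsLocalization.surj (regStalk X y.1) (t.1 y)
  simp only at h
  letI := TopCat.Presheaf.algebra_section_stalk X.presheaf y
  haveI := hU.isLocalization_stalk y
  have hβ : IsUnit (β : X.presheaf.stalk y.1) :=
    isUnit_of_mem_nonZeroDivisors_of_isAssociatedPrime (hU.primeIdealOf y).asIdeal hy _
      (regStalk_le_nonZeroDivisors y.1 β.2)
  exact mem_range_of_isUnit _ _ _ hβ h

/-- the ideal of functions `h` such that `t` is regular on `D(h)` -/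
def regIdeal {U : X.Opens} (t : Γ(kmod X, U)) : Ideal Γ(X, U) where
  carrier := {h | ∀ y : U, y.1 ∈ X.basicOpen h →
    t.1 y ∈ (algebraMap (X.presheaf.stalk y.1) (KStalk X y.1)).range}
  zero_mem' := by
    intro y hy
    rw [Scheme.basicOpen_zero] at hy
    exact (hy : y.1 ∈ (⊥ : X.Opens)).elim
  add_mem' := by
    intro a b ha hb y hy
    rw [Scheme.mem_basicOpen X _ y.1 y.2, map_add] at hy
    rcases IsLocalRing.isUnit_or_isUnit_of_isUnit_add hy with h | h
    · exact ha y ((Scheme.mem_basicOpen X _ y.1 y.2).mpr h)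
    · exact hb y ((Scheme.mem_basicOpen X _ y.1 y.2).mpr h)
  smul_mem' := by
    intro c a ha y hy
    rw [smul_eq_mul, Scheme.basicOpen_mul] at hy
    exact ha y hy.2

theorem exists_nonZeroDivisor_mul [IsLocallyNoetherian X] {U : X.Opens} (hU : IsAffineOpen U)
    (t : Γ(kmod X, U)) :
    ∃ (a s : Γ(X, U)), s ∈ nonZeroDivisors Γ(X, U) ∧ t * toK X U s = toK X U a := by
  haveI : IsNoetherianRing Γ(X, U) := IsLocallyNoetherian.component_noetherian ⟨U, hU⟩
  have hI : ¬ ((regIdeal t : Set Γ(X, U)) ⊆ ⋃ p ∈ associatedPrimes Γ(X, U) Γ(X, U), p) := by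
    rw [Ideal.subset_union_prime_finite (associatedPrimes.finite Γ(X, U) Γ(X, U)) ⊥ ⊥
      (fun p hp _ _ => IsAssociatedPrime.isPrime hp)]
    rintro ⟨p, hp, hIp⟩
    let pp : PrimeSpectrum Γ(X, U) := ⟨p, IsAssociatedPrime.isPrime hp⟩
    let y : U := hU.isoSpec.inv pp
    have hyp : hU.primeIdealOf y = pp := by
      change hU.isoSpec.hom (hU.isoSpec.inv pp) = pp
      rw [← Scheme.Hom.comp_apply, Iso.inv_hom_id]
      rfl
    have h1 := mem_range_of_isAssociatedPrime hU t y (by rw [hyp]; exact hp)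
    have hyD : y.1 ∈ (⟨_, isOpen_domain t⟩ : X.Opens) := ⟨y.2, h1⟩
    obtain ⟨h, hle, hyh⟩ := hU.exists_basicOpen_le ⟨y.1, hyD⟩ y.2
    have hhI : h ∈ regIdeal t := fun z hz => (hle hz).2
    have hhp : h ∈ p := hIp hhI
    letI := TopCat.Presheaf.algebra_section_stalk X.presheaf y
    haveI := hU.isLocalization_stalk y
    have hu := (Scheme.mem_basicOpen X _ y.1 y.2).mp hyh
    have := (IsLocalization.AtPrime.isUnit_to_map_iff (X.presheaf.stalk y.1)
      (hU.primeIdealOf y).asIdeal h).mp hu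
    rw [hyp] at this
    exact this hhp
  obtain ⟨h, hhI, hh⟩ := Set.not_subset.mp hI
  rw [biUnion_associatedPrimes_eq_compl_nonZeroDivisors] at hh
  have hh' : h ∈ nonZeroDivisors Γ(X, U) := Set.notMem_compl_iff.mp hh
  have hreg : h ∈ regSub X U := by rw [regSub_eq_nonZeroDivisors hU]; exact hh'
  -- `t` restricted to `D(h)` is a regular function
  let t' : Γ(kmod X, X.basicOpen h) := (kmod X).presheaf.map (homOfLE (X.basicOpen_le h)).op t
  obtain ⟨c, hc⟩ := exists_eq_toK t' (fun z => hhI ⟨z.1, X.basicOpen_le h z.2⟩ z.2)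
  haveI := hU.isLocalization_basicOpen h
  obtain ⟨n, a, hna⟩ := IsLocalization.Away.surj h c
  refine ⟨a, h ^ n, pow_mem hh' n, ?_⟩
  rw [← sub_eq_zero]
  apply eq_zero_of_basicOpen _ h hreg
  intro z hz
  have e1 : t.1 z = algebraMap _ (KStalk X z.1) (X.presheaf.germ (X.basicOpen h) z.1 hz c) := by
    have := congrArg (fun r : Γ(kmod X, X.basicOpen h) => r.1 ⟨z.1, hz⟩) hc
    exact this.symm
  have e2 := congrArg (X.presheaf.germ (X.basicOpen h) z.1 hz) hna
  rw [map_mul, map_pow] at e2
  have e3 : ∀ r : Γ(X, U), X.presheaf.germ (X.basicOpen h) z.1 hz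
      (algebraMap Γ(X, U) Γ(X, X.basicOpen h) r) = X.presheaf.germ U z.1 z.2 r := fun r =>
    TopCat.Presheaf.germ_res_apply X.presheaf (homOfLE (X.basicOpen_le h)) z.1 hz r
  rw [e3, e3] at e2
  change t.1 z * (toK X U (h ^ n)).1 z - (toK X U a).1 z = 0
  rw [toK_val, toK_val, e1, ← map_mul, map_pow, e2, sub_self]

theorem s8864 (X : Scheme.{u}) [IsLocallyNoetherian X] (U : X.affineOpens) :
    @IsLocalization Γ(X, U.1) _ (nonZeroDivisors Γ(X, U.1)) Γ(Mero.kmod X, U.1) _
      (Mero.toK X U.1).toAlgebra := by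
  letI := (Mero.toK X U.1).toAlgebra
  rw [isLocalization_iff]
  refine ⟨fun s => ?_, fun t => ?_, fun {a b} hab => ?_⟩
  · exact isUnit_toK s.1 (by rw [regSub_eq_nonZeroDivisors U.2]; exact s.2)
  · obtain ⟨a, s, hs, h⟩ := exists_nonZeroDivisor_mul U.2 t
    exact ⟨(a, ⟨s, hs⟩), h⟩
  · exact ⟨1, by rw [toK_injective U.1 hab]⟩

end Groth.Agent.Lead.MeroE
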