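import Mathlib
import Groth.Prelude.Def_MeroDiv
import Groth.Prelude.Def_Pic
import Groth.Agent.Lead.MeroD
import Groth.Agent.Lead.LocLift
import Groth.Agent.Lead.HomShL
import Groth.Agent.Helper2.MeroDiv1

/-!
# `O_X(D)` is invertible
-/

set_option autoImplicit false
set_option linter.style.haveILetI false
set_option linter.unusedSectionVars false

universe u

open CategoryTheory CategoryTheory.Limits AlgebraicGeometry TopologicalSpace Opposite IsLocalRing

namespace Groth.Agent.Lead.MeroF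

open Mero Groth.Agent.Lead.MeroB Groth.Agent.Lead.MeroD Groth.Agent.Lead.LocLift

variable {X : Scheme.{u}}

theorem homOfTop_app (N : X.Modules) (t : Γ(N, ⊤)) (V : X.Opens) (r : Γ(X, V)) :
    (homOfTop N t).app V r = r • N.presheaf.map (homOfLE (le_top : V ≤ ⊤)).op t := by
  have h1 : (homOfTop N t).app V (1 : Γ(X, V)) = N.presheaf.map (homOfLE (le_top : V ≤ ⊤)).op t := by
    have h2 := Groth.Agent.Helper4.StalkExact.app_res (homOfTop N t) (homOfLE (le_top : V ≤ ⊤))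
      (1 : Γ(X, ⊤))
    rw [homOfTop_app_one] at h2
    rw [← h2]
    congr 1
    exact (map_one (X.presheaf.map (homOfLE (le_top : V ≤ ⊤)).op).hom).symm
  rw [← h1, ← Scheme.Modules.Hom.app_smul]
  congr 1
  exact (mul_one r).symm


theorem s5096 (X : Scheme.{u}) (D : Mero.Divisor X) : PicF.IsInvertible (Mero.divMod D) := by
  intro y
  obtain ⟨U, hy, f, hU⟩ := D.2 y
  refine ⟨U, hy, ⟨?_⟩⟩
  have hle : U.ι ''ᵁ ⊤ ≤ U := by rw [Scheme.Opens.ι_image_top]
  let fi : Γ(kmod X, U) := ((f⁻¹ : (Γ(kmod X, U))ˣ) : Γ(kmod X, U))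
  let t₀ : Γ(divMod D, U.ι ''ᵁ ⊤) := ⟨fun z => fi.1 ⟨z.1, hle z.2⟩,
    ⟨((kmod X).presheaf.map (homOfLE hle).op fi).2,
     fun z => Groth.Agent.Helper2.MeroDiv1.divCond_inv D f ⟨z.1, hle z.2⟩ (hU _)⟩⟩
  let N := (divMod D).restrict U.ι
  let φ : Coh.structureModule ↑U ⟶ N := homOfTop N t₀
  have key : ∀ (V : (↑U : Scheme.{u}).Opens) (r : Γ(X, U.ι ''ᵁ V)) (z : ↥(U.ι ''ᵁ V)),
      (show Γ(divMod D, U.ι ''ᵁ V) from φ.app V r).1 z =
        algebraMap _ (KStalk X z.1) (X.presheaf.germ (U.ι ''ᵁ V) z.1 z.2 r) *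
          fi.1 ⟨z.1, U.ι_image_le V z.2⟩ := by
    intro V r z
    have h1 := homOfTop_app N t₀ V r
    have h2 : (show Γ(divMod D, U.ι ''ᵁ V) from φ.app V r) =
        ((U.ι.appIso V).inv r : Γ(X, U.ι ''ᵁ V)) •
          (show Γ(divMod D, U.ι ''ᵁ V) from N.presheaf.map (homOfLE (le_top : V ≤ ⊤)).op t₀) := h1
    rw [h2, Scheme.Opens.ι_appIso]
    change X.presheaf.germ (U.ι ''ᵁ V) z.1 z.2 r • fi.1 ⟨z.1, U.ι_image_le V z.2⟩ = _
    rw [Algebra.smul_def]
  have hfi : ∀ z : U, fi.1 z * (f : Γ(kmod X, U)).1 z = 1 := by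
    intro z
    have := congrArg (fun t : Γ(kmod X, U) => t.1 z) (Units.inv_mul f)
    exact this
  haveI : IsIso φ := by
    apply Groth.Agent.Lead.HomShL.isIso_of_app_bijective
    intro V
    constructor
    · intro r r' hrr
      apply section_ext' (X := X) (U := U.ι ''ᵁ V)
      intro z hz
      apply algebraMap_KStalk_injective z
      have h1 := key V r ⟨z, hz⟩
      have h2 := key V r' ⟨z, hz⟩
      have h0 : (show Γ(divMod D, U.ι ''ᵁ V) from φ.app V r).1 ⟨z, hz⟩ =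
          (show Γ(divMod D, U.ι ''ᵁ V) from φ.app V r').1 ⟨z, hz⟩ := by
        have := congrArg (fun t : Γ(divMod D, U.ι ''ᵁ V) => t.1 ⟨z, hz⟩) hrr
        exact this
      have h3 := h1.symm.trans (h0.trans h2)
      have h4 := congrArg (fun t => t * (f : Γ(kmod X, U)).1 ⟨z, U.ι_image_le V hz⟩) h3
      simp only [mul_assoc] at h4
      rw [hfi, mul_one, mul_one] at h4
      exact h4
    · intro s
      let s' : Γ(divMod D, U.ι ''ᵁ V) := s
      let fV : Γ(kmod X, U.ι ''ᵁ V) :=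
        (kmod X).presheaf.map (homOfLE (U.ι_image_le V)).op (f : Γ(kmod X, U))
      let sk : Γ(kmod X, U.ι ''ᵁ V) := ⟨s'.1, s'.2.1⟩
      obtain ⟨r, hr⟩ := exists_eq_toK (sk * fV)
        (fun z => s'.2.2 z _ (hU ⟨z.1, U.ι_image_le V z.2⟩))
      refine ⟨r, ?_⟩
      apply Subtype.ext
      funext z
      have h1 := key V r z
      refine h1.trans ?_
      have h2 := congrArg (fun t : Γ(kmod X, U.ι ''ᵁ V) => t.1 z) hr
      have h3 : algebraMap _ (KStalk X z.1) (X.presheaf.germ (U.ι ''ᵁ V) z.1 z.2 r) =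
          s'.1 z * (f : Γ(kmod X, U)).1 ⟨z.1, U.ι_image_le V z.2⟩ := h2
      rw [h3, mul_assoc, mul_comm ((f : Γ(kmod X, U)).1 _), hfi, mul_one]
  exact (asIso φ).symm

end Groth.Agent.Lead.MeroF
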