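import Mathlib
import Groth.Prelude.Def_MeroDiv
import Groth.Prelude.Def_Pic
import Groth.Agent.Lead.MeroF
import Groth.Agent.Lead.MeroE

/-!
# Invertible fractional ideals (S5102)
-/

set_option autoImplicit false
set_option linter.style.haveILetI false
set_option linter.unusedSectionVars false

universe u

open CategoryTheory CategoryTheory.Limits AlgebraicGeometry TopologicalSpace Opposite IsLocalRing

namespace Groth.Agent.Lead.MeroL

open Mero Groth.Agent.Lead.MeroB Groth.Agent.Lead.MeroD Groth.Agent.Lead.MeroE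
  Groth.Agent.Lead.MeroF Groth.Agent.Lead.LocLift

variable {X : Scheme.{u}}

theorem app_injective_of_mono {N M : X.Modules} (i : N ⟶ M) [Mono i]
    (V : X.Opens) : Function.Injective (Scheme.Modules.Hom.app i V) := by
  have h1 : Mono ((Scheme.Modules.toPresheaf X).map i) := inferInstance
  have h2 : Mono (((Scheme.Modules.toPresheaf X).map i).app (op V)) := inferInstance
  exact (AddCommGrpCat.mono_iff_injective _).mp h2

theorem range_eq (J : X.Modules) (ι : J ⟶ kmod X) (V : X.Opens) :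
    Set.range ⇑(ι.val.app (op V)) = Set.range ⇑(ι.app V) := rfl

/-- the action of functions on meromorphic functions is multiplication -/
theorem smul_eq_toK_mul {V : X.Opens} (r : Γ(X, V)) (t : Γ(kmod X, V)) :
    r • t = toK X V r * t := by
  apply kmod_ext
  intro y
  change X.presheaf.germ V y.1 y.2 r • t.1 y = (toK X V r).1 y * t.1 y
  rw [toK_val, Algebra.smul_def]

theorem res_mul {U V : X.Opens} (i : V ⟶ U) (s t : Γ(kmod X, U)) :
    (kmod X).presheaf.map i.op (s * t) =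
      (kmod X).presheaf.map i.op s * (kmod X).presheaf.map i.op t := rfl

theorem res_toK {U V : X.Opens} (i : V ⟶ U) (r : Γ(X, U)) :
    (kmod X).presheaf.map i.op (toK X U r) = toK X V (X.presheaf.map i.op r) := by
  apply kmod_ext
  intro y
  change (toK X U r).1 ⟨y.1, i.le y.2⟩ = (toK X V (X.presheaf.map i.op r)).1 y
  rw [toK_val, toK_val, TopCat.Presheaf.germ_res_apply]

theorem res_one {U V : X.Opens} (i : V ⟶ U) :
    (kmod X).presheaf.map i.op (1 : Γ(kmod X, U)) = 1 := rfl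

theorem isUnit_res {U V : X.Opens} (i : V ⟶ U) (f : (Γ(kmod X, U))ˣ) :
    IsUnit ((kmod X).presheaf.map i.op (f : Γ(kmod X, U))) := by
  refine IsUnit.of_mul_eq_one ((kmod X).presheaf.map i.op ((f⁻¹ : (Γ(kmod X, U))ˣ) : Γ(kmod X, U))) ?_
  rw [← res_mul, Units.mul_inv, res_one]


theorem app_res {F G : X.Modules} (φ : F ⟶ G) {V W : X.Opens} (i : W ⟶ V) (m : Γ(F, V)) :
    φ.app W (F.presheaf.map i.op m) = G.presheaf.map i.op (φ.app V m) := by
  have := φ.mapPresheaf.naturality i.op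
  exact congrArg (fun f => f.hom m) this

theorem isInvertible_of_local (J : X.Modules) (ι : J ⟶ kmod X) [Mono ι]
    (h : ∀ x : X, ∃ (U : X.Opens) (_ : x ∈ U) (f : (Γ(kmod X, U))ˣ), ∀ (V : X.Opens) (hV : V ≤ U),
      Set.range ⇑(ι.app V) = {t : Γ(kmod X, V) | ∃ r : Γ(X, V),
        t = toK X V r * (kmod X).presheaf.map (homOfLE hV).op (f : Γ(kmod X, U))}) :
    PicF.IsInvertible J := by
  intro y
  obtain ⟨U, hy, f, hU⟩ := h y
  refine ⟨U, hy, ?_⟩
  have hle : U.ι ''ᵁ ⊤ ≤ U := by rw [Scheme.Opens.ι_image_top]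
  have h0 : (kmod X).presheaf.map (homOfLE hle).op (f : Γ(kmod X, U)) ∈
      Set.range ⇑(ι.app (U.ι ''ᵁ ⊤)) := by
    rw [hU _ hle]
    exact ⟨1, by rw [map_one, one_mul]⟩
  obtain ⟨t₀, ht₀⟩ := h0
  let N := J.restrict U.ι
  let φ : Coh.structureModule ↑U ⟶ N := homOfTop N t₀
  have key : ∀ (V : (↑U : Scheme.{u}).Opens) (r : Γ(X, U.ι ''ᵁ V)),
      ι.app (U.ι ''ᵁ V) (show Γ(J, U.ι ''ᵁ V) from φ.app V r) =
        toK X _ r * (kmod X).presheaf.map (homOfLE (U.ι_image_le V)).op (f : Γ(kmod X, U)) := by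
    intro V r
    have h1 := homOfTop_app N t₀ V r
    have h2 : (show Γ(J, U.ι ''ᵁ V) from φ.app V r) =
        ((U.ι.appIso V).inv r : Γ(X, U.ι ''ᵁ V)) •
          (show Γ(J, U.ι ''ᵁ V) from N.presheaf.map (homOfLE (le_top : V ≤ ⊤)).op t₀) := h1
    rw [h2, Scheme.Opens.ι_appIso, Scheme.Modules.Hom.app_smul]
    have h3 : (show Γ(J, U.ι ''ᵁ V) from N.presheaf.map (homOfLE (le_top : V ≤ ⊤)).op t₀) =
        J.presheaf.map (homOfLE (show U.ι ''ᵁ V ≤ U.ι ''ᵁ ⊤ from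
          (Scheme.Hom.opensFunctor U.ι).monotone le_top)).op t₀ := rfl
    rw [h3, app_res, ht₀, smul_eq_toK_mul]
    rfl
  haveI : IsIso φ := by
    apply Groth.Agent.Lead.HomShL.isIso_of_app_bijective
    intro V
    constructor
    · intro r r' hrr
      have h1 := key V r
      have h2 := key V r'
      have h0 : ι.app (U.ι ''ᵁ V) (show Γ(J, U.ι ''ᵁ V) from φ.app V r) =
          ι.app (U.ι ''ᵁ V) (show Γ(J, U.ι ''ᵁ V) from φ.app V r') := congrArg _ hrr
      rw [h1, h2] at h0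
      have h3 := (isUnit_res (homOfLE (U.ι_image_le V)) f).mul_left_injective h0
      exact toK_injective (X := X) (U.ι ''ᵁ V) h3
    · intro s
      have hs : ι.app (U.ι ''ᵁ V) (show Γ(J, U.ι ''ᵁ V) from s) ∈
          Set.range ⇑(ι.app (U.ι ''ᵁ V)) := ⟨_, rfl⟩
      rw [hU _ (U.ι_image_le V)] at hs
      obtain ⟨r, hr⟩ := hs
      refine ⟨r, ?_⟩
      apply app_injective_of_mono ι (U.ι ''ᵁ V)
      exact (key V r).trans hr.symm
  exact ⟨(asIso φ).symm⟩


/-- a meromorphic function which is locally invertible is invertible -/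
theorem isUnit_of_locally {U : X.Opens} (f : Γ(kmod X, U))
    (h : ∀ y : U, ∃ (V : X.Opens) (_ : y.1 ∈ V) (hVU : V ≤ U) (g : Γ(kmod X, V)),
      (kmod X).presheaf.map (homOfLE hVU).op f * g = 1) : IsUnit f := by
  choose V hyV hVU g hg using h
  have hpt : ∀ (y : U) (z : X) (hz : z ∈ V y), f.1 ⟨z, hVU y hz⟩ * (g y).1 ⟨z, hz⟩ = 1 := by
    intro y z hz
    exact congrArg (fun t : Γ(kmod X, V y) => t.1 ⟨z, hz⟩) (hg y)
  let G : ∀ y : U, KStalk X y.1 := fun y => (g y).1 ⟨y.1, hyV y⟩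
  have hG : (kLoc X).pred G := by
    apply (kLoc X).locality
    intro y
    refine ⟨V y, hyV y, homOfLE (hVU y), ?_⟩
    have : (fun z : V y => G ⟨z.1, hVU y z.2⟩) = (g y).1 := by
      funext z
      have h1 := hpt ⟨z.1, hVU y z.2⟩ z.1 (hyV _)
      have h2 := hpt y z.1 z.2
      calc G ⟨z.1, hVU y z.2⟩
          = G ⟨z.1, hVU y z.2⟩ * (f.1 ⟨z.1, hVU y z.2⟩ * (g y).1 z) := by rw [h2, mul_one]
        _ = (f.1 ⟨z.1, hVU y z.2⟩ * G ⟨z.1, hVU y z.2⟩) * (g y).1 z := by ring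
        _ = (g y).1 z := by rw [h1, one_mul]
    exact this ▸ (g y).2
  refine IsUnit.of_mul_eq_one ⟨G, hG⟩ ?_
  apply kmod_ext
  intro y
  exact hpt y y.1 (hyV y)

theorem key_lemma (J : X.Modules) (ι : J ⟶ kmod X) (U : X.Opens) (t₀ : Γ(J, U.ι ''ᵁ ⊤))
    (V : (↑U : Scheme.{u}).Opens) (r : Γ(X, U.ι ''ᵁ V)) :
    ι.app (U.ι ''ᵁ V) (show Γ(J, U.ι ''ᵁ V) from (homOfTop (J.restrict U.ι) t₀).app V r) =
      toK X _ r * (kmod X).presheaf.map (homOfLE (show U.ι ''ᵁ V ≤ U.ι ''ᵁ ⊤ from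
          (Scheme.Hom.opensFunctor U.ι).monotone le_top)).op (ι.app _ t₀) := by
  have h1 := homOfTop_app (J.restrict U.ι) t₀ V r
  have h2 : (show Γ(J, U.ι ''ᵁ V) from (homOfTop (J.restrict U.ι) t₀).app V r) =
      ((U.ι.appIso V).inv r : Γ(X, U.ι ''ᵁ V)) •
        (show Γ(J, U.ι ''ᵁ V) from
          (J.restrict U.ι).presheaf.map (homOfLE (le_top : V ≤ ⊤)).op t₀) := h1
  rw [h2, Scheme.Opens.ι_appIso, Scheme.Modules.Hom.app_smul]
  have h3 : (show Γ(J, U.ι ''ᵁ V) from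
      (J.restrict U.ι).presheaf.map (homOfLE (le_top : V ≤ ⊤)).op t₀) =
      J.presheaf.map (homOfLE (show U.ι ''ᵁ V ≤ U.ι ''ᵁ ⊤ from
        (Scheme.Hom.opensFunctor U.ι).monotone le_top)).op t₀ := rfl
  rw [h3, app_res, smul_eq_toK_mul]
  rfl

theorem local_of_isInvertible (J : X.Modules) (ι : J ⟶ kmod X) [Mono ι]
    (hJ : PicF.IsInvertible J) (x : X) :
    ∃ (U : X.Opens) (_ : x ∈ U) (f : (Γ(kmod X, U))ˣ), ∀ (V : X.Opens) (hV : V ≤ U),
      Set.range ⇑(ι.app V) = {t : Γ(kmod X, V) | ∃ r : Γ(X, V),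
        t = toK X V r * (kmod X).presheaf.map (homOfLE hV).op (f : Γ(kmod X, U))} := by
  obtain ⟨U, hx, ⟨α⟩⟩ := hJ x
  have hU' : U.ι ''ᵁ ⊤ = U := Scheme.Opens.ι_image_top U
  have hx' : x ∈ U.ι ''ᵁ ⊤ := by rw [hU']; exact hx
  let N := J.restrict U.ι
  let e₀ : Γ(J, U.ι ''ᵁ ⊤) := α.inv.app ⊤ (1 : Γ(X, U.ι ''ᵁ ⊤))
  have hψ : α.inv = homOfTop N e₀ := hom_unit_ext _ _ (by rw [homOfTop_app_one]; rfl)
  let fU : Γ(kmod X, U.ι ''ᵁ ⊤) := ι.app _ e₀
  have key : ∀ (W : (↑U : Scheme.{u}).Opens) (r : Γ(X, U.ι ''ᵁ W)),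
      ι.app (U.ι ''ᵁ W) (show Γ(J, U.ι ''ᵁ W) from α.inv.app W r) =
        toK X _ r * (kmod X).presheaf.map (homOfLE (show U.ι ''ᵁ W ≤ U.ι ''ᵁ ⊤ from
          (Scheme.Hom.opensFunctor U.ι).monotone le_top)).op fU := by
    intro W r
    rw [hψ]
    exact key_lemma J ι U e₀ W r
  have hsurj : ∀ (W : (↑U : Scheme.{u}).Opens) (s : Γ(J, U.ι ''ᵁ W)),
      ∃ r : Γ(X, U.ι ''ᵁ W), (show Γ(J, U.ι ''ᵁ W) from α.inv.app W r) = s := by
    intro W s
    refine ⟨α.hom.app W s, ?_⟩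
    have h1 : (α.hom ≫ α.inv).app W s = s := by rw [Iso.hom_inv_id]; rfl
    exact h1
  have hinj : ∀ (W : (↑U : Scheme.{u}).Opens) (r : Γ(X, U.ι ''ᵁ W)),
      (show Γ(J, U.ι ''ᵁ W) from α.inv.app W r) = 0 → r = 0 := by
    intro W r hr
    have h1 : (α.inv ≫ α.hom).app W r = r := by rw [Iso.inv_hom_id]; rfl
    rw [← h1]
    change α.hom.app W (α.inv.app W r) = 0
    have h2 : α.inv.app W r = 0 := hr
    rw [h2, map_zero]
  have hform : ∀ V : X.Opens, V ≤ U.ι ''ᵁ ⊤ → ∃ W : (↑U : Scheme.{u}).Opens, V = U.ι ''ᵁ W := by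
    intro V hV
    refine ⟨U.ι ⁻¹ᵁ V, ?_⟩
    rw [Scheme.Hom.image_preimage_eq_opensRange_inf, Scheme.Opens.opensRange_ι]
    rw [hU'] at hV
    exact (inf_eq_right.mpr hV).symm
  -- the range statement
  have hrange : ∀ (V : X.Opens) (hV : V ≤ U.ι ''ᵁ ⊤),
      Set.range ⇑(ι.app V) = {t : Γ(kmod X, V) | ∃ r : Γ(X, V),
        t = toK X V r * (kmod X).presheaf.map (homOfLE hV).op fU} := by
    intro V hV
    obtain ⟨W, rfl⟩ := hform V hV
    ext t
    constructor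
    · rintro ⟨s, rfl⟩
      obtain ⟨r, rfl⟩ := hsurj W s
      exact ⟨r, key W r⟩
    · rintro ⟨r, rfl⟩
      exact ⟨_, key W r⟩
  -- `fU` is a unit
  have hunit : IsUnit fU := by
    apply isUnit_of_locally
    intro y
    obtain ⟨V, hyV, hVU, a, b, hb, hab⟩ := exists_frac fU y
    have ha : a ∈ regSub X V := by
      intro z
      rw [mem_nonZeroDivisors_iff_right]
      intro c hc
      obtain ⟨V₁, hz₁, c₁, rfl⟩ := TopCat.Presheaf.exists_germ_eq X.presheaf c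
      have hz₂ : z.1 ∈ V ⊓ V₁ := ⟨z.2, hz₁⟩
      have h1 : X.presheaf.germ (V ⊓ V₁) z.1 hz₂ (X.presheaf.map (homOfLE inf_le_right).op c₁ *
          X.presheaf.map (homOfLE inf_le_left).op a) =
          X.presheaf.germ (V ⊓ V₁) z.1 hz₂ 0 := by
        rw [map_mul, TopCat.Presheaf.germ_res_apply, TopCat.Presheaf.germ_res_apply, map_zero]
        exact hc
      obtain ⟨V₂, hzV₂, i₁, i₂, h2⟩ := TopCat.Presheaf.germ_eq X.presheaf z.1 hz₂ hz₂ _ _ h1
      rw [map_zero, map_mul] at h2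
      have hV₂V : V₂ ≤ V := i₁.le.trans inf_le_left
      have hV₂V₁ : V₂ ≤ V₁ := i₁.le.trans inf_le_right
      obtain ⟨W, hW⟩ := hform V₂ (hV₂V.trans hVU)
      subst hW
      set c₂ := X.presheaf.map (homOfLE hV₂V₁).op c₁ with hc₂
      set a₂ := X.presheaf.map (homOfLE hV₂V).op a with ha₂
      set b₂ := X.presheaf.map (homOfLE hV₂V).op b with hb₂
      have h3 : c₂ * a₂ = 0 := by
        rw [hc₂, ha₂]
        convert h2 using 2 <;> rw [← Functor.map_comp_apply] <;> rfl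
      have hb₂reg : b₂ ∈ regSub X (U.ι ''ᵁ W) := regSub_res _ hb
      -- `toK c₂ * fU| = 0`
      have h4 : (kmod X).presheaf.map (homOfLE (hV₂V.trans hVU)).op fU * toK X _ b₂ =
          toK X _ a₂ := by
        apply kmod_ext
        intro w
        have := hab ⟨w.1, hV₂V w.2⟩
        change fU.1 ⟨w.1, _⟩ * (toK X _ b₂).1 w = (toK X _ a₂).1 w
        rw [toK_val, toK_val, hb₂, ha₂, TopCat.Presheaf.germ_res_apply,
          TopCat.Presheaf.germ_res_apply]
        exact this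
      have h5 : toK X _ c₂ * (kmod X).presheaf.map (homOfLE (hV₂V.trans hVU)).op fU = 0 := by
        have hbu : IsUnit (toK X _ b₂) := isUnit_toK b₂ hb₂reg
        apply hbu.mul_left_eq_zero.mp
        rw [mul_assoc, h4, ← map_mul, h3, map_zero]
      have h6 : (show Γ(J, U.ι ''ᵁ W) from α.inv.app W c₂) = 0 := by
        apply app_injective_of_mono ι (U.ι ''ᵁ W)
        rw [key W c₂, map_zero]
        exact h5
      have h7 := hinj W c₂ h6
      rw [← TopCat.Presheaf.germ_res_apply X.presheaf (homOfLE hV₂V₁) z.1 hzV₂ c₁, ← hc₂, h7,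
        map_zero]
    refine ⟨V, hyV, hVU, toK X V b * invReg ⟨a, ha⟩, ?_⟩
    have h4 : (kmod X).presheaf.map (homOfLE hVU).op fU * toK X V b = toK X V a := by
      apply kmod_ext
      intro w
      exact hab w
    rw [← mul_assoc, h4]
    exact toK_mul_invReg ⟨a, ha⟩
  refine ⟨U.ι ''ᵁ ⊤, hx', hunit.unit, fun V hV => ?_⟩
  rw [hrange V hV]
  rfl

theorem s5102 (X : Scheme.{u}) (J : X.Modules) (ι : J ⟶ Mero.kmod X) [Mono ι] :
    PicF.IsInvertible J ↔ ∀ x : ↥X, ∃ (U : X.Opens) (_ : x ∈ U) (f : (Γ(Mero.kmod X, U))ˣ),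
      ∀ (V : X.Opens) (hV : V ≤ U),
        Set.range ⇑(ι.val.app (Opposite.op V)) =
          {t : Γ(Mero.kmod X, V) | ∃ r : Γ(X, V),
            t = Mero.toK X V r *
              (Mero.kmod X).presheaf.map (homOfLE hV).op (f : Γ(Mero.kmod X, U))} :=
  ⟨fun hJ x => local_of_isInvertible J ι hJ x, fun h => isInvertible_of_local J ι h⟩

end Groth.Agent.Lead.MeroL
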