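import Mathlib
import Groth.Prelude.Def_MeroDiv
import Groth.Prelude.Def_Pic
import Groth.Agent.Lead.MeroL

/-!
# Local bases of invertible modules, and the induced bases of `S_x⁻¹ L_x`
-/

set_option autoImplicit false
set_option linter.style.haveILetI false
set_option linter.unusedSectionVars false

universe u

open CategoryTheory CategoryTheory.Limits AlgebraicGeometry TopologicalSpace Opposite IsLocalRing

namespace Groth.Agent.Lead.MeroM

section Alg
variable {R : Type*} [CommRing R] {S : Submonoid R} {M : Type*} [AddCommGroup M] [Module R M]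

/-- `ε` is a basis of the `R`-module `M` (free of rank one) -/
def IsBasisElt (R : Type*) [CommRing R] {M : Type*} [AddCommGroup M] [Module R M] (ε : M) : Prop :=
  (∀ μ : M, ∃ ρ : R, μ = ρ • ε) ∧ ∀ ρ : R, ρ • ε = 0 → ρ = 0

theorem IsBasisElt.loc_exists {ε : M} (h : IsBasisElt R ε) (σ : LocalizedModule S M) :
    ∃ q : Localization S, σ = q • (LocalizedModule.mk ε 1 : LocalizedModule S M) := by
  induction σ using LocalizedModule.induction_on with
  | h μ s =>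
    obtain ⟨ρ, rfl⟩ := h.1 μ
    refine ⟨Localization.mk ρ s, ?_⟩
    rw [LocalizedModule.mk_smul_mk, mul_one]

theorem IsBasisElt.loc_eq_zero (hS : S ≤ nonZeroDivisors R) {ε : M} (h : IsBasisElt R ε)
    (q : Localization S)
    (hq : q • (LocalizedModule.mk ε 1 : LocalizedModule S M) = 0) : q = 0 := by
  induction q using Localization.induction_on with
  | H y =>
    obtain ⟨α, β⟩ := y
    rw [LocalizedModule.mk_smul_mk, mul_one, ← LocalizedModule.zero_mk β,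
      LocalizedModule.mk_eq] at hq
    obtain ⟨c, hc⟩ := hq
    rw [smul_zero, smul_zero] at hc
    have h1 : ((c : R) * (β : R) * α) • ε = 0 := by
      rw [mul_smul, mul_smul]; exact hc
    have h2 := h.2 _ h1
    have h3 : α = 0 := by
      have hcβ : (c : R) * (β : R) ∈ nonZeroDivisors R := mul_mem (hS c.2) (hS β.2)
      exact (mul_left_mem_nonZeroDivisors_eq_zero_iff hcβ).mp h2
    rw [h3, Localization.mk_zero]

theorem IsBasisElt.loc_injective (hS : S ≤ nonZeroDivisors R) {ε : M} (h : IsBasisElt R ε)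
    (q q' : Localization S)
    (hq : q • (LocalizedModule.mk ε 1 : LocalizedModule S M) = q' • LocalizedModule.mk ε 1) :
    q = q' := by
  rw [← sub_eq_zero]
  apply h.loc_eq_zero hS
  rw [sub_smul, hq, sub_self]

theorem IsBasisElt.mk_eq_zero (hS : S ≤ nonZeroDivisors R) {ε : M} (h : IsBasisElt R ε) (μ : M)
    (hμ : (LocalizedModule.mk μ 1 : LocalizedModule S M) = 0) : μ = 0 := by
  obtain ⟨ρ, rfl⟩ := h.1 μ
  rw [← LocalizedModule.zero_mk 1, LocalizedModule.mk_eq] at hμ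
  obtain ⟨c, hc⟩ := hμ
  rw [one_smul, one_smul, smul_zero] at hc
  have h1 : ((c : R) * ρ) • ε = 0 := by rw [mul_smul]; exact hc
  have h2 := h.2 _ h1
  rw [(mul_left_mem_nonZeroDivisors_eq_zero_iff (hS c.2)).mp h2, zero_smul]

theorem IsBasisElt.exists_unit_of_span {ε : M} (h : IsBasisElt R ε) (ε' : M)
    (hε' : Submodule.span R {ε'} = ⊤) : ∃ u : Rˣ, ε' = (u : R) • ε := by
  obtain ⟨a, ha⟩ := h.1 ε'
  have h1 : ε ∈ Submodule.span R {ε'} := by rw [hε']; trivial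
  obtain ⟨a', ha'⟩ := Submodule.mem_span_singleton.mp h1
  have h2 : (a' * a - 1) • ε = 0 := by
    rw [sub_smul, mul_smul, ← ha, ha', one_smul, sub_self]
  have h3 : a' * a = 1 := sub_eq_zero.mp (h.2 _ h2)
  exact ⟨⟨a, a', by rw [mul_comm]; exact h3, h3⟩, ha⟩

theorem IsBasisElt.smul_unit {ε : M} (h : IsBasisElt R ε) (u : Rˣ) : IsBasisElt R ((u : R) • ε) := by
  refine ⟨fun μ => ?_, fun ρ hρ => ?_⟩
  · obtain ⟨ρ, rfl⟩ := h.1 μ
    refine ⟨ρ * (u⁻¹ : Rˣ), ?_⟩
    rw [← mul_smul, mul_assoc, Units.inv_mul, mul_one]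
  · rw [← mul_smul] at hρ
    have := h.2 _ hρ
    exact (Units.mul_left_eq_zero u).mp this

end Alg

open Mero Groth.Agent.Lead.MeroB Groth.Agent.Lead.MeroD Groth.Agent.Lead.LocLift
  Groth.Agent.Lead.MeroF Groth.Agent.Lead.MeroL

variable {X : Scheme.{u}}

/-- `e` is a basis of `L` over `U`: every section over a smaller open is a unique multiple -/
def IsLocalBasis (L : X.Modules) (U : X.Opens) (e : Γ(L, U)) : Prop :=
  ∀ (V : X.Opens) (hV : V ≤ U) (m : Γ(L, V)),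
    ∃! r : Γ(X, V), m = r • L.presheaf.map (homOfLE hV).op e

theorem exists_isLocalBasis (L : X.Modules) (hL : PicF.IsInvertible L) (x : X) :
    ∃ (U : X.Opens) (_ : x ∈ U) (e : Γ(L, U)), IsLocalBasis L U e := by
  obtain ⟨U, hx, ⟨α⟩⟩ := hL x
  have hU' : U.ι ''ᵁ ⊤ = U := Scheme.Opens.ι_image_top U
  have hx' : x ∈ U.ι ''ᵁ ⊤ := by rw [hU']; exact hx
  let N := L.restrict U.ι
  let e₀ : Γ(L, U.ι ''ᵁ ⊤) := α.inv.app ⊤ (1 : Γ(X, U.ι ''ᵁ ⊤))
  have hψ : α.inv = homOfTop N e₀ := hom_unit_ext _ _ (by rw [homOfTop_app_one]; rfl)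
  have key : ∀ (W : (↑U : Scheme.{u}).Opens) (r : Γ(X, U.ι ''ᵁ W)),
      (show Γ(L, U.ι ''ᵁ W) from α.inv.app W r) =
        r • L.presheaf.map (homOfLE (show U.ι ''ᵁ W ≤ U.ι ''ᵁ ⊤ from
          (Scheme.Hom.opensFunctor U.ι).monotone le_top)).op e₀ := by
    intro W r
    rw [hψ]
    have h1 := homOfTop_app N e₀ W r
    have h2 : (show Γ(L, U.ι ''ᵁ W) from (homOfTop N e₀).app W r) =
        ((U.ι.appIso W).inv r : Γ(X, U.ι ''ᵁ W)) •
          (show Γ(L, U.ι ''ᵁ W) from N.presheaf.map (homOfLE (le_top : W ≤ ⊤)).op e₀) := h1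
    rw [h2, Scheme.Opens.ι_appIso]
    rfl
  have hsurj : ∀ (W : (↑U : Scheme.{u}).Opens) (s : Γ(L, U.ι ''ᵁ W)),
      ∃ r : Γ(X, U.ι ''ᵁ W), (show Γ(L, U.ι ''ᵁ W) from α.inv.app W r) = s := by
    intro W s
    refine ⟨α.hom.app W s, ?_⟩
    have h1 : (α.hom ≫ α.inv).app W s = s := by rw [Iso.hom_inv_id]; rfl
    exact h1
  have hinj : ∀ (W : (↑U : Scheme.{u}).Opens) (r r' : Γ(X, U.ι ''ᵁ W)),
      (show Γ(L, U.ι ''ᵁ W) from α.inv.app W r) = α.inv.app W r' → r = r' := by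
    intro W r r' hr
    have h1 : ∀ t : Γ(X, U.ι ''ᵁ W), (α.inv ≫ α.hom).app W t = t := by
      intro t; rw [Iso.inv_hom_id]; rfl
    rw [← h1 r, ← h1 r']
    change α.hom.app W (α.inv.app W r) = α.hom.app W (α.inv.app W r')
    have h2 : α.inv.app W r = α.inv.app W r' := hr
    rw [h2]
  have hform : ∀ V : X.Opens, V ≤ U.ι ''ᵁ ⊤ → ∃ W : (↑U : Scheme.{u}).Opens, V = U.ι ''ᵁ W := by
    intro V hV
    refine ⟨U.ι ⁻¹ᵁ V, ?_⟩
    rw [Scheme.Hom.image_preimage_eq_opensRange_inf, Scheme.Opens.opensRange_ι]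
    rw [hU'] at hV
    exact (inf_eq_right.mpr hV).symm
  refine ⟨U.ι ''ᵁ ⊤, hx', e₀, ?_⟩
  intro V hV m
  obtain ⟨W, rfl⟩ := hform V hV
  obtain ⟨r, hr⟩ := hsurj W m
  refine ⟨r, ?_, ?_⟩
  · rw [← hr]; exact key W r
  · intro r' hr'
    apply hinj W
    exact (key W r').trans (hr'.symm.trans hr.symm)

theorem IsLocalBasis.res {L : X.Modules} {U : X.Opens} {e : Γ(L, U)} (h : IsLocalBasis L U e)
    {V : X.Opens} (hV : V ≤ U) : IsLocalBasis L V (L.presheaf.map (homOfLE hV).op e) := by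
  intro W hW m
  obtain ⟨r, hr, hu⟩ := h W (hW.trans hV) m
  have e1 : L.presheaf.map (homOfLE hW).op (L.presheaf.map (homOfLE hV).op e) =
      L.presheaf.map (homOfLE (hW.trans hV)).op e := by
    rw [← ConcreteCategory.comp_apply, ← Functor.map_comp]
    rfl
  refine ⟨r, by rw [e1]; exact hr, fun r' hr' => hu r' (by rw [← e1]; exact hr')⟩

/-- the germ of a local basis is a basis of the stalk -/
theorem IsLocalBasis.germ {L : X.Modules} {U : X.Opens} {e : Γ(L, U)} (h : IsLocalBasis L U e)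
    (y : X) (hy : y ∈ U) :
    IsBasisElt (X.presheaf.stalk y) (L.presheaf.germ U y hy e) := by
  refine ⟨fun μ => ?_, fun ρ hρ => ?_⟩
  · obtain ⟨V₀, hyV₀, m₀, rfl⟩ := TopCat.Presheaf.exists_germ_eq L.presheaf μ
    have hyV : y ∈ V₀ ⊓ U := ⟨hyV₀, hy⟩
    obtain ⟨r, hr, -⟩ := h (V₀ ⊓ U) inf_le_right (L.presheaf.map (homOfLE inf_le_left).op m₀)
    refine ⟨X.presheaf.germ (V₀ ⊓ U) y hyV r, ?_⟩
    rw [← TopCat.Presheaf.germ_res_apply L.presheaf (homOfLE (inf_le_left : V₀ ⊓ U ≤ V₀)) y hyV m₀,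
      hr, Mero.germ_smul, TopCat.Presheaf.germ_res_apply]
  · obtain ⟨V₀, hyV₀, r₀, rfl⟩ := TopCat.Presheaf.exists_germ_eq X.presheaf ρ
    have hyV : y ∈ V₀ ⊓ U := ⟨hyV₀, hy⟩
    obtain ⟨r, hr_def⟩ : ∃ r, r = X.presheaf.map (homOfLE (inf_le_left : V₀ ⊓ U ≤ V₀)).op r₀ :=
      ⟨_, rfl⟩
    obtain ⟨eV, heV_def⟩ : ∃ eV, eV = L.presheaf.map (homOfLE (inf_le_right : V₀ ⊓ U ≤ U)).op e :=
      ⟨_, rfl⟩
    have h1 : L.presheaf.germ (V₀ ⊓ U) y hyV (r • eV) = L.presheaf.germ (V₀ ⊓ U) y hyV 0 := by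
      rw [Mero.germ_smul, map_zero, hr_def, heV_def, TopCat.Presheaf.germ_res_apply,
        TopCat.Presheaf.germ_res_apply]
      exact hρ
    obtain ⟨W, hyW, i₁, i₂, h2⟩ := TopCat.Presheaf.germ_eq L.presheaf y hyV hyV _ _ h1
    rw [map_zero, Scheme.Modules.map_smul] at h2
    have hWU : W ≤ U := i₁.le.trans inf_le_right
    have e1 : L.presheaf.map i₁.op eV = L.presheaf.map (homOfLE hWU).op e := by
      rw [heV_def, ← ConcreteCategory.comp_apply, ← Functor.map_comp]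
      rfl
    rw [e1] at h2
    obtain ⟨r', -, hu⟩ := h W hWU 0
    have h3 : X.presheaf.map i₁.op r = 0 :=
      (hu _ h2.symm).trans (hu 0 (zero_smul _ _).symm).symm
    rw [← TopCat.Presheaf.germ_res_apply X.presheaf (homOfLE (inf_le_left : V₀ ⊓ U ≤ V₀)) y hyV r₀,
      ← hr_def, ← TopCat.Presheaf.germ_res_apply X.presheaf i₁ y hyW r, h3, map_zero]

/-- equality of sections can be tested on germs -/
theorem section_ext_germ (L : X.Modules) {V : X.Opens} (s t : Γ(L, V))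
    (h : ∀ x (hx : x ∈ V), L.presheaf.germ V x hx s = L.presheaf.germ V x hx t) : s = t := by
  have hsh : TopCat.Presheaf.IsSheaf L.presheaf := L.isSheaf
  exact TopCat.Presheaf.section_ext ⟨L.presheaf, hsh⟩ V s t h

end Groth.Agent.Lead.MeroM
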