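import Mathlib
import Groth.Agent.Helper2.FlatCL4

set_option autoImplicit false
open TensorProduct Function LinearMap
universe u

namespace Groth.Agent.Lead.FlatUnivA

open Groth.Agent.Helper2.AdicFlat Groth.Agent.Helper2.FlatCL1 Groth.Agent.Helper2.FlatCL2

section LCsq
variable {A : Type u} [CommRing A] (J : Ideal A) {N : Type u} [AddCommGroup N] [Module A N]

lemma rTensor_subtype_injective_of_eq_top (𝔟 : Ideal A) (h : 𝔟 = ⊤) :
    Injective (rTensor N 𝔟.subtype) := by
  subst h
  have : rTensor N (⊤ : Ideal A).subtype =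
      (LinearEquiv.rTensor N (Submodule.topEquiv (R := A) (M := A))).toLinearMap := by
    ext; simp
  rw [this]
  exact (LinearEquiv.rTensor N Submodule.topEquiv).injective

lemma rTensor_subtype_injective_of_eq_bot (𝔟 : Ideal A) (h : 𝔟 = ⊥) :
    Injective (rTensor N 𝔟.subtype) := by
  subst h
  intro x y _
  have : ∀ z : ↥(⊥ : Ideal A) ⊗[A] N, z = 0 := by
    intro z
    induction z using TensorProduct.induction_on with
    | zero => rfl
    | add a b ha hb => rw [ha, hb, add_zero]
    | tmul a n =>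
      have : a = 0 := Subsingleton.elim _ _
      rw [this, zero_tmul]
  rw [this x, this y]

theorem flat_of_sq_zero (hJ : J ^ 2 = ⊥) (h : Injective (rTensor N J.subtype))
    [Module.Flat (A ⧸ J) ((A ⧸ J) ⊗[A] N)] : Module.Flat A N := by
  refine Groth.Agent.Helper2.NilpCrit.flat_of_nilpotent J ⟨2, hJ⟩ ?_
  intro j
  rcases j with _ | _ | j
  · exact rTensor_subtype_injective_of_eq_top _ (by rw [pow_zero, Ideal.one_eq_top])
  · have : ∀ 𝔟 : Ideal A, 𝔟 = J → Injective (rTensor N 𝔟.subtype) := by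
      rintro _ rfl; exact h
    exact this _ (by rw [zero_add, pow_one])
  · apply rTensor_subtype_injective_of_eq_bot
    rw [show j + 1 + 1 = 2 + j by omega, pow_add, hJ, Ideal.bot_mul]

end LCsq

section LC
variable {R : Type u} [CommRing R] (I I₁ : Ideal R) (N : Type u) [AddCommGroup N] [Module R N]

lemma one_tmul_eq_zero_iff (n : N) :
    (1 : R ⧸ I₁) ⊗ₜ[R] n = 0 ↔ n ∈ I₁ • (⊤ : Submodule R N) := by
  rw [← (quotTensorEquivQuotSMul N I₁).map_eq_zero_iff, ← map_one (Ideal.Quotient.mk I₁),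
    quotTensorEquivQuotSMul_mk_tmul, one_smul, Submodule.Quotient.mk_eq_zero]

lemma exists_tmul_of_mem_smul_top (n : N) (hn : n ∈ I₁ • (⊤ : Submodule R N)) :
    ∃ t : I₁ ⊗[R] N, TensorProduct.lid R N (rTensor N I₁.subtype t) = n := by
  refine Submodule.smul_induction_on hn (fun a ha m _ => ⟨⟨a, ha⟩ ⊗ₜ m, by simp⟩) ?_
  rintro x y ⟨tx, hx⟩ ⟨ty, hy⟩
  exact ⟨tx + ty, by simp [hx, hy]⟩

variable {N} in
lemma comm_rTensor {P Q : Type u} [AddCommGroup P] [Module R P] [AddCommGroup Q] [Module R Q]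
    (f : P →ₗ[R] Q) (t : P ⊗[R] N) :
    TensorProduct.comm R Q N (rTensor N f t) = lTensor N f (TensorProduct.comm R P N t) := by
  induction t using TensorProduct.induction_on with
  | zero => simp
  | add a b ha hb => simp only [map_add, ha, hb]
  | tmul a n => simp

variable {I N} in
lemma TorsionFlat.rTensor_injective (hN : TorsionFlat I N) {X' X : Type u}
    [AddCommGroup X'] [Module R X'] [AddCommGroup X] [Module R X]
    (hX' : Module.IsTorsionBySet R X' I) (hX : Module.IsTorsionBySet R X I)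
    (ι : X' →ₗ[R] X) (hι : Injective ι) : Injective (rTensor N ι) := by
  have h := hN X' X hX' hX ι hι
  intro a b hab
  apply (TensorProduct.comm R X' N).injective
  apply h
  rw [← comm_rTensor, ← comm_rTensor, hab]

theorem flat_of_H (hI₁ : I₁ ≤ I) (hsq : I * I ≤ I₁) (hN : TorsionFlat I N)
    (W : Type u) [AddCommGroup W] [Module R W] (hW : Module.IsTorsionBySet R W I)
    (π : I →ₗ[R] W) (hπ : ∀ a : I, π a = 0 ↔ (a : R) ∈ I₁)
    (hH : ∀ t : N ⊗[R] I, lTensor N I.subtype t = 0 → lTensor N π t = 0) :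
    Module.Flat (R ⧸ I₁) ((R ⧸ I₁) ⊗[R] N) := by
  have hH' : ∀ t : I ⊗[R] N, rTensor N I.subtype t = 0 → rTensor N π t = 0 := by
    intro t ht
    have h1 : lTensor N I.subtype (TensorProduct.comm R I N t) = 0 := by
      rw [← comm_rTensor, ht, map_zero]
    have h2 := hH _ h1
    apply (TensorProduct.comm R W N).injective
    rw [comm_rTensor, h2, map_zero]
  set J : Ideal (R ⧸ I₁) := I.map (Ideal.Quotient.mk I₁) with hJ
  have hJ2 : J ^ 2 = ⊥ := by
    rw [pow_two, hJ, ← Ideal.map_mul, eq_bot_iff]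
    calc (I * I).map _ ≤ I₁.map _ := Ideal.map_mono hsq
      _ = ⊥ := Ideal.map_quotient_self I₁
  haveI : Module.Flat ((R ⧸ I₁) ⧸ J) (((R ⧸ I₁) ⧸ J) ⊗[R ⧸ I₁] ((R ⧸ I₁) ⊗[R] N)) :=
    flat_of_torsionFlat J _
      (TorsionFlat.quotient I₁ I J (fun a ha => Ideal.mem_map_of_mem _ ha) hN)
  apply flat_of_sq_zero J hJ2
  -- κ : I → J
  let κ : I →ₗ[R] J := LinearMap.codRestrict (J.restrictScalars R)
    ((Ideal.Quotient.mkₐ R I₁).toLinearMap ∘ₗ I.subtype) (fun r => Ideal.mem_map_of_mem _ r.2)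
  have hκ : Surjective κ := by
    rintro ⟨y, hy⟩
    rw [hJ, Ideal.mem_map_iff_of_surjective _ Ideal.Quotient.mk_surjective] at hy
    obtain ⟨r, hr, rfl⟩ := hy
    exact ⟨⟨r, hr⟩, rfl⟩
  have hκ0 : ∀ a : I, κ a = 0 ↔ (a : R) ∈ I₁ := by
    intro a
    rw [← Ideal.Quotient.eq_zero_iff_mem]
    constructor
    · intro h; exact congrArg Subtype.val h
    · intro h; exact Subtype.ext h
  -- the induced injection J → W
  have hle : LinearMap.ker κ ≤ LinearMap.ker π := by
    intro a ha
    rw [LinearMap.mem_ker] at ha ⊢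
    exact (hπ a).2 ((hκ0 a).1 ha)
  let ιW : J →ₗ[R] W := ((LinearMap.ker κ).liftQ π hle) ∘ₗ
    (κ.quotKerEquivOfSurjective hκ).symm.toLinearMap
  have hικ : ∀ a : I, ιW (κ a) = π a := by
    intro a
    have : (κ.quotKerEquivOfSurjective hκ).symm (κ a) = Submodule.Quotient.mk a := by
      rw [LinearEquiv.symm_apply_eq]; rfl
    change (LinearMap.ker κ).liftQ π hle ((κ.quotKerEquivOfSurjective hκ).symm (κ a)) = π a
    rw [this, Submodule.liftQ_apply]
  have hιinj : Injective ιW := by
    rw [injective_iff_map_eq_zero]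
    intro j hj
    obtain ⟨a, rfl⟩ := hκ j
    rw [hικ] at hj
    exact (hκ0 a).2 ((hπ a).1 hj)
  have hJtors : Module.IsTorsionBySet R J I := by
    intro j a
    apply Subtype.ext
    change (a : R) • (j : R ⧸ I₁) = 0
    rw [Algebra.smul_def, Ideal.Quotient.algebraMap_eq]
    have : Ideal.Quotient.mk I₁ (a : R) * (j : R ⧸ I₁) ∈ J ^ 2 := by
      rw [pow_two]
      exact Ideal.mul_mem_mul (Ideal.mem_map_of_mem _ a.2) j.2
    rw [hJ2] at this
    exact this
  have hιN : Injective (rTensor N ιW) := TorsionFlat.rTensor_injective hN hJtors hW ιW hιinj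
  rw [injective_iff_map_eq_zero]
  intro x hx
  let e := TensorProduct.AlgebraTensorModule.cancelBaseChange R (R ⧸ I₁) (R ⧸ I₁) J N
  obtain ⟨t, ht⟩ := rTensor_surjective N hκ (e x)
  have h1 : rTensor N (J.subtype.restrictScalars R) (e x) = 0 := by
    rw [← Groth.Agent.Helper2.LocCrit2.cancel_natural I₁ J.subtype x, hx, map_zero]
  have h2 : rTensor N (Ideal.Quotient.mkₐ R I₁).toLinearMap (rTensor N I.subtype t) = 0 := by
    rw [← LinearMap.comp_apply, ← LinearMap.rTensor_comp]
    have : (Ideal.Quotient.mkₐ R I₁).toLinearMap ∘ₗ I.subtype =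
        J.subtype.restrictScalars R ∘ₗ κ := by ext r; rfl
    rw [this, LinearMap.rTensor_comp, LinearMap.comp_apply, ht, h1]
  have h3 : TensorProduct.lid R N (rTensor N I.subtype t) ∈ I₁ • (⊤ : Submodule R N) := by
    rw [← one_tmul_eq_zero_iff]
    have : ∀ z : R ⊗[R] N, rTensor N (Ideal.Quotient.mkₐ R I₁).toLinearMap z =
        (1 : R ⧸ I₁) ⊗ₜ[R] (TensorProduct.lid R N z) := by
      intro z
      induction z using TensorProduct.induction_on with
      | zero => simp
      | add a b ha hb => simp only [map_add, ha, hb, tmul_add]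
      | tmul r n =>
        rw [rTensor_tmul, TensorProduct.lid_tmul, TensorProduct.tmul_smul,
          TensorProduct.smul_tmul']
        congr 1
        simp [Algebra.smul_def]
    rw [← this, h2]
  obtain ⟨t₁, ht₁⟩ := exists_tmul_of_mem_smul_top I₁ N _ h3
  have hincl : I.subtype ∘ₗ Submodule.inclusion hI₁ = I₁.subtype := by ext; rfl
  have h4 : rTensor N I.subtype (t - rTensor N (Submodule.inclusion hI₁) t₁) = 0 := by
    apply (TensorProduct.lid R N).injective
    rw [map_zero, map_sub, map_sub, ← LinearMap.comp_apply (rTensor N I.subtype),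
      ← LinearMap.rTensor_comp, hincl, ht₁, sub_self]
  have h5 := hH' _ h4
  have hπincl : π ∘ₗ Submodule.inclusion hI₁ = 0 := by
    ext a
    exact (hπ _).2 a.2
  have h6 : rTensor N π t = 0 := by
    rw [map_sub, ← LinearMap.comp_apply, ← LinearMap.rTensor_comp, hπincl, LinearMap.rTensor_zero,
      LinearMap.zero_apply, sub_zero] at h5
    exact h5
  have h7 : rTensor N κ t = 0 := by
    apply hιN
    rw [map_zero, ← LinearMap.comp_apply, ← LinearMap.rTensor_comp]
    have : ιW ∘ₗ κ = π := by ext a; exact hικ a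
    rw [this, h6]
  have h8 : e x = 0 := by rw [← ht, h7]
  exact e.injective (by rw [h8, map_zero])

end LC

end Groth.Agent.Lead.FlatUnivA
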