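import Mathlib
import Groth.Agent.Lead.FlatUnivA
import Groth.Prelude

set_option autoImplicit false
open TensorProduct Function LinearMap IsLocalRing
universe u

namespace Groth.Agent.Lead.FlatUnivB

open Groth.Agent.Helper2.AdicFlat Groth.Agent.Helper2.FlatCL1 Groth.Agent.Helper2.FlatCL2
  Groth.Agent.Helper2.FlatCL4

section LocalStep
variable {R' S' : Type u} [CommRing R'] [CommRing S'] [Algebra R' S']
  {M' : Type u} [AddCommGroup M'] [Module S' M'] [Module R' M'] [IsScalarTower R' S' M']

/-- local vanishing at a prime where the localization is flat -/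
lemma exists_smul_eq_zero (q' : Ideal S') [q'.IsPrime]
    [Module.Flat R' (LocalizedModule q'.primeCompl M')]
    (I' : Ideal R') {W' : Type u} [AddCommGroup W'] [Module R' W'] (Λ' : I' →ₗ[R'] W')
    (t' : M' ⊗[R'] I') (ht' : lTensor M' I'.subtype t' = 0) :
    ∃ c : q'.primeCompl, c • (lTensor M' Λ' t') = 0 := by
  let g' := LocalizedModule.mkLinearMap q'.primeCompl M'
  rw [← IsLocalizedModule.eq_zero_iff q'.primeCompl (AlgebraTensorModule.rTensor R' W' g')]
  have h1 : ∀ z : M' ⊗[R'] I', AlgebraTensorModule.rTensor R' W' g' (lTensor M' Λ' z) =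
      lTensor (LocalizedModule q'.primeCompl M') Λ' (AlgebraTensorModule.rTensor R' I' g' z) := by
    intro z
    induction z using TensorProduct.induction_on with
    | zero => simp
    | add a b ha hb => simp only [map_add, ha, hb]
    | tmul m a => simp
  have h2 : ∀ z : M' ⊗[R'] I', lTensor (LocalizedModule q'.primeCompl M') I'.subtype
      (AlgebraTensorModule.rTensor R' I' g' z) =
      AlgebraTensorModule.rTensor R' R' g' (lTensor M' I'.subtype z) := by
    intro z
    induction z using TensorProduct.induction_on with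
    | zero => simp
    | add a b ha hb => simp only [map_add, ha, hb]
    | tmul m a => simp
  have h3 : AlgebraTensorModule.rTensor R' I' g' t' = 0 := by
    apply Module.Flat.lTensor_preserves_injective_linearMap
      (M := LocalizedModule q'.primeCompl M') I'.subtype Subtype.val_injective
    rw [map_zero, h2, ht', map_zero]
  rw [h1, h3, map_zero]

/-- global vanishing over a local base -/
theorem core_eq_zero [IsLocalRing R']
    (hflat : ∀ (q' : Ideal S') [q'.IsPrime], q'.comap (algebraMap R' S') = maximalIdeal R' →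
      Module.Flat R' (LocalizedModule q'.primeCompl M'))
    (I' : Ideal R') {W' : Type u} [AddCommGroup W'] [Module R' W']
    (hW' : ∀ a ∈ maximalIdeal R', ∀ w : W', a • w = 0)
    (Λ' : I' →ₗ[R'] W') (t' : M' ⊗[R'] I') (ht' : lTensor M' I'.subtype t' = 0) :
    lTensor M' Λ' t' = 0 := by
  by_contra hd
  let Ann : Ideal S' := LinearMap.ker (LinearMap.toSpanSingleton S' (M' ⊗[R'] W')
    (lTensor M' Λ' t'))
  have hne : Ann ≠ ⊤ := by
    intro h
    have h1 : (1 : S') ∈ Ann := h ▸ Submodule.mem_top
    rw [LinearMap.mem_ker, LinearMap.toSpanSingleton_apply, one_smul] at h1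
    exact hd h1
  obtain ⟨n', hn'max, hle⟩ := Ideal.exists_le_maximal Ann hne
  haveI := hn'max.isPrime
  have hkill : ∀ a ∈ maximalIdeal R', ∀ z : M' ⊗[R'] W', a • z = 0 := by
    intro a ha z
    induction z using TensorProduct.induction_on with
    | zero => simp
    | add x y hx hy => rw [smul_add, hx, hy, add_zero]
    | tmul m w => rw [← TensorProduct.tmul_smul, hW' a ha, tmul_zero]
  have hcomap : n'.comap (algebraMap R' S') = maximalIdeal R' := by
    have h1 : maximalIdeal R' ≤ n'.comap (algebraMap R' S') := by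
      intro a ha
      apply hle
      rw [LinearMap.mem_ker, LinearMap.toSpanSingleton_apply, algebraMap_smul]
      exact hkill a ha _
    exact ((maximalIdeal.isMaximal R').eq_of_le (Ideal.comap_ne_top _ hn'max.ne_top) h1).symm
  haveI := hflat n' hcomap
  obtain ⟨c, hc⟩ := exists_smul_eq_zero n' I' Λ' t' ht'
  exact c.2 (hle (by rw [LinearMap.mem_ker, LinearMap.toSpanSingleton_apply]; exact hc))

end LocalStep

section Core
variable {R S R' S' : Type u} [CommRing R] [CommRing S] [CommRing R'] [CommRing S']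
  [Algebra R S] [Algebra R R'] [Algebra S S'] [Algebra R' S'] [Algebra R S']
  [IsScalarTower R S S'] [IsScalarTower R R' S'] [Algebra.IsPushout R S R' S']
  {M M' : Type u} [AddCommGroup M] [Module S M] [Module R M] [IsScalarTower R S M]
  [AddCommGroup M'] [Module S' M'] [Module R' M'] [IsScalarTower R' S' M'] [Module S M']
  [IsScalarTower S S' M']

/-- the canonical map `I → I R'` -/
noncomputable def can (R' : Type u) [CommRing R'] [Algebra R R'] (I : Ideal R) :
    I →ₗ[R] ↥(I.map (algebraMap R R')) :=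
  LinearMap.codRestrict ((I.map (algebraMap R R')).restrictScalars R)
    ((Algebra.linearMap R R') ∘ₗ I.subtype) (fun a => Ideal.mem_map_of_mem _ a.2)

@[simp] lemma can_apply (I : Ideal R) (a : I) :
    ((can R' I a : ↥(I.map (algebraMap R R'))) : R') = algebraMap R R' a := rfl

theorem core [IsLocalRing R'] (f : M →ₗ[S] M') (hf : IsBaseChange S' f)
    (hflat : ∀ (q' : Ideal S') [q'.IsPrime], q'.comap (algebraMap R' S') = maximalIdeal R' →
      Module.Flat R' (LocalizedModule q'.primeCompl M'))
    (I : Ideal R) {W' : Type u} [AddCommGroup W'] [Module R' W'] [Module R W']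
    [IsScalarTower R R' W']
    (hW' : ∀ a ∈ maximalIdeal R', ∀ w : W', a • w = 0)
    (Λ' : ↥(I.map (algebraMap R R')) →ₗ[R'] W')
    (t : M ⊗[R] I) (ht : lTensor M I.subtype t = 0) :
    lTensor M ((Λ'.restrictScalars R) ∘ₗ can R' I) t = 0 := by
  obtain ⟨u₀, hu₀⟩ : ∃ u₀ : M ⊗[R] ↥(I.map (algebraMap R R')), u₀ = lTensor M (can R' I) t :=
    ⟨_, rfl⟩
  obtain ⟨t', ht'⟩ : ∃ t' : M' ⊗[R'] ↥(I.map (algebraMap R R')),
      t' = psi R R' S' ↥(I.map (algebraMap R R')) f u₀ := ⟨_, rfl⟩
  have h1 : lTensor M' (I.map (algebraMap R R')).subtype t' = 0 := by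
    rw [ht', ← psi_natural R R' S' f (I.map (algebraMap R R')).subtype u₀, hu₀,
      ← LinearMap.comp_apply, ← LinearMap.lTensor_comp]
    have : (I.map (algebraMap R R')).subtype.restrictScalars R ∘ₗ can R' I =
        (Algebra.linearMap R R') ∘ₗ I.subtype := by
      ext a; rfl
    rw [this, LinearMap.lTensor_comp, LinearMap.comp_apply, ht, map_zero, map_zero]
  have h2 : lTensor M' Λ' t' = 0 := core_eq_zero hflat _ hW' Λ' t' h1
  rw [ht', ← psi_natural R R' S' f Λ' u₀] at h2
  have h3 : lTensor M (Λ'.restrictScalars R) u₀ = 0 := by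
    apply psi_injective R R' S' W' f hf
    rw [h2, map_zero]
  rw [LinearMap.lTensor_comp, LinearMap.comp_apply, ← hu₀]
  exact h3

end Core

section Loc
variable {R S : Type u} [CommRing R] [CommRing S] [Algebra R S]
  {M : Type u} [AddCommGroup M] [Module S M] [Module R M] [IsScalarTower R S M]

lemma H_localized (q : Ideal S) [q.IsPrime] (I : Ideal R) {W : Type u} [AddCommGroup W]
    [Module R W] (π : I →ₗ[R] W)
    (hH : ∀ t : M ⊗[R] I, lTensor M I.subtype t = 0 → lTensor M π t = 0) :
    ∀ t : (LocalizedModule q.primeCompl M) ⊗[R] I,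
      lTensor (LocalizedModule q.primeCompl M) I.subtype t = 0 →
      lTensor (LocalizedModule q.primeCompl M) π t = 0 := by
  intro t ht
  let g := LocalizedModule.mkLinearMap q.primeCompl M
  have hcomm : ∀ {X Y : Type u} [AddCommGroup X] [Module R X] [AddCommGroup Y] [Module R Y]
      (φ : X →ₗ[R] Y) (z : M ⊗[R] X),
      lTensor (LocalizedModule q.primeCompl M) φ (AlgebraTensorModule.rTensor R X g z) =
      AlgebraTensorModule.rTensor R Y g (lTensor M φ z) := by
    intro X Y _ _ _ _ φ z
    induction z using TensorProduct.induction_on with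
    | zero => simp
    | add a b ha hb => simp only [map_add, ha, hb]
    | tmul m a => simp
  have hsm : ∀ {X Y : Type u} [AddCommGroup X] [Module R X] [AddCommGroup Y] [Module R Y]
      (φ : X →ₗ[R] Y) (s : S) (z : (LocalizedModule q.primeCompl M) ⊗[R] X),
      lTensor (LocalizedModule q.primeCompl M) φ (s • z) =
      s • lTensor (LocalizedModule q.primeCompl M) φ z := by
    intro X Y _ _ _ _ φ s z
    exact map_smul (AlgebraTensorModule.lTensor S (LocalizedModule q.primeCompl M) φ) s z
  have hsm' : ∀ {X Y : Type u} [AddCommGroup X] [Module R X] [AddCommGroup Y] [Module R Y]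
      (φ : X →ₗ[R] Y) (s : S) (z : M ⊗[R] X),
      lTensor M φ (s • z) = s • lTensor M φ z := by
    intro X Y _ _ _ _ φ s z
    exact map_smul (AlgebraTensorModule.lTensor S M φ) s z
  obtain ⟨⟨t₀, s⟩, hs⟩ := IsLocalizedModule.surj q.primeCompl
    (AlgebraTensorModule.rTensor R I g) t
  simp only at hs
  have h1 : AlgebraTensorModule.rTensor R R g (lTensor M I.subtype t₀) = 0 := by
    rw [← hcomm, ← hs, Submonoid.smul_def, hsm, ht, smul_zero]
  obtain ⟨c, hc⟩ := (IsLocalizedModule.eq_zero_iff q.primeCompl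
    (AlgebraTensorModule.rTensor R R g)).1 h1
  have h2 : lTensor M I.subtype ((c : S) • t₀) = 0 := by
    rw [hsm']; exact hc
  have h3 := hH _ h2
  have h4 : (c : S) • (s : S) • lTensor (LocalizedModule q.primeCompl M) π t = 0 := by
    rw [← hsm, ← hsm, ← Submonoid.smul_def s, hs, ← map_smul, hcomm, h3, map_zero]
  have h5 := IsLocalizedModule.smul_injective (AlgebraTensorModule.rTensor R W g) c
  have h6 := IsLocalizedModule.smul_injective (AlgebraTensorModule.rTensor R W g) s
  apply h6
  apply h5
  simp only [smul_zero]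
  exact h4

end Loc

section Final

theorem s6927 {R S R' S' : Type u} [CommRing R] [IsLocalRing R]
    [IsNoetherianRing R] [CommRing S] [CommRing R'] [IsLocalRing R'] [CommRing S']
    [Algebra R S] [Algebra R R'] [IsLocalHom (algebraMap R R')] [Algebra S S'] [Algebra R' S']
    [Algebra R S'] [IsScalarTower R S S'] [IsScalarTower R R' S'] [Algebra.IsPushout R S R' S']
    {M M' : Type u} [AddCommGroup M] [Module S M] [Module R M] [IsScalarTower R S M]
    [AddCommGroup M'] [Module S' M'] [Module R' M'] [IsScalarTower R' S' M'] [Module S M']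
    [IsScalarTower S S' M']
    (f : M →ₗ[S] M') (hf : IsBaseChange S' f) (I : Ideal R) (hIm : I ≤ maximalIdeal R)
    (hI : ∀ (q : Ideal S) [q.IsPrime], q.comap (algebraMap R S) = maximalIdeal R →
        Module.Flat (R ⧸ I) ((R ⧸ I) ⊗[R] LocalizedModule q.primeCompl M))
    (hmin : ∀ J : Ideal R, (∀ (q : Ideal S) [q.IsPrime],
        q.comap (algebraMap R S) = maximalIdeal R →
        Module.Flat (R ⧸ J) ((R ⧸ J) ⊗[R] LocalizedModule q.primeCompl M)) → I ≤ J) :
    (∀ (q' : Ideal S') [q'.IsPrime], q'.comap (algebraMap R' S') = maximalIdeal R' →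
      FlatCA.FlatAt R' q' M') ↔ I ≤ RingHom.ker (algebraMap R R') := by
  have hloc : (maximalIdeal R).map (algebraMap R R') ≤ maximalIdeal R' :=
    ((IsLocalRing.local_hom_TFAE (algebraMap R R')).out 0 2).1 ‹IsLocalHom (algebraMap R R')›
  have hcomap : (maximalIdeal R').comap (algebraMap R R') = maximalIdeal R :=
    ((IsLocalRing.local_hom_TFAE (algebraMap R R')).out 0 4).1 ‹IsLocalHom (algebraMap R R')›
  constructor
  · intro hflat
    by_contra hnot
    have hflat' : ∀ (q' : Ideal S') [q'.IsPrime],
        q'.comap (algebraMap R' S') = maximalIdeal R' →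
        Module.Flat R' (LocalizedModule q'.primeCompl M') := fun q' _ hq' => hflat q' hq'
    have hI'ne : I.map (algebraMap R R') ≠ ⊥ := by
      rwa [Ne, Ideal.map_eq_bot_iff_le_ker]
    have hI'fg : (I.map (algebraMap R R')).FG := Ideal.FG.map (IsNoetherian.noetherian I) _
    have hnak : ¬ I.map (algebraMap R R') ≤ maximalIdeal R' • I.map (algebraMap R R') :=
      fun h => hI'ne (Submodule.eq_bot_of_le_smul_of_le_jacobson_bot (maximalIdeal R') _ hI'fg h
        (maximalIdeal_le_jacobson ⊥))
    let K' : Submodule R' ↥(I.map (algebraMap R R')) := maximalIdeal R' • ⊤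
    have hW' : ∀ a ∈ maximalIdeal R', ∀ w : ↥(I.map (algebraMap R R')) ⧸ K', a • w = 0 := by
      intro a ha w
      obtain ⟨x, rfl⟩ := Submodule.Quotient.mk_surjective _ w
      rw [← Submodule.Quotient.mk_smul, Submodule.Quotient.mk_eq_zero]
      exact Submodule.smul_mem_smul ha Submodule.mem_top
    let π : I →ₗ[R] (↥(I.map (algebraMap R R')) ⧸ K') := (K'.mkQ.restrictScalars R) ∘ₗ can R' I
    let I₁ : Ideal R := (LinearMap.ker π).map I.subtype
    have hI₁le : I₁ ≤ I := by
      rintro _ ⟨a, -, rfl⟩
      exact a.2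
    have hπ : ∀ a : I, π a = 0 ↔ (a : R) ∈ I₁ := by
      intro a
      constructor
      · intro h; exact ⟨a, h, rfl⟩
      · rintro ⟨b, hb, hba⟩
        have : b = a := Subtype.ext hba
        rw [← this]; exact hb
    have hImem : ∀ a ∈ I, algebraMap R R' a ∈ maximalIdeal R' := fun a ha =>
      hloc (Ideal.mem_map_of_mem _ (hIm ha))
    have hsq : I * I ≤ I₁ := by
      rw [Ideal.mul_le]
      intro a ha b hb
      refine ⟨⟨a * b, I.mul_mem_left a hb⟩, ?_, rfl⟩
      change π ⟨a * b, I.mul_mem_left a hb⟩ = 0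
      have : (⟨a * b, I.mul_mem_left a hb⟩ : I) = a • (⟨b, hb⟩ : I) := Subtype.ext rfl
      rw [this, map_smul, ← algebraMap_smul R' a]
      exact hW' _ (hImem a ha) _
    have hWtors : Module.IsTorsionBySet R (↥(I.map (algebraMap R R')) ⧸ K') I := by
      intro w a
      change (a : R) • w = 0
      rw [← algebraMap_smul R' (a : R) w]
      exact hW' _ (hImem a.1 a.2) w
    have hH : ∀ t : M ⊗[R] I, lTensor M I.subtype t = 0 → lTensor M π t = 0 :=
      fun t ht => core f hf hflat' I hW' K'.mkQ t ht
    have hle : I ≤ I₁ := hmin I₁ (fun q _ hq => by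
      haveI := hI q hq
      exact Groth.Agent.Lead.FlatUnivA.flat_of_H I I₁ _ hI₁le hsq (torsionFlat_of_flat I _)
        _ hWtors π hπ (H_localized q I π hH))
    apply hnak
    rw [Ideal.map_le_iff_le_comap]
    intro a ha
    have h0 : π ⟨a, ha⟩ = 0 := (hπ ⟨a, ha⟩).2 (hle ha)
    have h1 : can R' I ⟨a, ha⟩ ∈ K' := (Submodule.Quotient.mk_eq_zero K').1 h0
    exact (Submodule.mem_smul_top_iff _ _ _).1 h1
  · intro hker q' _ hq'
    unfold FlatCA.FlatAt
    apply flat_localized_of_torsionFlat f hf I hker q'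
    have hq : (q'.comap (algebraMap S S')).comap (algebraMap R S) = maximalIdeal R := by
      rw [Ideal.comap_comap, ← IsScalarTower.algebraMap_eq R S S',
        IsScalarTower.algebraMap_eq R R' S', ← Ideal.comap_comap, hq', hcomap]
    haveI := hI _ hq
    exact torsionFlat_of_flat I _

end Final

end Groth.Agent.Lead.FlatUnivB
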