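import Mathlib
import Groth.Agent.Lead.FlatUnivB

set_option autoImplicit false
open TensorProduct Function LinearMap IsLocalRing
universe u

namespace Groth.Agent.Lead.FlatUnivC

open Groth.Agent.Helper2.AdicFlat Groth.Agent.Helper2.FlatCL1 Groth.Agent.Helper2.FlatCL2
  Groth.Agent.Helper2.FlatCL4 Groth.Agent.Lead.FlatUnivB

section A
variable {R' S S' : Type u} [CommRing R'] [IsLocalRing R'] [CommRing S] [CommRing S']
  [Algebra R' S'] [Algebra S S']
  {M' : Type u} [AddCommGroup M'] [Module S' M'] [Module R' M'] [IsScalarTower R' S' M']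

theorem exists_smul_eq_smul (q : Ideal S) [q.IsPrime]
    (hflat : ∀ (q' : Ideal S') [q'.IsPrime], q'.comap (algebraMap S S') = q →
      q'.comap (algebraMap R' S') = maximalIdeal R' →
      Module.Flat R' (LocalizedModule q'.primeCompl M'))
    (I' : Ideal R') {W' : Type u} [AddCommGroup W'] [Module R' W']
    (hW' : ∀ a ∈ maximalIdeal R', ∀ w : W', a • w = 0)
    (Λ' : I' →ₗ[R'] W') (t' : M' ⊗[R'] I') (ht' : lTensor M' I'.subtype t' = 0) :
    ∃ s ∈ q.primeCompl, ∃ b ∈ q.map (algebraMap S S'),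
      algebraMap S S' s • lTensor M' Λ' t' = b • lTensor M' Λ' t' := by
  obtain ⟨d', hd'⟩ : ∃ d' : M' ⊗[R'] W', d' = lTensor M' Λ' t' := ⟨_, rfl⟩
  rw [← hd']
  let Ann : Ideal S' := LinearMap.ker (LinearMap.toSpanSingleton S' (M' ⊗[R'] W') d')
  have hAnn : ∀ x : S', x ∈ Ann ↔ x • d' = 0 := fun x => by
    rw [LinearMap.mem_ker, LinearMap.toSpanSingleton_apply]
  have hkill : ∀ a ∈ maximalIdeal R', ∀ z : M' ⊗[R'] W', a • z = 0 := by
    intro a ha z
    induction z using TensorProduct.induction_on with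
    | zero => simp
    | add x y hx hy => rw [smul_add, hx, hy, add_zero]
    | tmul m w => rw [← TensorProduct.tmul_smul, hW' a ha, tmul_zero]
  have hmap : (maximalIdeal R').map (algebraMap R' S') ≤ Module.annihilator S' (M' ⊗[R'] W') := by
    rw [Ideal.map_le_iff_le_comap]
    intro a ha
    rw [Ideal.mem_comap, Module.mem_annihilator]
    intro z
    rw [algebraMap_smul]
    exact hkill a ha z
  let 𝔠 : Ideal S' := Ann ⊔ (maximalIdeal R').map (algebraMap R' S') ⊔ q.map (algebraMap S S')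
  let T : Submonoid S' := Algebra.algebraMapSubmonoid S' q.primeCompl
  by_cases hdis : Disjoint (𝔠 : Set S') (T : Set S')
  · exfalso
    obtain ⟨n', hn'prime, hle, hn'dis⟩ := Ideal.exists_le_prime_disjoint 𝔠 T hdis
    have hcomapS : n'.comap (algebraMap S S') = q := by
      apply le_antisymm
      · intro s hs
        by_contra hsq
        exact Set.disjoint_left.1 hn'dis hs ⟨s, hsq, rfl⟩
      · rw [← Ideal.map_le_iff_le_comap]
        exact le_trans le_sup_right hle
    have hcomapR : n'.comap (algebraMap R' S') = maximalIdeal R' := by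
      have h1 : maximalIdeal R' ≤ n'.comap (algebraMap R' S') := by
        rw [← Ideal.map_le_iff_le_comap]
        exact le_trans (le_trans le_sup_right le_sup_left) hle
      exact ((maximalIdeal.isMaximal R').eq_of_le (Ideal.comap_ne_top _ hn'prime.ne_top) h1).symm
    haveI := hflat n' hcomapS hcomapR
    obtain ⟨c, hc⟩ := exists_smul_eq_zero n' I' Λ' t' ht'
    rw [← hd'] at hc
    exact c.2 (hle (le_sup_left (a := Ann ⊔ (maximalIdeal R').map (algebraMap R' S'))
      (le_sup_left (a := Ann) ((hAnn _).2 hc))))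
  · rw [Set.not_disjoint_iff] at hdis
    obtain ⟨x, hx𝔠, ⟨s, hs, rfl⟩⟩ := hdis
    obtain ⟨y, hy, b, hb, hyb⟩ := Submodule.mem_sup.1 hx𝔠
    obtain ⟨α, hα, a₁, ha₁, hαa⟩ := Submodule.mem_sup.1 hy
    refine ⟨s, hs, b, hb, ?_⟩
    have h1 : α • d' = 0 := (hAnn α).1 hα
    have h2 : a₁ • d' = 0 := Module.mem_annihilator.1 (hmap ha₁) d'
    rw [← hyb, ← hαa, add_smul, add_smul, h1, h2, zero_add, zero_add]

end A

section B
variable {R S R' S' : Type u} [CommRing R] [CommRing S] [CommRing R'] [CommRing S']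
  [Algebra R S] [Algebra R R'] [Algebra S S'] [Algebra R' S'] [Algebra R S']
  [IsScalarTower R S S'] [IsScalarTower R R' S'] [Algebra.IsPushout R S R' S']
  {M M' : Type u} [AddCommGroup M] [Module S M] [Module R M] [IsScalarTower R S M]
  [AddCommGroup M'] [Module S' M'] [Module R' M'] [IsScalarTower R' S' M'] [Module S M']
  [IsScalarTower S S' M']
  (X : Type u) [AddCommGroup X] [Module R' X] [Module R X] [IsScalarTower R R' X]

lemma exists_psi_eq_smul (f : M →ₗ[S] M') (hf : IsBaseChange S' f) (𝔮 : Ideal S) (b : S')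
    (hb : b ∈ 𝔮.map (algebraMap S S')) :
    ∀ v' : M' ⊗[R'] X, ∃ y ∈ 𝔮 • (⊤ : Submodule S (M ⊗[R] X)), psi R R' S' X f y = b • v' := by
  unfold Ideal.map at hb
  induction hb using Submodule.span_induction with
  | mem b hb =>
    obtain ⟨a, ha, rfl⟩ := hb
    intro v'
    obtain ⟨y₁, rfl⟩ := psi_surjective R R' S' X f hf v'
    exact ⟨a • y₁, Submodule.smul_mem_smul ha Submodule.mem_top, psi_smul R R' S' X f a y₁⟩
  | zero =>
    intro v'
    exact ⟨0, Submodule.zero_mem _, by simp⟩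
  | add b₁ b₂ _ _ h₁ h₂ =>
    intro v'
    obtain ⟨y₁, hy₁, e₁⟩ := h₁ v'
    obtain ⟨y₂, hy₂, e₂⟩ := h₂ v'
    exact ⟨y₁ + y₂, Submodule.add_mem _ hy₁ hy₂, by rw [map_add, e₁, e₂, add_smul]⟩
  | smul c b₁ _ h₁ =>
    intro v'
    obtain ⟨y₁, hy₁, e₁⟩ := h₁ (c • v')
    exact ⟨y₁, hy₁, by rw [e₁, smul_eq_mul, mul_comm, mul_smul]⟩

lemma exists_psi_eq_of_mem_smul (f : M →ₗ[S] M') (hf : IsBaseChange S' f) (𝔮 : Ideal S)
    (y' : M' ⊗[R'] X)
    (hy' : y' ∈ (𝔮.map (algebraMap S S')) • (⊤ : Submodule S' (M' ⊗[R'] X))) :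
    ∃ y ∈ 𝔮 • (⊤ : Submodule S (M ⊗[R] X)), psi R R' S' X f y = y' := by
  refine Submodule.smul_induction_on hy' (fun b hb v' _ => exists_psi_eq_smul X f hf 𝔮 b hb v') ?_
  rintro _ _ ⟨y₁, hy₁, rfl⟩ ⟨y₂, hy₂, rfl⟩
  exact ⟨y₁ + y₂, Submodule.add_mem _ hy₁ hy₂, map_add _ _ _⟩

lemma mem_pow_smul_of_psi (f : M →ₗ[S] M') (hf : IsBaseChange S' f) (q : Ideal S) (n : ℕ)
    (y : M ⊗[R] X)
    (hy : psi R R' S' X f y ∈
      ((q.map (algebraMap S S')) ^ n) • (⊤ : Submodule S' (M' ⊗[R'] X))) :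
    y ∈ (q ^ n) • (⊤ : Submodule S (M ⊗[R] X)) := by
  rw [← Ideal.map_pow] at hy
  obtain ⟨y₂, hy₂, e⟩ := exists_psi_eq_of_mem_smul (R := R) X f hf (q ^ n) _ hy
  rw [← psi_injective R R' S' X f hf e]
  exact hy₂

end B

section C

lemma exists_smul_eq_zero_of_pow {S : Type u} [CommRing S] [IsNoetherianRing S] (q : Ideal S)
    [q.IsPrime] {V : Type u} [AddCommGroup V] [Module S V] [Module.Finite S V]
    (z : V) (s : S) (hs : s ∉ q) (h : ∀ n : ℕ, s ^ n • z ∈ (q ^ n) • (⊤ : Submodule S V)) :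
    ∃ c : q.primeCompl, c • z = 0 := by
  let Sq := Localization.AtPrime q
  let Vq := LocalizedModule q.primeCompl V
  let ℓ := LocalizedModule.mkLinearMap q.primeCompl V
  rw [← IsLocalizedModule.eq_zero_iff q.primeCompl ℓ]
  have hmap : ∀ (n : ℕ) (w : V), w ∈ (q ^ n) • (⊤ : Submodule S V) →
      ℓ w ∈ ((maximalIdeal Sq) ^ n) • (⊤ : Submodule Sq Vq) := by
    intro n w hw
    refine Submodule.smul_induction_on hw ?_ ?_
    · intro a ha v _
      rw [map_smul, ← algebraMap_smul Sq a (ℓ v)]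
      refine Submodule.smul_mem_smul ?_ Submodule.mem_top
      rw [← IsLocalization.AtPrime.map_eq_maximalIdeal q Sq, ← Ideal.map_pow]
      exact Ideal.mem_map_of_mem _ ha
    · intro x y hx hy
      rw [map_add]
      exact Submodule.add_mem _ hx hy
  have hu : IsUnit (algebraMap S Sq s) := IsLocalization.map_units Sq (⟨s, hs⟩ : q.primeCompl)
  obtain ⟨u, hu⟩ := hu
  have hmem : ∀ n : ℕ, ℓ z ∈ ((maximalIdeal Sq) ^ n) • (⊤ : Submodule Sq Vq) := by
    intro n
    have h1 : ℓ z = ((u⁻¹ : Sqˣ) : Sq) ^ n • ℓ (s ^ n • z) := by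
      rw [map_smul, ← algebraMap_smul Sq (s ^ n) (ℓ z), map_pow, ← hu, ← mul_smul, ← mul_pow,
        Units.inv_mul, one_pow, one_smul]
    rw [h1]
    exact Submodule.smul_mem _ _ (hmap n _ (h n))
  have hbot := Ideal.iInf_pow_smul_eq_bot_of_isLocalRing (M := Vq) (maximalIdeal Sq)
    (maximalIdeal.isMaximal Sq).ne_top
  have : ℓ z ∈ (⨅ i : ℕ, (maximalIdeal Sq) ^ i • (⊤ : Submodule Sq Vq)) := by
    rw [Submodule.mem_iInf]
    exact hmem
  rw [hbot] at this
  exact this

end C

section D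
variable {R S : Type u} [CommRing R] [CommRing S] [Algebra R S]
  {M : Type u} [AddCommGroup M] [Module S M] [Module R M] [IsScalarTower R S M]

lemma H_localized' (q : Ideal S) [q.IsPrime] (I : Ideal R) {W : Type u} [AddCommGroup W]
    [Module R W] (π : I →ₗ[R] W)
    (hH : ∀ t : M ⊗[R] I, lTensor M I.subtype t = 0 →
      ∃ c : q.primeCompl, c • lTensor M π t = 0) :
    ∀ t : (LocalizedModule q.primeCompl M) ⊗[R] I,
      lTensor (LocalizedModule q.primeCompl M) I.subtype t = 0 →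
      lTensor (LocalizedModule q.primeCompl M) π t = 0 := by
  intro t ht
  let g := LocalizedModule.mkLinearMap q.primeCompl M
  have hcomm : ∀ {X Y : Type u} [AddCommGroup X] [Module R X] [AddCommGroup Y] [Module R Y]
      (φ : X →ₗ[R] Y) (z : M ⊗[R] X),
      lTensor (LocalizedModule q.primeCompl M) φ (AlgebraTensorModule.rTensor R X g z) =
      AlgebraTensorModule.rTensor R Y g (lTensor M φ z) := by
    intro X Y _ _ _ _ φ z
    induction z using TensorProduct.induction_on with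
    | zero => simp
    | add a b ha hb => simp only [map_add, ha, hb]
    | tmul m a => simp
  have hsm : ∀ {X Y : Type u} [AddCommGroup X] [Module R X] [AddCommGroup Y] [Module R Y]
      (φ : X →ₗ[R] Y) (s : S) (z : (LocalizedModule q.primeCompl M) ⊗[R] X),
      lTensor (LocalizedModule q.primeCompl M) φ (s • z) =
      s • lTensor (LocalizedModule q.primeCompl M) φ z := by
    intro X Y _ _ _ _ φ s z
    exact map_smul (AlgebraTensorModule.lTensor S (LocalizedModule q.primeCompl M) φ) s z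
  have hsm' : ∀ {X Y : Type u} [AddCommGroup X] [Module R X] [AddCommGroup Y] [Module R Y]
      (φ : X →ₗ[R] Y) (s : S) (z : M ⊗[R] X),
      lTensor M φ (s • z) = s • lTensor M φ z := by
    intro X Y _ _ _ _ φ s z
    exact map_smul (AlgebraTensorModule.lTensor S M φ) s z
  obtain ⟨⟨t₀, s⟩, hs⟩ := IsLocalizedModule.surj q.primeCompl
    (AlgebraTensorModule.rTensor R I g) t
  simp only at hs
  have h1 : AlgebraTensorModule.rTensor R R g (lTensor M I.subtype t₀) = 0 := by
    rw [← hcomm, ← hs, Submonoid.smul_def, hsm, ht, smul_zero]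
  obtain ⟨c, hc⟩ := (IsLocalizedModule.eq_zero_iff q.primeCompl
    (AlgebraTensorModule.rTensor R R g)).1 h1
  have h2 : lTensor M I.subtype ((c : S) • t₀) = 0 := by
    rw [hsm']; exact hc
  obtain ⟨c₂, h3⟩ := hH _ h2
  have h3' : lTensor M π ((c₂ : S) • (c : S) • t₀) = 0 := by
    rw [hsm']; exact h3
  have h4 : (c₂ : S) • (c : S) • (s : S) • lTensor (LocalizedModule q.primeCompl M) π t = 0 := by
    rw [← hsm, ← hsm, ← hsm, ← Submonoid.smul_def s, hs, ← map_smul, ← map_smul, hcomm,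
      h3', map_zero]
  have h5 := IsLocalizedModule.smul_injective (AlgebraTensorModule.rTensor R W g) c
  have h6 := IsLocalizedModule.smul_injective (AlgebraTensorModule.rTensor R W g) s
  have h7 := IsLocalizedModule.smul_injective (AlgebraTensorModule.rTensor R W g) c₂
  apply h6
  apply h5
  apply h7
  simp only [smul_zero]
  exact h4

end D

end Groth.Agent.Lead.FlatUnivC
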