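import Mathlib
import Groth.Agent.Lead.FlatUnivC

set_option autoImplicit false
open TensorProduct Function LinearMap IsLocalRing
universe u

namespace Groth.Agent.Lead.FlatUnivD

open Groth.Agent.Helper2.AdicFlat Groth.Agent.Helper2.FlatCL1 Groth.Agent.Helper2.FlatCL2
  Groth.Agent.Helper2.FlatCL4 Groth.Agent.Lead.FlatUnivB Groth.Agent.Lead.FlatUnivC

/-- a functional on a module killed by the maximal ideal, with value one at a nonzero vector -/
lemma exists_functional {R : Type u} [CommRing R] [IsLocalRing R] {W : Type u} [AddCommGroup W]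
    [Module R W] (hW : Module.IsTorsionBySet R W (maximalIdeal R)) (w₀ : W) (hw₀ : w₀ ≠ 0) :
    ∃ μ : W →ₗ[R] (R ⧸ maximalIdeal R), μ w₀ = 1 := by
  letI : Field (R ⧸ maximalIdeal R) := Ideal.Quotient.field (maximalIdeal R)
  letI := hW.module
  haveI : IsScalarTower R (R ⧸ maximalIdeal R) W := hW.isScalarTower
  let f₀ : (R ⧸ maximalIdeal R) →ₗ[R ⧸ maximalIdeal R] W :=
    LinearMap.toSpanSingleton (R ⧸ maximalIdeal R) W w₀
  have hker : LinearMap.ker f₀ = ⊥ := by
    rw [LinearMap.ker_eq_bot, injective_iff_map_eq_zero]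
    intro c hc
    rw [LinearMap.toSpanSingleton_apply] at hc
    rcases smul_eq_zero.1 hc with h | h
    · exact h
    · exact absurd h hw₀
  obtain ⟨g, hg⟩ := LinearMap.exists_leftInverse_of_injective f₀ hker
  refine ⟨g.restrictScalars R, ?_⟩
  have := congrArg (fun φ => φ 1) hg
  simpa [f₀] using this

section Key
variable {R S R' S' : Type u} [CommRing R] [IsLocalRing R] [IsNoetherianRing R]
  [CommRing S] [IsNoetherianRing S] [CommRing R'] [IsLocalRing R'] [CommRing S']
  [Algebra R S] [Algebra R R'] [IsLocalHom (algebraMap R R')] [Algebra S S'] [Algebra R' S']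
  [Algebra R S'] [IsScalarTower R S S'] [IsScalarTower R R' S'] [Algebra.IsPushout R S R' S']
  {M M' : Type u} [AddCommGroup M] [Module S M] [Module R M] [IsScalarTower R S M]
  [Module.Finite S M]
  [AddCommGroup M'] [Module S' M'] [Module R' M'] [IsScalarTower R' S' M'] [Module S M']
  [IsScalarTower S S' M']

theorem exists_smaller (f : M →ₗ[S] M') (hf : IsBaseChange S' f) (q : Ideal S) [q.IsPrime]
    (hflat : ∀ (q' : Ideal S') [q'.IsPrime], q'.comap (algebraMap S S') = q →
      q'.comap (algebraMap R' S') = maximalIdeal R' →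
      Module.Flat R' (LocalizedModule q'.primeCompl M'))
    (I : Ideal R) (hIm : I ≤ maximalIdeal R)
    (hI : TorsionFlat I (LocalizedModule q.primeCompl M)) :
    I ≤ RingHom.ker (algebraMap R R') ∨
      ∃ I₁ : Ideal R, I₁ < I ∧ TorsionFlat I₁ (LocalizedModule q.primeCompl M) := by
  by_cases hker : I ≤ RingHom.ker (algebraMap R R')
  · exact Or.inl hker
  right
  have hloc : (maximalIdeal R).map (algebraMap R R') ≤ maximalIdeal R' :=
    ((IsLocalRing.local_hom_TFAE (algebraMap R R')).out 0 2).1 ‹IsLocalHom (algebraMap R R')›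
  have hI'ne : I.map (algebraMap R R') ≠ ⊥ := by
    rwa [Ne, Ideal.map_eq_bot_iff_le_ker]
  have hI'fg : (I.map (algebraMap R R')).FG := Ideal.FG.map (IsNoetherian.noetherian I) _
  have hnak : ¬ I.map (algebraMap R R') ≤ maximalIdeal R' • I.map (algebraMap R R') :=
    fun h => hI'ne (Submodule.eq_bot_of_le_smul_of_le_jacobson_bot (maximalIdeal R') _ hI'fg h
      (maximalIdeal_le_jacobson ⊥))
  let K' : Submodule R' ↥(I.map (algebraMap R R')) := maximalIdeal R' • ⊤
  have hW' : ∀ a ∈ maximalIdeal R', ∀ w : ↥(I.map (algebraMap R R')) ⧸ K', a • w = 0 := by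
    intro a ha w
    obtain ⟨x, rfl⟩ := Submodule.Quotient.mk_surjective _ w
    rw [← Submodule.Quotient.mk_smul, Submodule.Quotient.mk_eq_zero]
    exact Submodule.smul_mem_smul ha Submodule.mem_top
  have hmem : ∀ a ∈ maximalIdeal R, algebraMap R R' a ∈ maximalIdeal R' := fun a ha =>
    hloc (Ideal.mem_map_of_mem _ ha)
  have hWtorsR : Module.IsTorsionBySet R (↥(I.map (algebraMap R R')) ⧸ K') (maximalIdeal R) := by
    intro w a
    change (a : R) • w = 0
    rw [← algebraMap_smul R' (a : R) w]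
    exact hW' _ (hmem a.1 a.2) w
  -- an element of I whose image is not in m' I'
  obtain ⟨a₀, ha₀, ha₀'⟩ : ∃ a₀ ∈ I, algebraMap R R' a₀ ∉
      maximalIdeal R' • I.map (algebraMap R R') := by
    by_contra hcon
    push_neg at hcon
    apply hnak
    rw [Ideal.map_le_iff_le_comap]
    intro a ha
    exact hcon a ha
  let Λ : I →ₗ[R] (↥(I.map (algebraMap R R')) ⧸ K') := (K'.mkQ.restrictScalars R) ∘ₗ can R' I
  have hw₀ : Λ ⟨a₀, ha₀⟩ ≠ 0 := by
    intro h0
    have h1 : can R' I ⟨a₀, ha₀⟩ ∈ K' := (Submodule.Quotient.mk_eq_zero K').1 h0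
    exact ha₀' ((Submodule.mem_smul_top_iff _ _ _).1 h1)
  obtain ⟨μ, hμ⟩ := exists_functional hWtorsR _ hw₀
  let π : I →ₗ[R] (R ⧸ maximalIdeal R) := μ ∘ₗ Λ
  let I₁ : Ideal R := (LinearMap.ker π).map I.subtype
  have hI₁le : I₁ ≤ I := by
    rintro _ ⟨a, -, rfl⟩
    exact a.2
  have hπ : ∀ a : I, π a = 0 ↔ (a : R) ∈ I₁ := by
    intro a
    constructor
    · intro h; exact ⟨a, h, rfl⟩
    · rintro ⟨b, hb, hba⟩
      have : b = a := Subtype.ext hba
      rw [← this]; exact hb
  have hI₁lt : I₁ < I := by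
    refine lt_of_le_of_ne hI₁le ?_
    intro heq
    have h1 : π ⟨a₀, ha₀⟩ = 0 := (hπ ⟨a₀, ha₀⟩).2 (by rw [heq]; exact ha₀)
    have h2 : π ⟨a₀, ha₀⟩ = 1 := hμ
    rw [h2] at h1
    haveI : Nontrivial (R ⧸ maximalIdeal R) := Ideal.Quotient.nontrivial_iff.2
      (maximalIdeal.isMaximal R).ne_top
    exact one_ne_zero h1
  have hktors : ∀ a ∈ maximalIdeal R, ∀ x : R ⧸ maximalIdeal R, a • x = 0 := by
    intro a ha x
    rw [Algebra.smul_def, Ideal.Quotient.algebraMap_eq, Ideal.Quotient.eq_zero_iff_mem.2 ha,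
      zero_mul]
  have hsq : I * I ≤ I₁ := by
    rw [Ideal.mul_le]
    intro a ha b hb
    refine ⟨⟨a * b, I.mul_mem_left a hb⟩, ?_, rfl⟩
    change π ⟨a * b, I.mul_mem_left a hb⟩ = 0
    have : (⟨a * b, I.mul_mem_left a hb⟩ : I) = a • (⟨b, hb⟩ : I) := Subtype.ext rfl
    rw [this, map_smul]
    exact hktors a (hIm ha) _
  have hWtors : Module.IsTorsionBySet R (R ⧸ maximalIdeal R) I := by
    intro w a
    exact hktors a.1 (hIm a.2) w
  refine ⟨I₁, hI₁lt, ?_⟩
  -- the key vanishing
  have hH : ∀ t : M ⊗[R] I, lTensor M I.subtype t = 0 →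
      ∃ c : q.primeCompl, c • lTensor M π t = 0 := by
    intro t ht
    obtain ⟨u₀, hu₀⟩ : ∃ u₀ : M ⊗[R] ↥(I.map (algebraMap R R')), u₀ = lTensor M (can R' I) t :=
      ⟨_, rfl⟩
    obtain ⟨t', ht'⟩ : ∃ t' : M' ⊗[R'] ↥(I.map (algebraMap R R')),
        t' = psi R R' S' ↥(I.map (algebraMap R R')) f u₀ := ⟨_, rfl⟩
    have h1 : lTensor M' (I.map (algebraMap R R')).subtype t' = 0 := by
      rw [ht', ← psi_natural R R' S' f (I.map (algebraMap R R')).subtype u₀, hu₀,
        ← LinearMap.comp_apply, ← LinearMap.lTensor_comp]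
      have : (I.map (algebraMap R R')).subtype.restrictScalars R ∘ₗ can R' I =
          (Algebra.linearMap R R') ∘ₗ I.subtype := by
        ext a; rfl
      rw [this, LinearMap.lTensor_comp, LinearMap.comp_apply, ht, map_zero, map_zero]
    obtain ⟨s, hs, b, hb, hsb⟩ := exists_smul_eq_smul q hflat _ hW' K'.mkQ t' h1
    obtain ⟨d, hd⟩ : ∃ d : M ⊗[R] (↥(I.map (algebraMap R R')) ⧸ K'),
        d = lTensor M (K'.mkQ.restrictScalars R) u₀ := ⟨_, rfl⟩
    have hpsid : psi R R' S' _ f d = lTensor M' K'.mkQ t' := by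
      rw [hd, ht', psi_natural R R' S' f K'.mkQ u₀]
    rw [← hpsid] at hsb
    have hpow : ∀ n : ℕ, psi R R' S' _ f (s ^ n • d) = b ^ n • psi R R' S' _ f d := by
      intro n
      induction n with
      | zero => simp
      | succ n ih =>
        calc psi R R' S' _ f (s ^ (n + 1) • d)
            = psi R R' S' _ f (s ^ n • (s • d)) := by rw [pow_succ, mul_smul]
          _ = algebraMap S S' (s ^ n) • (algebraMap S S' s • psi R R' S' _ f d) := by
              rw [psi_smul, psi_smul]
          _ = algebraMap S S' (s ^ n) • (b • psi R R' S' _ f d) := by rw [hsb]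
          _ = b • (algebraMap S S' (s ^ n) • psi R R' S' _ f d) := by rw [smul_comm]
          _ = b • psi R R' S' _ f (s ^ n • d) := by rw [psi_smul]
          _ = b • (b ^ n • psi R R' S' _ f d) := by rw [ih]
          _ = b ^ (n + 1) • psi R R' S' _ f d := by rw [pow_succ, mul_smul, smul_comm]
    have hmemn : ∀ n : ℕ, s ^ n • d ∈ (q ^ n) • (⊤ : Submodule S (M ⊗[R] _)) := by
      intro n
      apply mem_pow_smul_of_psi (R := R) (R' := R') (S' := S') _ f hf q n
      rw [hpow n]
      exact Submodule.smul_mem_smul (Ideal.pow_mem_pow hb n) Submodule.mem_top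
    have hz : lTensor M π t = lTensor M μ d := by
      rw [hd, hu₀, ← LinearMap.comp_apply, ← LinearMap.lTensor_comp, ← LinearMap.comp_apply,
        ← LinearMap.lTensor_comp]
      rfl
    have hzn : ∀ n : ℕ, s ^ n • lTensor M π t ∈
        (q ^ n) • (⊤ : Submodule S (M ⊗[R] (R ⧸ maximalIdeal R))) := by
      intro n
      rw [hz]
      have h2 : s ^ n • lTensor M μ d = AlgebraTensorModule.lTensor S M μ (s ^ n • d) :=
        (map_smul (AlgebraTensorModule.lTensor S M μ) (s ^ n) d).symm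
      rw [h2]
      have h3 := Submodule.mem_map_of_mem (f := AlgebraTensorModule.lTensor S M μ) (hmemn n)
      rw [Submodule.map_smul''] at h3
      exact Submodule.smul_mono le_rfl le_top h3
    exact exists_smul_eq_zero_of_pow q _ s hs hzn
  have hflatI₁ : Module.Flat (R ⧸ I₁) ((R ⧸ I₁) ⊗[R] LocalizedModule q.primeCompl M) :=
    Groth.Agent.Lead.FlatUnivA.flat_of_H I I₁ _ hI₁le hsq hI _ hWtors π hπ
      (H_localized' q I π hH)
  exact torsionFlat_of_flat I₁ _

end Key

end Groth.Agent.Lead.FlatUnivD
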