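import Mathlib
import Groth.Agent.Lead.FlatUnivD

set_option autoImplicit false
open TensorProduct Function LinearMap IsLocalRing
universe u

namespace Groth.Agent.Lead.FlatUnivE

open Groth.Agent.Helper2.AdicFlat Groth.Agent.Helper2.FlatCL1 Groth.Agent.Helper2.FlatCL2

/-- Artinian descent: if every nonzero ideal `I ≤ m` with `N` flat mod `I` admits a strictly
smaller such ideal, then `N` is flat. -/
theorem flat_of_descent {R : Type u} [CommRing R] [IsLocalRing R] [IsArtinianRing R]
    (N : Type u) [AddCommGroup N] [Module R N]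
    (h : ∀ I : Ideal R, I ≤ maximalIdeal R → I ≠ ⊥ → TorsionFlat I N →
      ∃ I₁ : Ideal R, I₁ < I ∧ TorsionFlat I₁ N) : Module.Flat R N := by
  classical
  have hm : TorsionFlat (maximalIdeal R) N := by
    rw [torsionFlat_iff_flat]
    letI : Field (R ⧸ maximalIdeal R) := Ideal.Quotient.field _
    infer_instance
  obtain ⟨I, ⟨hIm, hI⟩, hmin⟩ :=
    IsArtinian.set_has_minimal (R := R) (M := R) {J : Ideal R | J ≤ maximalIdeal R ∧ TorsionFlat J N}
      ⟨_, le_rfl, hm⟩
  by_cases hbot : I = ⊥
  · subst hbot
    rw [Module.Flat.iff_lTensor_preserves_injective_linearMap]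
    intro N' N'' _ _ _ _ ι hι
    exact hI N' N'' (fun x a => by
      have : (a : R) = 0 := Ideal.mem_bot.1 a.2
      show (a : R) • x = 0
      rw [this, zero_smul]) (fun x a => by
      have : (a : R) = 0 := Ideal.mem_bot.1 a.2
      show (a : R) • x = 0
      rw [this, zero_smul]) ι hι
  · obtain ⟨I₁, hlt, hI₁⟩ := h I hIm hbot hI
    exact absurd hlt (hmin I₁ ⟨hlt.le.trans hIm, hI₁⟩)

/-- A ring hom from an Artinian local ring to a nontrivial ring is local. -/
lemma isLocalHom_of_artinian {R R' : Type*} [CommRing R] [IsLocalRing R] [IsArtinianRing R]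
    [CommRing R'] [Nontrivial R'] (φ : R →+* R') : IsLocalHom φ := by
  constructor
  intro a ha
  by_contra hna
  have hmem : a ∈ maximalIdeal R := (IsLocalRing.mem_maximalIdeal a).2 hna
  have hnil : IsNilpotent a := by
    have : a ∈ nilradical R := by
      rw [nilradical_eq_sInf, Ideal.mem_sInf]
      intro J hJ
      have : J = maximalIdeal R := by
        haveI : J.IsPrime := hJ
        haveI : J.IsMaximal := inferInstance
        exact IsLocalRing.eq_maximalIdeal ‹_›
      rw [this]; exact hmem
    exact this
  have hnil' : IsNilpotent (φ a) := hnil.map φ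
  exact hnil'.not_isUnit ha |>.elim

end Groth.Agent.Lead.FlatUnivE
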