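import Mathlib
import Groth.Prelude
import Groth.Agent.Lead.FlatUnivE
import Groth.Agent.Helper2.FlatStageLim
import Groth.Agent.Helper4.SecDict

set_option autoImplicit false
open TensorProduct Function LinearMap IsLocalRing CategoryTheory CategoryTheory.Limits AlgebraicGeometry
universe u

namespace Groth.Agent.Lead.FlatUnivF

open Groth.Agent.Helper2.AdicFlat Groth.Agent.Helper2.FlatCL1 Groth.Agent.Helper2.FlatCL2
open Groth.Agent.Lead.FlatUnivD Groth.Agent.Lead.FlatUnivE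

/-- the point of an affine open attached to a prime ideal of its ring of sections -/
lemma primeIdealOf_fromSpec {X : Scheme.{u}} {W : X.Opens} (hW : IsAffineOpen W)
    (P : PrimeSpectrum Γ(X, W)) (h : hW.fromSpec P ∈ W) :
    hW.primeIdealOf ⟨hW.fromSpec P, h⟩ = P := by
  haveI := hW.isOpenImmersion_fromSpec
  apply hW.fromSpec.isOpenEmbedding.injective
  rw [hW.fromSpec_primeIdealOf]

lemma fromSpec_mem {X : Scheme.{u}} {W : X.Opens} (hW : IsAffineOpen W)
    (P : PrimeSpectrum Γ(X, W)) : hW.fromSpec P ∈ W := by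
  have : hW.fromSpec P ∈ Set.range hW.fromSpec := ⟨P, rfl⟩
  rw [hW.range_fromSpec] at this
  exact this

/-- A point of `Spec A` (A local) whose prime in `Γ(Spec A, ⊤)` is the maximal ideal is the closed
point. -/
lemma eq_closedPoint_of_primeIdealOf {A : Type u} [CommRing A] [IsLocalRing A]
    (y : Spec (CommRingCat.of A))
    (hy : ((isAffineOpen_top (Spec (CommRingCat.of A))).primeIdealOf ⟨y, trivial⟩).asIdeal.IsMaximal) :
    y = closedPoint A := by
  have h1 := (isAffineOpen_top (Spec (CommRingCat.of A))).fromSpec_primeIdealOf ⟨y, trivial⟩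
  rw [IsAffineOpen.fromSpec_top, Scheme.isoSpec_Spec_inv] at h1
  simp only at h1
  rw [← h1]
  apply PrimeSpectrum.ext
  haveI := hy
  show Ideal.comap _ _ = maximalIdeal A
  apply IsLocalRing.eq_maximalIdeal
  exact Ideal.comap_isMaximal_of_surjective _
    (ConcreteCategory.bijective_of_isIso (Scheme.ΓSpecIso (CommRingCat.of A)).inv).2


lemma exists_affine_mem {X : Scheme.{u}} (x : X) : ∃ W : X.Opens, IsAffineOpen W ∧ x ∈ W := by
  obtain ⟨W, hW, hx, -⟩ := exists_isAffineOpen_mem_and_subset (x := x) (U := ⊤) trivial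
  exact ⟨W, hW, hx⟩

open CategoryTheory.Limits in
theorem s4856 {A : Type u} [CommRing A]
    [IsArtinianRing A] [IsLocalRing A] {X : Scheme.{u}} (f : X ⟶ Spec (CommRingCat.of A))
    [LocallyOfFiniteType f] (F : X.Modules) (hF : Coh.IsCoh F) (x : X)
    {ι : Type u} (A' : ι → Type u) [∀ i, CommRing (A' i)] [∀ i, IsLocalRing (A' i)] (u : ∀ i, A →+* A' i)
    (hu : ∀ a : A, (∀ i, u i a = 0) → a = 0)
    (hflat : ∀ (i : ι) (x' : ↥(pullback f (Spec.map (CommRingCat.ofHom (u i))))),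
      pullback.fst f (Spec.map (CommRingCat.ofHom (u i))) x' = x →
      pullback.snd f (Spec.map (CommRingCat.ofHom (u i))) x' = IsLocalRing.closedPoint (A' i) →
      FlatMod.IsFlatOverAt (pullback.snd f (Spec.map (CommRingCat.ofHom (u i))))
        ((Scheme.Modules.pullback (pullback.fst f (Spec.map (CommRingCat.ofHom (u i))))).obj F) x') :
    FlatMod.IsFlatOverAt f F x := by
  haveI : F.IsQuasicoherent := hF.1
  obtain ⟨W, hW, hxW⟩ := exists_affine_mem x
  have hV := isAffineOpen_top (Spec (CommRingCat.of A))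
  have e : W ≤ f ⁻¹ᵁ ⊤ := le_top
  rw [Groth.Agent.Helper2.FlatLocusMod.isFlatOverAt_iff_localized f F hV hW e x hxW]
  letI alg : Algebra Γ(Spec (CommRingCat.of A), ⊤) Γ(X, W) := (f.appLE ⊤ W e).hom.toAlgebra
  letI modR : Module Γ(Spec (CommRingCat.of A), ⊤) Γ(F, W) := Module.compHom _ (f.appLE ⊤ W e).hom
  haveI : IsScalarTower Γ(Spec (CommRingCat.of A), ⊤) Γ(X, W) Γ(F, W) :=
    IsScalarTower.of_algebraMap_smul fun r m => rfl
  let eR : Γ(Spec (CommRingCat.of A), ⊤) ≃+* A :=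
    (Scheme.ΓSpecIso (CommRingCat.of A)).commRingCatIsoToRingEquiv
  haveI : IsLocalRing Γ(Spec (CommRingCat.of A), ⊤) := eR.symm.isLocalRing
  haveI : IsArtinianRing Γ(Spec (CommRingCat.of A), ⊤) := eR.symm.isArtinianRing
  haveI : IsNoetherianRing Γ(Spec (CommRingCat.of A), ⊤) := inferInstance
  haveI : Algebra.FiniteType Γ(Spec (CommRingCat.of A), ⊤) Γ(X, W) :=
    LocallyOfFiniteType.finiteType_appLE f hV hW e
  haveI : IsNoetherianRing Γ(X, W) :=
    Algebra.FiniteType.isNoetherianRing Γ(Spec (CommRingCat.of A), ⊤) Γ(X, W)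
  haveI : Module.Finite Γ(X, W) Γ(F, W) :=
    Groth.Agent.Helper4.SecDict.finite_sections hW F hF.1 hF.2
  apply flat_of_descent
  intro I hIm hIne hI
  obtain ⟨a, haI, ha0⟩ := Submodule.exists_mem_ne_zero_of_ne_bot hIne
  have hex : ∃ i, u i (eR a) ≠ 0 := by
    by_contra hcon
    push_neg at hcon
    exact ha0 (eR.injective (by rw [hu _ hcon, map_zero]))
  obtain ⟨i, hi⟩ := hex
  obtain ⟨pY, hpY⟩ : ∃ pY, pY = Spec.map (CommRingCat.ofHom (u i)) := ⟨_, rfl⟩
  have hflat_i := hflat i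
  rw [← hpY] at hflat_i
  have hc : IsPullback (pullback.fst f pY) (pullback.snd f pY) f pY := IsPullback.of_hasPullback f pY
  have hV' := isAffineOpen_top (Spec (CommRingCat.of (A' i)))
  have eV : (⊤ : (Spec (CommRingCat.of (A' i))).Opens) ≤ pY ⁻¹ᵁ ⊤ := le_top
  obtain ⟨W', hW'def⟩ : ∃ W' : (pullback f pY).Opens,
    W' = pullback.fst f pY ⁻¹ᵁ W ⊓ pullback.snd f pY ⁻¹ᵁ ⊤ := ⟨_, rfl⟩
  obtain ⟨hW', hpo⟩ := Groth.Agent.Helper2.FlatStageLim.stage_pushout hc hV hW e hV' eV hW'def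
  have e1 : W' ≤ pullback.snd f pY ⁻¹ᵁ ⊤ := by rw [hW'def]; exact inf_le_right
  have e2 : W' ≤ pullback.fst f pY ⁻¹ᵁ W := by rw [hW'def]; exact inf_le_left
  letI algRR' : Algebra Γ(Spec (CommRingCat.of A), ⊤) Γ(Spec (CommRingCat.of (A' i)), ⊤) :=
    (pY.appLE ⊤ ⊤ eV).hom.toAlgebra
  letI algSS' : Algebra Γ(X, W) Γ(pullback f pY, W') :=
    ((pullback.fst f pY).appLE W W' e2).hom.toAlgebra
  letI algR'S' : Algebra Γ(Spec (CommRingCat.of (A' i)), ⊤) Γ(pullback f pY, W') :=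
    ((pullback.snd f pY).appLE ⊤ W' e1).hom.toAlgebra
  letI algRS' : Algebra Γ(Spec (CommRingCat.of A), ⊤) Γ(pullback f pY, W') :=
    ((f.appLE ⊤ W e) ≫ ((pullback.fst f pY).appLE W W' e2)).hom.toAlgebra
  haveI : IsScalarTower Γ(Spec (CommRingCat.of A), ⊤) Γ(X, W) Γ(pullback f pY, W') :=
    IsScalarTower.of_algebraMap_eq (fun _ => rfl)
  haveI : IsScalarTower Γ(Spec (CommRingCat.of A), ⊤) Γ(Spec (CommRingCat.of (A' i)), ⊤)
      Γ(pullback f pY, W') :=
    IsScalarTower.of_algebraMap_eq (fun r => congr($(hpo.w).hom r))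
  haveI : Algebra.IsPushout Γ(Spec (CommRingCat.of A), ⊤) Γ(X, W)
      Γ(Spec (CommRingCat.of (A' i)), ⊤) Γ(pullback f pY, W') :=
    CommRingCat.isPushout_iff_isPushout.mp hpo
  let eR' : Γ(Spec (CommRingCat.of (A' i)), ⊤) ≃+* A' i :=
    (Scheme.ΓSpecIso (CommRingCat.of (A' i))).commRingCatIsoToRingEquiv
  haveI : IsLocalRing Γ(Spec (CommRingCat.of (A' i)), ⊤) := eR'.symm.isLocalRing
  haveI : IsLocalHom (algebraMap Γ(Spec (CommRingCat.of A), ⊤) Γ(Spec (CommRingCat.of (A' i)), ⊤)) :=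
    isLocalHom_of_artinian _
  have hnat : ∀ r : Γ(Spec (CommRingCat.of A), ⊤),
      eR' (algebraMap Γ(Spec (CommRingCat.of A), ⊤) Γ(Spec (CommRingCat.of (A' i)), ⊤) r) =
        u i (eR r) := by
    intro r
    have h := Scheme.ΓSpecIso_naturality (CommRingCat.ofHom (u i))
    have h2 := congr($(h).hom r)
    rw [← hpY] at h2
    have h3 : pY.appLE ⊤ ⊤ eV = pY.appTop := by
      rw [Scheme.Hom.appTop, Scheme.Hom.app_eq_appLE]
      rfl
    show (Scheme.ΓSpecIso (CommRingCat.of (A' i))).hom.hom ((pY.appLE ⊤ ⊤ eV).hom r) = _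
    rw [h3]
    exact h2
  have hker : ¬ I ≤ RingHom.ker (algebraMap Γ(Spec (CommRingCat.of A), ⊤)
      Γ(Spec (CommRingCat.of (A' i)), ⊤)) := by
    intro hle
    have h0 := hle haI
    rw [RingHom.mem_ker] at h0
    apply hi
    rw [← hnat, h0, map_zero]
  have key := exists_smaller (R := Γ(Spec (CommRingCat.of A), ⊤)) (S := Γ(X, W))
    (R' := Γ(Spec (CommRingCat.of (A' i)), ⊤)) (S' := Γ(pullback f pY, W'))
    (M := Γ(F, W)) (M' := Γ(pullback f pY, W') ⊗[Γ(X, W)] Γ(F, W))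
    (TensorProduct.mk Γ(X, W) Γ(pullback f pY, W') Γ(F, W) 1)
    (TensorProduct.isBaseChange Γ(X, W) Γ(F, W) Γ(pullback f pY, W'))
    (hW.primeIdealOf ⟨x, hxW⟩).asIdeal ?_ I hIm hI
  · rcases key with h | h
    · exact absurd h hker
    · exact h
  · intro q' hq'prime hq1 hq2
    let P : PrimeSpectrum Γ(pullback f pY, W') := ⟨q', hq'prime⟩
    have hx' : hW'.fromSpec P ∈ W' := fromSpec_mem hW' P
    have hP : hW'.primeIdealOf ⟨hW'.fromSpec P, hx'⟩ = P := primeIdealOf_fromSpec hW' P hx'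
    have h1 : pullback.fst f pY (hW'.fromSpec P) = x := by
      have h := Groth.Agent.Helper2.FlatStageLim.primeIdealOf_comap (pullback.fst f pY) hW hW' e2
        (hW'.fromSpec P) hx'
      rw [hP] at h
      have h' : hW.primeIdealOf ⟨pullback.fst f pY (hW'.fromSpec P), e2 hx'⟩ =
          hW.primeIdealOf ⟨x, hxW⟩ := by
        rw [← h]
        exact PrimeSpectrum.ext hq1
      have h'' := congrArg hW.fromSpec h'
      rwa [hW.fromSpec_primeIdealOf, hW.fromSpec_primeIdealOf] at h''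
    have h2 : pullback.snd f pY (hW'.fromSpec P) = closedPoint (A' i) := by
      have h := Groth.Agent.Helper2.FlatStageLim.primeIdealOf_comap (pullback.snd f pY) hV' hW' e1
        (hW'.fromSpec P) hx'
      rw [hP] at h
      apply eq_closedPoint_of_primeIdealOf
      have h' : (hV'.primeIdealOf ⟨pullback.snd f pY (hW'.fromSpec P), e1 hx'⟩).asIdeal =
          maximalIdeal _ := by
        rw [← h]
        exact hq2
      rw [h']
      infer_instance
    have h3 := hflat_i (hW'.fromSpec P) h1 h2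
    rw [Groth.Agent.Helper2.FlatStageDict.isFlatOverAt_pullback_iff (pullback.snd f pY)
      (pullback.fst f pY) F hV' hW hW' e1 e2 (hW'.fromSpec P) hx', hP] at h3
    exact h3

end Groth.Agent.Lead.FlatUnivF
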