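import Mathlib
import Groth.Prelude
import Groth.Agent.Lead.FlatUnivF

set_option autoImplicit false
open TensorProduct Function LinearMap IsLocalRing CategoryTheory CategoryTheory.Limits AlgebraicGeometry
universe u

namespace Groth.Agent.Lead.FlatUnivG

open Groth.Agent.Lead.FlatUnivF

/-- A morphism to `Spec A` from `Spec B` is `Spec.map` of the induced map on global sections. -/
lemma specMap_eq_of_appTop {A : CommRingCat.{u}} {B : CommRingCat.{u}} (h : Spec B ⟶ Spec A) :
    Spec.map ((Scheme.ΓSpecIso A).inv ≫ h.appTop ≫ (Scheme.ΓSpecIso B).hom) = h := by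
  apply ext_of_isAffine
  have h1 := Scheme.ΓSpecIso_naturality ((Scheme.ΓSpecIso A).inv ≫ h.appTop ≫ (Scheme.ΓSpecIso B).hom)
  rw [← cancel_mono (Scheme.ΓSpecIso B).hom, h1]
  simp

/-- flatness over a base change `q = j ≫ g` follows from flatness over the base change `g` -/
lemma flat_of_factor {X Z Y T : Scheme.{u}} (f : X ⟶ Z) (F : X.Modules) [F.IsQuasicoherent]
    (g : Y ⟶ Z) (j : T ⟶ Y) (q : T ⟶ Z) (hq : q = j ≫ g) (x'' : ↥(pullback f q))
    (h : FlatMod.IsFlatOverAt (pullback.snd f g)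
      ((Scheme.Modules.pullback (pullback.fst f g)).obj F)
      (pullback.lift (pullback.fst f q) (pullback.snd f q ≫ j)
        (by rw [pullback.condition, Category.assoc, hq]) x'')) :
    FlatMod.IsFlatOverAt (pullback.snd f q)
      ((Scheme.Modules.pullback (pullback.fst f q)).obj F) x'' :=
  Groth.Agent.Helper2.FlatStageLim.isFlatOverAt_of_stage f F (pullback.snd f q) q
    (pullback.fst f q) (IsPullback.of_hasPullback f q) (pullback.snd f g) g (pullback.fst f g) j
    (pullback.lift (pullback.fst f q) (pullback.snd f q ≫ j)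
        (by rw [pullback.condition, Category.assoc, hq]))
    (IsPullback.of_hasPullback f g) hq.symm (pullback.lift_fst _ _ _) (pullback.lift_snd _ _ _)
    x'' h

open CategoryTheory.Limits in
theorem s5918 {A : Type u} [CommRing A]
    [IsArtinianRing A] [IsLocalRing A] {X : Scheme.{u}} (f : X ⟶ Spec (CommRingCat.of A))
    [LocallyOfFiniteType f] (F : X.Modules) (hF : Coh.IsCoh F) (x : X)
    {ι : Type u} (Y : ι → Scheme.{u}) (g : ∀ i, Y i ⟶ Spec (CommRingCat.of A))
    (hg : ∀ a : A, (∀ i, (g i).appTop ((Scheme.ΓSpecIso (CommRingCat.of A)).inv a) = 0) → a = 0)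
    (hflat : ∀ (i : ι) (x' : ↥(pullback f (g i))), pullback.fst f (g i) x' = x →
      FlatMod.IsFlatOverAt (pullback.snd f (g i)) ((Scheme.Modules.pullback (pullback.fst f (g i))).obj F) x') :
    FlatMod.IsFlatOverAt f F x := by
  haveI : F.IsQuasicoherent := hF.1
  let φ : ∀ p : (Σ i, Y i), CommRingCat.of A ⟶ (Y p.1).presheaf.stalk p.2 := fun p =>
    (Scheme.ΓSpecIso (CommRingCat.of A)).inv ≫ (g p.1).appTop ≫
      (Y p.1).presheaf.germ ⊤ p.2 trivial
  have hφ : ∀ p : (Σ i, Y i), Spec.map (φ p) = (Y p.1).fromSpecStalk p.2 ≫ g p.1 := by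
    intro p
    rw [← specMap_eq_of_appTop ((Y p.1).fromSpecStalk p.2 ≫ g p.1)]
    congr 1
    simp only [φ, Scheme.Hom.comp_appTop, Scheme.fromSpecStalk_appTop, Category.assoc]
    have h1 : ∀ (S : CommRingCat.{u}) (h : (⊤ : (Spec S).Opens) ≤ ⊤),
        (Spec S).presheaf.map (homOfLE h).op = 𝟙 _ := fun S h => (Spec S).presheaf.map_id _
    rw [h1, Category.id_comp, Iso.inv_hom_id, Category.comp_id]
  refine s4856 (ι := Σ i, Y i) f F hF x (fun p => ((Y p.1).presheaf.stalk p.2 : Type u))
    (fun p => (φ p).hom) ?_ ?_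
  · intro a ha
    apply hg
    intro i
    apply TopCat.Presheaf.section_ext (Y i).sheaf ⊤
    intro y hy
    have := ha ⟨i, y⟩
    refine Eq.trans ?_ (map_zero ((Y i).presheaf.germ ⊤ y hy).hom).symm
    exact this
  · intro p x'' h1 h2
    obtain ⟨i, y⟩ := p
    apply flat_of_factor f F (g i) ((Y i).fromSpecStalk y) _ (hφ ⟨i, y⟩)
    apply hflat i
    rw [← Scheme.Hom.comp_apply, pullback.lift_fst]
    exact h1

end Groth.Agent.Lead.FlatUnivG
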