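import Mathlib
import Groth.Agent.Lead.FlatUnivE

set_option autoImplicit false
open TensorProduct Function LinearMap IsLocalRing
universe u

namespace Groth.Agent.Lead.FlatUnivH

open Groth.Agent.Helper2.AdicFlat Groth.Agent.Helper2.FlatCL1 Groth.Agent.Helper2.FlatCL2
open Groth.Agent.Lead.FlatUnivB Groth.Agent.Lead.FlatUnivC Groth.Agent.Lead.FlatUnivD
open Groth.Agent.Helper2.FlatCL4

section Key
variable {R S R' S' : Type u} [CommRing R] [IsLocalRing R] [IsNoetherianRing R]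
  [CommRing S] [IsNoetherianRing S] [CommRing R'] [IsLocalRing R'] [CommRing S']
  [Algebra R S] [Algebra R R'] [IsLocalHom (algebraMap R R')] [Algebra S S'] [Algebra R' S']
  [Algebra R S'] [IsScalarTower R S S'] [IsScalarTower R R' S'] [Algebra.IsPushout R S R' S']
  {M M' : Type u} [AddCommGroup M] [Module S M] [Module R M] [IsScalarTower R S M]
  [Module.Finite S M]
  [AddCommGroup M'] [Module S' M'] [Module R' M'] [IsScalarTower R' S' M'] [Module S M']
  [IsScalarTower S S' M']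

theorem exists_smaller' (f : M →ₗ[S] M') (hf : IsBaseChange S' f) (q : Ideal S) [q.IsPrime]
    (hflat : ∀ (q' : Ideal S') [q'.IsPrime], q'.comap (algebraMap S S') = q →
      q'.comap (algebraMap R' S') = maximalIdeal R' →
      Module.Flat R' (LocalizedModule q'.primeCompl M'))
    (I : Ideal R) (hIm : I ≤ maximalIdeal R)
    (hI : TorsionFlat I (LocalizedModule q.primeCompl M)) :
    I ≤ RingHom.ker (algebraMap R R') ∨
      ∃ I₁ : Ideal R, I₁ < I ∧ I ⊓ RingHom.ker (algebraMap R R') ≤ I₁ ∧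
        TorsionFlat I₁ (LocalizedModule q.primeCompl M) := by
  by_cases hker : I ≤ RingHom.ker (algebraMap R R')
  · exact Or.inl hker
  right
  have hloc : (maximalIdeal R).map (algebraMap R R') ≤ maximalIdeal R' :=
    ((IsLocalRing.local_hom_TFAE (algebraMap R R')).out 0 2).1 ‹IsLocalHom (algebraMap R R')›
  have hI'ne : I.map (algebraMap R R') ≠ ⊥ := by
    rwa [Ne, Ideal.map_eq_bot_iff_le_ker]
  have hI'fg : (I.map (algebraMap R R')).FG := Ideal.FG.map (IsNoetherian.noetherian I) _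
  have hnak : ¬ I.map (algebraMap R R') ≤ maximalIdeal R' • I.map (algebraMap R R') :=
    fun h => hI'ne (Submodule.eq_bot_of_le_smul_of_le_jacobson_bot (maximalIdeal R') _ hI'fg h
      (maximalIdeal_le_jacobson ⊥))
  let K' : Submodule R' ↥(I.map (algebraMap R R')) := maximalIdeal R' • ⊤
  have hW' : ∀ a ∈ maximalIdeal R', ∀ w : ↥(I.map (algebraMap R R')) ⧸ K', a • w = 0 := by
    intro a ha w
    obtain ⟨x, rfl⟩ := Submodule.Quotient.mk_surjective _ w
    rw [← Submodule.Quotient.mk_smul, Submodule.Quotient.mk_eq_zero]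
    exact Submodule.smul_mem_smul ha Submodule.mem_top
  have hmem : ∀ a ∈ maximalIdeal R, algebraMap R R' a ∈ maximalIdeal R' := fun a ha =>
    hloc (Ideal.mem_map_of_mem _ ha)
  have hWtorsR : Module.IsTorsionBySet R (↥(I.map (algebraMap R R')) ⧸ K') (maximalIdeal R) := by
    intro w a
    change (a : R) • w = 0
    rw [← algebraMap_smul R' (a : R) w]
    exact hW' _ (hmem a.1 a.2) w
  -- an element of I whose image is not in m' I'
  obtain ⟨a₀, ha₀, ha₀'⟩ : ∃ a₀ ∈ I, algebraMap R R' a₀ ∉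
      maximalIdeal R' • I.map (algebraMap R R') := by
    by_contra hcon
    push_neg at hcon
    apply hnak
    rw [Ideal.map_le_iff_le_comap]
    intro a ha
    exact hcon a ha
  let Λ : I →ₗ[R] (↥(I.map (algebraMap R R')) ⧸ K') := (K'.mkQ.restrictScalars R) ∘ₗ can R' I
  have hw₀ : Λ ⟨a₀, ha₀⟩ ≠ 0 := by
    intro h0
    have h1 : can R' I ⟨a₀, ha₀⟩ ∈ K' := (Submodule.Quotient.mk_eq_zero K').1 h0
    exact ha₀' ((Submodule.mem_smul_top_iff _ _ _).1 h1)
  obtain ⟨μ, hμ⟩ := exists_functional hWtorsR _ hw₀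
  let π : I →ₗ[R] (R ⧸ maximalIdeal R) := μ ∘ₗ Λ
  let I₁ : Ideal R := (LinearMap.ker π).map I.subtype
  have hI₁le : I₁ ≤ I := by
    rintro _ ⟨a, -, rfl⟩
    exact a.2
  have hπ : ∀ a : I, π a = 0 ↔ (a : R) ∈ I₁ := by
    intro a
    constructor
    · intro h; exact ⟨a, h, rfl⟩
    · rintro ⟨b, hb, hba⟩
      have : b = a := Subtype.ext hba
      rw [← this]; exact hb
  have hI₁lt : I₁ < I := by
    refine lt_of_le_of_ne hI₁le ?_
    intro heq
    have h1 : π ⟨a₀, ha₀⟩ = 0 := (hπ ⟨a₀, ha₀⟩).2 (by rw [heq]; exact ha₀)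
    have h2 : π ⟨a₀, ha₀⟩ = 1 := hμ
    rw [h2] at h1
    haveI : Nontrivial (R ⧸ maximalIdeal R) := Ideal.Quotient.nontrivial_iff.2
      (maximalIdeal.isMaximal R).ne_top
    exact one_ne_zero h1
  have hktors : ∀ a ∈ maximalIdeal R, ∀ x : R ⧸ maximalIdeal R, a • x = 0 := by
    intro a ha x
    rw [Algebra.smul_def, Ideal.Quotient.algebraMap_eq, Ideal.Quotient.eq_zero_iff_mem.2 ha,
      zero_mul]
  have hsq : I * I ≤ I₁ := by
    rw [Ideal.mul_le]
    intro a ha b hb
    refine ⟨⟨a * b, I.mul_mem_left a hb⟩, ?_, rfl⟩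
    change π ⟨a * b, I.mul_mem_left a hb⟩ = 0
    have : (⟨a * b, I.mul_mem_left a hb⟩ : I) = a • (⟨b, hb⟩ : I) := Subtype.ext rfl
    rw [this, map_smul]
    exact hktors a (hIm ha) _
  have hWtors : Module.IsTorsionBySet R (R ⧸ maximalIdeal R) I := by
    intro w a
    exact hktors a.1 (hIm a.2) w
  have hkerI₁ : I ⊓ RingHom.ker (algebraMap R R') ≤ I₁ := by
    rintro a ⟨haI, hak⟩
    refine (hπ ⟨a, haI⟩).1 ?_
    have hcan : can R' I ⟨a, haI⟩ = 0 := by
      apply Subtype.ext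
      have h0 : algebraMap R R' a = 0 := hak
      exact h0
    change μ (Λ ⟨a, haI⟩) = 0
    have : Λ ⟨a, haI⟩ = 0 := by
      change K'.mkQ (can R' I ⟨a, haI⟩) = 0
      rw [hcan, map_zero]
    rw [this, map_zero]
  refine ⟨I₁, hI₁lt, hkerI₁, ?_⟩
  -- the key vanishing
  have hH : ∀ t : M ⊗[R] I, lTensor M I.subtype t = 0 →
      ∃ c : q.primeCompl, c • lTensor M π t = 0 := by
    intro t ht
    obtain ⟨u₀, hu₀⟩ : ∃ u₀ : M ⊗[R] ↥(I.map (algebraMap R R')), u₀ = lTensor M (can R' I) t :=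
      ⟨_, rfl⟩
    obtain ⟨t', ht'⟩ : ∃ t' : M' ⊗[R'] ↥(I.map (algebraMap R R')),
        t' = psi R R' S' ↥(I.map (algebraMap R R')) f u₀ := ⟨_, rfl⟩
    have h1 : lTensor M' (I.map (algebraMap R R')).subtype t' = 0 := by
      rw [ht', ← psi_natural R R' S' f (I.map (algebraMap R R')).subtype u₀, hu₀,
        ← LinearMap.comp_apply, ← LinearMap.lTensor_comp]
      have : (I.map (algebraMap R R')).subtype.restrictScalars R ∘ₗ can R' I =
          (Algebra.linearMap R R') ∘ₗ I.subtype := by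
        ext a; rfl
      rw [this, LinearMap.lTensor_comp, LinearMap.comp_apply, ht, map_zero, map_zero]
    obtain ⟨s, hs, b, hb, hsb⟩ := exists_smul_eq_smul q hflat _ hW' K'.mkQ t' h1
    obtain ⟨d, hd⟩ : ∃ d : M ⊗[R] (↥(I.map (algebraMap R R')) ⧸ K'),
        d = lTensor M (K'.mkQ.restrictScalars R) u₀ := ⟨_, rfl⟩
    have hpsid : psi R R' S' _ f d = lTensor M' K'.mkQ t' := by
      rw [hd, ht', psi_natural R R' S' f K'.mkQ u₀]
    rw [← hpsid] at hsb
    have hpow : ∀ n : ℕ, psi R R' S' _ f (s ^ n • d) = b ^ n • psi R R' S' _ f d := by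
      intro n
      induction n with
      | zero => simp
      | succ n ih =>
        calc psi R R' S' _ f (s ^ (n + 1) • d)
            = psi R R' S' _ f (s ^ n • (s • d)) := by rw [pow_succ, mul_smul]
          _ = algebraMap S S' (s ^ n) • (algebraMap S S' s • psi R R' S' _ f d) := by
              rw [psi_smul, psi_smul]
          _ = algebraMap S S' (s ^ n) • (b • psi R R' S' _ f d) := by rw [hsb]
          _ = b • (algebraMap S S' (s ^ n) • psi R R' S' _ f d) := by rw [smul_comm]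
          _ = b • psi R R' S' _ f (s ^ n • d) := by rw [psi_smul]
          _ = b • (b ^ n • psi R R' S' _ f d) := by rw [ih]
          _ = b ^ (n + 1) • psi R R' S' _ f d := by rw [pow_succ, mul_smul, smul_comm]
    have hmemn : ∀ n : ℕ, s ^ n • d ∈ (q ^ n) • (⊤ : Submodule S (M ⊗[R] _)) := by
      intro n
      apply mem_pow_smul_of_psi (R := R) (R' := R') (S' := S') _ f hf q n
      rw [hpow n]
      exact Submodule.smul_mem_smul (Ideal.pow_mem_pow hb n) Submodule.mem_top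
    have hz : lTensor M π t = lTensor M μ d := by
      rw [hd, hu₀, ← LinearMap.comp_apply, ← LinearMap.lTensor_comp, ← LinearMap.comp_apply,
        ← LinearMap.lTensor_comp]
      rfl
    have hzn : ∀ n : ℕ, s ^ n • lTensor M π t ∈
        (q ^ n) • (⊤ : Submodule S (M ⊗[R] (R ⧸ maximalIdeal R))) := by
      intro n
      rw [hz]
      have h2 : s ^ n • lTensor M μ d = AlgebraTensorModule.lTensor S M μ (s ^ n • d) :=
        (map_smul (AlgebraTensorModule.lTensor S M μ) (s ^ n) d).symm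
      rw [h2]
      have h3 := Submodule.mem_map_of_mem (f := AlgebraTensorModule.lTensor S M μ) (hmemn n)
      rw [Submodule.map_smul''] at h3
      exact Submodule.smul_mono le_rfl le_top h3
    exact exists_smul_eq_zero_of_pow q _ s hs hzn
  have hflatI₁ : Module.Flat (R ⧸ I₁) ((R ⧸ I₁) ⊗[R] LocalizedModule q.primeCompl M) :=
    Groth.Agent.Lead.FlatUnivA.flat_of_H I I₁ _ hI₁le hsq hI _ hWtors π hπ
      (H_localized' q I π hH)
  exact torsionFlat_of_flat I₁ _

end Key

section Descent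
variable {R : Type u} [CommRing R] [IsLocalRing R] [IsNoetherianRing R]

/-- descent in the interval `[𝔞, m]` for an `m`-primary ideal `𝔞` -/
theorem torsionFlat_of_descent (N : Type u) [AddCommGroup N] [Module R N] (𝔞 : Ideal R)
    (h𝔞 : 𝔞 ≤ maximalIdeal R) (n : ℕ) (hn : maximalIdeal R ^ n ≤ 𝔞)
    (h : ∀ I : Ideal R, 𝔞 ≤ I → I ≤ maximalIdeal R → ¬ I ≤ 𝔞 → TorsionFlat I N →
      ∃ I₁ : Ideal R, I₁ < I ∧ 𝔞 ≤ I₁ ∧ TorsionFlat I₁ N) : TorsionFlat 𝔞 N := by
  classical
  have hm : TorsionFlat (maximalIdeal R) N := by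
    rw [torsionFlat_iff_flat]
    letI : Field (R ⧸ maximalIdeal R) := Ideal.Quotient.field _
    infer_instance
  haveI : Nontrivial (R ⧸ 𝔞) := Ideal.Quotient.nontrivial_iff.2
    (ne_top_of_le_ne_top (maximalIdeal.isMaximal R).ne_top h𝔞)
  haveI : IsLocalRing (R ⧸ 𝔞) :=
    IsLocalRing.of_surjective' (Ideal.Quotient.mk 𝔞) Ideal.Quotient.mk_surjective
  haveI : IsArtinianRing (R ⧸ 𝔞) := by
    rw [isArtinianRing_iff_isNilpotent_maximalIdeal]
    refine ⟨n, ?_⟩
    rw [Ideal.zero_eq_bot, eq_bot_iff]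
    have h1 : maximalIdeal (R ⧸ 𝔞) ≤ (maximalIdeal R).map (Ideal.Quotient.mk 𝔞) := by
      intro x hx
      obtain ⟨a, rfl⟩ := Ideal.Quotient.mk_surjective x
      apply Ideal.mem_map_of_mem
      rw [mem_maximalIdeal, mem_nonunits_iff] at hx ⊢
      intro ha
      exact hx (ha.map _)
    calc maximalIdeal (R ⧸ 𝔞) ^ n
        ≤ ((maximalIdeal R).map (Ideal.Quotient.mk 𝔞)) ^ n := Ideal.pow_right_mono h1 n
      _ = (maximalIdeal R ^ n).map (Ideal.Quotient.mk 𝔞) := (Ideal.map_pow _ _ _).symm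
      _ ≤ 𝔞.map (Ideal.Quotient.mk 𝔞) := Ideal.map_mono hn
      _ = ⊥ := Ideal.map_quotient_self 𝔞
  obtain ⟨J', ⟨I, ⟨hI1, hI2, hI3⟩, rfl⟩, hmin⟩ :=
    IsArtinian.set_has_minimal (R := R ⧸ 𝔞) (M := R ⧸ 𝔞)
      {J' : Ideal (R ⧸ 𝔞) | ∃ J : Ideal R, (𝔞 ≤ J ∧ J ≤ maximalIdeal R ∧ TorsionFlat J N) ∧
        J' = J.map (Ideal.Quotient.mk 𝔞)} ⟨_, maximalIdeal R, ⟨h𝔞, le_rfl, hm⟩, rfl⟩
  by_cases hle : I ≤ 𝔞
  · have : I = 𝔞 := le_antisymm hle hI1
    rw [← this]
    exact hI3
  · obtain ⟨I₁, hlt, h𝔞I₁, hI₁⟩ := h I hI1 hI2 hle hI3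
    exfalso
    refine hmin (I₁.map (Ideal.Quotient.mk 𝔞)) ⟨I₁, ⟨h𝔞I₁, hlt.le.trans hI2, hI₁⟩, rfl⟩ ?_
    refine lt_of_le_of_ne (Ideal.map_mono hlt.le) ?_
    intro heq
    have h2 := congrArg (Ideal.comap (Ideal.Quotient.mk 𝔞)) heq
    rw [Ideal.comap_map_of_surjective _ Ideal.Quotient.mk_surjective,
      Ideal.comap_map_of_surjective _ Ideal.Quotient.mk_surjective,
      ← RingHom.ker_eq_comap_bot, Ideal.mk_ker, sup_eq_left.2 h𝔞I₁, sup_eq_left.2 hI1] at h2
    exact hlt.ne h2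

end Descent

section LC
variable {R S : Type u} [CommRing R] [IsLocalRing R] [IsNoetherianRing R] [CommRing S]
  [IsNoetherianRing S] [Algebra R S]
  {M : Type u} [AddCommGroup M] [Module R M] [Module S M] [IsScalarTower R S M]
  [Module.Finite S M]

/-- local criterion, in terms of the localization at a prime over the closed point -/
theorem flat_localized_of_pow (q : Ideal S) [q.IsPrime]
    (hq : q.comap (algebraMap R S) = maximalIdeal R)
    (h : ∀ k, 0 < k → TorsionFlat (maximalIdeal R ^ k) (LocalizedModule q.primeCompl M)) :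
    Module.Flat R (LocalizedModule q.primeCompl M) := by
  have hq' : (maximalIdeal R).map (algebraMap R S) ≤ q :=
    Ideal.map_le_iff_le_comap.2 (hq ▸ le_rfl)
  have hI : (maximalIdeal R).map (algebraMap R (Localization.AtPrime q)) ≤
      maximalIdeal (Localization.AtPrime q) := by
    rw [IsScalarTower.algebraMap_eq R S (Localization.AtPrime q), ← Ideal.map_map]
    refine (Ideal.map_mono hq').trans ?_
    rw [Localization.AtPrime.map_eq_maximalIdeal]
  have h1 : Module.Flat (R ⧸ (⊥ : Ideal R)) ((R ⧸ (⊥ : Ideal R)) ⊗[R]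
      LocalizedModule q.primeCompl M) := by
    refine flat_quot_of_torsionFlat (B := Localization.AtPrime q) (maximalIdeal R) ⊥ hI ?_ ?_
    · rw [Ideal.map_bot]; exact bot_le
    · intro k hk
      rw [bot_sup_eq]
      exact h k hk
  have h2 : TorsionFlat (⊥ : Ideal R) (LocalizedModule q.primeCompl M) :=
    torsionFlat_of_flat ⊥ _
  rw [Module.Flat.iff_lTensor_preserves_injective_linearMap]
  intro N' N'' _ _ _ _ ι hι
  exact h2 N' N'' (fun x a => by
      have : (a : R) = 0 := Ideal.mem_bot.1 a.2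
      show (a : R) • x = 0
      rw [this, zero_smul]) (fun x a => by
      have : (a : R) = 0 := Ideal.mem_bot.1 a.2
      show (a : R) • x = 0
      rw [this, zero_smul]) ι hι

end LC

end Groth.Agent.Lead.FlatUnivH
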