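import Mathlib
import Groth.Prelude
import Groth.Agent.Lead.FlatUnivF
import Groth.Agent.Lead.FlatUnivH

set_option autoImplicit false
open TensorProduct Function LinearMap IsLocalRing CategoryTheory CategoryTheory.Limits AlgebraicGeometry
universe u

namespace Groth.Agent.Lead.FlatUnivI

open Groth.Agent.Helper2.AdicFlat Groth.Agent.Helper2.FlatCL1 Groth.Agent.Helper2.FlatCL2
open Groth.Agent.Lead.FlatUnivD Groth.Agent.Lead.FlatUnivE Groth.Agent.Lead.FlatUnivF
open Groth.Agent.Lead.FlatUnivH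

open CategoryTheory.Limits in
/-- **Local family criterion** (EGA IV 11.5): Noetherian local base, point over the closed point,
family of local homomorphisms with `m`-primary kernels whose finite intersections are cofinal
with the powers of `m`. -/
theorem local_family {A : Type u} [CommRing A]
    [IsNoetherianRing A] [IsLocalRing A] {X : Scheme.{u}} (f : X ⟶ Spec (CommRingCat.of A))
    [LocallyOfFiniteType f] (F : X.Modules) (hF : Coh.IsCoh F) (x : X)
    (hx : f x = closedPoint A)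
    {ι : Type u} (A' : ι → Type u) [∀ i, CommRing (A' i)] [∀ i, IsLocalRing (A' i)] (u : ∀ i, A →+* A' i)
    [∀ i, IsLocalHom (u i)]
    (hprim : ∀ i, ∃ n : ℕ, maximalIdeal A ^ n ≤ RingHom.ker (u i))
    (htop : ∀ N : ℕ, ∃ s : Finset ι, ⨅ i ∈ s, RingHom.ker (u i) ≤ maximalIdeal A ^ N)
    (hflat : ∀ (i : ι) (x' : ↥(pullback f (Spec.map (CommRingCat.ofHom (u i))))),
      pullback.fst f (Spec.map (CommRingCat.ofHom (u i))) x' = x →
      pullback.snd f (Spec.map (CommRingCat.ofHom (u i))) x' = IsLocalRing.closedPoint (A' i) →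
      FlatMod.IsFlatOverAt (pullback.snd f (Spec.map (CommRingCat.ofHom (u i))))
        ((Scheme.Modules.pullback (pullback.fst f (Spec.map (CommRingCat.ofHom (u i))))).obj F) x') :
    FlatMod.IsFlatOverAt f F x := by
  haveI : F.IsQuasicoherent := hF.1
  obtain ⟨W, hW, hxW⟩ := exists_affine_mem x
  have hV := isAffineOpen_top (Spec (CommRingCat.of A))
  have e : W ≤ f ⁻¹ᵁ ⊤ := le_top
  rw [Groth.Agent.Helper2.FlatLocusMod.isFlatOverAt_iff_localized f F hV hW e x hxW]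
  letI alg : Algebra Γ(Spec (CommRingCat.of A), ⊤) Γ(X, W) := (f.appLE ⊤ W e).hom.toAlgebra
  letI modR : Module Γ(Spec (CommRingCat.of A), ⊤) Γ(F, W) := Module.compHom _ (f.appLE ⊤ W e).hom
  haveI : IsScalarTower Γ(Spec (CommRingCat.of A), ⊤) Γ(X, W) Γ(F, W) :=
    IsScalarTower.of_algebraMap_smul fun r m => rfl
  let eR : Γ(Spec (CommRingCat.of A), ⊤) ≃+* A :=
    (Scheme.ΓSpecIso (CommRingCat.of A)).commRingCatIsoToRingEquiv
  haveI : IsLocalRing Γ(Spec (CommRingCat.of A), ⊤) := eR.symm.isLocalRing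
  haveI : IsNoetherianRing Γ(Spec (CommRingCat.of A), ⊤) :=
    isNoetherianRing_of_ringEquiv A eR.symm
  haveI : Algebra.FiniteType Γ(Spec (CommRingCat.of A), ⊤) Γ(X, W) :=
    LocallyOfFiniteType.finiteType_appLE f hV hW e
  haveI : IsNoetherianRing Γ(X, W) :=
    Algebra.FiniteType.isNoetherianRing Γ(Spec (CommRingCat.of A), ⊤) Γ(X, W)
  haveI : Module.Finite Γ(X, W) Γ(F, W) :=
    Groth.Agent.Helper4.SecDict.finite_sections hW F hF.1 hF.2
  -- the prime of `x` lies over the maximal ideal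
  have hmR : ∀ r : Γ(Spec (CommRingCat.of A), ⊤), r ∈ maximalIdeal Γ(Spec (CommRingCat.of A), ⊤) ↔
      eR r ∈ maximalIdeal A := by
    intro r
    rw [mem_maximalIdeal, mem_maximalIdeal, mem_nonunits_iff, mem_nonunits_iff]
    exact not_congr ⟨fun h => h.map eR, fun h => by simpa using h.map eR.symm⟩
  have hq : (hW.primeIdealOf ⟨x, hxW⟩).asIdeal.comap
      (algebraMap Γ(Spec (CommRingCat.of A), ⊤) Γ(X, W)) =
      maximalIdeal Γ(Spec (CommRingCat.of A), ⊤) := by
    have h := Groth.Agent.Helper2.FlatStageLim.primeIdealOf_comap f hV hW e x hxW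
    have h' : (hV.primeIdealOf ⟨f x, e hxW⟩).asIdeal.IsMaximal := by
      apply hV.primeIdealOf_isMaximal_of_isClosed
      show IsClosed {f x}
      rw [hx]
      exact IsLocalRing.isClosed_singleton_closedPoint A
    rw [← h] at h'
    exact IsLocalRing.eq_maximalIdeal h'
  apply flat_localized_of_pow _ hq
  intro k hk
  obtain ⟨s, hs⟩ := htop k
  obtain ⟨𝔞, h𝔞def⟩ : ∃ 𝔞 : Ideal Γ(Spec (CommRingCat.of A), ⊤),
      𝔞 = (⨅ i ∈ s, RingHom.ker (u i)).comap eR.toRingHom := ⟨_, rfl⟩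
  have hmem𝔞 : ∀ r, r ∈ 𝔞 ↔ ∀ i ∈ s, u i (eR r) = 0 := by
    intro r
    rw [h𝔞def, Ideal.mem_comap]
    simp only [Ideal.mem_iInf, RingHom.mem_ker]
    rfl
  have hpowR : ∀ (n : ℕ) (r : Γ(Spec (CommRingCat.of A), ⊤)),
      r ∈ maximalIdeal Γ(Spec (CommRingCat.of A), ⊤) ^ n ↔ eR r ∈ maximalIdeal A ^ n := by
    intro n r
    have hmap : (maximalIdeal Γ(Spec (CommRingCat.of A), ⊤)).map eR.toRingHom = maximalIdeal A := by
      apply le_antisymm
      · rw [Ideal.map_le_iff_le_comap]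
        intro r hr
        exact (hmR r).1 hr
      · intro a ha
        have : eR.symm a ∈ maximalIdeal Γ(Spec (CommRingCat.of A), ⊤) := by
          rw [hmR]; simpa using ha
        have h2 := Ideal.mem_map_of_mem eR.toRingHom this
        simpa using h2
    rw [← hmap, ← Ideal.map_pow]
    constructor
    · intro hr; exact Ideal.mem_map_of_mem _ hr
    · intro hr
      obtain ⟨r', hr', hrr'⟩ := (Ideal.mem_map_iff_of_surjective eR.toRingHom eR.surjective).1 hr
      have : r' = r := eR.injective hrr'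
      rw [← this]; exact hr'
  have h𝔞k : 𝔞 ≤ maximalIdeal Γ(Spec (CommRingCat.of A), ⊤) ^ k := by
    intro r hr
    rw [hpowR]
    apply hs
    simp only [Ideal.mem_iInf, RingHom.mem_ker]
    exact (hmem𝔞 r).1 hr
  refine TorsionFlat.mono h𝔞k ?_
  have h𝔞m : 𝔞 ≤ maximalIdeal Γ(Spec (CommRingCat.of A), ⊤) :=
    h𝔞k.trans (Ideal.pow_le_self (Nat.pos_iff_ne_zero.1 hk))
  choose nn hnn using hprim
  have h𝔞n : maximalIdeal Γ(Spec (CommRingCat.of A), ⊤) ^ (s.sup nn) ≤ 𝔞 := by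
    intro r hr
    rw [hmem𝔞]
    intro i hi
    have h1 : r ∈ maximalIdeal Γ(Spec (CommRingCat.of A), ⊤) ^ (nn i) :=
      Ideal.pow_le_pow_right (Finset.le_sup hi) hr
    rw [hpowR] at h1
    exact (RingHom.mem_ker).1 (hnn i h1)
  apply torsionFlat_of_descent _ 𝔞 h𝔞m (s.sup nn) h𝔞n
  intro I h𝔞I hIm hInle hI
  obtain ⟨a, haI, ha𝔞⟩ := Set.not_subset.1 hInle
  have hex : ∃ i ∈ s, u i (eR a) ≠ 0 := by
    by_contra hcon
    push_neg at hcon
    exact ha𝔞 ((hmem𝔞 a).2 hcon)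
  obtain ⟨i, his, hi⟩ := hex
  obtain ⟨pY, hpY⟩ : ∃ pY, pY = Spec.map (CommRingCat.ofHom (u i)) := ⟨_, rfl⟩
  have hflat_i := hflat i
  rw [← hpY] at hflat_i
  have hc : IsPullback (pullback.fst f pY) (pullback.snd f pY) f pY := IsPullback.of_hasPullback f pY
  have hV' := isAffineOpen_top (Spec (CommRingCat.of (A' i)))
  have eV : (⊤ : (Spec (CommRingCat.of (A' i))).Opens) ≤ pY ⁻¹ᵁ ⊤ := le_top
  obtain ⟨W', hW'def⟩ : ∃ W' : (pullback f pY).Opens,
    W' = pullback.fst f pY ⁻¹ᵁ W ⊓ pullback.snd f pY ⁻¹ᵁ ⊤ := ⟨_, rfl⟩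
  obtain ⟨hW', hpo⟩ := Groth.Agent.Helper2.FlatStageLim.stage_pushout hc hV hW e hV' eV hW'def
  have e1 : W' ≤ pullback.snd f pY ⁻¹ᵁ ⊤ := by rw [hW'def]; exact inf_le_right
  have e2 : W' ≤ pullback.fst f pY ⁻¹ᵁ W := by rw [hW'def]; exact inf_le_left
  letI algRR' : Algebra Γ(Spec (CommRingCat.of A), ⊤) Γ(Spec (CommRingCat.of (A' i)), ⊤) :=
    (pY.appLE ⊤ ⊤ eV).hom.toAlgebra
  letI algSS' : Algebra Γ(X, W) Γ(pullback f pY, W') :=
    ((pullback.fst f pY).appLE W W' e2).hom.toAlgebra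
  letI algR'S' : Algebra Γ(Spec (CommRingCat.of (A' i)), ⊤) Γ(pullback f pY, W') :=
    ((pullback.snd f pY).appLE ⊤ W' e1).hom.toAlgebra
  letI algRS' : Algebra Γ(Spec (CommRingCat.of A), ⊤) Γ(pullback f pY, W') :=
    ((f.appLE ⊤ W e) ≫ ((pullback.fst f pY).appLE W W' e2)).hom.toAlgebra
  haveI : IsScalarTower Γ(Spec (CommRingCat.of A), ⊤) Γ(X, W) Γ(pullback f pY, W') :=
    IsScalarTower.of_algebraMap_eq (fun _ => rfl)
  haveI : IsScalarTower Γ(Spec (CommRingCat.of A), ⊤) Γ(Spec (CommRingCat.of (A' i)), ⊤)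
      Γ(pullback f pY, W') :=
    IsScalarTower.of_algebraMap_eq (fun r => congr($(hpo.w).hom r))
  haveI : Algebra.IsPushout Γ(Spec (CommRingCat.of A), ⊤) Γ(X, W)
      Γ(Spec (CommRingCat.of (A' i)), ⊤) Γ(pullback f pY, W') :=
    CommRingCat.isPushout_iff_isPushout.mp hpo
  let eR' : Γ(Spec (CommRingCat.of (A' i)), ⊤) ≃+* A' i :=
    (Scheme.ΓSpecIso (CommRingCat.of (A' i))).commRingCatIsoToRingEquiv
  haveI : IsLocalRing Γ(Spec (CommRingCat.of (A' i)), ⊤) := eR'.symm.isLocalRing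
  have hnat : ∀ r : Γ(Spec (CommRingCat.of A), ⊤),
      eR' (algebraMap Γ(Spec (CommRingCat.of A), ⊤) Γ(Spec (CommRingCat.of (A' i)), ⊤) r) =
        u i (eR r) := by
    intro r
    have h := Scheme.ΓSpecIso_naturality (CommRingCat.ofHom (u i))
    have h2 := congr($(h).hom r)
    rw [← hpY] at h2
    have h3 : pY.appLE ⊤ ⊤ eV = pY.appTop := by
      rw [Scheme.Hom.appTop, Scheme.Hom.app_eq_appLE]
      rfl
    show (Scheme.ΓSpecIso (CommRingCat.of (A' i))).hom.hom ((pY.appLE ⊤ ⊤ eV).hom r) = _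
    rw [h3]
    exact h2
  haveI : IsLocalHom (algebraMap Γ(Spec (CommRingCat.of A), ⊤)
      Γ(Spec (CommRingCat.of (A' i)), ⊤)) := by
    constructor
    intro r hr
    have h1 : IsUnit (u i (eR r)) := by
      rw [← hnat]; exact hr.map eR'
    have h2 : IsUnit (eR r) := isUnit_of_map_unit (u i) _ h1
    simpa using h2.map eR.symm
  have hker : ¬ I ≤ RingHom.ker (algebraMap Γ(Spec (CommRingCat.of A), ⊤)
      Γ(Spec (CommRingCat.of (A' i)), ⊤)) := by
    intro hle
    have h0 := hle haI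
    rw [RingHom.mem_ker] at h0
    apply hi
    rw [← hnat, h0, map_zero]
  have key := exists_smaller' (R := Γ(Spec (CommRingCat.of A), ⊤)) (S := Γ(X, W))
    (R' := Γ(Spec (CommRingCat.of (A' i)), ⊤)) (S' := Γ(pullback f pY, W'))
    (M := Γ(F, W)) (M' := Γ(pullback f pY, W') ⊗[Γ(X, W)] Γ(F, W))
    (TensorProduct.mk Γ(X, W) Γ(pullback f pY, W') Γ(F, W) 1)
    (TensorProduct.isBaseChange Γ(X, W) Γ(F, W) Γ(pullback f pY, W'))
    (hW.primeIdealOf ⟨x, hxW⟩).asIdeal ?_ I hIm hI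
  · rcases key with h | ⟨I₁, hlt, hkerI₁, hI₁⟩
    · exact absurd h hker
    · refine ⟨I₁, hlt, ?_, hI₁⟩
      refine le_trans ?_ hkerI₁
      refine le_inf h𝔞I ?_
      intro r hr
      rw [RingHom.mem_ker]
      apply eR'.injective
      rw [hnat, map_zero]
      exact (hmem𝔞 r).1 hr i his
  · intro q' hq'prime hq1 hq2
    let P : PrimeSpectrum Γ(pullback f pY, W') := ⟨q', hq'prime⟩
    have hx' : hW'.fromSpec P ∈ W' := fromSpec_mem hW' P
    have hP : hW'.primeIdealOf ⟨hW'.fromSpec P, hx'⟩ = P := primeIdealOf_fromSpec hW' P hx'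
    have h1 : pullback.fst f pY (hW'.fromSpec P) = x := by
      have h := Groth.Agent.Helper2.FlatStageLim.primeIdealOf_comap (pullback.fst f pY) hW hW' e2
        (hW'.fromSpec P) hx'
      rw [hP] at h
      have h' : hW.primeIdealOf ⟨pullback.fst f pY (hW'.fromSpec P), e2 hx'⟩ =
          hW.primeIdealOf ⟨x, hxW⟩ := by
        rw [← h]
        exact PrimeSpectrum.ext hq1
      have h'' := congrArg hW.fromSpec h'
      rwa [hW.fromSpec_primeIdealOf, hW.fromSpec_primeIdealOf] at h''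
    have h2 : pullback.snd f pY (hW'.fromSpec P) = closedPoint (A' i) := by
      have h := Groth.Agent.Helper2.FlatStageLim.primeIdealOf_comap (pullback.snd f pY) hV' hW' e1
        (hW'.fromSpec P) hx'
      rw [hP] at h
      apply eq_closedPoint_of_primeIdealOf
      have h' : (hV'.primeIdealOf ⟨pullback.snd f pY (hW'.fromSpec P), e1 hx'⟩).asIdeal =
          maximalIdeal _ := by
        rw [← h]
        exact hq2
      rw [h']
      infer_instance
    have h3 := hflat_i (hW'.fromSpec P) h1 h2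
    rw [Groth.Agent.Helper2.FlatStageDict.isFlatOverAt_pullback_iff (pullback.snd f pY)
      (pullback.fst f pY) F hV' hW hW' e1 e2 (hW'.fromSpec P) hx', hP] at h3
    exact h3

end Groth.Agent.Lead.FlatUnivI
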