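import Mathlib
import Groth.Prelude
import Groth.Agent.Lead.FlatUnivG
import Groth.Agent.Lead.FlatUnivI
import Groth.Agent.Lead.StalkPull4
import Groth.Agent.Lead.LimPres

set_option autoImplicit false
open TensorProduct Function LinearMap IsLocalRing CategoryTheory CategoryTheory.Limits AlgebraicGeometry
universe u

namespace Groth.Agent.Lead.FlatUnivJ

open Groth.Agent.Lead.FlatUnivF Groth.Agent.Lead.FlatUnivG Groth.Agent.Lead.FlatUnivI

/-- The canonical morphism `Spec 𝒪_{X,x} ⟶ X` is flat. -/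
theorem flat_fromSpecStalk (X : Scheme.{u}) (x : X) : Flat (X.fromSpecStalk x) := by
  obtain ⟨_, ⟨U, hU, rfl⟩, hxU, -⟩ :=
    X.isBasis_affineOpens.exists_subset_of_mem_open (Set.mem_univ x) isOpen_univ
  rw [← hU.fromSpecStalk_eq_fromSpecStalk hxU]
  unfold IsAffineOpen.fromSpecStalk
  have : Flat (Spec.map (X.presheaf.germ U x hxU)) := by
    rw [HasRingHomProperty.Spec_iff (P := @Flat)]
    let _ := TopCat.Presheaf.algebra_section_stalk X.presheaf (⟨x, hxU⟩ : U)
    have hloc := hU.isLocalization_stalk ⟨x, hxU⟩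
    have : Module.Flat Γ(X, U) (X.presheaf.stalk x) :=
      IsLocalization.flat _ (hU.primeIdealOf ⟨x, hxU⟩).asIdeal.primeCompl
    exact this
  have h2 : IsOpenImmersion (IsAffineOpen.fromSpec hU) := IsAffineOpen.isOpenImmersion_fromSpec hU
  have h3 : Flat (IsAffineOpen.fromSpec hU) := inferInstance
  exact Flat.comp _ _

theorem isCoh_pullback {X Z : Scheme.{u}} (g : Z ⟶ X) (F : X.Modules) (hF : Coh.IsCoh F) :
    Coh.IsCoh ((Scheme.Modules.pullback g).obj F) := by
  haveI : F.IsQuasicoherent := hF.1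
  exact ⟨Groth.Agent.Lead.StalkPull.isQuasicoherent_pullbackObj g F,
    Groth.Agent.Lead.LimPres.isFT_pullback g F hF.2⟩

/-- flatness on an iterated base change from flatness on a base change of the original map -/
lemma flat_of_factor₂ {X Z Z₁ Y T : Scheme.{u}} (f : X ⟶ Z) (F : X.Modules) [F.IsQuasicoherent]
    (j : Z₁ ⟶ Z) (g : Y ⟶ Z) (q : T ⟶ Z₁) (k : T ⟶ Y) (hk : k ≫ g = q ≫ j)
    (x'' : ↥(pullback (pullback.snd f j) q))
    (h : FlatMod.IsFlatOverAt (pullback.snd f g)
      ((Scheme.Modules.pullback (pullback.fst f g)).obj F)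
      (pullback.lift (pullback.fst (pullback.snd f j) q ≫ pullback.fst f j)
        (pullback.snd (pullback.snd f j) q ≫ k)
        (by rw [Category.assoc, Category.assoc, pullback.condition, hk,
          pullback.condition_assoc]) x'')) :
    FlatMod.IsFlatOverAt (pullback.snd (pullback.snd f j) q)
      ((Scheme.Modules.pullback (pullback.fst (pullback.snd f j) q)).obj
        ((Scheme.Modules.pullback (pullback.fst f j)).obj F)) x'' := by
  have hX : IsPullback (pullback.fst (pullback.snd f j) q ≫ pullback.fst f j)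
      (pullback.snd (pullback.snd f j) q) f (q ≫ j) :=
    (IsPullback.of_hasPullback (pullback.snd f j) q).paste_horiz (IsPullback.of_hasPullback f j)
  have h1 := Groth.Agent.Helper2.FlatStageLim.isFlatOverAt_of_stage f F
    (pullback.snd (pullback.snd f j) q) (q ≫ j)
    (pullback.fst (pullback.snd f j) q ≫ pullback.fst f j) hX
    (pullback.snd f g) g (pullback.fst f g) k
    (pullback.lift (pullback.fst (pullback.snd f j) q ≫ pullback.fst f j)
        (pullback.snd (pullback.snd f j) q ≫ k)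
        (by rw [Category.assoc, Category.assoc, pullback.condition, hk,
          pullback.condition_assoc]))
    (IsPullback.of_hasPullback f g) hk (pullback.lift_fst _ _ _) (pullback.lift_snd _ _ _)
    x'' h
  exact Groth.Agent.Lead.FpqcSheaf.isFlatOverAt_of_iso _
    ((Scheme.Modules.pullbackComp (pullback.fst (pullback.snd f j) q)
      (pullback.fst f j)).app F).symm x'' h1


open CategoryTheory.Limits in
theorem s4857 {X Y : Scheme.{u}} [IsLocallyNoetherian Y]
    (f : X ⟶ Y) [LocallyOfFiniteType f] (F : X.Modules) (hF : Coh.IsCoh F) (x : X)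
    {ι : Type u} (A : ι → Type u) [∀ i, CommRing (A i)] [∀ i, IsLocalRing (A i)]
    (φ : ∀ i, (Y.presheaf.stalk (f x) : Type u) →+* A i) [∀ i, IsLocalHom (φ i)]
    (htop : ∀ N : ℕ, ∃ s : Finset (ι × ℕ),
      ⨅ p ∈ s, Ideal.comap (φ p.1) (IsLocalRing.maximalIdeal (A p.1) ^ p.2) ≤
        IsLocalRing.maximalIdeal ↑(Y.presheaf.stalk (f x)) ^ N) :
    letI g : ∀ i, Spec (CommRingCat.of (A i)) ⟶ Y :=
      fun i => Spec.map (CommRingCat.ofHom (φ i)) ≫ Y.fromSpecStalk (f x)
    (∀ (i : ι) (x' : ↥(pullback f (g i))), pullback.fst f (g i) x' = x →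
      pullback.snd f (g i) x' = IsLocalRing.closedPoint (A i) →
      FlatMod.IsFlatOverAt (pullback.snd f (g i)) ((Scheme.Modules.pullback (pullback.fst f (g i))).obj F) x') →
    FlatMod.IsFlatOverAt f F x := by
  intro H
  beta_reduce at H
  haveI : F.IsQuasicoherent := hF.1
  obtain ⟨j, hj⟩ : ∃ j : Spec (Y.presheaf.stalk (f x)) ⟶ Y, j = Y.fromSpecStalk (f x) := ⟨_, rfl⟩
  haveI : Flat j := hj ▸ flat_fromSpecStalk Y (f x)
  obtain ⟨x₁, hx₁a, hx₁b⟩ := Scheme.Pullback.exists_preimage_pullback (f := f) (g := j) x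
    (closedPoint (Y.presheaf.stalk (f x))) (by rw [hj, Scheme.fromSpecStalk_closedPoint])
  have hdesc := Groth.Agent.Lead.StalkPull.main_descent f (pullback.snd f j) (pullback.fst f j) j
    (IsPullback.of_hasPullback f j) F hF.1 x₁ ((Flat.iff_flat_stalkMap j).mp inferInstance _) ?_
  · rw [hx₁a] at hdesc
    exact hdesc
  haveI hloc : ∀ p : ι × ℕ, IsLocalRing (A p.1 ⧸ maximalIdeal (A p.1) ^ (p.2 + 1)) := fun p => by
    haveI : Nontrivial (A p.1 ⧸ maximalIdeal (A p.1) ^ (p.2 + 1)) :=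
      Ideal.Quotient.nontrivial_iff.2 (ne_top_of_le_ne_top (maximalIdeal.isMaximal _).ne_top
        (Ideal.pow_le_self (Nat.succ_ne_zero _)))
    exact IsLocalRing.of_surjective' (Ideal.Quotient.mk _) Ideal.Quotient.mk_surjective
  haveI hlh : ∀ p : ι × ℕ, IsLocalHom ((Ideal.Quotient.mk (maximalIdeal (A p.1) ^ (p.2 + 1))).comp
      (φ p.1)) := fun p => by
    haveI : IsLocalHom (Ideal.Quotient.mk (maximalIdeal (A p.1) ^ (p.2 + 1))) :=
      isLocalHom_of_le_jacobson_bot _ ((Ideal.pow_le_self (Nat.succ_ne_zero _)).trans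
        (maximalIdeal_le_jacobson ⊥))
    exact RingHom.isLocalHom_comp _ _
  have hker : ∀ p : ι × ℕ, RingHom.ker ((Ideal.Quotient.mk (maximalIdeal (A p.1) ^ (p.2 + 1))).comp
      (φ p.1)) = Ideal.comap (φ p.1) (maximalIdeal (A p.1) ^ (p.2 + 1)) := fun p => by
    ext a
    rw [RingHom.mem_ker, Ideal.mem_comap, RingHom.comp_apply, Ideal.Quotient.eq_zero_iff_mem]
  haveI hN : IsNoetherianRing (Y.presheaf.stalk (f x)) := inferInstance
  refine @local_family (Y.presheaf.stalk (f x) : Type u) _ hN _ _ (pullback.snd f j) _ _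
    (isCoh_pullback _ F hF) x₁ hx₁b
    (ι × ℕ) (fun p => A p.1 ⧸ maximalIdeal (A p.1) ^ (p.2 + 1)) _ hloc
    (fun p => (Ideal.Quotient.mk _).comp (φ p.1)) hlh ?_ ?_ ?_
  · intro p
    refine ⟨p.2 + 1, ?_⟩
    rw [hker]
    rw [← Ideal.map_le_iff_le_comap, Ideal.map_pow]
    refine Ideal.pow_right_mono ?_ _
    exact ((IsLocalRing.local_hom_TFAE (φ p.1)).out 0 2).1 (inferInstance : IsLocalHom (φ p.1))
  · intro N
    obtain ⟨s, hs⟩ := htop N
    refine ⟨s, le_trans ?_ hs⟩
    refine iInf₂_mono ?_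
    intro p hp
    rw [hker]
    exact Ideal.comap_mono (Ideal.pow_le_pow_right (Nat.le_succ _))
  · intro p x'' h1 h2
    obtain ⟨i, n⟩ := p
    haveI : IsLocalRing (A i ⧸ maximalIdeal (A i) ^ (n + 1)) := hloc (i, n)
    haveI : IsLocalHom (Ideal.Quotient.mk (maximalIdeal (A i) ^ (n + 1))) :=
      isLocalHom_of_le_jacobson_bot _ ((Ideal.pow_le_self (Nat.succ_ne_zero _)).trans
        (maximalIdeal_le_jacobson ⊥))
    have hk : Spec.map (CommRingCat.ofHom (Ideal.Quotient.mk (maximalIdeal (A i) ^ (n + 1)))) ≫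
        (Spec.map (CommRingCat.ofHom (φ i)) ≫ Y.fromSpecStalk (f x)) =
        Spec.map (CommRingCat.ofHom ((Ideal.Quotient.mk (maximalIdeal (A i) ^ (n + 1))).comp
          (φ i))) ≫ j := by
      rw [hj, ← Category.assoc, ← Spec.map_comp]
      rfl
    apply flat_of_factor₂ f F j (Spec.map (CommRingCat.ofHom (φ i)) ≫ Y.fromSpecStalk (f x)) _
      (Spec.map (CommRingCat.ofHom (Ideal.Quotient.mk (maximalIdeal (A i) ^ (n + 1))))) hk
    apply H i
    · rw [← Scheme.Hom.comp_apply, pullback.lift_fst, Scheme.Hom.comp_apply, h1, hx₁a]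
    · rw [← Scheme.Hom.comp_apply, pullback.lift_snd, Scheme.Hom.comp_apply, h2]
      exact IsLocalRing.comap_closedPoint (Ideal.Quotient.mk (maximalIdeal (A i) ^ (n + 1)))

end Groth.Agent.Lead.FlatUnivJ
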