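import Mathlib
import Groth.Prelude.Def_FlatMod2
import Groth.Prelude.Def_CohB1
import Groth.Prelude.Def_Coh
import Groth.Agent.Lead.FlatBC2
import Groth.Agent.Lead.FpqcSheaf3
import Groth.Agent.Lead.LimPres

set_option autoImplicit false
set_option linter.style.haveILetI false
universe u
open CategoryTheory CategoryTheory.Limits AlgebraicGeometry TopologicalSpace Opposite

namespace Groth.Agent.Lead.GFStrat

/-- the inclusion of the stratum `V(J) ∖ V(J')` (as an open subscheme of `V(J)`) -/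
noncomputable def stratumι {S : Scheme.{u}} (J J' : S.IdealSheafData) :
    (↑(J.subschemeι ⁻¹ᵁ J'.support.compl) : Scheme.{u}) ⟶ S :=
  (J.subschemeι ⁻¹ᵁ J'.support.compl).ι ≫ J.subschemeι

/-- `F` is flat over the stratum `V(J) ∖ V(J')` -/
def FlatOn {X S : Scheme.{u}} (f : X ⟶ S) (F : X.Modules) (J J' : S.IdealSheafData) : Prop :=
  FlatMod.IsFlatOver (pullback.snd f (stratumι J J'))
    ((Scheme.Modules.pullback (pullback.fst f (stratumι J J'))).obj F)

/-- the stratification predicate -/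
def IsStrat {X S : Scheme.{u}} (f : X ⟶ S) (F : X.Modules) (t : ℕ)
    (I : Fin (t + 1) → S.IdealSheafData) : Prop :=
  Monotone I ∧ I (Fin.last t) = ⊤ ∧ ∀ i : Fin t, FlatOn f F (I i.castSucc) (I i.succ)

set_option backward.isDefEq.respectTransparency false in
theorem flat_transfer {X S X₀ S₀ : Scheme.{u}} (f : X ⟶ S) (f₀ : X₀ ⟶ S₀) (g' : X ⟶ X₀)
    (g : S ⟶ S₀) (hpb : IsPullback g' f f₀ g) (F₀ : X₀.Modules) (hF₀ : Coh.IsQCoh F₀)
    (F : X.Modules) (eF : (Scheme.Modules.pullback g').obj F₀ ≅ F)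
    {T T₀ : Scheme.{u}} (j : T ⟶ S) (j₀ : T₀ ⟶ S₀) (k : T ⟶ T₀) (hk : k ≫ j₀ = j ≫ g)
    (x' : ↑(pullback f j))
    (h : ∀ y : ↑(pullback f₀ j₀), (pullback.snd f₀ j₀) y = k ((pullback.snd f j) x') →
      FlatMod.IsFlatOverAt (pullback.snd f₀ j₀)
        ((Scheme.Modules.pullback (pullback.fst f₀ j₀)).obj F₀) y) :
    FlatMod.IsFlatOverAt (pullback.snd f j)
      ((Scheme.Modules.pullback (pullback.fst f j)).obj F) x' := by
  haveI : F₀.IsQuasicoherent := hF₀
  let m : pullback f j ⟶ pullback f₀ j₀ :=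
    pullback.map f j f₀ j₀ g' k g hpb.w.symm hk.symm
  have hm1 : m ≫ pullback.fst f₀ j₀ = pullback.fst f j ≫ g' := pullback.lift_fst _ _ _
  have hm2 : m ≫ pullback.snd f₀ j₀ = pullback.snd f j ≫ k := pullback.lift_snd _ _ _
  have h1 : IsPullback (pullback.fst f j ≫ g') (pullback.snd f j) f₀ (j ≫ g) :=
    (IsPullback.of_hasPullback f j).paste_horiz hpb
  have h2 : IsPullback m (pullback.snd f j) (pullback.snd f₀ j₀) k :=
    IsPullback.of_right (by rw [hm1, hk]; exact h1) hm2 (IsPullback.of_hasPullback f₀ j₀)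
  have hq1 : Coh.IsQCoh ((Scheme.Modules.pullback (pullback.fst f₀ j₀)).obj F₀) :=
    StalkPull.isQuasicoherent_pullbackObj _ F₀
  have hpt : (pullback.snd f₀ j₀) (m x') = k ((pullback.snd f j) x') := by
    rw [← Scheme.Hom.comp_apply, hm2, Scheme.Hom.comp_apply]
  have h3 := FlatBC.main_baseChange (pullback.snd f₀ j₀) (pullback.snd f j) m k h2 _ hq1 x'
    (h (m x') hpt)
  refine FpqcSheaf.isFlatOverAt_of_iso _ ?_ x' h3
  exact (Scheme.Modules.pullbackComp m (pullback.fst f₀ j₀)).app F₀ ≪≫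
    (Scheme.Modules.pullbackCongr hm1).app F₀ ≪≫
    ((Scheme.Modules.pullbackComp (pullback.fst f j) g').app F₀).symm ≪≫
    (Scheme.Modules.pullback (pullback.fst f j)).mapIso eF

set_option backward.isDefEq.respectTransparency false in
/-- the special case of a change of the base of the stratum only -/
theorem flat_transfer_id {X S : Scheme.{u}} (f : X ⟶ S) (F : X.Modules) (hF : Coh.IsQCoh F)
    {T T₀ : Scheme.{u}} (j : T ⟶ S) (j₀ : T₀ ⟶ S) (k : T ⟶ T₀) (hk : k ≫ j₀ = j)
    (x' : ↑(pullback f j))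
    (h : ∀ y : ↑(pullback f j₀), (pullback.snd f j₀) y = k ((pullback.snd f j) x') →
      FlatMod.IsFlatOverAt (pullback.snd f j₀)
        ((Scheme.Modules.pullback (pullback.fst f j₀)).obj F) y) :
    FlatMod.IsFlatOverAt (pullback.snd f j)
      ((Scheme.Modules.pullback (pullback.fst f j)).obj F) x' :=
  flat_transfer f f (𝟙 X) (𝟙 S) (IsPullback.of_horiz_isIso ⟨by simp⟩) F hF F
    ((Scheme.Modules.pullbackId (X := X)).app F) j j₀ k (by simpa using hk) x' h

end Groth.Agent.Lead.GFStrat
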