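import Mathlib
import Groth.Agent.Lead.GFStratA
import Groth.Agent.Lead.SuppProper
import Groth.Agent.S4799

set_option autoImplicit false
set_option linter.style.haveILetI false
universe u
open CategoryTheory CategoryTheory.Limits AlgebraicGeometry TopologicalSpace Opposite

namespace Groth.Agent.Lead.GFStrat

/-- a nonempty noetherian space has a nonempty irreducible open subset -/
theorem exists_irreducible_open (T : Type*) [TopologicalSpace T] [NoetherianSpace T]
    [Nonempty T] : ∃ W : Opens T, IsIrreducible (W : Set T) := by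
  classical
  have hfin : (irreducibleComponents T).Finite := NoetherianSpace.finite_irreducibleComponents
  obtain ⟨x⟩ := ‹Nonempty T›
  have hC : irreducibleComponent x ∈ irreducibleComponents T :=
    irreducibleComponent_mem_irreducibleComponents x
  set C := irreducibleComponent x with hCdef
  have hfin' : (irreducibleComponents T \ {C}).Finite := hfin.subset Set.sdiff_subset
  have hRcl : IsClosed (⋃₀ (irreducibleComponents T \ {C})) := by
    rw [Set.sUnion_eq_biUnion]
    exact hfin'.isClosed_biUnion fun s hs => isClosed_of_mem_irreducibleComponents s hs.1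
  let W : Opens T := ⟨(⋃₀ (irreducibleComponents T \ {C}))ᶜ, hRcl.isOpen_compl⟩
  have hWC : (W : Set T) ⊆ C := by
    intro y hy
    have hy' : y ∈ ⋃₀ irreducibleComponents T := by
      rw [sUnion_irreducibleComponents]; trivial
    obtain ⟨C', hC', hyC'⟩ := hy'
    by_cases h : C' = C
    · rw [← h]; exact hyC'
    · exact absurd (Set.mem_sUnion_of_mem hyC'
        (show C' ∈ irreducibleComponents T \ {C} from ⟨hC', h⟩)) hy
  have hWne : (W : Set T).Nonempty := by
    by_contra hne
    rw [Set.not_nonempty_iff_eq_empty] at hne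
    have hR : ⋃₀ (irreducibleComponents T \ {C}) = Set.univ := by
      rw [← compl_compl (⋃₀ (irreducibleComponents T \ {C}))]
      change ((W : Set T))ᶜ = _
      rw [hne, Set.compl_empty]
    have := mem_of_subset_sUnion_irreducibleComponents C hC _ hfin' Set.sdiff_subset
      (by rw [hR]; exact Set.subset_univ _)
    exact this.2 rfl
  exact ⟨W, hWne, hC.1.isPreirreducible.open_subset W.isOpen hWC⟩

section Noeth
variable {X S : Scheme.{u}} (f : X ⟶ S) [LocallyOfFinitePresentation f] [QuasiCompact f]
  (F : X.Modules) [IsNoetherian S]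

set_option backward.isDefEq.respectTransparency false in
theorem exists_stratum (hq : Coh.IsQCoh F) (hfp : CohB1.IsFP F) (Z : Closeds S) (hZ : Z ≠ ⊥) :
    ∃ Z' : Closeds S, Z' < Z ∧
      FlatOn f F (Scheme.IdealSheafData.vanishingIdeal Z)
        (Scheme.IdealSheafData.vanishingIdeal Z') := by
  haveI : F.IsQuasicoherent := hq
  set J := Scheme.IdealSheafData.vanishingIdeal Z with hJ
  haveI : IsReduced J.subscheme := SuppProper.isReduced_vanishingIdeal_subscheme Z
  have hrange : Set.range J.subschemeι = (Z : Set S) := by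
    rw [J.range_subschemeι, hJ, Scheme.IdealSheafData.coe_support_vanishingIdeal]
  have hmemZ : ∀ z : J.subscheme, J.subschemeι z ∈ (Z : Set S) := fun z => by
    rw [← hrange]; exact Set.mem_range_self z
  haveI : Nonempty J.subscheme := by
    have hne : (Z : Set S).Nonempty := by
      rw [Set.nonempty_iff_ne_empty]
      intro h
      exact hZ (Closeds.ext (by simpa using h))
    obtain ⟨z, hz⟩ := hne
    rw [← hrange] at hz
    obtain ⟨w, _⟩ := hz
    exact ⟨w⟩
  haveI : IsLocallyNoetherian J.subscheme :=
    LocallyOfFiniteType.isLocallyNoetherian J.subschemeι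
  haveI : CompactSpace J.subscheme := QuasiCompact.compactSpace_of_compactSpace J.subschemeι
  haveI : IsNoetherian J.subscheme := {}
  obtain ⟨W, hWirr⟩ : ∃ W : J.subscheme.Opens, IsIrreducible (W : Set J.subscheme) :=
    exists_irreducible_open J.subscheme
  haveI : IrreducibleSpace (W : Scheme.{u}) := Subtype.irreducibleSpace hWirr
  haveI : IsIntegral (W : Scheme.{u}) := isIntegral_of_irreducibleSpace_of_isReduced _
  set jW : (W : Scheme.{u}) ⟶ S := W.ι ≫ J.subschemeι with hjW
  haveI : ((Scheme.Modules.pullback (pullback.fst f jW)).obj F).IsQuasicoherent :=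
    StalkPull.isQuasicoherent_pullbackObj _ F
  obtain ⟨U₀, hU₀ne, hU₀⟩ := Groth.Agent.S4799.result (pullback.snd f jW)
    ((Scheme.Modules.pullback (pullback.fst f jW)).obj F) (LimPres.isFP_pullback _ F hfp)
  -- the open subset of `S` cutting out `U₀`
  obtain ⟨O, hO, hOpre⟩ := J.subschemeι.isClosedEmbedding.isInducing.isOpen_iff.mp
    (W.ι ''ᵁ U₀).isOpen
  let Z' : Closeds S := Z ⊓ ⟨Oᶜ, isClosed_compl_iff.mpr hO⟩
  have hZ'coe : (Z' : Set S) = (Z : Set S) ∩ Oᶜ := rfl
  set J' := Scheme.IdealSheafData.vanishingIdeal Z' with hJ'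
  have hsupp' : (J'.support : Set S) = (Z' : Set S) :=
    Scheme.IdealSheafData.coe_support_vanishingIdeal Z'
  refine ⟨Z', lt_of_le_of_ne inf_le_left ?_, ?_⟩
  · intro heq
    obtain ⟨w, hw⟩ := hU₀ne
    have h1 : W.ι w ∈ ((W.ι ''ᵁ U₀ : J.subscheme.Opens) : Set J.subscheme) :=
      ⟨w, hw, rfl⟩
    rw [← hOpre] at h1
    have h2 : J.subschemeι (W.ι w) ∈ (Z' : Set S) := by
      rw [heq]; exact hmemZ _
    rw [hZ'coe] at h2
    exact h2.2 h1
  · show FlatOn f F J J'
    intro x'
    set T : J.subscheme.Opens := J.subschemeι ⁻¹ᵁ J'.support.compl with hT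
    have hTU : ∀ z : J.subscheme, z ∈ T → z ∈ ((W.ι ''ᵁ U₀ : J.subscheme.Opens) : Set J.subscheme) := by
      intro z hz
      rw [← hOpre]
      have hz' : J.subschemeι z ∉ (J'.support : Set S) := hz
      rw [hsupp', hZ'coe] at hz'
      by_contra hcon
      exact hz' ⟨hmemZ z, hcon⟩
    have hTW : T ≤ W := by
      intro z hz
      obtain ⟨w, _, hw⟩ := hTU z hz
      rw [← hw]
      have : W.ι w ∈ Set.range W.ι := Set.mem_range_self w
      rw [Scheme.Opens.range_ι] at this
      exact this
    let k : (T : Scheme.{u}) ⟶ (W : Scheme.{u}) := J.subscheme.homOfLE hTW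
    have hk : k ≫ jW = stratumι J J' := by
      rw [hjW, ← Category.assoc, Scheme.homOfLE_ι]
      rfl
    refine flat_transfer_id f F hq (stratumι J J') jW k hk x' (fun y hy => hU₀ y ?_)
    rw [hy]
    set z := (pullback.snd f (stratumι J J')) x' with hz
    have hzT : T.ι z ∈ T := by
      have : T.ι z ∈ Set.range T.ι := Set.mem_range_self z
      rw [Scheme.Opens.range_ι] at this
      exact this
    obtain ⟨w, hwU, hw⟩ := hTU _ hzT
    have hkz : W.ι (k z) = T.ι z := by
      rw [← Scheme.Hom.comp_apply, Scheme.homOfLE_ι]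
    have : w = k z := W.ι.isOpenEmbedding.injective (hw.trans hkz.symm)
    rw [← this]
    exact hwU

theorem noeth_strat (hq : Coh.IsQCoh F) (hfp : CohB1.IsFP F) (Z : Closeds S) :
    ∃ (t : ℕ) (I : Fin (t + 1) → S.IdealSheafData), IsStrat f F t I ∧
      I 0 = Scheme.IdealSheafData.vanishingIdeal Z := by
  induction Z using WellFoundedLT.induction with
  | ind Z ih =>
    by_cases hZ : Z = ⊥
    · subst hZ
      exact ⟨0, fun _ => ⊤, ⟨monotone_const, rfl, fun i => i.elim0⟩,
        Scheme.IdealSheafData.vanishingIdeal_bot.symm⟩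
    · obtain ⟨Z', hlt, hflat⟩ := exists_stratum f F hq hfp Z hZ
      obtain ⟨t', I', ⟨hmono, hlast, hfl⟩, h0⟩ := ih Z' hlt
      refine ⟨t' + 1, Fin.cons (Scheme.IdealSheafData.vanishingIdeal Z) I', ⟨?_, ?_, ?_⟩,
        Fin.cons_zero _ _⟩
      · rw [Fin.monotone_iff_le_succ]
        intro i
        refine Fin.cases ?_ (fun k => ?_) i
        · rw [Fin.castSucc_zero, Fin.cons_zero, Fin.cons_succ, h0]
          exact Scheme.IdealSheafData.vanishingIdeal_antimono hlt.le
        · rw [← Fin.succ_castSucc, Fin.cons_succ, Fin.cons_succ]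
          exact Fin.monotone_iff_le_succ.mp hmono k
      · rw [← Fin.succ_last, Fin.cons_succ]
        exact hlast
      · intro i
        refine Fin.cases ?_ (fun k => ?_) i
        · rw [Fin.castSucc_zero, Fin.cons_zero, Fin.cons_succ, h0]
          exact hflat
        · rw [← Fin.succ_castSucc, Fin.cons_succ, Fin.cons_succ]
          exact hfl k

end Noeth

end Groth.Agent.Lead.GFStrat
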