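import Mathlib
open CategoryTheory Limits AlgebraicGeometry

namespace Groth.Agent.Lead.LimFlat
universe u

/-- abstract flatness of a "filtered colimit" of flat algebras -/
theorem flat_of_stages {A₀ A : Type*} [CommRing A₀] [CommRing A] (π₀ : A₀ →+* A)
    {ι : Type*} (B : ι → Type*) [∀ i, CommRing (B i)] (g : ∀ i, A₀ →+* B i) (p : ∀ i, B i →+* A)
    (hp : ∀ i, (p i).comp (g i) = π₀) (hflat : ∀ i, (g i).Flat)
    (hsurj : ∀ {l : ℕ} (x : Fin l → A), ∃ (i : ι) (y : Fin l → B i), ∀ k, p i (y k) = x k)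
    (hzero : ∀ (i : ι) (b : B i), p i b = 0 → ∃ (i' : ι) (t : B i →+* B i'),
      (p i').comp t = p i ∧ t.comp (g i) = g i' ∧ t b = 0) :
    π₀.Flat := by
  letI : Algebra A₀ A := π₀.toAlgebra
  show Module.Flat A₀ A
  apply Module.Flat.of_forall_isTrivialRelation
  intro l a x hax
  obtain ⟨i, y, hy⟩ := hsurj x
  have h1 : p i (∑ k, g i (a k) * y k) = 0 := by
    rw [map_sum, ← hax]
    refine Finset.sum_congr rfl fun k _ => ?_
    rw [map_mul, hy, Algebra.smul_def]
    congr 1
    exact congr($(hp i) (a k))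
  obtain ⟨i', t, ht1, ht2, ht3⟩ := hzero i _ h1
  letI : Algebra A₀ (B i') := (g i').toAlgebra
  haveI : Module.Flat A₀ (B i') := hflat i'
  have h3 : ∑ k, a k • t (y k) = 0 := by
    rw [← ht3, map_sum]
    refine Finset.sum_congr rfl fun k _ => ?_
    rw [map_mul, Algebra.smul_def]
    congr 1
    exact congr($(ht2) (a k)).symm
  obtain ⟨m, b, z, hz1, hz2⟩ := Module.Flat.isTrivialRelation_of_sum_smul_eq_zero (R := A₀)
    (M := B i') (f := a) (x := fun k => t (y k)) h3
  refine ⟨m, b, fun n => p i' (z n), fun k => ?_, hz2⟩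
  have hz1k : t (y k) = ∑ n, b k n • z n := hz1 k
  rw [← hy k, ← ht1, RingHom.comp_apply, hz1k, map_sum]
  refine Finset.sum_congr rfl fun n _ => ?_
  rw [Algebra.smul_def, Algebra.smul_def, map_mul]
  congr 1
  exact congr($(hp i') (b k n))

section affine
variable {J : Type u} [SmallCategory J] [IsCofiltered J] (D : J ⥤ Scheme.{u}) (c : Cone D)
  (hc : IsLimit c)

include hc in
/-- affine case: the projection from a cofiltered limit of affine schemes to a stage all of whose
incoming transition maps are flat is flat -/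
theorem flat_π_of_isAffine [∀ j, IsAffine (D.obj j)] (j₀ : J)
    (hf : ∀ (j : J) (φ : j ⟶ j₀), Flat (D.map φ)) : Flat (c.π.app j₀) := by
  classical
  have : IsAffine c.pt := Scheme.isAffine_of_isLimit c hc
  have : IsAffine (((Functor.const J).obj c.pt).obj j₀) := this
  rw [HasRingHomProperty.iff_of_isAffine (P := @Flat)]
  refine flat_of_stages (c.π.app j₀).appTop.hom (ι := Over j₀) (fun j ↦ Γ(D.obj j.left, ⊤))
    (fun j ↦ (D.map j.hom).appTop.hom) (fun j ↦ (c.π.app j.left).appTop.hom) ?_ ?_ ?_ ?_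
  · intro j
    rw [← CommRingCat.hom_comp, ← Scheme.Hom.comp_appTop, c.w]
  · intro j
    exact HasRingHomProperty.appTop @Flat _ (hf j.left j.hom)
  · intro l x
    choose ik tk htk using fun k ↦ exists_appTop_π_eq_of_isAffine_of_isLimit D c hc (x k)
    obtain ⟨S, hS⟩ := IsCofiltered.inf_objs_exists (insert j₀ (Finset.univ.image ik))
    have h0 : Nonempty (S ⟶ j₀) := hS (Finset.mem_insert_self _ _)
    have hk : ∀ k, Nonempty (S ⟶ ik k) := fun k ↦
      hS (Finset.mem_insert_of_mem (Finset.mem_image_of_mem _ (Finset.mem_univ k)))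
    refine ⟨Over.mk h0.some, fun k ↦ (D.map (hk k).some).appTop.hom (tk k), fun k ↦ ?_⟩
    rw [← htk k]
    change ((D.map (hk k).some).appTop ≫ (c.π.app S).appTop).hom (tk k) = _
    rw [← Scheme.Hom.comp_appTop, c.w]
  · intro j b hb
    obtain ⟨j', f, hj'⟩ := exists_appTop_map_eq_zero_of_isAffine_of_isLimit D c hc j.left b hb
    refine ⟨Over.mk (f ≫ j.hom), (D.map f).appTop.hom, ?_, ?_, hj'⟩
    · change (c.π.app j').appTop.hom.comp (D.map f).appTop.hom = _
      rw [← CommRingCat.hom_comp, ← Scheme.Hom.comp_appTop, c.w]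
    · change (D.map f).appTop.hom.comp (D.map j.hom).appTop.hom = (D.map (f ≫ j.hom)).appTop.hom
      rw [← CommRingCat.hom_comp, ← Scheme.Hom.comp_appTop, ← D.map_comp]

end affine

section general
variable {I : Type u} [SmallCategory I] [IsCofiltered I] (D : I ⥤ Scheme.{u}) (c : Cone D)
  (hc : IsLimit c) [∀ {i j : I} (f : i ⟶ j), IsAffineHom (D.map f)]

include hc in
/-- the projection from a cofiltered limit with affine transition maps to a stage all of whose
incoming transition maps are flat is flat -/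
theorem flat_π (i : I) (hf : ∀ (j : I) (φ : j ⟶ i), Flat (D.map φ)) : Flat (c.π.app i) := by
  have hcov : ⨆ U : (D.obj i).affineOpens, c.π.app i ⁻¹ᵁ (U : (D.obj i).Opens) = ⊤ := by
    rw [← Scheme.Hom.preimage_iSup, iSup_affineOpens_eq_top, Scheme.Hom.preimage_top]
  rw [IsZariskiLocalAtSource.iff_of_iSup_eq_top (P := @Flat)
    (fun U : (D.obj i).affineOpens ↦ c.π.app i ⁻¹ᵁ (U : (D.obj i).Opens)) hcov]
  intro U
  have hA (j : Over i) : IsAffine ((opensDiagram D i U).obj j) := U.2.preimage (D.map _)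
  have h1 : Flat ((opensCone D c i U).π.app (Over.mk (𝟙 i))) := by
    refine flat_π_of_isAffine (opensDiagram D i U) (opensCone D c i U)
      (isLimitOpensCone D c hc i U) (Over.mk (𝟙 i)) ?_
    intro j φ
    have : Flat (D.map φ.left) := hf _ _
    dsimp [opensDiagram]
    infer_instance
  dsimp [opensCone] at h1
  have h2 := Scheme.Hom.resLE_comp_ι (c.π.app i) (U := D.map (𝟙 i) ⁻¹ᵁ (U : (D.obj i).Opens))
    (V := c.π.app i ⁻¹ᵁ (U : (D.obj i).Opens)) (by simp)
  rw [← h2]
  exact MorphismProperty.comp_mem _ _ _ h1 inferInstance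

end general

end Groth.Agent.Lead.LimFlat
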