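import Groth.Agent.Lead.ModDict13
import Groth.Agent.Lead.LimFlat
open CategoryTheory Limits AlgebraicGeometry TensorProduct

namespace Groth.Agent.Lead.ModDict
universe u
open Scheme.Modules

section localization
variable {X : Scheme.{u}} {M N : X.Modules} (α : M ⟶ N)
  {ι : Type*} (X' : ι → Scheme.{u}) (j : ∀ i, X' i ⟶ X) [∀ i, IsOpenImmersion (j i)]
  (hj : ∀ x : X, ∃ i, x ∈ Set.range (j i))

include hj in
theorem mono_of_restrict (h : ∀ i, Mono ((restrictFunctor (j i)).map α)) : Mono α := by
  apply Abelian.mono_of_kernel_ι_eq_zero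
  apply eq_zero_of_restrict _ X' j hj
  intro i
  have := h i
  rw [← cancel_mono ((restrictFunctor (j i)).map α), ← Functor.map_comp, kernel.condition]
  simp

end localization

section flatalg
open ChangeOfRings

set_option backward.isDefEq.respectTransparency false in
/-- flat base change of a kernel -/
theorem extendScalars_mono_iff_of_flat {R S : Type u} [CommRing R] [CommRing S] (f : R →+* S)
    (hf : f.Flat) {K M N : ModuleCat.{u} R} (i : K ⟶ M) (m : M ⟶ N)
    (hex : Function.Exact i.hom m.hom) (hinj : Function.Injective i.hom) :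
    Mono ((ModuleCat.extendScalars f).map m) ↔ (ModuleCat.extendScalars f).map (𝟙 K) = 0 := by
  letI := f.toAlgebra
  haveI : Module.Flat R S := hf
  have hex' : Function.Exact (i.hom.lTensor S) (m.hom.lTensor S) :=
    Module.Flat.lTensor_exact S hex
  have hinj' : Function.Injective (i.hom.lTensor S) :=
    Module.Flat.lTensor_preserves_injective_linearMap _ hinj
  rw [ModuleCat.mono_iff_injective]
  constructor
  · intro hm
    rw [CategoryTheory.Functor.map_id]
    apply ModuleCat.hom_ext
    apply LinearMap.ext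
    intro z
    change z = 0
    apply hinj'
    have hz : m.hom.lTensor S (i.hom.lTensor S z) = 0 := (hex' _).mpr ⟨z, rfl⟩
    have hm' : Function.Injective (m.hom.lTensor S) := hm
    rw [map_zero]
    exact hm' (hz.trans (map_zero _).symm)
  · intro h0
    have hsub : ∀ z : S ⊗[R] K, z = 0 := by
      intro z
      have := congrArg (fun φ => φ.hom z) h0
      rw [CategoryTheory.Functor.map_id] at this
      exact this
    have hm' : Function.Injective (m.hom.lTensor S) := by
      rw [injective_iff_map_eq_zero]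
      intro w hw
      obtain ⟨z, rfl⟩ := (hex' w).mp hw
      rw [hsub z, map_zero]
    exact hm'

end flatalg

section square
variable {X Y : Scheme.{u}} (f : X ⟶ Y) {U : Y.Opens} (hU : IsAffineOpen U)
  {F G : Y.Modules} [F.IsQuasicoherent] [G.IsQuasicoherent] (δ : F ⟶ G)

theorem tilde_map_mono_iff {R : CommRingCat.{u}} {M N : ModuleCat.{u} R} (x : M ⟶ N) :
    Mono ((tilde.functor R).map x) ↔ Mono x := by
  haveI := Groth.Agent.Helper4.TildeExact.preservesFiniteLimits_tilde R
  exact ⟨fun _ => (tilde.functor R).mono_of_mono_map ‹_›, fun _ => inferInstance⟩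

theorem resF_pullback_mono_iff (hV : IsAffineOpen (f ⁻¹ᵁ U)) :
    Mono ((resF hV).map ((Scheme.Modules.pullback f).map δ)) ↔
      Mono ((ModuleCat.extendScalars.{u, u, u} (f.app U).hom).map ((secF hU).map δ)) := by
  rw [mono_iff_of_arrowIso (arrowIsoPullback f hU hV le_rfl δ), tilde_map_mono_iff,
    Scheme.Hom.app_eq_appLE]

theorem secF_kernel_exact :
    Function.Exact ((secF hU).map (kernel.ι δ)).hom ((secF hU).map δ).hom ∧
      Function.Injective ((secF hU).map (kernel.ι δ)).hom := by
  let S : ShortComplex Y.Modules := ShortComplex.mk (kernel.ι δ) δ (kernel.condition δ)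
  have hS : S.Exact := S.exact_of_f_is_kernel (kernelIsKernel δ)
  have hS' : (S.map (secF hU)).Exact :=
    hS.map_of_mono_of_preservesKernel (secF hU) (inferInstanceAs (Mono (kernel.ι δ))) inferInstance
  refine ⟨?_, ?_⟩
  · rw [LinearMap.exact_iff]
    exact hS'.moduleCat_range_eq_ker.symm
  · haveI : Mono ((secF hU).map (kernel.ι δ)) := inferInstance
    exact (ModuleCat.mono_iff_injective _).mp this

/-- flat base change of kernels, in the form we need: for a flat affine morphism `f` the pullback
of `δ` is a monomorphism iff the pullback of the kernel of `δ` vanishes -/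
theorem mono_pullback_iff_of_flat [Flat f] [IsAffineHom f] :
    Mono ((Scheme.Modules.pullback f).map δ) ↔
      (Scheme.Modules.pullback f).map (𝟙 (kernel δ)) = 0 := by
  haveI : (kernel δ).IsQuasicoherent := Groth.Agent.Helper4.QcohLimits.isQuasicoherent_kernel δ
  have hloc : ∀ (V : Y.affineOpens),
      Mono ((resF (V.2.preimage f)).map ((Scheme.Modules.pullback f).map δ)) ↔
        (resF (V.2.preimage f)).map ((Scheme.Modules.pullback f).map (𝟙 (kernel δ))) = 0 := by
    intro V
    have hfl : (f.app V.1).hom.Flat := by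
      have := HasRingHomProperty.appLE (P := @Flat) f ‹Flat f› V ⟨_, V.2.preimage f⟩ le_rfl
      rwa [← Scheme.Hom.app_eq_appLE] at this
    obtain ⟨hex, hinj⟩ := secF_kernel_exact V.2 δ
    rw [resF_pullback_mono_iff (hU := V.2), resF_pullback_eq_zero_iff (hU := V.2),
      extendScalars_mono_iff_of_flat _ hfl _ _ hex hinj, CategoryTheory.Functor.map_id,
      CategoryTheory.Functor.map_id, CategoryTheory.Functor.map_id]
  have hcov : ∀ x : X, ∃ V : Y.affineOpens, x ∈ Set.range (V.2.preimage f).fromSpec := by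
    intro x
    obtain ⟨_, ⟨V, hV : IsAffineOpen V, rfl⟩, hxV, -⟩ :=
      Y.isBasis_affineOpens.exists_subset_of_mem_open (Set.mem_univ (f.base x)) isOpen_univ
    refine ⟨⟨V, hV⟩, ?_⟩
    rw [IsAffineOpen.range_fromSpec]
    exact hxV
  constructor
  · intro hm
    refine eq_zero_of_restrict _ (ι := Y.affineOpens) (fun V => Spec Γ(X, f ⁻¹ᵁ V.1))
      (fun V => (V.2.preimage f).fromSpec) hcov ?_
    intro V
    haveI : Mono ((resF (V.2.preimage f)).map ((Scheme.Modules.pullback f).map δ)) :=
      inferInstance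
    exact (hloc V).mp inferInstance
  · intro h0
    refine mono_of_restrict _ (ι := Y.affineOpens) (fun V => Spec Γ(X, f ⁻¹ᵁ V.1))
      (fun V => (V.2.preimage f).fromSpec) hcov ?_
    intro V
    refine (hloc V).mpr ?_
    rw [h0, Functor.map_zero]

end square

section limit
variable {I : Type u} [SmallCategory I] [IsCofiltered I] (D : I ⥤ Scheme.{u}) (c : Cone D)
  (hc : IsLimit c) [∀ {i j : I} (f : i ⟶ j), IsAffineHom (D.map f)] (i₀ : I)
  (hfl : ∀ {i j : I} (φ : i ⟶ j), Flat (D.map φ))
  {F G : (D.obj i₀).Modules} [F.IsQuasicoherent] [G.IsQuasicoherent] (δ : F ⟶ G)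
  (hker : SheafOfModules.IsFiniteType (R := (D.obj i₀).ringCatSheaf) (kernel δ))

include hc hfl hker in
theorem mono_iff_eventually_of_flat [CompactSpace (D.obj i₀)] :
    Mono ((Scheme.Modules.pullback (c.π.app i₀)).map δ) ↔
      ∃ (j : I) (φ : j ⟶ i₀), Mono ((Scheme.Modules.pullback (D.map φ)).map δ) := by
  haveI : (kernel δ).IsQuasicoherent := Groth.Agent.Helper4.QcohLimits.isQuasicoherent_kernel δ
  haveI := isAffineHom_π_app D c hc i₀
  haveI : Flat (c.π.app i₀) := Groth.Agent.Lead.LimFlat.flat_π D c hc i₀ (fun j φ => hfl φ)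
  rw [mono_pullback_iff_of_flat]
  have := map_eq_iff_eventually D c hc i₀ (F := kernel δ) (G := kernel δ) hker (𝟙 (kernel δ)) 0
  simp only [Functor.map_zero] at this
  rw [this]
  constructor
  · rintro ⟨j, φ, h⟩
    haveI := hfl φ
    exact ⟨j, φ, (mono_pullback_iff_of_flat _ δ).mpr h⟩
  · rintro ⟨j, φ, h⟩
    haveI := hfl φ
    exact ⟨j, φ, (mono_pullback_iff_of_flat _ δ).mp h⟩

end limit

end Groth.Agent.Lead.ModDict
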