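import Groth.Agent.Lead.BCMap10

set_option autoImplicit false
open CategoryTheory AlgebraicGeometry Opposite TopologicalSpace TensorProduct
universe u

namespace Groth.Agent.Lead.BCMap
open Scheme.Modules Groth.Agent.Helper4

theorem bijective_of_two_isBaseChange {R R' M₁ M₂ N₁ N₂ : Type u} [CommRing R] [CommRing R']
    [Algebra R R'] [AddCommGroup M₁] [Module R M₁] [AddCommGroup M₂] [Module R M₂]
    [AddCommGroup N₁] [Module R N₁] [Module R' N₁] [IsScalarTower R R' N₁]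
    [AddCommGroup N₂] [Module R N₂] [Module R' N₂] [IsScalarTower R R' N₂]
    (ρ₁ : M₁ →ₗ[R] N₁) (h₁ : IsBaseChange R' ρ₁) (ρ₂ : M₂ →ₗ[R] N₂) (h₂ : IsBaseChange R' ρ₂)
    (eM : M₁ ≃ₗ[R] M₂) (β : N₁ →ₗ[R'] N₂) (hβ : ∀ m, β (ρ₁ m) = ρ₂ (eM m)) :
    Function.Bijective β := by
  have h₂' : IsBaseChange R' (ρ₂.comp eM.toLinearMap) := IsBaseChange.comp_equiv eM ρ₂ h₂
  have key : ∀ t : R' ⊗[R] M₁, β (h₁.equiv t) = h₂'.equiv t := by
    intro t
    induction t using TensorProduct.induction_on with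
    | zero => simp
    | tmul r' m =>
      rw [IsBaseChange.equiv_tmul, IsBaseChange.equiv_tmul, LinearMap.map_smul, hβ]
      rfl
    | add x y hx hy => rw [map_add, map_add, map_add, hx, hy]
  have hβ' : (β : N₁ → N₂) = h₂'.equiv ∘ h₁.equiv.symm := by
    funext n
    obtain ⟨t, rfl⟩ := h₁.equiv.surjective n
    rw [key]
    simp
  rw [hβ']
  exact h₂'.equiv.bijective.comp h₁.equiv.symm.bijective

section Flat
variable {X S X' S' : Scheme.{u}} (f : X ⟶ S) (g : S' ⟶ S) (g' : X' ⟶ X) (f' : X' ⟶ S')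
  (h : IsPullback g' f' f g) (M : X.Modules) [M.IsQuasicoherent]
  {V : S.Opens} {V' : S'.Opens} (e : V' ≤ g ⁻¹ᵁ V) (hV : IsAffineOpen V) (hV' : IsAffineOpen V')

attribute [local instance] modRestr towerRestr

include h hV hV' in
theorem cT_injBC_of_isCompact [Flat g] {U : X.Opens} (hUc : IsCompact (U : Set X))
    (hU : U ≤ f ⁻¹ᵁ V) {U' : X'.Opens} (hU' : U' ≤ f' ⁻¹ᵁ V') (eU : U' ≤ g' ⁻¹ᵁ U)
    (hU'eq : U' = g' ⁻¹ᵁ U ⊓ f' ⁻¹ᵁ V') :
    letI := (g.appLE V V' e).hom.toAlgebra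
    InjBC Γ(S', V') (cT f g g' f' h M e hU hU' eU) := by
  obtain ⟨I, hI, eI⟩ := isCompact_iff_finite_and_eq_biUnion_affineOpens.mp hUc
  haveI : Finite I := hI.to_subtype
  have hIU : ∀ i : I, (i.1 : X.Opens) ≤ U := by
    intro i
    rw [eI]
    exact le_iSup₂_of_le i.1 i.2 le_rfl
  have hcover : U ≤ ⨆ i : I, (i.1 : X.Opens) := by
    rw [eI]
    exact iSup₂_le (fun i hi => le_iSup (fun j : I => (j.1 : X.Opens)) ⟨i, hi⟩)
  have hpre : ∀ i : I, pre (V' := V') g' f' (i.1 : X.Opens) ≤ U' := by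
    intro i
    rw [hU'eq]
    exact pre_mono g' f' (hIU i)
  refine cT_injBC_of_cover f g g' f' h M e hU hU' eU (fun i : I => (i.1 : X.Opens)) hIU
    (fun i : I => pre (V' := V') g' f' (i.1 : X.Opens)) hpre (fun i => inf_le_left) hcover
    (g.flat_appLE hV hV' e) ?_
  intro i
  letI := (g.appLE V V' e).hom.toAlgebra
  exact Groth.Agent.Lead.BCMap.IsBaseChange.injBC _
    (cT_isBaseChange_of_affine f g g' f' h M e hV hV' i.1.2 ((hIU i).trans hU)
      ((hpre i).trans hU') inf_le_left rfl)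

include h hV hV' in
theorem cT_isBaseChange_of_qcqs [Flat g] {U : X.Opens} (hUc : IsCompact (U : Set X))
    (hUqs : IsQuasiSeparated (U : Set X))
    (hU : U ≤ f ⁻¹ᵁ V) {U' : X'.Opens} (hU' : U' ≤ f' ⁻¹ᵁ V') (eU : U' ≤ g' ⁻¹ᵁ U)
    (hU'eq : U' = g' ⁻¹ᵁ U ⊓ f' ⁻¹ᵁ V') :
    letI := (g.appLE V V' e).hom.toAlgebra
    IsBaseChange Γ(S', V') (cT f g g' f' h M e hU hU' eU) := by
  obtain ⟨I, hI, eI⟩ := isCompact_iff_finite_and_eq_biUnion_affineOpens.mp hUc
  haveI : Finite I := hI.to_subtype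
  have hIU : ∀ i : I, (i.1 : X.Opens) ≤ U := by
    intro i
    rw [eI]
    exact le_iSup₂_of_le i.1 i.2 le_rfl
  have hcover : U ≤ ⨆ i : I, (i.1 : X.Opens) := by
    rw [eI]
    exact iSup₂_le (fun i hi => le_iSup (fun j : I => (j.1 : X.Opens)) ⟨i, hi⟩)
  have hpre : ∀ i : I, pre (V' := V') g' f' (i.1 : X.Opens) ≤ U' := by
    intro i
    rw [hU'eq]
    exact pre_mono g' f' (hIU i)
  have hcover' : U' ≤ ⨆ i : I, pre (V' := V') g' f' (i.1 : X.Opens) := by
    rw [hU'eq]
    exact pre_cover g' f' (fun i : I => (i.1 : X.Opens)) hcover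
  refine cT_isBaseChange_of_cover f g g' f' h M e hU hU' eU (fun i : I => (i.1 : X.Opens)) hIU
    (fun i : I => pre (V' := V') g' f' (i.1 : X.Opens)) hpre (fun i => inf_le_left) hcover hcover'
    (g.flat_appLE hV hV' e) ?_ ?_
  · intro i
    exact cT_isBaseChange_of_affine f g g' f' h M e hV hV' i.1.2 ((hIU i).trans hU)
      ((hpre i).trans hU') inf_le_left rfl
  · intro p
    refine cT_injBC_of_isCompact f g g' f' h M e hV hV' ?_ _ _ _ ?_
    · exact hUqs _ _ (hIU p.1) p.1.1.1.2 p.1.1.2.isCompact (hIU p.2) p.2.1.1.2 p.2.1.2.isCompact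
    · change (g' ⁻¹ᵁ (p.1.1 : X.Opens) ⊓ f' ⁻¹ᵁ V') ⊓ (g' ⁻¹ᵁ (p.2.1 : X.Opens) ⊓ f' ⁻¹ᵁ V') =
        g' ⁻¹ᵁ ((p.1.1 : X.Opens) ⊓ (p.2.1 : X.Opens)) ⊓ f' ⁻¹ᵁ V'
      rw [Scheme.Hom.preimage_inf]
      exact (inf_inf_distrib_right _ _ _).symm

theorem presheaf_map_le_rfl {Z : Scheme.{u}} (W : Z.Opens) (x : Γ(Z, W)) :
    Z.presheaf.map (homOfLE (le_refl W)).op x = x := by
  have : (homOfLE (le_refl W)).op = 𝟙 (op W) := Subsingleton.elim _ _
  rw [this, Z.presheaf.map_id]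
  rfl

set_option backward.isDefEq.respectTransparency false in
include h e hV hV' in
theorem bcMap_app_bijective_of_flat [Flat g] [QuasiCompact f] [QuasiSeparated f]
    [((pushforward f).obj M).IsQuasicoherent] :
    Function.Bijective ((bcMap f g g' f' h.w M).app V') := by
  have e' : f' ⁻¹ᵁ V' ≤ g' ⁻¹ᵁ (f ⁻¹ᵁ V) := preimage_le f g g' f' h.w V V' e
  have hUY : f' ⁻¹ᵁ V' = g' ⁻¹ᵁ (f ⁻¹ᵁ V) ⊓ f' ⁻¹ᵁ V' := preimage_eq_inf f g g' f' h V V' e
  letI aRR' : Algebra Γ(S, V) Γ(S', V') := (g.appLE V V' e).hom.toAlgebra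
  have hb := cT_isBaseChange_of_qcqs f g g' f' h M e hV hV'
    (f.isCompact_preimage hV.isCompact)
    (f.isQuasiSeparated_preimage hV.isQuasiSeparated) (le_refl (f ⁻¹ᵁ V))
    (le_refl (f' ⁻¹ᵁ V')) e' hUY
  letI mRN₁ : Module Γ(S, V) Γ((Scheme.Modules.pullback g).obj ((pushforward f).obj M), V') :=
    Module.compHom _ (g.appLE V V' e).hom
  haveI tN₁ : IsScalarTower Γ(S, V) Γ(S', V')
      Γ((Scheme.Modules.pullback g).obj ((pushforward f).obj M), V') :=
    IsScalarTower.of_compHom _ _ _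
  obtain ⟨ρ₁, hρ₁, h₁⟩ := exists_isBaseChange_pbSec g ((pushforward f).obj M) hV hV' e
  let eM : Γ((pushforward f).obj M, V) ≃ₗ[Γ(S, V)] SecT M (f.app V).hom (f ⁻¹ᵁ V) le_rfl :=
    { toFun := fun m => m
      invFun := fun m => m
      map_add' := fun _ _ => rfl
      map_smul' := fun r m => by
        change (f.app V r) • (show Γ(M, f ⁻¹ᵁ V) from m) =
          (X.presheaf.map (homOfLE (le_refl (f ⁻¹ᵁ V))).op (f.app V r)) •
            (show Γ(M, f ⁻¹ᵁ V) from m)
        rw [presheaf_map_le_rfl]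
      left_inv := fun _ => rfl
      right_inv := fun _ => rfl }
  let β : Γ((Scheme.Modules.pullback g).obj ((pushforward f).obj M), V') →ₗ[Γ(S', V')]
      SecT ((Scheme.Modules.pullback g').obj M) (f'.app V').hom (f' ⁻¹ᵁ V') le_rfl :=
    { toFun := (bcMap f g g' f' h.w M).app V'
      map_add' := fun a b => map_add _ a b
      map_smul' := fun r m => by
        have := Hom.app_smul (bcMap f g g' f' h.w M) r m
        change (bcMap f g g' f' h.w M).app V' (r • m) =
          (X'.presheaf.map (homOfLE (le_refl (f' ⁻¹ᵁ V'))).op (f'.app V' r)) •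
            (show Γ((Scheme.Modules.pullback g').obj M, f' ⁻¹ᵁ V') from
              (bcMap f g g' f' h.w M).app V' m)
        rw [presheaf_map_le_rfl]
        exact this }
  have hβ : ∀ m, β (ρ₁ m) = (cT f g g' f' h M e (le_refl (f ⁻¹ᵁ V)) (le_refl (f' ⁻¹ᵁ V')) e')
      (eM m) := by
    intro m
    rw [hρ₁]
    exact bcMap_pbSec f g g' f' h.w M V V' e m
  exact bijective_of_two_isBaseChange ρ₁ h₁ _ hb eM β hβ

end Flat
section FlatIso
variable {X S X' S' : Scheme.{u}} (f : X ⟶ S) (g : S' ⟶ S) (g' : X' ⟶ X) (f' : X' ⟶ S')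
  (h : IsPullback g' f' f g) (M : X.Modules) [M.IsQuasicoherent]

include h in
/-- **Flat base change** (degree zero): the base change map is an isomorphism for `g` flat and
`f` quasi-compact and quasi-separated. -/
theorem isIso_bcMap_of_flat [Flat g] [QuasiCompact f] [QuasiSeparated f] :
    IsIso (bcMap f g g' f' h.w M) := by
  haveI : QuasiCompact f' := MorphismProperty.of_isPullback (P := @QuasiCompact) h inferInstance
  haveI : QuasiSeparated f' :=
    MorphismProperty.of_isPullback (P := @QuasiSeparated) h inferInstance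
  haveI q1 : ((pushforward f).obj M).IsQuasicoherent := QcohGlue.isQuasicoherent_pushforward f M
  haveI q2 : ((Scheme.Modules.pullback g).obj ((pushforward f).obj M)).IsQuasicoherent :=
    Groth.Agent.Lead.StalkPull.isQuasicoherent_pullbackObj g _
  haveI q3 : ((Scheme.Modules.pullback g').obj M).IsQuasicoherent :=
    Groth.Agent.Lead.StalkPull.isQuasicoherent_pullbackObj g' _
  haveI q4 : ((pushforward f').obj ((Scheme.Modules.pullback g').obj M)).IsQuasicoherent :=
    QcohGlue.isQuasicoherent_pushforward f' _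
  apply QcohLocal.isIso_of_app_bijective_of_affine_cover
  intro x'
  obtain ⟨_, ⟨V, hV : IsAffineOpen V, rfl⟩, hxV, -⟩ :=
    S.isBasis_affineOpens.exists_subset_of_mem_open (Set.mem_univ (g x')) isOpen_univ
  obtain ⟨_, ⟨V', hV' : IsAffineOpen V', rfl⟩, hxV', hV'V⟩ :=
    S'.isBasis_affineOpens.exists_subset_of_mem_open
      (show x' ∈ ((g ⁻¹ᵁ V : S'.Opens) : Set S') from hxV) (g ⁻¹ᵁ V).isOpen
  exact ⟨V', hV', hxV', bcMap_app_bijective_of_flat f g g' f' h M hV'V hV hV'⟩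

/-- the base change map written with the counit -/
theorem bcMap_eq_counit (w : g' ≫ f = f' ≫ g) :
    bcMap f g g' f' w M =
      (Scheme.Modules.pullback g).map ((pushforward f).map
        ((pullbackPushforwardAdjunction g').unit.app M)) ≫
      (Scheme.Modules.pullback g).map ((pushforwardComp g' f ≪≫
          pushforwardCongr w ≪≫ (pushforwardComp f' g).symm).hom.app
        ((Scheme.Modules.pullback g').obj M)) ≫
      (pullbackPushforwardAdjunction g).counit.app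
        ((pushforward f').obj ((Scheme.Modules.pullback g').obj M)) := by
  unfold bcMap bcAdj
  rw [Adjunction.homEquiv_counit, Functor.map_comp, Category.assoc]
  rfl

end FlatIso

end Groth.Agent.Lead.BCMap
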