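import Groth.Agent.Lead.BCMap2

set_option autoImplicit false
open CategoryTheory AlgebraicGeometry Opposite TopologicalSpace TensorProduct
universe u

namespace Groth.Agent.Lead.BCMap
open Scheme.Modules

section StepA
variable {X Y X₀ Y₀ : Scheme.{u}} (f : X ⟶ Y) (jX : X₀ ⟶ X) (jY : Y₀ ⟶ Y)
  [IsOpenImmersion jX] [IsOpenImmersion jY] (f₀ : X₀ ⟶ Y₀) (w : jX ≫ f = f₀ ≫ jY)

noncomputable def adjL : Scheme.Modules.pullback f ⋙ restrictFunctor jX ⊣
    pushforward jX ⋙ pushforward f :=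
  (pullbackPushforwardAdjunction f).comp (restrictAdjunction jX)

noncomputable def adjR : restrictFunctor jY ⋙ Scheme.Modules.pullback f₀ ⊣
    pushforward f₀ ⋙ pushforward jY :=
  (restrictAdjunction jY).comp (pullbackPushforwardAdjunction f₀)

noncomputable def kap : pushforward jX ⋙ pushforward f ≅ pushforward f₀ ⋙ pushforward jY :=
  pushforwardComp jX f ≪≫ pushforwardCongr w ≪≫ (pushforwardComp f₀ jY).symm

noncomputable def theta : restrictFunctor jY ⋙ Scheme.Modules.pullback f₀ ≅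
    Scheme.Modules.pullback f ⋙ restrictFunctor jX :=
  (conjugateIsoEquiv (adjL f jX) (adjR jY f₀)).symm (kap f jX jY f₀ w)

theorem theta_unit (F : Y.Modules) :
    (adjL f jX).unit.app F ≫ (kap f jX jY f₀ w).hom.app _ =
      (adjR jY f₀).unit.app F ≫
        (pushforward f₀ ⋙ pushforward jY).map ((theta f jX jY f₀ w).hom.app F) :=
  unit_conjugateEquiv_symm _ _ _ F

include w in
theorem image_le (W : Y.Opens) : jX ''ᵁ (f₀ ⁻¹ᵁ (jY ⁻¹ᵁ W)) ≤ f ⁻¹ᵁ W := by
  rintro _ ⟨x, hx, rfl⟩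
  have h1 : jY (f₀ x) ∈ W := hx
  have h2 : jY (f₀ x) = f (jX x) := by
    have := congrArg (fun φ : X₀ ⟶ Y => φ x) w
    simpa using this.symm
  change f (jX x) ∈ W
  rw [← h2]; exact h1

theorem theta_pbSec (F : Y.Modules) (W : Y.Opens) (m : Γ(F, W)) :
    pbSec f F W (jX ''ᵁ (f₀ ⁻¹ᵁ (jY ⁻¹ᵁ W))) (image_le f jX jY f₀ w W) m =
      ((theta f jX jY f₀ w).hom.app F).app (f₀ ⁻¹ᵁ (jY ⁻¹ᵁ W))
        (pbSec f₀ ((restrictFunctor jY).obj F) (jY ⁻¹ᵁ W) (f₀ ⁻¹ᵁ (jY ⁻¹ᵁ W)) le_rfl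
          (F.presheaf.map (homOfLE (jY.image_preimage_le W)).op m)) := by
  have h := theta_unit f jX jY f₀ w F
  have h2 := congrArg (fun ψ => (Scheme.Modules.Hom.app ψ W) m) h
  simp only [adjL, adjR, Adjunction.comp_unit_app, kap, Hom.comp_app, Iso.trans_hom, Iso.symm_hom,
    NatTrans.comp_app, pushforward_map_app, restrictAdjunction_unit_app_app,
    pushforwardComp_hom_app_app, pushforwardComp_inv_app_app, pushforwardCongr_hom_app_app,
    Functor.comp_map] at h2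
  refine Eq.trans ?_ (h2.trans ?_)
  · rw [pbSec_apply]
    change _ = (ConcreteCategory.hom (((Scheme.Modules.pullback f).obj F).presheaf.map
      (jX.opensFunctor.map (eqToHom (show (f₀ ≫ jY) ⁻¹ᵁ W = (jX ≫ f) ⁻¹ᵁ W by rw [w]))).op))
      ((ConcreteCategory.hom (((Scheme.Modules.pullback f).obj F).presheaf.map (homOfLE _).op))
        ((ConcreteCategory.hom (Hom.app ((pullbackPushforwardAdjunction f).unit.app F) W)) m))
    symm
    exact Groth.Agent.Helper4.QcohGlue.map_map_thin ((Scheme.Modules.pullback f).obj F) _ _ _ _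
  · change (ConcreteCategory.hom (Hom.app ((theta f jX jY f₀ w).hom.app F) (f₀ ⁻¹ᵁ jY ⁻¹ᵁ W)))
      ((ConcreteCategory.hom (Hom.app ((pullbackPushforwardAdjunction f₀).unit.app
        ((restrictFunctor jY).obj F)) (jY ⁻¹ᵁ W)))
        ((ConcreteCategory.hom (F.presheaf.map (homOfLE _).op)) m)) = _
    congr 1
    rw [pbSec_apply]
    erw [CategoryTheory.Functor.map_id]
    rfl

end StepA
end Groth.Agent.Lead.BCMap
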