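import Groth.Agent.Lead.BCMap3
import Groth.Agent.Lead.BCMap4
import Groth.Agent.Helper4.SecDict

set_option autoImplicit false
open CategoryTheory AlgebraicGeometry Opposite TopologicalSpace TensorProduct
universe u

namespace Groth.Agent.Lead.BCMap
open Scheme.Modules Groth.Agent.Helper4 Groth.Agent.Helper4.StalkDict Groth.Agent.Helper4.SecDict

section StepC
variable {X Y : Scheme.{u}} (f : X ⟶ Y) (F : Y.Modules)
  {U : Y.Opens} (hU : IsAffineOpen U) {V : X.Opens} (hV : IsAffineOpen V) (e : V ≤ f ⁻¹ᵁ U)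

include hU hV in
theorem w_spec : hV.fromSpec ≫ f = Spec.map (f.appLE U V e) ≫ hU.fromSpec :=
  (IsAffineOpen.SpecMap_appLE_fromSpec f hU hV e).symm

/-- the comparison iso `θ` for the affine opens -/
noncomputable abbrev thetaAff := theta f hV.fromSpec hU.fromSpec (Spec.map (f.appLE U V e))
  (w_spec f hU hV e)

theorem pbSec_res_right {U : Y.Opens} {V₁ V₂ : X.Opens} (e₁ : V₁ ≤ f ⁻¹ᵁ U) (hV : V₂ ≤ V₁)
    (m : Γ(F, U)) :
    pbSec f F U V₂ (hV.trans e₁) m =
      ((Scheme.Modules.pullback f).obj F).presheaf.map (homOfLE hV).op (pbSec f F U V₁ e₁ m) := by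
  rw [← pbSec_res f F e₁ (hV.trans e₁) le_rfl hV m]
  congr 1
  erw [CategoryTheory.Functor.map_id]
  rfl

theorem stepC1 (m : Γ(F, U)) :
    (sectionsEquiv hV ((Scheme.Modules.pullback f).obj F)) (pbSec f F U V e m) =
      ((thetaAff f hU hV e).hom.app F).app ⊤
        (pbSec (Spec.map (f.appLE U V e)) ((restrictFunctor hU.fromSpec).obj F) ⊤ ⊤ (top_le _)
          (sectionsEquiv hU F m)) := by
  -- notation
  set φ := f.appLE U V e with hφ
  set jX := hV.fromSpec with hjX
  set jY := hU.fromSpec with hjY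
  set W' : (Spec Γ(X, V)).Opens := (Spec.map φ) ⁻¹ᵁ (jY ⁻¹ᵁ U) with hW'
  have hW'top : (⊤ : (Spec Γ(X, V)).Opens) ≤ W' := by
    rw [hW', hjY, hU.fromSpec_preimage_self]; exact le_rfl
  -- injectivity of restriction to `W'`
  apply map_injective_of_le ((restrictFunctor jX).obj ((Scheme.Modules.pullback f).obj F))
    (le_top : W' ≤ ⊤) hW'top
  -- the left side
  have hL : ((restrictFunctor jX).obj ((Scheme.Modules.pullback f).obj F)).presheaf.map
      (homOfLE (le_top : W' ≤ ⊤)).op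
        ((sectionsEquiv hV ((Scheme.Modules.pullback f).obj F)) (pbSec f F U V e m)) =
      pbSec f F U (jX ''ᵁ W') (image_le f jX jY (Spec.map φ) (w_spec f hU hV e) U) m := by
    have h1 : jX ''ᵁ W' ≤ V := StalkDict.image_le hV W'
    rw [pbSec_res_right f F e h1 m]
    exact QcohGlue.map_map_thin ((Scheme.Modules.pullback f).obj F) _
      (jX.opensFunctor.map (homOfLE (le_top : W' ≤ ⊤))).op _ _
  -- the right side
  have hR : ((restrictFunctor jX).obj ((Scheme.Modules.pullback f).obj F)).presheaf.map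
      (homOfLE (le_top : W' ≤ ⊤)).op
        (((thetaAff f hU hV e).hom.app F).app ⊤
          (pbSec (Spec.map φ) ((restrictFunctor jY).obj F) ⊤ ⊤ (top_le _) (sectionsEquiv hU F m))) =
      ((thetaAff f hU hV e).hom.app F).app W'
        (pbSec (Spec.map φ) ((restrictFunctor jY).obj F) (jY ⁻¹ᵁ U) W' le_rfl
          (F.presheaf.map (homOfLE (jY.image_preimage_le U)).op m)) := by
    refine (StalkExact.app_res ((thetaAff f hU hV e).hom.app F) (homOfLE (le_top : W' ≤ ⊤)) _).symm.trans ?_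
    congr 1
    refine (pbSec_res (Spec.map φ) ((restrictFunctor jY).obj F) (top_le _) le_rfl
      (le_top : jY ⁻¹ᵁ U ≤ ⊤) (le_top : W' ≤ ⊤) _).symm.trans ?_
    congr 1
    exact QcohGlue.map_map_thin F (homOfLE (StalkDict.image_le hU ⊤)).op
      (jY.opensFunctor.map (homOfLE (le_top : jY ⁻¹ᵁ U ≤ ⊤))).op _ _
  exact hL.trans ((theta_pbSec f jX jY (Spec.map φ) (w_spec f hU hV e) F U m).trans hR.symm)

include hU hV in
theorem exists_isBaseChange_pbSec [F.IsQuasicoherent] :
    letI := (f.appLE U V e).hom.toAlgebra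
    letI : Module Γ(Y, U) Γ((Scheme.Modules.pullback f).obj F, V) :=
      Module.compHom _ (f.appLE U V e).hom
    haveI : IsScalarTower Γ(Y, U) Γ(X, V) Γ((Scheme.Modules.pullback f).obj F, V) :=
      IsScalarTower.of_compHom _ _ _
    ∃ ρ : Γ(F, U) →ₗ[Γ(Y, U)] Γ((Scheme.Modules.pullback f).obj F, V),
      (∀ m, ρ m = pbSec f F U V e m) ∧ IsBaseChange Γ(X, V) ρ := by
  letI := (f.appLE U V e).hom.toAlgebra
  letI : Module Γ(Y, U) Γ((Scheme.Modules.pullback f).obj F, V) :=
    Module.compHom _ (f.appLE U V e).hom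
  haveI : IsScalarTower Γ(Y, U) Γ(X, V) Γ((Scheme.Modules.pullback f).obj F, V) :=
    IsScalarTower.of_compHom _ _ _
  letI : Module Γ(Y, U) (moduleSpecΓFunctor.obj ((Scheme.Modules.pullback
      (Spec.map (f.appLE U V e))).obj ((restrictFunctor hU.fromSpec).obj F))) :=
    Module.compHom _ (f.appLE U V e).hom
  haveI : IsScalarTower Γ(Y, U) Γ(X, V) (moduleSpecΓFunctor.obj ((Scheme.Modules.pullback
      (Spec.map (f.appLE U V e))).obj ((restrictFunctor hU.fromSpec).obj F))) :=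
    IsScalarTower.of_compHom _ _ _
  obtain ⟨ρ₀, hρ₀, hb⟩ := exists_isBaseChange_spec (f.appLE U V e)
    ((restrictFunctor hU.fromSpec).obj F)
  let eM : (moduleSpecΓFunctor.obj ((restrictFunctor hU.fromSpec).obj F)) ≃ₗ[Γ(Y, U)] Γ(F, U) :=
    (sectionsEquiv hU F).symm
  let eN : (moduleSpecΓFunctor.obj ((Scheme.Modules.pullback
      (Spec.map (f.appLE U V e))).obj ((restrictFunctor hU.fromSpec).obj F))) ≃ₗ[Γ(X, V)]
      Γ((Scheme.Modules.pullback f).obj F, V) :=
    ((moduleSpecΓFunctor (R := Γ(X, V))).mapIso ((thetaAff f hU hV e).app F)).toLinearEquiv ≪≫ₗ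
      (sectionsEquiv hV ((Scheme.Modules.pullback f).obj F)).symm
  let ρ : Γ(F, U) →ₗ[Γ(Y, U)] Γ((Scheme.Modules.pullback f).obj F, V) :=
    (eN.toLinearMap.restrictScalars Γ(Y, U)) ∘ₗ ρ₀ ∘ₗ eM.symm.toLinearMap
  refine ⟨ρ, fun m => ?_, ?_⟩
  · change (sectionsEquiv hV ((Scheme.Modules.pullback f).obj F)).symm
      (((thetaAff f hU hV e).hom.app F).app ⊤ (ρ₀ (sectionsEquiv hU F m))) = _
    rw [hρ₀, ← stepC1 f F hU hV e m, LinearEquiv.symm_apply_apply]
  · refine (IsBaseChange.iff_of_equiv_comm eM eN ?_).mp hb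
    ext x
    change eN (ρ₀ (eM.symm (eM x))) = eN (ρ₀ x)
    rw [LinearEquiv.symm_apply_apply]

end StepC
end Groth.Agent.Lead.BCMap
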