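import Mathlib
import Groth.Agent.Helper4.StalkDict
import Groth.Agent.Helper1.BasisHom

set_option autoImplicit false
universe u
open CategoryTheory AlgebraicGeometry TopologicalSpace Opposite

namespace Groth.Agent.Lead.AffHomA

open Groth.Agent.Helper1 Groth.Agent.Helper4

variable {X : Scheme.{u}}

/-- naturality of `app` w.r.t. restriction -/
theorem app_res {M N : X.Modules} (φ : M ⟶ N) {U V : X.Opens} (h : V ≤ U) (s : Γ(M, U)) :
    N.presheaf.map (homOfLE h).op (φ.app U s) = φ.app V (M.presheaf.map (homOfLE h).op s) := by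
  have nat := φ.mapPresheaf.naturality (homOfLE h).op
  exact (ConcreteCategory.congr_hom nat s).symm

/-- restriction `Γ(X,⊤) → Γ(X, D(g))` -/
noncomputable abbrev ρ (g : Γ(X, ⊤)) : Γ(X, ⊤) →+* Γ(X, X.basicOpen g) :=
  (X.presheaf.map (homOfLE (le_top : X.basicOpen g ≤ ⊤)).op).hom

/-- restriction of sections to `D(g)` -/
noncomputable abbrev res (N : X.Modules) (g : Γ(X, ⊤)) : Γ(N, ⊤) →+ Γ(N, X.basicOpen g) :=
  (N.presheaf.map (homOfLE (le_top : X.basicOpen g ≤ ⊤)).op).hom

theorem res_smul (N : X.Modules) (g : Γ(X, ⊤)) (r : Γ(X, ⊤)) (m : Γ(N, ⊤)) :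
    res N g (r • m) = ρ g r • res N g m :=
  Scheme.Modules.map_smul N (homOfLE (le_top : X.basicOpen g ≤ ⊤)) r m

theorem isUnit_ρ (g : Γ(X, ⊤)) : IsUnit (ρ g g) :=
  X.toRingedSpace.isUnit_res_basicOpen g

theorem smul_cancel (N : X.Modules) {U : X.Opens} {a : Γ(X, U)} (ha : IsUnit a) {s t : Γ(N, U)}
    (h : a • s = a • t) : s = t := by
  obtain ⟨b, hb⟩ := ha.exists_left_inv
  have := congrArg (fun z => b • z) h
  simpa [smul_smul, hb] using this

variable [IsAffine X]

section Ext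

variable (M F : X.Modules) [M.IsQuasicoherent]

/-- two morphisms out of a quasi-coherent module on an affine scheme which agree on global sections
are equal -/
theorem hom_ext {α β : M ⟶ F} (h : ∀ m : Γ(M, ⊤), α.app ⊤ m = β.app ⊤ m) : α = β := by
  have hB : Opens.IsBasis (Set.range (X.basicOpen : Γ(X, ⊤) → X.Opens)) := isBasis_basicOpen X
  have key : ∀ (g : Γ(X, ⊤)) (t : Γ(M, X.basicOpen g)),
      α.app (X.basicOpen g) t = β.app (X.basicOpen g) t := by
    intro g t
    obtain ⟨n, m, hm⟩ := StalkDict.exists_pow_smul_eq_res (isAffineOpen_top X) M g t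
    apply smul_cancel F ((isUnit_ρ g).pow n)
    rw [← Scheme.Modules.Hom.app_smul, ← Scheme.Modules.Hom.app_smul]
    have e : (ρ g g) ^ n • t = res M g m := by
      rw [← map_pow]; exact hm
    rw [e]
    change α.app _ (M.presheaf.map _ m) = β.app _ (M.presheaf.map _ m)
    rw [← app_res, ← app_res, h]
  apply Scheme.Modules.hom_ext
  intro W
  apply AddCommGrpCat.hom_ext
  apply AddMonoidHom.ext
  intro m
  apply BasisHom.section_ext_of_cover F W
    (fun k : {g : Γ(X, ⊤) // X.basicOpen g ≤ W} => X.basicOpen k.1)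
    (fun k => k.2) (BasisHom.le_iSup_basis _ hB W)
  intro k
  rw [app_res, app_res]
  exact key k.1 _

end Ext


section Exist

variable (M F : X.Modules) [M.IsQuasicoherent]

/-- `Γ(X,⊤)`-module structure on sections over `D(g)` -/
@[reducible] noncomputable def modR (N : X.Modules) (g : Γ(X, ⊤)) :
    Module Γ(X, ⊤) Γ(N, X.basicOpen g) := Module.compHom _ (ρ g)

/-- restriction as a linear map -/
noncomputable def resL (N : X.Modules) (g : Γ(X, ⊤)) :
    letI := modR N g
    Γ(N, ⊤) →ₗ[Γ(X, ⊤)] Γ(N, X.basicOpen g) :=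
  letI := modR N g
  { toFun := res N g
    map_add' := map_add _
    map_smul' := fun r m => res_smul N g r m }

theorem isUnit_end (N : X.Modules) (g : Γ(X, ⊤)) (x : Submonoid.powers g) :
    letI := modR N g
    IsUnit (algebraMap Γ(X, ⊤) (Module.End Γ(X, ⊤) Γ(N, X.basicOpen g)) x) := by
  letI := modR N g
  obtain ⟨_, n, rfl⟩ := x
  rw [Module.End.isUnit_iff]
  have hu : IsUnit (ρ g (g ^ n)) := by rw [map_pow]; exact (isUnit_ρ g).pow n
  obtain ⟨b, hb⟩ := hu.exists_left_inv
  have hb' : ρ g (g ^ n) * b = 1 := by rw [mul_comm]; exact hb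
  constructor
  · intro s t hst
    exact smul_cancel N hu hst
  · intro t
    refine ⟨b • t, ?_⟩
    change ρ g (g ^ n) • b • t = t
    rw [smul_smul, hb', one_smul]

theorem isLocalizedModule_res (g : Γ(X, ⊤)) :
    letI := modR M g
    IsLocalizedModule (Submonoid.powers g) (resL M g) := by
  letI := modR M g
  refine ⟨isUnit_end M g, ?_, ?_⟩
  · intro t
    obtain ⟨n, m, hm⟩ := StalkDict.exists_pow_smul_eq_res (isAffineOpen_top X) M g t
    exact ⟨(m, ⟨g ^ n, n, rfl⟩), hm⟩
  · intro x₁ x₂ h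
    have h0 : M.presheaf.map (homOfLE (X.basicOpen_le g)).op (x₁ - x₂) = 0 := by
      rw [map_sub, sub_eq_zero]
      exact h
    obtain ⟨n, hn⟩ := StalkDict.exists_pow_smul_eq_zero (isAffineOpen_top X) M g (x₁ - x₂) h0
    refine ⟨⟨g ^ n, n, rfl⟩, ?_⟩
    rw [smul_sub, sub_eq_zero] at hn
    exact hn

/-- extension of a linear map on global sections to basic opens -/
theorem exists_ext (l : Γ(M, ⊤) →+ Γ(F, ⊤)) (hl : ∀ (r : Γ(X, ⊤)) (m : Γ(M, ⊤)), l (r • m) = r • l m)
    (g : Γ(X, ⊤)) :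
    ∃ a : Γ(M, X.basicOpen g) →+ Γ(F, X.basicOpen g),
      (∀ m, a (res M g m) = res F g (l m)) ∧
      ∀ (r : Γ(X, ⊤)) (t : Γ(M, X.basicOpen g)), a (ρ g r • t) = ρ g r • a t := by
  letI := modR M g
  letI := modR F g
  haveI := isLocalizedModule_res M g
  let l' : Γ(M, ⊤) →ₗ[Γ(X, ⊤)] Γ(F, ⊤) :=
    { toFun := l, map_add' := map_add l, map_smul' := hl }
  let a := IsLocalizedModule.lift (Submonoid.powers g) (resL M g) ((resL F g).comp l')
    (isUnit_end F g)
  refine ⟨a.toAddMonoidHom, fun m => ?_, fun r t => ?_⟩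
  · exact IsLocalizedModule.lift_apply (Submonoid.powers g) (resL M g) ((resL F g).comp l')
      (isUnit_end F g) m
  · exact a.map_smul r t


theorem ρ_map {g h : Γ(X, ⊤)} (hle : X.basicOpen h ≤ X.basicOpen g) (r : Γ(X, ⊤)) :
    X.presheaf.map (homOfLE hle).op (ρ g r) = ρ h r := by
  change (X.presheaf.map _ ≫ X.presheaf.map _).hom r = _
  rw [← Functor.map_comp]
  rfl

theorem res_map (N : X.Modules) {g h : Γ(X, ⊤)} (hle : X.basicOpen h ≤ X.basicOpen g)
    (m : Γ(N, ⊤)) :
    N.presheaf.map (homOfLE hle).op (res N g m) = res N h m := by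
  change (N.presheaf.map _ ≫ N.presheaf.map _).hom m = _
  rw [← Functor.map_comp]
  rfl

/-- every linear map on global sections out of a quasi-coherent module on an affine scheme is
induced by a morphism of modules -/
theorem exists_hom (l : Γ(M, ⊤) →+ Γ(F, ⊤))
    (hl : ∀ (r : Γ(X, ⊤)) (m : Γ(M, ⊤)), l (r • m) = r • l m) :
    ∃ α : M ⟶ F, ∀ m : Γ(M, ⊤), α.app ⊤ m = l m := by
  have hB : Opens.IsBasis (Set.range (X.basicOpen : Γ(X, ⊤) → X.Opens)) := isBasis_basicOpen X
  choose a ha1 ha2 using exists_ext M F l hl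
  have hnat : ∀ (g h : Γ(X, ⊤)) (hle : X.basicOpen h ≤ X.basicOpen g) (s : Γ(M, X.basicOpen g)),
      F.presheaf.map (homOfLE hle).op (a g s) = a h (M.presheaf.map (homOfLE hle).op s) := by
    intro g h hle s
    obtain ⟨n, m, hm⟩ := StalkDict.exists_pow_smul_eq_res (isAffineOpen_top X) M g s
    have hm' : ρ g (g ^ n) • s = res M g m := hm
    have hu : IsUnit (ρ h (g ^ n)) := by
      rw [← ρ_map hle, map_pow, map_pow]
      exact ((isUnit_ρ g).map _).pow n
    apply smul_cancel F hu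
    have e1 : ρ h (g ^ n) • F.presheaf.map (homOfLE hle).op (a g s) = res F h (l m) := by
      rw [← ρ_map hle, ← Scheme.Modules.map_smul, ← ha2, hm', ha1, res_map]
    have e2 : ρ h (g ^ n) • a h (M.presheaf.map (homOfLE hle).op s) = res F h (l m) := by
      rw [← ha2, ← ρ_map hle, ← Scheme.Modules.map_smul, hm', res_map, ha1]
    rw [e1, e2]
  have hlin : ∀ (g : Γ(X, ⊤)) (r : Γ(X, X.basicOpen g)) (s : Γ(M, X.basicOpen g)),
      a g (r • s) = r • a g s := by
    intro g r s
    haveI := (isAffineOpen_top X).isLocalization_basicOpen g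
    obtain ⟨⟨b, ⟨_, k, rfl⟩⟩, hb⟩ := IsLocalization.surj (Submonoid.powers g) r
    have hb' : r * ρ g (g ^ k) = ρ g b := hb
    have hu : IsUnit (ρ g (g ^ k)) := by
      rw [map_pow]; exact (isUnit_ρ g).pow k
    apply smul_cancel F hu
    rw [← ha2, smul_smul, smul_smul, mul_comm, hb', ha2]
  refine ⟨BasisHom.homOfBasis (fun g : Γ(X, ⊤) => X.basicOpen g) hB M F a hnat hlin, fun m => ?_⟩
  have h1 : X.basicOpen (1 : Γ(X, ⊤)) ≤ ⊤ := le_top
  have h2 : (⊤ : X.Opens) ≤ X.basicOpen (1 : Γ(X, ⊤)) := by rw [Scheme.basicOpen_one]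
  apply StalkDict.map_injective_of_le F h1 h2
  rw [app_res]
  have := BasisHom.homOfBasis_app (fun g : Γ(X, ⊤) => X.basicOpen g) hB M F a hnat hlin 1
    (res M 1 m)
  refine this.trans ?_
  exact ha1 1 m

end Exist

end Groth.Agent.Lead.AffHomA
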