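import Mathlib
import Groth.Prelude.Def_Coh
import Groth.Prelude.Def_FlatMod2
import Groth.Agent.Helper4.StalkExact
import Groth.Agent.Helper4.EpiStalk
import Groth.Agent.Helper4.FinLocFree2
import Groth.Agent.Helper4.CohFP
import Groth.Agent.Helper1.RegGlobalDim
import Groth.Agent.Helper1.Dev1
import Groth.Agent.Lead.PerfLib5
import Groth.Agent.Lead.RegDimOne

set_option autoImplicit false
set_option linter.style.haveILetI false
set_option linter.unusedSectionVars false
set_option linter.unusedVariables false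

/-!
# Syzygies over regular schemes
-/

namespace Groth.Agent.Lead.SyzReg

open CategoryTheory Limits AlgebraicGeometry Opposite
open Groth.Agent.Helper4 Groth.Agent.Helper4.StalkDict Groth.Agent.Helper4.StalkExact

universe u

variable {X : Scheme.{u}}

/-- stalkwise bound on the projective dimension -/
def PdLT (K : X.Modules) (n : ℕ) : Prop :=
  ∀ x : X, HasProjectiveDimensionLT
    (ModuleCat.of (X.presheaf.stalk x) (K.presheaf.stalk x)) n

/-- the stalk of a short exact sequence -/
noncomputable def stalkSC (T : ShortComplex X.Modules) (hT : T.ShortExact) (x : X) :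
    ShortComplex (ModuleCat.{u} (X.presheaf.stalk x)) :=
  haveI : Mono T.f := hT.mono_f
  ShortComplex.mk (ModuleCat.ofHom (stalkLin T.f x)) (ModuleCat.ofHom (stalkLin T.g x)) (by
    ext m
    exact (stalkLin_exact T hT.exact x).apply_apply_eq_zero m)

theorem stalkSC_shortExact (T : ShortComplex X.Modules) (hT : T.ShortExact) (x : X) :
    (stalkSC T hT x).ShortExact := by
  haveI : Mono T.f := hT.mono_f
  haveI : Epi T.g := hT.epi_g
  refine ShortComplex.ShortExact.mk' ?_ ?_ ?_
  · rw [ShortComplex.ShortExact.moduleCat_exact_iff_function_exact]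
    exact stalkLin_exact T hT.exact x
  · rw [ModuleCat.mono_iff_injective]
    exact stalkLin_injective T.f x
  · rw [ModuleCat.epi_iff_surjective]
    exact Groth.Agent.Helper4.EpiStalk.stalkLin_surjective_of_epi T.g x

theorem pdLT_X₁ (T : ShortComplex X.Modules) (hT : T.ShortExact) [T.X₂.IsQuasicoherent]
    (hE : FlatMod.IsFinLocFree T.X₂) (n : ℕ) (hn : 1 ≤ n) (h3 : PdLT T.X₃ (n + 1)) :
    PdLT T.X₁ n := by
  intro x
  have hS := stalkSC_shortExact T hT x
  haveI : Module.Free (X.presheaf.stalk x) (T.X₂.presheaf.stalk x) :=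
    FinLocFree2.free_stalk_of_isFinLocFree T.X₂ hE x
  have hproj : Projective (stalkSC T hT x).X₂ := by
    change Projective (ModuleCat.of (X.presheaf.stalk x) (T.X₂.presheaf.stalk x))
    exact (IsProjective.iff_projective _).mp inferInstance
  have h2 : HasProjectiveDimensionLT (stalkSC T hT x).X₂ n :=
    hasProjectiveDimensionLT_of_ge _ 1 n hn
  exact hS.hasProjectiveDimensionLT_X₁ n h2 (h3 x)


section abstract

variable {C : Type*} [Category C] [Abelian C]

/-- from an exact `A ⟶ B ⟶ C`, the short complex `ker f ⟶ A ⟶ ker g` -/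
noncomputable def kerSC (sc : ShortComplex C) : ShortComplex C :=
  ShortComplex.mk (kernel.ι sc.f) (kernel.lift sc.g sc.f sc.zero) (by
    rw [← cancel_mono (kernel.ι sc.g)]
    simp)

theorem kerSC_shortExact (sc : ShortComplex C) (h : sc.Exact) : (kerSC sc).ShortExact := by
  haveI : Mono (kerSC sc).f := by dsimp [kerSC]; infer_instance
  haveI : Epi (kerSC sc).g := by
    dsimp [kerSC]
    exact sc.exact_iff_epi_kernel_lift.1 h
  refine ShortComplex.ShortExact.mk' ?_ inferInstance inferInstance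
  refine ShortComplex.exact_of_f_is_kernel _ ?_
  refine KernelFork.IsLimit.ofι' (kernel.ι sc.f) _ (fun {W} k hk => ?_)
  refine ⟨kernel.lift sc.f k ?_, kernel.lift_ι _ _ _⟩
  have hk' : k ≫ kernel.lift sc.g sc.f sc.zero = 0 := hk
  have := hk' =≫ kernel.ι sc.g
  rw [Category.assoc, kernel.lift_ι, zero_comp] at this
  exact this

end abstract

theorem pdLT_of_iso {K L : X.Modules} (e : K ≅ L) (n : ℕ) (h : PdLT K n) : PdLT L n := by
  intro x
  haveI := h x
  have hb : Function.Bijective (stalkLin e.hom x) :=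
    Groth.Agent.Helper1.Dev.stalkLin_bijective_of_isIso e.hom x
  let e' : ModuleCat.of (X.presheaf.stalk x) (K.presheaf.stalk x) ≅
      ModuleCat.of (X.presheaf.stalk x) (L.presheaf.stalk x) :=
    (LinearEquiv.ofBijective (stalkLin e.hom x) hb).toModuleIso
  exact hasProjectiveDimensionLT_of_iso e' n


theorem hasProjectiveDimensionLT_of_dim_le (R : Type u) [CommRing R] [IsRegularLocalRing R]
    (m : ℕ) (h : ringKrullDim R ≤ (m : WithBot ℕ∞)) (N : ModuleCat.{u} R) :
    HasProjectiveDimensionLT N (m + 1) := by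
  have hne : ringKrullDim R ≠ ⊥ := ringKrullDim_ne_bot
  have hnt : ringKrullDim R ≠ ⊤ := by
    intro ht
    rw [ht] at h
    have h2 : ((m : ℕ∞) : WithBot ℕ∞) = ⊤ := top_le_iff.mp h
    have h3 : (m : ℕ∞) = ⊤ := WithBot.coe_injective h2
    exact ENat.natCast_ne_top m h3
  obtain ⟨d, hd⟩ : ∃ d : ℕ, ringKrullDim R = d := by
    obtain ⟨e, he⟩ := WithBot.ne_bot_iff_exists.mp hne
    have het : e ≠ ⊤ := by
      rintro rfl
      exact hnt he.symm
    exact ⟨e.toNat, by rw [← he, ← ENat.natCast_toNat het]; rfl⟩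
  have hd2 : d ≤ m := by
    rw [hd] at h
    exact_mod_cast h
  have := Groth.Agent.Helper1.TorLib.hasProjectiveDimensionLT_of_isRegularLocalRing d hd N
  exact hasProjectiveDimensionLT_of_ge N (d + 1) (m + 1) (by omega)

theorem pdLT_of_regular (X : Scheme.{u})
    (hreg : ∀ x : X, IsRegularLocalRing (X.presheaf.stalk x)) (m : ℕ)
    (hdim : topologicalKrullDim ↥X ≤ (m : WithBot ℕ∞)) (F : X.Modules) : PdLT F (m + 1) := by
  intro x
  haveI := hreg x
  exact hasProjectiveDimensionLT_of_dim_le _ m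
    ((Groth.Agent.Lead.RegDimOne.ringKrullDim_stalk_le_dim X x).trans hdim) _

theorem isFinLocFree_of_pdLT_one [IsLocallyNoetherian X] (K : X.Modules) (hc : Coh.IsCoh K)
    (hp : PdLT K 1) : FlatMod.IsFinLocFree K := by
  haveI : K.IsQuasicoherent := hc.1
  refine FinLocFree2.isFinLocFree_of_fp_of_free_stalks K (CohFP.isFP_of_isCoh _ hc.1 hc.2) ?_
  intro x
  haveI := hp x
  have hproj : Projective (ModuleCat.of (X.presheaf.stalk x) (K.presheaf.stalk x)) :=
    projective_iff_hasProjectiveDimensionLT_one.mpr inferInstance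
  haveI : Module.Projective (X.presheaf.stalk x) (K.presheaf.stalk x) :=
    (IsProjective.iff_projective _).mpr hproj
  haveI : Module.Finite (X.presheaf.stalk x) (K.presheaf.stalk x) :=
    FinLocFree2.finite_stalk K hc.2 x
  exact Module.free_of_flat_of_isLocalRing

theorem kernels (X : Scheme.{u}) [IsNoetherian X] (m : ℕ)
    (S : ComposableArrows X.Modules (m + 1)) (hS : S.Exact)
    (hepi : Epi (S.map' m (m + 1) (Nat.le_succ m) (le_refl (m + 1))))
    (hE : ∀ (j : ℕ) (h1 : 1 ≤ j) (hj : j ≤ m), FlatMod.IsFinLocFree (S.obj ⟨j, by omega⟩))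
    (hF : Coh.IsCoh (S.obj ⟨m + 1, by omega⟩)) (hpd : PdLT (S.obj ⟨m + 1, by omega⟩) (m + 1)) :
    ∀ (k j : ℕ) (hj : j + k = m) (h1 : 1 ≤ j),
      Coh.IsCoh (kernel (S.map' j (j + 1) (Nat.le_succ j) (by omega))) ∧
      PdLT (kernel (S.map' j (j + 1) (Nat.le_succ j) (by omega))) j := by
  intro k
  induction k with
  | zero =>
    intro j hj h1
    obtain rfl : j = m := by omega
    let T : ShortComplex X.Modules :=
      ShortComplex.mk (kernel.ι (S.map' j (j + 1) (Nat.le_succ j) (le_refl _)))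
        (S.map' j (j + 1) (Nat.le_succ j) (le_refl _)) (kernel.condition _)
    have hT : T.ShortExact := by
      haveI : Epi T.g := hepi
      haveI : Mono T.f := by dsimp [T]; infer_instance
      exact ShortComplex.ShortExact.mk'
        (ShortComplex.exact_of_f_is_kernel _ (kernelIsKernel _)) inferInstance inferInstance
    have hcE := PerfLib.isCoh_of_isFinLocFree (hE j h1 le_rfl)
    haveI : T.X₂.IsQuasicoherent := hcE.1
    exact ⟨PerfLib.isCoh_kernel hcE hF _, pdLT_X₁ T hT (hE j h1 le_rfl) j h1 hpd⟩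
  | succ k ih =>
    intro j hj h1
    obtain ⟨hc, hp⟩ := ih (j + 1) (by omega) (by omega)
    have hex := hS.exact j (by omega)
    have hT := kerSC_shortExact _ hex
    have hcE := PerfLib.isCoh_of_isFinLocFree (hE j h1 (by omega))
    have hcE' := PerfLib.isCoh_of_isFinLocFree (hE (j + 1) (by omega) (by omega))
    haveI : (kerSC (S.sc hS.toIsComplex j (by omega))).X₂.IsQuasicoherent := hcE.1
    refine ⟨PerfLib.isCoh_kernel hcE hcE' _, ?_⟩
    exact pdLT_X₁ _ hT (hE j h1 (by omega)) j h1 hp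


theorem main (X : Scheme.{u}) [IsNoetherian X]
    (hreg : ∀ x : X, IsRegularLocalRing (X.presheaf.stalk x)) (m : ℕ)
    (hdim : topologicalKrullDim ↥X ≤ (m : WithBot ℕ∞))
    (S : ComposableArrows X.Modules (m + 1)) (hS : S.Exact)
    (hmono : Mono (S.map' 0 1 (Nat.zero_le 1) (Nat.le_add_left 1 m)))
    (hepi : Epi (S.map' m (m + 1) (Nat.le_succ m) (le_refl (m + 1))))
    (hE : ∀ i : Fin m, FlatMod.IsFinLocFree
      (S.obj ⟨i.1 + 1, Nat.succ_lt_succ (Nat.lt_succ_of_lt i.2)⟩))
    (hF : Coh.IsCoh (S.obj (Fin.last (m + 1)))) :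
    FlatMod.IsFinLocFree (S.obj 0) := by
  have hE' : ∀ (j : ℕ) (h1 : 1 ≤ j) (hj : j ≤ m),
      FlatMod.IsFinLocFree (S.obj ⟨j, by omega⟩) := by
    intro j h1 hj
    obtain ⟨i, rfl⟩ : ∃ i, j = i + 1 := ⟨j - 1, by omega⟩
    exact hE ⟨i, by omega⟩
  have hF' : Coh.IsCoh (S.obj ⟨m + 1, by omega⟩) := hF
  have hpd := pdLT_of_regular X hreg m hdim (S.obj ⟨m + 1, by omega⟩)
  rcases Nat.eq_zero_or_pos m with hm | hm
  · subst hm
    haveI := hmono
    haveI := hepi
    haveI : IsIso (S.map' 0 1 (Nat.zero_le 1) (Nat.le_add_left 1 0)) := isIso_of_mono_of_epi _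
    let e := asIso (S.map' 0 1 (Nat.zero_le 1) (Nat.le_add_left 1 0))
    exact isFinLocFree_of_pdLT_one _ (PerfLib.isCoh_of_iso e.symm hF') (pdLT_of_iso e.symm 1 hpd)
  · obtain ⟨hc, hp⟩ := kernels X m S hS hepi hE' hF' hpd (m - 1) 1 (by omega) le_rfl
    have hex := hS.exact 0 (by omega)
    let φ : S.obj 0 ⟶ kernel (S.map' 1 (1 + 1) (Nat.le_succ 1) (by omega)) :=
      kernel.lift _ (S.map' 0 1 (Nat.zero_le 1) (Nat.le_add_left 1 m)) (hS.zero 0 (by omega))
    haveI : Mono (φ ≫ kernel.ι _) := by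
      rw [kernel.lift_ι]
      exact hmono
    haveI : Mono φ := mono_of_mono φ (kernel.ι _)
    haveI : Epi φ := (S.sc hS.toIsComplex 0 (by omega)).exact_iff_epi_kernel_lift.1 hex
    haveI : IsIso φ := isIso_of_mono_of_epi φ
    exact FinLocFree2.isFinLocFree_of_iso (asIso φ).symm (isFinLocFree_of_pdLT_one _ hc hp)

end Groth.Agent.Lead.SyzReg
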