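import Mathlib
import Groth.Prelude.Def_Coh
import Groth.Prelude.Def_FlatMod2
import Groth.Prelude.Def_KRR
import Groth.Prelude.Def_SGA6
import Groth.Agent.Lead.SyzReg
import Groth.Agent.Helper2.CohQ1
import Groth.Agent.Helper4.QcohExt
import Groth.Agent.S3200

set_option autoImplicit false
set_option linter.style.haveILetI false
set_option linter.unusedSectionVars false
set_option linter.unusedVariables false

/-!
# The Poincaré map `K(vb) → K(coh)` is bijective on regular Noetherian schemes with enough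
locally free modules
-/

namespace Groth.Agent.Lead.KPoinc

open CategoryTheory Limits AlgebraicGeometry Opposite
open Groth.Agent.Helper4 Groth.Agent.Helper4.StalkDict Groth.Agent.Helper4.StalkExact
open Groth.Agent.Lead.SyzReg

universe u

variable {X : Scheme.{u}}

/-- pointwise bound on the projective dimension of a stalk -/
def PdLTAt (K : X.Modules) (x : X) (n : ℕ) : Prop :=
  HasProjectiveDimensionLT (ModuleCat.of (X.presheaf.stalk x) (K.presheaf.stalk x)) n

theorem pdLT_iff (K : X.Modules) (n : ℕ) : PdLT K n ↔ ∀ x, PdLTAt K x n := Iff.rfl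

theorem pdLTAt_mono {K : X.Modules} {x : X} {n m : ℕ} (h : n ≤ m) (hK : PdLTAt K x n) :
    PdLTAt K x m := by
  haveI : HasProjectiveDimensionLT (ModuleCat.of (X.presheaf.stalk x) (K.presheaf.stalk x)) n := hK
  exact hasProjectiveDimensionLT_of_ge _ n m h

theorem pdLT_mono {K : X.Modules} {n m : ℕ} (h : n ≤ m) (hK : PdLT K n) : PdLT K m :=
  fun x => pdLTAt_mono h (hK x)

theorem pdLTAt_one_of_free (K : X.Modules) (x : X)
    (h : Module.Free (X.presheaf.stalk x) (K.presheaf.stalk x)) : PdLTAt K x 1 := by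
  have hproj : Projective (ModuleCat.of (X.presheaf.stalk x) (K.presheaf.stalk x)) :=
    (IsProjective.iff_projective _).mp inferInstance
  exact projective_iff_hasProjectiveDimensionLT_one.mp hproj

theorem pdLT_one_of_isFinLocFree (E : X.Modules) (hE : FlatMod.IsFinLocFree E) : PdLT E 1 := by
  haveI : E.IsQuasicoherent := (PerfLib.isCoh_of_isFinLocFree hE).1
  intro x
  exact pdLTAt_one_of_free E x (FinLocFree2.free_stalk_of_isFinLocFree E hE x)

theorem free_of_pdLTAt_one [IsLocallyNoetherian X] (K : X.Modules) (hc : Coh.IsCoh K) (x : X)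
    (hp : PdLTAt K x 1) : Module.Free (X.presheaf.stalk x) (K.presheaf.stalk x) := by
  haveI : K.IsQuasicoherent := hc.1
  haveI : HasProjectiveDimensionLT
    (ModuleCat.of (X.presheaf.stalk x) (K.presheaf.stalk x)) 1 := hp
  have hproj : Projective (ModuleCat.of (X.presheaf.stalk x) (K.presheaf.stalk x)) :=
    projective_iff_hasProjectiveDimensionLT_one.mpr inferInstance
  haveI : Module.Projective (X.presheaf.stalk x) (K.presheaf.stalk x) :=
    (IsProjective.iff_projective _).mpr hproj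
  haveI : Module.Finite (X.presheaf.stalk x) (K.presheaf.stalk x) :=
    FinLocFree2.finite_stalk K hc.2 x
  exact Module.free_of_flat_of_isLocalRing

/-- pointwise dimension shifting -/
theorem pdLTAt_X₁ (T : ShortComplex X.Modules) (hT : T.ShortExact)
    (hE : FlatMod.IsFinLocFree T.X₂) (x : X) (n : ℕ) (hn : 1 ≤ n) (h3 : PdLTAt T.X₃ x (n + 1)) :
    PdLTAt T.X₁ x n := by
  haveI : T.X₂.IsQuasicoherent := (PerfLib.isCoh_of_isFinLocFree hE).1
  have hS := stalkSC_shortExact T hT x
  have h2 : HasProjectiveDimensionLT (stalkSC T hT x).X₂ n :=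
    pdLTAt_mono hn (pdLT_one_of_isFinLocFree T.X₂ hE x)
  exact hS.hasProjectiveDimensionLT_X₁ n h2 h3

theorem pdLT_X₃ (T : ShortComplex X.Modules) (hT : T.ShortExact)
    (hE : FlatMod.IsFinLocFree T.X₂) (n : ℕ) (hn : 1 ≤ n) (h1 : PdLT T.X₁ n) :
    PdLT T.X₃ (n + 1) := by
  intro x
  have hS := stalkSC_shortExact T hT x
  have h2 : HasProjectiveDimensionLT (stalkSC T hT x).X₂ (n + 1) :=
    pdLTAt_mono (by omega) (pdLT_one_of_isFinLocFree T.X₂ hE x)
  exact hS.hasProjectiveDimensionLT_X₃ n (h1 x) h2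

theorem pdLT_X₂ (T : ShortComplex X.Modules) (hT : T.ShortExact) (n : ℕ)
    (h1 : PdLT T.X₁ n) (h3 : PdLT T.X₃ n) : PdLT T.X₂ n := by
  intro x
  have hS := stalkSC_shortExact T hT x
  exact hS.hasProjectiveDimensionLT_X₂ n (h1 x) (h3 x)

/-- the locus where a coherent module has free stalks is open -/
theorem isOpen_free_locus [IsLocallyNoetherian X] (K : X.Modules) (hK : Coh.IsCoh K) :
    IsOpen {x : X | Module.Free (X.presheaf.stalk x) (K.presheaf.stalk x)} := by
  haveI : K.IsQuasicoherent := hK.1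
  have hfp := CohFP.isFP_of_isCoh K hK.1 hK.2
  rw [isOpen_iff_forall_mem_open]
  intro x hx
  obtain ⟨U, hU, hxU⟩ := QcohLimits.exists_affine_nhd x
  obtain ⟨V, n, hxV, hV⟩ := Groth.Agent.Helper4.FinLocFree.exists_isFreeAlong_of_fp_of_free_stalk
    K hU x hxU (FPGlue.fp_sections K hfp hU) hx
  refine ⟨V, ?_, V.isOpen, hxV⟩
  intro y hy
  obtain ⟨b⟩ := FinLocFree2.nonempty_basis_stalk_of_isFreeAlong K hV y hy
  exact Module.Free.of_basis b


/-! ### the syzygy sequence -/

/-- a coherent module -/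
structure CohObj (X : Scheme.{u}) where
  /-- the underlying module -/
  K : X.Modules
  /-- coherence -/
  h : Coh.IsCoh K

/-- a finite locally free cover of a coherent module -/
structure Cover (A : CohObj X) where
  /-- the covering module -/
  E : X.Modules
  /-- the covering map -/
  p : E ⟶ A.K
  /-- it is finite locally free -/
  flf : FlatMod.IsFinLocFree E
  /-- the covering map is an epimorphism -/
  epi : Epi p

/-- the cover chosen from `HasEnoughLocFree` -/
noncomputable def coverOf (hX : KRR.HasEnoughLocFree X) (A : CohObj X) : Cover A where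
  E := (hX A.K A.h).choose
  p := (hX A.K A.h).choose_spec.choose
  flf := (hX A.K A.h).choose_spec.choose_spec.1
  epi := (hX A.K A.h).choose_spec.choose_spec.2

section Syz

variable [IsLocallyNoetherian X] (c : ∀ A : CohObj X, Cover A)

instance cover_epi (A : CohObj X) : Epi (c A).p := (c A).epi

/-- the first syzygy -/
noncomputable def nextSyz (A : CohObj X) : CohObj X :=
  ⟨kernel (c A).p, PerfLib.isCoh_kernel (PerfLib.isCoh_of_isFinLocFree (c A).flf) A.h _⟩

/-- the short exact sequence `0 → syz → cov → A → 0` -/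
noncomputable def syzSC (A : CohObj X) : ShortComplex X.Modules :=
  ShortComplex.mk (kernel.ι (c A).p) (c A).p (kernel.condition _)

theorem syzSC_shortExact (A : CohObj X) : (syzSC c A).ShortExact := by
  haveI : Epi (syzSC c A).g := (c A).epi
  haveI : Mono (syzSC c A).f := by dsimp [syzSC]; infer_instance
  exact ShortComplex.ShortExact.mk'
    (ShortComplex.exact_of_f_is_kernel _ (kernelIsKernel _)) inferInstance inferInstance

/-- the inclusion of the syzygy -/
noncomputable def syzι (B : CohObj X) : (nextSyz c B).K ⟶ (c B).E := kernel.ι (c B).p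

instance syzι_mono (B : CohObj X) : Mono (syzι c B) :=
  (inferInstance : Mono (kernel.ι (c B).p))

theorem syzι_p (B : CohObj X) : syzι c B ≫ (c B).p = 0 := kernel.condition _

theorem exact_syz (B : CohObj X) :
    (ShortComplex.mk (syzι c B) (c B).p (syzι_p c B)).Exact :=
  ShortComplex.exact_of_f_is_kernel _ (kernelIsKernel _)

theorem isZero_nextSyz_of_isIso (B : CohObj X) (h : IsIso (c B).p) : IsZero (nextSyz c B).K :=
  isZero_kernel_of_mono (c B).p

theorem nextSyz_pdLTAt (A : CohObj X) (x : X) (m : ℕ) (hm : 1 ≤ m) (h : PdLTAt A.K x (m + 1)) :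
    PdLTAt (nextSyz c A).K x m :=
  pdLTAt_X₁ (syzSC c A) (syzSC_shortExact c A) (c A).flf x m hm h

theorem pdLT_of_nextSyz (A : CohObj X) (m : ℕ) (hm : 1 ≤ m) (h : PdLT (nextSyz c A).K m) :
    PdLT A.K (m + 1) :=
  pdLT_X₃ (syzSC c A) (syzSC_shortExact c A) (c A).flf m hm h

/-- the iterated syzygies -/
noncomputable def syz (A : CohObj X) : ℕ → CohObj X
  | 0 => A
  | n + 1 => nextSyz c (syz A n)

theorem syz_pdLTAt (x : X) (A : CohObj X) (N : ℕ) (h : PdLTAt A.K x (N + 1)) :
    ∀ j : ℕ, j ≤ N → PdLTAt (syz c A j).K x (N - j + 1) := by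
  intro j
  induction j with
  | zero => intro _; exact h
  | succ j ih =>
    intro hj
    have h1 := ih (by omega)
    obtain ⟨m, hm⟩ : ∃ m, N - j = m + 1 := ⟨N - j - 1, by omega⟩
    rw [hm] at h1
    have h2 := nextSyz_pdLTAt c (syz c A j) x (m + 1) (by omega) h1
    have hm' : N - (j + 1) + 1 = m + 1 := by omega
    rw [hm']
    exact h2

theorem syz_pdLTAt_one (x : X) (N : ℕ) (A : CohObj X) (h : PdLTAt A.K x (N + 1)) :
    PdLTAt (syz c A N).K x 1 := by
  have := syz_pdLTAt c x A N h N le_rfl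
  rwa [Nat.sub_self] at this

theorem pdLT_of_syz_aux (A : CohObj X) (N : ℕ) (h : PdLT (syz c A N).K 1) :
    ∀ j : ℕ, j ≤ N → PdLT (syz c A (N - j)).K (j + 1) := by
  intro j
  induction j with
  | zero => intro _; exact h
  | succ j ih =>
    intro hj
    have h1 := ih (by omega)
    obtain ⟨k, hk⟩ : ∃ k, N - j = k + 1 := ⟨N - j - 1, by omega⟩
    have hk' : N - (j + 1) = k := by omega
    rw [hk] at h1
    rw [hk']
    exact pdLT_of_nextSyz c (syz c A k) (j + 1) (by omega) h1

theorem pdLT_of_syz (N : ℕ) (A : CohObj X) (h : PdLT (syz c A N).K 1) : PdLT A.K (N + 1) := by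
  have := pdLT_of_syz_aux c A N h N le_rfl
  rwa [Nat.sub_self] at this

end Syz

/-- the uniform bound on projective dimensions -/
theorem exists_pdLT [IsNoetherian X] (hreg : ∀ x : X, IsRegularLocalRing (X.presheaf.stalk x))
    (hX : KRR.HasEnoughLocFree X) (A : X.Modules) (hA : Coh.IsCoh A) :
    ∃ N : ℕ, PdLT A (N + 1) := by
  let A₀ : CohObj X := ⟨A, hA⟩
  let c := coverOf hX
  let U : ℕ → Set X := fun n =>
    {x : X | Module.Free (X.presheaf.stalk x) ((syz c A₀ n).K.presheaf.stalk x)}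
  have hUo : ∀ n, IsOpen (U n) := fun n => isOpen_free_locus _ (syz c A₀ n).h
  have hmono : ∀ n, U n ⊆ U (n + 1) := by
    intro n x hx
    have h1 : PdLTAt (syz c A₀ n).K x 2 :=
      pdLTAt_mono (by omega) (pdLTAt_one_of_free _ x hx)
    have h2 := nextSyz_pdLTAt c (syz c A₀ n) x 1 le_rfl h1
    exact free_of_pdLTAt_one _ (nextSyz c (syz c A₀ n)).h x h2
  have hmono' : Monotone U := monotone_nat_of_le_succ hmono
  have hcov : (Set.univ : Set X) ⊆ ⋃ n, U n := by
    intro x _
    haveI := hreg x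
    have hd : ∃ d : ℕ, ringKrullDim (X.presheaf.stalk x) = d :=
      ⟨_, ((IsRegularLocalRing.iff_finrank_cotangentSpace _).mp inferInstance).symm⟩
    obtain ⟨d, hd⟩ := hd
    have h0 : PdLTAt A₀.K x (d + 1) :=
      hasProjectiveDimensionLT_of_dim_le _ d (le_of_eq hd) _
    have h1 := syz_pdLTAt_one c x d A₀ h0
    exact Set.mem_iUnion.mpr ⟨d, free_of_pdLTAt_one _ (syz c A₀ d).h x h1⟩
  obtain ⟨N, hN⟩ := isCompact_univ.elim_directed_cover U hUo hcov
    (directed_of_isDirected_le hmono')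
  refine ⟨N, pdLT_of_syz c N A₀ ?_⟩
  intro x
  exact pdLTAt_one_of_free _ x (hN (Set.mem_univ x))

/-! ### closure properties -/

section Closure

variable [IsLocallyNoetherian X]

theorem isCoh_ext (S : ShortComplex X.Modules) (hS : S.ShortExact) (h1 : Coh.IsCoh S.X₁)
    (h3 : Coh.IsCoh S.X₃) : Coh.IsCoh S.X₂ := by
  haveI : S.X₁.IsQuasicoherent := h1.1
  haveI : S.X₃.IsQuasicoherent := h3.1
  exact Groth.Agent.Helper2.CohQ1.isCoh_of_shortExact S hS h1
    (QcohExt.isQuasicoherent_of_shortExact S hS) h3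

theorem isCoh_X₁ (S : ShortComplex X.Modules) (hS : S.ShortExact) (h2 : Coh.IsCoh S.X₂)
    (h3 : Coh.IsCoh S.X₃) : Coh.IsCoh S.X₁ := by
  have e : S.X₁ ≅ kernel S.g :=
    IsLimit.conePointUniqueUpToIso hS.fIsKernel (limit.isLimit _)
  exact PerfLib.isCoh_of_iso e.symm (PerfLib.isCoh_kernel h2 h3 S.g)

theorem isCoh_biprod (A D : X.Modules) (hA : Coh.IsCoh A) (hD : Coh.IsCoh D) :
    Coh.IsCoh (A ⊞ D) :=
  isCoh_ext _ (ShortComplex.Splitting.ofHasBinaryBiproduct A D).shortExact hA hD

theorem isCoh_pullback {A B D : X.Modules} (u : A ⟶ B) (v : D ⟶ B) (hA : Coh.IsCoh A)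
    (hB : Coh.IsCoh B) (hD : Coh.IsCoh D) : Coh.IsCoh (pullback u v) := by
  have e : pullback u v ≅ kernel (biprod.desc u (-v)) :=
    IsLimit.conePointUniqueUpToIso
      (Abelian.PullbackToBiproductIsKernel.isLimitPullbackToBiproduct u v) (limit.isLimit _)
  exact PerfLib.isCoh_of_iso e.symm (PerfLib.isCoh_kernel (isCoh_biprod A D hA hD) hB _)

theorem flf_ext (S : ShortComplex X.Modules) (hS : S.ShortExact)
    (h1 : FlatMod.IsFinLocFree S.X₁) (h3 : FlatMod.IsFinLocFree S.X₃) :
    FlatMod.IsFinLocFree S.X₂ :=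
  isFinLocFree_of_pdLT_one _
    (isCoh_ext S hS (PerfLib.isCoh_of_isFinLocFree h1) (PerfLib.isCoh_of_isFinLocFree h3))
    (pdLT_X₂ S hS 1 (pdLT_one_of_isFinLocFree _ h1) (pdLT_one_of_isFinLocFree _ h3))

theorem flf_X₁ (S : ShortComplex X.Modules) (hS : S.ShortExact)
    (h2 : FlatMod.IsFinLocFree S.X₂) (h3 : FlatMod.IsFinLocFree S.X₃) :
    FlatMod.IsFinLocFree S.X₁ := by
  haveI : S.X₂.IsQuasicoherent := (PerfLib.isCoh_of_isFinLocFree h2).1
  exact isFinLocFree_of_pdLT_one _
    (isCoh_X₁ S hS (PerfLib.isCoh_of_isFinLocFree h2) (PerfLib.isCoh_of_isFinLocFree h3))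
    (pdLT_X₁ S hS h2 1 le_rfl (pdLT_mono (by omega) (pdLT_one_of_isFinLocFree _ h3)))

/-- general dimension shifting -/
theorem pdLT_step (T : ShortComplex X.Modules) (hT : T.ShortExact)
    (hE : FlatMod.IsFinLocFree T.X₂) (m : ℕ) (h3 : PdLT T.X₃ m) :
    PdLT T.X₁ (max (m - 1) 1) := by
  haveI : T.X₂.IsQuasicoherent := (PerfLib.isCoh_of_isFinLocFree hE).1
  exact pdLT_X₁ T hT hE _ (le_max_right _ _) (pdLT_mono (by omega) h3)

theorem exists_cover (hX : KRR.HasEnoughLocFree X) (A B D : X.Modules) (u : A ⟶ B) (v : D ⟶ B)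
    (hu : Epi u) (hA : Coh.IsCoh A) (hB : Coh.IsCoh B) (hD : Coh.IsCoh D) :
    ∃ (L : X.Modules) (u' : L ⟶ D) (v' : L ⟶ A), FlatMod.IsFinLocFree L ∧ Epi u' ∧
      u' ≫ v = v' ≫ u := by
  obtain ⟨L, p, hL, hp⟩ := hX (pullback u v) (isCoh_pullback u v hA hB hD)
  refine ⟨L, p ≫ pullback.snd u v, p ≫ pullback.fst u v, hL, ?_, ?_⟩
  · haveI := hu
    haveI := hp
    exact epi_comp _ _
  · rw [Category.assoc, Category.assoc, pullback.condition]

end Closure


/-! ### chain complexes of finite locally free modules -/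

section abstract

variable {C : Type*} [Category C] [Abelian C]

theorem shortExact_kernel {A B : C} (g : A ⟶ B) [Epi g] :
    (ShortComplex.mk (kernel.ι g) g (kernel.condition g)).ShortExact :=
  ShortComplex.ShortExact.mk'
    (ShortComplex.exact_of_f_is_kernel _ (kernelIsKernel g)) (by dsimp; infer_instance)
    (by dsimp; infer_instance)

variable (L : ChainComplex C ℕ)

/-- the short complex `cycles (i+1) ⟶ X (i+1) ⟶ cycles i` -/
noncomputable def cycSC (i : ℕ) : ShortComplex C :=
  ShortComplex.mk (L.iCycles (i + 1)) (L.toCycles (i + 1) i) (by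
    rw [← cancel_mono (L.iCycles i), Category.assoc, L.toCycles_i, L.iCycles_d, zero_comp])

theorem cycSC_exact (i : ℕ) : (cycSC L i).Exact := by
  haveI : Mono (cycSC L i).f := by dsimp [cycSC]; infer_instance
  refine ShortComplex.exact_of_f_is_kernel _ ?_
  have hk := L.cyclesIsKernel (i + 1) i (by simp)
  refine KernelFork.IsLimit.ofι' _ _ (fun {W} k hk' => ?_)
  have hk'' : (show W ⟶ L.X (i + 1) from k) ≫ L.toCycles (i + 1) i = 0 := hk'
  have h0 : (show W ⟶ L.X (i + 1) from k) ≫ L.d (i + 1) i = 0 := by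
    have := hk'' =≫ L.iCycles i
    rwa [Category.assoc, L.toCycles_i, zero_comp] at this
  exact ⟨hk.lift (KernelFork.ofι k h0), hk.fac _ WalkingParallelPair.zero⟩

theorem cycSC_shortExact (i : ℕ) (hex : L.ExactAt i) : (cycSC L i).ShortExact := by
  haveI : Mono (cycSC L i).f := by dsimp [cycSC]; infer_instance
  haveI : Epi (cycSC L i).g := by
    dsimp [cycSC]
    exact Preadditive.epi_of_isZero_cokernel' _ (L.homologyIsCokernel (i + 1) i (by simp))
      hex.isZero_homology
  exact ShortComplex.ShortExact.mk' (cycSC_exact L i) inferInstance inferInstance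

/-- `X 1 ⟶ cycles 0 ⟶ homology 0` -/
noncomputable def sc₀ : ShortComplex C :=
  ShortComplex.mk (L.toCycles 1 0) (L.homologyπ 0) (L.toCycles_comp_homologyπ 1 0)

theorem sc₀_exact : (sc₀ L).Exact :=
  ShortComplex.exact_of_g_is_cokernel _ (L.homologyIsCokernel 1 0 (by simp))

/-- `cycles 1` is the kernel of `X 1 ⟶ cycles 0` -/
noncomputable def cyclesOneIso : L.cycles 1 ≅ kernel (L.toCycles 1 0) :=
  haveI : Mono (cycSC L 0).f := by dsimp [cycSC]; infer_instance
  IsLimit.conePointUniqueUpToIso (cycSC_exact L 0).fIsKernel (limit.isLimit _)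

end abstract

section ChainCx

variable [IsLocallyNoetherian X] (L : ChainComplex X.Modules ℕ)

theorem isCoh_cycles_succ (hL : ∀ i, FlatMod.IsFinLocFree (L.X i)) (i : ℕ) :
    Coh.IsCoh (L.cycles (i + 1)) := by
  have e : L.cycles (i + 1) ≅ kernel (L.d (i + 1) i) :=
    IsLimit.conePointUniqueUpToIso (L.cyclesIsKernel (i + 1) i (by simp)) (limit.isLimit _)
  exact PerfLib.isCoh_of_iso e.symm (PerfLib.isCoh_kernel
    (PerfLib.isCoh_of_isFinLocFree (hL _)) (PerfLib.isCoh_of_isFinLocFree (hL _)) _)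

theorem pdLT_cycles (hL : ∀ i, FlatMod.IsFinLocFree (L.X i))
    (hex : ∀ i, 1 ≤ i → L.ExactAt i) (N : ℕ) (hN : PdLT (L.homology 0) (N + 1)) :
    ∀ j : ℕ, PdLT (L.cycles (j + 1)) (max (N - j) 1) := by
  intro j
  induction j with
  | zero =>
    have hc0 : FlatMod.IsFinLocFree (L.cycles 0) :=
      FinLocFree2.isFinLocFree_of_iso L.cycles₀Iso.symm (hL 0)
    have h1 := pdLT_step _ (shortExact_kernel (L.homologyπ 0)) hc0 (N + 1) hN
    have h2 := pdLT_step _ (kerSC_shortExact _ (sc₀_exact L)) (hL 1) _ h1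
    exact pdLT_mono (by omega) (pdLT_of_iso (cyclesOneIso L).symm _ h2)
  | succ j ih =>
    have h := pdLT_step _ (cycSC_shortExact L (j + 1) (hex _ (by omega))) (hL _) _ ih
    exact pdLT_mono (by omega) h

end ChainCx

/-- hypothesis (iii) of the resolution theorem -/
theorem exists_flf_cycles [IsNoetherian X]
    (hreg : ∀ x : X, IsRegularLocalRing (X.presheaf.stalk x))
    (hX : KRR.HasEnoughLocFree X) (A : X.Modules) (hA : Coh.IsCoh A) :
    ∃ d : ℕ, ∀ L : ChainComplex X.Modules ℕ, (∀ i, FlatMod.IsFinLocFree (L.X i)) →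
      (∀ i, 1 ≤ i → L.ExactAt i) → Nonempty (L.homology 0 ≅ A) →
      FlatMod.IsFinLocFree (L.cycles (d + 1)) := by
  obtain ⟨N, hN⟩ := exists_pdLT hreg hX A hA
  refine ⟨N, fun L hL hex ⟨e⟩ => ?_⟩
  have h0 : PdLT (L.homology 0) (N + 1) := pdLT_of_iso e.symm _ hN
  have h1 := pdLT_cycles L hL hex N h0 N
  rw [Nat.sub_self] at h1
  exact isFinLocFree_of_pdLT_one _ (isCoh_cycles_succ L hL N) h1


instance vbP_closedUnderIso (X : Scheme.{u}) : (KRR.vbP X).IsClosedUnderIsomorphisms where
  of_iso e h := FinLocFree2.isFinLocFree_of_iso e h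

instance coh_closedUnderIso (X : Scheme.{u}) :
    ObjectProperty.IsClosedUnderIsomorphisms (fun M : X.Modules => Coh.IsCoh M) where
  of_iso e h := PerfLib.isCoh_of_iso e h

/-- **the Poincaré map is bijective** on a regular Noetherian scheme with enough locally free
modules -/
theorem poincare (X : Scheme.{u}) [IsNoetherian X]
    (hreg : ∀ x : X, IsRegularLocalRing (X.presheaf.stalk x)) (hX : KRR.HasEnoughLocFree X)
    (h : ∀ M : X.Modules, FlatMod.IsFinLocFree M → Coh.IsCoh M) :
    Function.Bijective (SGA6.mapSub (𝟭 X.Modules) (KRR.vbP X)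
      (fun M : X.Modules => Coh.IsCoh M) h) := by
  refine Groth.Agent.S3200.result (KRR.vbP X) (fun M : X.Modules => Coh.IsCoh M) h
    (fun S hS h1 h3 => flf_ext S hS h1 h3) (fun S hS h1 h3 => isCoh_ext S hS h1 h3)
    (fun S hS h2 h3 => flf_X₁ S hS h2 h3) (fun S hS h2 h3 => isCoh_X₁ S hS h2 h3)
    (fun A B D u v hu hA hB hD => exists_cover hX A B D u v hu hA hB hD)
    (fun A hA => exists_flf_cycles hreg hX A hA)

end Groth.Agent.Lead.KPoinc
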