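import Mathlib
import Groth.Agent.Lead.ResPropC
import Groth.Agent.Lead.StalkNhd
import Groth.Agent.Helper4.SubExt3
import Groth.Agent.Helper4.QcohEpi
import Groth.Agent.Helper4.FinLocFree2
import Groth.Prelude.Def_PerfAux

/-!
# The resolution property along morphisms: jointly epimorphic families and finite subfamilies
-/

set_option autoImplicit false
set_option linter.style.haveILetI false
set_option linter.unusedSectionVars false
set_option linter.unusedVariables false

universe u

open CategoryTheory CategoryTheory.Limits AlgebraicGeometry TopologicalSpace Opposite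
  MonoidalCategory

namespace Groth.Agent.Lead.ResProp

open Groth.Agent.Helper9.SkyMod4 Groth.Agent.Helper9.SkyMod5

variable {X : Scheme.{u}}

/-- a family of maps into `F` is jointly epimorphic -/
def JointlyEpi {I : Type*} {F : X.Modules} (A : I → X.Modules) (a : ∀ i, A i ⟶ F) : Prop :=
  ∀ ⦃Q : X.Modules⦄ (q : F ⟶ Q), (∀ i, a i ≫ q = 0) → q = 0

/-- a morphism vanishing on all sections over affine opens is zero -/
theorem eq_zero_of_app_affine {A Q : X.Modules} (g : A ⟶ Q)
    (h : ∀ (U : X.affineOpens) (s : A.val.obj (op U.1)), (g.val.app (op U.1)).hom s = 0) :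
    g = 0 := by
  apply eq_zero_of_St_map_eq_zero
  intro y
  apply ModuleCat.hom_ext
  apply LinearMap.ext
  intro m
  rw [Groth.Agent.Lead.Ref1B.St_map_apply]
  obtain ⟨U, hyU, s, rfl⟩ := A.presheaf.exists_germ_eq (x := y) m
  obtain ⟨V, hV, hyV, hVU⟩ := exists_isAffineOpen_mem_and_subset (X := X) (x := y) (U := U) hyU
  have hVU' : V ≤ U := hVU
  have h1 : A.presheaf.germ U y hyU s =
      A.presheaf.germ V y hyV (A.presheaf.map (homOfLE hVU').op s) :=
    (TopCat.Presheaf.germ_res_apply A.presheaf (homOfLE hVU') y hyV s).symm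
  rw [h1, RefHull.stalkMapₗ_germ]
  have h2 : g.app V (A.presheaf.map (homOfLE hVU').op s) = 0 := h ⟨V, hV⟩ _
  rw [h2, map_zero]
  rfl

/-- on a qcqs scheme with the resolution property, every quasi-coherent module receives a jointly
epimorphic family of maps from finite locally free modules -/
theorem exists_jointlyEpi_finLocFree {Y : Scheme.{u}} [CompactSpace Y] [QuasiSeparatedSpace Y]
    (hY : PerfAux.HasResolutionProperty Y) (H : Y.Modules) [H.IsQuasicoherent] :
    ∃ (I : Type u) (E : I → Y.Modules) (φ : ∀ i, E i ⟶ H),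
      (∀ i, FlatMod.IsFinLocFree (E i)) ∧ JointlyEpi E φ := by
  have key : ∀ i : (Σ V : Y.affineOpens, H.val.obj (op V.1)), ∃ (E : Y.Modules) (φ : E ⟶ H),
      FlatMod.IsFinLocFree E ∧
      ∀ ⦃Q : Y.Modules⦄ (q : H ⟶ Q), φ ≫ q = 0 → (q.val.app (op i.1.1)).hom i.2 = 0 := by
    rintro ⟨V, s⟩
    obtain ⟨G, ι, hm, hq, hft, g, hg⟩ :=
      Groth.Agent.Helper4.SubExt.exists_submodule_through_section H V.1 V.2.isCompact s
    obtain ⟨E, π, hE, hπ⟩ := hY G hq hft
    refine ⟨E, π ≫ ι, hE, fun Q q hq0 => ?_⟩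
    have h1 : ι ≫ q = 0 := by
      rw [Category.assoc] at hq0
      exact (cancel_epi π).1 (hq0.trans comp_zero.symm)
    show (q.val.app (op V.1)).hom s = 0
    rw [← hg]
    have h2 : ((ι ≫ q).val.app (op V.1)).hom g = 0 := by
      rw [h1]
      rfl
    exact h2
  choose E φ hE hφ using key
  exact ⟨_, E, φ, hE, fun Q q hq =>
    eq_zero_of_app_affine q (fun U s => hφ ⟨U, s⟩ q (hq ⟨U, s⟩))⟩

/-- the ranges of the stalk maps of a jointly epimorphic family span the stalk -/
theorem iSup_range_St_map_eq_top {I : Type*} {F : X.Modules} (A : I → X.Modules)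
    (a : ∀ i, A i ⟶ F) (h : JointlyEpi A a) (x : X) :
    ⨆ i, LinearMap.range ((St x).map (a i)).hom = ⊤ := by
  obtain ⟨N', hN'⟩ : ∃ N' : Submodule (X.presheaf.stalk x) ((St x).obj F),
      N' = ⨆ i, LinearMap.range ((St x).map (a i)).hom := ⟨_, rfl⟩
  rw [← hN']
  let T : ModuleCat.{u} (X.presheaf.stalk x) := ModuleCat.of _ (((St x).obj F) ⧸ N')
  let quot : (St x).obj F ⟶ T := ModuleCat.ofHom N'.mkQ
  let q : F ⟶ (Groth.Agent.Helper9.SkyMod2.skyFunctor x).obj T :=
    (Groth.Agent.Helper9.SkyMod2.adj x).homEquiv F T quot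
  have hq : ∀ i, a i ≫ q = 0 := by
    intro i
    have h1 : a i ≫ q = (Groth.Agent.Helper9.SkyMod2.adj x).homEquiv (A i) T
        ((St x).map (a i) ≫ quot) :=
      ((Groth.Agent.Helper9.SkyMod2.adj x).homEquiv_naturality_left (a i) quot).symm
    have h2 : (St x).map (a i) ≫ quot = 0 := by
      apply ModuleCat.hom_ext
      apply LinearMap.ext
      intro m
      show N'.mkQ (((St x).map (a i)).hom m) = 0
      rw [Submodule.mkQ_apply, Submodule.Quotient.mk_eq_zero, hN']
      exact (le_iSup (fun i => LinearMap.range ((St x).map (a i)).hom) i) ⟨m, rfl⟩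
    rw [h1, h2, Adjunction.homEquiv_unit, Functor.map_zero, comp_zero]
  have hq0 : q = 0 := h q hq
  have hquot : quot = 0 := by
    have h3 : quot = ((Groth.Agent.Helper9.SkyMod2.adj x).homEquiv F T).symm q :=
      (((Groth.Agent.Helper9.SkyMod2.adj x).homEquiv F T).symm_apply_apply quot).symm
    rw [h3, hq0, Adjunction.homEquiv_counit, Functor.map_zero, zero_comp]
  rw [eq_top_iff]
  intro m _
  have h4 : N'.mkQ m = 0 := congrArg (fun g : (St x).obj F ⟶ T => g.hom m) hquot
  rwa [Submodule.mkQ_apply, Submodule.Quotient.mk_eq_zero] at h4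

/-- on a quasi-compact scheme, a jointly epimorphic family of maps from quasi-coherent modules to a
quasi-coherent module of finite type has a finite jointly epimorphic subfamily -/
theorem exists_finset_epi [CompactSpace X] (F : X.Modules) [F.IsQuasicoherent]
    (hFT : SheafOfModules.IsFiniteType (R := X.ringCatSheaf) F) {I : Type u} (A : I → X.Modules)
    (hA : ∀ i, (A i).IsQuasicoherent)
    (a : ∀ i, A i ⟶ F) (h : JointlyEpi A a) :
    ∃ J : Finset I, Epi (biproduct.desc (fun j : {j // j ∈ J} => a j.1)) := by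
  classical
  have hpt : ∀ x : X, ∃ (Jx : Finset I) (U : X.Opens), x ∈ U ∧ ∀ (J : Finset I), Jx ⊆ J →
      ∀ ⦃Q : X.Modules⦄ (g : F ⟶ Q), (∀ j ∈ J, a j ≫ g = 0) → ∀ u ∈ U, (St u).map g = 0 := by
    intro x
    haveI : Module.Finite (X.presheaf.stalk x) ((St x).obj F) :=
      Groth.Agent.Helper4.FinLocFree2.finite_stalk F hFT x
    have htop := iSup_range_St_map_eq_top A a h x
    have hc : IsCompactElement
        (⊤ : Submodule (X.presheaf.stalk x) ((St x).obj F)) :=
      (Submodule.fg_iff_compact _).mp Module.Finite.fg_top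
    obtain ⟨Jx, hJx⟩ := CompleteLattice.IsCompactElement.exists_finset_of_le_iSup _ hc
      (fun i => LinearMap.range ((St x).map (a i)).hom) htop.ge
    obtain ⟨b, hbdef⟩ : ∃ b : (⨁ fun j : {j // j ∈ Jx} => A j.1) ⟶ F,
        b = biproduct.desc (fun j : {j // j ∈ Jx} => a j.1) := ⟨_, rfl⟩
    have hb : ∀ j : {j // j ∈ Jx}, biproduct.ι (fun j : {j // j ∈ Jx} => A j.1) j ≫ b = a j.1 :=
      fun j => hbdef ▸ biproduct.ι_desc _ j
    have hsurj : LinearMap.range ((St x).map b).hom = ⊤ := by
      rw [eq_top_iff]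
      refine hJx.trans (iSup₂_le fun i hi => ?_)
      rintro _ ⟨m, rfl⟩
      refine ⟨((St x).map (biproduct.ι (fun j : {j // j ∈ Jx} => A j.1) ⟨i, hi⟩)).hom m, ?_⟩
      rw [← hb ⟨i, hi⟩, Functor.map_comp]
      rfl
    haveI : (⨁ fun j : {j // j ∈ Jx} => A j.1).IsQuasicoherent :=
      Groth.Agent.Helper4.QcohLimits.isQuasicoherent_of_iso
        (biproduct.isoCoproduct (fun j : {j // j ∈ Jx} => A j.1)).symm
        (hF := Groth.Agent.Helper4.QcohLimits.isQuasicoherent_sigma _ (fun j => hA j.1))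
    haveI : (cokernel b).IsQuasicoherent :=
      Groth.Agent.Helper4.QcohLimits.isQuasicoherent_cokernel b
    haveI hepi : Epi (cokernel.π b) := coequalizer.π_epi
    have hCft : SheafOfModules.IsFiniteType (R := X.ringCatSheaf) (cokernel b) :=
      @Groth.Agent.Helper4.QcohEpi.isFiniteType_of_epi X F (cokernel b) (cokernel.π b) hepi
        inferInstance inferInstance hFT
    have hCx : Subsingleton ((cokernel b).presheaf.stalk x) := by
      haveI : Epi ((St x).map (cokernel.π b)) := inferInstance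
      have hs : Function.Surjective ((St x).map (cokernel.π b)).hom :=
        (ModuleCat.epi_iff_surjective _).mp inferInstance
      have hz : ∀ c : (St x).obj (cokernel b), c = 0 := by
        intro c
        obtain ⟨m, rfl⟩ := hs c
        obtain ⟨n, rfl⟩ : m ∈ LinearMap.range ((St x).map b).hom := hsurj ▸ Submodule.mem_top
        have h5 : (St x).map b ≫ (St x).map (cokernel.π b) = 0 := by
          rw [← Functor.map_comp, cokernel.condition, Functor.map_zero]
        exact congrArg (fun g : (St x).obj _ ⟶ (St x).obj (cokernel b) => g.hom n) h5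
      exact ⟨fun c c' => (hz c).trans (hz c').symm⟩
    obtain ⟨U, hxU, hU⟩ :=
      Groth.Agent.Lead.StalkNhd.exists_nhd_subsingleton (cokernel b) hCft x hCx
    refine ⟨Jx, U, hxU, fun J hJ Q g hg u hu => ?_⟩
    have hbg : b ≫ g = 0 := by
      apply biproduct.hom_ext'
      intro j
      rw [← Category.assoc, hb, comp_zero]
      exact hg j.1 (hJ j.2)
    have hfac : cokernel.π b ≫ cokernel.desc b g hbg = g := cokernel.π_desc _ _ _
    rw [← hfac, Functor.map_comp]
    haveI : Subsingleton ↑((St u).obj (cokernel b)) := hU u hu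
    have hz : IsZero ((St u).obj (cokernel b)) :=
      ModuleCat.isZero_of_subsingleton _
    rw [hz.eq_of_tgt ((St u).map (cokernel.π b)) 0, zero_comp]
  choose Jx U hxU hJU using hpt
  obtain ⟨t, ht⟩ := CompactSpace.elim_nhds_subcover (fun x => (U x : Set X))
    (fun x => (U x).isOpen.mem_nhds (hxU x))
  refine ⟨t.biUnion Jx, ?_⟩
  apply Preadditive.epi_of_cancel_zero
  intro Q g hg
  have hg' : ∀ j ∈ t.biUnion Jx, a j ≫ g = 0 := by
    intro j hj
    have h1 := biproduct.ι_desc (fun j : {j // j ∈ t.biUnion Jx} => a j.1) ⟨j, hj⟩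
    rw [← h1, Category.assoc, hg, comp_zero]
  apply eq_zero_of_St_map_eq_zero
  intro y
  have hy : y ∈ ⋃ x ∈ t, (U x : Set X) := ht ▸ Set.mem_univ y
  obtain ⟨x, hxt, hyx⟩ := Set.mem_iUnion₂.mp hy
  exact hJU x (t.biUnion Jx) (Finset.subset_biUnion_of_mem Jx hxt) g hg' y hyx

end Groth.Agent.Lead.ResProp
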