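import Mathlib
import Groth.Prelude.Def_KRR
import Groth.Agent.Lead.KPoinc
import Groth.Agent.Lead.ResPropD
import Groth.Agent.Lead.LocLift6
import Groth.Agent.Helper4.GenTwistMain
import Groth.Agent.Helper4.SN221
import Groth.Agent.Helper4.QAffSec
import Groth.Agent.Helper4.FinLocFree2
import Groth.Agent.Helper9.FlfTensor1

set_option autoImplicit false
set_option linter.style.haveILetI false
set_option linter.unusedSectionVars false
set_option linter.unusedVariables false

/-!
# The class of an ample invertible module is an ample line element of `K(X)`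
-/

namespace Groth.Agent.Lead.KAmple

open CategoryTheory Limits AlgebraicGeometry Opposite ZeroObject
open Groth.Agent.Helper4 Groth.Agent.Helper4.FinLocFree

universe v u

variable {X : Scheme.{u}}

/-! ### ranks -/

theorem finrank_stalk_of_isFreeAlong (F : X.Modules) [F.IsQuasicoherent] {V : X.Opens} {n : ℕ}
    (hV : IsFreeAlong F V.ι n) (x : X) (hx : x ∈ V) :
    Module.finrank (X.presheaf.stalk x) (F.presheaf.stalk x) = n := by
  obtain ⟨b⟩ := Groth.Agent.Helper4.FinLocFree2.nonempty_basis_stalk_of_isFreeAlong F hV x hx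
  rw [Module.finrank_eq_card_basis b, Fintype.card_fin]

theorem exists_rank [PreconnectedSpace X] (F : X.Modules) (hF : FlatMod.IsFinLocFree F) :
    ∃ r : ℕ, FlatMod.IsFinLocFreeOfRank r F := by
  haveI : F.IsQuasicoherent := Groth.Agent.Helper4.FinLocFree4.isQuasicoherent_of_isFinLocFree F hF
  by_cases hne : Nonempty X
  · obtain ⟨x₀⟩ := hne
    let r : X → ℕ := fun x => Module.finrank (X.presheaf.stalk x) (F.presheaf.stalk x)
    have hr : IsLocallyConstant r := by
      rw [IsLocallyConstant.iff_exists_open]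
      intro x
      obtain ⟨U, n, hxU, hU⟩ := hF x
      refine ⟨U, U.isOpen, hxU, fun y hy => ?_⟩
      show Module.finrank _ _ = Module.finrank _ _
      rw [finrank_stalk_of_isFreeAlong F hU y hy, finrank_stalk_of_isFreeAlong F hU x hxU]
    refine ⟨r x₀, fun x => ?_⟩
    obtain ⟨U, n, hxU, hU⟩ := hF x
    have h1 : r x = n := finrank_stalk_of_isFreeAlong F hU x hxU
    have h2 : r x = r x₀ := hr.apply_eq_of_preconnectedSpace x x₀
    refine ⟨U, hxU, ?_⟩
    rw [← h2, h1]
    exact hU
  · exact ⟨0, fun x => (hne ⟨x⟩).elim⟩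


/-! ### K-theory -/

attribute [local instance] Abelian.hasFiniteBiproducts

variable (X)

theorem good_vb : Groth.Agent.Helper4.SN221.Good (KRR.vbP X) where
  iso := fun {A B} e h => Groth.Agent.Helper4.FinLocFree2.isFinLocFree_of_iso e h
  zero := fun {A} hA => Groth.Agent.Lead.PerfLib.isFinLocFree_of_isZero hA
  biprod := fun {A B} hA hB => Groth.Agent.Lead.LocLift.isFinLocFree_biprod hA hB

variable {X}

theorem cl_eq_of_iso {M N : X.Modules} (e : M ≅ N) (hM : FlatMod.IsFinLocFree M) :
    KRR.cl X M = KRR.cl X N :=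
  Groth.Agent.Helper4.SN221.clSub_iso (good_vb X) e hM

theorem isFinLocFree_of_rank {r : ℕ} {M : X.Modules} (h : FlatMod.IsFinLocFreeOfRank r M) :
    FlatMod.IsFinLocFree M := fun x => by
  obtain ⟨U, hx, e⟩ := h x
  exact ⟨U, r, hx, e⟩

theorem isFinLocFree_of_isInvertible {L : X.Modules} (hL : PicF.IsInvertible L) :
    FlatMod.IsFinLocFree L :=
  isFinLocFree_of_rank (Groth.Agent.Helper4.QAffSec.isFinLocFreeOfRank_one_of_isInvertible L hL)

theorem exists_sub (a : SGA6.Kvb X) : ∃ E F : X.Modules, FlatMod.IsFinLocFree E ∧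
    FlatMod.IsFinLocFree F ∧ a = KRR.cl X E - KRR.cl X F := by
  have hz : FlatMod.IsFinLocFree (0 : X.Modules) := (good_vb X).zero (isZero_zero _)
  induction a using Groth.Agent.Helper4.SN221.induction_on with
  | h0 => exact ⟨0, 0, hz, hz, by rw [sub_self]⟩
  | hof E hE =>
    refine ⟨E, 0, hE, hz, ?_⟩
    have h0 := Groth.Agent.Helper4.SN221.clSub_zero (good_vb X) (isZero_zero (X.Modules))
    unfold KRR.cl
    rw [h0, sub_zero]
    unfold KZero.clSub
    rw [dif_pos hE]
  | hneg x ih =>
    obtain ⟨E, F, hE, hF, rfl⟩ := ih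
    exact ⟨F, E, hF, hE, by abel⟩
  | hadd x y ihx ihy =>
    obtain ⟨E, F, hE, hF, rfl⟩ := ihx
    obtain ⟨E', F', hE', hF', rfl⟩ := ihy
    refine ⟨E ⊞ E', F ⊞ F', (good_vb X).biprod hE hE', (good_vb X).biprod hF hF', ?_⟩
    unfold KRR.cl
    rw [Groth.Agent.Helper4.SN221.clSub_biprod (good_vb X) hE hE',
      Groth.Agent.Helper4.SN221.clSub_biprod (good_vb X) hF hF']
    abel

/-- a globally generated finite locally free module on a Noetherian scheme is a quotient of a
finite free module with finite locally free kernel -/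
theorem exists_rel_of_gg [IsNoetherian X] (F : X.Modules) (hF : FlatMod.IsFinLocFree F)
    (hgg : Curv2.IsGloballyGenerated F) :
    ∃ (c : ℕ) (K' : X.Modules), FlatMod.IsFinLocFree K' ∧
      c • KRR.cl X (Coh.structureModule X) = KRR.cl X K' + KRR.cl X F := by
  classical
  haveI : F.IsQuasicoherent := Groth.Agent.Helper4.FinLocFree4.isQuasicoherent_of_isFinLocFree F hF
  have hFT : SheafOfModules.IsFiniteType (R := X.ringCatSheaf) F :=
    Groth.Agent.Helper4.FinLocFree2.isFiniteType_of_isFinitePresentation F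
      (Groth.Agent.Helper4.FinLocFree2.isFinitePresentation_of_isFinLocFree F hF)
  have hO : FlatMod.IsFinLocFree (Coh.structureModule X) :=
    Groth.Agent.Helper4.FinLocFree6.isFinLocFree_unit
  haveI hOq : (Coh.structureModule X).IsQuasicoherent :=
    Groth.Agent.Helper4.FinLocFree4.isQuasicoherent_of_isFinLocFree _ hO
  obtain ⟨ι, p, hp⟩ := hgg
  let A : ι → X.Modules := fun _ => Coh.structureModule X
  let a : ∀ i, A i ⟶ F := fun i => SheafOfModules.ιFree i ≫ p
  have hje : Groth.Agent.Lead.ResProp.JointlyEpi A a := by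
    intro Q q hq
    have h1 : p ≫ q = 0 := by
      apply Cofan.IsColimit.hom_ext (SheafOfModules.isColimitFreeCofan ι)
      intro i
      have := hq i
      simp only [a, Category.assoc] at this
      exact this.trans comp_zero.symm
    exact (cancel_epi p).1 (h1.trans comp_zero.symm)
  obtain ⟨J, hJ⟩ := Groth.Agent.Lead.ResProp.exists_finset_epi F hFT A (fun _ => hOq) a hje
  let ε : Fin J.card ≃ {j // j ∈ J} := J.equivFin.symm
  let e : (⨁ fun _ : Fin J.card => Coh.structureModule X) ≅ ⨁ fun j : {j // j ∈ J} => A j.1 :=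
    biproduct.whiskerEquiv (f := fun _ : Fin J.card => Coh.structureModule X)
      (g := fun j : {j // j ∈ J} => A j.1) ε (fun _ => Iso.refl _)
  let π : (⨁ fun _ : Fin J.card => Coh.structureModule X) ⟶ F :=
    e.hom ≫ biproduct.desc (fun j : {j // j ∈ J} => a j.1)
  haveI : Epi π := epi_comp _ _
  obtain ⟨hB, hBcl⟩ := Groth.Agent.Helper4.SN221.biproduct_const (good_vb X)
    (Coh.structureModule X) hO J.card
  have hS := Groth.Agent.Lead.KPoinc.shortExact_kernel π
  have hK' : FlatMod.IsFinLocFree (kernel π) :=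
    Groth.Agent.Lead.KPoinc.flf_X₁ _ hS hB hF
  refine ⟨J.card, kernel π, hK', ?_⟩
  have h := Groth.Agent.Helper9.ResThm.clSub_add (KRR.vbP X) _ hS hK' hB hF
  rw [← hBcl]
  exact h


section Model

variable {K : Type v} [CommRing K] [LambdaRing.LambdaOps K] {P : LambdaRing.PosStructure K}
  {φ : SGA6.Kvb X →+ K}

theorem isFinLocFree_twist {L : X.Modules} (hL : PicF.IsInvertible L) (F : X.Modules)
    (hF : FlatMod.IsFinLocFree F) (n : ℕ) :
    FlatMod.IsFinLocFree (CohB1.tensorMod F (CohB1.tensorPow L n)) :=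
  Groth.Agent.Helper9.FlfTensor1.isFinLocFree_tensor F _ hF
    (isFinLocFree_of_isInvertible (Groth.Agent.Helper4.TensorInv.isInvertible_tensorPow hL n))

theorem pow_mul_cl (hK : KRR.IsModel X K P φ) {L : X.Modules} (hL : PicF.IsInvertible L)
    (F : X.Modules) (hF : FlatMod.IsFinLocFree F) (n : ℕ) :
    φ (KRR.cl X L) ^ n * φ (KRR.cl X F) =
      φ (KRR.cl X (CohB1.tensorMod F (CohB1.tensorPow L n))) := by
  induction n with
  | zero =>
    rw [pow_zero, one_mul]
    exact congrArg φ (cl_eq_of_iso (SecTwist.unitorR F).symm hF)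
  | succ n ih =>
    have hFn := isFinLocFree_twist hL F hF n
    have hLf := isFinLocFree_of_isInvertible hL
    rw [pow_succ, mul_right_comm, ih]
    have h1 := hK.map_mul _ _ hFn hLf
    rw [h1]
    refine congrArg φ (cl_eq_of_iso ?_ ?_)
    · exact Groth.Agent.Helper4.TensorAssoc.assocIso F _ L
        (Groth.Agent.Helper4.TensorInv.isInvertible_tensorPow hL n) hL
    · exact Groth.Agent.Helper9.FlfTensor1.isFinLocFree_tensor _ _ hFn hLf

end Model

/-- **S3743** -/
theorem main (X : Scheme.{u}) [IsNoetherian X] [ConnectedSpace ↥X]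
    (K : Type v) [CommRing K] [LambdaRing.LambdaOps K] (P : LambdaRing.PosStructure K)
    (φ : SGA6.Kvb X →+ K) (hK : KRR.IsModel X K P φ)
    (L : X.Modules) (hL : CohB1.IsAmple L) :
    KRR.IsAmpleElt P (φ (KRR.cl X L)) := by
  have hinv := hL.1
  have hL1 := Groth.Agent.Helper4.QAffSec.isFinLocFreeOfRank_one_of_isInvertible L hinv
  have hO : FlatMod.IsFinLocFree (Coh.structureModule X) :=
    Groth.Agent.Helper4.FinLocFree6.isFinLocFree_unit
  refine ⟨⟨(hK.mem_pos_iff _).2 ⟨1, L, le_rfl, hL1, rfl⟩, ?_⟩, fun x => ?_⟩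
  · have := hK.aug_cl 1 L hL1
    rw [this]
    norm_num
  · obtain ⟨a, rfl⟩ := hK.bijective.2 x
    obtain ⟨E, F, hE, hF, rfl⟩ := exists_sub a
    haveI : F.IsQuasicoherent :=
      Groth.Agent.Helper4.FinLocFree4.isQuasicoherent_of_isFinLocFree F hF
    have hFT : SheafOfModules.IsFiniteType (R := X.ringCatSheaf) F :=
      Groth.Agent.Helper4.FinLocFree2.isFiniteType_of_isFinitePresentation F
        (Groth.Agent.Helper4.FinLocFree2.isFinitePresentation_of_isFinLocFree F hF)
    obtain ⟨n₀, hn₀⟩ :=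
      Groth.Agent.Helper4.GenTwistMain.exists_forall_isGloballyGenerated_twist hL F hFT
    refine ⟨n₀, fun n hn => ?_⟩
    have hEn := isFinLocFree_twist hinv E hE n
    have hFn := isFinLocFree_twist hinv F hF n
    obtain ⟨c, K', hK', hrel⟩ := exists_rel_of_gg _ hFn (hn₀ n hn)
    obtain ⟨M₀, hM₀def⟩ : ∃ M₀ : X.Modules,
        M₀ = (CohB1.tensorMod E (CohB1.tensorPow L n) ⊞ K' : X.Modules) := ⟨_, rfl⟩
    have hM₀ : FlatMod.IsFinLocFree M₀ := hM₀def ▸ (good_vb X).biprod hEn hK'
    have hM : FlatMod.IsFinLocFree (M₀ ⊞ Coh.structureModule X) := (good_vb X).biprod hM₀ hO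
    obtain ⟨s₀, hs₀⟩ := exists_rank M₀ hM₀
    obtain ⟨s, hs⟩ := exists_rank (M₀ ⊞ Coh.structureModule X) hM
    have h3 : KRR.cl X M₀ = KRR.cl X (CohB1.tensorMod E (CohB1.tensorPow L n)) + KRR.cl X K' := by
      rw [hM₀def]
      unfold KRR.cl
      exact Groth.Agent.Helper4.SN221.clSub_biprod (good_vb X) hEn hK'
    have h4 : KRR.cl X (M₀ ⊞ Coh.structureModule X) =
        KRR.cl X M₀ + KRR.cl X (Coh.structureModule X) := by
      unfold KRR.cl
      exact Groth.Agent.Helper4.SN221.clSub_biprod (good_vb X) hM₀ hO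
    have hφM : φ (KRR.cl X (M₀ ⊞ Coh.structureModule X)) = φ (KRR.cl X M₀) + 1 := by
      rw [h4, map_add, hK.map_one]
    have hs1 : 1 ≤ s := by
      have h1 := hK.aug_cl s _ hs
      have h2 := hK.aug_cl s₀ _ hs₀
      rw [hφM, map_add, map_one, h2] at h1
      omega
    refine ⟨φ (KRR.cl X (M₀ ⊞ Coh.structureModule X)), c + 1,
      (hK.mem_pos_iff _).2 ⟨s, _, hs1, hs, rfl⟩, ?_⟩
    have hrel' : (c : K) = φ (KRR.cl X K') +
        φ (KRR.cl X (CohB1.tensorMod F (CohB1.tensorPow L n))) := by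
      have := congrArg φ hrel
      rw [map_nsmul, hK.map_one, nsmul_eq_mul, mul_one, map_add] at this
      exact this
    rw [map_sub, mul_sub, pow_mul_cl hK hinv E hE n, pow_mul_cl hK hinv F hF n, hφM, h3, map_add]
    push_cast
    rw [hrel']
    ring

end Groth.Agent.Lead.KAmple
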