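import Groth.Agent.Lead.BCMap2
import Groth.Agent.Helper8.TildeBC

set_option autoImplicit false
open CategoryTheory AlgebraicGeometry Opposite TopologicalSpace TensorProduct
universe u

namespace Groth.Agent.Lead.BCMap
open Scheme.Modules Groth.Agent.Helper8.TildeBC

theorem top_le {X Y : Scheme.{u}} (f : X ⟶ Y) : (⊤ : X.Opens) ≤ f ⁻¹ᵁ ⊤ := fun _ _ => trivial

section StepB
variable {R S : CommRingCat.{u}} (φ : R ⟶ S)

theorem tildePullbackIso_unit (M : ModuleCat.{u} R) :
    ((tilde.adjunction (R := R)).comp (pullbackPushforwardAdjunction (Spec.map φ))).unit.app M ≫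
      (pushforward (Spec.map φ) ⋙ moduleSpecΓFunctor (R := R)).map ((tildePullbackIso φ).hom.app M) =
    (((ModuleCat.extendRestrictScalarsAdj.{u, u, u} φ.hom).comp
      (tilde.adjunction (R := S))).ofNatIsoRight (pushforwardΓIso φ).symm).unit.app M :=
  Adjunction.unit_leftAdjointUniq_hom_app _ _ M

theorem tildePullbackIso_unit_apply (M : ModuleCat.{u} R) (m : M) :
    ((tildePullbackIso φ).hom.app M).app ⊤
      (((pullbackPushforwardAdjunction (Spec.map φ)).unit.app ((tilde.functor R).obj M)).app ⊤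
        ((tilde.toOpen M ⊤).hom m)) =
    (tilde.toOpen ((ModuleCat.extendScalars.{u, u, u} φ.hom).obj M) ⊤).hom
      ((ModuleCat.extendRestrictScalarsAdj.{u, u, u} φ.hom).unit.app M m) := by
  have h := tildePullbackIso_unit φ M
  have h2 := congrArg (fun ψ => ψ.hom m) h
  simp only [Adjunction.comp_unit_app, Adjunction.ofNatIsoRight_unit] at h2
  exact h2

variable (G : (Spec R).Modules) [G.IsQuasicoherent]

/-- the counit iso -/
noncomputable def tildeΓIso : (tilde.functor R).obj (moduleSpecΓFunctor.obj G) ≅ G := by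
  have e := asIso (fromTildeΓ G)
  exact e

theorem tildeΓIso_hom : (tildeΓIso G).hom = fromTildeΓ G := rfl

/-- global sections of the pullback of a quasi-coherent module as extension of scalars -/
noncomputable def specIso :
    (ModuleCat.extendScalars.{u, u, u} φ.hom).obj (moduleSpecΓFunctor.obj G) ≅
      moduleSpecΓFunctor.obj ((Scheme.Modules.pullback (Spec.map φ)).obj G) :=
  tilde.toTildeΓNatIso.app _ ≪≫
    moduleSpecΓFunctor.mapIso ((tildePullbackIso φ).symm.app (moduleSpecΓFunctor.obj G) ≪≫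
      (Scheme.Modules.pullback (Spec.map φ)).mapIso (tildeΓIso G))

theorem specIso_hom_apply (x : (ModuleCat.extendScalars.{u, u, u} φ.hom).obj (moduleSpecΓFunctor.obj G)) :
    (specIso φ G).hom x =
      ((Scheme.Modules.pullback (Spec.map φ)).map (fromTildeΓ G)).app ⊤
        (((tildePullbackIso φ).inv.app (moduleSpecΓFunctor.obj G)).app ⊤
          ((tilde.toOpen _ ⊤).hom x)) := rfl

theorem specIso_aux (x : Γ((tilde.functor R).obj (moduleSpecΓFunctor.obj G), ⊤)) :
    ((Scheme.Modules.pullback (Spec.map φ)).map (fromTildeΓ G)).app ⊤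
        (((tildePullbackIso φ).inv.app (moduleSpecΓFunctor.obj G)).app ⊤
          (((tildePullbackIso φ).hom.app (moduleSpecΓFunctor.obj G)).app ⊤
            (((pullbackPushforwardAdjunction (Spec.map φ)).unit.app
              ((tilde.functor R).obj (moduleSpecΓFunctor.obj G))).app ⊤ x))) =
      pbSec (Spec.map φ) G ⊤ ⊤ (top_le _) ((fromTildeΓ G).app ⊤ x) := by
  have h1 : ∀ y, ((tildePullbackIso φ).inv.app (moduleSpecΓFunctor.obj G)).app ⊤
      (((tildePullbackIso φ).hom.app (moduleSpecΓFunctor.obj G)).app ⊤ y) = y := by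
    intro y
    rw [← ConcreteCategory.comp_apply, ← Hom.comp_app, Iso.hom_inv_id_app, Hom.id_app]
    rfl
  rw [h1]
  have h2 : ((pullbackPushforwardAdjunction (Spec.map φ)).unit.app
      ((tilde.functor R).obj (moduleSpecΓFunctor.obj G))).app ⊤ x =
      pbSec (Spec.map φ) ((tilde.functor R).obj (moduleSpecΓFunctor.obj G)) ⊤ ⊤ (top_le _) x := by
    rw [pbSec_apply]
    erw [CategoryTheory.Functor.map_id]
    rfl
  rw [h2]
  exact (pbSec_naturality (Spec.map φ) (fromTildeΓ G) ⊤ ⊤ (top_le _) x).symm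

theorem fromTildeΓ_toOpen (m : moduleSpecΓFunctor.obj G) :
    (fromTildeΓ G).app ⊤ ((tilde.toOpen (moduleSpecΓFunctor.obj G) ⊤).hom m) = m := by
  have h3 := Scheme.Modules.toOpen_fromTildeΓ_app G ⊤
  have h4 := congrArg (fun ψ => ψ.hom m) h3
  refine Eq.trans h4 ?_
  erw [CategoryTheory.Functor.map_id]
  rfl

theorem specIso_one_tmul (m : moduleSpecΓFunctor.obj G) :
    (specIso φ G).hom ((ModuleCat.extendRestrictScalarsAdj.{u, u, u} φ.hom).unit.app _ m) =
      pbSec (Spec.map φ) G ⊤ ⊤ (top_le _) m := by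
  rw [specIso_hom_apply, ← tildePullbackIso_unit_apply]
  refine (specIso_aux φ G _).trans ?_
  congr 1
  exact fromTildeΓ_toOpen G m

theorem exists_isBaseChange_spec :
    letI := φ.hom.toAlgebra
    letI : Module R (moduleSpecΓFunctor.obj ((Scheme.Modules.pullback (Spec.map φ)).obj G)) :=
      Module.compHom _ φ.hom
    haveI : IsScalarTower R S
        (moduleSpecΓFunctor.obj ((Scheme.Modules.pullback (Spec.map φ)).obj G)) :=
      IsScalarTower.of_compHom _ _ _
    ∃ ρ : (moduleSpecΓFunctor.obj G) →ₗ[R]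
        (moduleSpecΓFunctor.obj ((Scheme.Modules.pullback (Spec.map φ)).obj G)),
      (∀ m, ρ m = pbSec (Spec.map φ) G ⊤ ⊤ (top_le _) m) ∧ IsBaseChange S ρ := by
  letI := φ.hom.toAlgebra
  letI : Module R (moduleSpecΓFunctor.obj ((Scheme.Modules.pullback (Spec.map φ)).obj G)) :=
    Module.compHom _ φ.hom
  haveI : IsScalarTower R S (moduleSpecΓFunctor.obj ((Scheme.Modules.pullback (Spec.map φ)).obj G)) :=
    IsScalarTower.of_compHom _ _ _
  let E : (S ⊗[R] (moduleSpecΓFunctor.obj G)) ≃ₗ[S]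
      (moduleSpecΓFunctor.obj ((Scheme.Modules.pullback (Spec.map φ)).obj G)) :=
    (specIso φ G).toLinearEquiv
  let ρ : (moduleSpecΓFunctor.obj G) →ₗ[R]
      (moduleSpecΓFunctor.obj ((Scheme.Modules.pullback (Spec.map φ)).obj G)) :=
    (E.toLinearMap.restrictScalars R) ∘ₗ (TensorProduct.mk R S (moduleSpecΓFunctor.obj G) 1)
  refine ⟨ρ, fun m => ?_, IsBaseChange.of_equiv (f := ρ) E (fun x => rfl)⟩
  exact specIso_one_tmul φ G m

end StepB
end Groth.Agent.Lead.BCMap
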