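import Mathlib
import Groth.Agent.Lead.H0GeomA
import Groth.Agent.Lead.BCFieldC
import Groth.Agent.Helper8.SchIdem
import Groth.Agent.Helper2.SmoothRegSch

set_option autoImplicit false
open CategoryTheory CategoryTheory.Limits AlgebraicGeometry Opposite TopologicalSpace
universe u

namespace Groth.Agent.Lead.H0Geom

-- The next two lemmas are copied from `Groth.Agent.Helper4.SN42` (helper4), to avoid its heavy import closure.
/-- topological lemma (same statement as `Helper5.ConnInt.irreducibleSpace_of_unique_generic`):
finitely many "generic points" with unique generization ⇒ irreducible -/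
theorem irreducibleSpace_of_unique_generic' {Y : Type*} [TopologicalSpace Y] [ConnectedSpace Y]
    (S : Set Y) (hS : S.Finite) (g : Y → Y) (hgS : ∀ y, g y ∈ S) (hg : ∀ y, g y ⤳ y)
    (huniq : ∀ y, ∀ s ∈ S, s ⤳ y → s = g y) : IrreducibleSpace Y := by
  obtain ⟨y₀⟩ := (inferInstance : Nonempty Y)
  have hcl : IsClopen (closure {g y₀}) := by
    refine ⟨isClosed_closure, ?_⟩
    have hcompl : (closure {g y₀})ᶜ = ⋃ s ∈ S \ {g y₀}, closure {s} := by
      ext y
      simp only [Set.mem_compl_iff, Set.mem_iUnion, exists_prop, Set.mem_sdiff,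
        Set.mem_singleton_iff, ← specializes_iff_mem_closure]
      constructor
      · intro hy
        refine ⟨g y, ⟨hgS y, ?_⟩, hg y⟩
        intro h
        exact hy (h ▸ hg y)
      · rintro ⟨s, ⟨hs, hne⟩, hsy⟩ hy
        exact hne ((huniq y s hs hsy).trans (huniq y _ (hgS y₀) hy).symm)
    rw [← isClosed_compl_iff, hcompl]
    exact (hS.subset Set.sdiff_subset).isClosed_biUnion fun _ _ => isClosed_closure
  have huniv : closure {g y₀} = Set.univ :=
    hcl.eq_univ ⟨g y₀, subset_closure rfl⟩
  rw [irreducibleSpace_def]
  have : (⊤ : Set Y) = closure {g y₀} := huniv.symm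
  rw [this]
  exact isIrreducible_singleton.closure

/-- a connected Noetherian scheme all of whose local rings are domains is integral -/
theorem isIntegral_of_connected_of_isDomain_stalk (X : Scheme.{u}) [IsNoetherian X]
    [ConnectedSpace X] (hX : ∀ x : X, IsDomain (X.presheaf.stalk x)) : IsIntegral X := by
  haveI : IsReduced X := by
    haveI : ∀ x : X, _root_.IsReduced (X.presheaf.stalk x) := fun x => by
      haveI := hX x; infer_instance
    exact isReduced_of_isReduced_stalk X
  let bot : ∀ y : X, PrimeSpectrum (X.presheaf.stalk y) := fun y =>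
    ⟨⊥, by haveI := hX y; exact Ideal.isPrime_bot⟩
  let g : X → X := fun y => X.fromSpecStalk y (bot y)
  let S : Set X := (fun z : X => closure ({z} : Set X)) ⁻¹' irreducibleComponents X
  have hg : ∀ y, g y ⤳ y := fun y => by
    have : g y ∈ Set.range (X.fromSpecStalk y) := ⟨_, rfl⟩
    rw [Scheme.range_fromSpecStalk] at this
    exact this
  -- any generization of `y` is a specialization of `g y`
  have hgen : ∀ y z : X, z ⤳ y → g y ⤳ z := by
    intro y z hz
    have : z ∈ Set.range (X.fromSpecStalk y) := by
      rw [Scheme.range_fromSpecStalk]; exact hz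
    obtain ⟨P, rfl⟩ := this
    have h1 : bot y ⤳ P :=
      (PrimeSpectrum.le_iff_specializes (bot y) P).1
        (show (bot y).asIdeal ≤ PrimeSpectrum.asIdeal P from bot_le)
    exact h1.map (X.fromSpecStalk y).continuous
  have hSfin : S.Finite := by
    apply Set.Finite.preimage _ TopologicalSpace.NoetherianSpace.finite_irreducibleComponents
    intro a _ b _ hab
    exact (inseparable_iff_closure_eq.2 hab).eq
  have hgS : ∀ y, g y ∈ S := by
    intro y
    show closure ({g y} : Set X) ∈ irreducibleComponents X
    obtain ⟨Z, hZ, hsub⟩ :=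
      exists_mem_irreducibleComponents_subset_of_isIrreducible _
        (isIrreducible_singleton (x := g y)).closure
    have hZc : IsClosed Z := isClosed_of_mem_irreducibleComponents Z hZ
    have hZi : IsIrreducible Z := hZ.1
    obtain ⟨z, hz⟩ := QuasiSober.sober hZi hZc
    have hzg : z ⤳ g y := by
      rw [specializes_iff_mem_closure, hz.def]
      exact hsub (subset_closure rfl)
    have hgz : g y ⤳ z := hgen y z (hzg.trans (hg y))
    have : z = g y := (hzg.antisymm hgz).eq
    rw [← this, hz.def]
    exact hZ
  have huniq : ∀ y, ∀ s ∈ S, s ⤳ y → s = g y := by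
    intro y s hs hsy
    have hgs : g y ⤳ s := hgen y s hsy
    have hs' : closure ({s} : Set X) ∈ irreducibleComponents X := hs
    have hle : closure ({s} : Set X) ⊆ closure ({g y} : Set X) :=
      (specializes_iff_closure_subset.1 hgs)
    have heq : closure ({g y} : Set X) ⊆ closure ({s} : Set X) :=
      hs'.2 (isIrreducible_singleton (x := g y)).closure hle
    have hsg : s ⤳ g y := specializes_iff_closure_subset.2 heq
    exact (hsg.antisymm hgs).eq
  haveI := irreducibleSpace_of_unique_generic' S hSfin g hgS hg huniq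
  exact isIntegral_of_irreducibleSpace_of_isReduced X

/-- a scheme all of whose global idempotents are trivial is preconnected -/
theorem preconnectedSpace_of_idem {Y : Scheme.{u}}
    (h : ∀ e : Γ(Y, ⊤), IsIdempotentElem e → e = 0 ∨ e = 1) : PreconnectedSpace Y := by
  rw [preconnectedSpace_iff_clopen]
  intro s hs
  obtain ⟨ε, hε, hεs⟩ := Groth.Agent.Helper8.SchIdem.exists_idem_basicOpen_eq s hs
  rcases h ε hε with rfl | rfl
  · left
    rw [← hεs]
    simp
  · right
    rw [← hεs]
    simp

/-- a one-dimensional algebra over a field has only trivial idempotents -/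
theorem idem_trivial_of_finrank_eq_one (K : Type u) [Field K] (R : Type u) [CommRing R] [Algebra K R]
    (h1 : Module.finrank K R = 1) (e : R) (he : IsIdempotentElem e) : e = 0 ∨ e = 1 := by
  haveI : Nontrivial R := by
    by_contra hnt
    rw [not_nontrivial_iff_subsingleton] at hnt
    rw [Module.finrank_zero_of_subsingleton] at h1
    exact zero_ne_one h1
  obtain ⟨c, hc⟩ := (finrank_eq_one_iff_of_nonzero' (1 : R) one_ne_zero).mp h1 e
  have h2 : (c * c - c) • (1 : R) = 0 := by
    have := he.eq
    rw [← hc] at this
    rw [smul_mul_smul_comm, mul_one] at this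
    rw [sub_smul, this, sub_self]
  rcases smul_eq_zero.mp h2 with h3 | h3
  · have h4 : c * (c - 1) = 0 := by rw [mul_sub, mul_one]; exact h3
    rcases mul_eq_zero.mp h4 with h5 | h5
    · left; rw [← hc, h5, zero_smul]
    · right; rw [← hc, sub_eq_zero.mp h5, one_smul]
  · exact absurd h3 one_ne_zero

/-- if `Γ(Y, O)` is one-dimensional over a field then `Y` is connected -/
theorem connectedSpace_of_finrank_eq_one (K : Type u) [Field K] (Y : Scheme.{u})
    [Y.Over (Spec (CommRingCat.of K))]
    (h1 : Module.finrank K (Coh.HH Y (Coh.structureModule Y) 0) = 1) : ConnectedSpace Y := by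
  letI : Algebra K Γ(Y, ⊤) := (Coh.toGlobal (Y ↘ Spec (CommRingCat.of K))).toAlgebra
  rw [(h0LinearEquiv K Y).finrank_eq] at h1
  haveI : PreconnectedSpace Y :=
    preconnectedSpace_of_idem (idem_trivial_of_finrank_eq_one K Γ(Y, ⊤) h1)
  haveI : Nonempty Y := by
    by_contra hne
    rw [not_nonempty_iff] at hne
    have htop : (⊤ : Y.Opens) = ⊥ := by
      ext y
      exact (hne.false y).elim
    haveI : Subsingleton Γ(Y, ⊤) := by rw [htop]; infer_instance
    rw [Module.finrank_zero_of_subsingleton] at h1
    exact zero_ne_one h1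
  exact ⟨‹Nonempty Y›⟩

/-- S16754 -/
theorem main3 (k : Type u) [Field k]
    (X : Scheme.{u}) [X.Over (Spec (CommRingCat.of k))] [IsProper (X ↘ Spec (CommRingCat.of k))]
    [Smooth (X ↘ Spec (CommRingCat.of k))] :
    (Module.finrank k (Coh.HH X (Coh.structureModule X) 0) = 1 ↔
        GeometricallyConnected (X ↘ Spec (CommRingCat.of k))) ∧
      (GeometricallyConnected (X ↘ Spec (CommRingCat.of k)) ↔
        GeometricallyIntegral (X ↘ Spec (CommRingCat.of k))) := by
  refine ⟨⟨fun h0 => ⟨geometrically_iff_of_commRing.mpr ?_⟩, fun hgc => ?_⟩,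
    ⟨fun hgc => ⟨geometrically_iff_of_commRing.mpr ?_⟩,
      fun hgi => ⟨geometrically_iff_of_commRing.mpr ?_⟩⟩⟩
  · intro K _ _ Y fst snd hpb
    letI : Y.Over (Spec (CommRingCat.of K)) := ⟨snd⟩
    apply connectedSpace_of_finrank_eq_one K Y
    rw [Groth.Agent.Lead.BCField.finrank_HH_structure_baseChange k K X Y fst hpb 0]
    exact h0
  · haveI := Groth.Agent.Helper2.SmoothRegSch.geometricallyReduced_of_smooth k X
      (X ↘ Spec (CommRingCat.of k))
    exact main k X
  · intro K _ _ Y fst snd hpb
    letI : Y.Over (Spec (CommRingCat.of K)) := ⟨snd⟩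
    haveI : IsProper (Y ↘ Spec (CommRingCat.of K)) :=
      MorphismProperty.of_isPullback (P := @IsProper) hpb inferInstance
    haveI : Smooth (Y ↘ Spec (CommRingCat.of K)) :=
      MorphismProperty.of_isPullback (P := @Smooth) hpb inferInstance
    haveI : GeometricallyConnected (Y ↘ Spec (CommRingCat.of K)) :=
      MorphismProperty.of_isPullback (P := @GeometricallyConnected) hpb hgc
    haveI : IsLocallyNoetherian Y :=
      LocallyOfFiniteType.isLocallyNoetherian (Y ↘ Spec (CommRingCat.of K))
    haveI : CompactSpace Y :=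
      QuasiCompact.compactSpace_of_compactSpace (Y ↘ Spec (CommRingCat.of K))
    haveI : IsNoetherian Y := {}
    haveI : ConnectedSpace Y :=
      GeometricallyConnected.connectedSpace_of_subsingleton (f := Y ↘ Spec (CommRingCat.of K))
    apply isIntegral_of_connected_of_isDomain_stalk Y
    intro y
    haveI := Groth.Agent.Helper2.SmoothRegSch.stalk_regular_of_smooth K Y
      (Y ↘ Spec (CommRingCat.of K)) y
    exact Groth.Agent.Lead.RegLocal.isDomain_of_isRegularLocalRing _
  · intro K _ _ Y fst snd hpb
    haveI : IsIntegral Y := hgi.geometrically_isIntegral _ _ _ hpb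
    infer_instance

end Groth.Agent.Lead.H0Geom
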