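import Mathlib
import Groth.Agent.Lead.StalkSupp
import Groth.Agent.Helper4.QcohEpi
import Groth.Agent.Helper4.QcohLimits
import Groth.Agent.Helper4.AssDict
import Groth.Agent.S0020
import Groth.Agent.Lead.PullFF

set_option autoImplicit false
universe u
open CategoryTheory CategoryTheory.Limits AlgebraicGeometry TopologicalSpace Opposite

namespace Groth.Agent.Lead.EpiPull

/-- a module is zero iff its support is empty -/
theorem isZero_iff_support {X : Scheme.{u}} (M : X.Modules) :
    IsZero M ↔ CohB1.support M = ∅ := by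
  constructor
  · intro h
    ext x
    simp only [Set.mem_empty_iff_false, iff_false]
    intro hx
    apply hx
    have hid : 𝟙 M = 0 := (IsZero.iff_id_eq_zero M).mp h
    refine ⟨fun a b => ?_⟩
    have h1 := Groth.Agent.Lead.PullFF.stalkLin_id M x a
    have h2 := Groth.Agent.Lead.PullFF.stalkLin_id M x b
    rw [hid, Groth.Agent.Lead.StalkNhd.stalkLin_zero] at h1 h2
    rw [← h1, ← h2]
  · intro h
    apply Groth.Agent.Helper4.AssDict.isZero_of_subsingleton_stalks
    intro x
    by_contra hx
    have : x ∈ CohB1.support M := hx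
    rw [h] at this
    exact this

/-- S10844 -/
theorem main {S : Scheme.{u}} {E F : S.Modules} [Coh.IsQCoh E] [Coh.IsQCoh F]
    (hF : CohB1.IsFT F) (v : E ⟶ F) :
    ∃ U : S.Opens, ∀ (T : Scheme.{u}) (f : T ⟶ S),
      Set.range f.base ⊆ (U : Set S) ↔ Epi ((Scheme.Modules.pullback f).map v) := by
  haveI : E.IsQuasicoherent := ‹Coh.IsQCoh E›
  haveI : F.IsQuasicoherent := ‹Coh.IsQCoh F›
  haveI hCq : (cokernel v).IsQuasicoherent :=
    Groth.Agent.Helper4.QcohLimits.isQuasicoherent_cokernel v
  have hCf : CohB1.IsFT (cokernel v) :=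
    Groth.Agent.Helper4.QcohEpi.isFiniteType_of_epi (cokernel.π v) hF
  have hcl : IsClosed (CohB1.support (cokernel v)) := Groth.Agent.S0020.result S _ hCf
  refine ⟨⟨(CohB1.support (cokernel v))ᶜ, hcl.isOpen_compl⟩, fun T f => ?_⟩
  haveI : Coh.IsQCoh (cokernel v) := hCq
  have hsupp := Groth.Agent.Lead.StalkPull.main_support f (cokernel v) hCf
  -- Epi ↔ cokernel zero
  have h1 : Epi ((Scheme.Modules.pullback f).map v) ↔
      IsZero (cokernel ((Scheme.Modules.pullback f).map v)) := by
    constructor
    · intro h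
      exact isZero_cokernel_of_epi _
    · intro h
      exact Preadditive.epi_of_isZero_cokernel _ h
  have e : cokernel ((Scheme.Modules.pullback f).map v) ≅
      (Scheme.Modules.pullback f).obj (cokernel v) :=
    (PreservesCokernel.iso (Scheme.Modules.pullback f) v).symm
  rw [h1, e.isZero_iff, isZero_iff_support, hsupp]
  change Set.range f.base ⊆ (CohB1.support (cokernel v))ᶜ ↔ _
  constructor
  · intro h
    ext t
    simp only [Set.mem_preimage, Set.mem_empty_iff_false, iff_false]
    intro ht
    exact h ⟨t, rfl⟩ ht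
  · rintro h _ ⟨t, rfl⟩ ht
    have : t ∈ f.base ⁻¹' CohB1.support (cokernel v) := ht
    rw [h] at this
    exact this

end Groth.Agent.Lead.EpiPull
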