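import Mathlib
import Groth.Agent.S3861
import Groth.Agent.S3873

set_option autoImplicit false
open CategoryTheory AlgebraicGeometry Limits
universe u

namespace Groth.Agent.Lead.ThickBC

/-- the ideal of the restriction of an ideal sheaf to an affine open -/
theorem ideal_comap_ι_top {X : Scheme.{u}} (I : X.IdealSheafData) (U : X.affineOpens) :
    (I.comap U.1.ι).ideal ⟨⊤, isAffineOpen_top _⟩ = (I.ideal U).map U.1.topIso.inv.hom := by
  rw [Scheme.IdealSheafData.ideal_comap_of_isOpenImmersion]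
  have h1 : (U.1.ι.appIso ⊤).inv = 𝟙 _ := by rw [Scheme.Opens.ι_appIso]; rfl
  rw [h1]
  have h2 : ∀ J : Ideal Γ(X, U.1.ι ''ᵁ ⊤), J.comap (CommRingCat.Hom.hom (𝟙 Γ(X, U.1.ι ''ᵁ ⊤))) = J :=
    fun J => Ideal.comap_id J
  refine (h2 _).trans ?_
  exact (I.map_ideal' (U := ⟨U.1.ι ''ᵁ ⊤, (isAffineOpen_top _).image_of_isOpenImmersion _⟩)
    (V := U) (eqToIso U.1.ι_image_top.symm).op.inv).symm


theorem map_iso_injective {R S : CommRingCat.{u}} (e : R ≅ S) {I J : Ideal R}
    (h : I.map e.hom.hom = J.map e.hom.hom) : I = J := by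
  have key : ∀ K : Ideal R, (K.map e.hom.hom).map e.inv.hom = K := by
    intro K
    rw [Ideal.map_map]
    have : e.inv.hom.comp e.hom.hom = RingHom.id R := by
      have := congrArg CommRingCat.Hom.hom e.hom_inv_id
      exact this
    rw [this, Ideal.map_id]
  rw [← key I, h, key J]

/-- the inverse image ideal sheaf on affine opens `U' ≤ f⁻¹ V'` is the extension of the ideal. -/
theorem ideal_comap_appLE {X S : Scheme.{u}} (f : X ⟶ S) (K : S.IdealSheafData)
    (V : S.affineOpens) (U : X.affineOpens) (e : U.1 ≤ f ⁻¹ᵁ V.1) :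
    (K.comap f).ideal U = (K.ideal V).map (f.appLE V.1 U.1 e).hom := by
  haveI : IsAffine (U.1 : Scheme.{u}) := U.2
  haveI : IsAffine (V.1 : Scheme.{u}) := V.2
  have hfac : U.1.ι ≫ f = f.resLE V.1 U.1 e ≫ V.1.ι := (Scheme.Hom.resLE_comp_ι f e).symm
  have key : (K.comap f).comap U.1.ι = (K.comap V.1.ι).comap (f.resLE V.1 U.1 e) := by
    rw [← Scheme.IdealSheafData.comap_comp, ← Scheme.IdealSheafData.comap_comp, hfac]
  have h1 := congrArg (fun M => M.ideal ⟨⊤, isAffineOpen_top _⟩) key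
  simp only at h1
  rw [ideal_comap_ι_top, Groth.Agent.S3861.ideal_comap_of_isAffine, ideal_comap_ι_top] at h1
  have h2 : (f.resLE V.1 U.1 e).appTop = V.1.topIso.hom ≫ f.appLE V.1 U.1 e ≫ U.1.topIso.inv :=
    Scheme.Hom.resLE_app_top f e
  rw [h2, Ideal.map_map] at h1
  have h3 : (CommRingCat.Hom.hom (V.1.topIso.hom ≫ f.appLE V.1 U.1 e ≫ U.1.topIso.inv)).comp
      (CommRingCat.Hom.hom V.1.topIso.inv) =
      (CommRingCat.Hom.hom U.1.topIso.inv).comp (CommRingCat.Hom.hom (f.appLE V.1 U.1 e)) := by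
    rw [← CommRingCat.hom_comp, ← CommRingCat.hom_comp, Iso.inv_hom_id_assoc]
  rw [h3, ← Ideal.map_map] at h1
  exact map_iso_injective U.1.topIso.symm h1


section pullback

variable {X X' S S' : Scheme.{u}} {iX : X ⟶ X'} {iS : S ⟶ S'} {f : X ⟶ S} {f' : X' ⟶ S'}

theorem isClosedImmersion_of_isPullback (hc : IsPullback iX f f' iS) [IsClosedImmersion iS] :
    IsClosedImmersion iX :=
  MorphismProperty.of_isPullback hc.flip ‹_›

theorem ker_eq_comap (hc : IsPullback iX f f' iS) [IsClosedImmersion iS] :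
    iX.ker = iS.ker.comap f' := by
  have h : iX = hc.isoPullback.hom ≫ pullback.fst f' iS := (hc.isoPullback_hom_fst).symm
  rw [h, Scheme.Hom.ker_comp_of_isIso, Scheme.IdealSheafData.ker_fst_of_isClosedImmersion]

theorem ker_app_eq_map (hc : IsPullback iX f f' iS) [IsClosedImmersion iS]
    (V' : S'.affineOpens) (U' : X'.affineOpens) (e : U'.1 ≤ f' ⁻¹ᵁ V'.1) :
    RingHom.ker (iX.app U'.1).hom =
      (RingHom.ker (iS.app V'.1).hom).map (f'.appLE V'.1 U'.1 e).hom := by
  haveI := isClosedImmersion_of_isPullback hc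
  rw [← Scheme.Hom.ker_apply, ← Scheme.Hom.ker_apply, ker_eq_comap hc, ideal_comap_appLE]

theorem preimage_le (hc : IsPullback iX f f' iS) (V' : S'.Opens) (U' : X'.Opens)
    (e : U' ≤ f' ⁻¹ᵁ V') : iX ⁻¹ᵁ U' ≤ f ⁻¹ᵁ (iS ⁻¹ᵁ V') := by
  intro x hx
  have h1 : f' (iX x) ∈ V' := e hx
  have h2 : f' (iX x) = iS (f x) := by
    rw [← Scheme.Hom.comp_apply, ← Scheme.Hom.comp_apply, hc.w]
  rw [h2] at h1
  exact h1

theorem appLE_square (hc : IsPullback iX f f' iS) (V' : S'.Opens) (U' : X'.Opens)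
    (e : U' ≤ f' ⁻¹ᵁ V') :
    iS.app V' ≫ f.appLE (iS ⁻¹ᵁ V') (iX ⁻¹ᵁ U') (preimage_le hc V' U' e) =
      f'.appLE V' U' e ≫ iX.app U' := by
  have h1 : iS.app V' = iS.appLE V' (iS ⁻¹ᵁ V') le_rfl := Scheme.Hom.app_eq_appLE iS
  have h2 : iX.app U' = iX.appLE U' (iX ⁻¹ᵁ U') le_rfl := Scheme.Hom.app_eq_appLE iX
  rw [h1, h2, Scheme.Hom.appLE_comp_appLE, Scheme.Hom.appLE_comp_appLE]
  have gen : ∀ (a b : X ⟶ S') (hab : a = b) (e1 : iX ⁻¹ᵁ U' ≤ a ⁻¹ᵁ V') (e2 : iX ⁻¹ᵁ U' ≤ b ⁻¹ᵁ V'),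
      a.appLE V' (iX ⁻¹ᵁ U') e1 = b.appLE V' (iX ⁻¹ᵁ U') e2 := by
    rintro a b rfl e1 e2; rfl
  exact gen _ _ hc.w.symm _ _

end pullback


section algebra

/-- Nakayama for nilpotent ideals -/
theorem eq_top_of_sup_smul_top {R M : Type*} [CommRing R] [AddCommGroup M] [Module R M]
    (J : Ideal R) (n : ℕ) (hJ : J ^ n = ⊥) (N : Submodule R M)
    (h : N ⊔ J • (⊤ : Submodule R M) = ⊤) : N = ⊤ := by
  have key : ∀ k : ℕ, N ⊔ (J ^ k) • (⊤ : Submodule R M) = ⊤ := by
    intro k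
    induction k with
    | zero => simp
    | succ k ih =>
      apply eq_top_iff.mpr
      calc (⊤ : Submodule R M) = N ⊔ J • (⊤ : Submodule R M) := h.symm
        _ = N ⊔ J • (N ⊔ (J ^ k) • (⊤ : Submodule R M)) := by rw [ih]
        _ = N ⊔ (J • N ⊔ J • (J ^ k) • (⊤ : Submodule R M)) := by rw [Submodule.smul_sup]
        _ ≤ N ⊔ (J ^ (k + 1)) • (⊤ : Submodule R M) := by
          rw [← Submodule.mul_smul, ← pow_succ']
          exact sup_le le_sup_left (sup_le (le_sup_of_le_left Submodule.smul_le_right) le_sup_right)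
  have := key n
  rwa [hJ, Submodule.bot_smul, sup_bot_eq] at this

/-- Nakayama for nilpotent ideals, zero version -/
theorem eq_bot_of_le_smul {R M : Type*} [CommRing R] [AddCommGroup M] [Module R M]
    (J : Ideal R) (n : ℕ) (hJ : J ^ n = ⊥) (N : Submodule R M) (h : N ≤ J • N) : N = ⊥ := by
  have key : ∀ k : ℕ, N ≤ (J ^ k) • N := by
    intro k
    induction k with
    | zero => simp
    | succ k ih =>
      calc N ≤ J • N := h
        _ ≤ J • ((J ^ k) • N) := Submodule.smul_mono le_rfl ih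
        _ = (J ^ (k + 1)) • N := by rw [← Submodule.mul_smul, ← pow_succ']
  have := key n
  rw [hJ, Submodule.bot_smul] at this
  exact le_bot_iff.mp this

/-- lifting finite type along a nilpotent thickening -/
theorem finiteType_of_nilpotent {A' B' A B : Type u} [CommRing A'] [CommRing B'] [CommRing A]
    [CommRing B] (φ' : A' →+* B') (φ : A →+* B) (πA : A' →+* A) (πB : B' →+* B)
    (hcomm : φ.comp πA = πB.comp φ') (hπA : Function.Surjective πA)
    (hπB : Function.Surjective πB) (n : ℕ) (hnil : (RingHom.ker πA) ^ n = ⊥)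
    (hker : RingHom.ker πB = (RingHom.ker πA).map φ') (hφ : φ.FiniteType) : φ'.FiniteType := by
  have h1 : (πB.comp φ').FiniteType := by
    rw [← hcomm]
    exact hφ.comp (RingHom.FiniteType.of_surjective πA hπA)
  algebraize [φ', πB.comp φ']
  -- `πB` as an `A'`-algebra homomorphism
  let π : B' →ₐ[A'] B := { πB with commutes' := fun _ => rfl }
  obtain ⟨s, hs⟩ := (Algebra.FiniteType.out : (⊤ : Subalgebra A' B).FG)
  have hlift : ∀ b : B, ∃ b' : B', πB b' = b := hπB
  choose g hg using hlift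
  classical
  let t : Finset B' := s.image g
  refine ⟨⟨t, ?_⟩⟩
  have hmap : (Algebra.adjoin A' (t : Set B')).map π = ⊤ := by
    rw [AlgHom.map_adjoin, ← hs]
    congr 1
    ext b
    simp only [Finset.coe_image, Set.mem_image, Finset.mem_coe, t]
    constructor
    · rintro ⟨_, ⟨c, hc, rfl⟩, rfl⟩
      change πB (g c) ∈ _
      rw [hg]; exact hc
    · intro hb
      exact ⟨g b, ⟨b, hb, rfl⟩, hg b⟩
  have hsup : Subalgebra.toSubmodule (Algebra.adjoin A' (t : Set B')) ⊔
      (RingHom.ker πA) • (⊤ : Submodule A' B') = ⊤ := by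
    apply eq_top_iff.mpr
    intro b' _
    have hb : π b' ∈ (Algebra.adjoin A' (t : Set B')).map π := by rw [hmap]; trivial
    obtain ⟨c, hc, hcb⟩ := hb
    have hmem : b' - c ∈ RingHom.ker πB := by
      rw [RingHom.mem_ker, map_sub]
      have : πB c = πB b' := hcb
      rw [this, sub_self]
    rw [hker] at hmem
    have hmem' : b' - c ∈ (RingHom.ker πA) • (⊤ : Submodule A' B') := by
      rw [Ideal.smul_top_eq_map]
      exact hmem
    have : b' = c + (b' - c) := by ring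
    rw [this]
    exact Submodule.add_mem_sup hc hmem'
  have := eq_top_of_sup_smul_top _ n hnil _ hsup
  exact Subalgebra.toSubmodule_injective (by rw [this]; rfl)

end algebra


section lft

variable {X X' S S' : Scheme.{u}} {iX : X ⟶ X'} {iS : S ⟶ S'} {f : X ⟶ S} {f' : X' ⟶ S'}

/-- locally of finite type lifts along a base change of a (locally) nilpotent closed immersion -/
theorem locallyOfFiniteType_of_isPullback (hc : IsPullback iX f f' iS) [IsClosedImmersion iS]
    (hnil : ∀ V' : S'.affineOpens, ∃ n : ℕ, (RingHom.ker (iS.app V'.1).hom) ^ n = ⊥)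
    [LocallyOfFiniteType f] : LocallyOfFiniteType f' := by
  haveI := isClosedImmersion_of_isPullback hc
  rw [HasRingHomProperty.iff_appLE (P := @LocallyOfFiniteType)]
  intro V' U' e
  obtain ⟨n, hn⟩ := hnil V'
  have hV : IsAffineOpen (iS ⁻¹ᵁ V'.1) := V'.2.preimage iS
  have hU : IsAffineOpen (iX ⁻¹ᵁ U'.1) := U'.2.preimage iX
  have hφ : (f.appLE (iS ⁻¹ᵁ V'.1) (iX ⁻¹ᵁ U'.1) (preimage_le hc V'.1 U'.1 e)).hom.FiniteType :=
    (HasRingHomProperty.iff_appLE (P := @LocallyOfFiniteType)).mp inferInstance ⟨_, hV⟩ ⟨_, hU⟩ _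
  refine finiteType_of_nilpotent (f'.appLE V'.1 U'.1 e).hom _ (iS.app V'.1).hom (iX.app U'.1).hom
    ?_ (iS.app_surjective V'.1 V'.2) (iX.app_surjective U'.1 U'.2) n hn
    (ker_app_eq_map hc V' U' e) hφ
  have := appLE_square hc V'.1 U'.1 e
  exact congrArg CommRingCat.Hom.hom this

end lft

end Groth.Agent.Lead.ThickBC
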