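import Groth.Agent.Lead.ClUnit
import Groth.Agent.Helper4.SecDict
import Groth.Agent.Helper4.SuppDict
import Groth.Prelude.Def_CohB1
import Mathlib

/-!
# Lead: the annihilator ideal sheaf of a finite type quasi-coherent module
(scheme-theoretic support)
-/

set_option autoImplicit false
open CategoryTheory AlgebraicGeometry Opposite TopologicalSpace
universe u

namespace Groth.Agent.Lead.AnnSheaf
open Scheme.Modules Groth.Agent.Helper4 Groth.Agent.Helper4.StalkDict

variable {X : Scheme.{u}} (F : X.Modules)

/-- `Ann(M)_f = Ann(M_f)` for the sections of a finite type quasi-coherent module -/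
theorem map_annihilator [F.IsQuasicoherent] {U : X.Opens} (hU : IsAffineOpen U)
    [Module.Finite Γ(X, U) Γ(F, U)] (f : Γ(X, U)) :
    (Module.annihilator Γ(X, U) Γ(F, U)).map
        (X.presheaf.map (homOfLE <| X.basicOpen_le f).op).hom =
      Module.annihilator Γ(X, X.basicOpen f) Γ(F, X.basicOpen f) := by
  have hunit : IsUnit (X.presheaf.map (homOfLE <| X.basicOpen_le f).op f) :=
    RingedSpace.isUnit_res_basicOpen _ f
  apply le_antisymm
  · rw [Ideal.map_le_iff_le_comap]
    intro a ha
    rw [Ideal.mem_comap, Module.mem_annihilator]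
    intro t
    obtain ⟨n, m, hnm⟩ := exists_pow_smul_eq_res hU F f t
    have h1 : X.presheaf.map (homOfLE <| X.basicOpen_le f).op (f ^ n) •
        ((X.presheaf.map (homOfLE <| X.basicOpen_le f).op).hom a • t) = 0 := by
      rw [smul_comm, hnm]
      change X.presheaf.map (homOfLE <| X.basicOpen_le f).op a • _ = 0
      rw [← Scheme.Modules.map_smul, Module.mem_annihilator.mp ha m, map_zero]
    have hu : IsUnit (X.presheaf.map (homOfLE <| X.basicOpen_le f).op (f ^ n)) := by
      rw [map_pow]
      exact hunit.pow n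
    obtain ⟨v, hv⟩ := hu
    rw [← hv] at h1
    have := congrArg (fun z => (↑v⁻¹ : Γ(X, X.basicOpen f)) • z) h1
    simpa [smul_smul] using this
  · intro a' ha'
    haveI := hU.isLocalization_basicOpen f
    obtain ⟨⟨a, ⟨_, n, rfl⟩⟩, hs⟩ := IsLocalization.surj (Submonoid.powers f) a'
    change a' * (X.presheaf.map (homOfLE <| X.basicOpen_le f).op).hom (f ^ n) =
      (X.presheaf.map (homOfLE <| X.basicOpen_le f).op).hom a at hs
    -- `res a` annihilates `M_f`
    have hres : ∀ t : Γ(F, X.basicOpen f),
        (X.presheaf.map (homOfLE <| X.basicOpen_le f).op).hom a • t = 0 := by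
      intro t
      rw [← hs, mul_comm, mul_smul, Module.mem_annihilator.mp ha' t, smul_zero]
    -- for each `m`, a power of `f` kills `a • m`
    have hex : ∀ m : Γ(F, U), ∃ k : ℕ, f ^ k • (a • m) = 0 := by
      intro m
      apply exists_pow_smul_eq_zero hU F f (a • m)
      rw [Scheme.Modules.map_smul]
      exact hres _
    choose k hk using hex
    obtain ⟨S, hS⟩ := (Module.Finite.fg_top : (⊤ : Submodule Γ(X, U) Γ(F, U)).FG)
    let N := S.sup k
    have hmem : f ^ N * a ∈ Module.annihilator Γ(X, U) Γ(F, U) := by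
      rw [← Submodule.annihilator_top, ← hS, Submodule.mem_annihilator_span]
      rintro ⟨m, hm⟩
      have hle : k m ≤ N := Finset.le_sup (f := k) hm
      change (f ^ N * a) • m = 0
      rw [← Nat.sub_add_cancel hle, pow_add, mul_assoc, mul_smul, mul_smul, hk m, smul_zero]
    have hu : IsUnit ((X.presheaf.map (homOfLE <| X.basicOpen_le f).op).hom (f ^ (N + n))) := by
      rw [map_pow]
      exact hunit.pow _
    have h2 : a' * (X.presheaf.map (homOfLE <| X.basicOpen_le f).op).hom (f ^ (N + n)) ∈
        (Module.annihilator Γ(X, U) Γ(F, U)).map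
          (X.presheaf.map (homOfLE <| X.basicOpen_le f).op).hom := by
      have : a' * (X.presheaf.map (homOfLE <| X.basicOpen_le f).op).hom (f ^ (N + n)) =
          (X.presheaf.map (homOfLE <| X.basicOpen_le f).op).hom (f ^ N * a) := by
        rw [pow_add, map_mul, map_mul, ← hs]
        ring
      rw [this]
      exact Ideal.mem_map_of_mem _ hmem
    exact (Ideal.mul_unit_mem_iff_mem _ hu).mp h2

/-- the annihilator ideal sheaf -/
noncomputable def annIdeal [F.IsQuasicoherent]
    (hft : SheafOfModules.IsFiniteType (R := X.ringCatSheaf) F) : X.IdealSheafData where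
  ideal U := Module.annihilator Γ(X, U.1) Γ(F, U.1)
  map_ideal_basicOpen U f := by
    haveI := SecDict.finite_sections U.2 F inferInstance hft
    exact map_annihilator F U.2 f

theorem mem_zeroLocus_iff {U : X.Opens} (hU : IsAffineOpen U) (s : Set Γ(X, U)) (x : X)
    (hx : x ∈ U) :
    x ∈ X.zeroLocus s ↔ hU.primeIdealOf ⟨x, hx⟩ ∈ PrimeSpectrum.zeroLocus s := by
  have h := congrArg (fun T => hU.primeIdealOf ⟨x, hx⟩ ∈ T) (hU.fromSpec_preimage_zeroLocus s)
  simp only at h
  refine Iff.trans ?_ (iff_of_eq h)
  change _ ↔ hU.fromSpec (hU.primeIdealOf ⟨x, hx⟩) ∈ X.zeroLocus s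
  rw [hU.fromSpec_primeIdealOf]

theorem main [F.IsQuasicoherent]
    (hft : SheafOfModules.IsFiniteType (R := X.ringCatSheaf) F) :
    ∃ J : X.IdealSheafData,
      (∀ U : X.affineOpens, J.ideal U = Module.annihilator Γ(X, U.1) Γ(F, U.1)) ∧
        IsIso ((pullbackPushforwardAdjunction J.subschemeι).unit.app F) ∧
          (∀ J' : X.IdealSheafData,
            IsIso ((pullbackPushforwardAdjunction J'.subschemeι).unit.app F) → J' ≤ J) ∧
            (J.support : Set ↑X) = CohB1.support F := by
  refine ⟨annIdeal F hft, fun U => rfl, ?_, ?_, ?_⟩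
  · rw [ClUnit.main]
    intro U a ha s
    rw [Scheme.IdealSheafData.ker_subschemeι] at ha
    exact Module.mem_annihilator.mp ha s
  · intro J' h
    rw [ClUnit.main] at h
    rw [Scheme.IdealSheafData.le_def]
    intro U a ha
    change a ∈ Module.annihilator Γ(X, U.1) Γ(F, U.1)
    rw [Module.mem_annihilator]
    intro s
    refine h U a ?_ s
    rw [Scheme.IdealSheafData.ker_subschemeι]
    exact ha
  · ext x
    obtain ⟨_, ⟨U, hU : IsAffineOpen U, rfl⟩, hxU, -⟩ :=
      X.isBasis_affineOpens.exists_subset_of_mem_open (Set.mem_univ x) isOpen_univ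
    haveI := SecDict.finite_sections hU F inferInstance hft
    rw [← SuppDict.mem_support_iff hU F x hxU, Module.support_eq_zeroLocus,
      ← mem_zeroLocus_iff hU _ x hxU]
    exact Scheme.IdealSheafData.mem_support_iff_of_mem (U := ⟨U, hU⟩) hxU

end Groth.Agent.Lead.AnnSheaf
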