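import Mathlib
import Groth.Prelude.Def_Coh
import Groth.Prelude.Def_Dual3
import Groth.Agent.Lead.Thick1
import Groth.Agent.Helper4.SubSec
import Groth.Agent.Helper4.QcohEpi
import Groth.Agent.Helper4.QcohLocal
import Groth.Agent.Helper4.QcqsMod

/-!
# Affine dictionary for the submodule sheaves `I · F`

`secR a U` is the image of `a : A ⟶ F` on sections over `U`.  For quasi-coherent `F` and affine
`U` the sections of `Dual3.idealMul I F` over `U` are `I(U) · F(U)`.  Morphisms out of a
quasi-coherent module vanish as soon as they vanish on the sections over an affine cover.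
-/

set_option autoImplicit false
set_option linter.unusedSectionVars false
set_option linter.style.haveILetI false

open CategoryTheory Limits AlgebraicGeometry TopologicalSpace Opposite

universe u

namespace Groth.Agent.Lead.IdealMul

open Groth.Agent.Helper4 Groth.Agent.Lead.Thick

variable {X : Scheme.{u}}

/-- the image of `a` on sections over `U` -/
noncomputable abbrev secR {A F : X.Modules} (a : A ⟶ F) (U : X.Opens) :
    Submodule Γ(X, U) Γ(F, U) :=
  LinearMap.range (QcohEpi.appLin a U)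

theorem mem_secR {A F : X.Modules} (a : A ⟶ F) (U : X.Opens) (s : Γ(F, U)) :
    s ∈ secR a U ↔ ∃ t : Γ(A, U), a.app U t = s := by
  rw [LinearMap.mem_range]
  rfl

theorem app_mem_secR {A F : X.Modules} (a : A ⟶ F) (U : X.Opens) (t : Γ(A, U)) :
    a.app U t ∈ secR a U := (mem_secR a U _).mpr ⟨t, rfl⟩

theorem secR_comp {A B F : X.Modules} (f : A ⟶ B) (b : B ⟶ F) (U : X.Opens) :
    secR (f ≫ b) U = (secR f U).map (QcohEpi.appLin b U) := by
  ext s
  rw [mem_secR, Submodule.mem_map]
  constructor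
  · rintro ⟨t, rfl⟩
    exact ⟨f.app U t, app_mem_secR f U t, rfl⟩
  · rintro ⟨y, hy, rfl⟩
    obtain ⟨t, rfl⟩ := (mem_secR f U y).mp hy
    exact ⟨t, rfl⟩

theorem secR_comp_le {A B F : X.Modules} (f : A ⟶ B) (b : B ⟶ F) (U : X.Opens) :
    secR (f ≫ b) U ≤ secR b U := by
  intro s hs
  obtain ⟨t, rfl⟩ := (mem_secR _ U s).mp hs
  exact (mem_secR b U _).mpr ⟨f.app U t, rfl⟩

variable (I : X.IdealSheafData)

instance isQuasicoherent_idealMul (F : X.Modules) [F.IsQuasicoherent] :
    ((Dual3.idealMul I).obj F).IsQuasicoherent :=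
  inferInstanceAs (kernel (η I.subschemeι F)).IsQuasicoherent

/-- sections of `I · F` over an affine open are `I(U) · F(U)` -/
theorem secR_idealMulι (F : X.Modules) [F.IsQuasicoherent] {U : X.Opens} (hU : IsAffineOpen U) :
    secR (Dual3.idealMulι I F) U = I.ideal ⟨U, hU⟩ • (⊤ : Submodule Γ(X, U) Γ(F, U)) := by
  apply le_antisymm
  · intro s hs
    obtain ⟨t, rfl⟩ := (mem_secR _ U s).mp hs
    have h1 : (η I.subschemeι F).app U ((kernel.ι (η I.subschemeι F)).app U t) = 0 := by
      have := congrArg (fun φ => (Scheme.Modules.Hom.app φ U) t)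
        (kernel.condition (η I.subschemeι F))
      exact this
    have h2 := η_app_ker I.subschemeι F hU _ h1
    rw [I.ker_subschemeι_app ⟨U, hU⟩] at h2
    exact h2
  · rw [Submodule.smul_le]
    intro a ha m _
    rw [mem_secR]
    apply (SubSec.exists_kernel_section_iff (η I.subschemeι F) U (a • m)).mpr
    rw [Scheme.Modules.Hom.app_smul, QcqsMod.pushforward_smul]
    have h0 : (I.subschemeι.app U) a = 0 := by
      have : a ∈ RingHom.ker (I.subschemeι.app U).hom := by
        rw [I.ker_subschemeι_app ⟨U, hU⟩]; exact ha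
      exact this
    rw [h0, zero_smul]
    rfl

/-- a morphism out of a quasi-coherent module which vanishes on sections over the members of an
affine cover is zero -/
theorem eq_zero_of_cover {A C : X.Modules} [A.IsQuasicoherent] (g : A ⟶ C)
    (h : ∀ x : X, ∃ U : X.Opens, IsAffineOpen U ∧ x ∈ U ∧ ∀ m : Γ(A, U), g.app U m = 0) :
    g = 0 := by
  apply QcohLocal.eq_zero_of_stalkLin_eq_zero
  intro x t
  obtain ⟨U, hU, hx, hz⟩ := h x
  exact QcohLocal.stalkLin_eq_zero_of_app_eq_zero g hU
    (QcqsMod.isLocalizingOn_of_isAffineOpen A hU) hz x hx t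

/-- comparison of subobjects on an affine cover -/
theorem exists_factor_of_cover {A B F : X.Modules} [A.IsQuasicoherent] (a : A ⟶ F) (b : B ⟶ F)
    [Mono b]
    (h : ∀ x : X, ∃ U : X.Opens, IsAffineOpen U ∧ x ∈ U ∧ secR a U ≤ secR b U) :
    ∃ φ : A ⟶ B, φ ≫ b = a := by
  have h0 : a ≫ cokernel.π b = 0 := by
    apply eq_zero_of_cover
    intro x
    obtain ⟨U, hU, hx, hle⟩ := h x
    refine ⟨U, hU, hx, fun m => ?_⟩
    obtain ⟨t, ht⟩ := (mem_secR b U _).mp (hle (app_mem_secR a U m))
    change (cokernel.π b).app U (a.app U m) = 0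
    exact (SubSec.cokernel_π_app_eq_zero_iff b U _).mpr ⟨t, ht⟩
  have hS : (ShortComplex.mk b (cokernel.π b) (cokernel.condition b)).Exact :=
    ShortComplex.exact_of_g_is_cokernel _ (cokernelIsCokernel b)
  haveI : Mono (ShortComplex.mk b (cokernel.π b) (cokernel.condition b)).f :=
    inferInstanceAs (Mono b)
  exact ⟨hS.lift a h0, hS.lift_f a h0⟩

theorem exists_iso_of_cover {A B F : X.Modules} [A.IsQuasicoherent] [B.IsQuasicoherent]
    (a : A ⟶ F) (b : B ⟶ F) [Mono a] [Mono b]
    (h : ∀ x : X, ∃ U : X.Opens, IsAffineOpen U ∧ x ∈ U ∧ secR a U = secR b U) :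
    ∃ e : A ≅ B, e.hom ≫ b = a := by
  obtain ⟨φ, hφ⟩ := exists_factor_of_cover a b (fun x => by
    obtain ⟨U, hU, hx, he⟩ := h x
    exact ⟨U, hU, hx, he.le⟩)
  obtain ⟨ψ, hψ⟩ := exists_factor_of_cover b a (fun x => by
    obtain ⟨U, hU, hx, he⟩ := h x
    exact ⟨U, hU, hx, he.ge⟩)
  refine ⟨⟨φ, ψ, ?_, ?_⟩, hφ⟩
  · rw [← cancel_mono a, Category.assoc, hψ, hφ, Category.id_comp]
  · rw [← cancel_mono b, Category.assoc, hφ, hψ, Category.id_comp]

/-- the image of `I · G` under `f : G ⟶ F` on affine sections -/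
theorem secR_idealMulι_comp {G F : X.Modules} [G.IsQuasicoherent] (f : G ⟶ F) {U : X.Opens}
    (hU : IsAffineOpen U) :
    secR (Dual3.idealMulι I G ≫ f) U = I.ideal ⟨U, hU⟩ • secR f U := by
  rw [secR_comp, secR_idealMulι I G hU, Submodule.map_smul'', Submodule.map_top]

end Groth.Agent.Lead.IdealMul
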