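import Mathlib
import Groth.Agent.Lead.AnnSheaf
import Groth.Agent.Lead.IdealMulA
import Groth.Agent.Lead.IdealModDict
import Groth.Agent.Lead.HomShH
import Groth.Agent.Helper4.QcohEpi
import Groth.Agent.Helper4.QcohLimits
import Groth.Agent.Helper4.SubSec

/-!
# The ideal sheaf attached to a quasi-coherent submodule of the structure sheaf
-/

set_option autoImplicit false
set_option linter.unusedSectionVars false
set_option linter.style.haveILetI false
universe u
open CategoryTheory CategoryTheory.Limits AlgebraicGeometry TopologicalSpace Opposite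

namespace Groth.Agent.Lead.CartSec

open Groth.Agent.Helper4 Groth.Agent.Lead.IdealMul

variable {X : Scheme.{u}}

/-- a quasi-coherent submodule of `O_X` is the ideal module of an ideal sheaf -/
theorem exists_ideal_of_mono {A : X.Modules} [A.IsQuasicoherent] (i : A ⟶ Coh.structureModule X)
    [Mono i] :
    ∃ D : X.IdealSheafData,
      (∀ (U : X.affineOpens) (g : Γ(X, U.1)), g ∈ D.ideal U ↔
        ∃ a : Γ(A, U.1), i.app U.1 a = (show Γ(Coh.structureModule X, U.1) from g)) ∧
      ∃ e : ClSub.idealMod D ≅ A, e.hom ≫ i = ClSub.idealModι D := by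
  haveI hO : (Coh.structureModule X).IsQuasicoherent := (HomShH.isCoh_unit X).1
  have hQ : (cokernel i).IsQuasicoherent := QcohLimits.isQuasicoherent_cokernel i
  have h1 : Epi (cokernel.π i) := inferInstance
  have hft : SheafOfModules.IsFiniteType (R := X.ringCatSheaf) (cokernel i) :=
    @QcohEpi.isFiniteType_of_epi _ _ _ (cokernel.π i) h1 hO hQ (HomShH.isCoh_unit X).2
  obtain ⟨J, hJ, -, -, -⟩ := @AnnSheaf.main _ (cokernel i) hQ hft
  have hmem : ∀ (U : X.affineOpens) (g : Γ(X, U.1)), g ∈ J.ideal U ↔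
      ∃ a : Γ(A, U.1), i.app U.1 a = (show Γ(Coh.structureModule X, U.1) from g) := by
    intro U g
    rw [hJ U, Module.mem_annihilator]
    constructor
    · intro h
      have h1 := h ((cokernel.π i).app U.1
        (show Γ(Coh.structureModule X, U.1) from (1 : Γ(X, U.1))))
      rw [← Scheme.Modules.Hom.app_smul] at h1
      have h2 : g • (show Γ(Coh.structureModule X, U.1) from (1 : Γ(X, U.1))) =
          (show Γ(Coh.structureModule X, U.1) from g) := mul_one g
      rw [h2] at h1
      exact (SubSec.cokernel_π_app_eq_zero_iff i U.1 _).mp h1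
    · rintro ⟨a, ha⟩ m
      obtain ⟨r, rfl⟩ := @QcohEpi.app_surjective_of_epi _ _ _ (cokernel.π i) h1 hO hQ _ U.2 m
      rw [← Scheme.Modules.Hom.app_smul]
      apply (SubSec.cokernel_π_app_eq_zero_iff i U.1 _).mpr
      refine ⟨(show Γ(X, U.1) from r) • a, ?_⟩
      rw [Scheme.Modules.Hom.app_smul, ha]
      exact mul_comm (show Γ(X, U.1) from r) g
  refine ⟨J, hmem, ?_⟩
  obtain ⟨e, he⟩ := exists_iso_of_cover (ClSub.idealModι J) i (fun x => by
    obtain ⟨U, hU, hx⟩ := QcohLimits.exists_affine_nhd x
    refine ⟨U, hU, hx, ?_⟩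
    refine Submodule.ext (fun g => ?_)
    refine (mem_secR _ _ _).trans (Iff.trans ?_ (mem_secR _ _ _).symm)
    exact (IdealModDict.exists_section_iff J ⟨U, hU⟩ g).trans (hmem ⟨U, hU⟩ g))
  exact ⟨e, he⟩

end Groth.Agent.Lead.CartSec
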