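import Mathlib
import Groth.Prelude.Def_RefHull
import Groth.Prelude.Def_RefFun
import Groth.Prelude.Def_Pi1
import Groth.Prelude.Def_C1
import Groth.Agent.Lead.Ref1I
import Groth.Agent.Lead.Ref1J
import Groth.Agent.Lead.Ref1K

/-!
# The divisor of a global section of an invertible module
-/

set_option autoImplicit false
set_option linter.style.haveILetI false
set_option linter.unusedSectionVars false

universe u

open CategoryTheory CategoryTheory.Limits AlgebraicGeometry TopologicalSpace Opposite

namespace Groth.Agent.Lead.Ref1L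

open Groth.Agent.Helper4.StalkDict Groth.Agent.Helper4.QcqsMod Groth.Agent.Lead.Ref1I
  Groth.Agent.Lead.Ref1J Groth.Agent.Lead.Ref1D Groth.Agent.Lead.Ref1K

variable {X : Scheme.{u}}

/-- a spanning element of a free module of rank one is a basis -/
theorem isGen_of_span_eq_top [IsIntegral X] [IsLocallyNoetherian X] {F : X.Modules} {x : X} (hfr : FR1At F x) {t : F.presheaf.stalk x}
    (ht : Submodule.span (X.presheaf.stalk x) {t} = ⊤) : IsGen F x t := by
  obtain ⟨a, ha⟩ := hfr
  obtain ⟨b, hb⟩ : ∃ b : X.presheaf.stalk x, b • t = a :=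
    Submodule.mem_span_singleton.mp (ht ▸ Submodule.mem_top)
  obtain ⟨c, hc⟩ := ha.2 t
  have hc : c • a = t := hc
  have hbc : b * c = 1 := by
    apply ha.1
    change (b * c) • a = (1 : X.presheaf.stalk x) • a
    rw [mul_smul, hc, hb, one_smul]
  have hcu : IsUnit c := IsUnit.of_mul_eq_one b (by rw [mul_comm]; exact hbc)
  rw [← hc]
  exact isGen_unit_smul ha c hcu

section
variable [IsIntegral X] [IsLocallyNoetherian X]

theorem ord_eq_ordFrac (x : X) (hx : Order.coheight x = 1) (φ : X.functionField) :
    Scheme.ord φ x = CycAlg.ordFrac (X.presheaf.stalk x) X.functionField φ := by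
  haveI : Ring.KrullDimLE 1 (X.presheaf.stalk x) := krullDimLE_of_coheight_le hx.le
  rw [Groth.Agent.Helper6.Dim1.ordFrac_eq]
  by_cases hφ : φ = 0
  · subst hφ
    simp
  · rw [Scheme.ord_eq_unzero_ordHom hx hφ]
    have hne : Ring.ordFrac (X.presheaf.stalk x) φ ≠ 0 := (map_ne_zero _).mpr hφ
    obtain ⟨z, hz⟩ := WithZero.ne_zero_iff_exists.mp hne
    have h2 : Scheme.ordHom x hx φ = Ring.ordFrac (X.presheaf.stalk x) φ := rfl
    simp only [h2, ← hz, WithZero.recZeroCoe_coe, WithZero.unzero_coe]

end

/-- a point just below the generic point has codimension one -/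
theorem coheight_eq_one_of_isDimFun [IsIntegral X] (δ : X → ℤ) (hδ : Cyc.IsDimFun X δ) (x : X)
    (hx : δ x + 1 = δ (genericPoint X)) : Order.coheight x = 1 := by
  have hxη : x ≠ genericPoint X := by
    rintro rfl
    omega
  have hlt : x < genericPoint X := by
    refine ⟨genericPoint_specializes x, fun h => hxη ?_⟩
    exact (Specializes.antisymm h (genericPoint_specializes x)).eq
  have hη0 : Order.coheight (genericPoint X) = 0 := by
    rw [Order.coheight_eq_zero]
    intro b _
    exact genericPoint_specializes b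
  apply le_antisymm
  · rw [Order.coheight_eq_iSup_gt_coheight]
    apply iSup₂_le
    intro y hy
    have hyη : y = genericPoint X := by
      by_contra hne
      have h1 := (hδ (genericPoint X) y (genericPoint_specializes y) (Ne.symm hne)).1
      have hyx : y ≠ x := by
        rintro rfl
        exact lt_irrefl _ hy
      have h2 := (hδ y x hy.le hyx).1
      omega
    rw [hyη, hη0, zero_add]
  · have := Order.coheight_add_one_le hlt
    rwa [hη0, zero_add] at this


theorem s1923 (X : Scheme.{u}) [IsIntegral X] (δ : X → ℤ) (hX : Cyc.IsSetup X δ) (n : ℤ)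
    (hn : δ (genericPoint X) = n) (L : X.Modules) (hL : PicF.IsInvertible L)
    (s : L.presheaf.obj (Opposite.op ⊤))
    (hs : (L.presheaf.germ ⊤ (genericPoint X) trivial) s ≠ 0) :
    Cyc.secDivFun δ L (genericPoint X)
        (Submodule.Quotient.mk ((L.presheaf.germ ⊤ (genericPoint X) trivial) s)) =
      Cyc.zeroSectionFun δ (n - 1) L s := by
  haveI := hX.1
  have htf := isTorsionFree_of_fr1At L (fr1At_of_isInvertible L hL)
  haveI := (isCoh_of_isInvertible L hL).1
  funext x
  unfold Cyc.secDivFun Cyc.zeroSectionFun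
  by_cases hδ : δ x = n - 1
  · have hcond : genericPoint X ⤳ x ∧ δ x + 1 = δ (genericPoint X) :=
      ⟨genericPoint_specializes x, by omega⟩
    rw [dif_pos hcond, if_pos hδ]
    have hcx := coheight_eq_one_of_isDimFun δ hX.2.2 x hcond.2
    haveI : Ring.KrullDimLE 1 (X.presheaf.stalk x) := krullDimLE_of_coheight_le hcx.le
    have hfr := fr1At_of_isInvertible L hL x
    have hex1 : ∃ t : L.presheaf.stalk x, Submodule.span (X.presheaf.stalk x) {t} = ⊤ := by
      obtain ⟨a, ha⟩ := hfr
      exact ⟨a, IsGen.span_eq_top ha⟩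
    rw [dif_pos hex1]
    have ht₀ := Classical.choose_spec hex1
    generalize Classical.choose hex1 = t₀ at ht₀
    have hgen := isGen_of_span_eq_top hfr ht₀
    have hex2 : ∃ f : X.presheaf.stalk x, (L.presheaf.germ ⊤ x trivial) s = f • t₀ := by
      obtain ⟨f, hf⟩ := hgen.2 ((L.presheaf.germ ⊤ x trivial) s)
      exact ⟨f, hf.symm⟩
    rw [dif_pos hex2]
    have hf₀ := Classical.choose_spec hex2
    generalize Classical.choose hex2 = f₀ at hf₀
    have hspg : (L.presheaf.germ ⊤ (genericPoint X) trivial) s =
        algebraMap (X.presheaf.stalk x) X.functionField f₀ •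
          (L.presheaf.stalkSpecializes hcond.1).hom t₀ := by
      have h1 := Ref1H.sp_germ L hcond.1 (U := ⊤) trivial s
      rw [← h1]
      change (L.presheaf.stalkSpecializes hcond.1).hom ((L.presheaf.germ ⊤ x trivial) s) = _
      rw [hf₀, Ref1H.sp_smul]
      rfl
    have hf₀0 : f₀ ≠ 0 := by
      rintro rfl
      rw [map_zero, zero_smul] at hspg
      exact hs hspg
    rw [secOrdAt_eq L htf x hcx hcond.1 t₀ hgen _
      (algebraMap (X.presheaf.stalk x) X.functionField f₀) ?_, ord_eq_ordFrac x hcx,
      Groth.Agent.Helper6.Dim1.ordFrac_algebraMap hf₀0]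
    change mkη L ((L.presheaf.germ ⊤ (genericPoint X) trivial) s) = _
    rw [hspg, map_smul]
  · rw [if_neg hδ, dif_neg]
    rintro ⟨-, h2⟩
    omega

end Groth.Agent.Lead.Ref1L
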