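import Mathlib
import Groth.Prelude.Def_RefHull
import Groth.Prelude.Def_RefFun
import Groth.Prelude.Def_Pi1
import Groth.Prelude.Def_C1
import Groth.Agent.Lead.Ref1I
import Groth.Agent.Lead.Ref1J
import Groth.Agent.Lead.Ref1K
import Groth.Agent.Lead.Ref1L

/-!
# Local finiteness of the divisor of a rational section
-/

set_option autoImplicit false
set_option linter.style.haveILetI false
set_option linter.unusedSectionVars false

universe u

open CategoryTheory CategoryTheory.Limits AlgebraicGeometry TopologicalSpace Opposite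

namespace Groth.Agent.Lead.Ref1M

open Groth.Agent.Helper4.StalkDict Groth.Agent.Helper4.QcqsMod Groth.Agent.Lead.Ref1I
  Groth.Agent.Lead.Ref1J Groth.Agent.Lead.Ref1D Groth.Agent.Lead.Ref1K Groth.Agent.Lead.Ref1L

variable {X : Scheme.{u}}

/-- transport of generators along a semilinear bijection -/
theorem bijective_smul_of_semilinear {R M R' M' : Type*} [CommRing R] [AddCommGroup M]
    [Module R M] [CommRing R'] [AddCommGroup M'] [Module R' M']
    (σ : R ≃+* R') (e : M ≃+ M') (hsl : ∀ (r : R) (m : M), e (r • m) = σ r • e m) {t : M}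
    (ht : Function.Bijective (fun r : R => r • t)) :
    Function.Bijective (fun r' : R' => r' • e t) := by
  have : (fun r' : R' => r' • e t) = e ∘ (fun r : R => r • t) ∘ σ.symm := by
    funext r'
    change r' • e t = e (σ.symm r' • t)
    rw [hsl, RingEquiv.apply_symm_apply]
  rw [this]
  exact e.bijective.comp (ht.comp σ.symm.bijective)

/-- a trivialisation gives a local generator -/
theorem exists_generator_of_iso (F : X.Modules) (V : X.Opens)
    (i : F.restrict V.ι ≅ Coh.structureModule (V : Scheme.{u})) :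
    ∃ e : Γ(F, V.ι ''ᵁ ⊤), ∀ z : V,
      Function.Bijective (fun r : X.presheaf.stalk (V.ι z) =>
        r • F.presheaf.germ (V.ι ''ᵁ ⊤) (V.ι z) ⟨z, trivial, rfl⟩ e) := by
  let e₀ : Γ(F.restrict V.ι, ⊤) := i.inv.app ⊤ (Groth.Agent.Lead.WeakAss.toF (X := (V : Scheme.{u})) ⊤ 1)
  refine ⟨e₀, fun z => ?_⟩
  have h1 : Function.Bijective (fun r : (V : Scheme.{u}).presheaf.stalk z =>
      r • Groth.Agent.Lead.Hartogs2.unitEquiv (X := (V : Scheme.{u})) z 1) := by
    have h : (fun a : (V : Scheme.{u}).presheaf.stalk z =>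
        a • Groth.Agent.Lead.Hartogs2.unitEquiv (X := (V : Scheme.{u})) z 1) = Groth.Agent.Lead.Hartogs2.unitEquiv (X := (V : Scheme.{u})) z := by
      funext a
      rw [← map_smul, smul_eq_mul, mul_one]
    rw [h]
    exact (Groth.Agent.Lead.Hartogs2.unitEquiv (X := (V : Scheme.{u})) z).bijective
  have h2 := bijective_smul_map (RefHull.stalkMapₗ i.inv z)
    (HomShH.bijective_stalkMapₗ_of_isIso i.inv z) h1
  have h3 : RefHull.stalkMapₗ i.inv z (Groth.Agent.Lead.Hartogs2.unitEquiv (X := (V : Scheme.{u})) z 1) =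
      (F.restrict V.ι).presheaf.germ ⊤ z trivial e₀ := by
    have h1' : Groth.Agent.Lead.Hartogs2.unitEquiv (X := (V : Scheme.{u})) z 1 =
        (1 : (V : Scheme.{u}).presheaf.stalk z) •
          Groth.Agent.Lead.WeakAss.germF (X := (V : Scheme.{u})) ⊤ z trivial 1 := rfl
    rw [h1', one_smul]
    unfold Groth.Agent.Lead.WeakAss.germF
    rw [RefHull.stalkMapₗ_germ]
  rw [h3] at h2
  have h4 := bijective_smul_of_semilinear (ReflExtB.σ V z).symm (ReflExtB.e V F z)
    (fun r' m' => by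
      have := ReflExtB.hsl V F z ((ReflExtB.σ V z).symm r') m'
      rw [RingEquiv.apply_symm_apply] at this
      exact this) h2
  have h5 : ReflExtB.e V F z ((F.restrict V.ι).presheaf.germ ⊤ z trivial e₀) =
      F.presheaf.germ (V.ι ''ᵁ ⊤) (V.ι z) ⟨z, trivial, rfl⟩ e₀ :=
    Groth.Agent.Lead.FlatLib.rsHom_germ V.ι F z ⊤ trivial e₀
  rw [h5] at h4
  exact h4


section
variable [IsIntegral X] [IsLocallyNoetherian X]

/-- a rational function has nonzero order at only finitely many points of codimension one of a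
Noetherian open -/
theorem finite_ord_ne_zero (g : X.functionField) (hg : g ≠ 0) (N : X.Opens)
    (hN : NoetherianSpace (N : Set X)) :
    {x : X | x ∈ N ∧ Order.coheight x = 1 ∧ Scheme.ord g x ≠ 0}.Finite := by
  haveI := hN
  haveI : QuasiSober (N : Set X) := N.isOpen.isOpenEmbedding_subtypeVal.quasiSober
  obtain ⟨U, -, g', hne, hg', hunit⟩ := AlgebraicGeometry.exists_isUnit_germ_eq X g hg
  have hηU : genericPoint X ∈ U := Ref1D.genericPoint_mem U ⟨_, hne.some.2⟩
  let C : Set (N : Set X) := {y | y.1 ∉ U}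
  have hCc : IsClosed C := by
    have : C = (Subtype.val ⁻¹' (U : Set X))ᶜ := rfl
    rw [this, isClosed_compl_iff]
    exact U.isOpen.preimage continuous_subtype_val
  obtain ⟨S, hSf, hSc, hSi, hC⟩ := NoetherianSpace.exists_finite_set_isClosed_irreducible hCc
  have hsub : {x : X | x ∈ N ∧ Order.coheight x = 1 ∧ Scheme.ord g x ≠ 0} ⊆
      ⋃ t ∈ S, {x : X | ∃ hx : x ∈ N, IsGenericPoint (⟨x, hx⟩ : (N : Set X)) t} := by
    rintro x ⟨hxN, hcx, hord⟩
    have hxU : x ∉ U := by
      intro hxU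
      apply hord
      rw [← hg']
      exact Scheme.ord_of_isUnit hunit hxU
    have hxC : (⟨x, hxN⟩ : (N : Set X)) ∈ C := hxU
    rw [hC] at hxC
    obtain ⟨t, htS, hxt⟩ := hxC
    obtain ⟨y, hy⟩ := QuasiSober.sober (hSi t htS) (hSc t htS)
    have hyC : y ∈ C := by
      rw [hC]
      exact ⟨t, htS, hy.mem⟩
    have hyx : y.1 ⤳ x := (hy.specializes hxt).map continuous_subtype_val
    have hyeq : y.1 = x := by
      by_contra hne'
      have hlt : x < y.1 := by
        refine ⟨hyx, fun h => hne' ?_⟩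
        exact (Specializes.antisymm hyx h).eq
      have h1 := Order.coheight_add_one_le hlt
      rw [hcx] at h1
      have h0 : Order.coheight y.1 = 0 := by
        have : Order.coheight y.1 + 1 ≤ 0 + 1 := by simpa using h1
        have := (ENat.add_le_add_iff_right (by simp : (1 : ℕ∞) ≠ ⊤)).mp this
        exact le_antisymm this bot_le
      have hmax : IsMax y.1 := Order.coheight_eq_zero.mp h0
      have h2 : genericPoint X ≤ y.1 := hmax (genericPoint_specializes y.1)
      have hyη : y.1 = genericPoint X :=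
        (Specializes.antisymm h2 (genericPoint_specializes y.1)).eq
      exact hyC (hyη ▸ hηU)
    refine Set.mem_biUnion htS ⟨hxN, ?_⟩
    have : (⟨x, hxN⟩ : (N : Set X)) = y := Subtype.ext hyeq.symm
    rw [this]
    exact hy
  refine Set.Finite.subset (Set.Finite.biUnion hSf (fun t _ => ?_)) hsub
  apply Set.Subsingleton.finite
  rintro x ⟨hx, hgx⟩ x' ⟨hx', hgx'⟩
  have := hgx.eq hgx'
  exact congrArg Subtype.val this

end


theorem exists_generator_of_iso' (F : X.Modules) (V : X.Opens)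
    (i : F.restrict V.ι ≅ Coh.structureModule (V : Scheme.{u})) :
    ∃ e : Γ(F, V.ι ''ᵁ ⊤), ∀ (x : X) (hx : x ∈ V.ι ''ᵁ ⊤),
      Function.Bijective (fun r : X.presheaf.stalk x =>
        r • F.presheaf.germ (V.ι ''ᵁ ⊤) x hx e) := by
  obtain ⟨e, he⟩ := exists_generator_of_iso F V i
  refine ⟨e, ?_⟩
  rintro _ ⟨z, hz, rfl⟩
  exact he z

theorem s8923 (X : Scheme.{u}) [IsIntegral X] [IsLocallyNoetherian X] (L : X.Modules)
    (hL : PicF.IsInvertible L) (s : Cyc.secFibre L (genericPoint ↥X)) (hs : s ≠ 0) :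
    LocallyFinite (fun x : {x : ↥X // ringKrullDim ↑(X.presheaf.stalk x) = 1 ∧
        Cyc.secOrdAt L (genericPoint ↥X) x
          ((genericPoint_spec ↥X).specializes (Set.mem_univ x)) s ≠ 0} =>
      closure ({x.1} : Set ↥X)) := by
  obtain ⟨s', rfl⟩ := mkη_surjective L s
  have hs' : s' ≠ 0 := fun h0 => hs (by rw [h0, map_zero])
  have htf := isTorsionFree_of_fr1At L (fr1At_of_isInvertible L hL)
  haveI := (isCoh_of_isInvertible L hL).1
  intro z
  obtain ⟨V, hzV, ⟨i⟩⟩ := hL z
  obtain ⟨e, he⟩ := exists_generator_of_iso' L V i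
  have hzN₀ : z ∈ V.ι ''ᵁ ⊤ := ⟨⟨z, hzV⟩, trivial, rfl⟩
  obtain ⟨_, ⟨N, hN : IsAffineOpen N, rfl⟩, hzN, hNle⟩ :=
    X.isBasis_affineOpens.exists_subset_of_mem_open hzN₀ (V.ι ''ᵁ ⊤).isOpen
  haveI : IsNoetherianRing Γ(X, N) := IsLocallyNoetherian.component_noetherian ⟨N, hN⟩
  have hNoeth : NoetherianSpace (N : Set X) := noetherianSpace_of_isAffineOpen N hN
  refine ⟨N, N.isOpen.mem_nhds hzN, ?_⟩
  have hηN₀ : genericPoint X ∈ V.ι ''ᵁ ⊤ := Ref1D.genericPoint_mem _ ⟨z, hzN₀⟩
  obtain ⟨g, hg⟩ := (he _ hηN₀).2 s'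
  have hg : g • L.presheaf.germ (V.ι ''ᵁ ⊤) (genericPoint X) hηN₀ e = s' := hg
  have hg0 : g ≠ 0 := by
    rintro rfl
    rw [zero_smul] at hg
    exact hs' hg.symm
  have hfin := finite_ord_ne_zero (g : X.functionField) hg0 N hNoeth
  refine (hfin.preimage Subtype.val_injective.injOn).subset ?_
  rintro ⟨x, hx1, hxord⟩ ⟨y, hyc, hyN⟩
  have hxN : x ∈ N := by
    obtain ⟨w, hwN, hwx⟩ := mem_closure_iff.mp hyc N N.isOpen hyN
    have hwx' : w = x := hwx
    rw [← hwx']
    exact hwN
  have hcx := Ref1J.coheight_eq_one_of_dim hx1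
  refine ⟨hxN, hcx, ?_⟩
  have hxN₀ : x ∈ V.ι ''ᵁ ⊤ := hNle hxN
  rw [secOrdAt_eq L htf x hcx _ _ (he x hxN₀) _ g (by
    rw [Ref1H.sp_germ, ← map_smul, hg])] at hxord
  exact hxord

end Groth.Agent.Lead.Ref1M
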