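import Mathlib
import Groth.Prelude.Def_RefHull
import Groth.Prelude.Def_RefFun
import Groth.Prelude.Def_Pi1
import Groth.Prelude.Def_C1
import Groth.Agent.Lead.Ref1I
import Groth.Agent.Lead.Ref1J
import Groth.Agent.Lead.Ref1K
import Groth.Agent.Lead.Ref1L
import Groth.Agent.Lead.Ref1M

/-!
# The divisor of a rational section of a rank one reflexive module is a Weil divisor
-/

set_option autoImplicit false
set_option linter.style.haveILetI false
set_option linter.unusedSectionVars false

universe u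

open CategoryTheory CategoryTheory.Limits AlgebraicGeometry TopologicalSpace Opposite

namespace Groth.Agent.Lead.Ref1N

open Groth.Agent.Helper4.StalkDict Groth.Agent.Helper4.QcqsMod Groth.Agent.Lead.Ref1I
  Groth.Agent.Lead.Ref1J Groth.Agent.Lead.Ref1D Groth.Agent.Lead.Ref1K Groth.Agent.Lead.Ref1L
  Groth.Agent.Lead.Ref1M

variable {X : Scheme.{u}} [IsIntegral X] [IsLocallyNoetherian X]

/-- a Noetherian open contains only finitely many points of codimension one outside a given
nonempty open -/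
theorem finite_codim_one_compl (U : X.Opens) (hU : (U : Set X).Nonempty) (N : X.Opens)
    (hN : NoetherianSpace (N : Set X)) :
    {x : X | x ∈ N ∧ Order.coheight x = 1 ∧ x ∉ U}.Finite := by
  haveI := hN
  haveI : QuasiSober (N : Set X) := N.isOpen.isOpenEmbedding_subtypeVal.quasiSober
  have hηU : genericPoint X ∈ U := Ref1D.genericPoint_mem U hU
  let C : Set (N : Set X) := {y | y.1 ∉ U}
  have hCc : IsClosed C := by
    have : C = (Subtype.val ⁻¹' (U : Set X))ᶜ := rfl
    rw [this, isClosed_compl_iff]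
    exact U.isOpen.preimage continuous_subtype_val
  obtain ⟨S, hSf, hSc, hSi, hC⟩ := NoetherianSpace.exists_finite_set_isClosed_irreducible hCc
  have hsub : {x : X | x ∈ N ∧ Order.coheight x = 1 ∧ x ∉ U} ⊆
      ⋃ t ∈ S, {x : X | ∃ hx : x ∈ N, IsGenericPoint (⟨x, hx⟩ : (N : Set X)) t} := by
    rintro x ⟨hxN, hcx, hxU⟩
    have hxC : (⟨x, hxN⟩ : (N : Set X)) ∈ C := hxU
    rw [hC] at hxC
    obtain ⟨t, htS, hxt⟩ := hxC
    obtain ⟨y, hy⟩ := QuasiSober.sober (hSi t htS) (hSc t htS)
    have hyC : y ∈ C := by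
      rw [hC]
      exact ⟨t, htS, hy.mem⟩
    have hyx : y.1 ⤳ x := (hy.specializes hxt).map continuous_subtype_val
    have hyeq : y.1 = x := by
      by_contra hne'
      have hlt : x < y.1 := by
        refine ⟨hyx, fun h => hne' ?_⟩
        exact (Specializes.antisymm hyx h).eq
      have h1 := Order.coheight_add_one_le hlt
      rw [hcx] at h1
      have h0 : Order.coheight y.1 = 0 := by
        have : Order.coheight y.1 + 1 ≤ 0 + 1 := by simpa using h1
        have := (ENat.add_le_add_iff_right (by simp : (1 : ℕ∞) ≠ ⊤)).mp this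
        exact le_antisymm this bot_le
      have hmax : IsMax y.1 := Order.coheight_eq_zero.mp h0
      have h2 : genericPoint X ≤ y.1 := hmax (genericPoint_specializes y.1)
      have hyη : y.1 = genericPoint X :=
        (Specializes.antisymm h2 (genericPoint_specializes y.1)).eq
      exact hyC (hyη ▸ hηU)
    refine Set.mem_biUnion htS ⟨hxN, ?_⟩
    have : (⟨x, hxN⟩ : (N : Set X)) = y := Subtype.ext hyeq.symm
    rw [this]
    exact hy
  refine Set.Finite.subset (Set.Finite.biUnion hSf (fun t _ => ?_)) hsub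
  apply Set.Subsingleton.finite
  rintro x ⟨hx, hgx⟩ x' ⟨hx', hgx'⟩
  have := hgx.eq hgx'
  exact congrArg Subtype.val this

open Classical in
/-- **the divisor of a nonzero rational section of a rank one reflexive module** -/
theorem exists_cycle_of_section (hX : Pi1.IsNormalScheme X) (F : X.Modules)
    (hF : RefHull.IsRef1 F) (s : Cyc.secFibre F (genericPoint X)) (hs : s ≠ 0) :
    ∃ D : AlgebraicCycle X ℤ, (∀ x : X, Order.coheight x ≠ 1 → D x = 0) ∧
      ∀ x : X, Order.coheight x = 1 → D x = Cyc.secOrdAt F (genericPoint X) x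
        ((genericPoint_spec X).specializes (Set.mem_univ x)) s := by
  obtain ⟨s', rfl⟩ := mkη_surjective F s
  have hs' : s' ≠ 0 := fun h0 => hs (by rw [h0, map_zero])
  have htf := Ref1H.isTorsionFree_of_isReflexive F hF.1 hF.2.1
  haveI := hF.1.1
  have hFP := Groth.Agent.Helper4.CohFP.isFP_of_isCoh F hF.1.1 hF.1.2
  let f : X → ℤ := fun x => if Order.coheight x = 1 then
    Cyc.secOrdAt F (genericPoint X) x ((genericPoint_spec X).specializes (Set.mem_univ x))
      (mkη F s') else 0
  -- a trivialisation near the generic point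
  obtain ⟨V, hηV, ⟨i⟩⟩ := Ref1D.exists_iso_unit_of_fr1At F hFP (genericPoint X)
    (Ref1D.fr1At_of_isRef1 hX F hF _ dim_generic_le_one)
  obtain ⟨e, he⟩ := exists_generator_of_iso' F V i
  have hηV₀ : genericPoint X ∈ V.ι ''ᵁ ⊤ := ⟨⟨_, hηV⟩, trivial, rfl⟩
  obtain ⟨g, hg⟩ := (he _ hηV₀).2 s'
  have hg : g • F.presheaf.germ (V.ι ''ᵁ ⊤) (genericPoint X) hηV₀ e = s' := hg
  have hg0 : g ≠ 0 := by
    rintro rfl
    rw [zero_smul] at hg
    exact hs' hg.symm
  have hlf : ∀ z ∈ (Set.univ : Set X), ∃ t ∈ nhds z, Set.Finite (t ∩ f.support) := by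
    intro z _
    obtain ⟨N, hzN, hN⟩ := ReflExtC.exists_noetherian_nhd z
    refine ⟨N, N.isOpen.mem_nhds hzN, ?_⟩
    have h1 := finite_codim_one_compl (V.ι ''ᵁ ⊤) ⟨_, hηV₀⟩ N hN
    have h2 := finite_ord_ne_zero (g : X.functionField) hg0 N hN
    refine (h1.union h2).subset ?_
    rintro x ⟨hxN, hxf⟩
    have hxf : f x ≠ 0 := hxf
    by_cases hcx : Order.coheight x = 1
    · have hfx : f x = Cyc.secOrdAt F (genericPoint X) x
          ((genericPoint_spec X).specializes (Set.mem_univ x)) (mkη F s') := if_pos hcx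
      by_cases hxV : x ∈ V.ι ''ᵁ ⊤
      · right
        refine ⟨hxN, hcx, ?_⟩
        rw [hfx, secOrdAt_eq F htf x hcx _ _ (he x hxV) _ g (by
          rw [Ref1H.sp_germ, ← map_smul, hg])] at hxf
        exact hxf
      · left
        exact ⟨hxN, hcx, hxV⟩
    · exact absurd (if_neg hcx) hxf
  refine ⟨⟨f, fun _ _ => trivial, hlf⟩, ?_, ?_⟩
  · intro x hx
    exact if_neg hx
  · intro x hx
    exact if_pos hx

end Groth.Agent.Lead.Ref1N
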