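import Mathlib
import Groth.Prelude.Def_RefHull
import Groth.Prelude.Def_Pi1
import Groth.Prelude.Def_ClSub2

/-!
# The ideal sheaf of an effective Weil divisor
-/

set_option autoImplicit false
set_option linter.style.haveILetI false
set_option linter.unusedSectionVars false

universe u

open CategoryTheory CategoryTheory.Limits AlgebraicGeometry TopologicalSpace Opposite

namespace Groth.Agent.Lead.WDivA

variable {X : Scheme.{u}} (D : X → ℕ)

/-- the ideal of the functions vanishing to order `D x` at every point `x` -/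
noncomputable def idl (U : X.Opens) : Ideal Γ(X, U) :=
  ⨅ x : U, Ideal.comap (X.presheaf.germ U x.1 x.2).hom
    (IsLocalRing.maximalIdeal (X.presheaf.stalk x.1) ^ D x.1)

theorem mem_idl {U : X.Opens} (h : Γ(X, U)) :
    h ∈ idl D U ↔ ∀ (x : X) (hx : x ∈ U),
      X.presheaf.germ U x hx h ∈ IsLocalRing.maximalIdeal (X.presheaf.stalk x) ^ D x := by
  unfold idl
  rw [Ideal.mem_iInf]
  constructor
  · intro H x hx
    exact H ⟨x, hx⟩
  · intro H x
    exact H x.1 x.2

theorem res_mem_idl {U V : X.Opens} (hVU : V ≤ U) (h : Γ(X, U)) (hh : h ∈ idl D U) :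
    X.presheaf.map (homOfLE hVU).op h ∈ idl D V := by
  rw [mem_idl] at hh ⊢
  intro x hx
  rw [TopCat.Presheaf.germ_res_apply]
  exact hh x (hVU hx)

/-- local finiteness gives a bound on compact sets -/
theorem exists_bound (hlf : ∀ z : X, ∃ t ∈ nhds z, (t ∩ D.support).Finite) (K : Set X)
    (hK : IsCompact K) : ∃ m : ℕ, ∀ x ∈ K, D x ≤ m := by
  have hfin : (K ∩ D.support).Finite := by
    choose t ht htf using hlf
    obtain ⟨T, hT⟩ := hK.elim_nhds_subcover t (fun z _ => ht z)
    refine Set.Finite.subset (Set.Finite.biUnion T.finite_toSet (fun z _ => htf z)) ?_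
    rintro x ⟨hxK, hxs⟩
    obtain ⟨z, hzT, hxz⟩ := Set.mem_iUnion₂.mp (hT.2 hxK)
    exact Set.mem_biUnion hzT ⟨hxz, hxs⟩
  refine ⟨hfin.toFinset.sup D, fun x hx => ?_⟩
  by_cases h0 : D x = 0
  · rw [h0]; exact Nat.zero_le _
  · exact Finset.le_sup (f := D) (hfin.mem_toFinset.mpr ⟨hx, h0⟩)


theorem map_idl_basicOpen (hlf : ∀ z : X, ∃ t ∈ nhds z, (t ∩ D.support).Finite)
    (U : X.affineOpens) (f : Γ(X, U)) :
    (idl D U.1).map (X.presheaf.map (homOfLE <| X.basicOpen_le f).op).hom =
      idl D (X.affineBasicOpen f).1 := by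
  apply le_antisymm
  · rw [Ideal.map_le_iff_le_comap]
    intro h hh
    exact res_mem_idl D _ h hh
  · intro g hg
    haveI := U.2.isLocalization_basicOpen f
    obtain ⟨⟨h, ⟨_, n, rfl⟩⟩, hgh⟩ := IsLocalization.surj (Submonoid.powers f) g
    have hgh : g * (X.presheaf.map (homOfLE <| X.basicOpen_le f).op).hom (f ^ n) =
        (X.presheaf.map (homOfLE <| X.basicOpen_le f).op).hom h := hgh
    obtain ⟨m, hm⟩ := exists_bound D hlf U.1 U.2.isCompact
    have hmem : f ^ m * h ∈ idl D U.1 := by
      rw [mem_idl]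
      intro x hx
      by_cases hxf : x ∈ X.basicOpen f
      · have h1 : X.presheaf.germ U.1 x hx h =
            X.presheaf.germ (X.basicOpen f) x hxf g * (X.presheaf.germ U.1 x hx f) ^ n := by
          have h2 := congrArg (X.presheaf.germ (X.basicOpen f) x hxf) hgh
          rw [map_mul, TopCat.Presheaf.germ_res_apply, TopCat.Presheaf.germ_res_apply,
            map_pow] at h2
          exact h2.symm
        rw [map_mul, h1]
        apply Ideal.mul_mem_left
        apply Ideal.mul_mem_right
        exact (mem_idl D g).mp hg x hxf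
      · have hnu : ¬ IsUnit (X.presheaf.germ U.1 x hx f) :=
          fun hu => hxf ((X.mem_basicOpen f x hx).mpr hu)
        have hfm : X.presheaf.germ U.1 x hx f ∈
            IsLocalRing.maximalIdeal (X.presheaf.stalk x) :=
          (IsLocalRing.mem_maximalIdeal _).mpr hnu
        rw [map_mul, map_pow]
        apply Ideal.mul_mem_right
        exact Ideal.pow_le_pow_right (hm x hx) (Ideal.pow_mem_pow hfm m)
    have hu : IsUnit ((X.presheaf.map (homOfLE <| X.basicOpen_le f).op).hom f) :=
      IsLocalization.Away.algebraMap_isUnit f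
    obtain ⟨w, hw⟩ := hu
    have hg' : g = ↑(w⁻¹ ^ (n + m)) *
        (X.presheaf.map (homOfLE <| X.basicOpen_le f).op).hom (f ^ m * h) := by
      rw [map_mul, ← hgh, map_pow, map_pow, ← hw]
      have : (↑w⁻¹ : Γ(X, X.basicOpen f)) ^ (n + m) * ((↑w : Γ(X, X.basicOpen f)) ^ m *
          (g * (↑w : Γ(X, X.basicOpen f)) ^ n)) =
          g * ((↑w⁻¹ : Γ(X, X.basicOpen f)) * ↑w) ^ (n + m) := by ring
      rw [Units.val_pow_eq_pow_val, this, Units.inv_mul, one_pow, mul_one]
    rw [hg']
    exact Ideal.mul_mem_left _ _ (Ideal.mem_map_of_mem _ hmem)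

/-- **the ideal sheaf of an effective divisor** -/
noncomputable def idealSheaf (hlf : ∀ z : X, ∃ t ∈ nhds z, (t ∩ D.support).Finite) :
    X.IdealSheafData where
  ideal U := idl D U.1
  map_ideal_basicOpen U f := map_idl_basicOpen D hlf U f

end Groth.Agent.Lead.WDivA
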