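import Mathlib
import Groth.Prelude.Def_RefHull
import Groth.Prelude.Def_Pi1
import Groth.Prelude.Def_ClSub2
import Groth.Agent.Lead.WDivA
import Groth.Agent.Lead.IdealModDict
import Groth.Agent.Lead.Ref1I
import Groth.Agent.Lead.Ref1J
import Groth.Agent.Lead.Ref1K
import Groth.Agent.Lead.Ref1L
import Groth.Agent.Lead.Ref1M
import Groth.Agent.Lead.Ref1N

/-!
# The ideal sheaf of an effective Weil divisor: coherence and stalks in codimension one
-/

set_option autoImplicit false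
set_option linter.style.haveILetI false
set_option linter.unusedSectionVars false

universe u

open CategoryTheory CategoryTheory.Limits AlgebraicGeometry TopologicalSpace Opposite

namespace Groth.Agent.Lead.WDivB

open Groth.Agent.Lead.WDivA Groth.Agent.Lead.Ref1I Groth.Agent.Lead.Ref1J
  Groth.Agent.Lead.Ref1D Groth.Agent.Lead.WeakAss

variable {X : Scheme.{u}}

/-- germs of sections of the structure module -/
theorem germ_toF {U : X.Opens} (y : X) (hy : y ∈ U) (h : Γ(X, U)) :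
    (Coh.structureModule X).presheaf.germ U y hy (toF U h) =
      Groth.Agent.Lead.Hartogs2.unitEquiv y (X.presheaf.germ U y hy h) := by
  have h1 : Groth.Agent.Lead.Hartogs2.unitEquiv y (X.presheaf.germ U y hy h) =
      X.presheaf.germ U y hy h • germF ⊤ y trivial 1 := rfl
  have h2 : germF ⊤ y trivial (1 : Γ(X, ⊤)) = germF U y hy 1 := by
    rw [← germF_res (homOfLE (le_top : U ≤ ⊤)) y hy (1 : Γ(X, ⊤)), map_one]
  rw [h1, h2, germF_smul, mul_one]
  rfl

theorem stalkMapₗ_injective_of_mono {M N : X.Modules} (ι : M ⟶ N) [Mono ι] (x : X) :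
    Function.Injective (RefHull.stalkMapₗ ι x) := by
  have h := TopCat.Presheaf.stalkFunctor_map_injective_of_app_injective
    (F := M.presheaf) (G := N.presheaf) (f := ι.mapPresheaf)
    (fun U => Groth.Agent.Helper4.AffineDict.app_injective_of_mono ι U) x
  exact h


section
variable [IsIntegral X] [IsLocallyNoetherian X]

theorem coheight_le_one_of_dim {y : X} (hy : ringKrullDim (X.presheaf.stalk y) ≤ 1) :
    Order.coheight y ≤ 1 := by
  rw [ringKrullDim_stalk_eq_coheight] at hy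
  exact_mod_cast hy

variable (D : X → ℕ)

/-- near a point of codimension at most one, the divisor is concentrated at the point -/
theorem exists_nhd_eq_zero (hsupp : ∀ x : X, Order.coheight x ≠ 1 → D x = 0)
    (hlf : ∀ z : X, ∃ t ∈ nhds z, (t ∩ D.support).Finite) (y : X)
    (hy : Order.coheight y ≤ 1) :
    ∃ W : X.Opens, y ∈ W ∧ ∀ x ∈ W, x ≠ y → D x = 0 := by
  obtain ⟨t, ht, htf⟩ := hlf y
  obtain ⟨t', ht't, ht'o, hyt'⟩ := mem_nhds_iff.mp ht
  have hfin : ((t ∩ D.support) \ {y}).Finite := htf.subset Set.diff_subset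
  let C : Set X := ⋃ x' ∈ (t ∩ D.support) \ {y}, closure {x'}
  have hCc : IsClosed C := hfin.isClosed_biUnion (fun _ _ => isClosed_closure)
  have hyC : y ∉ C := by
    intro hyC
    obtain ⟨x', ⟨⟨-, hx's⟩, hx'y⟩, hyx'⟩ := Set.mem_iUnion₂.mp hyC
    have hx'y : x' ≠ y := hx'y
    have hsp : x' ⤳ y := specializes_iff_mem_closure.mpr hyx'
    have hc1 : Order.coheight x' = 1 := by
      by_contra hne
      exact hx's (hsupp x' hne)
    have hlt : y < x' := by
      refine ⟨hsp, fun h => hx'y ?_⟩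
      exact (Specializes.antisymm hsp h).eq
    have h1 := Order.coheight_add_one_le hlt
    rw [hc1] at h1
    have h2 : (1 : ℕ∞) + 1 ≤ 1 := h1.trans hy
    exact absurd h2 (by decide)
  refine ⟨⟨t' ∩ Cᶜ, ht'o.inter hCc.isOpen_compl⟩, ⟨hyt', hyC⟩, ?_⟩
  rintro x ⟨hxt', hxC⟩ hxy
  by_contra hDx
  apply hxC
  exact Set.mem_biUnion (⟨⟨ht't hxt', hDx⟩, hxy⟩ : x ∈ (t ∩ D.support) \ {y})
    (subset_closure rfl)


omit [IsIntegral X] [IsLocallyNoetherian X] in
theorem dim_ne_one_of_coheight {y : X} (h : ringKrullDim (X.presheaf.stalk y) ≠ 1) :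
    Order.coheight y ≠ 1 := by
  intro h1
  apply h
  rw [ringKrullDim_stalk_eq_coheight, h1]
  rfl

/-- a uniformizing datum at a point of codimension at most one -/
theorem exists_uniformizer (hX : Pi1.IsNormalScheme X) (y : X) (k : ℕ)
    (hk : ringKrullDim (X.presheaf.stalk y) ≠ 1 → k = 0) :
    ∃ ϖ : X.presheaf.stalk y, ϖ ≠ 0 ∧
      Ideal.span {ϖ ^ k} = IsLocalRing.maximalIdeal (X.presheaf.stalk y) ^ k ∧
      (ringKrullDim (X.presheaf.stalk y) = 1 → Irreducible ϖ) := by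
  by_cases h1 : ringKrullDim (X.presheaf.stalk y) = 1
  · haveI := Ref1J.isDiscreteValuationRing_stalk hX y h1
    obtain ⟨ϖ, hϖ⟩ := IsDiscreteValuationRing.exists_irreducible (X.presheaf.stalk y)
    refine ⟨ϖ, hϖ.ne_zero, ?_, fun _ => hϖ⟩
    rw [hϖ.maximalIdeal_eq, Ideal.span_singleton_pow]
  · refine ⟨1, one_ne_zero, ?_, fun h => absurd h h1⟩
    rw [hk h1, pow_zero, pow_zero, Ideal.span_singleton_one, Ideal.one_eq_top]

/-- **the stalks of the ideal sheaf of an effective divisor at the points of codimension at most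
one** -/
theorem exists_gen (hX : Pi1.IsNormalScheme X)
    (hsupp : ∀ x : X, Order.coheight x ≠ 1 → D x = 0)
    (hlf : ∀ z : X, ∃ t ∈ nhds z, (t ∩ D.support).Finite) (y : X)
    (hy : ringKrullDim (X.presheaf.stalk y) ≤ 1) :
    ∃ (t : (ClSub.idealMod (idealSheaf D hlf)).presheaf.stalk y) (ϖ : X.presheaf.stalk y),
      IsGen (ClSub.idealMod (idealSheaf D hlf)) y t ∧
      RefHull.stalkMapₗ (ClSub.idealModι (idealSheaf D hlf)) y t =
        Groth.Agent.Lead.Hartogs2.unitEquiv y (ϖ ^ D y) ∧ ϖ ≠ 0 ∧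
      (ringKrullDim (X.presheaf.stalk y) = 1 → Irreducible ϖ) := by
  obtain ⟨ϖ, hϖ0, hϖspan, hϖirr⟩ := exists_uniformizer hX y (D y)
    (fun h => hsupp y (dim_ne_one_of_coheight h))
  obtain ⟨W, hyW, hW⟩ := exists_nhd_eq_zero D hsupp hlf y (coheight_le_one_of_dim hy)
  obtain ⟨V, hyV, a, ha⟩ := TopCat.Presheaf.exists_germ_eq X.presheaf ϖ
  obtain ⟨_, ⟨U, hU : IsAffineOpen U, rfl⟩, hyU, hUle⟩ :=
    X.isBasis_affineOpens.exists_subset_of_mem_open (⟨hyV, hyW⟩ : y ∈ (V ⊓ W : X.Opens))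
      (V ⊓ W).isOpen
  let a' : Γ(X, U) := X.presheaf.map (homOfLE (fun x hx => (hUle hx).1 : U ≤ V)).op a
  have ha' : X.presheaf.germ U y hyU a' = ϖ := by
    rw [← ha]
    exact TopCat.Presheaf.germ_res_apply X.presheaf _ y hyU a
  let h : Γ(X, U) := a' ^ D y
  have hgh : X.presheaf.germ U y hyU h = ϖ ^ D y := by
    rw [map_pow, ha']
  have hmem : h ∈ (idealSheaf D hlf).ideal ⟨U, hU⟩ := by
    change h ∈ idl D U
    rw [mem_idl]
    intro x hx
    by_cases hxy : x = y
    · subst hxy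
      rw [hgh, ← hϖspan]
      exact Ideal.subset_span rfl
    · rw [hW x (hUle hx).2 hxy, pow_zero, Ideal.one_eq_top]
      trivial
  obtain ⟨t, ht⟩ := (IdealModDict.exists_section_iff (idealSheaf D hlf) ⟨U, hU⟩ h).mpr hmem
  have hc0 : ϖ ^ D y ≠ 0 := pow_ne_zero _ hϖ0
  have hinj := stalkMapₗ_injective_of_mono (ClSub.idealModι (idealSheaf D hlf)) y
  have hιt : RefHull.stalkMapₗ (ClSub.idealModι (idealSheaf D hlf)) y
      ((ClSub.idealMod (idealSheaf D hlf)).presheaf.germ U y hyU t) =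
      Groth.Agent.Lead.Hartogs2.unitEquiv y (ϖ ^ D y) := by
    rw [RefHull.stalkMapₗ_germ, ht, ← hgh]
    exact germ_toF y hyU h
  refine ⟨_, ϖ, ⟨?_, ?_⟩, hιt, hϖ0, hϖirr⟩
  · intro r r' hrr'
    have h1 : RefHull.stalkMapₗ (ClSub.idealModι (idealSheaf D hlf)) y
        (r • (ClSub.idealMod (idealSheaf D hlf)).presheaf.germ U y hyU t) =
        RefHull.stalkMapₗ (ClSub.idealModι (idealSheaf D hlf)) y
        (r' • (ClSub.idealMod (idealSheaf D hlf)).presheaf.germ U y hyU t) := congrArg _ hrr'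
    rw [map_smul, map_smul, hιt, ← map_smul, ← map_smul] at h1
    have h2 := (Groth.Agent.Lead.Hartogs2.unitEquiv y).injective h1
    exact mul_right_cancel₀ hc0 h2
  · intro m
    obtain ⟨V', hyV', t', rfl⟩ := TopCat.Presheaf.exists_germ_eq
      (ClSub.idealMod (idealSheaf D hlf)).presheaf m
    obtain ⟨_, ⟨U', hU' : IsAffineOpen U', rfl⟩, hyU', hU'le⟩ :=
      X.isBasis_affineOpens.exists_subset_of_mem_open (⟨hyV', hyU⟩ : y ∈ (V' ⊓ U : X.Opens))
        (V' ⊓ U).isOpen
    let t'' : Γ(ClSub.idealMod (idealSheaf D hlf), U') :=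
      (ClSub.idealMod (idealSheaf D hlf)).presheaf.map
        (homOfLE (fun x hx => (hU'le hx).1 : U' ≤ V')).op t'
    have ht'' : (ClSub.idealMod (idealSheaf D hlf)).presheaf.germ U' y hyU' t'' =
        (ClSub.idealMod (idealSheaf D hlf)).presheaf.germ V' y hyV' t' :=
      TopCat.Presheaf.germ_res_apply _ _ y hyU' t'
    let h'' : Γ(X, U') := (ClSub.idealModι (idealSheaf D hlf)).app U' t''
    have hmem'' : h'' ∈ (idealSheaf D hlf).ideal ⟨U', hU'⟩ :=
      (IdealModDict.exists_section_iff (idealSheaf D hlf) ⟨U', hU'⟩ h'').mp ⟨t'', rfl⟩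
    have hmem2 : X.presheaf.germ U' y hyU' h'' ∈
        IsLocalRing.maximalIdeal (X.presheaf.stalk y) ^ D y :=
      (mem_idl D h'').mp hmem'' y hyU'
    rw [← hϖspan] at hmem2
    obtain ⟨r, hr⟩ := Ideal.mem_span_singleton'.mp hmem2
    refine ⟨r, ?_⟩
    apply hinj
    change RefHull.stalkMapₗ _ y (r • _) = _
    rw [map_smul, hιt, ← ht'', RefHull.stalkMapₗ_germ, ← map_smul, smul_eq_mul, hr]
    exact (germ_toF y hyU' h'').symm

end

end Groth.Agent.Lead.WDivB
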