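import Mathlib
import Groth.Agent.Lead.CartSecA
import Groth.Agent.Lead.Ref1B
import Groth.Agent.Lead.Ref1G
import Groth.Agent.Lead.WDivB
import Groth.Agent.Lead.WeakAss
import Groth.Agent.Helper4.AssMono
import Groth.Agent.Helper4.GenLocIso

/-!
# Stalkwise tools for sections of invertible modules
-/

set_option autoImplicit false
set_option linter.unusedSectionVars false
set_option linter.style.haveILetI false
universe u
open CategoryTheory CategoryTheory.Limits AlgebraicGeometry TopologicalSpace Opposite
  MonoidalCategory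

namespace Groth.Agent.Lead.CartSec

open Groth.Agent.Helper4 Groth.Agent.Helper9.SkyMod4 Groth.Agent.Helper9.SkyMod5
  Groth.Agent.Helper9.StalkTensor8

variable {X : Scheme.{u}}

/-- the unit germ of the structure module -/
noncomputable def oneGerm (x : X) : (Coh.structureModule X).presheaf.stalk x :=
  WeakAss.germF ⊤ x trivial 1

theorem germF_eq_smul_oneGerm (U : X.Opens) (x : X) (hx : x ∈ U) (s : Γ(X, U)) :
    WeakAss.germF U x hx s = X.presheaf.germ U x hx s • oneGerm x := by
  have h1 : oneGerm x = WeakAss.germF U x hx 1 := by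
    unfold oneGerm
    rw [← WeakAss.germF_res (homOfLE le_top : U ⟶ ⊤) x hx 1, map_one]
  rw [h1, WeakAss.germF_smul, mul_one]

/-- the stalk of the structure module is the local ring -/
noncomputable def unitStalkEquiv (x : X) :
    X.presheaf.stalk x ≃ₗ[X.presheaf.stalk x] (Coh.structureModule X).presheaf.stalk x :=
  LinearEquiv.ofBijective
    (LinearMap.toSpanSingleton (X.presheaf.stalk x) _ (oneGerm x)) (by
      constructor
      · rw [← LinearMap.ker_eq_bot]
        unfold oneGerm
        rw [WeakAss.ker_toSpanSingleton_germF, map_one, LinearMap.ker_eq_bot]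
        intro a b hab
        simpa [LinearMap.toSpanSingleton_apply] using hab
      · intro m
        obtain ⟨U, hx, s, rfl⟩ := WeakAss.germF_exists x m
        exact ⟨X.presheaf.germ U x hx s, by
          rw [LinearMap.toSpanSingleton_apply, germF_eq_smul_oneGerm]⟩)

/-- a module with a tensor inverse has flat stalks -/
theorem flat_stalk_of_tensor_iso (Q P : X.Modules)
    (ε : CohB1.tensorMod Q P ≅ Coh.structureModule X) (x : X) :
    Module.Flat (X.presheaf.stalk x) (Q.presheaf.stalk x) := by
  let e1 := Ref1B.stalkTensorEquiv Q P x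
  let e2 : (CohB1.tensorMod Q P).presheaf.stalk x ≃ₗ[X.presheaf.stalk x]
      (Coh.structureModule X).presheaf.stalk x :=
    LinearEquiv.ofBijective (RefHull.stalkMapₗ ε.hom x)
      (HomShH.bijective_stalkMapₗ_of_isIso ε.hom x)
  let e := e1 ≪≫ₗ e2 ≪≫ₗ (unitStalkEquiv x).symm
  haveI : Module.Invertible (X.presheaf.stalk x) (Q.presheaf.stalk x) :=
    Module.Invertible.left e
  infer_instance

/-- tensoring an injective stalk map with a flat stalk -/
theorem injective_stalkMapₗ_tensorMap_left (Q : X.Modules) {M N : X.Modules} (ψ : M ⟶ N) (x : X)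
    [Module.Flat (X.presheaf.stalk x) (Q.presheaf.stalk x)]
    (hψ : Function.Injective (RefHull.stalkMapₗ ψ x)) :
    Function.Injective (RefHull.stalkMapₗ (KoszTw.tensorMap (𝟙 Q) ψ) x) := by
  have h := stIso_natural x (𝟙 Q) ψ
  have h2 : (St x).map (KoszTw.tensorMap (𝟙 Q) ψ) =
      (stIso x Q M).inv ≫ ((St x).map (𝟙 Q) ⊗ₘ (St x).map ψ) ≫ (stIso x Q N).hom := by
    rw [h, Iso.inv_hom_id_assoc]
    rfl
  have h3 : ∀ m, RefHull.stalkMapₗ (KoszTw.tensorMap (𝟙 Q) ψ) x m =
      ((St x).map (KoszTw.tensorMap (𝟙 Q) ψ)).hom m := fun m => (Ref1B.St_map_apply _ x m).symm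
  intro a b hab
  rw [h3, h3, h2] at hab
  have hmid : Function.Injective (((St x).map (𝟙 Q) ⊗ₘ (St x).map ψ).hom) := by
    have h4 : ((St x).map (𝟙 Q) ⊗ₘ (St x).map ψ).hom =
        LinearMap.lTensor (Q.presheaf.stalk x) ((St x).map ψ).hom := by
      rw [(St x).map_id]
      rfl
    rw [h4]
    apply Module.Flat.lTensor_preserves_injective_linearMap
    intro u v huv
    apply hψ
    rw [← Ref1B.St_map_apply, ← Ref1B.St_map_apply]
    exact huv
  have hinv : Function.Injective ((stIso x Q M).inv.hom) :=
    (ConcreteCategory.bijective_of_isIso (stIso x Q M).inv).1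
  have hhom : Function.Injective ((stIso x Q N).hom.hom) :=
    (ConcreteCategory.bijective_of_isIso (stIso x Q N).hom).1
  exact hinv (hmid (hhom hab))

end Groth.Agent.Lead.CartSec
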