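import Mathlib
import Groth.Agent.Lead.SheafHomAdj
import Groth.Agent.Lead.HomShD
import Groth.Agent.Lead.HomShE
import Groth.Agent.Lead.QcohTensor
import Groth.Agent.Helper4.FPTilde

/-!
# The sheaf Hom of tildes: `𝓗om(M~, N~) ≅ Hom_A(M, N)~` for `M` finitely presented
-/

set_option autoImplicit false
set_option linter.style.haveILetI false
set_option linter.unusedSectionVars false

universe u

open CategoryTheory CategoryTheory.Limits AlgebraicGeometry TopologicalSpace Opposite

namespace Groth.Agent.Lead.SheafHomTilde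

open Groth.Agent.Helper4.StalkDict Groth.Agent.Helper4.QcqsMod

section Affine

variable {X : Scheme.{u}} (F G : X.Modules)

theorem toLinₗ_surjective [F.IsQuasicoherent] {U : X.Opens} (hU : IsAffineOpen U) :
    Function.Surjective (HomShE.toLinₗ F G U) := by
  intro l
  have hid : ∀ r : Γ(X, U), X.presheaf.map (homOfLE (le_refl U)).op r = r := by
    intro r
    have : X.presheaf.map (homOfLE (le_refl U)).op = 𝟙 _ := X.presheaf.map_id _
    rw [this]
    rfl
  have hl : ∀ (r : Γ(X, U)) (m : Γ(F, U)),
      l.toAddMonoidHom (r • m) = X.presheaf.map (homOfLE (le_refl U)).op r • l.toAddMonoidHom m := by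
    intro r m
    rw [hid]
    exact l.map_smul r m
  refine ⟨HomShA.ofLin hU F G (le_refl U) l.toAddMonoidHom hl, ?_⟩
  apply LinearMap.ext
  intro m
  apply section_ext
  intro y hy
  change G.presheaf.germ U y hy (HomShC.toLin F G _ m) = _
  rw [HomShC.germ_toLin]
  exact HomShA.ofLin_apply_germ hU F G (le_refl U) l.toAddMonoidHom hl ⟨y, hy⟩ m

/-- sections of the sheaf Hom over an affine open -/
noncomputable def sectionsEquiv [F.IsQuasicoherent] {U : X.Opens} (hU : IsAffineOpen U) :
    Γ(RefHull.homSh F G, U) ≃ₗ[Γ(X, U)] (Γ(F, U) →ₗ[Γ(X, U)] Γ(G, U)) :=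
  LinearEquiv.ofBijective (HomShE.toLinₗ F G U)
    ⟨HomShE.toLinₗ_injective F G hU, toLinₗ_surjective F G hU⟩

end Affine


section Spec

variable (R : CommRingCat.{u}) (F G : (Spec R).Modules)

/-- the ring isomorphism `R → Γ(Spec R, ⊤)` -/
noncomputable abbrev ι : R →+* Γ(Spec R, ⊤) := (Scheme.ΓSpecIso R).inv.hom

theorem ι_surjective : Function.Surjective (ι R) := by
  intro s
  refine ⟨(Scheme.ΓSpecIso R).hom.hom s, ?_⟩
  change ((Scheme.ΓSpecIso R).hom ≫ (Scheme.ΓSpecIso R).inv).hom s = s
  rw [Iso.hom_inv_id]
  rfl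

set_option backward.isDefEq.respectTransparency false in
theorem smul_def (K : (Spec R).Modules) (r : R) (m : (moduleSpecΓFunctor.obj K : ModuleCat R)) :
    r • m = (ι R r • (show Γ(K, ⊤) from m) : Γ(K, ⊤)) := rfl

variable [F.IsQuasicoherent]

set_option backward.isDefEq.respectTransparency false in
/-- global sections of the sheaf Hom on an affine scheme, as an `R`-module -/
noncomputable def gammaEquiv :
    (moduleSpecΓFunctor.obj (RefHull.homSh F G) : ModuleCat R) ≃ₗ[R]
      ((moduleSpecΓFunctor.obj F : ModuleCat R) →ₗ[R]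
        (moduleSpecΓFunctor.obj G : ModuleCat R)) where
  toFun t :=
    { toFun := fun m => HomShC.toLin F G (show Γ(RefHull.homSh F G, ⊤) from t) m
      map_add' := fun a b => map_add _ a b
      map_smul' := fun r m =>
        (HomShC.toLin F G (show Γ(RefHull.homSh F G, ⊤) from t)).map_smul (ι R r) m }
  map_add' t t' := by
    apply LinearMap.ext
    intro m
    exact LinearMap.congr_fun ((HomShE.toLinₗ F G ⊤).map_add t t') m
  map_smul' r t := by
    apply LinearMap.ext
    intro m
    exact LinearMap.congr_fun ((HomShE.toLinₗ F G ⊤).map_smul (ι R r) t) m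
  invFun l := (sectionsEquiv F G (isAffineOpen_top (Spec R))).symm
    { toFun := fun m => l m
      map_add' := fun a b => l.map_add a b
      map_smul' := fun s m => by
        obtain ⟨r, rfl⟩ := ι_surjective R s
        exact l.map_smul r m }
  left_inv t := by
    apply (sectionsEquiv F G (isAffineOpen_top (Spec R))).injective
    rw [LinearEquiv.apply_symm_apply]
    rfl
  right_inv l := by
    apply LinearMap.ext
    intro m
    have h := (sectionsEquiv F G (isAffineOpen_top (Spec R))).apply_symm_apply
      { toFun := fun m => l m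
        map_add' := fun a b => l.map_add a b
        map_smul' := fun s m => by
          obtain ⟨r, rfl⟩ := ι_surjective R s
          exact l.map_smul r m }
    exact LinearMap.congr_fun h m

end Spec

section Main

variable (R : CommRingCat.{u}) (M N : ModuleCat.{u} R) [Module.FinitePresentation R M]

/-- `Γ(𝓗om(M~, N~)) ≃ Hom_R(M, N)` -/
noncomputable def gammaHomEquiv :
    (moduleSpecΓFunctor.obj (RefHull.homSh (tilde M) (tilde N)) : ModuleCat R) ≃ₗ[R]
      (M →ₗ[R] N) :=
  (gammaEquiv R (tilde M) (tilde N)).trans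
    (LinearEquiv.arrowCongr (tilde.toTildeΓNatIso.app M).toLinearEquiv.symm
      (tilde.toTildeΓNatIso.app N).toLinearEquiv.symm)

/-- **`𝓗om(M~, N~) ≅ Hom_R(M, N)~` for `M` finitely presented** -/
noncomputable def homShTildeIso :
    RefHull.homSh (tilde M) (tilde N) ≅ tilde (ModuleCat.of R (M →ₗ[R] N)) := by
  have hFP := Groth.Agent.Helper4.FPTilde.isFP_tilde_of_finitePresentation R M
  haveI := HomShD.isQuasicoherent_homSh (tilde M) (tilde N) hFP
  exact (QcohTensor.tildeΓIso (RefHull.homSh (tilde M) (tilde N))).symm ≪≫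
    (tilde.functor R).mapIso (gammaHomEquiv R M N).toModuleIso

end Main

end Groth.Agent.Lead.SheafHomTilde
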