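import Mathlib
import Groth.Agent.Lead.SheafHomAdj
import Groth.Agent.Lead.SheafHomStalk
import Groth.Agent.Lead.SheafHomTilde
import Groth.Agent.Lead.Ref1E
import Groth.Agent.Lead.CartSecB
import Groth.Agent.Lead.HomShD
import Groth.Agent.Lead.HomShF
import Groth.Agent.Lead.HomShH
import Groth.Agent.Helper4.FinLocFree2
import Groth.Agent.Helper4.FinLocFree4
import Groth.Agent.Helper4.FinLocFree6
import Groth.Agent.Helper4.QcohLocal

/-!
# The canonical map `F^∨ ⊗ G ⟶ 𝓗om(F, G)`; it is an isomorphism for `F` finite locally free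
-/

set_option autoImplicit false
set_option linter.style.haveILetI false
set_option linter.unusedSectionVars false

universe u

open CategoryTheory CategoryTheory.Limits AlgebraicGeometry TopologicalSpace Opposite TensorProduct

namespace Groth.Agent.Lead.FLFDual

open Groth.Agent.Helper4.StalkDict Groth.Agent.Helper4.QcqsMod Groth.Agent.Helper4.TensorLift
open Groth.Agent.Lead.SheafHomAdj

variable {X : Scheme.{u}}

/-- the identification of the stalk of the unit module with the local ring -/
noncomputable abbrev uu (x : X) := CartSec.unitStalkEquiv x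

/-- a section of the unit module, as a function -/
def ofF (U : X.Opens) (s : Γ(Coh.structureModule X, U)) : Γ(X, U) := s

theorem uu_germ (U : X.Opens) (x : X) (hx : x ∈ U) (s : Γ(X, U)) :
    uu x (X.presheaf.germ U x hx s) = WeakAss.germF U x hx s :=
  (CartSec.germF_eq_smul_oneGerm U x hx s).symm

theorem uu_symm_germ (U : X.Opens) (x : X) (hx : x ∈ U) (s : Γ(Coh.structureModule X, U)) :
    (uu x).symm ((Coh.structureModule X).presheaf.germ U x hx s) =
      X.presheaf.germ U x hx (ofF U s) := by
  rw [LinearEquiv.symm_apply_eq, uu_germ]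
  rfl

variable (B G : X.Modules)

/-- stalkwise: a linear form `θ` on `B_x` and `γ ∈ G_x` give `v ↦ θ(v) • γ` -/
noncomputable def cSt (x : X) (θ : RefHull.StalkHom B (Coh.structureModule X) x)
    (γ : G.presheaf.stalk x) : RefHull.StalkHom B G x :=
  LinearMap.smulRight ((uu x).symm.toLinearMap ∘ₗ θ) γ

theorem cSt_apply (x : X) (θ : RefHull.StalkHom B (Coh.structureModule X) x)
    (γ : G.presheaf.stalk x) (v : B.presheaf.stalk x) :
    cSt B G x θ γ v = (uu x).symm (θ v) • γ := rfl

theorem isLocSect_c {U : X.Opens} (l : Γ(RefHull.dual B, U)) (g : Γ(G, U)) :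
    RefHull.IsLocSect B G (fun x : U => cSt B G x.1 (l.1 x) (G.presheaf.germ U x.1 x.2 g)) := by
  intro V i m x
  refine ⟨V, x.2, 𝟙 V,
    ofF V (HomShC.toLin B (Coh.structureModule X) (rs (RefHull.dual B) i.le l) m) • rs G i.le g,
    fun y => ?_⟩
  rw [cSt_apply]
  have h1 := HomShC.germ_toLin B (Coh.structureModule X) (rs (RefHull.dual B) i.le l) m y.1 y.2
  rw [rs_apply] at h1
  rw [← h1, uu_symm_germ, germ_smul, germ_rs]

/-- the section of `𝓗om(B, G)` defined by a linear form and a section of `G` -/
noncomputable def cSec {U : X.Opens} (l : Γ(RefHull.dual B, U)) (g : Γ(G, U)) :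
    Γ(RefHull.homSh B G, U) :=
  ⟨fun x => cSt B G x.1 (l.1 x) (G.presheaf.germ U x.1 x.2 g), isLocSect_c B G l g⟩

theorem cSec_apply {U : X.Opens} (l : Γ(RefHull.dual B, U)) (g : Γ(G, U)) (x : U)
    (v : B.presheaf.stalk x.1) :
    (cSec B G l g).1 x v = (uu x.1).symm (l.1 x v) • G.presheaf.germ U x.1 x.2 g := rfl

theorem sec_ext {U : X.Opens} (t t' : Γ(RefHull.homSh B G, U))
    (h : ∀ (x : U) (v : B.presheaf.stalk x.1), t.1 x v = t'.1 x v) : t = t' :=
  Subtype.ext (funext fun x => LinearMap.ext (h x))

/-- the bilinear family defining the canonical map -/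
noncomputable def cBil : Bil (RefHull.dual B) G (RefHull.homSh B G) where
  f U l g := cSec B G l g
  add_left U l l' g := by
    apply sec_ext
    intro x v
    rw [add_apply, LinearMap.add_apply, cSec_apply, cSec_apply, cSec_apply, add_apply,
      LinearMap.add_apply, map_add, add_smul]
  add_right U l g g' := by
    apply sec_ext
    intro x v
    rw [add_apply, LinearMap.add_apply, cSec_apply, cSec_apply, cSec_apply, map_add, smul_add]
  smul_left U r l g := by
    apply sec_ext
    intro x v
    rw [smul_apply, LinearMap.smul_apply, cSec_apply, cSec_apply, smul_apply, LinearMap.smul_apply,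
      map_smul, smul_assoc]
  smul_right U r l g := by
    apply sec_ext
    intro x v
    rw [smul_apply, LinearMap.smul_apply, cSec_apply, cSec_apply, germ_smul, smul_comm]
  map {V V'} i l g := by
    apply sec_ext
    intro x v
    have h1 : ((RefHull.homSh B G).presheaf.map i.op (cSec B G l g)).1 x v =
        (cSec B G l g).1 ⟨x.1, i.le x.2⟩ v := rfl
    have h2 : ((RefHull.dual B).presheaf.map i.op l).1 x v = l.1 ⟨x.1, i.le x.2⟩ v := rfl
    rw [h1, cSec_apply, cSec_apply, h2]
    congr 1
    exact (TopCat.Presheaf.germ_res_apply G.presheaf i x.1 x.2 g).symm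

/-- **the canonical map `B^∨ ⊗ G ⟶ 𝓗om(B, G)`** -/
noncomputable def c : CohB1.tensorMod (RefHull.dual B) G ⟶ RefHull.homSh B G :=
  (cBil B G).lift

theorem c_app_tmul (U : X.Opens) (l : Γ(RefHull.dual B, U)) (g : Γ(G, U)) :
    (c B G).app U (SecTwist.tmul (RefHull.dual B) G U l g) = cSec B G l g :=
  (cBil B G).lift_tmul U l g

/-- linear forms on `B_x` with values in the stalk of the unit module, as elements of the dual -/
noncomputable def fnE (x : X) :
    RefHull.StalkHom B (Coh.structureModule X) x ≃ₗ[X.presheaf.stalk x]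
      Module.Dual (X.presheaf.stalk x) (B.presheaf.stalk x) :=
  LinearEquiv.arrowCongr (LinearEquiv.refl _ _) (uu x).symm

theorem fnE_apply (x : X) (θ : RefHull.StalkHom B (Coh.structureModule X) x)
    (v : B.presheaf.stalk x) : fnE B x θ v = (uu x).symm (θ v) := rfl

/-- the stalk of the canonical map is the map `Hom(B_x, O_x) ⊗ G_x → Hom(B_x, G_x)` -/
theorem c_comp_stalkTensorEquiv (x : X) :
    ((RefHull.evalStalk B G x).comp (RefHull.stalkMapₗ (c B G) x)).comp
        (Ref1B.stalkTensorEquiv (RefHull.dual B) G x : _ →ₗ[X.presheaf.stalk x] _) =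
      (dualTensorHom (X.presheaf.stalk x) (B.presheaf.stalk x) (G.presheaf.stalk x)).comp
        (TensorProduct.map
          ((fnE B x : _ →ₗ[X.presheaf.stalk x] _).comp
            (RefHull.evalStalk B (Coh.structureModule X) x)) LinearMap.id) := by
  apply TensorProduct.ext'
  intro θ γ
  obtain ⟨V, hx, l, g, rfl, rfl⟩ := Ref1E.exists_common x θ γ
  rw [LinearMap.comp_apply, LinearMap.comp_apply, LinearMap.comp_apply, TensorProduct.map_tmul,
    LinearMap.comp_apply, RefHull.evalStalk_germ, LinearMap.id_apply]
  have h1 : (Ref1B.stalkTensorEquiv (RefHull.dual B) G x : _ →ₗ[X.presheaf.stalk x] _)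
      ((RefHull.dual B).presheaf.germ V x hx l ⊗ₜ[X.presheaf.stalk x] G.presheaf.germ V x hx g) =
      (CohB1.tensorMod (RefHull.dual B) G).presheaf.germ V x hx
        (SecTwist.tmul (RefHull.dual B) G V l g) :=
    Ref1B.stalkTensorEquiv_germ (RefHull.dual B) G x V hx l g
  rw [h1, RefHull.stalkMapₗ_germ, c_app_tmul, RefHull.evalStalk_germ]
  apply LinearMap.ext
  intro v
  rw [dualTensorHom_apply]
  rfl


/-- the canonical map is bijective on the stalk at a point where `B_x` is finite projective -/
theorem bijective_stalkMapₗ_c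
    (hB : SheafOfModules.IsFinitePresentation (R := X.ringCatSheaf) B) (x : X)
    [Module.Finite (X.presheaf.stalk x) (B.presheaf.stalk x)]
    [Module.Projective (X.presheaf.stalk x) (B.presheaf.stalk x)] :
    Function.Bijective (RefHull.stalkMapₗ (c B G) x) := by
  let E := SheafHomStalk.homShStalkEquiv B G hB x
  let E0 := (SheafHomStalk.homShStalkEquiv B (Coh.structureModule X) hB x).trans (fnE B x)
  let T := Ref1B.stalkTensorEquiv (RefHull.dual B) G x
  let D := dualTensorHomEquiv (X.presheaf.stalk x) (B.presheaf.stalk x) (G.presheaf.stalk x)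
  let C := TensorProduct.congr E0 (LinearEquiv.refl (X.presheaf.stalk x) (G.presheaf.stalk x))
  have key : ∀ τ, E (RefHull.stalkMapₗ (c B G) x (T τ)) = D (C τ) := by
    intro τ
    exact LinearMap.congr_fun (c_comp_stalkTensorEquiv B G x) τ
  have h : (RefHull.stalkMapₗ (c B G) x : _ → _) = E.symm ∘ D ∘ C ∘ T.symm := by
    funext w
    obtain ⟨τ, rfl⟩ := T.surjective w
    rw [Function.comp_apply, Function.comp_apply, Function.comp_apply, LinearEquiv.symm_apply_apply,
      ← key, LinearEquiv.symm_apply_apply]
  rw [h]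
  exact E.symm.bijective.comp (D.bijective.comp (C.bijective.comp T.symm.bijective))

/-- **for `B` finite locally free, `B^∨ ⊗ G ⟶ 𝓗om(B, G)` is an isomorphism** -/
theorem isIso_c (hB : FlatMod.IsFinLocFree B) : IsIso (c B G) := by
  haveI := Groth.Agent.Helper4.FinLocFree4.isQuasicoherent_of_isFinLocFree B hB
  have hfp := Groth.Agent.Helper4.FinLocFree2.isFinitePresentation_of_isFinLocFree B hB
  apply Groth.Agent.Helper4.QcohLocal.isIso_of_stalkLin_bijective
  intro x
  haveI := Groth.Agent.Helper4.FinLocFree2.free_stalk_of_isFinLocFree B hB x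
  haveI := Groth.Agent.Helper4.FinLocFree2.finite_stalk B
    (Groth.Agent.Helper4.FinLocFree2.isFiniteType_of_isFinitePresentation B hfp) x
  exact bijective_stalkMapₗ_c B G hfp x

/-- the isomorphism `B^∨ ⊗ G ≅ 𝓗om(B, G)` for `B` finite locally free -/
noncomputable def cIso (hB : FlatMod.IsFinLocFree B) :
    CohB1.tensorMod (RefHull.dual B) G ≅ RefHull.homSh B G :=
  haveI := isIso_c B G hB
  asIso (c B G)


/-! ### The dual of a finite locally free module -/

/-- sections of the unit module over `U`, as a module over `Γ(X, U)` -/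
noncomputable def unitSecEquiv (U : X.Opens) :
    Γ(X, U) ≃ₗ[Γ(X, U)] Γ(Coh.structureModule X, U) where
  toFun := WeakAss.toF U
  invFun := ofF U
  map_add' _ _ := rfl
  map_smul' _ _ := rfl
  left_inv _ := rfl
  right_inv _ := rfl

theorem isFinitePresentation_dual (hB : FlatMod.IsFinLocFree B) :
    SheafOfModules.IsFinitePresentation (R := X.ringCatSheaf) (RefHull.dual B) := by
  haveI := Groth.Agent.Helper4.FinLocFree4.isQuasicoherent_of_isFinLocFree B hB
  have hfp := Groth.Agent.Helper4.FinLocFree2.isFinitePresentation_of_isFinLocFree B hB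
  haveI : (Coh.structureModule X).IsQuasicoherent := (HomShH.isCoh_unit X).1
  haveI : (RefHull.dual B).IsQuasicoherent :=
    HomShD.isQuasicoherent_homSh B (Coh.structureModule X) hfp
  apply Groth.Agent.Helper4.FPGlue.isFinitePresentation_of_fp_sections
  intro x
  obtain ⟨U, hU, n, hx, ⟨b⟩⟩ := Groth.Agent.Helper4.FinLocFree2.exists_affine_basis B hB x
  refine ⟨U, hU, hx, ?_⟩
  haveI : Module.Free Γ(X, U) Γ(B, U) := Module.Free.of_basis b
  haveI : Module.Finite Γ(X, U) Γ(B, U) := Module.Finite.of_basis b
  haveI : Module.Free Γ(X, U) Γ(Coh.structureModule X, U) :=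
    Module.Free.of_equiv (unitSecEquiv U)
  haveI : Module.Finite Γ(X, U) Γ(Coh.structureModule X, U) :=
    Module.Finite.equiv (unitSecEquiv U)
  let e := SheafHomTilde.sectionsEquiv B (Coh.structureModule X) hU
  haveI : Module.Free Γ(X, U) Γ(RefHull.dual B, U) := Module.Free.of_equiv e.symm
  haveI : Module.Finite Γ(X, U) Γ(RefHull.dual B, U) := Module.Finite.equiv e.symm
  exact Module.finitePresentation_of_projective _ _

/-- **the dual of a finite locally free module is finite locally free** -/
theorem isFinLocFree_dual (hB : FlatMod.IsFinLocFree B) : FlatMod.IsFinLocFree (RefHull.dual B) := by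
  haveI := Groth.Agent.Helper4.FinLocFree4.isQuasicoherent_of_isFinLocFree B hB
  have hfp := Groth.Agent.Helper4.FinLocFree2.isFinitePresentation_of_isFinLocFree B hB
  haveI : (Coh.structureModule X).IsQuasicoherent := (HomShH.isCoh_unit X).1
  haveI : (RefHull.dual B).IsQuasicoherent :=
    HomShD.isQuasicoherent_homSh B (Coh.structureModule X) hfp
  apply Groth.Agent.Helper4.FinLocFree2.isFinLocFree_of_fp_of_free_stalks _
    (isFinitePresentation_dual B hB)
  intro x
  haveI := Groth.Agent.Helper4.FinLocFree2.free_stalk_of_isFinLocFree B hB x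
  haveI := Groth.Agent.Helper4.FinLocFree2.finite_stalk B
    (Groth.Agent.Helper4.FinLocFree2.isFiniteType_of_isFinitePresentation B hfp) x
  haveI : Module.Free (X.presheaf.stalk x) ((Coh.structureModule X).presheaf.stalk x) :=
    Module.Free.of_equiv (uu x)
  exact Module.Free.of_equiv
    (SheafHomStalk.homShStalkEquiv B (Coh.structureModule X) hfp x).symm

/-- **a finite locally free module is reflexive** -/
theorem isReflexive_of_isFinLocFree (hB : FlatMod.IsFinLocFree B) : RefHull.IsReflexive B := by
  haveI := Groth.Agent.Helper4.FinLocFree4.isQuasicoherent_of_isFinLocFree B hB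
  have hfp := Groth.Agent.Helper4.FinLocFree2.isFinitePresentation_of_isFinLocFree B hB
  apply HomShH.isReflexive_of_forall_bijective
  intro x
  haveI := Groth.Agent.Helper4.FinLocFree2.free_stalk_of_isFinLocFree B hB x
  haveI := Groth.Agent.Helper4.FinLocFree2.finite_stalk B
    (Groth.Agent.Helper4.FinLocFree2.isFiniteType_of_isFinitePresentation B hfp) x
  refine (HomShF.isReflexiveAt_iff B hfp (isFinitePresentation_dual B hB) x).1 ?_
  show Module.IsReflexive (X.presheaf.stalk x) (B.presheaf.stalk x)
  infer_instance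

/-- the isomorphism `E ⊗ G ≅ 𝓗om(E^∨, G)` for `E` finite locally free -/
noncomputable def tensorIsoHomDual (E : X.Modules) (hE : FlatMod.IsFinLocFree E) :
    CohB1.tensorMod E G ≅ RefHull.homSh (RefHull.dual E) G :=
  haveI : IsIso (RefHull.bidualMap E) := isReflexive_of_isFinLocFree E hE
  (DCoh.tensorBi.mapIso (asIso (RefHull.bidualMap E))).app G ≪≫
    cIso (RefHull.dual E) G (isFinLocFree_dual E hE)

end Groth.Agent.Lead.FLFDual
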