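import Mathlib
import Groth.Agent.Lead.FLFDual

/-!
# Naturality of `F^∨ ⊗ G ⟶ 𝓗om(F, G)`; `E ⊗ -` is right adjoint to `E^∨ ⊗ -` for `E` finite locally free
-/

set_option autoImplicit false
set_option linter.style.haveILetI false
set_option linter.unusedSectionVars false

universe u

open CategoryTheory CategoryTheory.Limits AlgebraicGeometry TopologicalSpace Opposite TensorProduct

namespace Groth.Agent.Lead.FLFDual

open Groth.Agent.Helper4.StalkDict Groth.Agent.Helper4.QcqsMod Groth.Agent.Helper4.TensorLift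
open Groth.Agent.Lead.SheafHomAdj

variable {X : Scheme.{u}} (B : X.Modules)

/-- the counit of the tensor–Hom adjunction on pure tensors -/
theorem e_symm_id_app_tmul (G : X.Modules) (V : X.Opens) (m : Γ(B, V))
    (k : Γ(RefHull.homSh B G, V)) :
    Scheme.Modules.Hom.app (M := CohB1.tensorMod B (RefHull.homSh B G))
      ((e B (RefHull.homSh B G) G).symm (𝟙 _)) V (SecTwist.tmul B (RefHull.homSh B G) V m k) =
      HomShC.toFun B G k m :=
  (bilOf (𝟙 (RefHull.homSh B G))).lift_tmul V m k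

/-- the sheaf Hom functor on morphisms: composition with the stalk maps -/
theorem homFunctor_map_apply {G G' : X.Modules} (ψ : G ⟶ G') (U : X.Opens)
    (t : Γ(RefHull.homSh B G, U)) (x : U) (v : B.presheaf.stalk x.1) :
    (Scheme.Modules.Hom.app (M := RefHull.homSh B G) (N := RefHull.homSh B G')
      ((homFunctor B).map ψ) U t).1 x v = RefHull.stalkMapₗ ψ x.1 (t.1 x v) := by
  obtain ⟨V, hxV, m, rfl⟩ := TopCat.Presheaf.exists_germ_eq B.presheaf v
  have h0 : (homFunctor B).map ψ =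
      e B (RefHull.homSh B G) G' ((e B (RefHull.homSh B G) G).symm (𝟙 _) ≫ ψ) := rfl
  have h1 := e_app_germ B ((e B (RefHull.homSh B G) G).symm (𝟙 _) ≫ ψ) U t x.1 x.2 (V ⊓ U)
    inf_le_right ⟨hxV, x.2⟩ (rs B inf_le_left m)
  rw [germ_rs] at h1
  rw [h0]
  refine h1.trans ?_
  have h2 : Scheme.Modules.Hom.app (M := CohB1.tensorMod B (RefHull.homSh B G))
      ((e B (RefHull.homSh B G) G).symm (𝟙 _) ≫ ψ) (V ⊓ U)
        (SecTwist.tmul B (RefHull.homSh B G) (V ⊓ U) (rs B inf_le_left m)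
          (rs (RefHull.homSh B G) inf_le_right t)) =
      ψ.app (V ⊓ U) (HomShC.toFun B G (rs (RefHull.homSh B G) inf_le_right t)
        (rs B inf_le_left m)) :=
    congrArg (fun s => (ψ.app (V ⊓ U)) s) (e_symm_id_app_tmul B G (V ⊓ U) _ _)
  refine (congrArg (fun s => G'.presheaf.germ (V ⊓ U) x.1 ⟨hxV, x.2⟩ s) h2).trans ?_
  show G'.presheaf.germ (V ⊓ U) x.1 ⟨hxV, x.2⟩ (ψ.app (V ⊓ U) _) = _
  rw [← RefHull.stalkMapₗ_germ, HomShC.germ_toFun, rs_apply, germ_rs]


/-- naturality of the canonical map in the second variable -/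
theorem c_natural {G G' : X.Modules} (ψ : G ⟶ G') :
    (DCoh.tensorBi.obj (RefHull.dual B)).map ψ ≫ c B G' = c B G ≫ (homFunctor B).map ψ := by
  apply hom_ext
  intro V l g
  have h1 : Scheme.Modules.Hom.app (M := CohB1.tensorMod (RefHull.dual B) G)
      ((DCoh.tensorBi.obj (RefHull.dual B)).map ψ ≫ c B G') V
        (SecTwist.tmul (RefHull.dual B) G V l g) =
      (c B G').app V ((KoszTw.tensorMap (𝟙 (RefHull.dual B)) ψ).app V
        (SecTwist.tmul (RefHull.dual B) G V l g)) := by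
    rw [KoszTw.tensorBi_obj_map]
    rfl
  have h2 : Scheme.Modules.Hom.app (M := CohB1.tensorMod (RefHull.dual B) G)
      (c B G ≫ (homFunctor B).map ψ) V (SecTwist.tmul (RefHull.dual B) G V l g) =
      Scheme.Modules.Hom.app (M := RefHull.homSh B G) (N := RefHull.homSh B G')
        ((homFunctor B).map ψ) V ((c B G).app V (SecTwist.tmul (RefHull.dual B) G V l g)) := rfl
  refine h1.trans (Eq.trans ?_ h2.symm)
  rw [KoszTw.tensorMap_tmul, c_app_tmul, c_app_tmul]
  apply sec_ext
  intro x v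
  rw [homFunctor_map_apply, cSec_apply, cSec_apply, map_smul, RefHull.stalkMapₗ_germ]
  rfl

/-- **`B^∨ ⊗ - ≅ 𝓗om(B, -)` for `B` finite locally free** -/
noncomputable def cNatIso (hB : FlatMod.IsFinLocFree B) :
    DCoh.tensorBi.obj (RefHull.dual B) ≅ homFunctor B :=
  NatIso.ofComponents (fun G => cIso B G hB) (fun ψ => c_natural B ψ)

/-- **`E ⊗ - ≅ 𝓗om(E^∨, -)` for `E` finite locally free** -/
noncomputable def tensorNatIsoHomDual (E : X.Modules) (hE : FlatMod.IsFinLocFree E) :
    DCoh.tensorBi.obj E ≅ homFunctor (RefHull.dual E) :=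
  haveI : IsIso (RefHull.bidualMap E) := isReflexive_of_isFinLocFree E hE
  DCoh.tensorBi.mapIso (asIso (RefHull.bidualMap E)) ≪≫
    cNatIso (RefHull.dual E) (isFinLocFree_dual E hE)

/-- **for `E` finite locally free, `E^∨ ⊗ -` is left adjoint to `E ⊗ -`** -/
noncomputable def adjDual (E : X.Modules) (hE : FlatMod.IsFinLocFree E) :
    DCoh.tensorBi.obj (RefHull.dual E) ⊣ DCoh.tensorBi.obj E :=
  (adj (RefHull.dual E)).ofNatIsoRight (tensorNatIsoHomDual E hE).symm

/-- for `E` finite locally free, `E ⊗ -` is left adjoint to `E^∨ ⊗ -` -/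
noncomputable def adjDual' (E : X.Modules) (hE : FlatMod.IsFinLocFree E) :
    DCoh.tensorBi.obj E ⊣ DCoh.tensorBi.obj (RefHull.dual E) :=
  (adj E).ofNatIsoRight (cNatIso E hE).symm

end Groth.Agent.Lead.FLFDual
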