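import Mathlib
import Groth.Agent.Lead.ResPropD
import Groth.Agent.Helper4.QcohGlue
import Groth.Agent.Helper4.FinLocFree4
import Groth.Agent.Helper4.TensorRes
import Groth.Agent.Helper4.RelGenTwist
import Groth.Agent.Helper4.AmpleLocal
import Groth.Agent.Helper4.QAffCounit
import Groth.Agent.Helper4.PullAmple
import Groth.Agent.Lead.QcohTensor

/-!
# The resolution property along morphisms with an epimorphic counit
-/

set_option autoImplicit false
set_option linter.style.haveILetI false
set_option linter.unusedSectionVars false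
set_option linter.unusedVariables false

universe u

open CategoryTheory CategoryTheory.Limits AlgebraicGeometry TopologicalSpace Opposite
  MonoidalCategory

namespace Groth.Agent.Lead.ResProp

variable {X Y : Scheme.{u}}

/-- a finite direct sum (over any finite index type) of finite locally free modules is finite
locally free -/
theorem isFinLocFree_biproduct' {ι : Type*} [Finite ι] (N : ι → X.Modules)
    (hN : ∀ j, FlatMod.IsFinLocFree (N j)) : FlatMod.IsFinLocFree (⨁ N) := by
  obtain ⟨K, ⟨e⟩⟩ := Finite.exists_equiv_fin ι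
  have h1 := isFinLocFree_biproduct K (fun k => N (e.symm k)) (fun k => hN _)
  exact Groth.Agent.Helper4.FinLocFree2.isFinLocFree_of_iso
    (biproduct.whiskerEquiv (f := N) (g := fun k : Fin K => N (e.symm k)) e
      (fun j => eqToIso (by simp))).symm h1

/-- the tensor product of a finite locally free module with an invertible module is finite
locally free -/
theorem isFinLocFree_tensorMod_of_isInvertible {E B : X.Modules} (hE : FlatMod.IsFinLocFree E)
    (hB : PicF.IsInvertible B) : FlatMod.IsFinLocFree (CohB1.tensorMod E B) := by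
  intro x
  obtain ⟨V, n, hxV, hV⟩ := hE x
  obtain ⟨U, hxU, hU⟩ := hB x
  have hV' : Groth.Agent.Helper4.FinLocFree.IsFreeAlong E (V ⊓ U).ι n :=
    Groth.Agent.Helper4.FinLocFree.IsFreeAlong.of_le inf_le_left hV
  have hU' : Groth.Agent.Helper4.TensorInv.IsTrivAlong B (V ⊓ U).ι :=
    Groth.Agent.Helper4.TensorInv.IsTrivAlong.of_le inf_le_right hU
  obtain ⟨e⟩ := hV'
  obtain ⟨ε⟩ := hU'
  exact ⟨V ⊓ U, n, ⟨hxV, hxU⟩,
    ⟨(Groth.Agent.Helper4.TensorRes.resIso (V ⊓ U).ι E B).symm ≪≫ PicGrp.tensorModIso e ε ≪≫
      SecTwist.unitorR _⟩⟩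

/-- **the resolution property along a morphism with epimorphic counit**: let `Y` be qcqs with the
resolution property, `f : X ⟶ Y` with `X` quasi-compact, and `F` a quasi-coherent module of finite
type on `X` such that `f_* F` is quasi-coherent and `f^* f_* F ⟶ F` is an epimorphism.  Then `F` is a
quotient of `f^* E` for a finite locally free module `E` on `Y`. -/
theorem exists_epi_pullback_finLocFree (f : X ⟶ Y) [CompactSpace Y] [QuasiSeparatedSpace Y]
    [CompactSpace X] (hY : PerfAux.HasResolutionProperty Y) (F : X.Modules) [F.IsQuasicoherent]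
    (hFT : SheafOfModules.IsFiniteType (R := X.ringCatSheaf) F)
    [((Scheme.Modules.pushforward f).obj F).IsQuasicoherent]
    (hc : Epi ((Scheme.Modules.pullbackPushforwardAdjunction f).counit.app F)) :
    ∃ (E : Y.Modules) (ψ : (Scheme.Modules.pullback f).obj E ⟶ F),
      FlatMod.IsFinLocFree E ∧ Epi ψ := by
  classical
  obtain ⟨adj, hadj⟩ : ∃ adj : Scheme.Modules.pullback f ⊣ Scheme.Modules.pushforward f,
      adj = Scheme.Modules.pullbackPushforwardAdjunction f := ⟨_, rfl⟩
  rw [← hadj] at hc
  obtain ⟨I, E, φ, hE, hφ⟩ :=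
    exists_jointlyEpi_finLocFree hY ((Scheme.Modules.pushforward f).obj F)
  let a : ∀ i, (Scheme.Modules.pullback f).obj (E i) ⟶ F := fun i => (adj.homEquiv _ _).symm (φ i)
  have hzero : ∀ (M : Y.Modules) (Q : X.Modules),
      adj.homEquiv M Q (0 : (Scheme.Modules.pullback f).obj M ⟶ Q) = 0 := by
    intro M Q
    rw [Adjunction.homEquiv_unit, Functor.map_zero, comp_zero]
  have ha : ∀ (i : I) {Q : X.Modules} (g : F ⟶ Q),
      a i ≫ g = 0 ↔ φ i ≫ (Scheme.Modules.pushforward f).map g = 0 := by
    intro i Q g
    have h1 : adj.homEquiv _ _ (a i ≫ g) = φ i ≫ (Scheme.Modules.pushforward f).map g := by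
      rw [adj.homEquiv_naturality_right, Equiv.apply_symm_apply]
    constructor
    · intro h
      rw [← h1, h, hzero]
    · intro h
      apply (adj.homEquiv _ _).injective
      rw [h1, h, hzero]
  have hJE : JointlyEpi (fun i => (Scheme.Modules.pullback f).obj (E i)) a := by
    intro Q q hq
    have h1 : (Scheme.Modules.pushforward f).map q = 0 := hφ _ (fun i => (ha i q).1 (hq i))
    have h2 : adj.counit.app F ≫ q = 0 := by
      have h3 := adj.counit.naturality q
      simp only [Functor.comp_map, Functor.id_map] at h3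
      rw [← h3, h1, Functor.map_zero, zero_comp]
    exact (cancel_epi (adj.counit.app F)).1 (h2.trans comp_zero.symm)
  have hAq : ∀ i, ((Scheme.Modules.pullback f).obj (E i)).IsQuasicoherent := fun i =>
    Groth.Agent.Helper4.FinLocFree4.isQuasicoherent_of_isFinLocFree _
      (Groth.Agent.Lead.LocLift.isFinLocFree_pullback f (hE i))
  obtain ⟨J, hJ⟩ := exists_finset_epi F hFT _ hAq a hJE
  refine ⟨⨁ fun j : {j // j ∈ J} => E j.1,
    (adj.homEquiv _ _).symm (biproduct.desc fun j : {j // j ∈ J} => φ j.1),
    isFinLocFree_biproduct' _ (fun j => hE j.1), ?_⟩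
  apply Preadditive.epi_of_cancel_zero
  intro Q g hg
  have h1 : biproduct.desc (fun j : {j // j ∈ J} => φ j.1) ≫
      (Scheme.Modules.pushforward f).map g = 0 := by
    have h2 := adj.homEquiv_naturality_right
      ((adj.homEquiv _ _).symm (biproduct.desc fun j : {j // j ∈ J} => φ j.1)) g
    rw [Equiv.apply_symm_apply] at h2
    rw [← h2, hg, hzero]
  have h2 : ∀ j : {j // j ∈ J}, a j.1 ≫ g = 0 := fun j => (ha j.1 g).2 (by
    rw [← biproduct.ι_desc (fun j : {j // j ∈ J} => φ j.1) j, Category.assoc, h1, comp_zero])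
  have h3 : biproduct.desc (fun j : {j // j ∈ J} => a j.1) ≫ g = 0 := by
    apply biproduct.hom_ext'
    intro j
    rw [← Category.assoc, biproduct.ι_desc, comp_zero]
    exact h2 j
  exact (cancel_epi (biproduct.desc (fun j : {j // j ∈ J} => a j.1))).1 (h3.trans comp_zero.symm)

end Groth.Agent.Lead.ResProp
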