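import Mathlib
import Groth.Agent.Lead.ResPropE

/-!
# Jointly epimorphic families: stalkwise criterion, pullback, tensor product; tensor products of
finite locally free modules
-/

set_option autoImplicit false
set_option linter.style.haveILetI false
set_option linter.unusedSectionVars false
set_option linter.unusedVariables false

universe u

open CategoryTheory CategoryTheory.Limits AlgebraicGeometry TopologicalSpace Opposite
  MonoidalCategory TensorProduct

namespace Groth.Agent.Lead.ResProp

open Groth.Agent.Helper9.SkyMod4 Groth.Agent.Helper9.SkyMod5 Groth.Agent.Helper9.PullMon4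

variable {X Y : Scheme.{u}}

/-- stalkwise criterion for a jointly epimorphic family -/
theorem jointlyEpi_of_iSup_range {I : Type*} {F : X.Modules} (A : I → X.Modules)
    (a : ∀ i, A i ⟶ F)
    (h : ∀ x : X, ⨆ i, LinearMap.range ((St x).map (a i)).hom = ⊤) : JointlyEpi A a := by
  intro Q q hq
  apply eq_zero_of_St_map_eq_zero
  intro x
  apply ModuleCat.hom_ext
  apply LinearMap.ext
  intro m
  have hm : m ∈ ⨆ i, LinearMap.range ((St x).map (a i)).hom := (h x) ▸ Submodule.mem_top
  refine Submodule.iSup_induction _ (motive := fun m => ((St x).map q).hom m = 0) hm ?_ ?_ ?_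
  · rintro i _ ⟨n, rfl⟩
    have h1 : (St x).map (a i) ≫ (St x).map q = 0 := by
      rw [← Functor.map_comp, hq i, Functor.map_zero]
    exact congrArg (fun g : (St x).obj (A i) ⟶ (St x).obj Q => g.hom n) h1
  · exact map_zero _
  · intro u v hu hv
    rw [map_add, hu, hv, add_zero]

/-- a family is jointly epimorphic iff the induced map from the coproduct is an epimorphism -/
theorem jointlyEpi_iff_epi_desc {I : Type u} {F : X.Modules} (A : I → X.Modules)
    (a : ∀ i, A i ⟶ F) : JointlyEpi A a ↔ Epi (Sigma.desc a) := by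
  constructor
  · intro h
    apply Preadditive.epi_of_cancel_zero
    intro Q g hg
    apply h
    intro i
    rw [← Sigma.ι_desc a i, Category.assoc, hg, comp_zero]
  · intro h Q q hq
    have h1 : Sigma.desc a ≫ q = 0 := by
      apply Sigma.hom_ext
      intro i
      rw [← Category.assoc, Sigma.ι_desc, comp_zero]
      exact hq i
    exact (cancel_epi (Sigma.desc a)).1 (h1.trans comp_zero.symm)

/-- pullbacks preserve jointly epimorphic families -/
theorem jointlyEpi_pullback (f : X ⟶ Y) {I : Type*} {N : Y.Modules} (V : I → Y.Modules)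
    (v : ∀ i, V i ⟶ N) (h : JointlyEpi V v) :
    JointlyEpi (fun i => (Scheme.Modules.pullback f).obj (V i))
      (fun i => (Scheme.Modules.pullback f).map (v i)) := by
  intro Q q hq
  obtain ⟨adj, hadj⟩ : ∃ adj : Scheme.Modules.pullback f ⊣ Scheme.Modules.pushforward f,
      adj = Scheme.Modules.pullbackPushforwardAdjunction f := ⟨_, rfl⟩
  have hzero : ∀ (M : Y.Modules),
      adj.homEquiv M Q (0 : (Scheme.Modules.pullback f).obj M ⟶ Q) = 0 := by
    intro M
    rw [Adjunction.homEquiv_unit, Functor.map_zero, comp_zero]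
  have h1 : adj.homEquiv N Q q = 0 := by
    apply h
    intro i
    rw [← adj.homEquiv_naturality_left, hq i, hzero]
  apply (adj.homEquiv N Q).injective
  rw [h1, hzero]

/-- tensoring preserves families of linear maps with jointly spanning ranges -/
theorem iSup_range_map_eq_top {R : Type*} [CommRing R] {W F : Type*} [AddCommGroup W]
    [Module R W] [AddCommGroup F] [Module R F] {I : Type*} {A : I → Type*}
    [∀ i, AddCommGroup (A i)] [∀ i, Module R (A i)] (g : ∀ i, A i →ₗ[R] F)
    (h : ⨆ i, LinearMap.range (g i) = ⊤) :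
    ⨆ i, LinearMap.range (TensorProduct.map (LinearMap.id : W →ₗ[R] W) (g i)) = ⊤ := by
  rw [eq_top_iff, ← TensorProduct.span_tmul_eq_top, Submodule.span_le]
  rintro _ ⟨w, m, rfl⟩
  have hm : m ∈ ⨆ i, LinearMap.range (g i) := h ▸ Submodule.mem_top
  refine Submodule.iSup_induction _ (motive := fun m => w ⊗ₜ[R] m ∈
    ⨆ i, LinearMap.range (TensorProduct.map (LinearMap.id : W →ₗ[R] W) (g i))) hm ?_ ?_ ?_
  · rintro i _ ⟨n, rfl⟩
    exact Submodule.mem_iSup_of_mem i ⟨w ⊗ₜ n, by simp⟩
  · rw [TensorProduct.tmul_zero]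
    exact Submodule.zero_mem _
  · intro u v hu hv
    rw [TensorProduct.tmul_add]
    exact Submodule.add_mem _ hu hv

/-- tensoring on the left with any module preserves jointly epimorphic families -/
theorem jointlyEpi_tensorLeft (W : X.Modules) {I : Type*} {F : X.Modules} (A : I → X.Modules)
    (a : ∀ i, A i ⟶ F) (h : JointlyEpi A a) :
    JointlyEpi (fun i => CohB1.tensorMod W (A i)) (fun i => KoszTw.tensorMap (𝟙 W) (a i)) := by
  apply jointlyEpi_of_iSup_range
  intro x
  have htop := iSup_range_St_map_eq_top A a h x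
  have h1 := iSup_range_map_eq_top (R := X.presheaf.stalk x) (W := (St x).obj W)
    (F := (St x).obj F) (A := fun i => (St x).obj (A i)) (fun i => ((St x).map (a i)).hom) htop
  rw [eq_top_iff]
  intro t _
  obtain ⟨τ, rfl⟩ : ∃ τ, (stIso' x W F).hom.hom τ = t :=
    ⟨(stIso' x W F).inv.hom t, by
      have := congrArg (fun g : (St x).obj (CohB1.tensorMod W F) ⟶
        (St x).obj (CohB1.tensorMod W F) => g.hom t) (stIso' x W F).inv_hom_id
      exact this⟩
  have hτ : τ ∈ ⨆ i, LinearMap.range (TensorProduct.map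
      (LinearMap.id : (St x).obj W →ₗ[X.presheaf.stalk x] (St x).obj W)
      ((St x).map (a i)).hom) := h1 ▸ Submodule.mem_top
  refine Submodule.iSup_induction _ (motive := fun τ => (stIso' x W F).hom.hom τ ∈
    ⨆ i, LinearMap.range ((St x).map (KoszTw.tensorMap (𝟙 W) (a i))).hom) hτ ?_ ?_ ?_
  · rintro i _ ⟨σ, rfl⟩
    refine Submodule.mem_iSup_of_mem i ⟨(stIso' x W (A i)).hom.hom σ, ?_⟩
    have h2 := stIso'_natural x (𝟙 W) (a i)
    rw [CategoryTheory.Functor.map_id] at h2
    have h3 := congrArg (fun g : (St x).obj W ⊗ (St x).obj (A i) ⟶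
      (St x).obj (CohB1.tensorMod W F) => g.hom σ) h2
    exact h3.symm
  · rw [map_zero]
    exact Submodule.zero_mem _
  · intro u v hu hv
    rw [map_add]
    exact Submodule.add_mem _ hu hv

/-- `O^n ⊗ O^m ≅ O^(n*m)` -/
theorem nonempty_freeMod_tensor_iso (n m : ℕ) :
    Nonempty (CohB1.tensorMod (FlatMod.freeMod X n) (FlatMod.freeMod X m) ≅
      FlatMod.freeMod X (n * m)) := by
  obtain ⟨e1⟩ := Groth.Agent.Helper1.TwistExact.nonempty_sigma_tensor_iso
    (fun _ : Fin n => Coh.structureModule X) (FlatMod.freeMod X m)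
  let e2 : (∐ fun _ : Fin n => CohB1.tensorMod (Coh.structureModule X) (FlatMod.freeMod X m)) ≅
      ∐ fun _ : Fin n => FlatMod.freeMod X m :=
    Sigma.mapIso (fun _ => Groth.Agent.Lead.Ref1B.unitorL (FlatMod.freeMod X m))
  let e3 : (∐ fun _ : Fin n => FlatMod.freeMod X m) ≅
      ∐ fun _ : (Σ _ : Fin n, Fin m) => Coh.structureModule X :=
    sigmaSigmaIso (fun _ : Fin n => Fin m) (fun _ _ => Coh.structureModule X)
  let ε : (Σ _ : Fin n, Fin m) ≃ Fin (n * m) :=
    (Equiv.sigmaEquivProd (Fin n) (Fin m)).trans finProdFinEquiv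
  let e4 : (∐ fun _ : (Σ _ : Fin n, Fin m) => Coh.structureModule X) ≅
      ∐ fun _ : Fin (n * m) => Coh.structureModule X :=
    Sigma.whiskerEquiv (f := fun _ : (Σ _ : Fin n, Fin m) => Coh.structureModule X)
      (g := fun _ : Fin (n * m) => Coh.structureModule X) ε (fun _ => Iso.refl _)
  exact ⟨e1 ≪≫ e2 ≪≫ e3 ≪≫ e4⟩

/-- the tensor product of two finite locally free modules is finite locally free -/
theorem isFinLocFree_tensorMod {E B : X.Modules} (hE : FlatMod.IsFinLocFree E)
    (hB : FlatMod.IsFinLocFree B) : FlatMod.IsFinLocFree (CohB1.tensorMod E B) := by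
  intro x
  obtain ⟨V, n, hxV, hV⟩ := hE x
  obtain ⟨U, m, hxU, hU⟩ := hB x
  have hV' : Groth.Agent.Helper4.FinLocFree.IsFreeAlong E (V ⊓ U).ι n :=
    Groth.Agent.Helper4.FinLocFree.IsFreeAlong.of_le inf_le_left hV
  have hU' : Groth.Agent.Helper4.FinLocFree.IsFreeAlong B (V ⊓ U).ι m :=
    Groth.Agent.Helper4.FinLocFree.IsFreeAlong.of_le inf_le_right hU
  obtain ⟨e⟩ := hV'
  obtain ⟨ε⟩ := hU'
  obtain ⟨e'⟩ := nonempty_freeMod_tensor_iso (X := ((V ⊓ U : X.Opens) : Scheme.{u})) n m
  exact ⟨V ⊓ U, n * m, ⟨hxV, hxU⟩,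
    ⟨(Groth.Agent.Helper4.TensorRes.resIso (V ⊓ U).ι E B).symm ≪≫ PicGrp.tensorModIso e ε ≪≫ e'⟩⟩

end Groth.Agent.Lead.ResProp
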