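import Mathlib
import Groth.Agent.Lead.Hartogs2
import Groth.Agent.Helper1.FinCondTop

set_option autoImplicit false
universe u
open CategoryTheory CategoryTheory.Limits AlgebraicGeometry TopologicalSpace Opposite

namespace Groth.Agent.Lead.ConnHartogs

variable {X : Scheme.{u}}

/-- On a disjoint union of two opens there is a function equal to `1` on the first and `0` on the
second; it satisfies `e * (1 - e) = 0`. -/
theorem exists_one_zero (A B : X.Opens) (hAB : A ⊓ B = ⊥) :
    ∃ e : Γ(X, A ⊔ B), X.presheaf.map (homOfLE (le_sup_left : A ≤ A ⊔ B)).op e = 1 ∧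
      X.presheaf.map (homOfLE (le_sup_right : B ≤ A ⊔ B)).op e = 0 ∧ e * (1 - e) = 0 := by
  haveI : Subsingleton Γ(X, A ⊓ B) := by rw [hAB]; infer_instance
  let x : RingHom.eqLocus
      (RingHom.comp (X.sheaf.obj.map (homOfLE inf_le_left : A ⊓ B ⟶ A).op).hom
        (RingHom.fst (X.sheaf.obj.obj <| op A) (X.sheaf.obj.obj <| op B)))
      (RingHom.comp (X.sheaf.obj.map (homOfLE inf_le_right : A ⊓ B ⟶ B).op).hom
        (RingHom.snd (X.sheaf.obj.obj <| op A) (X.sheaf.obj.obj <| op B))) :=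
    ⟨((1 : Γ(X, A)), (0 : Γ(X, B))), Subsingleton.elim (α := Γ(X, A ⊓ B)) _ _⟩
  have h1 : X.presheaf.map (homOfLE (le_sup_left : A ≤ A ⊔ B)).op
      ((X.sheaf.objSupIsoProdEqLocus A B).inv x) = 1 :=
    X.sheaf.objSupIsoProdEqLocus_inv_fst A B x
  have h2 : X.presheaf.map (homOfLE (le_sup_right : B ≤ A ⊔ B)).op
      ((X.sheaf.objSupIsoProdEqLocus A B).inv x) = 0 :=
    X.sheaf.objSupIsoProdEqLocus_inv_snd A B x
  obtain ⟨e, he⟩ : ∃ e : Γ(X, A ⊔ B), e = (X.sheaf.objSupIsoProdEqLocus A B).inv x := ⟨_, rfl⟩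
  rw [← he] at h1 h2
  refine ⟨e, h1, h2, ?_⟩
  apply X.sheaf.eq_of_locally_eq₂ (homOfLE (le_sup_left : A ≤ A ⊔ B))
    (homOfLE (le_sup_right : B ≤ A ⊔ B)) le_rfl
  · change X.presheaf.map (homOfLE (le_sup_left : A ≤ A ⊔ B)).op (e * (1 - e)) =
      X.presheaf.map (homOfLE (le_sup_left : A ≤ A ⊔ B)).op 0
    rw [map_mul, map_sub, map_one, map_zero, h1, sub_self, mul_zero]
  · change X.presheaf.map (homOfLE (le_sup_right : B ≤ A ⊔ B)).op (e * (1 - e)) =
      X.presheaf.map (homOfLE (le_sup_right : B ≤ A ⊔ B)).op 0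
    rw [map_mul, map_sub, map_one, map_zero, h2, zero_mul]


theorem locallyConnectedSpace [IsLocallyNoetherian X] : LocallyConnectedSpace X := by
  apply Groth.Agent.Helper1.FinCondTop.locallyConnectedSpace_of_locallyNoetherian
  intro x
  obtain ⟨_, ⟨W, hW : IsAffineOpen W, rfl⟩, hxW, -⟩ :=
    X.isBasis_affineOpens.exists_subset_of_mem_open (Set.mem_univ x) isOpen_univ
  haveI : IsNoetherianRing Γ(X, W) := IsLocallyNoetherian.component_noetherian ⟨W, hW⟩
  exact ⟨(W : Set X), W.isOpen.mem_nhds hxW, noetherianSpace_of_isAffineOpen W hW⟩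

/-- a nonempty open of a scheme has a nonzero ring of sections -/
theorem one_ne_zero_of_mem {V : X.Opens} (x : X) (hx : x ∈ V) : (1 : Γ(X, V)) ≠ 0 := by
  intro h
  have := congrArg (X.presheaf.germ V x hx) h
  rw [map_one, map_zero] at this
  exact one_ne_zero this

variable [IsLocallyNoetherian X] (U : X.Opens)
  (h : ∀ x : X, x ∉ (U : Set X) →
    (2 : ℕ∞) ≤ LocCoh.depth (X.presheaf.stalk x) (X.presheaf.stalk x))

include h in
/-- every nonempty open meets `U` -/
theorem exists_mem_inf (V : X.Opens) (x : X) (hx : x ∈ V) : ∃ u : X, u ∈ V ⊓ U := by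
  by_contra hcon
  have hbot : V ⊓ U = ⊥ := by
    rw [eq_bot_iff]
    intro u hu
    exact (hcon ⟨u, hu⟩).elim
  have hb := Hartogs2.bijective_res U h V
  haveI : Subsingleton Γ(X, V ⊓ U) := by rw [hbot]; infer_instance
  exact one_ne_zero_of_mem x hx (hb.1 (Subsingleton.elim _ _))


omit [IsLocallyNoetherian X] in
theorem resO_resO {V₁ V₂ V₃ : X.Opens} (h₁ : V₂ ≤ V₁) (h₂ : V₃ ≤ V₂) (s : Γ(X, V₁)) :
    X.presheaf.map (homOfLE h₂).op (X.presheaf.map (homOfLE h₁).op s) =
      X.presheaf.map (homOfLE (h₂.trans h₁)).op s := by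
  rw [← ConcreteCategory.comp_apply, ← Functor.map_comp]
  rfl

include h in
theorem isPreconnected_preimage (C : X.Opens) (hC : _root_.IsPreconnected (C : Set X)) :
    _root_.IsPreconnected ((Subtype.val : U → X) ⁻¹' (C : Set X)) := by
  rw [isPreconnected_iff_subset_of_disjoint]
  intro u v hu hv hSuv hdisj
  let A : X.Opens := ⟨Subtype.val '' (Subtype.val ⁻¹' (C : Set X) ∩ u),
    U.isOpen.isOpenMap_subtype_val _ ((C.isOpen.preimage continuous_subtype_val).inter hu)⟩
  let B : X.Opens := ⟨Subtype.val '' (Subtype.val ⁻¹' (C : Set X) ∩ v),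
    U.isOpen.isOpenMap_subtype_val _ ((C.isOpen.preimage continuous_subtype_val).inter hv)⟩
  have hAB : A ⊓ B = ⊥ := by
    rw [eq_bot_iff]
    rintro y ⟨⟨s, ⟨hs, hsu⟩, rfl⟩, ⟨t, ⟨ht, htv⟩, hst⟩⟩
    have hts : t = s := Subtype.ext hst
    rw [hts] at htv
    have : s ∈ (Subtype.val ⁻¹' (C : Set X)) ∩ (u ∩ v) := ⟨hs, hsu, htv⟩
    rw [hdisj] at this
    exact this.elim
  have hsup : A ⊔ B = C ⊓ U := by
    apply le_antisymm
    · apply sup_le
      · rintro y ⟨s, ⟨hs, -⟩, rfl⟩
        exact ⟨hs, s.2⟩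
      · rintro y ⟨s, ⟨hs, -⟩, rfl⟩
        exact ⟨hs, s.2⟩
    · rintro y ⟨hyC, hyU⟩
      rcases hSuv (show (⟨y, hyU⟩ : U) ∈ Subtype.val ⁻¹' (C : Set X) from hyC) with hy | hy
      · exact Or.inl ⟨⟨y, hyU⟩, ⟨hyC, hy⟩, rfl⟩
      · exact Or.inr ⟨⟨y, hyU⟩, ⟨hyC, hy⟩, rfl⟩
  obtain ⟨e, he1, he0, hee⟩ := exists_one_zero A B hAB
  have hle : A ⊔ B ≤ C := hsup.le.trans inf_le_left
  have hb : Function.Bijective (X.presheaf.map (homOfLE hle).op) :=
    (ExtFree.bij_congrO rfl hsup hle inf_le_left).mpr (Hartogs2.bijective_res U h C)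
  obtain ⟨e', he'⟩ := hb.2 e
  have he'0 : e' * (1 - e') = 0 := by
    apply hb.1
    rw [map_mul, map_sub, map_one, he', hee, map_zero]
  have hcover : (C : Set X) ⊆ (X.basicOpen e' : Set X) ∪ (X.basicOpen (1 - e') : Set X) := by
    intro y hy
    rcases IsLocalRing.isUnit_or_isUnit_one_sub_self (X.presheaf.germ C y hy e') with h1 | h1
    · exact Or.inl ((X.mem_basicOpen e' y hy).mpr h1)
    · right
      refine (X.mem_basicOpen (1 - e') y hy).mpr ?_
      rw [map_sub, map_one]
      exact h1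
  have hdis : (C : Set X) ∩ ((X.basicOpen e' : Set X) ∩ (X.basicOpen (1 - e') : Set X)) = ∅ := by
    have h0 : X.basicOpen e' ⊓ X.basicOpen (1 - e') = ⊥ := by
      rw [← Scheme.basicOpen_mul, he'0, Scheme.basicOpen_zero]
    rw [Set.eq_empty_iff_forall_notMem]
    rintro y ⟨-, hy1, hy2⟩
    have : y ∈ X.basicOpen e' ⊓ X.basicOpen (1 - e') := ⟨hy1, hy2⟩
    rw [h0] at this
    exact this
  have hAC : A ≤ C := le_sup_left.trans hle
  have hBC : B ≤ C := le_sup_right.trans hle
  have heA : X.presheaf.map (homOfLE hAC).op e' = 1 := by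
    rw [← resO_resO hle le_sup_left, he', he1]
  have heB : X.presheaf.map (homOfLE hBC).op e' = 0 := by
    rw [← resO_resO hle le_sup_right, he', he0]
  rcases (isPreconnected_iff_subset_of_disjoint.mp hC) _ _ (X.basicOpen e').isOpen
    (X.basicOpen (1 - e')).isOpen hcover hdis with hC1 | hC2
  · left
    intro s hs
    rcases hSuv hs with hsu | hsv
    · exact hsu
    · exfalso
      have hsB : (s : X) ∈ B := ⟨s, ⟨hs, hsv⟩, rfl⟩
      have hunit := (X.mem_basicOpen e' s.1 hs).mp (hC1 hs)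
      have h0 : X.presheaf.germ C s.1 hs e' = 0 := by
        rw [← Groth.Agent.Helper4.QcqsMod.germ_resO hBC s.1 hsB e', heB, map_zero]
      rw [h0] at hunit
      exact not_isUnit_zero hunit
  · right
    intro s hs
    rcases hSuv hs with hsu | hsv
    · exfalso
      have hsA : (s : X) ∈ A := ⟨s, ⟨hs, hsu⟩, rfl⟩
      have hunit := (X.mem_basicOpen (1 - e') s.1 hs).mp (hC2 hs)
      have h0 : X.presheaf.germ C s.1 hs (1 - e') = 0 := by
        rw [← Groth.Agent.Helper4.QcqsMod.germ_resO hAC s.1 hsA (1 - e'), map_sub, map_one, heA,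
          sub_self, map_zero]
      rw [h0] at hunit
      exact not_isUnit_zero hunit
    · exact hsv


include h in
/-- S5153 -/
theorem main : Function.Bijective (Continuous.connectedComponentsMap
    (continuous_subtype_val : Continuous (fun x : U => (x : X)))) := by
  haveI : LocallyConnectedSpace X := locallyConnectedSpace
  constructor
  · intro c₁ c₂ hc
    obtain ⟨u₁, rfl⟩ := ConnectedComponents.surjective_coe c₁
    obtain ⟨u₂, rfl⟩ := ConnectedComponents.surjective_coe c₂
    have hc' : ((u₁ : X) : _root_.ConnectedComponents X) = ((u₂ : X) : _root_.ConnectedComponents X) := hc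
    rw [ConnectedComponents.coe_eq_coe'] at hc' ⊢
    let C : X.Opens := ⟨connectedComponent (u₂ : X), isOpen_connectedComponent⟩
    have hpre := isPreconnected_preimage U h C isPreconnected_connectedComponent
    exact hpre.subset_connectedComponent (show u₂ ∈ Subtype.val ⁻¹' (C : Set X) from
      mem_connectedComponent) hc'
  · intro c
    obtain ⟨x, rfl⟩ := ConnectedComponents.surjective_coe c
    let C : X.Opens := ⟨connectedComponent x, isOpen_connectedComponent⟩
    obtain ⟨u, huC, huU⟩ := exists_mem_inf U h C x mem_connectedComponent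
    refine ⟨(ConnectedComponents.mk (⟨u, huU⟩ : ↥(U : Set X)) : _root_.ConnectedComponents ↥(U : Set X)), ?_⟩
    change ((u : X) : _root_.ConnectedComponents X) = (x : _root_.ConnectedComponents X)
    rw [ConnectedComponents.coe_eq_coe']
    exact huC

end Groth.Agent.Lead.ConnHartogs
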