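import Groth.Agent.Lead.BCMap1

/-!
# Lead: the base change map `g^* f_* F ⟶ f'_* g'^* F` and its action on sections
-/

set_option autoImplicit false
open CategoryTheory AlgebraicGeometry Opposite TopologicalSpace
universe u

namespace Groth.Agent.Lead.BCMap
open Scheme.Modules

variable {X S X' S' : Scheme.{u}} (f : X ⟶ S) (g : S' ⟶ S) (g' : X' ⟶ X) (f' : X' ⟶ S')
  (w : g' ≫ f = f' ≫ g) (F : X.Modules)

/-- the morphism `f_* F ⟶ g_* f'_* g'^* F` -/
noncomputable def bcAdj : (pushforward f).obj F ⟶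
    (pushforward g).obj ((pushforward f').obj ((Scheme.Modules.pullback g').obj F)) :=
  (pushforward f).map ((pullbackPushforwardAdjunction g').unit.app F) ≫
    (pushforwardComp g' f).hom.app ((Scheme.Modules.pullback g').obj F) ≫
    (pushforwardCongr w).hom.app ((Scheme.Modules.pullback g').obj F) ≫
    (pushforwardComp f' g).inv.app ((Scheme.Modules.pullback g').obj F)

/-- the base change map -/
noncomputable def bcMap : (Scheme.Modules.pullback g).obj ((pushforward f).obj F) ⟶
    (pushforward f').obj ((Scheme.Modules.pullback g').obj F) :=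
  ((pullbackPushforwardAdjunction g).homEquiv ((pushforward f).obj F)
    ((pushforward f').obj ((Scheme.Modules.pullback g').obj F))).symm (bcAdj f g g' f' w F)

include w in
theorem preimage_le (V : S.Opens) (V' : S'.Opens) (e : V' ≤ g ⁻¹ᵁ V) :
    f' ⁻¹ᵁ V' ≤ g' ⁻¹ᵁ (f ⁻¹ᵁ V) := by
  intro x hx
  have h1 : g (f' x) ∈ V := e hx
  have h2 : g (f' x) = f (g' x) := by
    have := congrArg (fun φ : X' ⟶ S => φ x) w
    simpa using this.symm
  change f (g' x) ∈ V
  rw [← h2]; exact h1

theorem bcAdj_app (V : S.Opens) (m : Γ(F, f ⁻¹ᵁ V)) :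
    (bcAdj f g g' f' w F).app V m =
      ((Scheme.Modules.pullback g').obj F).presheaf.map
        (homOfLE (preimage_le f g g' f' w V (g ⁻¹ᵁ V) le_rfl)).op
        (((pullbackPushforwardAdjunction g').unit.app F).app (f ⁻¹ᵁ V) m) := by
  unfold bcAdj
  simp only [Hom.comp_app, pushforward_map_app, pushforwardComp_hom_app_app,
    pushforwardComp_inv_app_app, pushforwardCongr_hom_app_app]
  rfl

theorem bcMap_pbSec (V : S.Opens) (V' : S'.Opens) (e : V' ≤ g ⁻¹ᵁ V) (m : Γ(F, f ⁻¹ᵁ V)) :
    (bcMap f g g' f' w F).app V' (pbSec g ((pushforward f).obj F) V V' e m) =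
      pbSec g' F (f ⁻¹ᵁ V) (f' ⁻¹ᵁ V') (preimage_le f g g' f' w V V' e) m := by
  rw [← homEquiv_app g ((pushforward f).obj F) (bcMap f g g' f' w F) V V' e m]
  unfold bcMap
  rw [Equiv.apply_symm_apply, bcAdj_app, pbSec_apply]
  exact Groth.Agent.Helper4.QcohGlue.map_map_thin ((Scheme.Modules.pullback g').obj F) _
    ((Opens.map f'.base).map (homOfLE e)).op _ _

end Groth.Agent.Lead.BCMap
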