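import Groth.Agent.Lead.BCMap5

set_option autoImplicit false
open CategoryTheory AlgebraicGeometry Opposite TopologicalSpace
universe u

namespace Groth.Agent.Lead.HomDesc
open Scheme.Modules Groth.Agent.Lead.BCMap

section comp
variable {X Y Z : Scheme.{u}} (f : X ⟶ Y) (g : Y ⟶ Z) (F : Z.Modules)

theorem pullbackComp_unit (U : Z.Opens) (m : Γ(F, U)) :
    ((pullbackComp f g).inv.app F).app (f ⁻¹ᵁ (g ⁻¹ᵁ U))
      (((pullbackPushforwardAdjunction (f ≫ g)).unit.app F).app U m) =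
    ((pullbackPushforwardAdjunction f).unit.app ((Scheme.Modules.pullback g).obj F)).app (g ⁻¹ᵁ U)
      (((pullbackPushforwardAdjunction g).unit.app F).app U m) := by
  have h := unit_conjugateEquiv
    ((pullbackPushforwardAdjunction g).comp (pullbackPushforwardAdjunction f))
    (pullbackPushforwardAdjunction (f ≫ g)) (pullbackComp f g).inv F
  rw [conjugateEquiv_pullbackComp_inv] at h
  have h2 := congrArg (fun ψ => (Scheme.Modules.Hom.app ψ U) m) h
  simp only [Adjunction.comp_unit_app, Hom.comp_app, pushforwardComp_hom_app_app,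
    pushforward_map_app, Functor.comp_map] at h2
  exact h2.symm

theorem pbSec_comp {U : Z.Opens} {V : Y.Opens} {W : X.Opens} (e₁ : V ≤ g ⁻¹ᵁ U)
    (e₂ : W ≤ f ⁻¹ᵁ V) (e : W ≤ (f ≫ g) ⁻¹ᵁ U) (m : Γ(F, U)) :
    ((pullbackComp f g).hom.app F).app W
        (pbSec f ((Scheme.Modules.pullback g).obj F) V W e₂ (pbSec g F U V e₁ m)) =
      pbSec (f ≫ g) F U W e m := by
  have hW : W ≤ f ⁻¹ᵁ (g ⁻¹ᵁ U) := e
  -- step 1: move the restriction outside
  have h1 : pbSec f ((Scheme.Modules.pullback g).obj F) V W e₂ (pbSec g F U V e₁ m) =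
      ((Scheme.Modules.pullback f).obj ((Scheme.Modules.pullback g).obj F)).presheaf.map
        (homOfLE hW).op
        (((pullbackPushforwardAdjunction f).unit.app ((Scheme.Modules.pullback g).obj F)).app
          (g ⁻¹ᵁ U) (((pullbackPushforwardAdjunction g).unit.app F).app U m)) := by
    rw [pbSec_apply g F U V e₁ m]
    rw [pbSec_res f ((Scheme.Modules.pullback g).obj F) (U₁ := g ⁻¹ᵁ U) (U₂ := V)
      (V₁ := f ⁻¹ᵁ (g ⁻¹ᵁ U)) (V₂ := W) le_rfl e₂ e₁ hW]
    congr 1
    rw [pbSec_apply]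
    erw [CategoryTheory.Functor.map_id]
    rfl
  rw [h1, ← pullbackComp_unit]
  refine (Groth.Agent.Helper4.StalkExact.app_res ((pullbackComp f g).hom.app F) (homOfLE hW)
    _).trans ?_
  rw [pbSec_apply]
  congr 1
  have h3 := congrArg (fun ψ => (Scheme.Modules.Hom.app ψ (f ⁻¹ᵁ (g ⁻¹ᵁ U)))
    (((pullbackPushforwardAdjunction (f ≫ g)).unit.app F).app U m))
    (Iso.inv_hom_id_app (pullbackComp f g) F)
  simp only [Hom.comp_app] at h3
  exact h3

theorem pbSec_congr {f f' : X ⟶ Y} (hf : f = f') (G : Y.Modules) {U : Y.Opens} {W : X.Opens}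
    (e : W ≤ f ⁻¹ᵁ U) (e' : W ≤ f' ⁻¹ᵁ U) (m : Γ(G, U)) :
    ((pullbackCongr hf).hom.app G).app W (pbSec f G U W e m) = pbSec f' G U W e' m := by
  subst hf
  simp [pullbackCongr]

end comp

end Groth.Agent.Lead.HomDesc
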