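import Mathlib
import Groth.Prelude.Def_ClSub2

/-!
# Closed subsets proper over a base: helper lemmas
-/

namespace Groth.Agent.Lead.ProperOver

open AlgebraicGeometry CategoryTheory Limits MorphismProperty

universe u

set_option backward.isDefEq.respectTransparency.types false in
/-- universally closed descends along a finite jointly surjective family. -/
lemma universallyClosed_of_jointly_surjective {ι : Type*} [Finite ι] {Y Z : Scheme.{u}}
    (X : ι → Scheme.{u}) (h : ∀ i, X i ⟶ Y) (g : Y ⟶ Z)
    (hsurj : ∀ y : Y, ∃ i, ∃ x : X i, h i x = y)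
    (hc : ∀ i, UniversallyClosed (h i ≫ g)) : UniversallyClosed g := by
  constructor
  intro Y' Z' i₁ i₂ g' H C hC
  have key : g' '' C = ⋃ i, (pullback.fst i₁ (h i) ≫ g') '' ((pullback.fst i₁ (h i)) ⁻¹' C) := by
    ext z
    constructor
    · rintro ⟨y', hy', rfl⟩
      obtain ⟨i, x, hx⟩ := hsurj (i₁ y')
      obtain ⟨w, hw1, hw2⟩ := Scheme.Pullback.exists_preimage_pullback y' x hx.symm
      refine Set.mem_iUnion.mpr ⟨i, w, ?_, ?_⟩
      · show pullback.fst i₁ (h i) w ∈ C
        rw [hw1]; exact hy'
      · rw [Scheme.Hom.comp_apply, hw1]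
    · intro hz
      obtain ⟨i, w, hw, rfl⟩ := Set.mem_iUnion.mp hz
      exact ⟨pullback.fst i₁ (h i) w, hw, by rw [Scheme.Hom.comp_apply]⟩
  rw [key]
  apply isClosed_iUnion_of_finite
  intro i
  have := (hc i).universally_isClosedMap _ _ _
    ((IsPullback.of_hasPullback i₁ (h i)).paste_horiz H)
  exact this _ (hC.preimage (Scheme.Hom.continuous _))

/-- quasi-compactness descends along a finite jointly surjective family. -/
lemma quasiCompact_of_jointly_surjective {ι : Type*} [Finite ι] {Y Z : Scheme.{u}}
    (X : ι → Scheme.{u}) (h : ∀ i, X i ⟶ Y) (g : Y ⟶ Z)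
    (hsurj : ∀ y : Y, ∃ i, ∃ x : X i, h i x = y)
    (hc : ∀ i, QuasiCompact (h i ≫ g)) : QuasiCompact g := by
  constructor
  intro U hU hU'
  have key : g ⁻¹' U = ⋃ i, h i '' ((h i ≫ g) ⁻¹' U) := by
    ext y
    constructor
    · intro hy
      obtain ⟨i, x, rfl⟩ := hsurj y
      exact Set.mem_iUnion.mpr ⟨i, x, by simpa using hy, rfl⟩
    · intro hy
      obtain ⟨i, x, hx, rfl⟩ := Set.mem_iUnion.mp hy
      simpa using hx
  rw [key]
  apply isCompact_iUnion
  intro i
  exact ((hc i).isCompact_preimage U hU hU').image (h i).continuous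

/-- separatedness descends along a finite jointly surjective family of universally closed maps. -/
lemma isSeparated_of_jointly_surjective {ι : Type*} [Finite ι] {Y Z : Scheme.{u}}
    (X : ι → Scheme.{u}) (h : ∀ i, X i ⟶ Y) (g : Y ⟶ Z)
    (hsurj : ∀ y : Y, ∃ i, ∃ x : X i, h i x = y)
    (huc : ∀ i, UniversallyClosed (h i))
    (hc : ∀ i, IsSeparated (h i ≫ g)) : IsSeparated g := by
  constructor
  apply IsClosedImmersion.of_isPreimmersion
  have h1 : ∀ i, h i ≫ pullback.diagonal g = pullback.diagonal (h i ≫ g) ≫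
      pullback.map (h i ≫ g) (h i ≫ g) g g (h i) (h i) (𝟙 _) (by simp) (by simp) := by
    intro i
    apply pullback.hom_ext
    · simp only [Category.assoc, pullback.diagonal_fst, Category.comp_id, pullback.lift_fst]
      rw [pullback.diagonal_fst_assoc]
    · simp only [Category.assoc, pullback.diagonal_snd, Category.comp_id, pullback.lift_snd]
      rw [pullback.diagonal_snd_assoc]
  have h2 : ∀ i, UniversallyClosed
      (pullback.map (h i ≫ g) (h i ≫ g) g g (h i) (h i) (𝟙 _) (by simp) (by simp)) := fun i =>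
    MorphismProperty.pullbackMap (P := @UniversallyClosed) (huc i) (huc i) rfl rfl
  have key : Set.range (pullback.diagonal g) = ⋃ i, Set.range (h i ≫ pullback.diagonal g) := by
    ext z
    constructor
    · rintro ⟨y, rfl⟩
      obtain ⟨i, x, rfl⟩ := hsurj y
      exact Set.mem_iUnion.mpr ⟨i, x, by rw [Scheme.Hom.comp_apply]⟩
    · intro hz
      obtain ⟨i, x, rfl⟩ := Set.mem_iUnion.mp hz
      exact ⟨h i x, by rw [Scheme.Hom.comp_apply]⟩
  rw [key]
  apply isClosed_iUnion_of_finite
  intro i
  rw [h1 i]
  have hcl : IsClosed (Set.range (pullback.diagonal (h i ≫ g))) :=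
    (pullback.diagonal (h i ≫ g)).isClosedEmbedding.isClosed_range
  have : Set.range (pullback.diagonal (h i ≫ g) ≫
      pullback.map (h i ≫ g) (h i ≫ g) g g (h i) (h i) (𝟙 _) (by simp) (by simp)) =
      (pullback.map (h i ≫ g) (h i ≫ g) g g (h i) (h i) (𝟙 _) (by simp) (by simp)) ''
        Set.range (pullback.diagonal (h i ≫ g)) := by
    rw [← Set.range_comp]
    rfl
  rw [this]
  exact (h2 i).1 _ _ _ IsPullback.of_id_snd _ hcl

/-- properness descends along a finite jointly surjective family of universally closed maps. -/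
lemma isProper_of_jointly_surjective {ι : Type*} [Finite ι] {Y Z : Scheme.{u}}
    (X : ι → Scheme.{u}) (h : ∀ i, X i ⟶ Y) (g : Y ⟶ Z) [LocallyOfFiniteType g]
    (hsurj : ∀ y : Y, ∃ i, ∃ x : X i, h i x = y)
    (huc : ∀ i, UniversallyClosed (h i))
    (hc : ∀ i, IsProper (h i ≫ g)) : IsProper g := by
  rw [isProper_iff]
  exact ⟨isSeparated_of_jointly_surjective X h g hsurj huc (fun i => inferInstance),
    universallyClosed_of_jointly_surjective X h g hsurj (fun i => inferInstance), inferInstance⟩

/-- single map version -/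
lemma isProper_of_comp_surjective {X Y Z : Scheme.{u}} (h : X ⟶ Y) (g : Y ⟶ Z)
    [LocallyOfFiniteType g] [UniversallyClosed h] [Surjective h] [IsProper (h ≫ g)] :
    IsProper g :=
  isProper_of_jointly_surjective (ι := Unit) (fun _ => X) (fun _ => h) g
    (fun y => ⟨(), h.surjective y⟩) (fun _ => inferInstance) (fun _ => inferInstance)

/-- The reduced induced closed subscheme maps by a surjective closed immersion to any closed
subscheme with the same underlying set. -/
lemma exists_thickening_of_range_eq {X T : Scheme.{u}} (i : T ⟶ X) [IsClosedImmersion i]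
    (Z : TopologicalSpace.Closeds X) (hZ : Set.range i = (Z : Set X)) :
    ∃ j : (Scheme.IdealSheafData.vanishingIdeal Z).subscheme ⟶ T,
      IsClosedImmersion j ∧ Surjective j ∧
        j ≫ i = (Scheme.IdealSheafData.vanishingIdeal Z).subschemeι := by
  have hle : i.ker ≤ Scheme.IdealSheafData.vanishingIdeal Z := by
    rw [← Scheme.IdealSheafData.le_support_iff_le_vanishingIdeal]
    intro x hx
    have : (i.ker.support : Set X) = closure (Set.range i) := Scheme.Hom.support_ker i
    show x ∈ (i.ker.support : Set X)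
    rw [this, hZ, Z.isClosed.closure_eq]
    exact hx
  have hle' : i.ker ≤ (Scheme.IdealSheafData.vanishingIdeal Z).subschemeι.ker := by
    rwa [Scheme.IdealSheafData.ker_subschemeι]
  refine ⟨IsClosedImmersion.lift i _ hle', ?_, ?_, IsClosedImmersion.lift_fac _ _ _⟩
  · have : IsClosedImmersion (IsClosedImmersion.lift i _ hle' ≫ i) := by
      rw [IsClosedImmersion.lift_fac]; infer_instance
    exact IsClosedImmersion.of_comp _ i
  · constructor
    intro t
    have ht : i t ∈ Set.range (Scheme.IdealSheafData.vanishingIdeal Z).subschemeι := by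
      rw [Scheme.IdealSheafData.range_subschemeι,
        Scheme.IdealSheafData.coe_support_vanishingIdeal, ← hZ]
      exact ⟨t, rfl⟩
    obtain ⟨z, hz⟩ := ht
    refine ⟨z, ?_⟩
    apply i.isClosedEmbedding.injective
    rw [← Scheme.Hom.comp_apply, IsClosedImmersion.lift_fac]
    exact hz

/-- `IsProperOver` can be checked on any closed subscheme structure. -/
theorem isProperOver_iff_of_range_eq {X S T : Scheme.{u}} (f : X ⟶ S) [LocallyOfFiniteType f]
    (i : T ⟶ X) [IsClosedImmersion i] (Z : Set X) (hZ : Set.range i = Z) :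
    ClSub.IsProperOver f Z ↔ IsProper (i ≫ f) := by
  have hcl : IsClosed Z := hZ ▸ i.isClosedEmbedding.isClosed_range
  obtain ⟨j, hj1, hj2, hj3⟩ := exists_thickening_of_range_eq i ⟨Z, hcl⟩ hZ
  constructor
  · rintro ⟨_, hp⟩
    have : IsProper (j ≫ (i ≫ f)) := by
      rw [← Category.assoc, hj3]; exact hp
    exact isProper_of_comp_surjective j (i ≫ f)
  · intro hp
    refine ⟨hcl, ?_⟩
    rw [← hj3, Category.assoc]
    infer_instance

end Groth.Agent.Lead.ProperOver
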