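import Mathlib
import Groth.Prelude.Def_ClSub2
import Groth.Agent.Lead.ProperOver

/-!
# Closed subsets proper over a base: images
-/

namespace Groth.Agent.Lead.ProperOver

open AlgebraicGeometry CategoryTheory Limits MorphismProperty

universe u

/-- image of a closed subset proper over the base, when the induced map is universally closed. -/
theorem isProperOver_image {X Y S : Scheme.{u}} (p : X ⟶ S) (q : Y ⟶ S)
    [LocallyOfFiniteType q] (f : X ⟶ Y) (w : f ≫ q = p)
    (Z : Set X) (hcl : IsClosed Z)
    (hp : IsProper ((Scheme.IdealSheafData.vanishingIdeal ⟨Z, hcl⟩).subschemeι ≫ p))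
    (huc : UniversallyClosed ((Scheme.IdealSheafData.vanishingIdeal ⟨Z, hcl⟩).subschemeι ≫ f)) :
    ClSub.IsProperOver q (f '' Z) := by
  set ι := (Scheme.IdealSheafData.vanishingIdeal ⟨Z, hcl⟩).subschemeι with hι
  set g := ι ≫ f with hg
  have hr : Set.range ι = Z := by
    rw [Scheme.IdealSheafData.range_subschemeι, Scheme.IdealSheafData.coe_support_vanishingIdeal]
    rfl
  have hrg : Set.range g = f '' Z := by
    rw [hg, Scheme.Hom.comp_base, TopCat.coe_comp, Set.range_comp, hr]
  have hsurj : Surjective g.toImage := inferInstance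
  have hrange : Set.range g.imageι = f '' Z := by
    rw [← hrg]
    conv_rhs => rw [← g.toImage_imageι]
    rw [Scheme.Hom.comp_base, TopCat.coe_comp, Set.range_comp, Set.range_eq_univ.mpr hsurj.1,
      Set.image_univ]
  rw [isProperOver_iff_of_range_eq q g.imageι _ hrange]
  have : IsProper (g.toImage ≫ (g.imageι ≫ q)) := by
    rw [← Category.assoc, g.toImage_imageι, hg, Category.assoc, w]
    exact hp
  exact isProper_of_comp_surjective g.toImage (g.imageι ≫ q)

end Groth.Agent.Lead.ProperOver
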