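import Mathlib
import Groth.Prelude.Def_BlowUp2
import Groth.Agent.Helper1.FlatCxLinAlg

/-!
# Effective Cartier ideal sheaves: restriction to smaller affines, flatness of the subscheme
-/

set_option autoImplicit false
universe u
open CategoryTheory CategoryTheory.Limits AlgebraicGeometry TopologicalSpace
open Function TensorProduct

namespace Groth.Agent.Lead.EffCartier


section Ext
variable {A : Type*} [CommRing A]

/-- An extension of flat modules is flat. -/
theorem flat_of_exact_of_flat_of_flat {K X C : Type*} [AddCommGroup K] [Module A K] [AddCommGroup X]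
    [Module A X] [AddCommGroup C] [Module A C] (i : K →ₗ[A] X) (g : X →ₗ[A] C)
    (hi : Injective i) (hg : Surjective g) (hex : Exact i g) [Module.Flat A K] [Module.Flat A C] :
    Module.Flat A X := by
  rw [Module.Flat.iff_lTensor_preserves_injective_linearMap]
  intro N N' _ _ _ _ L hL
  have hiN' : Injective (i.rTensor N') := by
    rw [← LinearMap.lTensor_inj_iff_rTensor_inj]
    exact LinearMap.lTensor_injective_of_exact_of_flat g hg i hi hex N'
  have hexN : Exact (i.rTensor N) (g.rTensor N) := rTensor_exact N hex hg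
  have hK : Injective (L.lTensor K) := Module.Flat.lTensor_preserves_injective_linearMap L hL
  have hC : Injective (L.lTensor C) := Module.Flat.lTensor_preserves_injective_linearMap L hL
  rw [injective_iff_map_eq_zero]
  intro z hz
  have h1 : (L.lTensor C) ((g.rTensor N) z) = 0 := by
    have : (L.lTensor C) ∘ₗ (g.rTensor N) = (g.rTensor N') ∘ₗ (L.lTensor X) := by
      rw [LinearMap.lTensor_comp_rTensor, LinearMap.rTensor_comp_lTensor]
    have := congrArg (fun F => F z) this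
    simp only [LinearMap.comp_apply] at this
    rw [this, hz, map_zero]
  have h2 : (g.rTensor N) z = 0 := by
    apply hC; rw [h1, map_zero]
  obtain ⟨w, rfl⟩ := (hexN z).mp h2
  have h3 : (i.rTensor N') ((L.lTensor K) w) = 0 := by
    have : (i.rTensor N') ∘ₗ (L.lTensor K) = (L.lTensor X) ∘ₗ (i.rTensor N) := by
      rw [LinearMap.lTensor_comp_rTensor, LinearMap.rTensor_comp_lTensor]
    have := congrArg (fun F => F w) this
    simp only [LinearMap.comp_apply] at this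
    rw [this, hz]
  have h4 : (L.lTensor K) w = 0 := by
    apply hiN'; rw [h3, map_zero]
  have h5 : w = 0 := by
    apply hK; rw [h4, map_zero]
  rw [h5, map_zero]

end Ext

section Quot
variable {B : Type*} [CommRing B]

/-- multiplication by `g1` as a map `B/(g2) → B/(g1 g2)`. -/
noncomputable def mulQ (g1 g2 : B) : (B ⧸ Ideal.span {g2}) →ₗ[B] (B ⧸ Ideal.span {g1 * g2}) :=
  Submodule.mapQ (Ideal.span {g2}) (Ideal.span {g1 * g2}) (LinearMap.mulLeft B g1) (by
    intro b hb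
    rw [Submodule.mem_comap, LinearMap.mulLeft_apply]
    rw [Ideal.mem_span_singleton'] at hb ⊢
    obtain ⟨c, rfl⟩ := hb
    exact ⟨c, by ring⟩)

/-- the projection `B/(g1 g2) → B/(g1)`. -/
noncomputable def projQ (g1 g2 : B) : (B ⧸ Ideal.span {g1 * g2}) →ₗ[B] (B ⧸ Ideal.span {g1}) :=
  Submodule.mapQ (Ideal.span {g1 * g2}) (Ideal.span {g1}) LinearMap.id (by
    intro b hb
    rw [Submodule.mem_comap, LinearMap.id_apply]
    rw [Ideal.mem_span_singleton'] at hb ⊢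
    obtain ⟨c, rfl⟩ := hb
    exact ⟨c * g2, by ring⟩)

theorem mulQ_mk (g1 g2 b : B) :
    mulQ g1 g2 (Ideal.Quotient.mk _ b) = Ideal.Quotient.mk _ (g1 * b) := rfl

theorem projQ_mk (g1 g2 b : B) :
    projQ g1 g2 (Ideal.Quotient.mk _ b) = Ideal.Quotient.mk _ b := rfl

theorem mulQ_injective (g1 g2 : B) (h1 : g1 ∈ nonZeroDivisors B) : Injective (mulQ g1 g2) := by
  rw [injective_iff_map_eq_zero]
  intro y hy
  obtain ⟨c, rfl⟩ := Ideal.Quotient.mk_surjective y
  rw [mulQ_mk, Ideal.Quotient.eq_zero_iff_mem, Ideal.mem_span_singleton'] at hy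
  obtain ⟨d, hd⟩ := hy
  rw [Ideal.Quotient.eq_zero_iff_mem, Ideal.mem_span_singleton']
  refine ⟨d, ?_⟩
  have : g1 * (d * g2) = g1 * c := by rw [← hd]; ring
  exact (mul_cancel_left_mem_nonZeroDivisors h1).mp this

theorem projQ_surjective (g1 g2 : B) : Surjective (projQ g1 g2) := by
  intro y
  obtain ⟨c, rfl⟩ := Ideal.Quotient.mk_surjective y
  exact ⟨Ideal.Quotient.mk _ c, rfl⟩

theorem exact_mulQ_projQ (g1 g2 : B) : Exact (mulQ g1 g2) (projQ g1 g2) := by
  intro y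
  obtain ⟨b, rfl⟩ := Ideal.Quotient.mk_surjective y
  rw [projQ_mk, Ideal.Quotient.eq_zero_iff_mem, Ideal.mem_span_singleton']
  constructor
  · rintro ⟨c, rfl⟩
    exact ⟨Ideal.Quotient.mk _ c, by rw [mulQ_mk, mul_comm c g1]⟩
  · rintro ⟨z, hz⟩
    obtain ⟨c, rfl⟩ := Ideal.Quotient.mk_surjective z
    rw [mulQ_mk, Ideal.Quotient.eq, Ideal.mem_span_singleton'] at hz
    obtain ⟨d, hd⟩ := hz
    refine ⟨c - d * g2, ?_⟩
    linear_combination (-1 : B) * hd

variable {A : Type*} [CommRing A] [Algebra A B]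

theorem flat_quot_mul (g1 g2 : B) (h1 : g1 ∈ nonZeroDivisors B)
    [Module.Flat A (B ⧸ Ideal.span {g1})] [Module.Flat A (B ⧸ Ideal.span {g2})] :
    Module.Flat A (B ⧸ Ideal.span {g1 * g2}) :=
  flat_of_exact_of_flat_of_flat ((mulQ g1 g2).restrictScalars A) ((projQ g1 g2).restrictScalars A)
    (mulQ_injective g1 g2 h1) (projQ_surjective g1 g2) (exact_mulQ_projQ g1 g2)

theorem flat_quot_of_mul (g1 g : B) (h1 : g1 ∈ nonZeroDivisors B)
    [Module.Flat A (B ⧸ Ideal.span {g1})] [Module.Flat A (B ⧸ Ideal.span {g1 * g})] :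
    Module.Flat A (B ⧸ Ideal.span {g}) :=
  Groth.Agent.Helper1.FlatCx.flat_of_exact_of_flat ((mulQ g1 g).restrictScalars A)
    ((projQ g1 g).restrictScalars A)
    (mulQ_injective g1 g h1) (projQ_surjective g1 g) (exact_mulQ_projQ g1 g)

end Quot

/-- bridge between `RingHom.Flat` of the composite to the quotient and `Module.Flat`. -/
theorem ringHomFlat_quot_iff {A B : Type u} [CommRing A] [CommRing B] (φ : A →+* B) (I : Ideal B) :
    ((Ideal.Quotient.mk I).comp φ).Flat ↔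
      (letI := φ.toAlgebra; Module.Flat A (B ⧸ I)) := by
  let _ := φ.toAlgebra
  exact RingHom.flat_algebraMap_iff (R := A) (S := B ⧸ I)



theorem section_eq_zero {X : Scheme.{u}} (V : X.Opens) (s : Γ(X, V))
    (h : ∀ (x : X) (hx : x ∈ V), X.presheaf.germ V x hx s = 0) : s = 0 := by
  refine TopCat.Presheaf.section_ext X.sheaf V s 0 (fun x hx => ?_)
  exact (h x hx).trans (map_zero (X.presheaf.germ V x hx).hom).symm

/-- A nonzerodivisor on an affine open restricts to a nonzerodivisor on every smaller open. -/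
theorem nzd_res {X : Scheme.{u}} {V : X.Opens} (hV : IsAffineOpen V) (g : Γ(X, V))
    (hg : g ∈ nonZeroDivisors Γ(X, V)) (W : X.Opens) (hWV : W ≤ V) :
    X.presheaf.map (homOfLE hWV).op g ∈ nonZeroDivisors Γ(X, W) := by
  rw [mem_nonZeroDivisors_iff_right]
  intro a ha
  apply section_eq_zero
  intro x hxW
  obtain ⟨r, hrW, hxr⟩ := hV.exists_basicOpen_le (V := W) ⟨x, hxW⟩ (hWV hxW)
  have hloc := hV.isLocalization_basicOpen r
  have hg' : algebraMap Γ(X, V) Γ(X, X.basicOpen r) g ∈ nonZeroDivisors Γ(X, X.basicOpen r) :=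
    IsLocalization.map_nonZeroDivisors_le (Submonoid.powers r) _
      (Submonoid.mem_map_of_mem _ hg)
  have hcomp : X.presheaf.map (homOfLE hrW).op (X.presheaf.map (homOfLE hWV).op g) =
      algebraMap Γ(X, V) Γ(X, X.basicOpen r) g := by
    rw [← CommRingCat.comp_apply, ← Functor.map_comp]
    rfl
  have h0 : X.presheaf.map (homOfLE hrW).op a * algebraMap Γ(X, V) Γ(X, X.basicOpen r) g = 0 := by
    rw [← hcomp, ← map_mul, ha, map_zero]
  have h1 : X.presheaf.map (homOfLE hrW).op a = 0 :=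
    (mul_right_mem_nonZeroDivisors_eq_zero_iff hg').mp h0
  have := X.presheaf.germ_res_apply (homOfLE hrW) x hxr a
  erw [← this, h1]
  exact map_zero _

/-- Principal-by-nonzerodivisor passes to smaller affine opens. -/
theorem principal_res {X : Scheme.{u}} (𝓘 : X.IdealSheafData) (V W : X.affineOpens)
    (hWV : W ≤ V) (g : Γ(X, V.1)) (hg : g ∈ nonZeroDivisors Γ(X, V.1))
    (h : 𝓘.ideal V = Ideal.span {g}) :
    X.presheaf.map (homOfLE hWV).op g ∈ nonZeroDivisors Γ(X, W.1) ∧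
      𝓘.ideal W = Ideal.span {(X.presheaf.map (homOfLE hWV).op g : Γ(X, W.1))} := by
  refine ⟨nzd_res V.2 g hg W.1 hWV, ?_⟩
  rw [← 𝓘.map_ideal hWV, h, Ideal.map_span, Set.image_singleton]

/-- An effective Cartier ideal is principal by a nonzerodivisor on arbitrarily small affine opens. -/
theorem exists_le_of_isEffCartier {X : Scheme.{u}} (𝓘 : X.IdealSheafData)
    (h𝓘 : BlowUp.IsEffCartierIdeal 𝓘) (x : X) (O : X.Opens) (hxO : x ∈ O) :
    ∃ W : X.affineOpens, x ∈ W.1 ∧ W.1 ≤ O ∧ ∃ g : Γ(X, W.1), g ∈ nonZeroDivisors Γ(X, W.1) ∧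
      𝓘.ideal W = Ideal.span {g} := by
  obtain ⟨V, hxV, g, hg, h⟩ := h𝓘 x
  obtain ⟨_, ⟨W, hW, rfl⟩, hxW, hWle⟩ :=
    X.isBasis_affineOpens.exists_subset_of_mem_open (show x ∈ ((V.1 ⊓ O : X.Opens) : Set X) from
      ⟨hxV, hxO⟩) (V.1 ⊓ O).2
  have hWV : (⟨W, hW⟩ : X.affineOpens) ≤ V := fun y hy => (hWle hy).1
  obtain ⟨h1, h2⟩ := principal_res 𝓘 V ⟨W, hW⟩ hWV g hg h
  exact ⟨⟨W, hW⟩, hxW, fun y hy => (hWle hy).2, _, h1, h2⟩

theorem flat_stableSource : RingHom.StableUnderCompositionWithLocalizationAwaySource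
    (fun {R S : Type u} [CommRing R] [CommRing S] (f : R →+* S) => f.Flat) := by
  intro R S T _ _ _ _ r _ f hf
  exact RingHom.Flat.comp (RingHom.Flat.holdsForLocalizationAway S r) hf

/-- the composite `Γ(S,U) ⟶ Γ(X,V) ⟶ Γ(D, ι⁻¹V)` in terms of the quotient. -/
theorem appLE_subschemeι_comp {X S : Scheme.{u}} (f : X ⟶ S) (𝓘 : X.IdealSheafData)
    (U : S.affineOpens) (V : X.affineOpens) (e : V.1 ≤ f ⁻¹ᵁ U.1)
    (e' : 𝓘.subschemeι ⁻¹ᵁ V.1 ≤ (𝓘.subschemeι ≫ f) ⁻¹ᵁ U.1) :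
    (𝓘.subschemeι ≫ f).appLE U.1 (𝓘.subschemeι ⁻¹ᵁ V.1) e' =
      f.appLE U.1 V.1 e ≫ CommRingCat.ofHom (Ideal.Quotient.mk (𝓘.ideal V)) ≫
        (𝓘.subschemeObjIso V).inv := by
  rw [← 𝓘.subschemeι_app V, Scheme.Hom.app_eq_appLE, Scheme.Hom.appLE_comp_appLE]

theorem flat_comp_iso_inv_iff {R A B : CommRingCat.{u}} (φ : R ⟶ A) (i : B ≅ A) :
    (φ ≫ i.inv).hom.Flat ↔ φ.hom.Flat := by
  have hbij : Function.Bijective i.inv.hom := by
    exact ConcreteCategory.bijective_of_isIso i.inv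
  rw [CommRingCat.hom_comp]
  exact RingHom.Flat.comp_iff_of_bijective_left hbij

/-- Flatness of `D ⟶ S` gives flatness of `Γ(S,U) ⟶ Γ(X,V)/𝓘(V)`. -/
theorem flat_quot_of_flat {X S : Scheme.{u}} (f : X ⟶ S) (𝓘 : X.IdealSheafData)
    [Flat (𝓘.subschemeι ≫ f)] (U : S.affineOpens) (V : X.affineOpens) (e : V.1 ≤ f ⁻¹ᵁ U.1) :
    ((Ideal.Quotient.mk (𝓘.ideal V)).comp (f.appLE U.1 V.1 e).hom).Flat := by
  have e' : 𝓘.subschemeι ⁻¹ᵁ V.1 ≤ (𝓘.subschemeι ≫ f) ⁻¹ᵁ U.1 := by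
    intro d hd
    exact e hd
  have h1 := HasRingHomProperty.appLE (P := @Flat) (𝓘.subschemeι ≫ f) inferInstance U
    ⟨𝓘.subschemeι ⁻¹ᵁ V.1, V.2.preimage 𝓘.subschemeι⟩ e'
  rw [appLE_subschemeι_comp f 𝓘 U V e e', ← Category.assoc, flat_comp_iso_inv_iff] at h1
  exact h1

/-- Flatness of `D ⟶ S` can be checked on the quotients `Γ(S,U) ⟶ Γ(X,V)/𝓘(V)` locally. -/
theorem flat_of_flat_quot {X S : Scheme.{u}} (f : X ⟶ S) (𝓘 : X.IdealSheafData)
    (h : ∀ x : X, x ∈ 𝓘.support → ∃ (U : S.affineOpens) (V : X.affineOpens) (_ : x ∈ V.1)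
      (e : V.1 ≤ f ⁻¹ᵁ U.1),
      ((Ideal.Quotient.mk (𝓘.ideal V)).comp (f.appLE U.1 V.1 e).hom).Flat) :
    Flat (𝓘.subschemeι ≫ f) := by
  rw [HasRingHomProperty.iff_exists_appLE (P := @Flat) flat_stableSource]
  intro d
  have hd : 𝓘.subschemeι d ∈ 𝓘.support := by
    have : 𝓘.subschemeι d ∈ Set.range 𝓘.subschemeι := ⟨d, rfl⟩
    rw [𝓘.range_subschemeι] at this
    exact this
  obtain ⟨U, V, hxV, e, hflat⟩ := h _ hd
  have e' : 𝓘.subschemeι ⁻¹ᵁ V.1 ≤ (𝓘.subschemeι ≫ f) ⁻¹ᵁ U.1 := by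
    intro d hd
    exact e hd
  refine ⟨U, ⟨𝓘.subschemeι ⁻¹ᵁ V.1, V.2.preimage 𝓘.subschemeι⟩, hxV, e', ?_⟩
  rw [appLE_subschemeι_comp f 𝓘 U V e e', ← Category.assoc, flat_comp_iso_inv_iff]
  exact hflat

end Groth.Agent.Lead.EffCartier
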