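import Mathlib

set_option autoImplicit false
universe u
open AlgebraicGeometry CategoryTheory TopologicalSpace

namespace Groth.Agent.Lead.PropIntB

variable {X : Scheme.{u}} {U : X.Opens} (hU : IsAffineOpen U)

theorem fromSpec_mem (𝔭 : PrimeSpectrum Γ(X, U)) : hU.fromSpec 𝔭 ∈ U := by
  have h2 : hU.fromSpec 𝔭 ∈ Set.range hU.fromSpec := ⟨𝔭, rfl⟩
  rw [hU.range_fromSpec] at h2
  exact h2

theorem stalk_dim_eq_height (x : X) (hx : x ∈ U) :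
    ringKrullDim (X.presheaf.stalk x) =
      ((hU.primeIdealOf ⟨x, hx⟩).asIdeal.height : WithBot ℕ∞) := by
  letI : Algebra Γ(X, U) (X.presheaf.stalk x) := (X.presheaf.germ U x hx).hom.toAlgebra
  haveI : IsLocalization.AtPrime (X.presheaf.stalk x) (hU.primeIdealOf ⟨x, hx⟩).asIdeal :=
    hU.isLocalization_stalk ⟨x, hx⟩
  exact IsLocalization.AtPrime.ringKrullDim_eq_height _ _

theorem mem_support_iff (𝓘 : X.IdealSheafData) (𝔭 : PrimeSpectrum Γ(X, U)) :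
    hU.fromSpec 𝔭 ∈ 𝓘.support ↔ 𝓘.ideal ⟨U, hU⟩ ≤ 𝔭.asIdeal := by
  rw [Scheme.IdealSheafData.mem_support_iff_of_mem (U := ⟨U, hU⟩) (fromSpec_mem hU 𝔭)]
  have h3 := hU.fromSpec_preimage_zeroLocus (𝓘.ideal ⟨U, hU⟩ : Set Γ(X, U))
  have h4 : hU.fromSpec 𝔭 ∈ X.zeroLocus (U := U) (𝓘.ideal ⟨U, hU⟩ : Set Γ(X, U)) ↔
      𝔭 ∈ hU.fromSpec ⁻¹' X.zeroLocus (U := U) (𝓘.ideal ⟨U, hU⟩ : Set Γ(X, U)) := Iff.rfl
  rw [h4, h3]
  exact (PrimeSpectrum.mem_zeroLocus 𝔭 _).trans SetLike.coe_subset_coe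

theorem mem_support_iff' (𝓘 : X.IdealSheafData) (x : X) (hx : x ∈ U) :
    x ∈ 𝓘.support ↔ 𝓘.ideal ⟨U, hU⟩ ≤ (hU.primeIdealOf ⟨x, hx⟩).asIdeal := by
  rw [← mem_support_iff hU 𝓘, hU.fromSpec_primeIdealOf ⟨x, hx⟩]

theorem fromSpec_specializes_iff (𝔭 𝔮 : PrimeSpectrum Γ(X, U)) :
    hU.fromSpec 𝔭 ⤳ hU.fromSpec 𝔮 ↔ 𝔭 ≤ 𝔮 := by
  rw [hU.fromSpec.isOpenEmbedding.isInducing.specializes_iff, PrimeSpectrum.le_iff_specializes]
  exact Iff.rfl

theorem specializes_iff (x y : X) (hx : x ∈ U) (hy : y ∈ U) :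
    y ⤳ x ↔ hU.primeIdealOf ⟨y, hy⟩ ≤ hU.primeIdealOf ⟨x, hx⟩ := by
  rw [← fromSpec_specializes_iff hU, hU.fromSpec_primeIdealOf ⟨x, hx⟩,
    hU.fromSpec_primeIdealOf ⟨y, hy⟩]

include hU in
theorem isPrime_nilradical_of_irreducibleSpace [IrreducibleSpace X]
    (hne : (U : Set X).Nonempty) : (nilradical Γ(X, U)).IsPrime := by
  rw [← PrimeSpectrum.irreducibleSpace_iff_isPrime_nilradical, irreducibleSpace_def]
  have h1 : IsIrreducible (U : Set X) :=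
    ⟨hne, (IrreducibleSpace.isIrreducible_univ X).isPreirreducible.open_subset U.2
      (Set.subset_univ _)⟩
  haveI : IrreducibleSpace (U : Set X) := Subtype.irreducibleSpace h1
  have e : (U : Set X) ≃ₜ PrimeSpectrum Γ(X, U) := Scheme.homeoOfIso hU.isoSpec
  have h2 := (IrreducibleSpace.isIrreducible_univ (U : Set X)).image e e.continuous.continuousOn
  rw [Set.image_univ, e.surjective.range_eq] at h2
  exact h2

end Groth.Agent.Lead.PropIntB
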