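import Mathlib
import Groth.Prelude.Def_Found
import Groth.Prelude.Def_EGA4b
import Groth.Agent.Helper2.Caten2

set_option autoImplicit false
universe u
open IsLocalRing

namespace Groth.Agent.Lead.PropIntA

variable {A : Type u} [CommRing A]

theorem isEquidim_of_isPrime_nilradical (hn : (nilradical A).IsPrime) : EGA4.IsEquidim A := by
  intro p hp
  have hpn : p = nilradical A := by
    have h1 : nilradical A ≤ p := nilradical_le_prime p (H := hp.1.1)
    exact le_antisymm (hp.2 ⟨hn, bot_le⟩ h1) h1
  rw [hpn, ringKrullDim_quotient]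
  have : PrimeSpectrum.zeroLocus (R := A) (nilradical A) = Set.univ := by
    ext x
    simp only [PrimeSpectrum.mem_zeroLocus, SetLike.coe_subset_coe, Set.mem_univ, iff_true]
    exact nilradical_le_prime x.asIdeal
  rw [this, Order.krullDim_eq_of_orderIso OrderIso.Set.univ]
  rfl

theorem dim_eq_height_add_one [IsLocalRing A] [IsNoetherianRing A]
    (hc : CAlg.IsCatenary A) (hn : (nilradical A).IsPrime)
    (p : Ideal A) [hp : p.IsPrime] (g : A) (hg : g ∉ p)
    (hm : maximalIdeal A ∈ (p ⊔ Ideal.span {g}).minimalPrimes) :
    ringKrullDim A = ((p.height + 1 : ℕ∞) : WithBot ℕ∞) := by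
  have hcov := Groth.Agent.Helper2.Caten2.covBy_of_mem_minimalPrimes ⟨p, hp⟩ g hg _ hm
  have h1 := Groth.Agent.Helper2.Caten.coheight_of_covBy hc hcov
  have h2 : Order.coheight (⟨maximalIdeal A, hm.1.1⟩ : PrimeSpectrum A) = 0 := by
    rw [Order.coheight_eq_zero]
    intro y hy
    exact (PrimeSpectrum.asIdeal_le_asIdeal _ _).1 (le_maximalIdeal y.2.ne_top)
  rw [h2, zero_add] at h1
  have h3 := Groth.Agent.Helper2.Caten2.height_add_coheight_eq hc
    (isEquidim_of_isPrime_nilradical hn) (⟨p, hp⟩ : PrimeSpectrum A)
  rw [h1, ← PrimeSpectrum.height_eq_orderHeight] at h3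
  exact h3.symm

theorem height_eq_height_add_one {R : Type u} [CommRing R] [IsNoetherianRing R]
    (q q' : Ideal R) [hq : q.IsPrime] [hq' : q'.IsPrime] (A : Type u) [CommRing A] [Algebra R A]
    [IsLocalization.AtPrime A q]
    (hc : CAlg.IsCatenary A) (hn : (nilradical R).IsPrime)
    (g : R) (hg : g ∉ q') (hm : q ∈ (q' ⊔ Ideal.span {g}).minimalPrimes) :
    q.height = q'.height + 1 := by
  haveI : IsLocalRing A := IsLocalization.AtPrime.isLocalRing A q
  haveI : IsNoetherianRing A := IsLocalization.isNoetherianRing q.primeCompl A inferInstance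
  have hq'q : q' ≤ q := le_sup_left.trans hm.1.2
  have hgq : g ∈ q := hm.1.2 (Ideal.mem_sup_right (Ideal.mem_span_singleton_self g))
  have hdisj : ∀ I : Ideal R, I ≤ q → Disjoint (q.primeCompl : Set R) (I : Set R) := by
    intro I hI
    rw [Set.disjoint_left]
    intro x hx hxI
    exact hx (hI hxI)
  -- the prime p = q' A
  have hp : (q'.map (algebraMap R A)).IsPrime :=
    IsLocalization.isPrime_of_isPrime_disjoint q.primeCompl A q' hq' (hdisj q' hq'q)
  have hpc : (q'.map (algebraMap R A)).comap (algebraMap R A) = q' :=
    IsLocalization.comap_map_of_isPrime_disjoint q.primeCompl A hq' (hdisj q' hq'q)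
  -- the nilradical of A is prime
  have hnA : (nilradical A).IsPrime := by
    have hN : ((nilradical R).map (algebraMap R A)).IsPrime :=
      IsLocalization.isPrime_of_isPrime_disjoint q.primeCompl A _ hn
        (hdisj _ (nilradical_le_prime q))
    have : nilradical A = (nilradical R).map (algebraMap R A) := by
      apply le_antisymm
      · exact nilradical_le_prime _
      · rw [nilradical_eq_sInf A]
        apply le_sInf
        intro P hP
        have hP' : P.IsPrime := hP
        rw [Ideal.map_le_iff_le_comap]
        exact nilradical_le_prime (P.comap (algebraMap R A))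
    rw [this]; exact hN
  have hg' : algebraMap R A g ∉ q'.map (algebraMap R A) := by
    intro h
    have : g ∈ (q'.map (algebraMap R A)).comap (algebraMap R A) := h
    rw [hpc] at this
    exact hg this
  have hmA : maximalIdeal A ∈
      (q'.map (algebraMap R A) ⊔ Ideal.span {algebraMap R A g}).minimalPrimes := by
    have hmq : maximalIdeal A = q.map (algebraMap R A) :=
      (IsLocalization.AtPrime.map_eq_maximalIdeal q A).symm
    refine ⟨⟨inferInstance, ?_⟩, ?_⟩
    · rw [sup_le_iff, Ideal.span_le, Set.singleton_subset_iff]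
      refine ⟨le_maximalIdeal hp.ne_top, ?_⟩
      rw [hmq]
      exact Ideal.mem_map_of_mem _ hgq
    · rintro P ⟨hP, hPle⟩ -
      have hP' : P.IsPrime := hP
      have h1 : q' ⊔ Ideal.span {g} ≤ P.comap (algebraMap R A) := by
        rw [sup_le_iff, Ideal.span_le, Set.singleton_subset_iff]
        constructor
        · rw [← Ideal.map_le_iff_le_comap]
          exact le_sup_left.trans hPle
        · exact hPle (Ideal.mem_sup_right (Ideal.mem_span_singleton_self _))
      have h2 : P.comap (algebraMap R A) ≤ q := by
        intro x hx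
        by_contra hxq
        have : IsUnit (algebraMap R A x) := IsLocalization.map_units A (⟨x, hxq⟩ : q.primeCompl)
        exact hP'.ne_top (Ideal.eq_top_of_isUnit_mem _ hx this)
      have h3 : q ≤ P.comap (algebraMap R A) := hm.2 ⟨inferInstance, h1⟩ h2
      rw [hmq, Ideal.map_le_iff_le_comap]
      exact h3
  have h4 := dim_eq_height_add_one hc hnA (q'.map (algebraMap R A)) (algebraMap R A g) hg' hmA
  rw [IsLocalization.AtPrime.ringKrullDim_eq_height q A] at h4
  have h5 : (q'.map (algebraMap R A)).height = q'.height := by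
    have := IsLocalization.height_under q.primeCompl (q'.map (algebraMap R A))
    rw [Ideal.under, hpc] at this
    exact this.symm
  rw [h5] at h4
  exact_mod_cast h4

end Groth.Agent.Lead.PropIntA
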