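import Mathlib
import Groth.Prelude.Def_BlowUp2
import Groth.Prelude.Def_Found
import Groth.Agent.Lead.PropIntA
import Groth.Agent.Lead.PropIntB

set_option autoImplicit false
universe u
open AlgebraicGeometry CategoryTheory TopologicalSpace

namespace Groth.Agent.Lead.PropIntC

open Groth.Agent.Lead.PropIntA Groth.Agent.Lead.PropIntB

variable {X : Scheme.{u}}

/-- every point of an effective Cartier divisor has a local ring of dimension at least one -/
theorem one_le_dim_of_mem_support (𝓘 : X.IdealSheafData) (hY : BlowUp.IsEffCartierIdeal 𝓘)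
    (y : X) (hy : y ∈ 𝓘.support) : (1 : WithBot ℕ∞) ≤ ringKrullDim (X.presheaf.stalk y) := by
  obtain ⟨U, hyU, g, hg, h𝓘⟩ := hY y
  rw [stalk_dim_eq_height U.2 y hyU]
  have hgP : g ∈ (U.2.primeIdealOf ⟨y, hyU⟩).asIdeal := by
    have := (mem_support_iff' U.2 𝓘 y hyU).1 hy
    rw [h𝓘, Ideal.span_le, Set.singleton_subset_iff] at this
    exact this
  have hne : (U.2.primeIdealOf ⟨y, hyU⟩).asIdeal.height ≠ 0 := by
    intro h0
    rw [Ideal.height_eq_zero_iff] at h0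
    exact Set.disjoint_left.1 (Ideal.disjoint_nonZeroDivisors_of_mem_minimalPrimes h0) hgP hg
  have : (1 : ℕ∞) ≤ (U.2.primeIdealOf ⟨y, hyU⟩).asIdeal.height := Order.one_le_iff_ne_zero.2 hne
  exact_mod_cast this

/-- the generic point of an integral scheme does not lie on an effective Cartier divisor -/
theorem genericPoint_notMem_support {Z : Scheme.{u}} [IsIntegral Z] (𝓙 : Z.IdealSheafData)
    (hc : BlowUp.IsEffCartierIdeal 𝓙) : genericPoint Z ∉ 𝓙.support := by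
  intro hξ
  obtain ⟨W, hξW, f, hf, h𝓙⟩ := hc (genericPoint Z)
  have hW : IsAffineOpen W.1 := W.2
  have hfP : f ∈ (hW.primeIdealOf ⟨genericPoint Z, hξW⟩).asIdeal := by
    have := (mem_support_iff' hW 𝓙 _ hξW).1 hξ
    rw [h𝓙, Ideal.span_le, Set.singleton_subset_iff] at this
    exact this
  have hmin : (hW.primeIdealOf ⟨genericPoint Z, hξW⟩).asIdeal ∈ minimalPrimes Γ(Z, W.1) := by
    refine ⟨⟨(hW.primeIdealOf ⟨genericPoint Z, hξW⟩).2, bot_le⟩, ?_⟩
    rintro P ⟨hP, -⟩ -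
    have h1 : genericPoint Z ⤳ hW.fromSpec ⟨P, hP⟩ :=
      (genericPoint_spec Z).specializes (Set.mem_univ _)
    have h2 : hW.fromSpec (hW.primeIdealOf ⟨genericPoint Z, hξW⟩) = genericPoint Z :=
      hW.fromSpec_primeIdealOf ⟨genericPoint Z, hξW⟩
    have h3 : hW.fromSpec (hW.primeIdealOf ⟨genericPoint Z, hξW⟩) ⤳ hW.fromSpec ⟨P, hP⟩ := by
      rw [h2]; exact h1
    exact (fromSpec_specializes_iff hW _ _).1 h3
  exact Set.disjoint_left.1 (Ideal.disjoint_nonZeroDivisors_of_mem_minimalPrimes hmin) hfP hf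

theorem primeIdealOf_fromSpec {U : X.Opens} (hU : IsAffineOpen U) (P : PrimeSpectrum Γ(X, U)) :
    hU.primeIdealOf ⟨hU.fromSpec P, fromSpec_mem hU P⟩ = P :=
  hU.fromSpec.isOpenEmbedding.injective (hU.fromSpec_primeIdealOf ⟨hU.fromSpec P, fromSpec_mem hU P⟩)

theorem main {X Z : Scheme.{u}} [IsLocallyNoetherian X] [IrreducibleSpace ↥X]
    (hcat : ∀ x : ↥X, CAlg.IsCatenary ↑(X.presheaf.stalk x))
    (𝓘 : X.IdealSheafData) (hY : BlowUp.IsEffCartierIdeal 𝓘)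
    (i : Z ⟶ X) [IsClosedImmersion i] [IsIntegral Z] (hc : BlowUp.IsEffCartierIdeal (𝓘.comap i))
    (z : Z) (hζY : i z ∈ 𝓘.support)
    (hmax : ∀ ζ' : ↥X, ζ' ∈ (𝓘.support : Set ↥X) ∩ Set.range i.base → ζ' ⤳ i z → ζ' = i z) :
    ringKrullDim ↑(X.presheaf.stalk (i z)) =
      (⨅ y : (𝓘.support : Set ↥X), ringKrullDim ↑(X.presheaf.stalk y.1)) +
        ringKrullDim ↑(X.presheaf.stalk (i (genericPoint ↥Z))) := by
  obtain ⟨U, hζU, g, hg, h𝓘⟩ := hY (i z)
  have hU : IsAffineOpen U.1 := U.2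
  haveI : IsNoetherianRing Γ(X, U.1) := IsLocallyNoetherian.component_noetherian U
  have hηζ : i (genericPoint Z) ⤳ i z :=
    ((genericPoint_spec Z).specializes (Set.mem_univ z)).map i.continuous
  have hηU : i (genericPoint Z) ∈ U.1 := hηζ.mem_open U.1.2 hζU
  -- g ∉ 𝔮'
  have hg' : g ∉ (hU.primeIdealOf ⟨i (genericPoint Z), hηU⟩).asIdeal := by
    intro hgq
    have h1 : i (genericPoint Z) ∈ 𝓘.support :=
      (mem_support_iff' hU 𝓘 _ hηU).2
        (by rw [h𝓘, Ideal.span_le, Set.singleton_subset_iff]; exact hgq)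
    have h2 : genericPoint Z ∈ (𝓘.comap i).support := by
      rw [Scheme.IdealSheafData.support_comap]; exact h1
    exact genericPoint_notMem_support _ hc h2
  have hgq : g ∈ (hU.primeIdealOf ⟨i z, hζU⟩).asIdeal := by
    have := (mem_support_iff' hU 𝓘 _ hζU).1 hζY
    rw [h𝓘, Ideal.span_le, Set.singleton_subset_iff] at this
    exact this
  have hq'q : hU.primeIdealOf ⟨i (genericPoint Z), hηU⟩ ≤ hU.primeIdealOf ⟨i z, hζU⟩ :=
    (specializes_iff hU (i z) (i (genericPoint Z)) hζU hηU).1 hηζ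
  -- 𝔮 minimal
  have hm : (hU.primeIdealOf ⟨i z, hζU⟩).asIdeal ∈
      ((hU.primeIdealOf ⟨i (genericPoint Z), hηU⟩).asIdeal ⊔ Ideal.span {g}).minimalPrimes := by
    refine ⟨⟨(hU.primeIdealOf ⟨i z, hζU⟩).2, sup_le hq'q
      (by rw [Ideal.span_le, Set.singleton_subset_iff]; exact hgq)⟩, ?_⟩
    rintro P ⟨hP, hPle⟩ hPq
    have hyY : hU.fromSpec ⟨P, hP⟩ ∈ 𝓘.support :=
      (mem_support_iff hU 𝓘 ⟨P, hP⟩).2 (by rw [h𝓘]; exact le_sup_right.trans hPle)
    have hηy : i (genericPoint Z) ⤳ hU.fromSpec ⟨P, hP⟩ := by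
      have h1 : hU.fromSpec (hU.primeIdealOf ⟨i (genericPoint Z), hηU⟩) ⤳ hU.fromSpec ⟨P, hP⟩ :=
        (fromSpec_specializes_iff hU _ _).2 (le_sup_left.trans hPle)
      have h2 : hU.fromSpec (hU.primeIdealOf ⟨i (genericPoint Z), hηU⟩) = i (genericPoint Z) :=
        hU.fromSpec_primeIdealOf ⟨i (genericPoint Z), hηU⟩
      rw [h2] at h1; exact h1
    have hyZ : hU.fromSpec ⟨P, hP⟩ ∈ Set.range i.base :=
      hηy.mem_closed i.isClosedEmbedding.isClosed_range ⟨_, rfl⟩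
    have hyζ : hU.fromSpec ⟨P, hP⟩ ⤳ i z := by
      have h1 : hU.fromSpec ⟨P, hP⟩ ⤳ hU.fromSpec (hU.primeIdealOf ⟨i z, hζU⟩) :=
        (fromSpec_specializes_iff hU _ _).2 hPq
      have h2 : hU.fromSpec (hU.primeIdealOf ⟨i z, hζU⟩) = i z :=
        hU.fromSpec_primeIdealOf ⟨i z, hζU⟩
      rw [h2] at h1; exact h1
    have hy := hmax _ ⟨hyY, hyZ⟩ hyζ
    have h2 : hU.fromSpec (hU.primeIdealOf ⟨i z, hζU⟩) = i z :=
      hU.fromSpec_primeIdealOf ⟨i z, hζU⟩
    have h3 : (⟨P, hP⟩ : PrimeSpectrum Γ(X, U.1)) = hU.primeIdealOf ⟨i z, hζU⟩ :=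
      hU.fromSpec.isOpenEmbedding.injective (hy.trans h2.symm)
    rw [← h3]
  have hn := isPrime_nilradical_of_irreducibleSpace hU ⟨i z, hζU⟩
  letI : Algebra Γ(X, U.1) (X.presheaf.stalk (i z)) :=
    (X.presheaf.germ U.1 (i z) hζU).hom.toAlgebra
  haveI : IsLocalization.AtPrime (X.presheaf.stalk (i z)) (hU.primeIdealOf ⟨i z, hζU⟩).asIdeal :=
    hU.isLocalization_stalk ⟨i z, hζU⟩
  have hht := height_eq_height_add_one (hU.primeIdealOf ⟨i z, hζU⟩).asIdeal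
    (hU.primeIdealOf ⟨i (genericPoint Z), hηU⟩).asIdeal (X.presheaf.stalk (i z)) (hcat _) hn g hg' hm
  -- the infimum is one
  have hinf : (⨅ y : (𝓘.support : Set X), ringKrullDim (X.presheaf.stalk y.1)) = 1 := by
    apply le_antisymm
    · obtain ⟨P, hPmin, hPq⟩ := Ideal.exists_minimalPrimes_le
        (I := Ideal.span {g}) (J := (hU.primeIdealOf ⟨i z, hζU⟩).asIdeal)
        (by rw [Ideal.span_le, Set.singleton_subset_iff]; exact hgq)
      have hP : P.IsPrime := hPmin.1.1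
      have hyY : hU.fromSpec ⟨P, hP⟩ ∈ 𝓘.support :=
        (mem_support_iff hU 𝓘 ⟨P, hP⟩).2 (by rw [h𝓘]; exact hPmin.1.2)
      refine (iInf_le _ (⟨hU.fromSpec ⟨P, hP⟩, hyY⟩ : (𝓘.support : Set X))).trans ?_
      rw [stalk_dim_eq_height hU _ (fromSpec_mem hU ⟨P, hP⟩), primeIdealOf_fromSpec hU ⟨P, hP⟩]
      have h1 : P.height ≤ 1 :=
        Ideal.height_le_one_of_isPrincipal_of_mem_minimalPrimes (Ideal.span {g}) P hPmin
      exact_mod_cast h1
    · exact le_iInf fun y => one_le_dim_of_mem_support 𝓘 hY y.1 y.2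
  rw [hinf, stalk_dim_eq_height hU (i z) hζU, stalk_dim_eq_height hU _ hηU, hht]
  push_cast
  rw [add_comm]

end Groth.Agent.Lead.PropIntC
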