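import Mathlib
import Groth.Prelude.Def_BlowUp2
import Groth.Agent.Lead.EffCartier
import Groth.Agent.Lead.PropIntB
import Groth.Agent.Lead.PropIntC

/-!
# Effective Cartier ideal sheaves: products, primality for integral subschemes, dictionary
-/

set_option autoImplicit false
universe u
open AlgebraicGeometry CategoryTheory TopologicalSpace

namespace Groth.Agent.Lead.CartProdA

open Groth.Agent.Lead.PropIntB Groth.Agent.Lead.PropIntC

variable {X : Scheme.{u}}

/-- The ideal sheaf is generated, on the affine open `V`, by the nonzerodivisor `g`. -/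
def Princ (I : X.IdealSheafData) (V : X.affineOpens) (g : Γ(X, V.1)) : Prop :=
  g ∈ nonZeroDivisors Γ(X, V.1) ∧ I.ideal V = Ideal.span {g}

theorem Princ.res {I : X.IdealSheafData} {V W : X.affineOpens} {g : Γ(X, V.1)}
    (h : Princ I V g) (hWV : W ≤ V) : Princ I W (X.presheaf.map (homOfLE hWV).op g) :=
  EffCartier.principal_res I V W hWV g h.1 h.2

theorem exists_princ {I : X.IdealSheafData} (hI : BlowUp.IsEffCartierIdeal I) (x : X)
    (O : X.Opens) (hx : x ∈ O) :
    ∃ W : X.affineOpens, x ∈ W.1 ∧ W.1 ≤ O ∧ ∃ g, Princ I W g :=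
  EffCartier.exists_le_of_isEffCartier I hI x O hx

theorem exists_princ₃ {I₁ I₂ I₃ : X.IdealSheafData} (h₁ : BlowUp.IsEffCartierIdeal I₁)
    (h₂ : BlowUp.IsEffCartierIdeal I₂) (h₃ : BlowUp.IsEffCartierIdeal I₃) (x : X)
    (O : X.Opens) (hx : x ∈ O) :
    ∃ W : X.affineOpens, x ∈ W.1 ∧ W.1 ≤ O ∧ ∃ g₁ g₂ g₃,
      Princ I₁ W g₁ ∧ Princ I₂ W g₂ ∧ Princ I₃ W g₃ := by
  obtain ⟨W₁, hx₁, hW₁, g₁, hg₁⟩ := exists_princ h₁ x O hx
  obtain ⟨W₂, hx₂, hW₂, g₂, hg₂⟩ := exists_princ h₂ x W₁.1 hx₁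
  obtain ⟨W₃, hx₃, hW₃, g₃, hg₃⟩ := exists_princ h₃ x W₂.1 hx₂
  have h32 : W₃ ≤ W₂ := hW₃
  have h31 : W₃ ≤ W₁ := hW₃.trans hW₂
  exact ⟨W₃, hx₃, le_trans (show W₃.1 ≤ W₁.1 from h31) hW₁, _, _, g₃, hg₁.res h31, hg₂.res h32, hg₃⟩

theorem Princ.mul {I J : X.IdealSheafData} {V : X.affineOpens} {f g : Γ(X, V.1)}
    (hf : Princ I V f) (hg : Princ J V g) : Princ (I * J) V (f * g) := by
  refine ⟨mul_mem hf.1 hg.1, ?_⟩
  change I.ideal V * J.ideal V = _
  rw [hf.2, hg.2, Ideal.span_singleton_mul_span_singleton]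

theorem isEffCartier_mul {I J : X.IdealSheafData} (hI : BlowUp.IsEffCartierIdeal I)
    (hJ : BlowUp.IsEffCartierIdeal J) : BlowUp.IsEffCartierIdeal (I * J) := by
  intro x
  obtain ⟨W, hxW, -, f, g, _, hf, hg, -⟩ := exists_princ₃ hI hJ hJ x ⊤ trivial
  exact ⟨W, hxW, f * g, (hf.mul hg).1, (hf.mul hg).2⟩

theorem isEffCartier_one : BlowUp.IsEffCartierIdeal (1 : X.IdealSheafData) := by
  intro x
  obtain ⟨_, ⟨W, hW, rfl⟩, hxW, -⟩ :=
    X.isBasis_affineOpens.exists_subset_of_mem_open (Set.mem_univ x) isOpen_univ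
  refine ⟨⟨W, hW⟩, hxW, 1, one_mem _, ?_⟩
  change (⊤ : Ideal _) = _
  rw [Ideal.span_singleton_one]

theorem isEffCartier_pow {I : X.IdealSheafData} (hI : BlowUp.IsEffCartierIdeal I) (n : ℕ) :
    BlowUp.IsEffCartierIdeal (I ^ n) := by
  induction n with
  | zero => rw [pow_zero]; exact isEffCartier_one
  | succ n ih => rw [pow_succ]; exact isEffCartier_mul ih hI

theorem isEffCartier_prod {ι : Type*} (s : Finset ι) (I : ι → X.IdealSheafData)
    (hI : ∀ i ∈ s, BlowUp.IsEffCartierIdeal (I i)) :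
    BlowUp.IsEffCartierIdeal (∏ i ∈ s, I i) := by
  classical
  induction s using Finset.induction_on with
  | empty => rw [Finset.prod_empty]; exact isEffCartier_one
  | insert i s hi ih =>
    rw [Finset.prod_insert hi]
    exact isEffCartier_mul (hI _ (Finset.mem_insert_self _ _))
      (ih fun j hj => hI _ (Finset.mem_insert_of_mem hj))

/-- If `V` does not meet the support then the ideal on `V` is the unit ideal. -/
theorem ideal_eq_top_of_disjoint (I : X.IdealSheafData) (V : X.affineOpens)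
    (h : ∀ x ∈ V.1, x ∉ I.support) : I.ideal V = ⊤ := by
  by_contra hne
  obtain ⟨m, hm, hle⟩ := Ideal.exists_le_maximal _ hne
  have := (mem_support_iff V.2 I ⟨m, hm.isPrime⟩).2 hle
  exact h _ (fromSpec_mem V.2 _) this

/-- For an integral closed subscheme, the ideal on an affine open meeting it is prime. -/
theorem isPrime_ideal (I : X.IdealSheafData) [IsIntegral I.subscheme] (V : X.affineOpens)
    (x : X) (hxV : x ∈ V.1) (hx : x ∈ I.support) : (I.ideal V).IsPrime := by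
  rw [← I.ker_subschemeι_app V]
  haveI hne : Nonempty ((I.subschemeι ⁻¹ᵁ V.1 : I.subscheme.Opens) : Scheme.{u}) := by
    have : x ∈ Set.range I.subschemeι := by rw [I.range_subschemeι]; exact hx
    obtain ⟨z, rfl⟩ := this
    exact ⟨⟨z, hxV⟩⟩
  haveI : IsDomain Γ(I.subscheme, I.subschemeι ⁻¹ᵁ V.1) := IsIntegral.component_integral _
  exact RingHom.ker_isPrime _

theorem exists_isGenericPoint (I : X.IdealSheafData) [IsIntegral I.subscheme] :
    ∃ ζ : X, IsGenericPoint ζ (I.support : Set X) := by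
  refine ⟨I.subschemeι (genericPoint I.subscheme), ?_⟩
  have h1 := (genericPoint_spec I.subscheme).image I.subschemeι.continuous
  rw [Set.image_univ, I.range_subschemeι, I.support.isClosed.closure_eq] at h1
  exact h1

theorem mem_primeIdealOf_iff (V : X.affineOpens) (x : X) (hx : x ∈ V.1) (s : Γ(X, V.1)) :
    s ∈ (V.2.primeIdealOf ⟨x, hx⟩).asIdeal ↔ x ∉ X.basicOpen s := by
  have h1 := V.2.fromSpec_primeIdealOf ⟨x, hx⟩
  have h2 : x ∈ X.basicOpen s ↔ V.2.primeIdealOf ⟨x, hx⟩ ∈ PrimeSpectrum.basicOpen s := by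
    rw [← V.2.fromSpec_preimage_basicOpen s]
    change _ ↔ V.2.fromSpec (V.2.primeIdealOf ⟨x, hx⟩) ∈ X.basicOpen s
    rw [h1]
  rw [h2, PrimeSpectrum.mem_basicOpen, not_not]

/-- For the generic point `ζ` of an integral closed subscheme, the ideal on an affine open
containing `ζ` is the prime ideal of `ζ`. -/
theorem ideal_eq_primeIdealOf (I : X.IdealSheafData) [IsIntegral I.subscheme] {ζ : X}
    (hζ : IsGenericPoint ζ (I.support : Set X)) (V : X.affineOpens) (hζV : ζ ∈ V.1) :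
    I.ideal V = (V.2.primeIdealOf ⟨ζ, hζV⟩).asIdeal := by
  have hζs : ζ ∈ I.support := hζ.mem
  haveI := isPrime_ideal I V ζ hζV hζs
  apply le_antisymm
  · exact (mem_support_iff' V.2 I ζ hζV).1 hζs
  · set P : PrimeSpectrum Γ(X, V.1) := ⟨I.ideal V, inferInstance⟩ with hP
    have hη : V.2.fromSpec P ∈ I.support := (mem_support_iff V.2 I P).2 le_rfl
    have hsp : ζ ⤳ V.2.fromSpec P := hζ.specializes hη
    have := (specializes_iff V.2 (V.2.fromSpec P) ζ (fromSpec_mem V.2 P) hζV).1 hsp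
    rw [primeIdealOf_fromSpec] at this
    exact this

end Groth.Agent.Lead.CartProdA
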