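import Groth.Agent.Lead.FittSheafA
import Groth.Agent.Lead.CartProdA
import Groth.Agent.Helper4.FinLocFree7
import Groth.Agent.Helper7.Fitt11
import Mathlib

/-!
# Lead: finite locally free of rank `r` iff Fitting ideal conditions
-/

set_option autoImplicit false
open CategoryTheory AlgebraicGeometry Opposite TopologicalSpace
universe u

namespace Groth.Agent.Lead.FittSheafD
open Scheme.Modules Groth.Agent.Helper4 Groth.Agent.Helper7.FittLib
  Groth.Agent.Helper4.FinLocFree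

variable {X : Scheme.{u}} (F : X.Modules)

theorem fitt_of_isFinLocFreeOfRank [F.IsQuasicoherent]
    (hft : SheafOfModules.IsFiniteType (R := X.ringCatSheaf) F) (r : ℕ)
    (h : FlatMod.IsFinLocFreeOfRank r F) (k : ℕ) :
    Fitt.sheafIdeal F k = if k < r then ⊥ else ⊤ := by
  have hex : ∀ x : X, ∃ U : X.affineOpens, x ∈ U.1 ∧
      Nonempty (Module.Basis (Fin r) Γ(X, U.1) Γ(F, U.1)) := by
    intro x
    obtain ⟨V, hxV, hV⟩ := h x
    obtain ⟨U, hU, hxU, -, hb⟩ := FinLocFree2.exists_affine_basis_of_isFreeAlong F hV x hxV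
    exact ⟨⟨U, hU⟩, hxU, hb⟩
  choose U hxU hb using hex
  have hcov : ⨆ x, (U x).1 = ⊤ := by
    rw [eq_top_iff]
    intro x _
    exact Opens.mem_iSup.mpr ⟨x, hxU x⟩
  apply Scheme.IdealSheafData.ext_of_iSup_eq_top U hcov
  intro x
  obtain ⟨b⟩ := hb x
  rw [FittSheafA.ideal_sheafIdeal F hft k (U x), fitt_free b k, Fintype.card_fin]
  split_ifs <;> rfl

theorem isFinLocFreeOfRank_of_fitt [F.IsQuasicoherent]
    (hft : SheafOfModules.IsFiniteType (R := X.ringCatSheaf) F) (r : ℕ)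
    (h1 : ∀ k : ℕ, k < r → Fitt.sheafIdeal F k = ⊥)
    (h2 : ∀ k : ℕ, r ≤ k → Fitt.sheafIdeal F k = ⊤) :
    FlatMod.IsFinLocFreeOfRank r F := by
  intro x
  obtain ⟨_, ⟨U, hU : IsAffineOpen U, rfl⟩, hxU, -⟩ :=
    X.isBasis_affineOpens.exists_subset_of_mem_open (Set.mem_univ x) isOpen_univ
  haveI := SecDict.finite_sections hU F inferInstance hft
  have h1' : ∀ k, k < r → Fitt.ideal Γ(X, U) Γ(F, U) k = ⊥ := by
    intro k hk
    rw [← FittSheafA.ideal_sheafIdeal F hft k ⟨U, hU⟩, h1 k hk]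
    rfl
  have h2' : ∀ k, r ≤ k → Fitt.ideal Γ(X, U) Γ(F, U) k = ⊤ := by
    intro k hk
    rw [← FittSheafA.ideal_sheafIdeal F hft k ⟨U, hU⟩, h2 k hk]
    rfl
  have H := (locally_free_iff_fitt (R := Γ(X, U)) Γ(F, U) r).mpr ⟨h1', h2'⟩
  obtain ⟨f, hf, hfree, hrank⟩ := H (hU.primeIdealOf ⟨x, hxU⟩).asIdeal
  haveI : Nontrivial (Localization.Away f) :=
    localizationAway_nontrivial (hU.primeIdealOf ⟨x, hxU⟩).asIdeal f hf
  haveI := hfree
  haveI : Module.Finite (Localization.Away f) (LocalizedModule (Submonoid.powers f) Γ(F, U)) :=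
    inferInstance
  let b := Module.finBasisOfFinrankEq (Localization.Away f)
    (LocalizedModule (Submonoid.powers f) Γ(F, U)) hrank
  refine ⟨X.basicOpen f, ?_, FinLocFree7.isFreeAlong_basicOpen_of_free_away F hU f r b.repr⟩
  have := (CartProdA.mem_primeIdealOf_iff ⟨U, hU⟩ x hxU f).not.mp hf
  rwa [not_not] at this

theorem main [F.IsQuasicoherent]
    (hft : SheafOfModules.IsFiniteType (R := X.ringCatSheaf) F) (r : ℕ) :
    FlatMod.IsFinLocFreeOfRank r F ↔
      (∀ k : ℕ, k < r → Fitt.sheafIdeal F k = ⊥) ∧ (∀ k : ℕ, r ≤ k → Fitt.sheafIdeal F k = ⊤) := by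
  constructor
  · intro h
    refine ⟨fun k hk => ?_, fun k hk => ?_⟩
    · rw [fitt_of_isFinLocFreeOfRank F hft r h k, if_pos hk]
    · rw [fitt_of_isFinLocFreeOfRank F hft r h k, if_neg (by omega)]
  · rintro ⟨h1, h2⟩
    exact isFinLocFreeOfRank_of_fitt F hft r h1 h2

end Groth.Agent.Lead.FittSheafD
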