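import Mathlib

set_option autoImplicit false
open TensorProduct
universe u

namespace Groth.Agent.Lead.BCMap

theorem bijective_of_isBaseChange_of_isPushout
    {R R' A A' M N₁ N₂ : Type u} [CommRing R] [CommRing R'] [CommRing A] [CommRing A']
    [Algebra R R'] [Algebra R A] [Algebra A A'] [Algebra R' A'] [Algebra R A']
    [IsScalarTower R A A'] [IsScalarTower R R' A'] [Algebra.IsPushout R R' A A']
    [AddCommGroup M] [Module R M] [Module A M] [IsScalarTower R A M]
    [AddCommGroup N₁] [Module R N₁] [Module R' N₁] [IsScalarTower R R' N₁]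
    [AddCommGroup N₂] [Module A N₂] [Module A' N₂] [IsScalarTower A A' N₂]
    [Module R' N₂] [IsScalarTower R' A' N₂]
    (ρ₁ : M →ₗ[R] N₁) (h₁ : IsBaseChange R' ρ₁) (ρ₂ : M →ₗ[A] N₂) (h₂ : IsBaseChange A' ρ₂)
    (β : N₁ →ₗ[R'] N₂) (hβ : ∀ m, β (ρ₁ m) = ρ₂ m) : Function.Bijective β := by
  let E₂ : R' ⊗[R] M ≃ₗ[R'] N₂ :=
    (Algebra.IsPushout.cancelBaseChange R R' A A' M).symm ≪≫ₗ (h₂.equiv.restrictScalars R')
  have key : ∀ t : R' ⊗[R] M, β (h₁.equiv t) = E₂ t := by
    intro t
    induction t using TensorProduct.induction_on with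
    | zero => simp
    | tmul r' m =>
      rw [IsBaseChange.equiv_tmul, map_smul, hβ]
      change _ = h₂.equiv ((Algebra.IsPushout.cancelBaseChange R R' A A' M).symm (r' ⊗ₜ m))
      rw [Algebra.IsPushout.cancelBaseChange_symm_tmul, IsBaseChange.equiv_tmul, algebraMap_smul]
    | add x y hx hy => rw [map_add, map_add, map_add, hx, hy]
  have hβ' : (β : N₁ → N₂) = E₂ ∘ h₁.equiv.symm := by
    funext n
    obtain ⟨t, rfl⟩ := h₁.equiv.surjective n
    rw [key]
    simp
  rw [hβ']
  exact E₂.bijective.comp h₁.equiv.symm.bijective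

end Groth.Agent.Lead.BCMap
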