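import Groth.Agent.Lead.BCMap5
import Groth.Agent.Lead.BCMap6
import Groth.Agent.Lead.StalkPull

set_option autoImplicit false
open CategoryTheory AlgebraicGeometry Opposite TopologicalSpace TensorProduct
universe u

namespace Groth.Agent.Lead.BCMap
open Scheme.Modules Groth.Agent.Helper4

section Affine
variable {X S X' S' : Scheme.{u}} (f : X ⟶ S) (g : S' ⟶ S) (g' : X' ⟶ X) (f' : X' ⟶ S')
  (h : IsPullback g' f' f g) (F : X.Modules) [F.IsQuasicoherent]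

include h in
theorem preimage_eq_inf (V : S.Opens) (V' : S'.Opens) (e : V' ≤ g ⁻¹ᵁ V) :
    f' ⁻¹ᵁ V' = g' ⁻¹ᵁ (f ⁻¹ᵁ V) ⊓ f' ⁻¹ᵁ V' :=
  (inf_eq_right.mpr (preimage_le f g g' f' h.w V V' e)).symm

set_option backward.isDefEq.respectTransparency false in
theorem bcMap_app_bijective_of_affine {V : S.Opens} (hV : IsAffineOpen V) {V' : S'.Opens}
    (hV' : IsAffineOpen V') (e : V' ≤ g ⁻¹ᵁ V) (hU : IsAffineOpen (f ⁻¹ᵁ V))
    [((pushforward f).obj F).IsQuasicoherent] :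
    Function.Bijective ((bcMap f g g' f' h.w F).app V') := by
  have e' : f' ⁻¹ᵁ V' ≤ g' ⁻¹ᵁ (f ⁻¹ᵁ V) := preimage_le f g g' f' h.w V V' e
  have hUY : f' ⁻¹ᵁ V' = g' ⁻¹ᵁ (f ⁻¹ᵁ V) ⊓ f' ⁻¹ᵁ V' := preimage_eq_inf f g g' f' h V V' e
  have hU' : IsAffineOpen (f' ⁻¹ᵁ V') := by
    haveI : IsAffine (V : Scheme) := hV
    haveI : IsAffine (V' : Scheme) := hV'
    haveI : IsAffine ((f ⁻¹ᵁ V : X.Opens) : Scheme) := hU
    exact .of_isIso (Scheme.Hom.isPullback_resLE h e (le_refl (f ⁻¹ᵁ V)) hUY).isoPullback.hom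
  have hpo : IsPushout (f.appLE V (f ⁻¹ᵁ V) le_rfl) (g.appLE V V' e)
      (g'.appLE (f ⁻¹ᵁ V) (f' ⁻¹ᵁ V') e') (f'.appLE V' (f' ⁻¹ᵁ V') le_rfl) :=
    (isIso_pushoutSection_iff h e (le_refl (f ⁻¹ᵁ V)) hUY).mp
      (isIso_pushoutSection_of_isAffineOpen h e (le_refl (f ⁻¹ᵁ V)) hUY hV hV' hU)
  -- rings
  letI aRR' : Algebra Γ(S, V) Γ(S', V') := (g.appLE V V' e).hom.toAlgebra
  letI aRA : Algebra Γ(S, V) Γ(X, f ⁻¹ᵁ V) := (f.appLE V (f ⁻¹ᵁ V) le_rfl).hom.toAlgebra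
  letI aAA' : Algebra Γ(X, f ⁻¹ᵁ V) Γ(X', f' ⁻¹ᵁ V') :=
    (g'.appLE (f ⁻¹ᵁ V) (f' ⁻¹ᵁ V') e').hom.toAlgebra
  letI aR'A' : Algebra Γ(S', V') Γ(X', f' ⁻¹ᵁ V') :=
    (f'.appLE V' (f' ⁻¹ᵁ V') le_rfl).hom.toAlgebra
  letI aRA' : Algebra Γ(S, V) Γ(X', f' ⁻¹ᵁ V') :=
    ((g'.appLE (f ⁻¹ᵁ V) (f' ⁻¹ᵁ V') e').hom.comp (f.appLE V (f ⁻¹ᵁ V) le_rfl).hom).toAlgebra
  haveI tRAA' : IsScalarTower Γ(S, V) Γ(X, f ⁻¹ᵁ V) Γ(X', f' ⁻¹ᵁ V') :=
    IsScalarTower.of_algebraMap_eq (fun b => rfl)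
  haveI tRR'A' : IsScalarTower Γ(S, V) Γ(S', V') Γ(X', f' ⁻¹ᵁ V') :=
    IsScalarTower.of_algebraMap_eq (fun b => by
      change (g'.appLE (f ⁻¹ᵁ V) (f' ⁻¹ᵁ V') e') ((f.appLE V (f ⁻¹ᵁ V) le_rfl) b) =
        (f'.appLE V' (f' ⁻¹ᵁ V') le_rfl) ((g.appLE V V' e) b)
      have := congrArg (fun φ => φ.hom b) hpo.w
      exact this)
  haveI hpush : Algebra.IsPushout Γ(S, V) Γ(S', V') Γ(X, f ⁻¹ᵁ V) Γ(X', f' ⁻¹ᵁ V') :=
    CommRingCat.isPushout_iff_isPushout.mp hpo.flip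
  -- modules
  letI mRN₁ : Module Γ(S, V) Γ((Scheme.Modules.pullback g).obj ((pushforward f).obj F), V') :=
    Module.compHom _ (g.appLE V V' e).hom
  haveI tN₁ : IsScalarTower Γ(S, V) Γ(S', V')
      Γ((Scheme.Modules.pullback g).obj ((pushforward f).obj F), V') :=
    IsScalarTower.of_compHom _ _ _
  letI mAN₂ : Module Γ(X, f ⁻¹ᵁ V) Γ((Scheme.Modules.pullback g').obj F, f' ⁻¹ᵁ V') :=
    Module.compHom _ (g'.appLE (f ⁻¹ᵁ V) (f' ⁻¹ᵁ V') e').hom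
  haveI tN₂ : IsScalarTower Γ(X, f ⁻¹ᵁ V) Γ(X', f' ⁻¹ᵁ V')
      Γ((Scheme.Modules.pullback g').obj F, f' ⁻¹ᵁ V') :=
    IsScalarTower.of_compHom _ _ _
  obtain ⟨ρ₁, hρ₁, h₁⟩ := exists_isBaseChange_pbSec g ((pushforward f).obj F) hV hV' e
  obtain ⟨ρ₂, hρ₂, h₂⟩ := exists_isBaseChange_pbSec g' F hU hU' e'
  letI mRM : Module Γ(S, V) Γ(F, f ⁻¹ᵁ V) :=
    (show Module Γ(S, V) Γ((pushforward f).obj F, V) from inferInstance)
  haveI tM : IsScalarTower Γ(S, V) Γ(X, f ⁻¹ᵁ V) Γ(F, f ⁻¹ᵁ V) := ⟨fun r a m => by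
    change ((f.appLE V (f ⁻¹ᵁ V) le_rfl r) * a) • m = (f.app V r) • (a • m)
    rw [mul_smul, Scheme.Hom.app_eq_appLE]⟩
  letI mR'N₂ : Module Γ(S', V') Γ((Scheme.Modules.pullback g').obj F, f' ⁻¹ᵁ V') :=
    (show Module Γ(S', V') Γ((pushforward f').obj ((Scheme.Modules.pullback g').obj F), V')
      from inferInstance)
  haveI tN₂' : IsScalarTower Γ(S', V') Γ(X', f' ⁻¹ᵁ V')
      Γ((Scheme.Modules.pullback g').obj F, f' ⁻¹ᵁ V') := ⟨fun r a m => by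
    change ((f'.appLE V' (f' ⁻¹ᵁ V') le_rfl r) * a) • m = (f'.app V' r) • (a • m)
    rw [mul_smul, Scheme.Hom.app_eq_appLE]⟩
  let β : Γ((Scheme.Modules.pullback g).obj ((pushforward f).obj F), V') →ₗ[Γ(S', V')]
      Γ((Scheme.Modules.pullback g').obj F, f' ⁻¹ᵁ V') :=
    { toFun := (bcMap f g g' f' h.w F).app V'
      map_add' := fun a b => map_add _ a b
      map_smul' := fun r m => Hom.app_smul (bcMap f g g' f' h.w F) r m }
  have hβ : ∀ m, β (ρ₁ m) = ρ₂ m := by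
    intro m
    rw [hρ₁, hρ₂]
    exact bcMap_pbSec f g g' f' h.w F V V' e m
  exact bijective_of_isBaseChange_of_isPushout (M := Γ(F, f ⁻¹ᵁ V)) ρ₁ h₁ ρ₂ h₂ β hβ

include h in
/-- **Affine base change**: the base change map is an isomorphism for `f` affine. -/
theorem isIso_bcMap_of_isAffineHom [IsAffineHom f] : IsIso (bcMap f g g' f' h.w F) := by
  haveI : IsAffineHom f' := MorphismProperty.of_isPullback (P := @IsAffineHom) h inferInstance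
  haveI q1 : ((pushforward f).obj F).IsQuasicoherent := QcohGlue.isQuasicoherent_pushforward f F
  haveI q2 : ((Scheme.Modules.pullback g).obj ((pushforward f).obj F)).IsQuasicoherent :=
    Groth.Agent.Lead.StalkPull.isQuasicoherent_pullbackObj g _
  haveI q3 : ((Scheme.Modules.pullback g').obj F).IsQuasicoherent :=
    Groth.Agent.Lead.StalkPull.isQuasicoherent_pullbackObj g' _
  haveI q4 : ((pushforward f').obj ((Scheme.Modules.pullback g').obj F)).IsQuasicoherent :=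
    QcohGlue.isQuasicoherent_pushforward f' _
  apply QcohLocal.isIso_of_app_bijective_of_affine_cover
  intro x'
  obtain ⟨_, ⟨V, hV : IsAffineOpen V, rfl⟩, hxV, -⟩ :=
    S.isBasis_affineOpens.exists_subset_of_mem_open (Set.mem_univ (g x')) isOpen_univ
  obtain ⟨_, ⟨V', hV' : IsAffineOpen V', rfl⟩, hxV', hV'V⟩ :=
    S'.isBasis_affineOpens.exists_subset_of_mem_open
      (show x' ∈ ((g ⁻¹ᵁ V : S'.Opens) : Set S') from hxV) (g ⁻¹ᵁ V).isOpen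
  exact ⟨V', hV', hxV', bcMap_app_bijective_of_affine f g g' f' h F hV hV' hV'V (hV.preimage f)⟩

end Affine
end Groth.Agent.Lead.BCMap
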