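import Groth.Agent.Lead.FittSheafA
import Groth.Agent.Lead.BCMap7
import Groth.Agent.Lead.LimPres
import Groth.Agent.Helper9.IdealComap
import Mathlib

/-!
# Lead: Fitting ideal sheaves commute with pullback
-/

set_option autoImplicit false
open CategoryTheory AlgebraicGeometry Opposite TopologicalSpace
universe u

namespace Groth.Agent.Lead.FittSheafE
open Scheme.Modules Groth.Agent.Helper4 Groth.Agent.Helper7.FittLib Groth.Agent.Lead.BCMap

variable {Y X : Scheme.{u}} (f : Y ⟶ X) (F : X.Modules)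

theorem comap_sheafIdeal [F.IsQuasicoherent]
    (hft : SheafOfModules.IsFiniteType (R := X.ringCatSheaf) F) (i : ℕ) :
    (Fitt.sheafIdeal F i).comap f = Fitt.sheafIdeal ((Scheme.Modules.pullback f).obj F) i := by
  haveI qc : ((Scheme.Modules.pullback f).obj F).IsQuasicoherent :=
    StalkPull.isQuasicoherent_pullbackObj f F
  have hft' : SheafOfModules.IsFiniteType (R := Y.ringCatSheaf)
      ((Scheme.Modules.pullback f).obj F) := LimPres.isFT_pullback f F hft
  apply Scheme.IdealSheafData.ext_of_iSup_eq_top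
    (fun p : {p : Y.affineOpens × X.affineOpens // p.1.1 ≤ f ⁻¹ᵁ p.2.1} => p.1.1)
  · rw [eq_top_iff]
    intro y _
    obtain ⟨_, ⟨U, hU : IsAffineOpen U, rfl⟩, hyU, -⟩ :=
      X.isBasis_affineOpens.exists_subset_of_mem_open (Set.mem_univ (f y)) isOpen_univ
    obtain ⟨_, ⟨V, hV : IsAffineOpen V, rfl⟩, hyV, hVU⟩ :=
      Y.isBasis_affineOpens.exists_subset_of_mem_open
        (show y ∈ ((f ⁻¹ᵁ U : Y.Opens) : Set Y) from hyU) (f ⁻¹ᵁ U).isOpen
    rw [Opens.mem_iSup]
    exact ⟨⟨(⟨V, hV⟩, ⟨U, hU⟩), hVU⟩, hyV⟩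
  · rintro ⟨⟨V, U⟩, e⟩
    obtain ⟨ρ, hρ, hb⟩ := exists_isBaseChange_pbSec f F U.2 V.2 e
    letI := (f.appLE U.1 V.1 e).hom.toAlgebra
    letI : Module Γ(X, U.1) Γ((Scheme.Modules.pullback f).obj F, V.1) :=
      Module.compHom _ (f.appLE U.1 V.1 e).hom
    haveI : IsScalarTower Γ(X, U.1) Γ(Y, V.1) Γ((Scheme.Modules.pullback f).obj F, V.1) :=
      IsScalarTower.of_compHom _ _ _
    haveI := SecDict.finite_sections U.2 F inferInstance hft
    change ((Fitt.sheafIdeal F i).comap f).ideal V =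
      (Fitt.sheafIdeal ((Scheme.Modules.pullback f).obj F) i).ideal V
    rw [Groth.Agent.Helper9.IdealComap.ideal_comap f _ U V e,
      FittSheafA.ideal_sheafIdeal F hft i U, FittSheafA.ideal_sheafIdeal _ hft' i V,
      fitt_isBaseChange Γ(Y, V.1) ρ hb i]
    rfl

end Groth.Agent.Lead.FittSheafE
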