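import Groth.Agent.Lead.FittSheafB
import Groth.Agent.Lead.CartProdA
import Groth.Agent.Helper4.FinLocFree7
import Groth.Agent.Helper4.QcohEpi
import Groth.Agent.Helper7.Fitt9
import Mathlib

/-!
# Lead: local generation by `r` sections and the `r`-th Fitting ideal sheaf
-/

set_option autoImplicit false
open CategoryTheory AlgebraicGeometry Opposite TopologicalSpace
universe u

namespace Groth.Agent.Lead.FittSheafF
open Scheme.Modules Groth.Agent.Helper4 Groth.Agent.Helper7.FittLib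
  Groth.Agent.Helper4.FinLocFree

section Transfer
variable {X Y Z : Scheme.{u}}

/-- `F|_j` is a quotient of a free module of rank `n`. -/
def IsGenAlong (F : X.Modules) (j : Y ⟶ X) [IsOpenImmersion j] (n : ℕ) : Prop :=
  ∃ π : FlatMod.freeMod Y n ⟶ F.restrict j, Epi π

theorem IsGenAlong.comp {F : X.Modules} (j : Y ⟶ X) [IsOpenImmersion j] {n : ℕ}
    (h : IsGenAlong F j n) (k : Z ⟶ Y) [IsOpenImmersion k] : IsGenAlong F (k ≫ j) n := by
  obtain ⟨π, hπ⟩ := h
  haveI : Epi ((restrictFunctor k).map π) := (restrictFunctor k).map_epi π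
  refine ⟨(restrictFreeIso k n).inv ≫ (restrictFunctor k).map π ≫
    ((restrictFunctorComp k j).app F).inv, ?_⟩
  haveI : Epi ((restrictFunctor k).map π ≫ ((restrictFunctorComp k j).app F).inv) :=
    epi_comp _ _
  exact epi_comp _ _

theorem IsGenAlong.congr {F : X.Modules} {j j' : Y ⟶ X} [IsOpenImmersion j] [IsOpenImmersion j']
    (hj : j = j') {n : ℕ} (h : IsGenAlong F j n) : IsGenAlong F j' n := by
  subst hj; exact h

theorem IsGenAlong.of_comp_iso {F : X.Modules} (j : Y ⟶ X) [IsOpenImmersion j] {n : ℕ}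
    (k : Z ⟶ Y) [IsIso k] (h : IsGenAlong F (k ≫ j) n) : IsGenAlong F j n := by
  have h2 := h.comp (k ≫ j) (inv k)
  exact h2.congr (by simp)

theorem IsGenAlong.of_le {F : X.Modules} {U V : X.Opens} (hVU : V ≤ U) {n : ℕ}
    (h : IsGenAlong F U.ι n) : IsGenAlong F V.ι n :=
  (h.comp U.ι (X.homOfLE hVU)).congr (by simp)

theorem IsGenAlong.fromSpec {F : X.Modules} {U : X.Opens} (hU : IsAffineOpen U) {n : ℕ}
    (h : IsGenAlong F U.ι n) : IsGenAlong F hU.fromSpec n :=
  (h.comp U.ι hU.isoSpec.inv).congr rfl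

theorem IsGenAlong.of_fromSpec {F : X.Modules} {U : X.Opens} (hU : IsAffineOpen U) {n : ℕ}
    (h : IsGenAlong F hU.fromSpec n) : IsGenAlong F U.ι n := by
  have : IsGenAlong F (hU.isoSpec.inv ≫ U.ι) n := h
  exact IsGenAlong.of_comp_iso U.ι hU.isoSpec.inv this

end Transfer

section Spec
variable {X : Scheme.{u}} {U : X.Opens} (hU : IsAffineOpen U) (F : X.Modules)

theorem exists_epi_of_surjective {R : CommRingCat.{u}} (ΓN : ModuleCat.{u} R) {M : Type u}
    [AddCommGroup M] [Module R M] (s : M ≃ₗ[R] ΓN) {n : ℕ}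
    (φ : (Fin n →₀ R) →ₗ[R] M) (hφ : Function.Surjective φ) :
    ∃ ψ : ModuleCat.of R (Fin n →₀ R) ⟶ ΓN, Epi ψ := by
  refine ⟨ModuleCat.ofHom (s.toLinearMap ∘ₗ φ), ?_⟩
  rw [ModuleCat.epi_iff_surjective]
  intro y
  obtain ⟨x, hx⟩ := hφ (s.symm y)
  refine ⟨x, ?_⟩
  change s (φ x) = y
  rw [hx]
  exact s.apply_symm_apply y

set_option backward.isDefEq.respectTransparency false in
theorem isGenAlong_fromSpec_of_surjective [F.IsQuasicoherent] {n : ℕ}
    (φ : (Fin n →₀ Γ(X, U)) →ₗ[Γ(X, U)] Γ(F, U)) (hφ : Function.Surjective φ) :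
    IsGenAlong F hU.fromSpec n := by
  let R : CommRingCat.{u} := Γ(X, U)
  let N : (Spec R).Modules := F.restrict hU.fromSpec
  haveI : N.IsQuasicoherent := inferInstance
  haveI : IsIso N.fromTildeΓ := inferInstance
  let ΓN : ModuleCat.{u} R := moduleSpecΓFunctor.obj N
  let s : Γ(F, U) ≃ₗ[R] ΓN := SecDict.sectionsEquiv hU F
  obtain ⟨ψ, hψ⟩ := exists_epi_of_surjective ΓN s φ hφ
  haveI : Epi ((tilde.functor R).map ψ) := (tilde.functor R).map_epi ψ
  refine ⟨(tildeFreeIso R n).inv ≫ (tilde.functor R).map ψ ≫ N.fromTildeΓ, ?_⟩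
  haveI : Epi ((tilde.functor R).map ψ ≫ N.fromTildeΓ) := epi_comp _ _
  exact epi_comp _ _

set_option backward.isDefEq.respectTransparency false in
theorem exists_surjective_of_isGenAlong_fromSpec [F.IsQuasicoherent] {n : ℕ}
    (h : IsGenAlong F hU.fromSpec n) :
    ∃ φ : (Fin n →₀ Γ(X, U)) →ₗ[Γ(X, U)] Γ(F, U), Function.Surjective φ := by
  obtain ⟨π, hπ⟩ := h
  let R : CommRingCat.{u} := Γ(X, U)
  let N : (Spec R).Modules := F.restrict hU.fromSpec
  haveI : N.IsQuasicoherent := inferInstance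
  haveI : (FlatMod.freeMod (Spec R) n).IsQuasicoherent := FinLocFree4.isQuasicoherent_freeMod n
  have hsurj : Function.Surjective (π.app ⊤) := QcohEpi.app_top_surjective_of_epi_Spec π
  obtain ⟨e⟩ := nonempty_equiv_of_iso_freeMod (FlatMod.freeMod (Spec R) n) (Iso.refl _)
  let ΓN : ModuleCat.{u} R := moduleSpecΓFunctor.obj N
  let s : Γ(F, U) ≃ₗ[R] ΓN := SecDict.sectionsEquiv hU F
  let ψ : (moduleSpecΓFunctor.obj (FlatMod.freeMod (Spec R) n) : ModuleCat.{u} R) →ₗ[R] ΓN :=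
    (moduleSpecΓFunctor.map π).hom
  refine ⟨s.symm.toLinearMap ∘ₗ ψ ∘ₗ e.symm.toLinearMap, ?_⟩
  intro y
  obtain ⟨x, hx⟩ := hsurj (s y)
  refine ⟨e x, ?_⟩
  change s.symm (ψ (e.symm (e x))) = y
  rw [e.symm_apply_apply]
  have : ψ x = s y := hx
  rw [this, s.symm_apply_apply]

include hU in
theorem isGenAlong_ι_iff [F.IsQuasicoherent] {n : ℕ} :
    IsGenAlong F U.ι n ↔
      ∃ φ : (Fin n →₀ Γ(X, U)) →ₗ[Γ(X, U)] Γ(F, U), Function.Surjective φ :=
  ⟨fun h => exists_surjective_of_isGenAlong_fromSpec hU F (h.fromSpec hU),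
    fun ⟨φ, hφ⟩ => (isGenAlong_fromSpec_of_surjective hU F φ hφ).of_fromSpec hU⟩

end Spec

variable {X : Scheme.{u}} (F : X.Modules)

theorem fitt_eq_top_of_surjective {R : Type u} [CommRing R] {M : Type u} [AddCommGroup M]
    [Module R M] {n : ℕ} (φ : (Fin n →₀ R) →ₗ[R] M) (hφ : Function.Surjective φ) :
    Fitt.ideal R M n = ⊤ := by
  have h1 := fitt_le_of_surjective φ hφ n
  have h2 : Fitt.ideal R (Fin n →₀ R) n = ⊤ := by
    rw [fitt_free (Finsupp.basisSingleOne (R := R) (ι := Fin n)) n, Fintype.card_fin,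
      if_neg (lt_irrefl n)]
  rw [h2] at h1
  exact top_le_iff.mp h1

theorem main [F.IsQuasicoherent]
    (hft : SheafOfModules.IsFiniteType (R := X.ringCatSheaf) F) (s : X) (r : ℕ) :
    (∃ U : X.Opens, s ∈ U ∧ ∃ π : FlatMod.freeMod (↑U) r ⟶ F.restrict U.ι, Epi π) ↔
      s ∉ (Fitt.sheafIdeal F r).support := by
  constructor
  · rintro ⟨U, hsU, hgen⟩
    obtain ⟨_, ⟨W, hW : IsAffineOpen W, rfl⟩, hsW, hWU⟩ :=
      X.isBasis_affineOpens.exists_subset_of_mem_open hsU U.isOpen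
    have hgenW : IsGenAlong F (Scheme.Opens.ι W) r := IsGenAlong.of_le (U := U) (V := W) hWU hgen
    obtain ⟨φ, hφ⟩ := (isGenAlong_ι_iff hW F).mp hgenW
    rw [FittSheafB.mem_support_iff F hft r hW s hsW, fitt_eq_top_of_surjective φ hφ]
    intro h
    exact (hW.primeIdealOf ⟨s, hsW⟩).isPrime.ne_top (top_le_iff.mp h)
  · intro hs
    obtain ⟨_, ⟨U, hU : IsAffineOpen U, rfl⟩, hsU, -⟩ :=
      X.isBasis_affineOpens.exists_subset_of_mem_open (Set.mem_univ s) isOpen_univ
    haveI := SecDict.finite_sections hU F inferInstance hft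
    rw [FittSheafB.mem_support_iff F hft r hU s hsU] at hs
    obtain ⟨d, hd, H⟩ := exists_gen_of_fitt_not_le r (hU.primeIdealOf ⟨s, hsU⟩).asIdeal hs
    letI := FittSheafA.modInst F d
    letI := FittSheafA.algInst d
    haveI := FittSheafA.towerInst F d
    haveI := FittSheafA.isLocalizedModule_resLin F hU d
    have hunit : IsUnit (X.presheaf.map (homOfLE <| X.basicOpen_le d).op d) :=
      RingedSpace.isUnit_res_basicOpen _ d
    have hspan : Submodule.span Γ(X, X.basicOpen d) (Set.range (FittSheafA.resLin F d)) = ⊤ := by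
      rw [eq_top_iff]
      rintro t -
      obtain ⟨⟨m, ⟨_, n, rfl⟩⟩, hm⟩ :=
        IsLocalizedModule.surj (Submonoid.powers d) (FittSheafA.resLin F d) t
      have hm' : (FittSheafA.resRing d (d ^ n)) • t = FittSheafA.resLin F d m := hm
      have hu : IsUnit (FittSheafA.resRing d (d ^ n)) := by
        rw [map_pow]; exact hunit.pow n
      obtain ⟨v, hv⟩ := hu
      have ht : t = (↑v⁻¹ : Γ(X, X.basicOpen d)) • FittSheafA.resLin F d m := by
        rw [← hm', ← hv, smul_smul]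
        simp
      rw [ht]
      exact Submodule.smul_mem _ _ (Submodule.subset_span ⟨m, rfl⟩)
    obtain ⟨g, hg⟩ := H (R' := Γ(X, X.basicOpen d)) (N' := Γ(F, X.basicOpen d))
      (FittSheafA.resLin F d) hunit hspan
    have hW : IsAffineOpen (X.basicOpen d) := hU.basicOpen d
    refine ⟨X.basicOpen d, ?_, ?_⟩
    · have := (Groth.Agent.Lead.CartProdA.mem_primeIdealOf_iff ⟨U, hU⟩ s hsU d).not.mp hd
      rwa [not_not] at this
    · apply (isGenAlong_ι_iff hW F).mpr
      refine ⟨Finsupp.linearCombination Γ(X, X.basicOpen d) g, ?_⟩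
      rw [← LinearMap.range_eq_top, Finsupp.range_linearCombination, hg]

end Groth.Agent.Lead.FittSheafF
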