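import Groth.Agent.Lead.LimModel
open CategoryTheory Limits AlgebraicGeometry TensorProduct

namespace Groth.Agent.Lead.LimModel
universe u

set_option backward.isDefEq.respectTransparency false in
/-- from an algebraic noetherian model to a scheme-theoretic one -/
theorem hasNoethModel_of_algebra (P : MorphismProperty Scheme.{u})
    (Q : ∀ {R S : Type u} [CommRing R] [CommRing S], (R →+* S) → Prop) [HasRingHomProperty P Q]
    (H : ∀ (A B : Type u) [CommRing A] [CommRing B] [Algebra A B], Q (algebraMap A B) →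
      ∃ (A₀ : Subalgebra ℤ A) (B₀ : Type u) (_ : CommRing B₀) (_ : Algebra A₀ B₀),
        A₀.FG ∧ Q (algebraMap A₀ B₀) ∧ Algebra.FinitePresentation A₀ B₀ ∧
          Nonempty (B ≃ₐ[A] A ⊗[A₀] B₀)) : HasNoethModel P := by
  intro X Y _ _ f hf
  letI : Algebra Γ(Y, ⊤) Γ(X, ⊤) := f.appTop.hom.toAlgebra
  have hQ : Q (algebraMap Γ(Y, ⊤) Γ(X, ⊤)) := by
    rw [RingHom.algebraMap_toAlgebra]
    exact (HasRingHomProperty.iff_of_isAffine (P := P)).mp hf
  obtain ⟨A₀, B₀, _, _, hfg, hQ₀, hfp₀, ⟨e⟩⟩ := H Γ(Y, ⊤) Γ(X, ⊤) hQ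
  let α : CommRingCat.of A₀ ⟶ Γ(Y, ⊤) := CommRingCat.ofHom (algebraMap A₀ Γ(Y, ⊤))
  let β : CommRingCat.of B₀ ⟶ Γ(X, ⊤) := CommRingCat.ofHom
    ((e.symm : Γ(Y, ⊤) ⊗[A₀] B₀ →+* Γ(X, ⊤)).comp
      (Algebra.TensorProduct.includeRight : B₀ →ₐ[A₀] Γ(Y, ⊤) ⊗[A₀] B₀).toRingHom)
  let ω : CommRingCat.of A₀ ⟶ CommRingCat.of B₀ := CommRingCat.ofHom (algebraMap A₀ B₀)
  refine ⟨Spec (.of A₀), Spec (.of B₀), Spec.map ω, Y.isoSpec.hom ≫ Spec.map α,
    X.isoSpec.hom ≫ Spec.map β, inferInstance, inferInstance, ?_, ?_, ?_, ?_⟩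
  · -- finite presentation over ℤ
    have hft : Algebra.FiniteType ℤ A₀ := (Subalgebra.fg_iff_finiteType A₀).mp hfg
    have hfp : Algebra.FinitePresentation ℤ A₀ := Algebra.FinitePresentation.of_finiteType.mp hft
    let ψ : ULift.{u} ℤ →+* A₀ := (algebraMap ℤ A₀).comp (ULift.ringEquiv : ULift.{u} ℤ ≃+* ℤ).toRingHom
    have hψ : ψ.FinitePresentation :=
      RingHom.FinitePresentation.comp (RingHom.finitePresentation_algebraMap.mpr hfp)
        (RingHom.FinitePresentation.of_bijective (ULift.ringEquiv : ULift.{u} ℤ ≃+* ℤ).bijective)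
    have e1 : toSZ (Spec (.of A₀)) = Spec.map (CommRingCat.ofHom ψ) :=
      specULiftZIsTerminal.hom_ext _ _
    rw [e1]
    exact (HasRingHomProperty.Spec_iff (P := @LocallyOfFinitePresentation)).mpr hψ
  · exact (HasRingHomProperty.Spec_iff (P := @LocallyOfFinitePresentation)).mpr
      (RingHom.finitePresentation_algebraMap.mpr hfp₀)
  · exact (HasRingHomProperty.Spec_iff (P := P)).mpr hQ₀
  · have hpo := CommRingCat.isPushout_tensorProduct A₀ Γ(Y, ⊤) B₀
    have hpo' : IsPushout α ω f.appTop β := by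
      refine hpo.of_iso (Iso.refl _) (Iso.refl _) (Iso.refl _)
        (e.symm.toRingEquiv.toCommRingCatIso) (by simp [α]) (by simp [ω]) ?_ ?_
      · ext x
        simp only [CommRingCat.hom_comp, CommRingCat.hom_ofHom, RingHom.coe_comp,
          Function.comp_apply, Algebra.TensorProduct.includeLeftRingHom_apply]
        have h1 : (x ⊗ₜ[A₀] (1 : B₀)) = algebraMap Γ(Y, ⊤) (Γ(Y, ⊤) ⊗[A₀] B₀) x := by
          rw [Algebra.TensorProduct.algebraMap_apply]; rfl
        change e.symm (x ⊗ₜ[A₀] (1 : B₀)) = _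
        rw [h1, e.symm.commutes, RingHom.algebraMap_toAlgebra]
        rfl
      · ext x
        simp [β]
    have h1 := (isPullback_SpecMap_of_isPushout _ _ _ _ hpo').flip
    refine IsPullback.of_iso h1 X.isoSpec.symm (Iso.refl _) Y.isoSpec.symm (Iso.refl _)
      (by simp) ?_ (by simp) (by simp)
    simpa using Scheme.isoSpec_inv_naturality f


theorem hasNoethModel_smooth : HasNoethModel (@Smooth.{u}) := by
  refine hasNoethModel_of_algebra @Smooth RingHom.Smooth ?_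
  intro A B _ _ _ hQ
  have : Algebra.Smooth A B := RingHom.smooth_algebraMap.mp hQ
  obtain ⟨A₀, B₀, _, _, h0, h1, h2⟩ := Algebra.Smooth.exists_subalgebra_fg ℤ A B
  exact ⟨A₀, B₀, _, _, h0, RingHom.smooth_algebraMap.mpr h1, h1.finitePresentation, h2⟩

theorem hasNoethModel_etale : HasNoethModel (@Etale.{u}) := by
  refine hasNoethModel_of_algebra @Etale RingHom.Etale ?_
  intro A B _ _ _ hQ
  have : Algebra.Etale A B := RingHom.etale_algebraMap.mp hQ
  obtain ⟨A₀, B₀, _, _, h0, h1, h2⟩ := Algebra.Etale.exists_subalgebra_fg ℤ A B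
  exact ⟨A₀, B₀, _, _, h0, RingHom.etale_algebraMap.mpr h1, h1.finitePresentation, h2⟩

end Groth.Agent.Lead.LimModel
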