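import Groth.Agent.Lead.LimModelAlg
open CategoryTheory Limits AlgebraicGeometry TensorProduct

namespace Groth.Agent.Lead.LimModel
universe u

set_option backward.isDefEq.respectTransparency false in
/-- explicit form of the algebraic noetherian model -/
theorem exists_spec_model (P : MorphismProperty Scheme.{u})
    (Q : ∀ {R S : Type u} [CommRing R] [CommRing S], (R →+* S) → Prop) [HasRingHomProperty P Q]
    (H : ∀ (A B : Type u) [CommRing A] [CommRing B] [Algebra A B], Q (algebraMap A B) →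
      ∃ (A₀ : Subalgebra ℤ A) (B₀ : Type u) (_ : CommRing B₀) (_ : Algebra A₀ B₀),
        A₀.FG ∧ Q (algebraMap A₀ B₀) ∧ Algebra.FinitePresentation A₀ B₀ ∧
          Nonempty (B ≃ₐ[A] A ⊗[A₀] B₀))
    {X Y : Scheme.{u}} [IsAffine X] [IsAffine Y] (f : X ⟶ Y) (hf : P f) :
    ∃ (A₀ : Subalgebra ℤ Γ(Y, ⊤)) (B₀ : Type u) (_ : CommRing B₀) (_ : Algebra A₀ B₀)
      (b : X ⟶ Spec (.of B₀)), A₀.FG ∧ Q (algebraMap A₀ B₀) ∧ Algebra.FinitePresentation A₀ B₀ ∧
        IsPullback b f (Spec.map (CommRingCat.ofHom (algebraMap A₀ B₀)))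
          (Y.isoSpec.hom ≫ Spec.map (CommRingCat.ofHom (algebraMap A₀ Γ(Y, ⊤)))) := by
  letI : Algebra Γ(Y, ⊤) Γ(X, ⊤) := f.appTop.hom.toAlgebra
  have hQ : Q (algebraMap Γ(Y, ⊤) Γ(X, ⊤)) := by
    rw [RingHom.algebraMap_toAlgebra]
    exact (HasRingHomProperty.iff_of_isAffine (P := P)).mp hf
  obtain ⟨A₀, B₀, _, _, hfg, hQ₀, hfp₀, ⟨e⟩⟩ := H Γ(Y, ⊤) Γ(X, ⊤) hQ
  let α : CommRingCat.of A₀ ⟶ Γ(Y, ⊤) := CommRingCat.ofHom (algebraMap A₀ Γ(Y, ⊤))
  let β : CommRingCat.of B₀ ⟶ Γ(X, ⊤) := CommRingCat.ofHom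
    ((e.symm : Γ(Y, ⊤) ⊗[A₀] B₀ →+* Γ(X, ⊤)).comp
      (Algebra.TensorProduct.includeRight : B₀ →ₐ[A₀] Γ(Y, ⊤) ⊗[A₀] B₀).toRingHom)
  let ω : CommRingCat.of A₀ ⟶ CommRingCat.of B₀ := CommRingCat.ofHom (algebraMap A₀ B₀)
  refine ⟨A₀, B₀, _, _, X.isoSpec.hom ≫ Spec.map β, hfg, hQ₀, hfp₀, ?_⟩
  have hpo := CommRingCat.isPushout_tensorProduct A₀ Γ(Y, ⊤) B₀
  have hpo' : IsPushout α ω f.appTop β := by
    refine hpo.of_iso (Iso.refl _) (Iso.refl _) (Iso.refl _)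
      (e.symm.toRingEquiv.toCommRingCatIso) (by simp [α]) (by simp [ω]) ?_ ?_
    · ext x
      simp only [CommRingCat.hom_comp, CommRingCat.hom_ofHom, RingHom.coe_comp,
        Function.comp_apply, Algebra.TensorProduct.includeLeftRingHom_apply]
      have h1 : (x ⊗ₜ[A₀] (1 : B₀)) = algebraMap Γ(Y, ⊤) (Γ(Y, ⊤) ⊗[A₀] B₀) x := by
        rw [Algebra.TensorProduct.algebraMap_apply]; rfl
      change e.symm (x ⊗ₜ[A₀] (1 : B₀)) = _
      rw [h1, e.symm.commutes, RingHom.algebraMap_toAlgebra]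
      rfl
    · ext x
      simp [β]
  have h1 := (isPullback_SpecMap_of_isPushout _ _ _ _ hpo').flip
  refine IsPullback.of_iso h1 X.isoSpec.symm (Iso.refl _) Y.isoSpec.symm (Iso.refl _)
    (by simp) ?_ (by simp [ω]) (by simp [α])
  simpa using Scheme.isoSpec_inv_naturality f

/-- the core of a finite presentation -/
theorem finitePresentation_core (A B : Type u) [CommRing A] [CommRing B] [Algebra A B]
    (h : (algebraMap A B).FinitePresentation) :
    ∃ (A₀ : Subalgebra ℤ A) (B₀ : Type u) (_ : CommRing B₀) (_ : Algebra A₀ B₀),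
      A₀.FG ∧ (algebraMap A₀ B₀).FinitePresentation ∧ Algebra.FinitePresentation A₀ B₀ ∧
        Nonempty (B ≃ₐ[A] A ⊗[A₀] B₀) := by
  have : Algebra.FinitePresentation A B := RingHom.finitePresentation_algebraMap.mp h
  let P := Algebra.Presentation.ofFinitePresentation A B
  let A₀ := Algebra.adjoin ℤ P.coeffs
  have : P.HasCoeffs A₀ := ⟨by simp [A₀]⟩
  exact ⟨A₀, (P.ModelOfHasCoeffs A₀ :), inferInstance, inferInstance,
    ⟨P.finite_coeffs.toFinset, by simp [A₀]⟩,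
    RingHom.finitePresentation_algebraMap.mpr inferInstance, inferInstance,
    ⟨(P.tensorModelOfHasCoeffsEquiv A₀).symm⟩⟩

end Groth.Agent.Lead.LimModel
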