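import Groth.Agent.Lead.Glue2
import Groth.Agent.Lead.LimModelAlg
import Groth.Agent.Lead.LimModelFT
import Groth.Agent.Lead.LimCIStage
open CategoryTheory Limits AlgebraicGeometry

namespace Groth.Agent.Lead.LimExist
open Groth.Agent.Lead.LimPullback Groth.Agent.Lead.LimHom Groth.Agent.Lead.LimIsoDesc
  Groth.Agent.Lead.LimModel Groth.Agent.Lead.Glue2 Groth.Agent.Lead.LimCIStage
universe u
variable {I : Type u} [SmallCategory I] [IsCofiltered I] {D : I ⥤ Scheme.{u}} {c : Cone D}
  (hc : IsLimit c) [∀ {i j : I} (f : i ⟶ j), IsAffineHom (D.map f)]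

/-- a model of `f : X ⟶ c.pt` over the stage `i` -/
structure Model {X : Scheme.{u}} (f : X ⟶ c.pt) (i : I) where
  Xi : Scheme.{u}
  fi : Xi ⟶ D.obj i
  g : X ⟶ Xi
  sq : IsPullback g f fi (c.π.app i)
  lfp : LocallyOfFinitePresentation fi
  cpt : CompactSpace Xi
  qsep : QuasiSeparatedSpace Xi

namespace Model
variable {X : Scheme.{u}} {f : X ⟶ c.pt} {i : I}

attribute [instance] Model.lfp Model.cpt Model.qsep

set_option backward.isDefEq.respectTransparency false in
/-- base change of a model to a later stage -/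
noncomputable def rebase (M : Model f i) (j : Over i) : Model f j.left where
  Xi := pullback (D.map j.hom) M.fi
  fi := pullback.fst _ _
  g := pullback.lift (f ≫ c.π.app j.left) M.g (by rw [Category.assoc, c.w, M.sq.w])
  sq := by
    refine IsPullback.of_right ?_ (pullback.lift_fst _ _ _)
      (IsPullback.of_hasPullback (D.map j.hom) M.fi).flip
    rw [pullback.lift_snd, c.w]
    exact M.sq
  lfp := inferInstance
  cpt := compactSpace_pbDiag D i M.fi j
  qsep := quasiSeparatedSpace_pbDiag D i M.fi j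

set_option backward.isDefEq.respectTransparency false in
@[reassoc (attr := simp)]
lemma rebase_g_snd (M : Model f i) (j : Over i) :
    (M.rebase j).g ≫ pullback.snd (D.map j.hom) M.fi = M.g := by
  simp [rebase]

set_option backward.isDefEq.respectTransparency false in
@[reassoc (attr := simp)]
lemma rebase_g_fst (M : Model f i) (j : Over i) :
    (M.rebase j).g ≫ pullback.fst (D.map j.hom) M.fi = f ≫ c.π.app j.left := by
  simp [rebase]

set_option backward.isDefEq.respectTransparency false in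
/-- the cone over the system of base changes of a model -/
noncomputable def cone (M : Model f i) : Cone (pbDiag D i M.fi) where
  pt := X
  π :=
  { app j := (M.rebase j).g
    naturality j k φ := by
      apply pullback.hom_ext
      · simp [rebase]
      · simp [rebase] }

set_option backward.isDefEq.respectTransparency false in
/-- the cone of a model is a limit cone -/
noncomputable def coneIsLimit (M : Model f i) : IsLimit M.cone :=
  IsLimit.ofIsoLimit (pbConeIsLimit i M.fi hc)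
    (Cones.ext M.sq.flip.isoPullback.symm (fun j ↦ by
      apply pullback.hom_ext
      · simp [cone, rebase]
      · simp [cone, rebase]))

include hc in
set_option backward.isDefEq.respectTransparency false in
/-- quasi-compact opens descend along a model -/
theorem exists_open (M : Model f i) (W : X.Opens) (hW : IsCompact (W : Set X)) :
    ∃ (j : Over i) (A : (M.rebase j).Xi.Opens), IsCompact (A : Set (M.rebase j).Xi) ∧
      (M.rebase j).g ⁻¹ᵁ A = W := by
  have hA : ∀ {j k : Over i} (φ : j ⟶ k), IsAffineHom ((pbDiag D i M.fi).map φ) :=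
    fun φ ↦ isAffineHom_pbDiag_map i M.fi φ
  obtain ⟨j, A, hA1, hA2⟩ := exists_preimage_eq (pbDiag D i M.fi) M.cone (M.coneIsLimit hc) W hW
  exact ⟨j, A, hA1, hA2⟩

/-- transport of a model along an isomorphism of the source -/
def precompIso (M : Model f i) {X' : Scheme.{u}} (e : X' ≅ X) : Model (e.hom ≫ f) i where
  Xi := M.Xi
  fi := M.fi
  g := e.hom ≫ M.g
  sq := IsPullback.of_iso M.sq e.symm (Iso.refl _) (Iso.refl _) (Iso.refl _)
    (by simp) (by simp) (by simp) (by simp)
  lfp := M.lfp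
  cpt := M.cpt
  qsep := M.qsep

end Model

/-- morphisms locally of finite presentation between affine schemes have noetherian models -/
theorem hasNoethModel_lfp : HasNoethModel (@LocallyOfFinitePresentation.{u}) :=
  hasNoethModel_of_algebra @LocallyOfFinitePresentation RingHom.FinitePresentation
    finitePresentation_core

include hc in
set_option backward.isDefEq.respectTransparency false in
/-- the affine case of the existence of models -/
theorem exists_model_of_isAffine {X : Scheme.{u}} [IsAffine X] (f : X ⟶ c.pt)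
    [LocallyOfFinitePresentation f] (i : I) (V : (D.obj i).Opens) (hV : IsAffineOpen V)
    (hfV : ∀ x : X, (c.π.app i) (f x) ∈ V) : ∃ j : I, Nonempty (Model f j) := by
  have hπ : IsAffineHom (c.π.app i) := isAffineHom_π_app D c hc i
  have hVaff : IsAffine V := hV
  have hA : ∀ {j k : Over i} (φ : j ⟶ k), IsAffineHom ((pbDiag D i V.ι).map φ) :=
    fun φ ↦ isAffineHom_pbDiag_map i V.ι φ
  have hYj : ∀ j : Over i, IsAffine ((pbDiag D i V.ι).obj j) := fun j ↦ by
    have := isAffineHom_snd D i V.ι j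
    exact isAffine_of_isAffineHom (pullback.snd (D.map j.hom) V.ι)
  have hYinf : IsAffine (pullback (c.π.app i) V.ι) :=
    isAffine_of_isAffineHom (pullback.snd (c.π.app i) V.ι)
  have hr : Set.range f ⊆ Set.range (pullback.fst (c.π.app i) V.ι) := by
    rw [IsOpenImmersion.range_pullbackFst V.ι (c.π.app i)]
    rintro _ ⟨x, rfl⟩
    simpa using hfV x
  let f' : X ⟶ pullback (c.π.app i) V.ι :=
    IsOpenImmersion.lift (pullback.fst (c.π.app i) V.ι) f hr
  have hf' : f' ≫ pullback.fst (c.π.app i) V.ι = f := IsOpenImmersion.lift_fac _ _ _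
  have hlfp : LocallyOfFinitePresentation f' :=
    MorphismProperty.of_postcomp (W := @LocallyOfFinitePresentation) (W' := @IsOpenImmersion) f'
      (pullback.fst (c.π.app i) V.ι) inferInstance (by rw [hf']; infer_instance)
  obtain ⟨T, W, w, a, b, hT, hW, hTfp, hwfp, -, hpb⟩ := hasNoethModel_lfp f' hlfp
  obtain ⟨j₁, aj, haj, -⟩ := Scheme.exists_π_app_comp_eq_of_locallyOfFinitePresentation
    (pbDiag D i V.ι) (tSZ i V.ι) (toSZ T) (pbCone D c i V.ι) (pbConeIsLimit i V.ι hc) a
    (by ext j; exact specULiftZIsTerminal.hom_ext _ _)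
  have hYj₁ : IsAffine (pullback (D.map j₁.hom) V.ι) := hYj j₁
  have hcomm : (f' ≫ (pbCone D c i V.ι).π.app j₁) ≫ aj = b ≫ w := by
    rw [Category.assoc, haj, hpb.w]
  have H2 : IsPullback (pullback.lift (f' ≫ (pbCone D c i V.ι).π.app j₁) b hcomm) f'
      (pullback.fst aj w) ((pbCone D c i V.ι).π.app j₁) := by
    refine IsPullback.of_right ?_ (pullback.lift_fst _ _ _) (IsPullback.of_hasPullback aj w).flip
    rw [pullback.lift_snd, haj]
    exact hpb
  have H3 := (isPullback_pbCone_π (c := c) i V.ι j₁).flip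
  have H4 := H2.paste_vert H3
  rw [hf'] at H4
  exact ⟨j₁.left, ⟨{
    Xi := pullback aj w
    fi := pullback.fst aj w ≫ pullback.fst (D.map j₁.hom) V.ι
    g := pullback.lift (f' ≫ (pbCone D c i V.ι).π.app j₁) b hcomm
    sq := H4
    lfp := inferInstance
    cpt := inferInstance
    qsep := inferInstance }⟩⟩

section Glue
variable {X : Scheme.{u}} (f : X ⟶ c.pt) {U V : Scheme.{u}} (u : U ⟶ X) (v : V ⟶ X)
  [IsOpenImmersion u] [IsOpenImmersion v]

include hc in
set_option backward.isDefEq.respectTransparency false in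
set_option maxHeartbeats 1600000 in
/-- gluing two models at the same stage, given opens cutting out the intersection -/
theorem glue_aux (huv : ∀ x : X, x ∈ Set.range u ∨ x ∈ Set.range v) {i : I}
    (MU : Model (u ≫ f) i) (MV : Model (v ≫ f) i) (A : MU.Xi.Opens) (B : MV.Xi.Opens)
    (hAc : IsCompact (A : Set MU.Xi)) (hBc : IsCompact (B : Set MV.Xi))
    (hA : MU.g ⁻¹ᵁ A = u ⁻¹ᵁ v.opensRange) (hB : MV.g ⁻¹ᵁ B = v ⁻¹ᵁ u.opensRange) :
    ∃ j : I, Nonempty (Model f j) := by
  have hw₁ : (pullback.fst u v).opensRange = u ⁻¹ᵁ v.opensRange :=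
    Scheme.Hom.opensRange_pullbackFst v u
  have hw₂ : (pullback.snd u v).opensRange = v ⁻¹ᵁ u.opensRange :=
    Scheme.Hom.opensRange_pullbackSnd u v
  have hrA : Set.range (pullback.fst u v ≫ MU.g) ⊆ Set.range A.ι := by
    rintro _ ⟨x, rfl⟩
    have : pullback.fst u v x ∈ MU.g ⁻¹ᵁ A := by
      rw [hA, ← hw₁]; exact ⟨x, rfl⟩
    simpa using this
  have hrB : Set.range (pullback.snd u v ≫ MV.g) ⊆ Set.range B.ι := by
    rintro _ ⟨x, rfl⟩
    have : pullback.snd u v x ∈ MV.g ⁻¹ᵁ B := by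
      rw [hB, ← hw₂]; exact ⟨x, rfl⟩
    simpa using this
  let gA : pullback u v ⟶ A := IsOpenImmersion.lift A.ι (pullback.fst u v ≫ MU.g) hrA
  have hgA : gA ≫ A.ι = pullback.fst u v ≫ MU.g := IsOpenImmersion.lift_fac _ _ _
  let gB : pullback u v ⟶ B := IsOpenImmersion.lift B.ι (pullback.snd u v ≫ MV.g) hrB
  have hgB : gB ≫ B.ι = pullback.snd u v ≫ MV.g := IsOpenImmersion.lift_fac _ _ _
  have sqA : IsPullback gA (pullback.fst u v ≫ u ≫ f) (A.ι ≫ MU.fi) (c.π.app i) :=
    (IsOpenImmersion.isPullback gA (pullback.fst u v) A.ι MU.g hgA.symm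
      (by rw [Scheme.Opens.opensRange_ι, hA, hw₁])).paste_vert MU.sq
  have sqB : IsPullback gB (pullback.fst u v ≫ u ≫ f) (B.ι ≫ MV.fi) (c.π.app i) := by
    have := (IsOpenImmersion.isPullback gB (pullback.snd u v) B.ι MV.g hgB.symm
      (by rw [Scheme.Opens.opensRange_ι, hB, hw₂])).paste_vert MV.sq
    rwa [← pullback.condition_assoc] at this
  have hcA : CompactSpace (A : Scheme.{u}) := isCompact_iff_compactSpace.mp hAc
  have hcB : CompactSpace (B : Scheme.{u}) := isCompact_iff_compactSpace.mp hBc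
  have hqA : QuasiSeparatedSpace (A : Scheme.{u}) :=
    QuasiSeparatedSpace.of_isOpenEmbedding A.ι.isOpenEmbedding
  have hqB : QuasiSeparatedSpace (B : Scheme.{u}) :=
    QuasiSeparatedSpace.of_isOpenEmbedding B.ι.isOpenEmbedding
  let MA : Model (pullback.fst u v ≫ u ≫ f) i :=
    { Xi := A, fi := A.ι ≫ MU.fi, g := gA, sq := sqA, lfp := inferInstance, cpt := hcA, qsep := hqA }
  let MB : Model (pullback.fst u v ≫ u ≫ f) i :=
    { Xi := B, fi := B.ι ≫ MV.fi, g := gB, sq := sqB, lfp := inferInstance, cpt := hcB, qsep := hqB }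
  let e : pullback (c.π.app i) (A.ι ≫ MU.fi) ≅ pullback (c.π.app i) (B.ι ≫ MV.fi) :=
    sqA.flip.isoPullback.symm ≪≫ sqB.flip.isoPullback
  have he : e.hom ≫ pullback.fst (c.π.app i) (B.ι ≫ MV.fi) =
      pullback.fst (c.π.app i) (A.ι ≫ MU.fi) := by simp [e]
  obtain ⟨j, ej, hej, hejπ⟩ := exists_iso_descend hc i (A.ι ≫ MU.fi) (B.ι ≫ MV.fi) e he
  -- the gluing data at stage `j`
  let α : pullback (D.map j.hom) (A.ι ≫ MU.fi) ⟶ pullback (D.map j.hom) MU.fi :=
    pullback.map (D.map j.hom) (A.ι ≫ MU.fi) (D.map j.hom) MU.fi (𝟙 _) A.ι (𝟙 _)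
      (by simp) (by simp)
  let βB : pullback (D.map j.hom) (B.ι ≫ MV.fi) ⟶ pullback (D.map j.hom) MV.fi :=
    pullback.map (D.map j.hom) (B.ι ≫ MV.fi) (D.map j.hom) MV.fi (𝟙 _) B.ι (𝟙 _)
      (by simp) (by simp)
  let β : pullback (D.map j.hom) (A.ι ≫ MU.fi) ⟶ pullback (D.map j.hom) MV.fi := ej.hom ≫ βB
  have hα1 : α ≫ pullback.fst (D.map j.hom) MU.fi = pullback.fst (D.map j.hom) (A.ι ≫ MU.fi) := by
    simp [α]
  have hα2 : α ≫ pullback.snd (D.map j.hom) MU.fi =
      pullback.snd (D.map j.hom) (A.ι ≫ MU.fi) ≫ A.ι := by simp [α]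
  have hβ1 : βB ≫ pullback.fst (D.map j.hom) MV.fi = pullback.fst (D.map j.hom) (B.ι ≫ MV.fi) := by
    simp [βB]
  have hβ2 : βB ≫ pullback.snd (D.map j.hom) MV.fi =
      pullback.snd (D.map j.hom) (B.ι ≫ MV.fi) ≫ B.ι := by simp [βB]
  have hpq : α ≫ pullback.fst (D.map j.hom) MU.fi = β ≫ pullback.fst (D.map j.hom) MV.fi := by
    rw [hα1, Category.assoc, hβ1, hej]
  -- ranges
  have pbα : IsPullback α (pullback.snd (D.map j.hom) (A.ι ≫ MU.fi))
      (pullback.snd (D.map j.hom) MU.fi) A.ι := by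
    refine IsPullback.of_right ?_ hα2 (IsPullback.of_hasPullback (D.map j.hom) MU.fi)
    rw [hα1]
    exact (IsPullback.of_hasPullback (D.map j.hom) (A.ι ≫ MU.fi))
  have pbβ : IsPullback βB (pullback.snd (D.map j.hom) (B.ι ≫ MV.fi))
      (pullback.snd (D.map j.hom) MV.fi) B.ι := by
    refine IsPullback.of_right ?_ hβ2 (IsPullback.of_hasPullback (D.map j.hom) MV.fi)
    rw [hβ1]
    exact (IsPullback.of_hasPullback (D.map j.hom) (B.ι ≫ MV.fi))
  have rα : α.opensRange = pullback.snd (D.map j.hom) MU.fi ⁻¹ᵁ A := by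
    have := IsOpenImmersion.image_preimage_eq_preimage_image_of_isPullback pbα.flip ⊤
    simpa [Scheme.Hom.image_top_eq_opensRange] using this
  have rβ : β.opensRange = pullback.snd (D.map j.hom) MV.fi ⁻¹ᵁ B := by
    have := IsOpenImmersion.image_preimage_eq_preimage_image_of_isPullback pbβ.flip ⊤
    rw [Scheme.Hom.opensRange_comp_of_isIso]
    simpa [Scheme.Hom.image_top_eq_opensRange] using this
  have hα : (MU.rebase j).g ⁻¹ᵁ α.opensRange = u ⁻¹ᵁ v.opensRange := by
    rw [rα, ← Scheme.Hom.comp_preimage, Model.rebase_g_snd, hA]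
  have hβ : (MV.rebase j).g ⁻¹ᵁ β.opensRange = v ⁻¹ᵁ u.opensRange := by
    rw [rβ, ← Scheme.Hom.comp_preimage, Model.rebase_g_snd, hB]
  -- the map on the intersection
  have hWα : (MA.rebase j).g ≫ α = pullback.fst u v ≫ (MU.rebase j).g := by
    apply pullback.hom_ext
    · rw [Category.assoc, hα1]
      simp [Model.rebase, MA]
    · rw [Category.assoc, hα2]
      simp [Model.rebase, MA, hgA]
  have hWβ' : (MB.rebase j).g ≫ βB = pullback.snd u v ≫ (MV.rebase j).g := by
    apply pullback.hom_ext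
    · rw [Category.assoc, hβ1]
      simp [Model.rebase, MB, pullback.condition_assoc]
    · rw [Category.assoc, hβ2]
      simp [Model.rebase, MB, hgB]
  have hAB : (MA.rebase j).g ≫ ej.hom = (MB.rebase j).g := by
    have h1 : (MA.rebase j).g = sqA.flip.isoPullback.hom ≫ (pbCone D c i (A.ι ≫ MU.fi)).π.app j := by
      apply pullback.hom_ext
      · simp [Model.rebase, MA]
      · simp [Model.rebase, MA]
    have h2 : (MB.rebase j).g = sqB.flip.isoPullback.hom ≫ (pbCone D c i (B.ι ≫ MV.fi)).π.app j := by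
      apply pullback.hom_ext
      · simp [Model.rebase, MB]
      · simp [Model.rebase, MB]
    rw [h1, h2, Category.assoc, hejπ]
    simp [e]
  have hWβ : (MA.rebase j).g ≫ β = pullback.snd u v ≫ (MV.rebase j).g := by
    rw [← hWβ', ← hAB, Category.assoc]
  obtain ⟨g, -, -, hg⟩ := glue_isPullback f (c.π.app j.left) u v huv
    (pullback.fst (D.map j.hom) MU.fi) (pullback.fst (D.map j.hom) MV.fi) α β hpq
    (MU.rebase j).g (MV.rebase j).g (MU.rebase j).sq (MV.rebase j).sq (MA.rebase j).g hWα hWβ hα hβ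
  have hcU : CompactSpace ↥(pullback (D.map j.hom) MU.fi) := (MU.rebase j).cpt
  have hcV : CompactSpace ↥(pullback (D.map j.hom) MV.fi) := (MV.rebase j).cpt
  have hqU : QuasiSeparatedSpace ↥(pullback (D.map j.hom) MU.fi) := (MU.rebase j).qsep
  have hqV : QuasiSeparatedSpace ↥(pullback (D.map j.hom) MV.fi) := (MV.rebase j).qsep
  have hcW : CompactSpace ↥(pullback (D.map j.hom) (A.ι ≫ MU.fi)) := (MA.rebase j).cpt
  exact ⟨j.left, ⟨{
    Xi := pushout α β
    fi := pushout.desc _ _ hpq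
    g := g
    sq := hg
    lfp := prop_of_cover2 (pushout.inl α β) (pushout.inr α β) (inl_or_inr α β)
      @LocallyOfFinitePresentation _ (by rw [pushout.inl_desc]; infer_instance)
      (by rw [pushout.inr_desc]; infer_instance)
    cpt := compactSpace_of_cover2 (pushout.inl α β) (pushout.inr α β) (inl_or_inr α β)
    qsep := quasiSeparatedSpace_of_cover2 (pushout.inl α β) (pushout.inr α β) (inl_or_inr α β)
      α β pushout.condition (fun x y h ↦ inl_eq_inr α β h) }⟩⟩

include hc in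
set_option backward.isDefEq.respectTransparency false in
/-- gluing two models -/
theorem glue (huv : ∀ x : X, x ∈ Set.range u ∨ x ∈ Set.range v)
    (hW : IsCompact (u ⁻¹ᵁ v.opensRange : Set U)) (hW' : IsCompact (v ⁻¹ᵁ u.opensRange : Set V))
    {iU iV : I} (MU : Model (u ≫ f) iU) (MV : Model (v ≫ f) iV) :
    ∃ j : I, Nonempty (Model f j) := by
  obtain ⟨i, tU, tV, -⟩ := IsCofilteredOrEmpty.cone_objs iU iV
  let MU₀ : Model (u ≫ f) i := MU.rebase (Over.mk tU)
  let MV₀ : Model (v ≫ f) i := MV.rebase (Over.mk tV)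
  obtain ⟨j₁, A, hAc, hA⟩ := MU₀.exists_open hc (u ⁻¹ᵁ v.opensRange) hW
  let MV₁ : Model (v ≫ f) j₁.left := MV₀.rebase j₁
  obtain ⟨j₂, B, hBc, hB⟩ := MV₁.exists_open hc (v ⁻¹ᵁ u.opensRange) hW'
  let MU₂ : Model (u ≫ f) j₂.left := (MU₀.rebase j₁).rebase j₂
  let A₂ : MU₂.Xi.Opens := pullback.snd (D.map j₂.hom) (MU₀.rebase j₁).fi ⁻¹ᵁ A
  have hA₂ : MU₂.g ⁻¹ᵁ A₂ = u ⁻¹ᵁ v.opensRange := by
    rw [← Scheme.Hom.comp_preimage, Model.rebase_g_snd, hA]
  have hA₂c : IsCompact (A₂ : Set MU₂.Xi) := by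
    have := isAffineHom_snd D j₁.left (MU₀.rebase j₁).fi j₂
    exact QuasiCompact.isCompact_preimage
      (f := pullback.snd (D.map j₂.hom) (MU₀.rebase j₁).fi) _ A.2 hAc
  exact glue_aux hc f u v huv MU₂ (MV₁.rebase j₂) A₂ B hA₂c hBc hA₂ hB

end Glue

section Opens
variable {X : Scheme.{u}} (f : X ⟶ c.pt)

/-- the restriction of `f` to the open `U` has a model -/
def Desc (U : X.Opens) : Prop := ∃ j : I, Nonempty (Model (U.ι ≫ f) j)

include hc in
set_option backward.isDefEq.respectTransparency false in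
theorem desc_sup (U V : X.Opens) (hUV : IsCompact ((U ⊓ V : X.Opens) : Set X))
    (hU : Desc f U) (hV : Desc f V) : Desc f (U ⊔ V) := by
  obtain ⟨iU, ⟨MU⟩⟩ := hU
  obtain ⟨iV, ⟨MV⟩⟩ := hV
  let u : (U : Scheme.{u}) ⟶ (U ⊔ V : X.Opens) := X.homOfLE le_sup_left
  let v : (V : Scheme.{u}) ⟶ (U ⊔ V : X.Opens) := X.homOfLE le_sup_right
  have hu : u ≫ (U ⊔ V).ι ≫ f = U.ι ≫ f := X.homOfLE_ι_assoc _ _
  have hv : v ≫ (U ⊔ V).ι ≫ f = V.ι ≫ f := X.homOfLE_ι_assoc _ _
  have hrv : v.opensRange = (U ⊔ V).ι ⁻¹ᵁ V := by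
    ext x
    constructor
    · rintro ⟨y, rfl⟩
      show ((U ⊔ V).ι (v y)) ∈ V
      rw [← Scheme.Hom.comp_apply, X.homOfLE_ι]
      exact y.2
    · intro hx
      exact ⟨⟨x.1, hx⟩, Subtype.ext (by rw [Scheme.homOfLE_apply])⟩
  have hru : u.opensRange = (U ⊔ V).ι ⁻¹ᵁ U := by
    ext x
    constructor
    · rintro ⟨y, rfl⟩
      show ((U ⊔ V).ι (u y)) ∈ U
      rw [← Scheme.Hom.comp_apply, X.homOfLE_ι]
      exact y.2
    · intro hx
      exact ⟨⟨x.1, hx⟩, Subtype.ext (by rw [Scheme.homOfLE_apply])⟩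
  have huv : ∀ x : (U ⊔ V : X.Opens), x ∈ Set.range u ∨ x ∈ Set.range v := by
    intro x
    rcases x.2 with hx | hx
    · left
      have : x ∈ u.opensRange := by rw [hru]; exact hx
      exact this
    · right
      have : x ∈ v.opensRange := by rw [hrv]; exact hx
      exact this
  have hW : IsCompact (u ⁻¹ᵁ v.opensRange : Set U) := by
    rw [U.ι.isOpenEmbedding.isCompact_iff]
    convert hUV using 1
    ext y
    constructor
    · rintro ⟨x, hx, rfl⟩
      refine ⟨x.2, ?_⟩
      have : u x ∈ (U ⊔ V).ι ⁻¹ᵁ V := by rw [← hrv]; exact hx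
      have h2 : (U ⊔ V).ι (u x) = U.ι x := by rw [← Scheme.Hom.comp_apply, X.homOfLE_ι]
      have h3 : (U ⊔ V).ι (u x) ∈ V := this
      rwa [h2] at h3
    · rintro ⟨hyU, hyV⟩
      refine ⟨⟨y, hyU⟩, ?_, rfl⟩
      show u ⟨y, hyU⟩ ∈ v.opensRange
      rw [hrv]
      show (U ⊔ V).ι (u ⟨y, hyU⟩) ∈ V
      rw [← Scheme.Hom.comp_apply, X.homOfLE_ι]
      exact hyV
  have hW' : IsCompact (v ⁻¹ᵁ u.opensRange : Set V) := by
    rw [V.ι.isOpenEmbedding.isCompact_iff]
    convert hUV using 1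
    ext y
    constructor
    · rintro ⟨x, hx, rfl⟩
      refine ⟨?_, x.2⟩
      have : v x ∈ (U ⊔ V).ι ⁻¹ᵁ U := by rw [← hru]; exact hx
      have h2 : (U ⊔ V).ι (v x) = V.ι x := by rw [← Scheme.Hom.comp_apply, X.homOfLE_ι]
      have h3 : (U ⊔ V).ι (v x) ∈ U := this
      rwa [h2] at h3
    · rintro ⟨hyU, hyV⟩
      refine ⟨⟨y, hyV⟩, ?_, rfl⟩
      show v ⟨y, hyV⟩ ∈ u.opensRange
      rw [hru]
      show (U ⊔ V).ι (v ⟨y, hyV⟩) ∈ U
      rw [← Scheme.Hom.comp_apply, X.homOfLE_ι]
      exact hyU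
  exact glue hc ((U ⊔ V).ι ≫ f) u v huv hW hW' (hu ▸ MU) (hv ▸ MV)

include hc in
set_option backward.isDefEq.respectTransparency false in
/-- existence of models for morphisms of finite presentation to the limit -/
theorem exists_model [LocallyOfFinitePresentation f] [CompactSpace X] [QuasiSeparatedSpace X] :
    ∃ j : I, Nonempty (Model f j) := by
  classical
  have H : ∀ x : X, ∃ A : X.Opens, x ∈ A ∧ IsAffineOpen A ∧ Desc f A := by
    intro x
    obtain ⟨_, ⟨i, V, hV, rfl⟩, hxV, -⟩ :=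
      TopologicalSpace.Opens.isBasis_iff_nbhd.mp (isBasis_preimage_isAffineOpen D c hc)
        (U := ⊤) (x := f x) trivial
    obtain ⟨_, ⟨A, hA, rfl⟩, hxA, hAV⟩ := X.isBasis_affineOpens.exists_subset_of_mem_open
      (show x ∈ (f ⁻¹ᵁ (c.π.app i ⁻¹ᵁ V) : Set X) from hxV) (f ⁻¹ᵁ (c.π.app i ⁻¹ᵁ V)).2
    let A' : X.Opens := A
    refine ⟨A', hxA, hA, ?_⟩
    have : IsAffine A' := hA
    exact exists_model_of_isAffine hc (A'.ι ≫ f) i V hV (fun (y : A') ↦ hAV y.2)
  choose A hxA hAaff hAdesc using H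
  have key : ∀ s : Finset X, ∃ W : X.Opens, (W : Set X) = ⋃ x ∈ s, (A x : Set X) ∧
      IsCompact (W : Set X) ∧ Desc f W := by
    intro s
    induction s using Finset.induction_on with
    | empty =>
      obtain ⟨i⟩ := IsCofiltered.nonempty (C := I)
      refine ⟨⊥, by simp, by simp, ?_⟩
      have : IsAffine (⊥ : X.Opens) := isAffineOpen_bot X
      exact exists_model_of_isAffine hc ((⊥ : X.Opens).ι ≫ f) i ⊥ (isAffineOpen_bot _)
        (fun (y : (⊥ : X.Opens)) ↦ y.2.elim)
    | insert a s _ ih =>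
      obtain ⟨W, hW1, hW2, hW3⟩ := ih
      refine ⟨A a ⊔ W, ?_, ?_, ?_⟩
      · rw [Finset.set_biUnion_insert, ← hW1]
        rfl
      · exact (hAaff a).isCompact.union hW2
      · exact desc_sup hc f (A a) W
          (QuasiSeparatedSpace.inter_isCompact _ _ (A a).2 (hAaff a).isCompact W.2 hW2)
          (hAdesc a) hW3
  obtain ⟨t, ht⟩ := isCompact_univ.elim_finite_subcover (fun x ↦ (A x : Set X))
    (fun x ↦ (A x).2) (fun y _ ↦ Set.mem_iUnion.mpr ⟨y, hxA y⟩)
  obtain ⟨W, hW1, -, j, ⟨M⟩⟩ := key t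
  have hW : W = ⊤ := by
    apply TopologicalSpace.Opens.ext
    rw [hW1]
    exact Set.eq_univ_of_univ_subset ht
  subst hW
  refine ⟨j, ⟨?_⟩⟩
  have := M.precompIso X.topIso.symm
  simpa using this

end Opens

end Groth.Agent.Lead.LimExist
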