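import Groth.Agent.Lead.DiagBCLim
open CategoryTheory Limits AlgebraicGeometry

namespace Groth.Agent.Lead.LimDiag
open Groth.Agent.Lead.DiagBCLim
universe u

section
variable {C : Type*} [Category C] [HasPullbacks C]

/-- base change along a composite -/
theorem prop_snd_comp (P : MorphismProperty C) [P.IsStableUnderBaseChange]
    {X Y W V : C} (f : X ⟶ Y) (r : W ⟶ Y) (s : V ⟶ W) (r' : V ⟶ Y) (hr : s ≫ r = r')
    (h : P (pullback.snd f r)) :
    P (pullback.snd f r') := by
  subst hr
  have e : pullback.snd f (s ≫ r) =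
      (pullbackLeftPullbackSndIso f r s).inv ≫ pullback.snd (pullback.snd f r) s := by
    rw [Iso.eq_inv_comp]; simp
  rw [e, P.cancel_left_of_respectsIso]
  exact P.pullback_snd _ _ h

variable {A B X₀ Y₀ : C} (p : A ⟶ B) (f₀ : X₀ ⟶ Y₀) (g₀ : Y₀ ⟶ B)

/-- the structure map of the diagonal object -/
noncomputable abbrev diagBase : pullback f₀ f₀ ⟶ B := pullback.fst f₀ f₀ ≫ f₀ ≫ g₀

/-- the base change of `f₀` along `A ×_B Y₀ ⟶ Y₀` -/
noncomputable abbrev bc : pullback f₀ (pullback.snd p g₀) ⟶ pullback p g₀ :=
  pullback.snd f₀ (pullback.snd p g₀)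

set_option backward.isDefEq.respectTransparency false in
/-- from the base change of the diagonal object to the diagonal object of the base change -/
noncomputable def sMap : pullback p (diagBase f₀ g₀) ⟶ pullback (bc p f₀ g₀) (bc p f₀ g₀) :=
  pullback.lift
    (pullback.lift (pullback.snd _ (diagBase f₀ g₀) ≫ pullback.fst f₀ f₀)
      (pullback.lift (pullback.fst _ _) (pullback.snd _ (diagBase f₀ g₀) ≫ pullback.fst f₀ f₀ ≫ f₀)
        (by rw [pullback.condition]; simp [diagBase])) (by simp))
    (pullback.lift (pullback.snd _ (diagBase f₀ g₀) ≫ pullback.snd f₀ f₀)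
      (pullback.lift (pullback.fst _ _) (pullback.snd _ (diagBase f₀ g₀) ≫ pullback.fst f₀ f₀ ≫ f₀)
        (by rw [pullback.condition]; simp [diagBase])) (by simp [pullback.condition]))
    (by simp)

set_option backward.isDefEq.respectTransparency false in
theorem sMap_diagMap :
    sMap p f₀ g₀ ≫ diagMap f₀ (pullback.snd p g₀) = pullback.snd p (diagBase f₀ g₀) := by
  apply pullback.hom_ext <;> simp [sMap, diagMap]

set_option backward.isDefEq.respectTransparency false in
/-- from the diagonal object of the base change to the base change of the diagonal object -/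
noncomputable def tMap : pullback (bc p f₀ g₀) (bc p f₀ g₀) ⟶ pullback p (diagBase f₀ g₀) :=
  pullback.lift (pullback.fst _ _ ≫ bc p f₀ g₀ ≫ pullback.fst p g₀)
    (diagMap f₀ (pullback.snd p g₀)) (by
      simp only [Category.assoc, pullback.condition, diagMap, diagBase, pullback.lift_fst_assoc]
      simp [pullback.condition_assoc])

set_option backward.isDefEq.respectTransparency false in
theorem tMap_snd :
    tMap p f₀ g₀ ≫ pullback.snd p (diagBase f₀ g₀) = diagMap f₀ (pullback.snd p g₀) := by
  simp [tMap]

theorem prop_diagonal_iff (P : MorphismProperty C) [P.RespectsIso] {X Y U : C} (f : X ⟶ Y)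
    (i : U ⟶ Y) :
    P (pullback.diagonal (pullback.snd f i)) ↔ P (pullback.snd (pullback.diagonal f) (diagMap f i)) := by
  have hP := isPullback_diag f i
  have e : pullback.diagonal (pullback.snd f i) =
      hP.isoPullback.hom ≫ pullback.snd (pullback.diagonal f) (diagMap f i) := by
    rw [hP.isoPullback_hom_snd]
  rw [e, P.cancel_left_of_respectsIso]

/-- (T1) -/
theorem of_diagonal_bc (P : MorphismProperty C) [P.IsStableUnderBaseChange]
    (h : P (pullback.diagonal (bc p f₀ g₀))) :
    P (pullback.snd (pullback.diagonal f₀) (pullback.snd p (diagBase f₀ g₀))) := by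
  have h := (prop_diagonal_iff P f₀ (pullback.snd p g₀)).mp h
  exact prop_snd_comp P _ _ (sMap p f₀ g₀) _ (sMap_diagMap p f₀ g₀) h

/-- (T2) -/
theorem diagonal_bc_of (P : MorphismProperty C) [P.IsStableUnderBaseChange]
    (h : P (pullback.snd (pullback.diagonal f₀) (pullback.snd p (diagBase f₀ g₀)))) :
    P (pullback.diagonal (bc p f₀ g₀)) := by
  refine (prop_diagonal_iff P f₀ (pullback.snd p g₀)).mpr ?_
  exact prop_snd_comp P _ _ (tMap p f₀ g₀) _ (tMap_snd p f₀ g₀) h

end

end Groth.Agent.Lead.LimDiag
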