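import Groth.Agent.Lead.LimClosed
import Groth.Agent.Lead.LimDiag
open CategoryTheory Limits AlgebraicGeometry

namespace Groth.Agent.Lead.LimSep
open Groth.Agent.Lead.LimPullback Groth.Agent.Lead.LimFrame Groth.Agent.Lead.LimDiag
universe u
variable {I : Type u} [SmallCategory I] [IsCofiltered I] {D : I ⥤ Scheme.{u}} {c : Cone D}
  (hc : IsLimit c) [∀ {i j : I} (f : i ⟶ j), IsAffineHom (D.map f)] (i₀ : I)
  {X₀ Y₀ : Scheme.{u}} (g₀ : Y₀ ⟶ D.obj i₀) (f₀ : X₀ ⟶ Y₀)

include hc in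
set_option backward.isDefEq.respectTransparency false in
theorem isSeparated_descends [CompactSpace X₀] [QuasiSeparatedSpace X₀] [CompactSpace Y₀]
    [QuasiSeparatedSpace Y₀] (h : IsSeparated (LimFrame.limMap D c i₀ f₀ g₀)) :
    ∃ j : Over i₀, IsSeparated (stageMap D i₀ f₀ g₀ j) := by
  have hf₀c : QuasiCompact f₀ := inferInstance
  have hf₀q : QuasiSeparated f₀ := inferInstance
  have hZc : CompactSpace ↥(pullback f₀ f₀) :=
    QuasiCompact.compactSpace_of_compactSpace (pullback.fst f₀ f₀)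
  have hZq : QuasiSeparatedSpace ↥(pullback f₀ f₀) :=
    quasiSeparatedSpace_of_quasiSeparated (pullback.fst f₀ f₀)
  have hΔ : IsClosedImmersion (pullback.diagonal (LimFrame.limMap D c i₀ f₀ g₀)) := h.1
  have h7 : IsClosedImmersion (LimFrame.limMap D c i₀ (pullback.diagonal f₀) (diagBase f₀ g₀)) :=
    of_diagonal_bc (c.π.app i₀) f₀ g₀ (@IsClosedImmersion) hΔ
  obtain ⟨j, hj⟩ := LimClosed.isClosedImmersion_descends hc i₀ (diagBase f₀ g₀)
    (pullback.diagonal f₀) h7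
  exact ⟨j, ⟨diagonal_bc_of (D.map j.hom) f₀ g₀ (@IsClosedImmersion) hj⟩⟩

end Groth.Agent.Lead.LimSep
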