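import Groth.Agent.S0590
import Groth.Agent.S0591
import Groth.Agent.S9190
import Groth.Prelude.Def_FGA
import Mathlib

set_option autoImplicit false
universe u
open CategoryTheory AlgebraicGeometry Limits Opposite

namespace Groth.Agent.Lead.ChowQ

/-- base change square for `ProjSpaceOver`. -/
theorem isPullback_projSpaceOver (n : ℕ) {S T : Scheme.{u}} (φ : S ⟶ T) :
    IsPullback (FGA.projMap n φ) (CohB1.ProjSpaceOver.toBase n S)
      (CohB1.ProjSpaceOver.toBase n T) φ := by
  have t : IsPullback (pullback.fst (CohB1.ProjSpace.toSpec n (ULift.{u} ℤ))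
        (specULiftZIsTerminal.from T)) (CohB1.ProjSpaceOver.toBase n T)
      (CohB1.ProjSpace.toSpec n (ULift.{u} ℤ)) (specULiftZIsTerminal.from T) :=
    IsPullback.of_hasPullback _ _
  have s0 : IsPullback (pullback.fst (CohB1.ProjSpace.toSpec n (ULift.{u} ℤ))
        (specULiftZIsTerminal.from S)) (CohB1.ProjSpaceOver.toBase n S)
      (CohB1.ProjSpace.toSpec n (ULift.{u} ℤ)) (specULiftZIsTerminal.from S) :=
    IsPullback.of_hasPullback _ _
  have e1 : FGA.projMap n φ ≫ pullback.fst (CohB1.ProjSpace.toSpec n (ULift.{u} ℤ))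
        (specULiftZIsTerminal.from T) = pullback.fst (CohB1.ProjSpace.toSpec n (ULift.{u} ℤ))
        (specULiftZIsTerminal.from S) :=
    (pullback.lift_fst _ _ _).trans (Category.comp_id _)
  have e2 : φ ≫ specULiftZIsTerminal.from T = specULiftZIsTerminal.from S :=
    specULiftZIsTerminal.hom_ext _ _
  have s : IsPullback (FGA.projMap n φ ≫ pullback.fst (CohB1.ProjSpace.toSpec n (ULift.{u} ℤ))
        (specULiftZIsTerminal.from T)) (CohB1.ProjSpaceOver.toBase n S)
      (CohB1.ProjSpace.toSpec n (ULift.{u} ℤ)) (φ ≫ specULiftZIsTerminal.from T) := by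
    rw [e1, e2]; exact s0
  exact IsPullback.of_right s (pullback.lift_snd _ _ _) t

/-- descent of a separated finitely presented morphism to a finite type `ℤ`-stage. -/
theorem exists_stage {S X' : Scheme.{u}} [CompactSpace S] [QuasiSeparatedSpace S] (f' : X' ⟶ S)
    [IsSeparated f'] [LocallyOfFinitePresentation f'] [QuasiCompact f'] :
    ∃ (T W : Scheme.{u}) (h : W ⟶ T) (p : S ⟶ T) (g : X' ⟶ W),
      CompactSpace T ∧ LocallyOfFiniteType (specULiftZIsTerminal.from T) ∧
      IsSeparated h ∧ LocallyOfFinitePresentation h ∧ QuasiCompact h ∧ IsPullback g f' h p := by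
  obtain ⟨I, _, _, _, D, c, hc, haff, hD, ⟨e⟩⟩ := Groth.Agent.S0590.result S
  haveI : ∀ (i j : Iᵒᵖ) (f : i ⟶ j), IsAffineHom (D.map f) := haff
  haveI : ∀ i, CompactSpace (D.obj i) := fun i ↦ (hD i).1
  haveI hqs : ∀ i, QuasiSeparatedSpace (D.obj i) := by
    intro i
    haveI := (hD i).2
    haveI : IsNoetherianRing (ULift.{u} ℤ) :=
      isNoetherianRing_of_ringEquiv ℤ (ULift.ringEquiv : ULift.{u} ℤ ≃+* ℤ).symm
    haveI : IsLocallyNoetherian (Spec (CommRingCat.of (ULift.{u} ℤ))) := inferInstance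
    haveI : IsLocallyNoetherian (D.obj i) :=
      LocallyOfFiniteType.isLocallyNoetherian (specULiftZIsTerminal.from (D.obj i))
    infer_instance
  haveI : IsFiltered I := inferInstance
  obtain ⟨i, Xi, fi, g, hfi1, hfi2, hfi3, hsq⟩ :=
    Groth.Agent.S0591.result D c hc X' (f' ≫ e.inv)
  haveI : CompactSpace Xi := QuasiCompact.compactSpace_of_compactSpace fi
  haveI : QuasiSeparatedSpace Xi := quasiSeparatedSpace_of_quasiSeparated fi
  have hY : IsPullback (c.π.app i) (𝟙 c.pt) (𝟙 (D.obj i)) (c.π.app i) :=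
    IsPullback.id_vert _
  obtain ⟨i', φ, Xi', Yi', fi', gi, pY, pX, h1, h2, hsep⟩ :=
    Groth.Agent.S9190.result D c hc i fi (𝟙 (D.obj i)) (f' ≫ e.inv) (𝟙 c.pt) (c.π.app i) g hY hsq
  haveI : IsIso gi := h1.isIso_snd_of_isIso
  have hp : IsPullback pX (fi' ≫ gi) (fi ≫ 𝟙 _) (D.map φ) := h2.paste_vert h1
  rw [Category.comp_id] at hp
  have hw : g ≫ fi = (f' ≫ e.inv ≫ c.π.app i') ≫ D.map φ := by
    rw [hsq.w]; simp
  let gW : X' ⟶ Xi' := hp.lift g (f' ≫ e.inv ≫ c.π.app i') hw
  have hgW1 : gW ≫ pX = g := hp.lift_fst _ _ _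
  have hgW2 : gW ≫ fi' ≫ gi = f' ≫ e.inv ≫ c.π.app i' := hp.lift_snd _ _ _
  have s : IsPullback (gW ≫ pX) (f' ≫ e.inv) fi (c.π.app i' ≫ D.map φ) := by
    rw [hgW1, c.w]; exact hsq
  have hsq' : IsPullback gW (f' ≫ e.inv) (fi' ≫ gi) (c.π.app i') :=
    IsPullback.of_right s (by rw [hgW2]; simp) hp
  have hiso : IsPullback (𝟙 X') f' (f' ≫ e.inv) e.inv := IsPullback.of_horiz_isIso ⟨by simp⟩
  have hfin : IsPullback (𝟙 X' ≫ gW) f' (fi' ≫ gi) (e.inv ≫ c.π.app i') := hiso.paste_horiz hsq'
  rw [Category.id_comp] at hfin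
  refine ⟨D.obj i', Xi', fi' ≫ gi, e.inv ≫ c.π.app i', gW, inferInstance, (hD i').2, inferInstance,
    ?_, ?_, hfin⟩
  · exact MorphismProperty.of_isPullback (P := @LocallyOfFinitePresentation) hp hfi1
  · exact MorphismProperty.of_isPullback (P := @QuasiCompact) hp hfi2


/-- a quasi-compact scheme locally of finite presentation over a finite type `ℤ`-scheme has
finitely many irreducible components. -/
theorem finite_irreducibleComponents {W T : Scheme.{u}} (h : W ⟶ T) [CompactSpace T]
    (hT : LocallyOfFiniteType (specULiftZIsTerminal.from T)) [LocallyOfFiniteType h]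
    [QuasiCompact h] : (irreducibleComponents (W : Type u)).Finite := by
  haveI := hT
  haveI : IsNoetherianRing (ULift.{u} ℤ) :=
    isNoetherianRing_of_ringEquiv ℤ (ULift.ringEquiv : ULift.{u} ℤ ≃+* ℤ).symm
  haveI : IsLocallyNoetherian (Spec (CommRingCat.of (ULift.{u} ℤ))) := inferInstance
  haveI : IsLocallyNoetherian T :=
    LocallyOfFiniteType.isLocallyNoetherian (specULiftZIsTerminal.from T)
  haveI : IsLocallyNoetherian W := LocallyOfFiniteType.isLocallyNoetherian h
  haveI : CompactSpace W := QuasiCompact.compactSpace_of_compactSpace h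
  haveI : IsNoetherian W := {}
  exact TopologicalSpace.NoetherianSpace.finite_irreducibleComponents

/-- Chow's lemma over a qcqs base, given a closed immersion into a separated finitely presented
scheme and Chow's lemma for schemes with finitely many irreducible components. -/
theorem chow_of_embed
    (hChow : ∀ {W T : Scheme.{u}} (h : W ⟶ T) [CompactSpace T] [QuasiSeparatedSpace T]
      [IsSeparated h] [LocallyOfFiniteType h] [QuasiCompact h],
      (irreducibleComponents (W : Type u)).Finite →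
      ∃ (n : ℕ) (W' : Scheme.{u}) (π : W' ⟶ W) (j : W' ⟶ CohB1.ProjSpaceOver n T),
        IsImmersion j ∧ j ≫ CohB1.ProjSpaceOver.toBase n T = π ≫ h ∧ IsProper π ∧ Surjective π)
    {X S X' : Scheme.{u}} (f : X ⟶ S) [CompactSpace S] [QuasiSeparatedSpace S]
    (f' : X' ⟶ S) (j : X ⟶ X') [IsSeparated f'] [LocallyOfFinitePresentation f'] [QuasiCompact f']
    [IsClosedImmersion j] (hj : j ≫ f' = f) :
    ∃ (n : ℕ) (X'' : Scheme.{u}) (π : X'' ⟶ X) (j'' : X'' ⟶ CohB1.ProjSpaceOver n S),
      IsImmersion j'' ∧ j'' ≫ CohB1.ProjSpaceOver.toBase n S = π ≫ f ∧ IsProper π ∧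
        Surjective π := by
  obtain ⟨T, W, h, p, gW, hTc, hTft, hsep, hfp, hqc, hsq⟩ := exists_stage f'
  haveI : QuasiSeparatedSpace T := by
    haveI := hTft
    haveI : IsNoetherianRing (ULift.{u} ℤ) :=
      isNoetherianRing_of_ringEquiv ℤ (ULift.ringEquiv : ULift.{u} ℤ ≃+* ℤ).symm
    haveI : IsLocallyNoetherian (Spec (CommRingCat.of (ULift.{u} ℤ))) := inferInstance
    haveI : IsLocallyNoetherian T :=
      LocallyOfFiniteType.isLocallyNoetherian (specULiftZIsTerminal.from T)
    infer_instance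
  obtain ⟨n, W', π, jW, hjW, hcomm, hprop, hsurj⟩ :=
    hChow h (finite_irreducibleComponents h hTft)
  let q : X ⟶ W := j ≫ gW
  -- the closed immersion `a`
  let a : pullback q π ⟶ pullback gW π :=
    pullback.lift (pullback.fst q π ≫ j) (pullback.snd q π)
      (by rw [Category.assoc]; exact pullback.condition)
  have ha1 : a ≫ pullback.fst gW π = pullback.fst q π ≫ j := pullback.lift_fst _ _ _
  have ha2 : a ≫ pullback.snd gW π = pullback.snd q π := pullback.lift_snd _ _ _
  have sA : IsPullback (a ≫ pullback.snd gW π) (pullback.fst q π) π (j ≫ gW) := by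
    rw [ha2]; exact (IsPullback.of_hasPullback q π).flip
  have hA : IsPullback a (pullback.fst q π) (pullback.fst gW π) j :=
    IsPullback.of_right sA ha1 (IsPullback.of_hasPullback gW π).flip
  haveI : IsClosedImmersion a :=
    MorphismProperty.of_isPullback (P := @IsClosedImmersion) hA.flip inferInstance
  -- the immersion `b`
  have sB0 : IsPullback (pullback.snd gW π) (pullback.fst gW π ≫ f') (π ≫ h) p :=
    (IsPullback.of_hasPullback gW π).flip.paste_vert hsq
  rw [← hcomm] at sB0
  have hPS := isPullback_projSpaceOver n p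
  let b : pullback gW π ⟶ CohB1.ProjSpaceOver n S :=
    hPS.lift (pullback.snd gW π ≫ jW) (pullback.fst gW π ≫ f') (by
      rw [Category.assoc]; exact sB0.w)
  have hb1 : b ≫ FGA.projMap n p = pullback.snd gW π ≫ jW := hPS.lift_fst _ _ _
  have hb2 : b ≫ CohB1.ProjSpaceOver.toBase n S = pullback.fst gW π ≫ f' := hPS.lift_snd _ _ _
  have sB : IsPullback (pullback.snd gW π) (b ≫ CohB1.ProjSpaceOver.toBase n S)
      (jW ≫ CohB1.ProjSpaceOver.toBase n T) p := by
    rw [hb2]; exact sB0
  have hB : IsPullback (pullback.snd gW π) b jW (FGA.projMap n p) :=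
    IsPullback.of_bot sB hb1.symm hPS
  haveI : IsImmersion b := MorphismProperty.of_isPullback (P := @IsImmersion) hB hjW
  refine ⟨n, pullback q π, pullback.fst q π, a ≫ b, inferInstance, ?_, ?_, ?_⟩
  · rw [Category.assoc, hb2, ← Category.assoc, ha1, Category.assoc, hj]
  · haveI := hprop
    infer_instance
  · haveI := hsurj
    infer_instance

end Groth.Agent.Lead.ChowQ
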