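import Mathlib
import Groth.Agent.Lead.Thick2
import Groth.Agent.Lead.ResPropC
import Groth.Agent.Lead.ParaFLib
import Groth.Agent.S0010

/-!
# Cohomological dimension: coherent vanishing from locally free vanishing on schemes with an
ample invertible module
-/

set_option autoImplicit false
set_option linter.style.haveILetI false
universe u
open CategoryTheory AlgebraicGeometry Limits Opposite
open Coherent

namespace Groth.Agent.Lead.QProjVan
open Groth.Agent.Helper4 Groth.Agent.Helper1 Groth.Agent.Helper1.SerreCrit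

variable {X : Scheme.{u}}

/-- in a short exact sequence `0 → A → B → C → 0`, `H^n(B) = 0` and `H^{n+1}(A) = 0` imply
`H^n(C) = 0` -/
theorem subsingleton_HH_right (S : ShortComplex X.Modules) (hS : S.ShortExact) (n : ℕ)
    (h2 : Subsingleton (Coh.HH X S.X₂ n)) (h1 : Subsingleton (Coh.HH X S.X₁ (n + 1))) :
    Subsingleton (Coh.HH X S.X₃ n) := by
  have hS' : (S.map (toAbF X)).ShortExact := hS.map_of_exact (toAbF X)
  have key : ∀ x : Coh.HH X S.X₃ n, x = 0 := by
    intro x
    obtain ⟨x₂, hx₂⟩ := Abelian.Ext.covariant_sequence_exact₃ _ hS'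
      (show Abelian.Ext _ (S.map (toAbF X)).X₃ n from x) rfl
      (@Subsingleton.elim _ h1 _ _)
    have h0 : x₂ = 0 := @Subsingleton.elim _ h2 _ _
    rw [h0, Abelian.Ext.zero_comp] at hx₂
    exact hx₂.symm
  exact ⟨fun a b => by rw [key a, key b]⟩

/-- **resolution property from an ample invertible module** -/
theorem exists_epi_finLocFree_of_isAmple [QuasiSeparatedSpace X] (L : X.Modules)
    (hL : CohB1.IsAmple L) (F : X.Modules) [F.IsQuasicoherent]
    (hFT : SheafOfModules.IsFiniteType (R := X.ringCatSheaf) F) :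
    ∃ (E : X.Modules) (π : E ⟶ F), FlatMod.IsFinLocFree E ∧ Epi π := by
  obtain ⟨hinv, hc, hch⟩ := hL
  haveI := hc
  obtain ⟨K, N, π, hπ, hN⟩ := Groth.Agent.Lead.ResProp.exists_epi_of_charts F hFT (fun _ => True)
    (fun x => by
      obtain ⟨n, s, hx, haff⟩ := hch x
      exact ⟨CohB1.tensorPow L (n + 1), s, trivial,
        Groth.Agent.Helper4.TensorInv.isInvertible_tensorPow hinv _, hx, haff⟩)
  exact ⟨⨁ N, π, Groth.Agent.Lead.ResProp.isFinLocFree_biproduct K N
    (fun j => Groth.Agent.Lead.ParaFLib.isFinLocFree_of_isInvertible _ (hN j).1), hπ⟩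

/-- **main**: on a Noetherian separated scheme with an ample invertible module, vanishing of
cohomology above `n` for finite locally free modules implies it for all coherent modules -/
theorem subsingleton_HH_of_locFree [IsNoetherian X] [X.IsSeparated] (L : X.Modules)
    (hL : CohB1.IsAmple L) (n : ℕ)
    (h : ∀ E : X.Modules, FlatMod.IsFinLocFree E → ∀ i : ℕ, n < i → Subsingleton (Coh.HH X E i))
    (F : X.Modules) (hF : Coh.IsCoh F) (i : ℕ) (hi : n < i) :
    Subsingleton (Coh.HH X F i) := by
  obtain ⟨t, U, hU, hcov⟩ : ∃ (t : ℕ) (U : Fin t → X.Opens), (∀ i, IsAffineOpen (U i)) ∧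
      ⨆ i, U i = ⊤ := by
    obtain ⟨s, hs⟩ := (isCompact_univ (X := X)).elim_finite_subcover
      (fun V : X.affineOpens => ((V : X.Opens) : Set X)) (fun V => V.1.isOpen)
      (by
        intro x _
        obtain ⟨V, hV, hxV⟩ := QcohLimits.exists_affine_nhd x
        exact Set.mem_iUnion.2 ⟨⟨V, hV⟩, hxV⟩)
    refine ⟨s.card, fun j => ((s.equivFin.symm j : s) : X.affineOpens).1,
      fun j => ((s.equivFin.symm j : s) : X.affineOpens).2, ?_⟩
    rw [eq_top_iff]
    intro x _
    have hx := hs (Set.mem_univ x)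
    simp only [Set.mem_iUnion] at hx
    obtain ⟨V, hVs, hxV⟩ := hx
    exact TopologicalSpace.Opens.mem_iSup.2 ⟨s.equivFin ⟨V, hVs⟩, by simpa using hxV⟩
  have hd : ∀ V W : X.Opens, IsAffineOpen V → IsAffineOpen W → IsAffineOpen (V ⊓ W) :=
    fun V W hV hW => hV.inf hW
  suffices H : ∀ (d i : ℕ), n < i → t ≤ i + d → ∀ F : X.Modules, Coh.IsCoh F →
      Subsingleton (Coh.HH X F i) from H t i hi (Nat.le_add_left _ _) F hF
  intro d
  induction d with
  | zero =>
    intro i _ hti F hF
    haveI : Coh.IsQCoh F := hF.1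
    exact Groth.Agent.S0010.result X t U hU hcov hd F i (by simpa using hti)
  | succ d ih =>
    intro i hi hti F hF
    haveI : F.IsQuasicoherent := hF.1
    obtain ⟨E, π, hE, hπ⟩ := exists_epi_finLocFree_of_isAmple L hL F hF.2
    haveI := hπ
    have hEc : Coh.IsCoh E := Groth.Agent.Lead.PerfLib.isCoh_of_isFinLocFree hE
    have hK : Coh.IsCoh (kernel π) := Groth.Agent.Lead.PerfLib.isCoh_kernel hEc hF π
    let S : ShortComplex X.Modules := ShortComplex.mk (kernel.ι π) π (kernel.condition π)
    have hS : S.ShortExact :=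
      { exact := ShortComplex.exact_kernel π
        mono_f := inferInstanceAs (Mono (kernel.ι π))
        epi_g := hπ }
    exact subsingleton_HH_right S hS i (h E hE i hi)
      (ih (i + 1) (Nat.lt_succ_of_lt hi) (by omega) (kernel π) hK)

end Groth.Agent.Lead.QProjVan
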