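import Groth.Agent.Lead.PicComplA
import Groth.Agent.Lead.BCMap3
import Groth.Agent.Helper4.FinLocFree2
import Groth.Agent.Helper6.InvLoc

set_option autoImplicit false
open CategoryTheory CategoryTheory.Limits AlgebraicGeometry Opposite TopologicalSpace
universe u

namespace Groth.Agent.Lead.PicSemi
open Scheme.Modules Groth.Agent.Helper4.FinLocFree Groth.Agent.Helper4 Groth.Agent.Lead.PushInv

variable (R : CommRingCat.{u})

/-- from a basis of the sections over a basic open to an isomorphism of localizations -/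
theorem away_equiv_of_basis (M : ModuleCat.{u} R) (f : R)
    (b : Module.Basis (Fin 1) Γ(Spec R, PrimeSpectrum.basicOpen f)
      Γ(tilde M, PrimeSpectrum.basicOpen f)) :
    Nonempty (LocalizedModule.Away f M ≃ₗ[Localization.Away f] Localization.Away f) := by
  let D : (Spec R).Opens := PrimeSpectrum.basicOpen f
  haveI hloc : IsLocalizedModule (Submonoid.powers f)
      (tilde.toOpen M (PrimeSpectrum.basicOpen f)).hom :=
    inferInstanceAs (IsLocalizedModule.Away f (tilde.toOpen M (PrimeSpectrum.basicOpen f)).hom)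
  let e1 :=
    IsLocalizedModule.iso (Submonoid.powers f) (tilde.toOpen M (PrimeSpectrum.basicOpen f)).hom
  let e2 : Γ(tilde M, D) ≃ₗ[Γ(Spec R, D)] Γ(Spec R, D) :=
    b.equivFun ≪≫ₗ LinearEquiv.funUnique (Fin 1) Γ(Spec R, D) Γ(Spec R, D)
  let e2' : Γ(tilde M, D) ≃ₗ[R] Γ(Spec R, D) := e2.restrictScalars R
  haveI : IsLocalization.Away f Γ(Spec R, D) := StructureSheaf.IsLocalization.to_basicOpen R f
  let e3 : Localization.Away f ≃ₗ[R] Γ(Spec R, D) :=
    (IsLocalization.algEquiv (Submonoid.powers f) (Localization.Away f) Γ(Spec R, D)).toLinearEquiv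
  let e : LocalizedModule.Away f M ≃ₗ[R] Localization.Away f := e1 ≪≫ₗ e2' ≪≫ₗ e3.symm
  exact ⟨LinearEquiv.extendScalarsOfIsLocalization (Submonoid.powers f) (Localization.Away f) e⟩

theorem isFreeAlong_one_of_iso {X : Scheme.{u}} (N : X.Modules) (U : X.Opens)
    (e : N.restrict U.ι ≅ Coh.structureModule (↑U)) : IsFreeAlong N U.ι 1 :=
  ⟨e ≪≫ (Limits.coproductUniqueIso (fun _ : Fin 1 => Coh.structureModule (↑U))).symm⟩

theorem invertible_sections (M : ModuleCat.{u} R) (hM : PicF.IsInvertible (tilde M)) :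
    Module.Invertible R M := by
  let s : Set R := {f | Nonempty (LocalizedModule.Away f M ≃ₗ[Localization.Away f] Localization.Away f)}
  have hs : Ideal.span s = ⊤ := by
    by_contra hne
    obtain ⟨P, hP, hle⟩ := Ideal.exists_le_maximal _ hne
    let x : Spec R := ⟨P, hP.isPrime⟩
    obtain ⟨U, hxU, ⟨e⟩⟩ := hM x
    have hfree := isFreeAlong_one_of_iso (tilde M) U e
    obtain ⟨_, ⟨_, ⟨f, rfl⟩, rfl⟩, hxf, hfU⟩ := PrimeSpectrum.isBasis_basic_opens.exists_subset_of_mem_open
      hxU U.isOpen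
    let D : (Spec R).Opens := PrimeSpectrum.basicOpen f
    have hfU' : D ≤ U := hfU
    have hfree' : IsFreeAlong (tilde M) D.ι 1 := IsFreeAlong.of_le hfU' hfree
    have haff : IsAffineOpen D := IsAffineOpen.Spec_basicOpen f
    obtain ⟨b⟩ := (isFreeAlong_ι_iff_basis haff (tilde M)).mp hfree'
    have hfs : f ∈ s := away_equiv_of_basis R M f b
    exact hxf (hle (Ideal.subset_span hfs))
  exact Groth.Agent.Helper6.InvLoc.main R M s hs (fun f hf => hf)

theorem picTrivial_spec [Finite (MaximalSpectrum R)] : Formal2.PicTrivial (Spec R) := by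
  intro N hN
  have : N.IsQuasicoherent := Groth.Agent.Helper4.FinLocFree4.isQuasicoherent_of_isFinLocFree _
    (Groth.Agent.Lead.ParaFLib.isFinLocFree_of_isInvertible N hN)
  let M := moduleSpecΓFunctor.obj N
  let i : tilde M ≅ N := Groth.Agent.Lead.BCMap.tildeΓIso N
  have hM : PicF.IsInvertible (tilde M) := Groth.Agent.Lead.ParaFLib.isInvertible_of_iso i.symm hN
  have := invertible_sections R M hM
  have : Module.Free R M := inferInstance
  obtain ⟨l⟩ := Module.Invertible.free_iff_linearEquiv.mp (inferInstance : Module.Free R M)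
  let l' : M ≅ ModuleCat.of R R := l.toModuleIso
  exact ⟨i.symm ≪≫ (tilde.functor R).mapIso l' ≪≫ tildeSelf⟩

section ToSpec
variable (X : Scheme.{u}) [CompactSpace X] [QuasiSeparatedSpace X]

theorem isIso_unitPush_toSpecΓ : IsIso (unitPush X.toSpecΓ) := by
  haveI : QuasiCompact X.toSpecΓ := inferInstance
  haveI : QuasiSeparated X.toSpecΓ := inferInstance
  haveI := isQuasicoherent_structureModule (Spec Γ(X, ⊤))
  haveI := isQuasicoherent_structureModule X
  haveI : ((pushforward X.toSpecΓ).obj (Coh.structureModule X)).IsQuasicoherent :=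
    QcohGlue.isQuasicoherent_pushforward X.toSpecΓ _
  apply QcohLocal.isIso_of_app_bijective_of_affine_cover
  intro x
  refine ⟨⊤, isAffineOpen_top _, trivial, ?_⟩
  have hb : Function.Bijective (X.toSpecΓ.app ⊤) := by
    have h1 : X.toSpecΓ.app ⊤ = (Scheme.ΓSpecIso Γ(X, ⊤)).hom := X.toSpecΓ_appTop
    rw [h1]
    exact ConcreteCategory.bijective_of_isIso (Scheme.ΓSpecIso Γ(X, ⊤)).hom
  refine ⟨fun a b hab => hb.1 ?_, fun c => ?_⟩
  · rw [← unitPush_app, ← unitPush_app]; exact hab
  · obtain ⟨a, ha⟩ := hb.2 c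
    exact ⟨a, by rw [unitPush_app]; exact ha⟩

theorem app_bijective_toSpecΓ (V : (Spec Γ(X, ⊤)).Opens) :
    Function.Bijective (X.toSpecΓ.app V) := by
  haveI := isIso_unitPush_toSpecΓ X
  have : IsIso ((unitPush X.toSpecΓ).app V) := inferInstance
  have hb := (ConcreteCategory.isIso_iff_bijective ((unitPush X.toSpecΓ).app V)).mp this
  refine ⟨fun a b hab => hb.1 ?_, fun c => ?_⟩
  · rw [unitPush_app, unitPush_app]; exact hab
  · obtain ⟨a, ha⟩ := hb.2 c
    exact ⟨a, by rw [← unitPush_app]; exact ha⟩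

end ToSpec

/-- S7671 -/
theorem main (A B : Type u) [CommRing A]
    [CommRing B] [Algebra A B] [Module.FaithfullyFlat A B]
    (X : Scheme.{u}) (f : X ⟶ Spec (CommRingCat.of A)) [CompactSpace X] [QuasiSeparatedSpace X]
    (hsl : Finite (MaximalSpectrum Γ(X, ⊤))) (L : X.Modules) (hL : PicF.IsInvertible L)
    (htriv : Nonempty ((Scheme.Modules.pullback
        (pullback.fst f (Spec.map (CommRingCat.ofHom (algebraMap A B))))).obj L ≅
      Coh.structureModule (pullback f (Spec.map (CommRingCat.ofHom (algebraMap A B)))))) :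
    Nonempty (L ≅ Coh.structureModule X) := by
  set g₀ := Spec.map (CommRingCat.ofHom (algebraMap A B)) with hg₀
  have hfs : Flat g₀ ∧ Surjective g₀ := by
    rw [flat_and_surjective_SpecMap_iff]
    exact RingHom.faithfullyFlat_algebraMap_iff.mpr inferInstance
  have := hfs.1
  have := hfs.2
  let a : Spec Γ(X, ⊤) ⟶ Spec (CommRingCat.of A) :=
    Spec.map f.appTop ≫ inv (Spec (CommRingCat.of A)).toSpecΓ
  have hfa : f = X.toSpecΓ ≫ a := by
    have h1 := Scheme.toSpecΓ_naturality f
    rw [← Category.assoc, ← h1, Category.assoc, IsIso.hom_inv_id, Category.comp_id]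
  clear_value a
  subst hfa
  let g := pullback.fst a g₀
  have hg : Formal2.PicPullbackInjective g := fun N hN _ => picTrivial_spec Γ(X, ⊤) N hN
  have key := picInj X.toSpecΓ (app_bijective_toSpecΓ X) g hg
  obtain ⟨e⟩ := htriv
  apply key L hL
  let i := pullbackRightPullbackFstIso a g₀ X.toSpecΓ
  have hi : pullback.fst X.toSpecΓ g = i.hom ≫ pullback.fst (X.toSpecΓ ≫ a) g₀ :=
    (pullbackRightPullbackFstIso_hom_fst a g₀ X.toSpecΓ).symm
  exact ⟨(pullbackCongr hi).app L ≪≫ ((pullbackComp i.hom _).symm.app L) ≪≫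
    (Scheme.Modules.pullback i.hom).mapIso e ≪≫ Groth.Agent.Lead.PicCompl.pullbackUnitIso i.hom⟩

end Groth.Agent.Lead.PicSemi
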