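import Groth.Prelude.Def_OmegaPn
import Mathlib

/-!
# Lead: pullback of modules along an isomorphism; `P^0`
-/

set_option autoImplicit false
open CategoryTheory CategoryTheory.Limits AlgebraicGeometry Opposite TopologicalSpace
universe u

namespace Groth.Agent.Lead.PPIsoA
open Scheme.Modules

section Iso
variable {X Y : Scheme.{u}} (h : X ⟶ Y) [IsIso h]

/-- pullback of modules along an isomorphism of schemes is an equivalence -/
noncomputable def pullbackEquiv : Y.Modules ≌ X.Modules :=
  CategoryTheory.Equivalence.mk (Scheme.Modules.pullback h) (Scheme.Modules.pullback (inv h))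
    ((Scheme.Modules.pullbackId Y).symm ≪≫
      Scheme.Modules.pullbackCongr (IsIso.inv_hom_id h).symm ≪≫
      (Scheme.Modules.pullbackComp (inv h) h).symm)
    (Scheme.Modules.pullbackComp h (inv h) ≪≫
      Scheme.Modules.pullbackCongr (IsIso.hom_inv_id h) ≪≫ Scheme.Modules.pullbackId X)

instance : (Scheme.Modules.pullback h).IsEquivalence :=
  (pullbackEquiv h).isEquivalence_functor

instance isIso_unit (F : Y.Modules) :
    IsIso ((Scheme.Modules.pullbackPushforwardAdjunction h).unit.app F) := inferInstance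

theorem pullSect_bijective (F : Y.Modules) (U : Y.Opens) :
    Function.Bijective (OmegaSh.pullSect h F U) := by
  have : IsIso (((Scheme.Modules.pullbackPushforwardAdjunction h).unit.app F).app U) := inferInstance
  exact (ConcreteCategory.isIso_iff_bijective _).mp this

end Iso

section Zero
variable {X S : Scheme.{u}} (f : X ⟶ S)

theorem isIso_inclusion_of_eq {Z : Scheme.{u}} {I J : Z.IdealSheafData} (hIJ : I = J) (hle : I ≤ J) :
    IsIso (Scheme.IdealSheafData.inclusion hle) := by
  subst hIJ
  rw [Scheme.IdealSheafData.inclusion_id]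
  infer_instance

instance isIso_toInfNbhd_zero {Y Z : Scheme.{u}} (i : Y ⟶ Z) [IsClosedImmersion i] :
    IsIso (PrinPart.toInfNbhd i 0) := by
  unfold PrinPart.toInfNbhd
  haveI := isIso_inclusion_of_eq (I := i.ker ^ (0 + 1)) (J := i.ker) (by rw [zero_add, pow_one])
    (PrinPart.ker_pow_succ_le i 0)
  infer_instance

instance isIso_pr2_zero : IsIso (PrinPart.pr2 f 0) := by
  have h := PrinPart.toNbhd_pr2 f 0
  have : PrinPart.pr2 f 0 = inv (PrinPart.toNbhd f 0) := by
    rw [← cancel_epi (PrinPart.toNbhd f 0), h, IsIso.hom_inv_id]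
  rw [this]
  infer_instance

instance isIso_pr1_zero : IsIso (PrinPart.pr1 f 0) := by
  have h := PrinPart.toNbhd_pr1 f 0
  have : PrinPart.pr1 f 0 = inv (PrinPart.toNbhd f 0) := by
    rw [← cancel_epi (PrinPart.toNbhd f 0), h, IsIso.hom_inv_id]
  rw [this]
  infer_instance

theorem pr1_zero_eq : PrinPart.pr1 f 0 = PrinPart.pr2 f 0 := by
  rw [← cancel_epi (PrinPart.toNbhd f 0), PrinPart.toNbhd_pr1, PrinPart.toNbhd_pr2]

theorem dP_zero_bijective (F : X.Modules) (U : X.Opens) :
    Function.Bijective (PrinPart.dP f 0 F U) := by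
  have h1 := pullSect_bijective (PrinPart.pr2 f 0) F U
  have h2 : Function.Bijective (((Scheme.Modules.pullback (PrinPart.pr2 f 0)).obj F).presheaf.map
      (homOfLE (PrinPart.preimage_pr1 f 0 U).le).op) := by
    haveI : IsIso (homOfLE (PrinPart.preimage_pr1 f 0 U).le) :=
      ⟨homOfLE (PrinPart.preimage_pr1 f 0 U).ge, rfl, rfl⟩
    exact (ConcreteCategory.isIso_iff_bijective _).mp inferInstance
  exact h2.comp h1

end Zero

end Groth.Agent.Lead.PPIsoA
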