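import Mathlib
import Groth.Agent.Lead.FD7

/-!
# FD15: Noetherian approximation of flat finitely presented algebras / affine morphisms
-/

set_option autoImplicit false
universe u
open TensorProduct CategoryTheory

namespace Groth.Agent.Lead.FD15

/-- Generic pushout statement. -/
theorem isPushout_of_model {R₀ A B C Mod : Type u} [CommRing R₀] [CommRing A] [CommRing B]
    [CommRing C] [CommRing Mod] [Algebra A B] [Algebra R₀ A] [Algebra R₀ C] [Algebra C A]
    [IsScalarTower R₀ C A] [Algebra R₀ Mod] (e : A ⊗[R₀] Mod ≃ₐ[A] B) :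
    ∃ (β : C ⊗[R₀] Mod →+* B),
      IsPushout (CommRingCat.ofHom (algebraMap C (C ⊗[R₀] Mod)))
        (CommRingCat.ofHom (algebraMap C A)) (CommRingCat.ofHom β)
        (CommRingCat.ofHom (algebraMap A B)) := by
  let E : A ⊗[C] (C ⊗[R₀] Mod) ≃ₐ[A] B :=
    (Algebra.TensorProduct.cancelBaseChange R₀ C A A Mod).trans e
  refine ⟨E.toAlgHom.toRingHom.comp (Algebra.TensorProduct.includeRight (R := C) (A := A)
      (B := C ⊗[R₀] Mod)).toRingHom, ?_⟩
  refine ((CommRingCat.isPushout_tensorProduct C A (C ⊗[R₀] Mod)).of_iso (Iso.refl _)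
    (Iso.refl _) (Iso.refl _) E.toRingEquiv.toCommRingCatIso ?_ ?_ ?_ ?_).flip
  · simp
  · simp
  · ext x
    simp only [Iso.refl_hom, Category.id_comp]
    change E (x ⊗ₜ 1) = algebraMap A B x
    have : (x ⊗ₜ[C] (1 : C ⊗[R₀] Mod)) = algebraMap A _ x := by
      rw [Algebra.TensorProduct.algebraMap_apply]; rfl
    rw [this, E.commutes]
  · refine CommRingCat.hom_ext (RingHom.ext fun x => ?_)
    simp only [Iso.refl_hom, Category.id_comp]
    rfl

/-- A flat finitely presented algebra `A → B` is the base change of a flat finite type algebra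
`C₀ → D₀` with `C₀` of finite type over `ℤ`. -/
theorem exists_noeth_model {A B : Type u} [CommRing A] [CommRing B] [Algebra A B]
    [Algebra.FinitePresentation A B] [Module.Flat A B] :
    ∃ (C₀ D₀ : Type u) (_ : CommRing C₀) (_ : CommRing D₀) (φ₀ : C₀ →+* D₀) (α : C₀ →+* A)
      (β : D₀ →+* B),
      IsPushout (CommRingCat.ofHom φ₀) (CommRingCat.ofHom α) (CommRingCat.ofHom β)
        (CommRingCat.ofHom (algebraMap A B)) ∧
      Algebra.FiniteType ℤ C₀ ∧ φ₀.FiniteType ∧ φ₀.Flat := by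
  classical
  let P := Algebra.Presentation.ofFinitePresentation A B
  haveI : IsNoetherianRing P.Core := Algebra.FiniteType.isNoetherianRing ℤ P.Core
  let e : A ⊗[P.Core] P.ModelOfHasCoeffs P.Core ≃ₐ[A] B := P.tensorModelOfHasCoeffsEquiv P.Core
  haveI : Module.Flat A (A ⊗[P.Core] P.ModelOfHasCoeffs P.Core) :=
    Module.Flat.of_linearEquiv e.toLinearEquiv
  obtain ⟨T, hT⟩ := FD7.core_ft' (A₀ := P.Core) (P.ModelOfHasCoeffs P.Core)
    (P.ModelOfHasCoeffs P.Core) A
  obtain ⟨C₀, hC₀⟩ : ∃ C : Subalgebra P.Core A, C = Algebra.adjoin P.Core (↑T : Set A) := ⟨_, rfl⟩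
  haveI : Algebra.FiniteType P.Core C₀ := (Subalgebra.fg_iff_finiteType C₀).mp ⟨T, hC₀.symm⟩
  haveI : Module.Flat C₀ (C₀ ⊗[P.Core] P.ModelOfHasCoeffs P.Core) :=
    hT C₀ (hC₀ ▸ Algebra.subset_adjoin)
  obtain ⟨β, hβ⟩ := isPushout_of_model (R₀ := P.Core) (C := C₀) e
  refine ⟨C₀, C₀ ⊗[P.Core] P.ModelOfHasCoeffs P.Core, inferInstance, inferInstance,
    algebraMap _ _, algebraMap C₀ A, β, hβ, ?_, ?_, ?_⟩
  · exact Algebra.FiniteType.trans (R := ℤ) (S := P.Core) (A := C₀) inferInstance inferInstance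
  · exact RingHom.finiteType_algebraMap.mpr inferInstance
  · exact RingHom.flat_algebraMap_iff.mpr inferInstance

open AlgebraicGeometry in
/-- Noetherian approximation of a flat finitely presented morphism of affine schemes. -/
theorem noetherian_approximation_flat {X S : Scheme.{u}} (f : X ⟶ S) [IsAffine X] [IsAffine S]
    [LocallyOfFinitePresentation f] [Flat f] :
    ∃ (X₀ S₀ : Scheme.{u}) (f₀ : X₀ ⟶ S₀) (g : S ⟶ S₀) (g' : X ⟶ X₀), IsAffine X₀ ∧ IsAffine S₀ ∧
      IsPullback g' f f₀ g ∧ Algebra.FiniteType ℤ Γ(S₀, ⊤) ∧ LocallyOfFiniteType f₀ ∧ Flat f₀ := by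
  have h1 : f.appTop.hom.FinitePresentation :=
    (HasRingHomProperty.iff_of_isAffine (P := @LocallyOfFinitePresentation)).mp inferInstance
  have h2 : f.appTop.hom.Flat :=
    (HasRingHomProperty.iff_of_isAffine (P := @Flat)).mp inferInstance
  algebraize [f.appTop.hom]
  obtain ⟨C₀, D₀, _, _, φ₀, α, β, hpo, hft, hφft, hφfl⟩ :=
    exists_noeth_model (A := Γ(S, ⊤)) (B := Γ(X, ⊤))
  have hpb := isPullback_SpecMap_of_isPushout _ _ _ _ hpo
  refine ⟨Spec (.of D₀), Spec (.of C₀), Spec.map (CommRingCat.ofHom φ₀),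
    S.isoSpec.hom ≫ Spec.map (CommRingCat.ofHom α), X.isoSpec.hom ≫ Spec.map (CommRingCat.ofHom β),
    inferInstance, inferInstance, ?_, ?_, ?_, ?_⟩
  · refine hpb.of_iso X.isoSpec.symm (Iso.refl _) S.isoSpec.symm (Iso.refl _) ?_ ?_ ?_ ?_
    · simp
    · have : CommRingCat.ofHom (algebraMap Γ(S, ⊤) Γ(X, ⊤)) = f.appTop := rfl
      rw [this]
      exact Scheme.isoSpec_inv_naturality f
    · simp
    · simp
  · exact Algebra.FiniteType.equiv hft
      (Scheme.ΓSpecIso (.of C₀)).commRingCatIsoToRingEquiv.symm.toIntAlgEquiv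
  · exact (HasRingHomProperty.Spec_iff (P := @LocallyOfFiniteType)).mpr hφft
  · exact (HasRingHomProperty.Spec_iff (P := @Flat)).mpr hφfl

end Groth.Agent.Lead.FD15
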