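import Mathlib
import Groth.Agent.Lead.FD15
import Groth.Agent.Helper4.FPDescent

/-!
# FD21: Noetherian approximation of a finitely presented algebra together with a finitely presented
module (optionally flat over the base)
-/

set_option autoImplicit false
universe u
open TensorProduct CategoryTheory

namespace Groth.Agent.Lead.FD21

open Groth.Agent.Helper4

attribute [local instance] Algebra.TensorProduct.rightAlgebra

/-- Generic pushout statement, with a formula for the comparison map. -/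
theorem isPushout_of_model' {R₀ A B C Mod : Type u} [CommRing R₀] [CommRing A] [CommRing B]
    [CommRing C] [CommRing Mod] [Algebra A B] [Algebra R₀ A] [Algebra R₀ C] [Algebra C A]
    [IsScalarTower R₀ C A] [Algebra R₀ Mod] (e : A ⊗[R₀] Mod ≃ₐ[A] B) :
    ∃ (β : C ⊗[R₀] Mod →+* B),
      IsPushout (CommRingCat.ofHom (algebraMap C (C ⊗[R₀] Mod)))
        (CommRingCat.ofHom (algebraMap C A)) (CommRingCat.ofHom β)
        (CommRingCat.ofHom (algebraMap A B)) ∧
      ∀ (c : C) (m : Mod), β (c ⊗ₜ m) = e (algebraMap C A c ⊗ₜ m) := by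
  let E : A ⊗[C] (C ⊗[R₀] Mod) ≃ₐ[A] B :=
    (Algebra.TensorProduct.cancelBaseChange R₀ C A A Mod).trans e
  refine ⟨E.toAlgHom.toRingHom.comp (Algebra.TensorProduct.includeRight (R := C) (A := A)
      (B := C ⊗[R₀] Mod)).toRingHom, ?_, ?_⟩
  · refine ((CommRingCat.isPushout_tensorProduct C A (C ⊗[R₀] Mod)).of_iso (Iso.refl _)
      (Iso.refl _) (Iso.refl _) E.toRingEquiv.toCommRingCatIso ?_ ?_ ?_ ?_).flip
    · simp
    · simp
    · ext x
      simp only [Iso.refl_hom, Category.id_comp]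
      change E (x ⊗ₜ 1) = algebraMap A B x
      have : (x ⊗ₜ[C] (1 : C ⊗[R₀] Mod)) = algebraMap A _ x := by
        rw [Algebra.TensorProduct.algebraMap_apply]; rfl
      rw [this, E.commutes]
    · refine CommRingCat.hom_ext (RingHom.ext fun x => ?_)
      simp only [Iso.refl_hom, Category.id_comp]
      rfl
  · intro c m
    change e (Algebra.TensorProduct.cancelBaseChange R₀ C A A Mod (1 ⊗ₜ (c ⊗ₜ m))) = _
    rw [Algebra.TensorProduct.cancelBaseChange_tmul, Algebra.smul_def, mul_one]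

/-- Second step: from a model `(B₀, M₀₀)` over a finite type `ℤ`-algebra `R₁` to a model over a
finite type subalgebra `C₀ ⊆ A` over which flatness holds (when `M` is flat over `A`). -/
theorem generic2 {R₁ A B B₀ : Type u} [CommRing R₁] [CommRing A] [CommRing B] [CommRing B₀]
    [Algebra A B] [Algebra R₁ A] [Algebra R₁ B] [IsScalarTower R₁ A B] [Algebra R₁ B₀]
    [Algebra B₀ B] [IsScalarTower R₁ B₀ B] [Algebra.FiniteType ℤ R₁] [Algebra.FiniteType R₁ B₀]
    (e : A ⊗[R₁] B₀ ≃ₐ[A] B) (he : ∀ b, e (1 ⊗ₜ b) = algebraMap B₀ B b)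
    (M₀₀ : Type u) [AddCommGroup M₀₀] [Module R₁ M₀₀] [Module B₀ M₀₀] [IsScalarTower R₁ B₀ M₀₀]
    [Module.Finite B₀ M₀₀]
    (M : Type u) [AddCommGroup M] [Module A M] [Module B M] [IsScalarTower A B M]
    (eM : M ≃ₗ[B] B ⊗[B₀] M₀₀) :
    ∃ (C₀ D₀ : Type u) (_ : CommRing C₀) (_ : CommRing D₀) (_ : Algebra C₀ D₀) (α : C₀ →+* A)
      (β : D₀ →+* B) (M₀ : Type u) (_ : AddCommGroup M₀) (_ : Module D₀ M₀) (_ : Module C₀ M₀)
      (_ : IsScalarTower C₀ D₀ M₀),
      IsPushout (CommRingCat.ofHom (algebraMap C₀ D₀)) (CommRingCat.ofHom α) (CommRingCat.ofHom β)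
        (CommRingCat.ofHom (algebraMap A B)) ∧
      Algebra.FiniteType ℤ C₀ ∧ Algebra.FiniteType C₀ D₀ ∧ Module.Finite D₀ M₀ ∧
      (letI := β.toAlgebra; Nonempty (M ≃ₗ[B] B ⊗[D₀] M₀)) ∧
      (Module.Flat A M → Module.Flat C₀ M₀) := by
  classical
  haveI : IsNoetherianRing R₁ := Algebra.FiniteType.isNoetherianRing ℤ R₁
  haveI : Algebra.IsPushout R₁ A B₀ B :=
    Algebra.IsPushout.of_equiv (R := R₁) (R' := A) (S := B₀) (S' := A ⊗[R₁] B₀) e
      (by ext b; exact he b)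
  let eA : M ≃ₗ[A] A ⊗[R₁] M₀₀ :=
    (eM.restrictScalars A).trans (Algebra.IsPushout.cancelBaseChange R₁ A B₀ B M₀₀)
  obtain ⟨T, hT⟩ : ∃ T : Finset A, Module.Flat A M → ∀ C : Subalgebra R₁ A, (↑T : Set A) ⊆ C →
      Module.Flat C (C ⊗[R₁] M₀₀) := by
    by_cases hfl : Module.Flat A M
    · haveI : Module.Flat A (A ⊗[R₁] M₀₀) := Module.Flat.of_linearEquiv eA.symm
      obtain ⟨T, hT⟩ := FD7.core_ft' (A₀ := R₁) B₀ M₀₀ A
      exact ⟨T, fun _ => hT⟩
    · exact ⟨∅, fun h => absurd h hfl⟩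
  obtain ⟨C₀, hC₀⟩ : ∃ C : Subalgebra R₁ A, C = Algebra.adjoin R₁ (↑T : Set A) := ⟨_, rfl⟩
  haveI : Algebra.FiniteType R₁ C₀ := (Subalgebra.fg_iff_finiteType C₀).mp ⟨T, hC₀.symm⟩
  obtain ⟨β, hβ, hβf⟩ := isPushout_of_model' (R₀ := R₁) (C := C₀) e
  letI algβ : Algebra (C₀ ⊗[R₁] B₀) B := β.toAlgebra
  haveI : IsScalarTower B₀ (C₀ ⊗[R₁] B₀) B := IsScalarTower.of_algebraMap_eq (fun b => by
    change algebraMap B₀ B b = β (1 ⊗ₜ b)
    rw [hβf, map_one, he])
  refine ⟨C₀, C₀ ⊗[R₁] B₀, inferInstance, inferInstance, inferInstance, algebraMap C₀ A, β,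
    (C₀ ⊗[R₁] B₀) ⊗[B₀] M₀₀, inferInstance, inferInstance, inferInstance, inferInstance, hβ,
    ?_, ?_, ?_, ?_, ?_⟩
  · exact Algebra.FiniteType.trans (R := ℤ) (S := R₁) (A := C₀) inferInstance inferInstance
  · infer_instance
  · infer_instance
  · exact ⟨eM.trans
      (AlgebraTensorModule.cancelBaseChange B₀ (C₀ ⊗[R₁] B₀) B B M₀₀).symm⟩
  · intro hfl
    haveI := hT hfl C₀ (hC₀ ▸ Algebra.subset_adjoin)
    exact Module.Flat.of_linearEquiv
      (Algebra.IsPushout.cancelBaseChange R₁ C₀ B₀ (C₀ ⊗[R₁] B₀) M₀₀)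

/-- Generic Noetherian approximation for an algebra with presentation `P` having coefficients in a
finite type `ℤ`-algebra `R₁`, and a module presented by a matrix lifting to `R₁[X]`. -/
theorem generic {A B : Type u} [CommRing A] [CommRing B] [Algebra A B] {ι σ : Type} [Finite ι]
    [Finite σ] (P : Algebra.Presentation A B ι σ)
    (R₁ : Type u) [CommRing R₁] [Algebra R₁ A] [Algebra R₁ B] [IsScalarTower R₁ A B]
    [P.HasCoeffs R₁] [Algebra.FiniteType ℤ R₁]
    {m n : ℕ} (g : (Fin m → B) →ₗ[B] (Fin n → B)) (G₁ : Fin m → Fin n → MvPolynomial ι R₁)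
    (hG : ∀ k j, MvPolynomial.aeval P.val (G₁ k j) = g (Pi.single k 1) j)
    (M : Type u) [AddCommGroup M] [Module A M] [Module B M] [IsScalarTower A B M]
    (eM : M ≃ₗ[B] ((Fin n → B) ⧸ LinearMap.range g)) :
    ∃ (C₀ D₀ : Type u) (_ : CommRing C₀) (_ : CommRing D₀) (_ : Algebra C₀ D₀) (α : C₀ →+* A)
      (β : D₀ →+* B) (M₀ : Type u) (_ : AddCommGroup M₀) (_ : Module D₀ M₀) (_ : Module C₀ M₀)
      (_ : IsScalarTower C₀ D₀ M₀),
      IsPushout (CommRingCat.ofHom (algebraMap C₀ D₀)) (CommRingCat.ofHom α) (CommRingCat.ofHom β)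
        (CommRingCat.ofHom (algebraMap A B)) ∧
      Algebra.FiniteType ℤ C₀ ∧ Algebra.FiniteType C₀ D₀ ∧ Module.Finite D₀ M₀ ∧
      (letI := β.toAlgebra; Nonempty (M ≃ₗ[B] B ⊗[D₀] M₀)) ∧
      (Module.Flat A M → Module.Flat C₀ M₀) := by
  classical
  haveI : IsNoetherianRing R₁ := Algebra.FiniteType.isNoetherianRing ℤ R₁
  let e : A ⊗[R₁] P.ModelOfHasCoeffs R₁ ≃ₐ[A] B := P.tensorModelOfHasCoeffsEquiv R₁
  let ψ : P.ModelOfHasCoeffs R₁ →ₐ[R₁] B :=
    (e.toAlgHom.restrictScalars R₁).comp Algebra.TensorProduct.includeRight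
  letI algB₀B : Algebra (P.ModelOfHasCoeffs R₁) B := ψ.toRingHom.toAlgebra
  haveI : IsScalarTower R₁ (P.ModelOfHasCoeffs R₁) B :=
    IsScalarTower.of_algebraMap_eq (fun x => (ψ.commutes x).symm)
  let w : Fin m → Fin n → P.ModelOfHasCoeffs R₁ := fun k j => Ideal.Quotient.mk _ (G₁ k j)
  have hw : ∀ k j, algebraMap (P.ModelOfHasCoeffs R₁) B (w k j) = g (Pi.single k 1) j := by
    intro k j
    rw [← hG]
    change e (1 ⊗ₜ _) = _
    rw [P.tensorModelOfHasCoeffsEquiv_tmul]; simp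
  obtain ⟨eq1⟩ := FPDescent.nonempty_equiv g w hw
  haveI : Module.FinitePresentation (P.ModelOfHasCoeffs R₁)
      ((Fin n → P.ModelOfHasCoeffs R₁) ⧸ LinearMap.range (FPDescent.gR w)) :=
    FPDescent.finitePresentation_coker w
  exact generic2 (R₁ := R₁) (B₀ := P.ModelOfHasCoeffs R₁) e (fun b => rfl)
    ((Fin n → P.ModelOfHasCoeffs R₁) ⧸ LinearMap.range (FPDescent.gR w)) M (eM.trans eq1)

/-- **Noetherian approximation of a finitely presented algebra with a finitely presented module**.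
-/
theorem exists_noeth_model_module {A B : Type u} [CommRing A] [CommRing B] [Algebra A B]
    [Algebra.FinitePresentation A B]
    (M : Type u) [AddCommGroup M] [Module A M] [Module B M] [IsScalarTower A B M]
    [Module.FinitePresentation B M] :
    ∃ (C₀ D₀ : Type u) (_ : CommRing C₀) (_ : CommRing D₀) (_ : Algebra C₀ D₀) (α : C₀ →+* A)
      (β : D₀ →+* B) (M₀ : Type u) (_ : AddCommGroup M₀) (_ : Module D₀ M₀) (_ : Module C₀ M₀)
      (_ : IsScalarTower C₀ D₀ M₀),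
      IsPushout (CommRingCat.ofHom (algebraMap C₀ D₀)) (CommRingCat.ofHom α) (CommRingCat.ofHom β)
        (CommRingCat.ofHom (algebraMap A B)) ∧
      Algebra.FiniteType ℤ C₀ ∧ Algebra.FiniteType C₀ D₀ ∧ Module.Finite D₀ M₀ ∧
      (letI := β.toAlgebra; Nonempty (M ≃ₗ[B] B ⊗[D₀] M₀)) ∧
      (Module.Flat A M → Module.Flat C₀ M₀) := by
  classical
  let P := Algebra.Presentation.ofFinitePresentation A B
  obtain ⟨n, m, f, g, hf, hfg⟩ := Module.FinitePresentation.exists_fin' B M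
  have hker : LinearMap.ker f = LinearMap.range g := LinearMap.exact_iff.mp hfg
  let eM : M ≃ₗ[B] ((Fin n → B) ⧸ LinearMap.range g) :=
    ((Submodule.quotEquivOfEq _ _ hker.symm).trans (f.quotKerEquivOfSurjective hf)).symm
  have hsurj : Function.Surjective (MvPolynomial.aeval (R := A) P.val) := fun b => by
    obtain ⟨x, hx⟩ := P.algebraMap_surjective b
    exact ⟨x, by rw [← hx, Algebra.Generators.algebraMap_apply]⟩
  choose G hG using fun (k : Fin m) (j : Fin n) => hsurj (g (Pi.single k 1) j)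
  obtain ⟨s, hs⟩ : ∃ s : Set A, s = ⋃ (k : Fin m) (j : Fin n), ((G k j).coeffs : Set A) := ⟨_, rfl⟩
  have hsfin : s.Finite := by
    rw [hs]
    exact Set.finite_iUnion fun k => Set.finite_iUnion fun j => Finset.finite_toSet _
  haveI : Algebra.FiniteType P.Core (Algebra.adjoin P.Core s) := .adjoin_of_finite hsfin
  haveI : Algebra.FiniteType ℤ (Algebra.adjoin P.Core s) :=
    Algebra.FiniteType.trans (R := ℤ) (S := P.Core) inferInstance inferInstance
  have hmem : ∀ k j, G k j ∈ Set.range (MvPolynomial.map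
      (algebraMap (Algebra.adjoin P.Core s) A)) := by
    intro k j
    rw [MvPolynomial.mem_range_map_iff_coeffs_subset]
    intro x hx
    have hxs : x ∈ s := by
      rw [hs]
      exact Set.mem_iUnion.mpr ⟨k, Set.mem_iUnion.mpr ⟨j, hx⟩⟩
    exact ⟨⟨x, Algebra.subset_adjoin hxs⟩, rfl⟩
  choose G₁ hG₁ using hmem
  refine generic P (Algebra.adjoin P.Core s) g G₁ (fun k j => ?_) M eM
  rw [← hG k j, ← hG₁ k j, MvPolynomial.aeval_map_algebraMap]

end Groth.Agent.Lead.FD21
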