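import Mathlib
open CategoryTheory Limits

namespace Groth.Agent.Lead.ModDict
universe u

section abstract
variable {C E : Type*} [Category C] [Abelian C] [Category E] [Abelian E] (P : C ⥤ E)
  [P.Additive] [PreservesFiniteColimits P] {F G H : C} (f : F ⟶ G) (g : G ⟶ H)

/-- the map `coker f ⟶ coker (f ≫ g)` induced by `g` -/
noncomputable def cokerMap : cokernel f ⟶ cokernel (f ≫ g) :=
  cokernel.desc f (g ≫ cokernel.π (f ≫ g)) (by rw [← Category.assoc, cokernel.condition])

theorem π_cokerMap : cokernel.π f ≫ cokerMap f g = g ≫ cokernel.π (f ≫ g) :=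
  cokernel.π_desc _ _ _

/-- right exactness of the image of `F ⟶ G ⟶ H` under a right exact functor -/
theorem rightExact_map_iff :
    (∃ w : P.map f ≫ P.map g = 0, (ShortComplex.mk _ _ w).Exact ∧ Epi (P.map g)) ↔
      P.map (f ≫ g) = 0 ∧ IsIso (P.map (cokerMap f g)) := by
  have hC : IsColimit ((CokernelCofork.ofπ (cokernel.π f) (cokernel.condition f)).map P) :=
    CokernelCofork.mapIsColimit _ (cokernelIsCokernel f) P
  have hH : IsColimit ((CokernelCofork.ofπ (cokernel.π (f ≫ g))
      (cokernel.condition (f ≫ g))).map P) :=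
    CokernelCofork.mapIsColimit _ (cokernelIsCokernel (f ≫ g)) P
  have hsq : P.map (cokernel.π f) ≫ P.map (cokerMap f g) =
      P.map g ≫ P.map (cokernel.π (f ≫ g)) := by
    rw [← P.map_comp, ← P.map_comp, π_cokerMap]
  haveI : Epi (P.map (cokernel.π f)) := inferInstance
  constructor
  · rintro ⟨w, hw, hepi⟩
    have h0 : P.map (f ≫ g) = 0 := by rw [P.map_comp, w]
    refine ⟨h0, ?_⟩
    haveI : IsIso (P.map (cokernel.π (f ≫ g))) :=
      CokernelCofork.IsColimit.isIso_π _ hH h0
    have hg : IsColimit (CokernelCofork.ofπ (P.map g) w) :=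
      (ShortComplex.Exact.gIsCokernel (S := ShortComplex.mk _ _ w) hw)
    let θ : P.obj (cokernel f) ≅ P.obj H := IsColimit.coconePointUniqueUpToIso hC hg
    have hθ : P.map (cokernel.π f) ≫ θ.hom = P.map g :=
      IsColimit.comp_coconePointUniqueUpToIso_hom hC hg WalkingParallelPair.one
    have : P.map (cokerMap f g) = θ.hom ≫ P.map (cokernel.π (f ≫ g)) := by
      rw [← cancel_epi (P.map (cokernel.π f)), hsq, ← hθ, Category.assoc]
    rw [this]
    exact IsIso.comp_isIso
  · rintro ⟨h0, hiso⟩
    have w : P.map f ≫ P.map g = 0 := by rw [← P.map_comp, h0]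
    haveI : IsIso (P.map (cokernel.π (f ≫ g))) :=
      CokernelCofork.IsColimit.isIso_π _ hH h0
    let θ : P.obj (cokernel f) ≅ P.obj H :=
      asIso (P.map (cokerMap f g)) ≪≫ (asIso (P.map (cokernel.π (f ≫ g)))).symm
    have hθ : P.map (cokernel.π f) ≫ θ.hom = P.map g := by
      simp only [θ, Iso.trans_hom, asIso_hom, Iso.symm_hom, asIso_inv]
      rw [← Category.assoc, hsq, Category.assoc, IsIso.hom_inv_id, Category.comp_id]
    have hg : IsColimit (CokernelCofork.ofπ (P.map g) w) :=
      IsColimit.ofIsoColimit hC (Cofork.ext θ hθ)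
    refine ⟨w, ShortComplex.exact_of_g_is_cokernel _ hg, ?_⟩
    rw [← hθ]
    infer_instance

end abstract

end Groth.Agent.Lead.ModDict
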