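import Groth.Agent.Lead.ModDict16
import Groth.Agent.Lead.ModDict17
open CategoryTheory Limits AlgebraicGeometry TensorProduct

namespace Groth.Agent.Lead.ModDict
universe u
open Scheme.Modules

section coker
variable {Y : Scheme.{u}} {U : Y.Opens} (hU : IsAffineOpen U) {F G : Y.Modules}
  [F.IsQuasicoherent] [G.IsQuasicoherent] (δ : F ⟶ G)

instance preservesFiniteColimits_resF : PreservesFiniteColimits (resF hU) := by
  haveI : PreservesColimitsOfSize.{0, 0} (resF hU) :=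
    (restrictAdjunction hU.fromSpec).leftAdjoint_preservesColimits
  exact PreservesColimitsOfSize.preservesFiniteColimits _

/-- sections over an affine open of the cokernel of a morphism of quasi-coherent modules -/
noncomputable def secFCokernelIso :
    (secF hU).obj (cokernel δ) ≅ cokernel ((secF hU).map δ) := by
  haveI := Groth.Agent.Helper4.TildeExact.preservesFiniteColimits_tilde Γ(Y, U)
  have e1 : (resF hU).obj (cokernel δ) ≅ cokernel ((resF hU).map δ) :=
    PreservesCokernel.iso (resF hU) δ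
  have e2 : cokernel ((tilde.functor Γ(Y, U)).map ((secF hU).map δ)) ≅
      cokernel ((resF hU).map δ) :=
    cokernel.mapIso _ _ (tildeIso hU F) (tildeIso hU G) (by
      rw [tildeIso_hom, tildeIso_hom]
      exact (Scheme.Modules.fromTildeΓNatTrans.naturality ((resF hU).map δ)))
  have e3 : (tilde.functor Γ(Y, U)).obj (cokernel ((secF hU).map δ)) ≅
      cokernel ((tilde.functor Γ(Y, U)).map ((secF hU).map δ)) :=
    PreservesCokernel.iso (tilde.functor Γ(Y, U)) ((secF hU).map δ)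
  have e4 : (resF hU).obj (cokernel δ) ≅
      (tilde.functor Γ(Y, U)).obj (cokernel ((secF hU).map δ)) :=
    e1 ≪≫ e2.symm ≪≫ e3.symm
  exact (moduleSpecΓFunctor (R := Γ(Y, U))).mapIso e4 ≪≫
    (asIso ((tilde.adjunction (R := Γ(Y, U))).unit.app (cokernel ((secF hU).map δ)))).symm

theorem finite_secF_cokernel
    (hG : Module.Finite Γ(Y, U) ((secF hU).obj G)) :
    Module.Finite Γ(Y, U) ((secF hU).obj (cokernel δ)) := by
  have e := (secFCokernelIso hU δ ≪≫ ModuleCat.cokernelIsoRangeQuotient _).toLinearEquiv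
  haveI : Module.Finite Γ(Y, U) (((secF hU).obj G) ⧸ LinearMap.range ((secF hU).map δ).hom) :=
    inferInstance
  exact Module.Finite.equiv e.symm

theorem fp_secF_cokernel
    (hF : Module.Finite Γ(Y, U) ((secF hU).obj F))
    (hG : Module.FinitePresentation Γ(Y, U) ((secF hU).obj G)) :
    Module.FinitePresentation Γ(Y, U) ((secF hU).obj (cokernel δ)) := by
  have e := (secFCokernelIso hU δ ≪≫ ModuleCat.cokernelIsoRangeQuotient _).toLinearEquiv
  haveI : Module.FinitePresentation Γ(Y, U)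
      (((secF hU).obj G) ⧸ LinearMap.range ((secF hU).map δ).hom) := by
    refine Module.finitePresentation_of_surjective
      (LinearMap.range ((secF hU).map δ).hom).mkQ (Submodule.mkQ_surjective _) ?_
    rw [Submodule.ker_mkQ, LinearMap.range_eq_map]
    exact (Module.Finite.fg_top).map _
  exact Module.FinitePresentation.of_equiv e.symm

end coker

section limit
variable {I : Type u} [SmallCategory I] [IsCofiltered I] (D : I ⥤ Scheme.{u}) (c : Cone D)
  (hc : IsLimit c) [∀ {i j : I} (f : i ⟶ j), IsAffineHom (D.map f)] (i₀ : I)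
  {F G : (D.obj i₀).Modules} [F.IsQuasicoherent] [G.IsQuasicoherent]
  (hfinF : ∀ {U : (D.obj i₀).Opens} (hU : IsAffineOpen U),
    Module.Finite Γ(D.obj i₀, U) ((secF hU).obj F))
  (hfinG : ∀ {U : (D.obj i₀).Opens} (hU : IsAffineOpen U),
    Module.Finite Γ(D.obj i₀, U) ((secF hU).obj G))
  (hfpG : ∀ {U : (D.obj i₀).Opens} (hU : IsAffineOpen U),
    Module.FinitePresentation Γ(D.obj i₀, U) ((secF hU).obj G)) (δ : F ⟶ G)

include hc hfinG in
theorem local_epi_stage' (hδ : Epi ((Scheme.Modules.pullback (c.π.app i₀)).map δ))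
    {U : (D.obj i₀).Opens} (hU : IsAffineOpen U) :
    ∃ j : Over i₀, ∀ (j' : Over i₀) (_ : j' ⟶ j),
      Epi ((resF (hU.preimage (D.map j'.hom))).map
        ((Scheme.Modules.pullback (D.map j'.hom)).map δ)) := by
  haveI := isAffineHom_π_app D c hc i₀
  haveI := hfinG hU
  have h1 : Epi ((resF (hU.preimage (c.π.app i₀))).map
      ((Scheme.Modules.pullback (c.π.app i₀)).map δ)) := inferInstance
  rw [resF_pullback_epi_iff] at h1
  obtain ⟨j, hj⟩ := extendScalars_epi_stage D c hc i₀ hU _ h1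
  refine ⟨j, fun j' g => ?_⟩
  rw [resF_pullback_epi_iff]
  exact hj j' g

include hc hfinG in
theorem epi_stage' [CompactSpace (D.obj i₀)]
    (hδ : Epi ((Scheme.Modules.pullback (c.π.app i₀)).map δ)) :
    ∃ (j : I) (φ : j ⟶ i₀), Epi ((Scheme.Modules.pullback (D.map φ)).map δ) := by
  classical
  have hx : ∀ x : D.obj i₀, ∃ (U : (D.obj i₀).Opens), IsAffineOpen U ∧ x ∈ U := by
    intro x
    obtain ⟨_, ⟨U, hU : IsAffineOpen U, rfl⟩, hxU, -⟩ :=
      (D.obj i₀).isBasis_affineOpens.exists_subset_of_mem_open (Set.mem_univ x) isOpen_univ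
    exact ⟨U, hU, hxU⟩
  choose U hU hxU using hx
  obtain ⟨t, ht⟩ := CompactSpace.elim_nhds_subcover (fun x => (U x : Set (D.obj i₀)))
    (fun x ↦ (U x).2.mem_nhds (hxU x))
  choose j hj using fun x => local_epi_stage' D c hc i₀ hfinG δ hδ (hU x)
  obtain ⟨S, hS⟩ := IsCofiltered.inf_objs_exists (t.image j)
  refine ⟨S.left, S.hom, ?_⟩
  refine epi_of_restrict _ (ι := t) (fun x => Spec Γ(D.obj S.left, D.map S.hom ⁻¹ᵁ U x.1))
    (fun x => ((hU x.1).preimage (D.map S.hom)).fromSpec) ?_ ?_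
  · intro y
    obtain ⟨x, hxt, hyx⟩ := Set.mem_iUnion₂.mp (ht.ge (Set.mem_univ ((D.map S.hom).base y)))
    refine ⟨⟨x, hxt⟩, ?_⟩
    rw [IsAffineOpen.range_fromSpec]
    exact hyx
  · intro x
    exact hj x.1 S (hS (Finset.mem_image_of_mem _ x.2)).some

include hc hfinF hfpG in
theorem local_isIso_stage' {j₁ : I} (φ₁ : j₁ ⟶ i₀)
    (hepi : Epi ((Scheme.Modules.pullback (D.map φ₁)).map δ))
    (hδ : IsIso ((Scheme.Modules.pullback (c.π.app i₀)).map δ))
    {U : (D.obj i₀).Opens} (hU : IsAffineOpen U) :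
    ∃ j : Over j₁, ∀ (j' : Over j₁) (_ : j' ⟶ j),
      IsIso ((resF ((hU.preimage (D.map φ₁)).preimage (D.map j'.hom))).map
        ((Scheme.Modules.pullback (D.map j'.hom)).map
          ((Scheme.Modules.pullback (D.map φ₁)).map δ))) := by
  haveI := isAffineHom_π_app D c hc j₁
  haveI := hfinF hU
  haveI := hfpG hU
  have hV₁ := hU.preimage (D.map φ₁)
  let m₁ := (ModuleCat.extendScalars.{u, u, u} ((D.map φ₁).app U).hom).map ((secF hU).map δ)
  haveI : Module.Finite Γ(D.obj j₁, D.map φ₁ ⁻¹ᵁ U)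
      ((ModuleCat.extendScalars.{u, u, u} ((D.map φ₁).app U).hom).obj ((secF hU).obj F)) :=
    finite_extendScalars _ _
  haveI : Module.FinitePresentation Γ(D.obj j₁, D.map φ₁ ⁻¹ᵁ U)
      ((ModuleCat.extendScalars.{u, u, u} ((D.map φ₁).app U).hom).obj ((secF hU).obj G)) :=
    fp_extendScalars _ _
  have hsurj : Function.Surjective m₁.hom := by
    have h1 : Epi ((resF hV₁).map ((Scheme.Modules.pullback (D.map φ₁)).map δ)) := inferInstance
    rw [resF_pullback_epi_iff (hU := hU)] at h1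
    exact (ModuleCat.epi_iff_surjective _).mp h1
  have h2 : IsIso ((Scheme.Modules.pullback (c.π.app j₁)).map
      ((Scheme.Modules.pullback (D.map φ₁)).map δ)) :=
    (isIso_iff_of_arrowIso (arrowIsoOfNatIso (pullbackπIso D c i₀ φ₁) δ)).mpr hδ
  have h3 : IsIso ((resF (hV₁.preimage (c.π.app j₁))).map
      ((Scheme.Modules.pullback (c.π.app j₁)).map
        ((Scheme.Modules.pullback (D.map φ₁)).map δ))) := inferInstance
  rw [resF_pullback₂_isIso_iff (hU := hU)] at h3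
  obtain ⟨j, hj⟩ := extendScalars_isIso_stage D c hc j₁ hV₁ m₁ hsurj h3
  refine ⟨j, fun j' g => ?_⟩
  rw [resF_pullback₂_isIso_iff (hU := hU)]
  exact hj j' g

include hc hfinF hfpG in
theorem isIso_stage' [CompactSpace (D.obj i₀)]
    (hδ : IsIso ((Scheme.Modules.pullback (c.π.app i₀)).map δ)) :
    ∃ (j : I) (φ : j ⟶ i₀), IsIso ((Scheme.Modules.pullback (D.map φ)).map δ) := by
  classical
  obtain ⟨j₁, φ₁, hepi⟩ := epi_stage' D c hc i₀ (fun hU => haveI := hfpG hU; inferInstance) δ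
    inferInstance
  have hx : ∀ x : D.obj i₀, ∃ (U : (D.obj i₀).Opens), IsAffineOpen U ∧ x ∈ U := by
    intro x
    obtain ⟨_, ⟨U, hU : IsAffineOpen U, rfl⟩, hxU, -⟩ :=
      (D.obj i₀).isBasis_affineOpens.exists_subset_of_mem_open (Set.mem_univ x) isOpen_univ
    exact ⟨U, hU, hxU⟩
  choose U hU hxU using hx
  obtain ⟨t, ht⟩ := CompactSpace.elim_nhds_subcover (fun x => (U x : Set (D.obj i₀)))
    (fun x ↦ (U x).2.mem_nhds (hxU x))
  choose j hj using fun x => local_isIso_stage' D c hc i₀ hfinF hfpG δ φ₁ hepi hδ (hU x)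
  obtain ⟨S, hS⟩ := IsCofiltered.inf_objs_exists (t.image j)
  refine ⟨S.left, S.hom ≫ φ₁, ?_⟩
  have key : IsIso ((Scheme.Modules.pullback (D.map S.hom)).map
      ((Scheme.Modules.pullback (D.map φ₁)).map δ)) := by
    refine isIso_of_restrict _ (ι := t)
      (fun x => Spec Γ(D.obj S.left, D.map S.hom ⁻¹ᵁ (D.map φ₁ ⁻¹ᵁ U x.1)))
      (fun x => (((hU x.1).preimage (D.map φ₁)).preimage (D.map S.hom)).fromSpec) ?_ ?_
    · intro y
      obtain ⟨x, hxt, hyx⟩ := Set.mem_iUnion₂.mp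
        (ht.ge (Set.mem_univ ((D.map φ₁).base ((D.map S.hom).base y))))
      refine ⟨⟨x, hxt⟩, ?_⟩
      rw [IsAffineOpen.range_fromSpec]
      exact hyx
    · intro x
      exact hj x.1 S (hS (Finset.mem_image_of_mem _ x.2)).some
  have Φ : Scheme.Modules.pullback (D.map φ₁) ⋙ Scheme.Modules.pullback (D.map S.hom) ≅
      Scheme.Modules.pullback (D.map (S.hom ≫ φ₁)) :=
    pullbackComp (D.map S.hom) (D.map φ₁) ≪≫ pullbackCongr (D.map_comp S.hom φ₁).symm
  exact (isIso_iff_of_arrowIso (arrowIsoOfNatIso Φ δ)).mp key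

omit [IsCofiltered I] [∀ {i j : I} (f : i ⟶ j), IsAffineHom (D.map f)]
  [F.IsQuasicoherent] [G.IsQuasicoherent] in
theorem isIso_map_of_isIso_map {j j' : I}
    (φ : j ⟶ i₀) (ψ : j' ⟶ j) (h : IsIso ((Scheme.Modules.pullback (D.map φ)).map δ)) :
    IsIso ((Scheme.Modules.pullback (D.map (ψ ≫ φ))).map δ) := by
  have Φ : Scheme.Modules.pullback (D.map φ) ⋙ Scheme.Modules.pullback (D.map ψ) ≅
      Scheme.Modules.pullback (D.map (ψ ≫ φ)) :=
    pullbackComp (D.map ψ) (D.map φ) ≪≫ pullbackCongr (D.map_comp ψ φ).symm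
  rw [← isIso_iff_of_arrowIso (arrowIsoOfNatIso Φ δ)]
  change IsIso ((Scheme.Modules.pullback (D.map ψ)).map
    ((Scheme.Modules.pullback (D.map φ)).map δ))
  infer_instance

end limit

section rightExact
variable {I : Type u} [SmallCategory I] [IsCofiltered I] (D : I ⥤ Scheme.{u}) (c : Cone D)
  (hc : IsLimit c) [∀ {i j : I} (f : i ⟶ j), IsAffineHom (D.map f)] (i₀ : I)
  {F G H : (D.obj i₀).Modules} [F.IsQuasicoherent] [G.IsQuasicoherent] [H.IsQuasicoherent]
  (hF : SheafOfModules.IsFiniteType (R := (D.obj i₀).ringCatSheaf) F)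
  (hG : SheafOfModules.IsFiniteType (R := (D.obj i₀).ringCatSheaf) G)
  (hH : SheafOfModules.IsFinitePresentation (R := (D.obj i₀).ringCatSheaf) H)
  (f₀ : F ⟶ G) (g₀ : G ⟶ H)

include hc hF hG hH in
theorem rightExact_iff_eventually [CompactSpace (D.obj i₀)] :
    (∃ w : (Scheme.Modules.pullback (c.π.app i₀)).map f₀ ≫
        (Scheme.Modules.pullback (c.π.app i₀)).map g₀ = 0,
        (ShortComplex.mk _ _ w).Exact ∧ Epi ((Scheme.Modules.pullback (c.π.app i₀)).map g₀)) ↔
      ∃ (j : I) (φ : j ⟶ i₀) (w : (Scheme.Modules.pullback (D.map φ)).map f₀ ≫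
        (Scheme.Modules.pullback (D.map φ)).map g₀ = 0),
        (ShortComplex.mk _ _ w).Exact ∧ Epi ((Scheme.Modules.pullback (D.map φ)).map g₀) := by
  haveI : (cokernel f₀).IsQuasicoherent :=
    Groth.Agent.Helper4.QcohLimits.isQuasicoherent_cokernel f₀
  haveI : (cokernel (f₀ ≫ g₀)).IsQuasicoherent :=
    Groth.Agent.Helper4.QcohLimits.isQuasicoherent_cokernel (f₀ ≫ g₀)
  have hfin : ∀ {U : (D.obj i₀).Opens} (hU : IsAffineOpen U),
      Module.Finite Γ(D.obj i₀, U) ((secF hU).obj (cokernel f₀)) :=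
    fun hU => finite_secF_cokernel hU f₀ (finite_secF hU G hG)
  have hfp : ∀ {U : (D.obj i₀).Opens} (hU : IsAffineOpen U),
      Module.FinitePresentation Γ(D.obj i₀, U) ((secF hU).obj (cokernel (f₀ ≫ g₀))) :=
    fun hU => fp_secF_cokernel hU (f₀ ≫ g₀) (finite_secF hU F hF) (fp_secF hU H hH)
  rw [rightExact_map_iff]
  constructor
  · rintro ⟨h0, hiso⟩
    have e1 := (map_eq_iff_eventually D c hc i₀ hF (f₀ ≫ g₀) 0).mp (by rw [h0, Functor.map_zero])
    obtain ⟨j₁, φ₁, h₁⟩ := e1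
    rw [Functor.map_zero] at h₁
    obtain ⟨j₂, φ₂, h₂⟩ := isIso_stage' D c hc i₀ (F := cokernel f₀) (G := cokernel (f₀ ≫ g₀))
      hfin hfp (cokerMap f₀ g₀) hiso
    obtain ⟨j, ψ₁, ψ₂, hψ⟩ := IsCofiltered.cospan φ₁ φ₂
    have h₁' := map_eq_zero_of_map_eq_zero D i₀ (f₀ ≫ g₀) φ₁ ψ₁ h₁
    have h₂' := isIso_map_of_isIso_map D i₀ (cokerMap f₀ g₀) φ₂ ψ₂ h₂
    rw [← hψ] at h₂'
    obtain ⟨w, hw⟩ := (rightExact_map_iff (Scheme.Modules.pullback (D.map (ψ₁ ≫ φ₁))) f₀ g₀).mpr
      ⟨h₁', h₂'⟩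
    exact ⟨j, ψ₁ ≫ φ₁, w, hw⟩
  · rintro ⟨j, φ, w, hw⟩
    obtain ⟨h₁, h₂⟩ := (rightExact_map_iff (Scheme.Modules.pullback (D.map φ)) f₀ g₀).mp ⟨w, hw⟩
    refine ⟨?_, ?_⟩
    · have := (map_eq_iff_eventually D c hc i₀ hF (f₀ ≫ g₀) 0).mpr
        ⟨j, φ, by rw [h₁, Functor.map_zero]⟩
      rw [this, Functor.map_zero]
    · rw [← isIso_iff_of_arrowIso (arrowIsoOfNatIso (pullbackπIso D c i₀ φ) (cokerMap f₀ g₀))]
      change IsIso ((Scheme.Modules.pullback (c.π.app j)).map
        ((Scheme.Modules.pullback (D.map φ)).map (cokerMap f₀ g₀)))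
      infer_instance

end rightExact

end Groth.Agent.Lead.ModDict
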