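import Mathlib
import Groth.Agent.Helper1.SV1
import Groth.Agent.Helper1.PF4
import Groth.Agent.Helper1.AffLin
import Groth.Agent.Helper1.TwistExact
import Groth.Agent.Helper1.Dev7
import Groth.Agent.Lead.Thick5
import Groth.Agent.Lead.Thick2
import Groth.Agent.Lead.QcohTensor
import Groth.Agent.Helper4.PullTensor
import Groth.Agent.S0051

/-!
# Serre vanishing glued from closed pieces

`Van L F`: the higher cohomology of `F ⊗ L^n` vanishes for `n ≫ 0`.  If the restrictions of `L` to
closed subschemes `V(I₁), …, V(I_r)` are ample, every coherent module killed by `I₁ ⋯ I_r`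
satisfies `Van L`.
-/

set_option autoImplicit false
set_option linter.unusedSectionVars false
set_option linter.style.haveILetI false

open CategoryTheory Limits AlgebraicGeometry TopologicalSpace Opposite

universe u

namespace Groth.Agent.Lead.AmpleGlue

open Groth.Agent.Helper1.SerreCrit Groth.Agent.Lead.Thick Groth.Agent.Helper4.TensorInv

variable {X : Scheme.{u}}

/-- eventual vanishing of higher cohomology of the twists of `F` by powers of `L` -/
def Van (L F : X.Modules) : Prop :=
  ∃ n₀ : ℕ, ∀ n : ℕ, n₀ ≤ n → ∀ p : ℕ, 0 < p →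
    Subsingleton (Coh.HH X (CohB1.tensorMod F (CohB1.tensorPow L n)) p)

theorem van_of_isZero (L F : X.Modules) (hF : IsZero F) : Van L F := by
  refine ⟨0, fun n _ p _ => ?_⟩
  have h : IsZero ((DCoh.tensorRightMod (CohB1.tensorPow L n)).obj F) :=
    (DCoh.tensorRightMod (CohB1.tensorPow L n)).map_isZero hF
  exact subsingleton_HH_of_isZero _ h p

theorem isQCoh_tensorPow {L : X.Modules} (hL : PicF.IsInvertible L) (n : ℕ) :
    (CohB1.tensorPow L n).IsQuasicoherent :=
  (Groth.Agent.Helper1.SerreFin.isCoh_of_isInvertible _ (isInvertible_tensorPow hL n)).1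

/-- vanishing for pushforwards from a closed subscheme on which `L` is ample -/
theorem van_push (A : Type u) [CommRing A] [IsNoetherianRing A] {Z : Scheme.{u}}
    (g : X ⟶ Spec (CommRingCat.of A)) [IsProper g] (i : Z ⟶ X) [IsClosedImmersion i]
    (L : X.Modules) (hL : PicF.IsInvertible L)
    (hamp : CohB1.IsAmple ((Scheme.Modules.pullback i).obj L))
    (G : Z.Modules) (hG : Coh.IsCoh G) :
    Van L ((Scheme.Modules.pushforward i).obj G) := by
  haveI : IsProper (i ≫ g) := inferInstance
  obtain ⟨n₀, h⟩ := Groth.Agent.Helper1.SV.serre_vanishing A (i ≫ g) hamp G hG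
  refine ⟨n₀, fun n hn p hp => ?_⟩
  have h1 := h n hn p hp
  have e1 : CohB1.tensorMod G (CohB1.tensorPow ((Scheme.Modules.pullback i).obj L) n) ≅
      CohB1.tensorMod G ((Scheme.Modules.pullback i).obj (CohB1.tensorPow L n)) :=
    PicGrp.tensorModIso (Iso.refl G) (Groth.Agent.Helper4.PullTensor.pullPowIso i hL n).symm
  have h2 := subsingleton_HH_of_iso e1 p h1
  letI : X.Over (Spec (CommRingCat.of A)) := ⟨g⟩
  letI : Z.Over (Spec (CommRingCat.of A)) := ⟨i ≫ g⟩
  haveI : G.IsQuasicoherent := hG.1
  haveI : (CohB1.tensorPow L n).IsQuasicoherent := isQCoh_tensorPow hL n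
  haveI : ((Scheme.Modules.pullback i).obj (CohB1.tensorPow L n)).IsQuasicoherent :=
    Groth.Agent.Lead.StalkPull.isQuasicoherent_pullbackObj i _
  haveI : Coh.IsQCoh (CohB1.tensorMod G ((Scheme.Modules.pullback i).obj (CohB1.tensorPow L n))) :=
    Groth.Agent.Lead.QcohTensor.isQuasicoherent_tensorMod _ _
  obtain ⟨e2⟩ := Groth.Agent.Helper1.AffLin.nonempty_HH_linearEquiv i A rfl
    (CohB1.tensorMod G ((Scheme.Modules.pullback i).obj (CohB1.tensorPow L n))) p
  have h3 : Subsingleton (Coh.HH X ((Coh.push i).obj
      (CohB1.tensorMod G ((Scheme.Modules.pullback i).obj (CohB1.tensorPow L n)))) p) :=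
    e2.symm.toEquiv.subsingleton
  exact subsingleton_HH_of_iso
    (Groth.Agent.Helper1.PF.projIso i G (CohB1.tensorPow L n) (isInvertible_tensorPow hL n)).symm p h3

theorem isNoetherian_of_proper (A : Type u) [CommRing A] [IsNoetherianRing A]
    (g : X ⟶ Spec (CommRingCat.of A)) [IsProper g] : AlgebraicGeometry.IsNoetherian X := by
  haveI : AlgebraicGeometry.IsNoetherian (Spec (CommRingCat.of A)) :=
    isNoetherian_Spec.2 (inferInstanceAs (IsNoetherianRing A))
  haveI : IsLocallyNoetherian X := LocallyOfFiniteType.isLocallyNoetherian g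
  haveI : CompactSpace X := QuasiCompact.compactSpace_of_compactSpace g
  exact {}

/-- **the induction**: a coherent module killed by a product of ideals, on each of whose closed
subschemes `L` is ample, has eventually vanishing twisted higher cohomology -/
theorem van_of_killedBy_prod (A : Type u) [CommRing A] [IsNoetherianRing A]
    (g : X ⟶ Spec (CommRingCat.of A)) [IsProper g]
    (L : X.Modules) (hL : PicF.IsInvertible L) :
    ∀ (Is : List X.IdealSheafData),
      (∀ I ∈ Is, CohB1.IsAmple ((Scheme.Modules.pullback I.subschemeι).obj L)) →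
      ∀ F : X.Modules, Coh.IsCoh F → ClSub.KilledByIdeal Is.prod F → Van L F := by
  haveI : AlgebraicGeometry.IsNoetherian X := isNoetherian_of_proper A g
  intro Is
  induction Is with
  | nil =>
    intro _ F hF hk
    haveI : F.IsQuasicoherent := hF.1
    apply van_of_isZero
    apply isZero_of_sections
    intro U hU m
    have h1 := hk ⟨U, hU⟩ 1 (by
      rw [List.prod_nil, Scheme.IdealSheafData.one_eq_top, Scheme.IdealSheafData.ideal_top]
      trivial) m
    rwa [one_smul] at h1
  | cons I Is ih =>
    intro hamp F hF hk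
    haveI : F.IsQuasicoherent := hF.1
    have hpull : Coh.IsCoh ((Scheme.Modules.pullback I.subschemeι).obj F) :=
      Groth.Agent.Helper1.Dev.isCoh_pullback I.subschemeι F hF
    have hQ : Coh.IsCoh ((Scheme.Modules.pushforward I.subschemeι).obj
        ((Scheme.Modules.pullback I.subschemeι).obj F)) :=
      Groth.Agent.Helper1.Dev.isCoh_push I.subschemeι _ hpull
    have hker : Coh.IsCoh (kernel (η I.subschemeι F)) :=
      Groth.Agent.Lead.PerfLib.isCoh_kernel hF hQ _
    have hkk : ClSub.KilledByIdeal Is.prod (kernel (η I.subschemeι F)) := by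
      intro U a ha k'
      suffices key : ∀ k : Γ(kernel (η I.subschemeι F), U.1), a • k = 0 from key k'
      intro k
      have hinj := Groth.Agent.Helper4.AffineDict.app_injective_of_mono
        (kernel.ι (η I.subschemeι F)) U.1
      apply hinj
      rw [map_zero, Scheme.Modules.Hom.app_smul]
      have h1 : (η I.subschemeι F).app U.1 ((kernel.ι (η I.subschemeι F)).app U.1 k) = 0 := by
        have := congrArg (fun φ => (Scheme.Modules.Hom.app φ U.1) k)
          (kernel.condition (η I.subschemeι F))
        exact this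
      have h2 := η_app_ker I.subschemeι F U.2 _ h1
      rw [I.ker_subschemeι_app U] at h2
      refine Submodule.smul_induction_on h2 ?_ ?_
      · intro r hr m _
        rw [← mul_smul]
        apply hk U
        rw [List.prod_cons, Scheme.IdealSheafData.ideal_mul, Pi.mul_apply, mul_comm a r]
        exact Ideal.mul_mem_mul hr ha
      · intro x y hx hy
        rw [smul_add, hx, hy, add_zero]
    obtain ⟨n1, h1⟩ := ih (fun J hJ => hamp J (List.mem_cons_of_mem _ hJ)) _ hker hkk
    obtain ⟨n3, h3⟩ := van_push A g I.subschemeι L hL (hamp I List.mem_cons_self) _ hpull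
    refine ⟨max n1 n3, fun n hn p hp => ?_⟩
    have hS := Groth.Agent.Helper1.Dev.kerSC_shortExact (η I.subschemeι F)
    have hS' := Groth.Agent.Helper1.TwistExact.shortExact_map_tensorRightMod hS
      (CohB1.tensorPow L n) (isInvertible_tensorPow hL n)
    exact subsingleton_HH_middle _ hS' p (h1 n (le_of_max_le_left hn) p hp)
      (h3 n (le_of_max_le_right hn) p hp)

theorem support_le_prod (Is : List X.IdealSheafData) (I : X.IdealSheafData) (hI : I ∈ Is) :
    I.support ≤ Is.prod.support := by
  induction Is with
  | nil => exact absurd hI List.not_mem_nil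
  | cons J Js ih =>
    rw [List.prod_cons, Scheme.IdealSheafData.support_mul]
    rcases List.mem_cons.1 hI with rfl | h
    · exact le_sup_left
    · exact (ih h).trans le_sup_right

/-- **ampleness from closed pieces**: if `L` restricted to each `V(I)`, `I ∈ Is`, is ample and the
product of the `I`'s is nilpotent, then `L` is ample -/
theorem isAmple_of_list (A : Type u) [CommRing A] [IsNoetherianRing A]
    (g : X ⟶ Spec (CommRingCat.of A)) [IsProper g]
    (L : X.Modules) (hL : PicF.IsInvertible L) (Is : List X.IdealSheafData)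
    (hamp : ∀ I ∈ Is, CohB1.IsAmple ((Scheme.Modules.pullback I.subschemeι).obj L))
    (hnil : ∀ F : X.Modules, Coh.IsCoh F → ∃ k : ℕ, ClSub.KilledByIdeal (Is.prod ^ k) F) :
    CohB1.IsAmple L := by
  rw [Groth.Agent.S0051.result A X g L hL]
  intro F hF
  obtain ⟨k, hk⟩ := hnil F hF
  have h := van_of_killedBy_prod A g L hL (List.flatten (List.replicate k Is))
    (fun I hI => by
      rw [List.mem_flatten] at hI
      obtain ⟨l, hl, hIl⟩ := hI
      rw [List.eq_of_mem_replicate hl] at hIl
      exact hamp I hIl) F hF (by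
      rw [List.prod_flatten, List.map_replicate, List.prod_replicate]
      exact hk)
  exact h

end Groth.Agent.Lead.AmpleGlue
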