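import Mathlib
import Groth.Agent.Helper1.FormD
import Groth.Agent.Helper1.Rees2
import Groth.Agent.Helper1.HP1
import Groth.Agent.Helper1.TwistExact
import Groth.Agent.Lead.Ref1B
import Groth.Agent.Lead.Ref1K

/-!
# GExB: "good" endofunctors of `X.Modules` (exact, linear over the base, preserving coherence),
their action on quotients `M/JM`, on coherent formal modules and on completions
-/

set_option autoImplicit false
set_option linter.style.haveILetI false
set_option linter.unusedSectionVars false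

namespace Groth.Agent.Lead.GEx

open CategoryTheory CategoryTheory.Limits AlgebraicGeometry Opposite
open Groth.Agent.Helper1 Groth.Agent.Helper1.Form

universe u

variable {A : Type u} [CommRing A] {X : Scheme.{u}} [X.Over (Spec (CommRingCat.of A))]

variable (A) in
/-- an exact endofunctor of `X.Modules`, compatible with multiplication by elements of the base
ring and preserving coherence -/
structure Good (Φ : X.Modules ⥤ X.Modules) : Prop where
  additive : Φ.Additive
  pfl : PreservesFiniteLimits Φ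
  pfc : PreservesFiniteColimits Φ
  smul : ∀ (M : X.Modules) (a : A), Φ.map (Formal.smulMod A M a) = Formal.smulMod A (Φ.obj M) a
  coh : ∀ M : X.Modules, Coh.IsCoh M → Coh.IsCoh (Φ.obj M)

variable {Φ : X.Modules ⥤ X.Modules}

lemma Good.kills (hΦ : Good A Φ) {J : Ideal A} {M N : X.Modules} {f : M ⟶ N} (h : Kills J f) :
    Kills J (Φ.map f) := fun a ha => by
  haveI := hΦ.additive
  change Formal.smulMod A (Φ.obj M) a ≫ Φ.map f = 0
  rw [← hΦ.smul, ← Φ.map_comp]
  change Φ.map (a • f) = 0
  rw [h a ha, Φ.map_zero]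

lemma Good.killedBy (hΦ : Good A Φ) {J : Ideal A} {M : X.Modules} (h : Formal.KilledBy J M) :
    Formal.KilledBy J (Φ.obj M) := by
  rw [killedBy_iff] at h ⊢
  have := hΦ.kills h
  rwa [CategoryTheory.Functor.map_id] at this

lemma Good.epi (hΦ : Good A Φ) {M N : X.Modules} (f : M ⟶ N) [Epi f] : Epi (Φ.map f) := by
  haveI := hΦ.pfc
  infer_instance

lemma Good.mono (hΦ : Good A Φ) {M N : X.Modules} (f : M ⟶ N) [Mono f] : Mono (Φ.map f) := by
  haveI := hΦ.pfl
  infer_instance

/-- a good functor preserves the quotients `M → M/JM`, `J` finitely generated -/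
theorem Good.isQuot [IsNoetherianRing A] (hΦ : Good A Φ) {J : Ideal A} {M N : X.Modules}
    {p : M ⟶ N} (hp : IsQuot J p) : IsQuot J (Φ.map p) := by
  haveI := hΦ.additive
  haveI := hΦ.pfc
  haveI := hp.epi
  obtain ⟨k, g, hg⟩ := Submodule.fg_iff_exists_fin_generating_family.1 (IsNoetherian.noetherian J)
  have hg' : Ideal.span (Set.range g) = J := hg
  refine ⟨inferInstance, hΦ.kills hp.kills, ?_⟩
  intro Z f hf
  let Mk : Fin k → X.Modules := fun _ => M
  let s : (∐ Mk) ⟶ M := Sigma.desc (fun j : Fin k => Formal.smulMod A M (g j))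
  have hq : IsQuot J (cokernel.π s) := by
    have := Rees.isQuot_cokernel_fin g M
    rwa [hg'] at this
  let e := hq.iso hp
  have he : cokernel.π s ≫ e.hom = p := hq.fac_iso_hom hp
  have hs : s = ∑ j, HHSum.proj Mk j ≫ Formal.smulMod A M (g j) := by
    have h0 : s = (∑ j, HHSum.proj Mk j ≫ Sigma.ι Mk j) ≫ s := by
      rw [HHSum.sum_proj_ι, Category.id_comp]
    rw [h0, Preadditive.sum_comp]
    refine Finset.sum_congr rfl fun j _ => ?_
    rw [Category.assoc]
    congr 1
    exact Sigma.ι_desc _ _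
  have h1 : Φ.map s ≫ f = 0 := by
    rw [hs, Functor.map_sum, Preadditive.sum_comp]
    refine Finset.sum_eq_zero fun j _ => ?_
    rw [Φ.map_comp, Category.assoc, hΦ.smul]
    have : Formal.smulMod A (Φ.obj M) (g j) ≫ f = 0 :=
      hf (g j) (hg' ▸ Ideal.subset_span ⟨j, rfl⟩)
    rw [this, comp_zero]
  have hc : Φ.map (cokernel.π s) ≫ (PreservesCokernel.iso Φ s).hom = cokernel.π (Φ.map s) := by
    rw [← π_comp_cokernelComparison, Category.assoc, ← PreservesCokernel.iso_inv,
      Iso.inv_hom_id, Category.comp_id]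
  refine ⟨Φ.map e.inv ≫ (PreservesCokernel.iso Φ s).hom ≫ cokernel.desc (Φ.map s) f h1, ?_⟩
  rw [← he, Φ.map_comp, Category.assoc, ← Φ.map_comp_assoc e.hom e.inv, Iso.hom_inv_id, Φ.map_id,
    Category.id_comp, ← Category.assoc, hc, cokernel.π_desc]

/-- a good functor preserves coherent formal modules -/
theorem Good.isCohFormal [IsNoetherianRing A] (hΦ : Good A Φ) {I : Ideal A}
    {G : ℕᵒᵖ ⥤ X.Modules} (hG : Formal.IsCohFormal I G) : Formal.IsCohFormal I (G ⋙ Φ) := by
  rw [isCohFormal_iff] at hG ⊢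
  exact ⟨fun n => hΦ.coh _ (hG.1 n), fun n => hΦ.killedBy (hG.2.1 n),
    fun n => hΦ.isQuot (hG.2.2 n)⟩

/-- a good functor commutes with completion -/
theorem Good.exists_completion_iso [IsNoetherianRing A] (hΦ : Good A Φ) (I : Ideal A)
    (M : X.Modules) :
    ∃ e : Formal.completion I (Φ.obj M) ≅ Formal.completion I M ⋙ Φ,
      ∀ n : ℕ, Formal.modPowπ I (n + 1) (Φ.obj M) ≫ e.hom.app (op n) =
        Φ.map (Formal.modPowπ I (n + 1) M) := by
  refine Form.exists_completion_iso (Φ.obj M) (Formal.completion I M ⋙ Φ)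
    (fun n => Φ.map (Formal.modPowπ I (n + 1) M))
    (fun n => hΦ.isQuot (isQuot_modPowπ I (n + 1) M)) ?_
  intro n
  have h := Formal.modPowπ_trans I (n + 1) M
  rw [Functor.comp_map, completion_map_succ, ← Φ.map_comp]
  exact congrArg (fun t => Φ.map t) h

lemma good_id : Good A (𝟭 X.Modules) where
  additive := inferInstance
  pfl := inferInstance
  pfc := inferInstance
  smul _ _ := rfl
  coh _ h := h

lemma Good.comp {Ψ : X.Modules ⥤ X.Modules} (hΦ : Good A Φ) (hΨ : Good A Ψ) :
    Good A (Φ ⋙ Ψ) where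
  additive := by
    haveI := hΦ.additive
    haveI := hΨ.additive
    infer_instance
  pfl := by
    haveI := hΦ.pfl
    haveI := hΨ.pfl
    infer_instance
  pfc := by
    haveI := hΦ.pfc
    haveI := hΨ.pfc
    infer_instance
  smul M a := by
    rw [Functor.comp_map, hΦ.smul, hΨ.smul]
    rfl
  coh M h := hΨ.coh _ (hΦ.coh _ h)

/-- twisting by an invertible module is a good functor -/
theorem good_tensorRightMod [IsLocallyNoetherian X] (B : X.Modules) (hB : PicF.IsInvertible B) :
    Good A (DCoh.tensorRightMod B) where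
  additive := inferInstance
  pfl := TwistExact.preservesFiniteLimits_tensorRightMod B hB
  pfc := TwistExact.preservesFiniteColimits_tensorRightMod B hB
  smul M _ := HP.tensorRightMod_map_smulModΓ M B _
  coh M h := Ref1B.isCoh_tensorMod M B h (Ref1K.isCoh_of_isInvertible B hB)

/-- **untwisting**: if `Φ ⋙ Ψ ≅ 𝟭` with `Ψ` good and the twisted system `G ⋙ Φ` is algebraizable,
then so is `G` -/
theorem exists_of_twist [IsNoetherianRing A] {Ψ : X.Modules ⥤ X.Modules} (hΨ : Good A Ψ)
    (ε : Φ ⋙ Ψ ≅ 𝟭 X.Modules) (I : Ideal A) (G : ℕᵒᵖ ⥤ X.Modules)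
    (h : ∃ M : X.Modules, Coh.IsCoh M ∧ Nonempty (Formal.completion I M ≅ G ⋙ Φ)) :
    ∃ M : X.Modules, Coh.IsCoh M ∧ Nonempty (Formal.completion I M ≅ G) := by
  obtain ⟨M', hM', ⟨e⟩⟩ := h
  obtain ⟨e', -⟩ := hΨ.exists_completion_iso I M'
  refine ⟨Ψ.obj M', hΨ.coh _ hM', ⟨?_⟩⟩
  exact e' ≪≫ Functor.isoWhiskerRight e Ψ ≪≫ Functor.associator G Φ Ψ ≪≫ Functor.isoWhiskerLeft G ε ≪≫
    Functor.rightUnitor G

end Groth.Agent.Lead.GEx
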