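import Mathlib
import Groth.Agent.Helper1.GrSh3

/-!
# GExA: a stable graded sub-object of a finitely generated graded object is finitely generated
-/

set_option autoImplicit false
set_option linter.style.haveILetI false

namespace Groth.Agent.Lead.GEx

open CategoryTheory Limits AlgebraicGeometry Opposite
open Groth.Agent.Helper1 Groth.Agent.Helper1.GrSh Groth.Agent.Helper4.QcohEpi

universe u

variable {X : Scheme.{u}} {r : ℕ}

/-- a levelwise monomorphism of graded objects, compatible with the operators -/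
structure SubGr (𝒲 𝒢 : GrObj X r) where
  ι : ∀ n, 𝒲.G n ⟶ 𝒢.G n
  mono : ∀ n, Mono (ι n)
  comm : ∀ i n, 𝒲.T i n ≫ ι (n + 1) = ι n ≫ 𝒢.T i n

variable {𝒲 𝒢 : GrObj X r}

theorem exists_secGen_of_sub [IsLocallyNoetherian X] (s : SubGr 𝒲 𝒢) (h : IsFG 𝒢)
    {U : X.Opens} (hU : IsAffineOpen U) : ∃ N', ∀ n, N' ≤ n → SecGen 𝒲 U n := by
  haveI : IsNoetherianRing Γ(X, U) := IsLocallyNoetherian.component_noetherian ⟨U, hU⟩
  obtain ⟨N, hN⟩ := h.gen
  have hfin : ∀ n, Module.Finite Γ(X, U) Γ(𝒢.G n, U) := fun n =>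
    Groth.Agent.Helper4.SecDict.finite_sections hU (𝒢.G n) (h.coh n).1 (h.coh n).2
  let TUg : Fin r → ∀ n, Γ(𝒢.G n, U) →ₗ[Γ(X, U)] Γ(𝒢.G (n + 1), U) :=
    fun i n => appLin (𝒢.T i n) U
  have hcomm : GrHB.Comm TUg := by
    intro i j n x
    exact congrArg (fun φ => (Scheme.Modules.Hom.app φ U) x) (𝒢.comm i j n)
  have hgen : GrHB.GenFrom TUg N := fun n hn x =>
    (hN n hn).secGen (h.coh n).1 (h.coh (n + 1)).1 hU x
  let W : ∀ n, Submodule Γ(X, U) Γ(𝒢.G n, U) := fun n => LinearMap.range (appLin (s.ι n) U)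
  have hW : GrHB.Stable TUg W := by
    rintro i n x ⟨y, rfl⟩
    refine ⟨(𝒲.T i n).app U y, ?_⟩
    exact congrArg (fun φ => (Scheme.Modules.Hom.app φ U) y) (s.comm i n)
  obtain ⟨N', hN'⟩ := GrHB.subGenFrom hcomm hfin hgen hW
  refine ⟨N', fun n hn t => ?_⟩
  have hx : (s.ι (n + 1)).app U t ∈ W (n + 1) := ⟨t, rfl⟩
  obtain ⟨y, hy, hxy⟩ := hN' n hn _ hx
  choose s' hs' using hy
  refine ⟨s', ?_⟩
  haveI := s.mono (n + 1)
  apply Groth.Agent.Helper4.AffineDict.app_injective_of_mono (s.ι (n + 1)) U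
  rw [hxy, map_sum]
  refine Finset.sum_congr rfl fun i _ => ?_
  have h2 := congrArg (fun φ => (Scheme.Modules.Hom.app φ U) (s' i)) (s.comm i n)
  change (s.ι (n + 1)).app U ((𝒲.T i n).app U (s' i)) =
    (𝒢.T i n).app U ((s.ι n).app U (s' i)) at h2
  rw [h2]
  have h3 : (s.ι n).app U (s' i) = y i := hs' i
  rw [h3]
  rfl

/-- **a stable graded sub-object of a finitely generated graded object is finitely generated** -/
theorem isFG_of_sub [IsNoetherian X] (s : SubGr 𝒲 𝒢) (h : IsFG 𝒢)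
    (hc : ∀ n, Coh.IsCoh (𝒲.G n)) : IsFG 𝒲 where
  coh := hc
  gen := by
    classical
    have hcov : ∀ x : X, ∃ U : X.Opens, IsAffineOpen U ∧ x ∈ U := fun x => by
      obtain ⟨U, hU, hx⟩ := Groth.Agent.Helper4.QcohLimits.exists_affine_nhd x
      exact ⟨U, hU, hx⟩
    choose U hU hxU using hcov
    choose N' hN' using fun x => exists_secGen_of_sub s h (hU x)
    obtain ⟨t, ht⟩ := isCompact_univ.elim_finite_subcover (fun x => ((U x : X.Opens) : Set X))
      (fun x => (U x).isOpen) (fun x _ => Set.mem_iUnion.2 ⟨x, hxU x⟩)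
    refine ⟨t.sup N', fun n hn => ?_⟩
    apply jointlyEpi_of_secGen
    · exact (hc (n + 1)).1
    · intro x
      obtain ⟨y, hy⟩ := Set.mem_iUnion.1 (ht (Set.mem_univ x))
      obtain ⟨hyt, hxy⟩ := Set.mem_iUnion.1 hy
      exact ⟨U y, hU y, hxy, hN' y n ((Finset.le_sup hyt).trans hn)⟩

end Groth.Agent.Lead.GEx
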