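import Mathlib
import Groth.Agent.Helper1.GrKer
import Groth.Agent.Lead.GExA

/-!
# GExD: the kernel system of a levelwise epimorphism of formal systems, and its graded object
-/

set_option autoImplicit false
set_option linter.style.haveILetI false
set_option linter.unusedSectionVars false

universe u

open CategoryTheory CategoryTheory.Limits AlgebraicGeometry Opposite

namespace Groth.Agent.Lead.GEx

open Groth.Agent.Helper1 Groth.Agent.Helper1.Form Groth.Agent.Helper1.GrSh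
  Groth.Agent.Helper1.Rees Groth.Agent.Helper1.GrKer

/-- in an abelian category: if `ι` is mono and `ι ≫ coker (σ ≫ ι) = 0` then `σ` is epi -/
theorem epi_of_comp_cokernel_eq_zero {C : Type*} [Category C] [Abelian C] {Q' Q F : C}
    (σ : Q' ⟶ Q) (ι : Q ⟶ F) [Mono ι] (h : ι ≫ cokernel.π (σ ≫ ι) = 0) : Epi σ := by
  -- `ι` factors through the image of `σ ≫ ι`
  let ℓ : Q ⟶ Abelian.image (σ ≫ ι) := kernel.lift _ ι h
  have hℓ : ℓ ≫ Abelian.image.ι (σ ≫ ι) = ι := kernel.lift_ι _ _ _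
  have h1 : σ ≫ ℓ = Abelian.factorThruImage (σ ≫ ι) := by
    rw [← cancel_mono (Abelian.image.ι (σ ≫ ι)), Category.assoc, hℓ, Abelian.image.fac]
  haveI : Mono ℓ := mono_of_mono_fac hℓ
  haveI : Epi (σ ≫ ℓ) := by rw [h1]; infer_instance
  haveI : Epi ℓ := epi_of_epi σ ℓ
  haveI : IsIso ℓ := isIso_of_mono_of_epi ℓ
  have h2 : σ = Abelian.factorThruImage (σ ≫ ι) ≫ inv ℓ := by
    rw [← h1, Category.assoc, IsIso.hom_inv_id, Category.comp_id]
  rw [h2]
  infer_instance

variable {A : Type u} [CommRing A] {X : Scheme.{u}} [X.Over (Spec (CommRingCat.of A))]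
variable {I : Ideal A} (F G : ℕᵒᵖ ⥤ X.Modules)
variable (hkF : ∀ n, Formal.KilledBy (I ^ (n + 1)) (F.obj (op n))) (hqF : HasQuotTrans I F)
variable (hkG : ∀ n, Formal.KilledBy (I ^ (n + 1)) (G.obj (op n))) (hqG : HasQuotTrans I G)
variable (π : F ⟶ G)

/-- the components -/
abbrev πn (n : ℕ) : Gn F n ⟶ Gn G n := π.app (op n)

lemma τ_π (n : ℕ) : τ F n ≫ πn F G π n = πn F G π (n + 1) ≫ τ G n :=
  π.naturality _

/-- the kernels -/
noncomputable abbrev Q (n : ℕ) : X.Modules := kernel (πn F G π n)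

/-- the inclusions -/
noncomputable abbrev ιQ (n : ℕ) : Q F G π n ⟶ Gn F n := kernel.ι (πn F G π n)

/-- the transition maps of the kernels -/
noncomputable def σ (n : ℕ) : Q F G π (n + 1) ⟶ Q F G π n :=
  kernel.lift (πn F G π n) (ιQ F G π (n + 1) ≫ τ F n) (by
    rw [Category.assoc, τ_π, ← Category.assoc, kernel.condition, zero_comp])

@[reassoc]
lemma σ_ι (n : ℕ) : σ F G π n ≫ ιQ F G π n = ιQ F G π (n + 1) ≫ τ F n := kernel.lift_ι _ _ _

include hkF hqF in
lemma m_τ (a : I) (n : ℕ) :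
    m F hkF hqF a n ≫ τ F n = Formal.smulMod A (Gn F n) (a : A) := by
  haveI := (hqF n).epi
  rw [← cancel_epi (τ F n), τ_m_assoc, smulMod_comp]

include hkF hqF hkG hqG in
lemma m_π (a : I) (n : ℕ) :
    m F hkF hqF a n ≫ πn F G π (n + 1) = πn F G π n ≫ m G hkG hqG a n := by
  haveI := (hqF n).epi
  rw [← cancel_epi (τ F n), τ_m_assoc, ← Category.assoc, τ_π, Category.assoc, τ_m, smulMod_comp]

/-- multiplication by `a ∈ I` on the kernels -/
noncomputable def mQ (a : I) (n : ℕ) : Q F G π n ⟶ Q F G π (n + 1) :=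
  kernel.lift (πn F G π (n + 1)) (ιQ F G π n ≫ m F hkF hqF a n) (by
    rw [Category.assoc, m_π F G hkF hqF hkG hqG π, ← Category.assoc, kernel.condition, zero_comp])

@[reassoc]
lemma mQ_ι (a : I) (n : ℕ) :
    mQ F G hkF hqF hkG hqG π a n ≫ ιQ F G π (n + 1) = ιQ F G π n ≫ m F hkF hqF a n :=
  kernel.lift_ι _ _ _

@[reassoc]
lemma σ_mQ (a : I) (n : ℕ) :
    σ F G π n ≫ mQ F G hkF hqF hkG hqG π a n = Formal.smulMod A (Q F G π (n + 1)) (a : A) := by
  rw [← cancel_mono (ιQ F G π (n + 1)), Category.assoc, mQ_ι, σ_ι_assoc, τ_m, smulMod_comp]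

@[reassoc]
lemma mQ_σ (a : I) (n : ℕ) :
    mQ F G hkF hqF hkG hqG π a (n + 1) ≫ σ F G π (n + 1) =
      σ F G π n ≫ mQ F G hkF hqF hkG hqG π a n := by
  rw [σ_mQ, ← cancel_mono (ιQ F G π (n + 1)), Category.assoc, σ_ι, mQ_ι_assoc,
    m_τ F hkF hqF, smulMod_comp]

lemma mQ_comm (a b : I) (n : ℕ) :
    mQ F G hkF hqF hkG hqG π b n ≫ mQ F G hkF hqF hkG hqG π a (n + 1) =
      mQ F G hkF hqF hkG hqG π a n ≫ mQ F G hkF hqF hkG hqG π b (n + 1) := by
  rw [← cancel_mono (ιQ F G π (n + 1 + 1)), Category.assoc, Category.assoc, mQ_ι, mQ_ι,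
    mQ_ι_assoc, mQ_ι_assoc, m_comm]

/-- the graded pieces `ker (Q_(n+1) → Q_n)` -/
noncomputable abbrev K (n : ℕ) : X.Modules := kernel (σ F G π n)

/-- their inclusions -/
noncomputable abbrev κ (n : ℕ) : K F G π n ⟶ Q F G π (n + 1) := kernel.ι (σ F G π n)

/-- the operators -/
noncomputable def TK (a : I) (n : ℕ) : K F G π n ⟶ K F G π (n + 1) :=
  kernel.lift (σ F G π (n + 1)) (κ F G π n ≫ mQ F G hkF hqF hkG hqG π a (n + 1)) (by
    rw [Category.assoc, mQ_σ, ← Category.assoc, kernel.condition, zero_comp])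

@[reassoc]
lemma TK_κ (a : I) (n : ℕ) :
    TK F G hkF hqF hkG hqG π a n ≫ κ F G π (n + 1) =
      κ F G π n ≫ mQ F G hkF hqF hkG hqG π a (n + 1) := kernel.lift_ι _ _ _

/-- the graded object of the kernel system -/
noncomputable def kerGr {r : ℕ} (a : Fin r → I) : GrObj X r where
  G := K F G π
  T i n := TK F G hkF hqF hkG hqG π (a i) n
  comm i j n := by
    rw [← cancel_mono (κ F G π (n + 1 + 1)), Category.assoc, Category.assoc, TK_κ, TK_κ,
      TK_κ_assoc, TK_κ_assoc, mQ_comm]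

include hqF in
lemma κ_ι_modPowπ (n : ℕ) :
    (κ F G π n ≫ ιQ F G π (n + 1)) ≫ Formal.modPowπ I (n + 1) (Gn F (n + 1)) = 0 := by
  obtain ⟨e, he⟩ := modPowπ_eq (I := I) F hqF n
  rw [← he, Category.assoc, ← Category.assoc (ιQ F G π (n + 1)), ← σ_ι, Category.assoc,
    ← Category.assoc, kernel.condition, zero_comp]

/-- the embedding into the graded object of `F` -/
noncomputable def jK (n : ℕ) : K F G π n ⟶ R (I := I) F n :=
  liftR I (Gn F (n + 1)) (n + 1) (κ F G π n ≫ ιQ F G π (n + 1)) (κ_ι_modPowπ F G hqF π n)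

@[reassoc]
lemma jK_ι (n : ℕ) :
    jK F G hqF π n ≫ Rι I (Gn F (n + 1)) (n + 1) = κ F G π n ≫ ιQ F G π (n + 1) :=
  liftR_ι _ _ _ _ _

instance mono_jK (n : ℕ) : Mono (jK F G hqF π n) :=
  mono_of_mono_fac (jK_ι F G hqF π n)

/-- the kernel graded object as a graded sub-object of the graded object of `F` -/
noncomputable def subGr {r : ℕ} (a : Fin r → I) :
    SubGr (kerGr F G hkF hqF hkG hqG π a) (grObj F hkF hqF a) where
  ι n := jK F G hqF π n
  mono n := mono_jK F G hqF π n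
  comm i n := by
    change TK F G hkF hqF hkG hqG π (a i) n ≫ jK F G hqF π (n + 1) =
      jK F G hqF π n ≫ T F hkF hqF (a i) n
    rw [← cancel_mono (Rι I (Gn F (n + 1 + 1)) (n + 1 + 1)), Category.assoc, Category.assoc,
      jK_ι, T_ι, TK_κ_assoc, jK_ι_assoc, mQ_ι]

/-- **the kernel graded object is finitely generated** -/
theorem isFG_kerGr [IsNoetherianRing A] [IsNoetherian X]
    (hcF : ∀ n, Coh.IsCoh (F.obj (op n))) (hcG : ∀ n, Coh.IsCoh (G.obj (op n)))
    {r : ℕ} (a : Fin r → I) (ha : Ideal.span (Set.range fun i => (a i : A)) = I) :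
    IsFG (kerGr F G hkF hqF hkG hqG π a) := by
  have hQ : ∀ n, Coh.IsCoh (Q F G π n) := fun n =>
    Groth.Agent.Lead.PerfLib.isCoh_kernel (hcF n) (hcG n) _
  refine isFG_of_sub (subGr F G hkF hqF hkG hqG π a) (isFG_grObj F hkF hqF hcF a ha) ?_
  intro n
  exact Groth.Agent.Lead.PerfLib.isCoh_kernel (hQ (n + 1)) (hQ n) _

include hkF hqF hqG in
/-- the transition maps of the kernel system are epimorphisms -/
theorem epi_σ (hπ : ∀ n, Epi (π.app (op n))) (n : ℕ) : Epi (σ F G π n) := by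
  haveI := hπ (n + 1)
  haveI := (hqF n).epi
  apply epi_of_comp_cokernel_eq_zero (σ F G π n) (ιQ F G π n)
  set c := cokernel.π (σ F G π n ≫ ιQ F G π n) with hc
  -- `τ ≫ c` kills the kernel of `π_(n+1)`
  have h1 : kernel.ι (πn F G π (n + 1)) ≫ τ F n ≫ c = 0 := by
    rw [← Category.assoc]
    have : kernel.ι (πn F G π (n + 1)) ≫ τ F n = σ F G π n ≫ ιQ F G π n := (σ_ι F G π n).symm
    rw [this, hc, cokernel.condition]
  let h := Abelian.epiDesc (πn F G π (n + 1)) (τ F n ≫ c) h1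
  have hh : πn F G π (n + 1) ≫ h = τ F n ≫ c := Abelian.comp_epiDesc _ _ _
  -- the target of `c` is killed by `I^(n+1)`
  have hD : Formal.KilledBy (I ^ (n + 1)) (cokernel (σ F G π n ≫ ιQ F G π n)) :=
    killedBy_of_epi c (hkF n)
  have hk : Kills (I ^ (n + 1)) h := kills_of_killedBy_right hD h
  let h' := (hqG n).desc h hk
  have hh' : τ G n ≫ h' = h := (hqG n).fac_desc _ _
  have h2 : πn F G π n ≫ h' = c := by
    rw [← cancel_epi (τ F n), ← Category.assoc, τ_π, Category.assoc, hh', hh]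
  rw [← h2, ← Category.assoc, kernel.condition, zero_comp]

end Groth.Agent.Lead.GEx
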