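import Mathlib
import Groth.Agent.Lead.GExB
import Groth.Agent.Lead.GExD
import Groth.Agent.Helper1.GamEx1
import Groth.Agent.Helper1.KzLin2
import Groth.Agent.Helper1.SerreCritE
import Groth.Agent.Helper1.HomCompl4
import Groth.Agent.Helper1.FormH
import Groth.Agent.S0002
import Groth.Agent.Lead.HomShH

/-!
# GExE: presentations of coherent formal modules and algebraization from a presentation
-/

set_option autoImplicit false
set_option linter.style.haveILetI false
set_option linter.unusedSectionVars false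

universe u

open CategoryTheory CategoryTheory.Limits AlgebraicGeometry Opposite

namespace Groth.Agent.Lead.GEx

open Groth.Agent.Helper1 Groth.Agent.Helper1.Form Groth.Agent.Helper1.GrSh
  Groth.Agent.Helper1.Rees Groth.Agent.Helper1.GrKer Groth.Agent.Lead.LocLift

variable {A : Type u} [CommRing A] {X : Scheme.{u}} [X.Over (Spec (CommRingCat.of A))]

/-- nilpotent Nakayama: a module killed by a power of `J` with `C/JC = 0` is zero -/
theorem isZero_of_quot_zero {J : Ideal A} (k : ℕ) {C : X.Modules}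
    (hk : Formal.KilledBy (J ^ k) C)
    (h : ∀ (Z : X.Modules) (f : C ⟶ Z), Kills J f → f = 0) : IsZero C := by
  induction k with
  | zero =>
    have h1 := hk 1 (by rw [pow_zero, Ideal.one_eq_top]; trivial)
    rw [smulMod_one] at h1
    exact (IsZero.iff_id_eq_zero C).2 h1
  | succ k ih =>
    apply ih
    intro b hb
    apply h
    intro a ha
    rw [← smulMod_comp_eq_smul, ← smulMod_mul]
    exact hk _ (by rw [pow_succ']; exact Ideal.mul_mem_mul ha hb)

/-- Nakayama for epimorphisms -/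
theorem epi_of_epi_comp_isQuot {J : Ideal A} {W E E' : X.Modules} (p : W ⟶ E) {t : E ⟶ E'}
    (ht : IsQuot J t) (k : ℕ) (hk : Formal.KilledBy (J ^ k) E) (h : Epi (p ≫ t)) : Epi p := by
  have hz : IsZero (cokernel p) := by
    refine isZero_of_quot_zero k (killedBy_of_epi (cokernel.π p) hk) ?_
    intro Z f hf
    obtain ⟨g, hg⟩ := ht.fac (cokernel.π p ≫ f) (hf.comp_left _)
    have h1 : (p ≫ t) ≫ g = 0 := by
      rw [Category.assoc, hg, cokernel.condition_assoc, zero_comp]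
    have h2 : g = 0 := by rw [← cancel_epi (p ≫ t), h1, comp_zero]
    rw [h2, comp_zero] at hg
    rw [← cancel_epi (cokernel.π p), ← hg, comp_zero]
  exact Preadditive.epi_of_isZero_cokernel p hz

variable (X) in
/-- the free module of rank `b` -/
noncomputable abbrev Fr (b : ℕ) : X.Modules := ∐ fun _ : Fin b => Coh.structureModule X

lemma isCoh_Fr (b : ℕ) : Coh.IsCoh (Fr X b) :=
  SerreFin.isCoh_sigma_fin _ (fun _ => Groth.Agent.Lead.HomShH.isCoh_unit X)

/-- lifting maps out of a free module along an epimorphism whose kernel has no `H¹` -/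
theorem exists_lift_free (A : Type u) [CommRing A] {X : Scheme.{u}}
    [X.Over (Spec (CommRingCat.of A))] {E F : X.Modules} (g : E ⟶ F) [Epi g]
    (hK : Subsingleton (Coh.HH X (kernel g) 1)) {b : ℕ} (p : Fr X b ⟶ F) :
    ∃ p' : Fr X b ⟶ E, p' ≫ g = p := by
  have hs := GamEx.surjective_app_top_of_epi A g hK
  choose t ht using fun j : Fin b =>
    hs ((Sigma.ι (fun _ : Fin b => Coh.structureModule X) j ≫ p).app ⊤ (1 : Γ(X, ⊤)))
  refine ⟨Sigma.desc fun j => homOfTop E (t j), ?_⟩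
  apply Sigma.hom_ext
  intro j
  rw [Sigma.ι_desc_assoc, KzLin.homOfTop_comp, ht]
  apply hom_unit_ext
  rw [homOfTop_app_one]

/-- a globally generated coherent module on a proper scheme is a quotient of a free module of
finite rank -/
theorem exists_epi_free (A : Type u) [CommRing A] {X : Scheme.{u}}
    [X.Over (Spec (CommRingCat.of A))] [IsNoetherianRing A]
    [IsProper (X ↘ Spec (CommRingCat.of A))]
    (M : X.Modules) (hM : Coh.IsCoh M) (hgg : Curv2.IsGloballyGenerated M) :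
    ∃ (b : ℕ) (p : Fr X b ⟶ M), Epi p := by
  haveI : Module.Finite A (Coh.HH X M 0) := Groth.Agent.S0002.result A X M hM 0
  obtain ⟨b, σ, hspan⟩ := KzLin.exists_span_of_finite A M
  exact ⟨b, KzLin.secMap M σ, KzLin.epi_secMap M hgg σ hspan⟩

variable {Φ : X.Modules ⥤ X.Modules}

/-- a good functor sends the cokernel of `ker f → M` to a cokernel -/
theorem Good.exists_desc (hΦ : Good A Φ) {M N : X.Modules} (f : M ⟶ N) [Epi f] {Z : X.Modules}
    (g : Φ.obj M ⟶ Z) (hg : Φ.map (kernel.ι f) ≫ g = 0) :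
    ∃ h : Φ.obj N ⟶ Z, Φ.map f ≫ h = g := by
  haveI := hΦ.additive
  haveI := hΦ.pfl
  haveI : Epi (Φ.map f) := hΦ.epi f
  have h2 : kernel.ι (Φ.map f) = (PreservesKernel.iso Φ f).inv ≫ Φ.map (kernel.ι f) := by
    rw [Iso.eq_inv_comp, PreservesKernel.iso_hom, kernelComparison_comp_ι]
  have h1 : kernel.ι (Φ.map f) ≫ g = 0 := by
    rw [h2, Category.assoc, hg, comp_zero]
  exact ⟨Abelian.epiDesc (Φ.map f) g h1, Abelian.comp_epiDesc _ _ _⟩

/-- a good functor preserves jointly epimorphic finite families -/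
theorem Good.jointly (hΦ : Good A Φ) {r : ℕ} {M N : X.Modules} (T : Fin r → (M ⟶ N))
    (h : ∀ ⦃Z : X.Modules⦄ (f : N ⟶ Z), (∀ i, T i ≫ f = 0) → f = 0) {Z : X.Modules}
    (f : Φ.obj N ⟶ Z) (hf : ∀ i, Φ.map (T i) ≫ f = 0) : f = 0 := by
  haveI := hΦ.additive
  let Mk : Fin r → X.Modules := fun _ => M
  let s : (∐ Mk) ⟶ N := Sigma.desc T
  haveI : Epi s := by
    apply Preadditive.epi_of_cancel_zero
    intro Z g hg
    apply h
    intro i
    have h1 := congrArg (fun t => Sigma.ι Mk i ≫ t) hg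
    simpa [s] using h1
  have hs : s = ∑ j, HHSum.proj Mk j ≫ T j := by
    have h0 : s = (∑ j, HHSum.proj Mk j ≫ Sigma.ι Mk j) ≫ s := by
      rw [HHSum.sum_proj_ι, Category.id_comp]
    rw [h0, Preadditive.sum_comp]
    refine Finset.sum_congr rfl fun j _ => ?_
    rw [Category.assoc]
    congr 1
    exact Sigma.ι_desc _ _
  haveI := hΦ.epi s
  rw [← cancel_epi (Φ.map s), comp_zero, hs, Functor.map_sum, Preadditive.sum_comp]
  refine Finset.sum_eq_zero fun j _ => ?_
  rw [Φ.map_comp, Category.assoc, hf, comp_zero]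

/-- a compatible family of maps `M ⟶ G_n` into a system whose `n`-th term is killed by `I^(n+1)`
induces a map from the completion of `M` -/
theorem exists_completion_hom {I : Ideal A} (M : X.Modules) (G : ℕᵒᵖ ⥤ X.Modules)
    (hk : ∀ n, Formal.KilledBy (I ^ (n + 1)) (G.obj (op n)))
    (ρ : ∀ n : ℕ, M ⟶ G.obj (op n))
    (hc : ∀ n, ρ (n + 1) ≫ G.map (homOfLE (Nat.le_add_right n 1)).op = ρ n) :
    ∃ π : Formal.completion I M ⟶ G,
      ∀ n : ℕ, Formal.modPowπ I (n + 1) M ≫ π.app (op n) = ρ n := by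
  let θ : ∀ n : ℕ, Formal.modPow I (n + 1) M ⟶ G.obj (op n) := fun n =>
    (isQuot_modPowπ I (n + 1) M).desc (ρ n) (kills_of_killedBy_right (hk n) _)
  have hθ : ∀ n, Formal.modPowπ I (n + 1) M ≫ θ n = ρ n := fun n => IsQuot.fac_desc _ _ _
  have key : ∀ n, Formal.modPowTrans I (n + 1) M ≫ θ n =
      θ (n + 1) ≫ G.map (homOfLE (Nat.le_add_right n 1)).op := by
    intro n
    apply (isQuot_modPowπ I (n + 1 + 1) M).hom_ext
    rw [← Category.assoc, Formal.modPowπ_trans, hθ n, ← Category.assoc, hθ (n + 1)]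
    exact (hc n).symm
  let t : Formal.completion I M ⟶ G := NatTrans.ofOpSequence (fun n => θ n) (by
    intro n
    rw [completion_map_succ]
    exact key n)
  exact ⟨t, fun n => hθ n⟩

/-- **presentation of a twisted coherent formal module by the completion of a free module** -/
theorem exists_presentation [IsNoetherianRing A] [IsProper (X ↘ Spec (CommRingCat.of A))]
    {I : Ideal A} (G : ℕᵒᵖ ⥤ X.Modules) (hG : Formal.IsCohFormal I G) (hΦ : Good A Φ)
    (hgg : Curv2.IsGloballyGenerated (Φ.obj (G.obj (op 0))))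
    (hH : ∀ n, Subsingleton (Coh.HH X (Φ.obj (kernel (τ G n))) 1)) :
    ∃ (b : ℕ) (π : Formal.completion I (Fr X b) ⟶ G ⋙ Φ), ∀ n : ℕ, Epi (π.app (op n)) := by
  obtain ⟨hc, hk, hq⟩ := (isCohFormal_iff G).1 hG
  haveI := hΦ.additive
  haveI := hΦ.pfl
  obtain ⟨b, p0, hp0⟩ := exists_epi_free A _ (hΦ.coh _ (hc 0)) hgg
  have step : ∀ (n : ℕ) (p : Fr X b ⟶ Φ.obj (Gn G n)),
      ∃ p' : Fr X b ⟶ Φ.obj (Gn G (n + 1)), p' ≫ Φ.map (τ G n) = p := by
    intro n p
    haveI := (hq n).epi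
    haveI : Epi (Φ.map (τ G n)) := hΦ.epi _
    have hK : Subsingleton (Coh.HH X (kernel (Φ.map (τ G n))) 1) :=
      SerreCrit.subsingleton_HH_of_iso (PreservesKernel.iso Φ (τ G n)) 1 (hH n)
    exact exists_lift_free A (Φ.map (τ G n)) hK p
  let P : ∀ n, Fr X b ⟶ Φ.obj (Gn G n) := fun n =>
    Nat.rec (motive := fun n => Fr X b ⟶ Φ.obj (Gn G n)) p0 (fun n p => (step n p).choose) n
  have hP : ∀ n, P (n + 1) ≫ Φ.map (τ G n) = P n := fun n => (step n (P n)).choose_spec
  have hPe : ∀ n, Epi (P n) := by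
    intro n
    induction n with
    | zero => exact hp0
    | succ n ih =>
      refine epi_of_epi_comp_isQuot (P (n + 1)) (hΦ.isQuot (hq n)) 2 ?_ ?_
      · refine killedBy_mono ?_ (hΦ.killedBy (hk (n + 1)))
        rw [← pow_mul]
        exact Ideal.pow_le_pow_right (by omega)
      · rw [hP n]; exact ih
  have hkΦ : ∀ n, Formal.KilledBy (I ^ (n + 1)) ((G ⋙ Φ).obj (op n)) := fun n =>
    hΦ.killedBy (hk n)
  obtain ⟨π, hπ⟩ := exists_completion_hom (I := I) (Fr X b) (G ⋙ Φ) hkΦ P (fun n => hP n)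
  refine ⟨b, π, fun n => ?_⟩
  haveI := hPe n
  have : Epi (Formal.modPowπ I (n + 1) (Fr X b) ≫ π.app (op n)) := by rw [hπ n]; infer_instance
  exact epi_of_epi (Formal.modPowπ I (n + 1) (Fr X b)) (π.app (op n))

section Kernel

variable {I : Ideal A} (F G : ℕᵒᵖ ⥤ X.Modules) (π : F ⟶ G)

/-- the kernel system as a functor -/
noncomputable def Qf : ℕᵒᵖ ⥤ X.Modules := Functor.ofOpSequence (X := Q F G π) (σ F G π)

lemma Qf_map_succ (n : ℕ) : (Qf F G π).map (homOfLE (Nat.le_succ n)).op = σ F G π n :=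
  Functor.ofOpSequence_map_homOfLE_succ _ n

/-- the inclusion of the kernel system -/
noncomputable def ιQf : Qf F G π ⟶ F :=
  NatTrans.ofOpSequence (fun n => ιQ F G π n) (fun n => by
    rw [show (Qf F G π).map (homOfLE (Nat.le_add_right n 1)).op = σ F G π n from
      Qf_map_succ F G π n]
    exact σ_ι F G π n)

/-- the transition maps of the kernel system -/
noncomputable def trQ {n m : ℕ} (h : n ≤ m) : Q F G π m ⟶ Q F G π n := ARSys.tr (Qf F G π) h

lemma trQ_self (n : ℕ) : trQ F G π (le_refl n) = 𝟙 _ := tr_self (Qf F G π) n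

lemma σ_trQ {n m : ℕ} (h : n ≤ m) :
    σ F G π m ≫ trQ F G π h = trQ F G π (h.trans (Nat.le_succ m)) := by
  have h1 := tr_succ (Qf F G π) h
  rw [Qf_map_succ] at h1
  exact h1.symm

lemma trQ_σ {n m : ℕ} (h : n + 1 ≤ m) :
    trQ F G π h ≫ σ F G π n = trQ F G π ((Nat.le_succ n).trans h) := by
  have h1 := tr_comp (Qf F G π) (Nat.le_succ n) h
  rw [show ARSys.tr (Qf F G π) (Nat.le_succ n) = σ F G π n from Qf_map_succ F G π n] at h1
  exact h1

lemma trQ_ι {n m : ℕ} (h : n ≤ m) :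
    trQ F G π h ≫ ιQ F G π n = ιQ F G π m ≫ ARSys.tr F h :=
  (ιQf F G π).naturality (homOfLE h).op

variable (hkF : ∀ n, Formal.KilledBy (I ^ (n + 1)) (F.obj (op n))) (hqF : HasQuotTrans I F)
variable (hkG : ∀ n, Formal.KilledBy (I ^ (n + 1)) (G.obj (op n))) (hqG : HasQuotTrans I G)

include hkF hqF hqG in
lemma epi_trQ (hπ : ∀ n, Epi (π.app (op n))) {n m : ℕ} (h : n ≤ m) : Epi (trQ F G π h) := by
  induction m, h using Nat.le_induction with
  | base =>
    rw [trQ_self]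
    infer_instance
  | succ m h ih =>
    have h1 := σ_trQ F G π h
    rw [show trQ F G π (Nat.le_succ_of_le h) = _ from h1.symm]
    haveI := epi_σ F G hkF hqF hqG π hπ m
    exact epi_comp _ _

/-- the lifting step preserves epimorphisms in degrees where the graded kernel is generated -/
theorem epi_lift_step (hΦ : Good A Φ) (hπ : ∀ n, Epi (π.app (op n))) {r : ℕ} (a : Fin r → I)
    (m : ℕ) (hm : JointlyEpi (kerGr F G hkF hqF hkG hqG π a) m) {W : X.Modules}
    (u : W ⟶ Φ.obj (Q F G π (m + 1))) (hu : Epi u) (u' : W ⟶ Φ.obj (Q F G π (m + 1 + 1)))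
    (h : u' ≫ Φ.map (σ F G π (m + 1)) = u) : Epi u' := by
  haveI := hΦ.additive
  haveI := epi_σ F G hkF hqF hqG π hπ (m + 1)
  have hz : ∀ i, Φ.map (mQ F G hkF hqF hkG hqG π (a i) (m + 1)) ≫ cokernel.π u' = 0 := by
    intro i
    rw [← cancel_epi u, comp_zero, ← h, Category.assoc, ← Φ.map_comp_assoc, σ_mQ, hΦ.smul,
      ← Category.assoc, ← smulMod_comp, Category.assoc, cokernel.condition, comp_zero]
  have hκ : Φ.map (κ F G π (m + 1)) ≫ cokernel.π u' = 0 := by
    refine hΦ.jointly (fun i => TK F G hkF hqF hkG hqG π (a i) m) (fun Z f hf => hm f hf) _ ?_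
    intro i
    show Φ.map (TK F G hkF hqF hkG hqG π (a i) m) ≫ Φ.map (κ F G π (m + 1)) ≫ cokernel.π u' = 0
    rw [← Φ.map_comp_assoc, TK_κ, Φ.map_comp, Category.assoc, hz, comp_zero]
  obtain ⟨g, hg⟩ := hΦ.exists_desc (σ F G π (m + 1)) (cokernel.π u') hκ
  have hg0 : g = 0 := by
    rw [← cancel_epi u, comp_zero, ← h, Category.assoc, hg, cokernel.condition]
  rw [hg0, comp_zero] at hg
  exact Preadditive.epi_of_cokernel_zero hg.symm

/-- **algebraization from a presentation**: if `π : F ⟶ G` is a levelwise epimorphism from the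
completion `F` of a coherent module `P`, and a good functor `Φ` makes the kernel system globally
generated with `H¹`-acyclic graded pieces, then `G ⋙ Φ` is algebraizable -/
theorem exists_of_presentation [IsNoetherianRing A] [IsAdicComplete I A]
    [IsProper (X ↘ Spec (CommRingCat.of A))] (hΦ : Good A Φ)
    (hπ : ∀ n, Epi (π.app (op n)))
    (P : X.Modules) (hP : Coh.IsCoh P) (q : ∀ n, P ⟶ F.obj (op n))
    (hq : ∀ n, IsQuot (I ^ (n + 1)) (q n)) (hqc : ∀ n, q (n + 1) ≫ τ F n = q n)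
    {r : ℕ} (a : Fin r → I) (N : ℕ)
    (hN : ∀ n, N ≤ n → JointlyEpi (kerGr F G hkF hqF hkG hqG π a) n)
    (hcQ : Coh.IsCoh (Q F G π (N + 1)))
    (hgg : Curv2.IsGloballyGenerated (Φ.obj (Q F G π (N + 1))))
    (hH : ∀ n, Subsingleton (Coh.HH X (Φ.obj (K F G π n)) 1)) :
    ∃ M : X.Modules, Coh.IsCoh M ∧ Nonempty (Formal.completion I M ≅ G ⋙ Φ) := by
  haveI := hΦ.additive
  haveI := hΦ.pfl
  obtain ⟨b, t, ht⟩ := exists_epi_free A _ (hΦ.coh _ hcQ) hgg
  -- the lifting step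
  have step : ∀ (n : ℕ) (p : Fr X b ⟶ Φ.obj (Q F G π (n + 1))),
      ∃ p' : Fr X b ⟶ Φ.obj (Q F G π (n + 1 + 1)), p' ≫ Φ.map (σ F G π (n + 1)) = p := by
    intro n p
    haveI := epi_σ F G hkF hqF hqG π hπ (n + 1)
    haveI : Epi (Φ.map (σ F G π (n + 1))) := hΦ.epi _
    have hK : Subsingleton (Coh.HH X (kernel (Φ.map (σ F G π (n + 1)))) 1) :=
      SerreCrit.subsingleton_HH_of_iso (PreservesKernel.iso Φ (σ F G π (n + 1))) 1 (hH (n + 1))
    exact exists_lift_free A (Φ.map (σ F G π (n + 1))) hK p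
  let u : ∀ k, Fr X b ⟶ Φ.obj (Q F G π (N + k + 1)) := fun k =>
    Nat.rec (motive := fun k => Fr X b ⟶ Φ.obj (Q F G π (N + k + 1))) t
      (fun k p => (step (N + k) p).choose) k
  have hu : ∀ k, u (k + 1) ≫ Φ.map (σ F G π (N + k + 1)) = u k :=
    fun k => (step (N + k) (u k)).choose_spec
  have hue : ∀ k, Epi (u k) := by
    intro k
    induction k with
    | zero => exact ht
    | succ k ih =>
      exact epi_lift_step F G π hkF hqF hkG hqG hΦ hπ a (N + k) (hN _ (Nat.le_add_right N k))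
        (u k) ih (u (k + 1)) (hu k)
  -- the maps onto all kernels
  let T : ∀ n, Fr X b ⟶ Φ.obj (Q F G π n) := fun n =>
    u n ≫ Φ.map (trQ F G π (show n ≤ N + n + 1 by omega))
  have hTe : ∀ n, Epi (T n) := fun n => by
    haveI := hue n
    haveI := epi_trQ F G π hkF hqF hqG hπ (show n ≤ N + n + 1 by omega)
    haveI : Epi (Φ.map (trQ F G π (show n ≤ N + n + 1 by omega))) := hΦ.epi _
    exact epi_comp _ _
  have hT : ∀ n, T (n + 1) ≫ Φ.map (σ F G π n) = T n := by
    intro n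
    have h1 : n + 1 ≤ N + n + 1 + 1 := by omega
    have h2 : n ≤ N + n + 1 := by omega
    show (u (n + 1) ≫ Φ.map (trQ F G π h1)) ≫ Φ.map (σ F G π n) = u n ≫ Φ.map (trQ F G π h2)
    rw [Category.assoc, ← Φ.map_comp, trQ_σ F G π h1, ← hu n, Category.assoc, ← Φ.map_comp]
    exact congrArg (fun x => u (n + 1) ≫ Φ.map x) (σ_trQ F G π h2).symm
  let w : ∀ n, Fr X b ⟶ Φ.obj (F.obj (op n)) := fun n => T n ≫ Φ.map (ιQ F G π n)
  have hw : ∀ n, w (n + 1) ≫ Φ.map (τ F n) = w n := by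
    intro n
    show (T (n + 1) ≫ Φ.map (ιQ F G π (n + 1))) ≫ Φ.map (τ F n) = T n ≫ Φ.map (ιQ F G π n)
    rw [Category.assoc, ← Φ.map_comp, ← σ_ι F G π n, Φ.map_comp, ← Category.assoc, hT n]
  -- the completion of `Φ P`
  obtain ⟨eF, heF⟩ := Form.exists_completion_iso (I := I) (Φ.obj P) (F ⋙ Φ)
    (fun n => Φ.map (q n)) (fun n => hΦ.isQuot (hq n)) (fun n => by
      show Φ.map (q (n + 1)) ≫ Φ.map (τ F n) = Φ.map (q n)
      rw [← Φ.map_comp, hqc n])
  have hkΦ : ∀ n, Formal.KilledBy (I ^ (n + 1)) ((F ⋙ Φ).obj (op n)) := fun n =>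
    hΦ.killedBy (hkF n)
  obtain ⟨ψ', hψ'⟩ := exists_completion_hom (I := I) (Fr X b) (F ⋙ Φ) hkΦ w (fun n => hw n)
  obtain ⟨φ, hφ, -⟩ := HomCompl.main_proper I (Fr X b) (Φ.obj P) (isCoh_Fr b) (hΦ.coh _ hP)
    (ψ' ≫ eF.inv)
  have hφw : ∀ n, φ ≫ Φ.map (q n) = w n := by
    intro n
    have h1 := hφ n
    have h2 := heF n
    have h3 := hψ' n
    have h4 : (ψ' ≫ eF.inv).app (op n) ≫ eF.hom.app (op n) = ψ'.app (op n) := by
      rw [NatTrans.comp_app, Category.assoc, Iso.inv_hom_id_app, Category.comp_id]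
    calc φ ≫ Φ.map (q n)
        = φ ≫ (Formal.modPowπ I (n + 1) (Φ.obj P) ≫ eF.hom.app (op n)) :=
          congrArg (fun x => φ ≫ x) h2.symm
      _ = (φ ≫ Formal.modPowπ I (n + 1) (Φ.obj P)) ≫ eF.hom.app (op n) :=
          (Category.assoc _ _ _).symm
      _ = (Formal.modPowπ I (n + 1) (Fr X b) ≫ (ψ' ≫ eF.inv).app (op n)) ≫ eF.hom.app (op n) :=
          congrArg (fun x => x ≫ eF.hom.app (op n)) h1.symm
      _ = Formal.modPowπ I (n + 1) (Fr X b) ≫
            ((ψ' ≫ eF.inv).app (op n) ≫ eF.hom.app (op n)) := Category.assoc _ _ _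
      _ = Formal.modPowπ I (n + 1) (Fr X b) ≫ ψ'.app (op n) :=
          congrArg (fun x => Formal.modPowπ I (n + 1) (Fr X b) ≫ x) h4
      _ = w n := h3
  have hφQ : ∀ n, φ ≫ Φ.map (q n) ≫ Φ.map (πn F G π n) = 0 := by
    intro n
    rw [← Category.assoc, hφw n]
    show (T n ≫ Φ.map (ιQ F G π n)) ≫ Φ.map (πn F G π n) = 0
    rw [Category.assoc, ← Φ.map_comp, kernel.condition, Φ.map_zero, comp_zero]
  let ρ : ∀ n, cokernel φ ⟶ (G ⋙ Φ).obj (op n) := fun n =>
    cokernel.desc φ (Φ.map (q n) ≫ Φ.map (πn F G π n)) (hφQ n)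
  have hρ : ∀ n, cokernel.π φ ≫ ρ n = Φ.map (q n) ≫ Φ.map (πn F G π n) := fun n =>
    cokernel.π_desc _ _ _
  have hρq : ∀ n, IsQuot (I ^ (n + 1)) (ρ n) := by
    intro n
    haveI := (hq n).epi
    haveI := hπ n
    haveI : Epi (Φ.map (q n)) := hΦ.epi _
    haveI : Epi (Φ.map (πn F G π n)) := hΦ.epi _
    haveI : Epi (ρ n) := by
      have : Epi (cokernel.π φ ≫ ρ n) := by rw [hρ n]; exact epi_comp _ _
      exact epi_of_epi (cokernel.π φ) (ρ n)
    refine ⟨inferInstance, kills_of_killedBy_right (hΦ.killedBy (hkG n)) _, ?_⟩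
    intro Z f hf
    obtain ⟨g₁, hg₁⟩ := (hΦ.isQuot (hq n)).fac (cokernel.π φ ≫ f) (hf.comp_left _)
    have h0 : Φ.map (kernel.ι (πn F G π n)) ≫ g₁ = 0 := by
      haveI := hTe n
      rw [← cancel_epi (T n), comp_zero]
      have h3 : T n ≫ Φ.map (kernel.ι (πn F G π n)) = w n := rfl
      rw [← Category.assoc, h3, ← hφw n, Category.assoc, hg₁, cokernel.condition_assoc, zero_comp]
    obtain ⟨g₂, hg₂⟩ := hΦ.exists_desc (πn F G π n) g₁ h0
    refine ⟨g₂, ?_⟩
    rw [← cancel_epi (cokernel.π φ), ← Category.assoc, hρ n, Category.assoc, hg₂, hg₁]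
  have hρc : ∀ n, ρ (n + 1) ≫ (G ⋙ Φ).map (homOfLE (Nat.le_add_right n 1)).op = ρ n := by
    intro n
    rw [← cancel_epi (cokernel.π φ), ← Category.assoc, hρ (n + 1), hρ n]
    show (Φ.map (q (n + 1)) ≫ Φ.map (πn F G π (n + 1))) ≫ Φ.map (τ G n) =
      Φ.map (q n) ≫ Φ.map (πn F G π n)
    rw [Category.assoc, ← Φ.map_comp (πn F G π (n + 1)) (τ G n), ← τ_π F G π n,
      Φ.map_comp (τ F n) (πn F G π n), ← Category.assoc, ← Φ.map_comp (q (n + 1)) (τ F n), hqc n]
  obtain ⟨e, -⟩ := Form.exists_completion_iso (I := I) (cokernel φ) (G ⋙ Φ) ρ hρq hρc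
  exact ⟨cokernel φ, Groth.Agent.Lead.PerfLib.isCoh_cokernel (isCoh_Fr b) (hΦ.coh _ hP) φ, ⟨e⟩⟩

end Kernel

end Groth.Agent.Lead.GEx
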