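import Groth.Agent.Lead.HomDescC

set_option autoImplicit false
open CategoryTheory AlgebraicGeometry Opposite TopologicalSpace TensorProduct
universe u

namespace Groth.Agent.Lead.HomDesc
open Scheme.Modules Groth.Agent.Lead.BCMap

section span
variable {X Y : Scheme.{u}} (f : X ⟶ Y)

/-- the sections of the pullback of a quasi-coherent module over an affine pair are spanned by
the pulled-back generators -/
theorem span_pbSec (F : Y.Modules) [F.IsQuasicoherent] {U : X.Opens} {V : Y.Opens}
    (hU : IsAffineOpen U) (hV : IsAffineOpen V) (e : U ≤ f ⁻¹ᵁ V) (S : Set Γ(F, V))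
    (hS : Submodule.span Γ(Y, V) S = ⊤) (r : Γ((Scheme.Modules.pullback f).obj F, U)) :
    r ∈ Submodule.span Γ(X, U) ((pbSec f F V U e) '' S) := by
  letI := (f.appLE V U e).hom.toAlgebra
  letI : Module Γ(Y, V) Γ((Scheme.Modules.pullback f).obj F, U) :=
    Module.compHom _ (f.appLE V U e).hom
  haveI : IsScalarTower Γ(Y, V) Γ(X, U) Γ((Scheme.Modules.pullback f).obj F, U) :=
    IsScalarTower.of_compHom _ _ _
  obtain ⟨ρ, hρ, hb⟩ := exists_isBaseChange_pbSec f F hV hU e
  induction r using hb.inductionOn with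
  | zero => exact Submodule.zero_mem _
  | tmul m =>
    rw [hρ]
    have hm : m ∈ Submodule.span Γ(Y, V) S := by rw [hS]; trivial
    induction hm using Submodule.span_induction with
    | mem x hx => exact Submodule.subset_span ⟨x, hx, rfl⟩
    | zero => rw [map_zero]; exact Submodule.zero_mem _
    | add x y _ _ hx hy => rw [map_add]; exact add_mem hx hy
    | smul a x _ hx =>
      rw [pbSec_smul]
      exact Submodule.smul_mem _ _ hx
  | smul s n hn => exact Submodule.smul_mem _ _ hn
  | add n₁ n₂ h₁ h₂ => exact add_mem h₁ h₂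

/-- extension of a semilinear map on sections of `F` to the sections of the pullback -/
theorem ext_lift (F : Y.Modules) [F.IsQuasicoherent] (Q : X.Modules) {U : Y.Opens}
    (hU : IsAffineOpen U) {V : X.Opens} (hV : IsAffineOpen V) (e : V ≤ f ⁻¹ᵁ U)
    (lam : Γ(F, U) →+ Γ(Q, V))
    (hlam : ∀ (a : Γ(Y, U)) (m : Γ(F, U)), lam (a • m) = f.appLE U V e a • lam m) :
    ∃ t : Γ((Scheme.Modules.pullback f).obj F, V) →+ Γ(Q, V),
      (∀ (b : Γ(X, V)) (s : Γ((Scheme.Modules.pullback f).obj F, V)), t (b • s) = b • t s) ∧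
      ∀ m, t (pbSec f F U V e m) = lam m := by
  letI := (f.appLE U V e).hom.toAlgebra
  letI : Module Γ(Y, U) Γ((Scheme.Modules.pullback f).obj F, V) :=
    Module.compHom _ (f.appLE U V e).hom
  haveI : IsScalarTower Γ(Y, U) Γ(X, V) Γ((Scheme.Modules.pullback f).obj F, V) :=
    IsScalarTower.of_compHom _ _ _
  letI : Module Γ(Y, U) Γ(Q, V) := Module.compHom _ (f.appLE U V e).hom
  haveI : IsScalarTower Γ(Y, U) Γ(X, V) Γ(Q, V) := IsScalarTower.of_compHom _ _ _
  obtain ⟨ρ, hρ, hb⟩ := exists_isBaseChange_pbSec f F hU hV e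
  let lamL : Γ(F, U) →ₗ[Γ(Y, U)] Γ(Q, V) :=
    { toFun := lam
      map_add' := map_add lam
      map_smul' := fun a m => hlam a m }
  refine ⟨(hb.lift lamL).toAddMonoidHom, fun b s => (hb.lift lamL).map_smul b s, fun m => ?_⟩
  rw [← hρ]
  exact hb.lift_eq lamL m

/-- two linear maps on the sections of the pullback which agree on the pulled back sections
of a spanning set agree -/
theorem ext_unique (F : Y.Modules) [F.IsQuasicoherent] (Q : X.Modules) {U : Y.Opens}
    (hU : IsAffineOpen U) {V : X.Opens} (hV : IsAffineOpen V) (e : V ≤ f ⁻¹ᵁ U)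
    (S : Set Γ(F, U)) (hS : Submodule.span Γ(Y, U) S = ⊤)
    (t t' : Γ((Scheme.Modules.pullback f).obj F, V) →+ Γ(Q, V))
    (ht : ∀ (b : Γ(X, V)) (s : Γ((Scheme.Modules.pullback f).obj F, V)), t (b • s) = b • t s)
    (ht' : ∀ (b : Γ(X, V)) (s : Γ((Scheme.Modules.pullback f).obj F, V)), t' (b • s) = b • t' s)
    (h : ∀ m ∈ S, t (pbSec f F U V e m) = t' (pbSec f F U V e m))
    (s : Γ((Scheme.Modules.pullback f).obj F, V)) : t s = t' s := by
  have hs := span_pbSec f F hV hU e S hS s
  induction hs using Submodule.span_induction with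
  | mem x hx =>
    obtain ⟨m, hm, rfl⟩ := hx
    exact h m hm
  | zero => rw [map_zero, map_zero]
  | add x y _ _ hx hy => rw [map_add, map_add, hx, hy]
  | smul a x _ hx => rw [ht, ht', hx]

end span

section idpull
variable {Y : Scheme.{u}} (F : Y.Modules)

theorem pullbackId_unit (U : Y.Opens) (m : Γ(F, U)) :
    ((pullbackId Y).hom.app F).app U
      (((pullbackPushforwardAdjunction (𝟙 Y)).unit.app F).app U m) = m := by
  have h := unit_conjugateEquiv Adjunction.id (pullbackPushforwardAdjunction (𝟙 Y))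
    (pullbackId Y).hom F
  rw [conjugateEquiv_pullbackId_hom] at h
  have h2 := congrArg (fun ψ => (Scheme.Modules.Hom.app ψ U) m) h
  simp only [Adjunction.id_unit, Hom.comp_app, pushforwardId_inv_app_app,
    pushforward_map_app] at h2
  exact h2.symm

theorem pullbackId_pbSec {U V : Y.Opens} (e : V ≤ (𝟙 Y) ⁻¹ᵁ U) (m : Γ(F, U)) :
    ((pullbackId Y).hom.app F).app V (pbSec (𝟙 Y) F U V e m) =
      F.presheaf.map (homOfLE (show V ≤ U from e)).op m := by
  rw [pbSec_apply]
  refine (Groth.Agent.Helper4.StalkExact.app_res ((pullbackId Y).hom.app F) (homOfLE e) _).trans ?_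
  congr 1
  exact pullbackId_unit F U m

/-- restrictions of sections over an affine open span the sections over a smaller affine open -/
theorem res_span [F.IsQuasicoherent] {U V : Y.Opens} (hU : IsAffineOpen U) (hV : IsAffineOpen V)
    (h : V ≤ U) (S : Set Γ(F, U)) (hS : Submodule.span Γ(Y, U) S = ⊤) (r : Γ(F, V)) :
    r ∈ Submodule.span Γ(Y, V) ((fun m => F.presheaf.map (homOfLE h).op m) '' S) := by
  have e : V ≤ (𝟙 Y) ⁻¹ᵁ U := h
  obtain ⟨r', rfl⟩ : ∃ r', ((pullbackId Y).hom.app F).app V r' = r :=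
    ⟨((pullbackId Y).inv.app F).app V r, by
      have h3 := congrArg (fun ψ => (Scheme.Modules.Hom.app ψ V) r)
        (Iso.inv_hom_id_app (pullbackId Y) F)
      simp only [Hom.comp_app] at h3
      exact h3⟩
  have hr' := span_pbSec (𝟙 Y) F hV hU e S hS r'
  induction hr' using Submodule.span_induction with
  | mem x hx =>
    obtain ⟨m, hm, rfl⟩ := hx
    apply Submodule.subset_span
    exact ⟨m, hm, (pullbackId_pbSec F e m).symm⟩
  | zero => rw [map_zero]; exact Submodule.zero_mem _
  | add x y _ _ hx hy => rw [map_add]; exact add_mem hx hy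
  | smul a x _ hx =>
    rw [Hom.app_smul]
    exact Submodule.smul_mem _ _ hx

end idpull

end Groth.Agent.Lead.HomDesc
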