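import Mathlib

/-!
Lifting powers of functions along square-zero thickenings: algebra and restriction lemmas.
-/

set_option autoImplicit false
open CategoryTheory AlgebraicGeometry TopologicalSpace Opposite
universe u

namespace Groth.Agent.Lead.LiftPow

section Algebra
variable {R : Type*} [CommRing R]

theorem add_pow_of_sq_zero (x e : R) (he : e * e = 0) (M : ℕ) :
    (x + e) ^ (M + 1) = x ^ (M + 1) + ((M + 1 : ℕ) : R) * (x ^ M * e) := by
  induction M with
  | zero => simp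
  | succ M ih =>
    rw [pow_succ, ih]
    push_cast
    linear_combination ((M : R) + 1) * x ^ M * he

theorem pow_sub_pow_mem (J : Ideal R) {x y : R} (h : x - y ∈ J) (n : ℕ) : x ^ n - y ^ n ∈ J := by
  obtain ⟨c, hc⟩ := sub_dvd_pow_sub_pow x y n
  rw [hc]
  exact J.mul_mem_right _ h

/-- the key identity: corrected powers agree -/
theorem lemmaA (J : Ideal R) (hJ : ∀ a ∈ J, ∀ b ∈ J, a * b = 0) {x y α β : R} (hxy : x - y ∈ J)
    (hβ : β ∈ J) (N N' : ℕ)
    (h : x ^ N' * (α - β - x ^ N * (x - y)) = 0) :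
    x ^ (N + N' + 1) - ((N + N' + 1 : ℕ) : R) * (x ^ N' * α) =
      y ^ (N + N' + 1) - ((N + N' + 1 : ℕ) : R) * (y ^ N' * β) := by
  have hyx : y - x ∈ J := by
    have := J.neg_mem hxy
    rwa [neg_sub] at this
  have he : (y - x) * (y - x) = 0 := hJ _ hyx _ hyx
  have hy : y ^ (N + N' + 1) = x ^ (N + N' + 1) + ((N + N' + 1 : ℕ) : R) * (x ^ (N + N') * (y - x)) := by
    have := add_pow_of_sq_zero x (y - x) he (N + N')
    rwa [add_sub_cancel] at this
  have hβ' : y ^ N' * β = x ^ N' * β := by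
    have h1 : (y ^ N' - x ^ N') * β = 0 := hJ _ (pow_sub_pow_mem J hyx N') _ hβ
    linear_combination h1
  rw [hy, hβ']
  push_cast
  linear_combination (-((N : R) + N' + 1)) * h

theorem lemmaB (J : Ideal R) (hJ : ∀ a ∈ J, ∀ b ∈ J, a * b = 0) {x y η : R} (hx : x - η ∈ J)
    (hy : y - η ∈ J) (N : ℕ) :
    x ^ N * (x - η) - y ^ N * (y - η) - x ^ N * (x - y) = 0 := by
  have hxy : x - y ∈ J := by
    have := J.sub_mem hx hy
    rwa [sub_sub_sub_cancel_right] at this
  have h1 : (x ^ N - y ^ N) * (y - η) = 0 := hJ _ (pow_sub_pow_mem J hxy N) _ hy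
  linear_combination h1

end Algebra

section Res
variable {Y : Scheme.{u}}

/-- restriction of sections -/
noncomputable abbrev res {U V : Y.Opens} (h : U ≤ V) : Γ(Y, V) →+* Γ(Y, U) :=
  (Y.presheaf.map (homOfLE h).op).hom

theorem res_res {U V W : Y.Opens} (h₁ : U ≤ V) (h₂ : V ≤ W) (s : Γ(Y, W)) :
    res h₁ (res h₂ s) = res (h₁.trans h₂) s := by
  change ((Y.presheaf.map (homOfLE h₂).op) ≫ (Y.presheaf.map (homOfLE h₁).op)).hom s = _
  rw [← Functor.map_comp]
  rfl

theorem res_self {U : Y.Opens} (s : Γ(Y, U)) : res (le_refl U) s = s := by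
  change (Y.presheaf.map (𝟙 _)).hom s = s
  rw [Y.presheaf.map_id]
  rfl

end Res

section App
variable {Z X : Scheme.{u}} (i : Z ⟶ X)

theorem app_res {U V : X.Opens} (h : U ≤ V) (s : Γ(X, V)) :
    (i.app U).hom (res h s) = res (i.preimage_mono h) ((i.app V).hom s) := by
  have := i.naturality (homOfLE h).op
  exact congrArg (fun φ => φ.hom s) this

/-- the ideal of the closed subscheme over an open -/
noncomputable abbrev J (U : X.Opens) : Ideal Γ(X, U) := RingHom.ker (i.app U).hom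

theorem res_mem_J {U V : X.Opens} (h : U ≤ V) {s : Γ(X, V)} (hs : s ∈ J i V) : res h s ∈ J i U := by
  rw [RingHom.mem_ker] at hs ⊢
  rw [app_res, hs, map_zero]

theorem preimage_injective (hs : Function.Surjective i) {U₁ U₂ : X.Opens}
    (h : i ⁻¹ᵁ U₁ = i ⁻¹ᵁ U₂) : U₁ = U₂ := by
  ext x
  obtain ⟨z, rfl⟩ := hs x
  have h1 : z ∈ i ⁻¹ᵁ U₁ ↔ z ∈ i ⁻¹ᵁ U₂ := by rw [h]
  exact h1

end App

end Groth.Agent.Lead.LiftPow
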