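import Mathlib
import Groth.Prelude.Def_Lef
import Groth.Agent.Lead.IdealModDict
import Groth.Agent.Lead.LiftPow1

/-!
# Lefschetz condition and connectedness (S2946): dictionaries

* `sec`, `sec_ofSection`, `sec_comp`, `hom_ext_of_sec` : morphisms `O_Y ⟶ N` are global sections.
* indicator sections for a pair of disjoint opens.
-/

set_option autoImplicit false
universe u
open CategoryTheory CategoryTheory.Limits AlgebraicGeometry TopologicalSpace Opposite

namespace Groth.Agent.Lead.LefConn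

open Groth.Agent.Helper1.IdealMod (fn ofFn)
open Groth.Agent.Lead.IdealModDict (ofSection ofSection_app)
open Groth.Agent.Lead.LiftPow (res app_res res_res res_self)

section Sec
variable {Y : Scheme.{u}}

theorem mod_app_res {M N : Y.Modules} (φ : M ⟶ N) {U V : Y.Opens} (h : V ≤ U) (s : Γ(M, U)) :
    N.presheaf.map (homOfLE h).op (φ.app U s) = φ.app V (M.presheaf.map (homOfLE h).op s) := by
  have nat := φ.mapPresheaf.naturality (homOfLE h).op
  exact (ConcreteCategory.congr_hom nat s).symm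

/-- the global section attached to a morphism `O_Y ⟶ N` -/
noncomputable def sec (N : Y.Modules) (g : Coh.structureModule Y ⟶ N) : Γ(N, ⊤) :=
  g.app ⊤ (ofFn 1)

theorem sec_ofSection (N : Y.Modules) (t : Γ(N, ⊤)) : sec N (ofSection N t) = t := by
  unfold sec
  rw [ofSection_app, one_smul]
  have : (homOfLE (le_top : (⊤ : Y.Opens) ≤ ⊤)) = 𝟙 _ := Subsingleton.elim _ _
  rw [this, op_id, N.presheaf.map_id]
  rfl

theorem sec_comp {N N' : Y.Modules} (g : Coh.structureModule Y ⟶ N) (h : N ⟶ N') :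
    sec N' (g ≫ h) = h.app ⊤ (sec N g) := rfl

theorem hom_ext_of_sec (N : Y.Modules) (g g' : Coh.structureModule Y ⟶ N)
    (h : sec N g = sec N g') : g = g' := by
  apply Scheme.Modules.hom_ext
  intro W
  ext a
  have key : ∀ γ : Coh.structureModule Y ⟶ N,
      γ.app W a = (fn a) • N.presheaf.map (homOfLE (le_top : W ≤ ⊤)).op (sec N γ) := by
    intro γ
    have h1 : a = (fn a) • (ofFn (1 : Γ(Y, W)) : Γ(Coh.structureModule Y, W)) := by
      change fn a = fn a * 1
      rw [mul_one]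
    have h2 : (ofFn (1 : Γ(Y, W)) : Γ(Coh.structureModule Y, W)) =
        (Coh.structureModule Y).presheaf.map (homOfLE (le_top : W ≤ ⊤)).op (ofFn 1) := by
      change (1 : Γ(Y, W)) = Y.presheaf.map (homOfLE (le_top : W ≤ ⊤)).op 1
      rw [map_one]
    conv_lhs => rw [h1]
    rw [Scheme.Modules.Hom.app_smul, h2, ← mod_app_res γ le_top]
    rfl
  rw [key g, key g', h]

theorem sec_zero (N : Y.Modules) : sec N (0 : Coh.structureModule Y ⟶ N) = 0 := rfl

end Sec

section Ind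
variable {Z : Scheme.{u}}

/-- `e` is `1` on `A` and `0` on `B`. -/
def IsInd (T A B : Z.Opens) (hA : A ≤ T) (hB : B ≤ T) (e : Γ(Z, T)) : Prop :=
  res hA e = 1 ∧ res hB e = 0

theorem IsInd.unique {T A B : Z.Opens} {hA : A ≤ T} {hB : B ≤ T} (hcov : T ≤ A ⊔ B)
    {e e' : Γ(Z, T)} (h : IsInd T A B hA hB e) (h' : IsInd T A B hA hB e') : e = e' := by
  refine TopCat.Sheaf.eq_of_locally_eq' Z.sheaf (fun b : Bool => if b then A else B) T
    (fun b => homOfLE (by cases b <;> simp [hA, hB])) ?_ _ _ ?_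
  · intro x hx
    rcases hcov hx with hx | hx
    · exact Opens.mem_iSup.2 ⟨true, hx⟩
    · exact Opens.mem_iSup.2 ⟨false, hx⟩
  · intro b
    cases b
    · exact h.2.trans h'.2.symm
    · exact h.1.trans h'.1.symm

theorem IsInd.mul_one_sub {T A B : Z.Opens} {hA : A ≤ T} {hB : B ≤ T} (hcov : T ≤ A ⊔ B)
    {e : Γ(Z, T)} (h : IsInd T A B hA hB e) : e * (1 - e) = 0 := by
  refine TopCat.Sheaf.eq_of_locally_eq' Z.sheaf (fun b : Bool => if b then A else B) T
    (fun b => homOfLE (by cases b <;> simp [hA, hB])) ?_ _ _ ?_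
  · intro x hx
    rcases hcov hx with hx | hx
    · exact Opens.mem_iSup.2 ⟨true, hx⟩
    · exact Opens.mem_iSup.2 ⟨false, hx⟩
  · intro b
    cases b
    · change res hB (e * (1 - e)) = res hB 0
      rw [map_mul, h.2, zero_mul, map_zero]
    · change res hA (e * (1 - e)) = res hA 0
      rw [map_mul, map_sub, map_one, h.1, sub_self, mul_zero, map_zero]

/-- existence of indicator sections -/
theorem exists_isInd (T A B : Z.Opens) (hA : A ≤ T) (hB : B ≤ T) (hcov : T ≤ A ⊔ B)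
    (hdisj : A ⊓ B = ⊥) : ∃ e : Γ(Z, T), IsInd T A B hA hB e := by
  haveI : Subsingleton Γ(Z, A ⊓ B) := by rw [hdisj]; infer_instance
  let x : RingHom.eqLocus
      (RingHom.comp (Z.sheaf.obj.map (homOfLE inf_le_left : A ⊓ B ⟶ A).op).hom
        (RingHom.fst (Z.sheaf.obj.obj <| op A) (Z.sheaf.obj.obj <| op B)))
      (RingHom.comp (Z.sheaf.obj.map (homOfLE inf_le_right : A ⊓ B ⟶ B).op).hom
        (RingHom.snd (Z.sheaf.obj.obj <| op A) (Z.sheaf.obj.obj <| op B))) :=
    ⟨((1 : Γ(Z, A)), (0 : Γ(Z, B))), Subsingleton.elim (α := Γ(Z, A ⊓ B)) _ _⟩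
  have h1 : Z.presheaf.map (homOfLE (le_sup_left : A ≤ A ⊔ B)).op
      ((Z.sheaf.objSupIsoProdEqLocus A B).inv x) = 1 :=
    Z.sheaf.objSupIsoProdEqLocus_inv_fst A B x
  have h2 : Z.presheaf.map (homOfLE (le_sup_right : B ≤ A ⊔ B)).op
      ((Z.sheaf.objSupIsoProdEqLocus A B).inv x) = 0 :=
    Z.sheaf.objSupIsoProdEqLocus_inv_snd A B x
  obtain ⟨e₀, he₀⟩ : ∃ e : Γ(Z, A ⊔ B), e = (Z.sheaf.objSupIsoProdEqLocus A B).inv x := ⟨_, rfl⟩
  rw [← he₀] at h1 h2
  refine ⟨res hcov e₀, ?_, ?_⟩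
  · rw [res_res]
    exact h1
  · rw [res_res]
    exact h2

/-- pulling back an indicator section -/
theorem IsInd.pullback {Z' : Scheme.{u}} (t : Z' ⟶ Z) {T A B : Z.Opens} {hA : A ≤ T} {hB : B ≤ T}
    {e : Γ(Z, T)} (h : IsInd T A B hA hB e) :
    IsInd (t ⁻¹ᵁ T) (t ⁻¹ᵁ A) (t ⁻¹ᵁ B) (t.preimage_mono hA) (t.preimage_mono hB)
      ((t.app T).hom e) := by
  constructor
  · rw [← app_res t hA e, h.1, map_one]
  · rw [← app_res t hB e, h.2, map_zero]

theorem one_ne_zero_of_mem {V : Z.Opens} (x : Z) (hx : x ∈ V) : (1 : Γ(Z, V)) ≠ 0 := by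
  intro h
  have := congrArg (Z.presheaf.germ V x hx) h
  rw [map_one, map_zero] at this
  exact one_ne_zero this

end Ind

end Groth.Agent.Lead.LefConn
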