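import Mathlib
import Groth.Prelude.Def_ClSub2
import Groth.Prelude.Def_BlowUp2
import Groth.Agent.Lead.IdealModDict
import Groth.Agent.Lead.LiftPow1
import Groth.Agent.Lead.LefConnA
import Groth.Agent.Lead.CartProdA

/-!
# Effective Cartier ideals `D₂ ≤ D₁` with isomorphic ideal modules on a scheme whose global
nonzerodivisors are units are equal (S18380)
-/

set_option autoImplicit false
universe u
open CategoryTheory CategoryTheory.Limits AlgebraicGeometry TopologicalSpace Opposite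

namespace Groth.Agent.Lead.CartIsoEq

open Groth.Agent.Helper1.IdealMod (fn ofFn)
open Groth.Agent.Lead.LiftPow (res res_res res_self)
open Groth.Agent.Lead.LefConn (mod_app_res)
open Groth.Agent.Lead.CartProdA (Princ exists_princ)
open Groth.Agent.Lead.IdealModDict (exists_section_iff idealModι_app_injective)

variable {X : Scheme.{u}}

/-- functions agreeing locally agree -/
theorem eq_of_locally {V : X.Opens} (s t : Γ(X, V))
    (h : ∀ z : X, z ∈ V → ∃ (V' : X.Opens) (hV' : V' ≤ V), z ∈ V' ∧ res hV' s = res hV' t) :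
    s = t := by
  choose V' hV' hz hres using fun z : V => h z.1 z.2
  exact TopCat.Sheaf.eq_of_locally_eq' X.sheaf V' V (fun z => homOfLE (hV' z))
    (fun z hzV => Opens.mem_iSup.mpr ⟨⟨z, hzV⟩, hz ⟨z, hzV⟩⟩) s t hres

section Ev
variable {N : X.Modules}

/-- value of a morphism to the structure sheaf, as a function -/
noncomputable def ev (F : N ⟶ Coh.structureModule X) (V : X.Opens) (t : Γ(N, V)) : Γ(X, V) :=
  fn (F.app V t)

theorem ev_smul (F : N ⟶ Coh.structureModule X) (V : X.Opens) (a : Γ(X, V)) (t : Γ(N, V)) :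
    ev F V (a • t) = a * ev F V t :=
  Scheme.Modules.Hom.app_smul F a t

theorem ev_res (F : N ⟶ Coh.structureModule X) {V' V : X.Opens} (h : V' ≤ V) (t : Γ(N, V)) :
    ev F V' (N.presheaf.map (homOfLE h).op t) = res h (ev F V t) :=
  (mod_app_res F h t).symm

theorem ev_zero (F : N ⟶ Coh.structureModule X) (V : X.Opens) : ev F V 0 = 0 := by
  unfold ev
  rw [map_zero]
  rfl

/-- `Φ = l • J` over `V` and all smaller opens -/
def IsRatio (J Φ : N ⟶ Coh.structureModule X) (V : X.Opens) (l : Γ(X, V)) : Prop :=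
  ∀ (V' : X.Opens) (h : V' ≤ V) (t : Γ(N, V')), ev Φ V' t = res h l * ev J V' t

theorem IsRatio.res {J Φ : N ⟶ Coh.structureModule X} {V : X.Opens} {l : Γ(X, V)}
    (h : IsRatio J Φ V l) {V₁ : X.Opens} (h₁ : V₁ ≤ V) : IsRatio J Φ V₁ (res h₁ l) := by
  intro V' h' t
  rw [res_res]
  exact h V' (h'.trans h₁) t

end Ev

section Main
variable {D₁ : X.IdealSheafData} (Φ : ClSub.idealMod D₁ ⟶ Coh.structureModule X)

theorem exists_gen {W : X.affineOpens} {g : Γ(X, W.1)} (hg : Princ D₁ W g) :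
    ∃ t₁ : Γ(ClSub.idealMod D₁, W.1), ev (ClSub.idealModι D₁) W.1 t₁ = g :=
  (exists_section_iff D₁ W g).2 (by rw [hg.2]; exact Ideal.subset_span rfl)

theorem ev_mem (D : X.IdealSheafData) (W : X.affineOpens) (t : Γ(ClSub.idealMod D, W.1)) :
    ev (ClSub.idealModι D) W.1 t ∈ D.ideal W :=
  (exists_section_iff D W _).1 ⟨t, rfl⟩

theorem ev_injective (D : X.IdealSheafData) (V : X.Opens) {t t' : Γ(ClSub.idealMod D, V)}
    (h : ev (ClSub.idealModι D) V t = ev (ClSub.idealModι D) V t') : t = t' :=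
  idealModι_app_injective D V h

variable {Φ}

theorem isRatio_of_princ {W : X.affineOpens} {g : Γ(X, W.1)} (hg : Princ D₁ W g)
    (t₁ : Γ(ClSub.idealMod D₁, W.1)) (ht₁ : ev (ClSub.idealModι D₁) W.1 t₁ = g)
    (l : Γ(X, W.1)) (hl : ev Φ W.1 t₁ = l * g) : IsRatio (ClSub.idealModι D₁) Φ W.1 l := by
  intro V' h t
  apply eq_of_locally
  intro z hz
  obtain ⟨_, ⟨V'', hV'', rfl⟩, hzV'', hle⟩ :=
    X.isBasis_affineOpens.exists_subset_of_mem_open hz V'.isOpen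
  have hle' : V'' ≤ V' := hle
  refine ⟨V'', hle', hzV'', ?_⟩
  have hW'' : (⟨V'', hV''⟩ : X.affineOpens) ≤ W := hle'.trans h
  have hg'' := hg.res hW''
  obtain ⟨t'', ht''⟩ : ∃ t'' : Γ(ClSub.idealMod D₁, V''),
      t'' = (ClSub.idealMod D₁).presheaf.map (homOfLE hle').op t := ⟨_, rfl⟩
  obtain ⟨t₁'', ht₁''⟩ : ∃ t₁'' : Γ(ClSub.idealMod D₁, V''),
      t₁'' = (ClSub.idealMod D₁).presheaf.map (homOfLE (hle'.trans h)).op t₁ := ⟨_, rfl⟩
  have h1 : ev (ClSub.idealModι D₁) V'' t₁'' = res (hle'.trans h) g := by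
    rw [ht₁'', ev_res, ht₁]
  have h2 := ev_mem D₁ ⟨V'', hV''⟩ t''
  rw [hg''.2] at h2
  obtain ⟨b, hb⟩ := Ideal.mem_span_singleton'.mp h2
  have h3 : t'' = b • t₁'' := by
    apply ev_injective D₁ V''
    rw [ev_smul, h1]
    exact hb.symm
  have h4 : ev Φ V'' t₁'' = res (hle'.trans h) l * res (hle'.trans h) g := by
    rw [ht₁'', ev_res, hl, map_mul]
  calc res hle' (ev Φ V' t) = ev Φ V'' t'' := by rw [ht'', ev_res]
    _ = b * (res (hle'.trans h) l * res (hle'.trans h) g) := by rw [h3, ev_smul, h4]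
    _ = res (hle'.trans h) l * (b * res (hle'.trans h) g) := by ring
    _ = res (hle'.trans h) l * ev (ClSub.idealModι D₁) V'' t'' := by
        rw [h3, ev_smul, h1]
    _ = res hle' (res h l * ev (ClSub.idealModι D₁) V' t) := by
        rw [map_mul, res_res, ht'', ev_res]

theorem isRatio_unique (hD : BlowUp.IsEffCartierIdeal D₁) {V : X.Opens} {l l' : Γ(X, V)}
    (h : IsRatio (ClSub.idealModι D₁) Φ V l) (h' : IsRatio (ClSub.idealModι D₁) Φ V l') :
    l = l' := by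
  apply eq_of_locally
  intro z hz
  obtain ⟨W, hzW, hWV, g, hg⟩ := exists_princ hD z V hz
  obtain ⟨t₁, ht₁⟩ := exists_gen hg
  refine ⟨W.1, hWV, hzW, ?_⟩
  have h1 := h W.1 hWV t₁
  have h2 := h' W.1 hWV t₁
  rw [ht₁] at h1 h2
  rw [h1] at h2
  exact (mul_cancel_right_mem_nonZeroDivisors hg.1).mp h2

theorem exists_isRatio_local (hD : BlowUp.IsEffCartierIdeal D₁)
    (hΦ : ∀ (W : X.affineOpens) (t : Γ(ClSub.idealMod D₁, W.1)), ev Φ W.1 t ∈ D₁.ideal W)
    (x : X) : ∃ W : X.affineOpens, x ∈ W.1 ∧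
      ∃ l : Γ(X, W.1), IsRatio (ClSub.idealModι D₁) Φ W.1 l := by
  obtain ⟨W, hxW, -, g, hg⟩ := exists_princ hD x ⊤ trivial
  obtain ⟨t₁, ht₁⟩ := exists_gen hg
  have h1 := hΦ W t₁
  rw [hg.2] at h1
  obtain ⟨l, hl⟩ := Ideal.mem_span_singleton'.mp h1
  exact ⟨W, hxW, l, isRatio_of_princ hg t₁ ht₁ l hl.symm⟩

theorem exists_isRatio (hD : BlowUp.IsEffCartierIdeal D₁)
    (hΦ : ∀ (W : X.affineOpens) (t : Γ(ClSub.idealMod D₁, W.1)), ev Φ W.1 t ∈ D₁.ideal W) :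
    ∃ l : Γ(X, ⊤), IsRatio (ClSub.idealModι D₁) Φ ⊤ l := by
  choose W hxW l hl using exists_isRatio_local hD hΦ
  have hcompat : TopCat.Presheaf.IsCompatible X.presheaf (fun x => (W x).1) l := by
    intro x y
    exact isRatio_unique hD ((hl x).res inf_le_left) ((hl y).res inf_le_right)
  have hcover : (⊤ : X.Opens) ≤ iSup fun x => (W x).1 :=
    fun y _ => Opens.mem_iSup.mpr ⟨y, hxW y⟩
  obtain ⟨bb, hbb, -⟩ := TopCat.Sheaf.existsUnique_gluing' X.sheaf (fun x => (W x).1) ⊤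
    (fun i => homOfLE le_top) hcover l hcompat
  refine ⟨bb, ?_⟩
  intro V' h t
  apply eq_of_locally
  intro z hz
  refine ⟨V' ⊓ (W z).1, inf_le_left, ⟨hz, hxW z⟩, ?_⟩
  have h1 := hl z (V' ⊓ (W z).1) inf_le_right
    ((ClSub.idealMod D₁).presheaf.map (homOfLE (inf_le_left : V' ⊓ (W z).1 ≤ V')).op t)
  have h2 : res (inf_le_right : V' ⊓ (W z).1 ≤ (W z).1) (l z) =
      res (le_top : V' ⊓ (W z).1 ≤ ⊤) bb := by
    rw [← hbb z]
    exact res_res _ _ bb
  rw [ev_res, ev_res, h2] at h1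
  rw [h1, map_mul, res_res]

theorem mem_nonZeroDivisors_of_isRatio (hD : BlowUp.IsEffCartierIdeal D₁)
    (hinj : ∀ V : X.Opens, Function.Injective (Φ.app V)) {l : Γ(X, ⊤)}
    (h : IsRatio (ClSub.idealModι D₁) Φ ⊤ l) : l ∈ nonZeroDivisors Γ(X, ⊤) := by
  rw [mem_nonZeroDivisors_iff_right]
  intro μ hμ
  apply eq_of_locally
  intro z hz
  obtain ⟨W, hzW, hWV, g, hg⟩ := exists_princ hD z ⊤ hz
  obtain ⟨t₁, ht₁⟩ := exists_gen hg
  refine ⟨W.1, hWV, hzW, ?_⟩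
  rw [map_zero]
  have h1 : ev Φ W.1 (res hWV μ • t₁) = 0 := by
    rw [ev_smul, h W.1 hWV t₁, ← mul_assoc, ← map_mul, hμ, map_zero, zero_mul]
  have h2 : res hWV μ • t₁ = 0 := by
    apply hinj W.1
    rw [map_zero]
    exact h1
  have h3 : res hWV μ * g = 0 := by
    rw [← ht₁, ← ev_smul, h2, ev_zero]
  exact (mul_right_mem_nonZeroDivisors_eq_zero_iff hg.1).mp h3

theorem le_of_isUnit (hD : BlowUp.IsEffCartierIdeal D₁) {D₂ : X.IdealSheafData} {l : Γ(X, ⊤)}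
    (h : IsRatio (ClSub.idealModι D₁) Φ ⊤ l) (hu : IsUnit l)
    (hΦ₂ : ∀ (W : X.affineOpens) (t : Γ(ClSub.idealMod D₁, W.1)), ev Φ W.1 t ∈ D₂.ideal W) :
    D₁ ≤ D₂ := by
  choose W hxW hWtop g hg using fun x : X => exists_princ hD x ⊤ trivial
  apply Scheme.IdealSheafData.le_of_iSup_eq_top W
  · exact top_le_iff.mp fun y _ => Opens.mem_iSup.mpr ⟨y, hxW y⟩
  · intro x
    rw [(hg x).2, Ideal.span_singleton_le_iff_mem]
    obtain ⟨t₁, ht₁⟩ := exists_gen (hg x)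
    obtain ⟨l', hl'⟩ := hu.exists_left_inv
    have h1 := hΦ₂ (W x) t₁
    rw [h (W x).1 le_top t₁, ht₁] at h1
    have h2 := Ideal.mul_mem_left _ (res (le_top : (W x).1 ≤ ⊤) l') h1
    rwa [← mul_assoc, ← map_mul, hl', map_one, one_mul] at h2

end Main

/-- the general statement -/
theorem main (hunit : ∀ l : Γ(X, ⊤), l ∈ nonZeroDivisors Γ(X, ⊤) → IsUnit l)
    (D₁ D₂ : X.IdealSheafData) (h₁ : BlowUp.IsEffCartierIdeal D₁) (hle : D₂ ≤ D₁)
    (θ : ClSub.idealMod D₁ ≅ ClSub.idealMod D₂) : D₁ = D₂ := by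
  apply le_antisymm _ hle
  have hΦ₂ : ∀ (W : X.affineOpens) (t : Γ(ClSub.idealMod D₁, W.1)),
      ev (θ.hom ≫ ClSub.idealModι D₂) W.1 t ∈ D₂.ideal W :=
    fun W t => ev_mem D₂ W (θ.hom.app W.1 t)
  have hΦ : ∀ (W : X.affineOpens) (t : Γ(ClSub.idealMod D₁, W.1)),
      ev (θ.hom ≫ ClSub.idealModι D₂) W.1 t ∈ D₁.ideal W := fun W t => hle W (hΦ₂ W t)
  obtain ⟨l, hl⟩ := exists_isRatio h₁ hΦ
  haveI : Mono (ClSub.idealModι D₂) := inferInstance
  have hinj : ∀ V : X.Opens, Function.Injective ((θ.hom ≫ ClSub.idealModι D₂).app V) :=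
    fun V => Groth.Agent.Helper4.AffineDict.app_injective_of_mono _ V
  exact le_of_isUnit h₁ hl (hunit l (mem_nonZeroDivisors_of_isRatio h₁ hinj hl)) hΦ₂

end Groth.Agent.Lead.CartIsoEq
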