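import Groth.Agent.Helper4.StalkExact
import Mathlib

/-!
# Lead: epimorphisms and exactness of sheaves of modules from local lifting of sections
(light copies of `Helper1.TwistExact.epi_of_local_lift` and `Helper1.TildeExact.exact_of_local_lift`,
to keep import closures small)
-/

set_option autoImplicit false
open CategoryTheory CategoryTheory.Limits AlgebraicGeometry Opposite TopologicalSpace
universe u

namespace Groth.Agent.Lead.LocalLift

variable {X : Scheme.{u}}

/-- a morphism of modules along which sections lift locally is an epimorphism -/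
theorem epi_of_local_lift {F G : X.Modules} (p : F ⟶ G)
    (h : ∀ (T : X.Opens) (t : Γ(G, T)) (x : X), x ∈ T → ∃ (W : X.Opens) (hW : W ≤ T), x ∈ W ∧
      ∃ s : Γ(F, W), p.app W s = G.presheaf.map (homOfLE hW).op t) : Epi p := by
  suffices Epi ((SheafOfModules.toSheaf X.ringCatSheaf).map p) from
    (SheafOfModules.toSheaf X.ringCatSheaf).epi_of_epi_map this
  have h1 : TopCat.Presheaf.IsLocallySurjective
      ((SheafOfModules.toSheaf X.ringCatSheaf).map p).hom := by
    rw [TopCat.Presheaf.isLocallySurjective_iff]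
    intro T t x hx
    obtain ⟨W, hW, hxW, s, hs⟩ := h T t x hx
    exact ⟨W, hW, ⟨s, hs⟩, hxW⟩
  exact (TopCat.Sheaf.isLocallySurjective_iff_epi
    ((SheafOfModules.toSheaf X.ringCatSheaf).map p)).mp h1

/-- a short complex of modules along which kernel sections lift locally is exact -/
theorem exact_of_local_lift (S : ShortComplex X.Modules)
    (h : ∀ (T : X.Opens) (t : Γ(S.X₂, T)), S.g.app T t = 0 → ∀ x : X, x ∈ T →
      ∃ (W : X.Opens) (hW : W ≤ T), x ∈ W ∧
        ∃ r : Γ(S.X₁, W), S.f.app W r = S.X₂.presheaf.map (homOfLE hW).op t) : S.Exact := by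
  rw [S.exact_iff_epi_kernel_lift]
  apply epi_of_local_lift
  intro T k x hx
  have ht : S.g.app T ((kernel.ι S.g).app T k) = 0 := by
    have h1 : (kernel.ι S.g ≫ S.g).app T k = 0 := by
      rw [kernel.condition]
      rfl
    exact h1
  obtain ⟨W, hW, hxW, r, hr⟩ := h T _ ht x hx
  refine ⟨W, hW, hxW, r, ?_⟩
  apply Groth.Agent.Helper4.AffineDict.app_injective_of_mono (kernel.ι S.g) W
  have h2 : (kernel.ι S.g).app W ((kernel.lift S.g S.f S.zero).app W r) = S.f.app W r := by
    have h3 : (kernel.lift S.g S.f S.zero ≫ kernel.ι S.g).app W r = S.f.app W r := by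
      rw [kernel.lift_ι]
    exact h3
  rw [h2, hr]
  exact (Groth.Agent.Helper4.StalkExact.app_res (kernel.ι S.g) (homOfLE hW) k).symm

end Groth.Agent.Lead.LocalLift
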