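import Mathlib
import Groth.Prelude.Def_ClSub2
import Groth.Agent.Lead.CartIsoEq
import Groth.Agent.Lead.LocalLift
import Groth.Agent.Helper4.AssMono

/-!
# The sequence `0 → O → O/I₁ ⊕ O/I₂ → O/(I₁+I₂) → 0` for `I₁ ⊓ I₂ = 0` (S19606)
-/

set_option autoImplicit false
universe u
open CategoryTheory CategoryTheory.Limits AlgebraicGeometry TopologicalSpace Opposite

namespace Groth.Agent.Lead.QuotSeq

open Groth.Agent.Helper1.IdealMod (fn ofFn)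
open Groth.Agent.Lead.LiftPow (res res_res res_self)
open Groth.Agent.Lead.LefConn (mod_app_res)
open Groth.Agent.Lead.CartIsoEq (eq_of_locally)
open Groth.Agent.Lead.LocalLift (epi_of_local_lift exact_of_local_lift)

variable {X : Scheme.{u}}

theorem toSub_surj (I : X.IdealSheafData) (W : X.affineOpens) (t : Γ(ClSub.quotMod I, W.1)) :
    ∃ a : Γ(X, W.1), (ClSub.toSubscheme I).app W.1 (ofFn a) = t := by
  obtain ⟨a, ha⟩ := I.subschemeι_app_surjective W t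
  exact ⟨a, ha⟩

theorem toSub_eq_zero_iff (I : X.IdealSheafData) (W : X.affineOpens) (a : Γ(X, W.1)) :
    (ClSub.toSubscheme I).app W.1 (ofFn a) = 0 ↔ a ∈ I.ideal W := by
  rw [← I.ker_subschemeι_app W, RingHom.mem_ker]
  rfl

theorem exists_affine_nhd {T : X.Opens} {x : X} (hx : x ∈ T) :
    ∃ W : X.affineOpens, x ∈ W.1 ∧ W.1 ≤ T := by
  obtain ⟨_, ⟨W, hW, rfl⟩, hxW, hle⟩ :=
    X.isBasis_affineOpens.exists_subset_of_mem_open hx T.isOpen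
  exact ⟨⟨W, hW⟩, hxW, hle⟩

theorem epi_toSubscheme (I : X.IdealSheafData) : Epi (ClSub.toSubscheme I) := by
  apply epi_of_local_lift
  intro T t x hx
  obtain ⟨W, hxW, hle⟩ := exists_affine_nhd hx
  obtain ⟨a, ha⟩ := toSub_surj I W ((ClSub.quotMod I).presheaf.map (homOfLE hle).op t)
  exact ⟨W.1, hle, hxW, ofFn a, ha⟩

section Main
variable (I₁ I₂ : X.IdealSheafData)
  (q₁ : ClSub.quotMod I₁ ⟶ ClSub.quotMod (I₁ ⊔ I₂)) (q₂ : ClSub.quotMod I₂ ⟶ ClSub.quotMod (I₁ ⊔ I₂))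
  (hq₁ : ClSub.toSubscheme I₁ ≫ q₁ = ClSub.toSubscheme (I₁ ⊔ I₂))
  (hq₂ : ClSub.toSubscheme I₂ ≫ q₂ = ClSub.toSubscheme (I₁ ⊔ I₂))

include hq₁ in
theorem epi_desc : Epi (biprod.desc q₁ (-q₂)) := by
  haveI : Epi (ClSub.toSubscheme I₁ ≫ q₁) := by rw [hq₁]; exact epi_toSubscheme _
  haveI : Epi q₁ := epi_of_epi (ClSub.toSubscheme I₁) q₁
  haveI : Epi (biprod.inl ≫ biprod.desc q₁ (-q₂)) := by rw [biprod.inl_desc]; infer_instance
  exact epi_of_epi biprod.inl _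

include hq₁ hq₂ in
theorem w : biprod.lift (ClSub.toSubscheme I₁) (ClSub.toSubscheme I₂) ≫ biprod.desc q₁ (-q₂) = 0 := by
  rw [biprod.lift_desc, Preadditive.comp_neg, hq₁, hq₂, add_neg_cancel]

theorem desc_eq : biprod.desc q₁ (-q₂) = biprod.fst ≫ q₁ - biprod.snd ≫ q₂ := by
  apply biprod.hom_ext'
  · simp
  · simp

theorem total_app (A B : X.Modules) (W : X.Opens) (t : Γ((A ⊞ B : X.Modules), W)) :
    t = (biprod.inl : A ⟶ A ⊞ B).app W ((biprod.fst : A ⊞ B ⟶ A).app W t) +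
      (biprod.inr : B ⟶ A ⊞ B).app W ((biprod.snd : A ⊞ B ⟶ B).app W t) := by
  have h := congrArg (fun φ : (A ⊞ B : X.Modules) ⟶ A ⊞ B => φ.app W t)
    (biprod.total (X := A) (Y := B))
  exact h.symm

theorem lift_app (A B C : X.Modules) (f : C ⟶ A) (g : C ⟶ B) (W : X.Opens) (c : Γ(C, W)) :
    (biprod.lift f g).app W c =
      (biprod.inl : A ⟶ A ⊞ B).app W (f.app W c) + (biprod.inr : B ⟶ A ⊞ B).app W (g.app W c) := by
  have h := congrArg (fun φ : C ⟶ (A ⊞ B : X.Modules) => φ.app W c) (biprod.lift_eq (f := f) (g := g))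
  exact h

theorem fst_lift_app (A B C : X.Modules) (f : C ⟶ A) (g : C ⟶ B) (W : X.Opens) (c : Γ(C, W)) :
    (biprod.fst : A ⊞ B ⟶ A).app W ((biprod.lift f g).app W c) = f.app W c := by
  have h := congrArg (fun φ : C ⟶ A => φ.app W c) (biprod.lift_fst f g)
  exact h

theorem snd_lift_app (A B C : X.Modules) (f : C ⟶ A) (g : C ⟶ B) (W : X.Opens) (c : Γ(C, W)) :
    (biprod.snd : A ⊞ B ⟶ B).app W ((biprod.lift f g).app W c) = g.app W c := by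
  have h := congrArg (fun φ : C ⟶ B => φ.app W c) (biprod.lift_snd f g)
  exact h

include hq₁ in
theorem q₁_app (W : X.Opens) (a : Γ(X, W)) :
    q₁.app W ((ClSub.toSubscheme I₁).app W (ofFn a)) =
      (ClSub.toSubscheme (I₁ ⊔ I₂)).app W (ofFn a) := by
  have h := congrArg (fun φ : Coh.structureModule X ⟶ ClSub.quotMod (I₁ ⊔ I₂) =>
    φ.app W (ofFn a)) hq₁
  exact h

include hq₂ in
theorem q₂_app (W : X.Opens) (a : Γ(X, W)) :
    q₂.app W ((ClSub.toSubscheme I₂).app W (ofFn a)) =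
      (ClSub.toSubscheme (I₁ ⊔ I₂)).app W (ofFn a) := by
  have h := congrArg (fun φ : Coh.structureModule X ⟶ ClSub.quotMod (I₁ ⊔ I₂) =>
    φ.app W (ofFn a)) hq₂
  exact h

theorem mono_lift (h : I₁ ⊓ I₂ = ⊥) :
    Mono (biprod.lift (ClSub.toSubscheme I₁) (ClSub.toSubscheme I₂)) := by
  apply Groth.Agent.Helper4.AssMono.mono_of_app_injective
  intro T
  rw [injective_iff_map_eq_zero]
  intro a ha
  have h1 : (ClSub.toSubscheme I₁).app T a = 0 := by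
    rw [← fst_lift_app _ _ _ (ClSub.toSubscheme I₁) (ClSub.toSubscheme I₂), ha, map_zero]
  have h2 : (ClSub.toSubscheme I₂).app T a = 0 := by
    rw [← snd_lift_app _ _ _ (ClSub.toSubscheme I₁) (ClSub.toSubscheme I₂), ha, map_zero]
  change fn a = (0 : Γ(X, T))
  apply eq_of_locally
  intro z hz
  obtain ⟨W, hzW, hle⟩ := exists_affine_nhd hz
  refine ⟨W.1, hle, hzW, ?_⟩
  rw [map_zero]
  have h3 : (ClSub.toSubscheme I₁).app W.1 (ofFn (res hle (fn a))) = 0 := by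
    have := mod_app_res (ClSub.toSubscheme I₁) hle a
    rw [h1, map_zero] at this
    exact this.symm
  have h4 : (ClSub.toSubscheme I₂).app W.1 (ofFn (res hle (fn a))) = 0 := by
    have := mod_app_res (ClSub.toSubscheme I₂) hle a
    rw [h2, map_zero] at this
    exact this.symm
  have h5 : res hle (fn a) ∈ (I₁ ⊓ I₂).ideal W :=
    ⟨(toSub_eq_zero_iff I₁ W _).1 h3, (toSub_eq_zero_iff I₂ W _).1 h4⟩
  rw [h] at h5
  exact h5

include hq₁ hq₂ in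
theorem exact_seq :
    (ShortComplex.mk (biprod.lift (ClSub.toSubscheme I₁) (ClSub.toSubscheme I₂))
      (biprod.desc q₁ (-q₂)) (w I₁ I₂ q₁ q₂ hq₁ hq₂)).Exact := by
  apply exact_of_local_lift
  intro T t ht x hx
  obtain ⟨W, hxW, hle⟩ := exists_affine_nhd hx
  refine ⟨W.1, hle, hxW, ?_⟩
  change ∃ r : Γ(Coh.structureModule X, W.1),
    (biprod.lift (ClSub.toSubscheme I₁) (ClSub.toSubscheme I₂)).app W.1 r =
      (ClSub.quotMod I₁ ⊞ ClSub.quotMod I₂ : X.Modules).presheaf.map (homOfLE hle).op t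
  change (biprod.desc q₁ (-q₂)).app T t = 0 at ht
  obtain ⟨t', ht'⟩ : ∃ t' : Γ((ClSub.quotMod I₁ ⊞ ClSub.quotMod I₂ : X.Modules), W.1),
      t' = (ClSub.quotMod I₁ ⊞ ClSub.quotMod I₂ : X.Modules).presheaf.map (homOfLE hle).op t :=
    ⟨_, rfl⟩
  rw [← ht']
  have ht0 : (biprod.desc q₁ (-q₂)).app W.1 t' = 0 := by
    rw [ht', ← mod_app_res (biprod.desc q₁ (-q₂)) hle t, ht, map_zero]
  obtain ⟨a₁, ha₁⟩ := toSub_surj I₁ W ((biprod.fst : ClSub.quotMod I₁ ⊞ ClSub.quotMod I₂ ⟶ _).app W.1 t')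
  obtain ⟨a₂, ha₂⟩ := toSub_surj I₂ W ((biprod.snd : ClSub.quotMod I₁ ⊞ ClSub.quotMod I₂ ⟶ _).app W.1 t')
  have h1 : (ClSub.toSubscheme (I₁ ⊔ I₂)).app W.1 (ofFn (a₁ - a₂)) = 0 := by
    have e1 : (ofFn (a₁ - a₂) : Γ(Coh.structureModule X, W.1)) = ofFn a₁ - ofFn a₂ := rfl
    rw [e1, map_sub, ← q₁_app I₁ I₂ q₁ hq₁, ← q₂_app I₁ I₂ q₂ hq₂, ha₁, ha₂]
    rw [desc_eq] at ht0
    exact ht0
  have h2 := (toSub_eq_zero_iff (I₁ ⊔ I₂) W _).1 h1
  obtain ⟨b₁, hb₁, b₂, hb₂, hb⟩ := Submodule.mem_sup.mp h2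
  have hb₁' := (toSub_eq_zero_iff I₁ W b₁).2 hb₁
  have hb₂' := (toSub_eq_zero_iff I₂ W b₂).2 hb₂
  refine ⟨ofFn (a₁ - b₁), ?_⟩
  rw [lift_app, total_app _ _ W.1 t']
  congr 2
  · have e1 : (ofFn (a₁ - b₁) : Γ(Coh.structureModule X, W.1)) = ofFn a₁ - ofFn b₁ := rfl
    rw [e1, map_sub, hb₁', sub_zero, ha₁]
  · have e2 : a₁ - b₁ = a₂ + b₂ := by
      have : b₁ + b₂ = a₁ - a₂ := hb
      linear_combination -this
    have e1 : (ofFn (a₂ + b₂) : Γ(Coh.structureModule X, W.1)) = ofFn a₂ + ofFn b₂ := rfl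
    rw [e2, e1, map_add, hb₂', add_zero, ha₂]

include hq₁ hq₂ in
theorem main (h : I₁ ⊓ I₂ = ⊥) :
    Epi (biprod.desc q₁ (-q₂)) ∧
      ∃ w : biprod.lift (ClSub.toSubscheme I₁) (ClSub.toSubscheme I₂) ≫ biprod.desc q₁ (-q₂) = 0,
        Nonempty (IsLimit (KernelFork.ofι
          (biprod.lift (ClSub.toSubscheme I₁) (ClSub.toSubscheme I₂)) w)) := by
  refine ⟨epi_desc I₁ I₂ q₁ q₂ hq₁, w I₁ I₂ q₁ q₂ hq₁ hq₂, ?_⟩
  haveI := mono_lift I₁ I₂ h
  exact ⟨(exact_seq I₁ I₂ q₁ q₂ hq₁ hq₂).fIsKernel⟩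

end Main

end Groth.Agent.Lead.QuotSeq
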