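import Mathlib

set_option autoImplicit false
open CategoryTheory AlgebraicGeometry Limits Opposite Polynomial
universe u

namespace Groth.Agent.Lead.ThickInt

theorem isIntegral_of_thick {A' A B' B : Type*} [CommRing A'] [CommRing A] [CommRing B'] [CommRing B]
    (φ' : A' →+* B') (φ : A →+* B) (α : A' →+* A) (β : B' →+* B)
    (hα : Function.Surjective α) (hβ : RingHom.ker β ≤ nilradical B')
    (hcomm : β.comp φ' = φ.comp α) (hφ : φ.IsIntegral) : φ'.IsIntegral := by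
  intro b'
  rcases subsingleton_or_nontrivial A with hA | hA
  · have hB : (1 : B) = 0 := by
      rw [← map_one φ, Subsingleton.elim (1 : A) 0, map_zero]
    have h1 : (1 : B') ∈ RingHom.ker β := by
      rw [RingHom.mem_ker, map_one, hB]
    obtain ⟨n, hn⟩ := hβ h1
    rw [one_pow] at hn
    refine ⟨Polynomial.X, Polynomial.monic_X, ?_⟩
    rw [Polynomial.eval₂_X, ← mul_one b', hn, mul_zero]
  obtain ⟨p, hp_monic, hp⟩ := hφ (β b')
  have hlift : p ∈ Polynomial.lifts α := by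
    obtain ⟨q₀, hq₀⟩ := Polynomial.map_surjective α hα p
    exact (Polynomial.mem_lifts p).2 ⟨q₀, hq₀⟩
  obtain ⟨q, hq, -, hq_monic⟩ := Polynomial.lifts_and_degree_eq_and_monic hlift hp_monic
  have h1 : β (q.eval₂ φ' b') = 0 := by
    rw [Polynomial.hom_eval₂, hcomm, ← Polynomial.eval₂_map, hq, hp]
  obtain ⟨n, hn⟩ := hβ ((RingHom.mem_ker).2 h1)
  refine ⟨q ^ n, hq_monic.pow n, ?_⟩
  rw [Polynomial.eval₂_pow, hn]

theorem ker_app_le_nilradical {X X' : Scheme.{u}} (t : X ⟶ X') (hsurj : Function.Surjective t)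
    {U : X'.Opens} (hU : IsAffineOpen U) :
    RingHom.ker (t.app U).hom ≤ nilradical Γ(X', U) := by
  intro x hx
  rw [mem_nilradical, ← PrimeSpectrum.basicOpen_eq_bot_iff]
  have h1 : t ⁻¹ᵁ X'.basicOpen x = ⊥ := by
    rw [Scheme.preimage_basicOpen, show (t.app U).hom x = 0 from hx, Scheme.basicOpen_zero]
  have h2 : X'.basicOpen x = ⊥ := by
    rw [eq_bot_iff]
    intro y hy
    obtain ⟨z, rfl⟩ := hsurj y
    have : z ∈ t ⁻¹ᵁ X'.basicOpen x := hy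
    rw [h1] at this
    exact this
  rw [← hU.fromSpec_preimage_basicOpen, h2]
  rfl

theorem appLE_congr {X Y : Scheme.{u}} {g₁ g₂ : X ⟶ Y} (h : g₁ = g₂) (U : Y.Opens) (T : X.Opens)
    (e₁ : T ≤ g₁ ⁻¹ᵁ U) (e₂ : T ≤ g₂ ⁻¹ᵁ U) : g₁.appLE U T e₁ = g₂.appLE U T e₂ := by
  subst h; rfl

variable {X X' S S' : Scheme.{u}} (iX : X ⟶ X') (iS : S ⟶ S') (f : X ⟶ S) (f' : X' ⟶ S')
  (w : iX ≫ f' = f ≫ iS)

include w in
theorem isIntegralHom_of_thick [IsClosedImmersion iX] [Surjective iX] [IsClosedImmersion iS]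
    [IsIntegralHom f] [IsAffineHom f'] : IsIntegralHom f' := by
  refine { toIsAffineHom := inferInstance, isIntegral_app := fun V' hV' => ?_ }
  have hpt : ∀ x : X, f' (iX x) = iS (f x) := fun x => by
    rw [← Scheme.Hom.comp_apply, w, Scheme.Hom.comp_apply]
  have hW' : IsAffineOpen (f' ⁻¹ᵁ V') := hV'.preimage f'
  have hV : IsAffineOpen (iS ⁻¹ᵁ V') := hV'.preimage iS
  have e : iX ⁻¹ᵁ (f' ⁻¹ᵁ V') ≤ f ⁻¹ᵁ (iS ⁻¹ᵁ V') := by
    intro x hx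
    change iS (f x) ∈ V'
    rw [← hpt]; exact hx
  have e' : f ⁻¹ᵁ (iS ⁻¹ᵁ V') ≤ iX ⁻¹ᵁ (f' ⁻¹ᵁ V') := by
    intro x hx
    change f' (iX x) ∈ V'
    rw [hpt]; exact hx
  refine isIntegral_of_thick (f'.app V').hom (f.appLE (iS ⁻¹ᵁ V') (iX ⁻¹ᵁ (f' ⁻¹ᵁ V')) e).hom
    (iS.app V').hom (iX.app (f' ⁻¹ᵁ V')).hom (iS.app_surjective V' hV')
    (ker_app_le_nilradical iX iX.surjective hW') ?_ ?_
  · have h1 : f'.app V' ≫ iX.app (f' ⁻¹ᵁ V') =
        iS.app V' ≫ f.appLE (iS ⁻¹ᵁ V') (iX ⁻¹ᵁ (f' ⁻¹ᵁ V')) e := by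
      have h2 : f'.app V' ≫ iX.app (f' ⁻¹ᵁ V') =
          (iX ≫ f').appLE V' (iX ⁻¹ᵁ (f' ⁻¹ᵁ V')) (le_refl _) := by
        rw [Scheme.Hom.app_eq_appLE, Scheme.Hom.app_eq_appLE, Scheme.Hom.appLE_comp_appLE]
      have h3 : iS.app V' ≫ f.appLE (iS ⁻¹ᵁ V') (iX ⁻¹ᵁ (f' ⁻¹ᵁ V')) e =
          (f ≫ iS).appLE V' (iX ⁻¹ᵁ (f' ⁻¹ᵁ V')) e := by
        rw [Scheme.Hom.app_eq_appLE, Scheme.Hom.appLE_comp_appLE]
      rw [h2, h3]
      exact appLE_congr w _ _ _ _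
    have := congrArg CommRingCat.Hom.hom h1
    simpa using this
  · have h1 : f.appLE (iS ⁻¹ᵁ V') (iX ⁻¹ᵁ (f' ⁻¹ᵁ V')) e =
        f.app (iS ⁻¹ᵁ V') ≫ X.presheaf.map (homOfLE e).op := rfl
    rw [h1, CommRingCat.hom_comp]
    refine RingHom.IsIntegral.trans _ _ (f.isIntegral_app _ hV) ?_
    apply RingHom.isIntegral_of_surjective
    intro y
    refine ⟨(X.presheaf.map (homOfLE e').op).hom y, ?_⟩
    rw [← CommRingCat.comp_apply, ← Functor.map_comp]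
    have : (homOfLE e').op ≫ (homOfLE e).op = 𝟙 _ := Subsingleton.elim _ _
    rw [this, CategoryTheory.Functor.map_id]
    rfl

end Groth.Agent.Lead.ThickInt
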