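import Mathlib
import Groth.Agent.Helper4.Scalar
import Groth.Agent.Helper4.QcohLocal

/-!
# Lead: the pullback of sections (unit of the pullback–pushforward adjunction on sections)
-/

set_option autoImplicit false
open CategoryTheory AlgebraicGeometry Opposite TopologicalSpace
universe u

namespace Groth.Agent.Lead.BCMap
open Scheme.Modules

variable {X Y : Scheme.{u}} (f : X ⟶ Y) (F : Y.Modules)

/-- the unit of the adjunction on sections over `U`, followed by restriction to `V ≤ f⁻¹U` -/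
noncomputable def pbSec (U : Y.Opens) (V : X.Opens) (e : V ≤ f ⁻¹ᵁ U) :
    Γ(F, U) →+ Γ((pullback f).obj F, V) :=
  (((pullback f).obj F).presheaf.map (homOfLE e).op).hom.comp
    (((pullbackPushforwardAdjunction f).unit.app F).app U).hom

theorem pbSec_apply (U : Y.Opens) (V : X.Opens) (e : V ≤ f ⁻¹ᵁ U) (m : Γ(F, U)) :
    pbSec f F U V e m = ((pullback f).obj F).presheaf.map (homOfLE e).op
      (((pullbackPushforwardAdjunction f).unit.app F).app U m) := rfl

theorem pbSec_smul (U : Y.Opens) (V : X.Opens) (e : V ≤ f ⁻¹ᵁ U) (a : Γ(Y, U)) (m : Γ(F, U)) :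
    pbSec f F U V e (a • m) = f.appLE U V e a • pbSec f F U V e m := by
  rw [pbSec_apply, pbSec_apply, Hom.app_smul]
  erw [Groth.Agent.Helper4.Scalar.pushforward_smul]
  rw [Scheme.Modules.map_smul]
  rfl


/-- naturality of `pbSec` in the module -/
theorem pbSec_naturality {F G : Y.Modules} (φ : F ⟶ G) (U : Y.Opens) (V : X.Opens)
    (e : V ≤ f ⁻¹ᵁ U) (m : Γ(F, U)) :
    pbSec f G U V e (φ.app U m) = ((Scheme.Modules.pullback f).map φ).app V (pbSec f F U V e m) := by
  rw [pbSec_apply, pbSec_apply]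
  have h1 := (pullbackPushforwardAdjunction f).unit.naturality φ
  have h2 := congrArg (fun ψ => (Scheme.Modules.Hom.app ψ U) m) h1
  simp only [Functor.id_map, Functor.comp_map, Hom.comp_app] at h2
  erw [h2]
  exact (congrArg (fun ψ => ψ.hom (((pullbackPushforwardAdjunction f).unit.app F).app U m))
    (((Scheme.Modules.pullback f).map φ).mapPresheaf.naturality (homOfLE e).op)).symm

/-- compatibility of `pbSec` with restrictions -/
theorem pbSec_res {U₁ U₂ : Y.Opens} {V₁ V₂ : X.Opens} (e₁ : V₁ ≤ f ⁻¹ᵁ U₁) (e₂ : V₂ ≤ f ⁻¹ᵁ U₂)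
    (hU : U₂ ≤ U₁) (hV : V₂ ≤ V₁) (m : Γ(F, U₁)) :
    pbSec f F U₂ V₂ e₂ (F.presheaf.map (homOfLE hU).op m) =
      ((Scheme.Modules.pullback f).obj F).presheaf.map (homOfLE hV).op (pbSec f F U₁ V₁ e₁ m) := by
  rw [pbSec_apply, pbSec_apply]
  have h2 := Groth.Agent.Helper4.StalkExact.app_res
    ((pullbackPushforwardAdjunction f).unit.app F) (homOfLE hU) m
  erw [h2]
  erw [Groth.Agent.Helper4.QcohGlue.map_map_thin ((Scheme.Modules.pullback f).obj F)
    (homOfLE e₁).op (homOfLE hV).op (homOfLE (hV.trans e₁)).op]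
  exact Groth.Agent.Helper4.QcohGlue.map_map_thin ((Scheme.Modules.pullback f).obj F)
    ((Opens.map f.base).map (homOfLE hU)).op (homOfLE e₂).op (homOfLE (hV.trans e₁)).op _

/-- the adjunct of `ψ : f^*F ⟶ G` on sections -/
theorem homEquiv_app {G : X.Modules} (ψ : (Scheme.Modules.pullback f).obj F ⟶ G) (U : Y.Opens)
    (V : X.Opens) (e : V ≤ f ⁻¹ᵁ U) (m : Γ(F, U)) :
    G.presheaf.map (homOfLE e).op
        ((((pullbackPushforwardAdjunction f).homEquiv F G) ψ).app U m) =
      ψ.app V (pbSec f F U V e m) := by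
  rw [Adjunction.homEquiv_unit, pbSec_apply]
  simp only [Hom.comp_app]
  erw [ConcreteCategory.comp_apply]
  rw [pushforward_map_app]
  exact (congrArg (fun χ => χ.hom (((pullbackPushforwardAdjunction f).unit.app F).app U m))
    (ψ.mapPresheaf.naturality (homOfLE e).op)).symm

end Groth.Agent.Lead.BCMap
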