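import Mathlib
import Groth.Prelude.Def_Coh
import Groth.Agent.Lead.ProperFinA
import Groth.Agent.Helper1.Dev4
import Groth.Agent.S0002

universe u
open AlgebraicGeometry CategoryTheory Limits Opposite TopologicalSpace

namespace Groth.Agent.Lead.ProperFinB

variable {X S : Scheme.{u}} (f : X ⟶ S)

theorem finite_app [IsProper f] [IsLocallyNoetherian S] (U : S.affineOpens) :
    (f.app U.1).hom.Finite := by
  apply Groth.Agent.Lead.ProperFinA.finite_app_of_finite_restrict f U.2
  haveI : IsNoetherianRing Γ(S, U.1) := IsLocallyNoetherian.component_noetherian U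
  let g : (f ⁻¹ᵁ U.1 : Scheme.{u}) ⟶ Spec (CommRingCat.of Γ(S, U.1)) := (f ∣_ U.1) ≫ U.2.isoSpec.hom
  haveI : IsProper g := by
    dsimp only [g]; infer_instance
  apply Groth.Agent.Lead.ProperFinA.finite_toGlobal g
  letI : (f ⁻¹ᵁ U.1 : Scheme.{u}).Over (Spec (CommRingCat.of Γ(S, U.1))) := ⟨g⟩
  haveI : IsProper ((f ⁻¹ᵁ U.1 : Scheme.{u}) ↘ Spec (CommRingCat.of Γ(S, U.1))) :=
    inferInstanceAs (IsProper g)
  exact Groth.Agent.S0002.result Γ(S, U.1) _ _
    (Groth.Agent.Helper1.Dev.isCoh_structureModule _) 0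

theorem main [IsProper f] [IsLocallyNoetherian S] : IsFinite f.fromNormalization := by
  apply Groth.Agent.Lead.ProperFinA.isFinite_fromNormalization_of_finite_app f
  · intro U; exact IsLocallyNoetherian.component_noetherian U
  · intro U; exact finite_app f U

end Groth.Agent.Lead.ProperFinB
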