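import Mathlib
import Groth.Agent.Lead.Thick2
import Groth.Agent.Lead.Thick3

set_option autoImplicit false
open CategoryTheory AlgebraicGeometry Limits Opposite TensorProduct
universe u

namespace Groth.Agent.Lead.Thick

variable {X X' : Scheme.{u}} (t : X ⟶ X') [IsClosedImmersion t]

/-- **a thickening of an affine scheme is affine** -/
theorem isAffine_of_thickening (ht : Function.Surjective t) [IsAffine X] : IsAffine X' := by
  haveI : CompactSpace X' := by
    constructor
    rw [← Set.range_eq_univ.mpr ht]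
    exact isCompact_range t.continuous
  haveI : QuasiSeparatedSpace X' := by
    have hh : IsHomeomorph t := isHomeomorph_iff_isEmbedding_surjective.mpr ⟨t.isEmbedding, ht⟩
    exact (quasiSeparatedSpace_congr hh.homeomorph).1 inferInstance
  haveI : ∀ J : (Idx t)ᵒᵖ, CompactSpace ((D t).obj J) := fun J =>
    show CompactSpace J.unop.1.subscheme from
      QuasiCompact.compactSpace_of_compactSpace J.unop.1.subschemeι
  haveI : ∀ J : (Idx t)ᵒᵖ, QuasiSeparatedSpace ((D t).obj J) := fun J =>
    show QuasiSeparatedSpace J.unop.1.subscheme from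
      quasiSeparatedSpace_of_quasiSeparated J.unop.1.subschemeι
  haveI : IsAffine (cone t).pt := inferInstanceAs (IsAffine X)
  obtain ⟨J, hJ⟩ := Scheme.exists_isAffine_of_isLimit (D t) (cone t) (isLimitCone t)
  have hJ' : IsAffine J.unop.1.subscheme := hJ
  obtain ⟨n, hn⟩ := exists_pow_eq_bot t ht J.unop.1 J.unop.2.1 J.unop.2.2
  have hsurj : Function.Surjective J.unop.1.subschemeι := by
    intro x
    obtain ⟨y, rfl⟩ := ht x
    refine ⟨π t J.unop y, ?_⟩
    rw [← Scheme.Hom.comp_apply, π_fac]
  refine isAffine_of_nilpotent J.unop.1.subschemeι hsurj n ?_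
  intro U hU
  have h1 : RingHom.ker (J.unop.1.subschemeι.app U).hom = J.unop.1.ideal ⟨U, hU⟩ :=
    Scheme.IdealSheafData.ker_subschemeι_app J.unop.1 ⟨U, hU⟩
  rw [h1]
  have h2 := congrArg (fun K : X'.IdealSheafData => K.ideal ⟨U, hU⟩) hn
  exact h2

end Groth.Agent.Lead.Thick
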