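import Mathlib
import Groth.Agent.Lead.ThickBC

set_option autoImplicit false
open CategoryTheory AlgebraicGeometry Limits
open scoped TensorProduct
universe u

namespace Groth.Agent.Lead.ThickBC

section kaehler

/-- if `B = B'/K` with `K` generated by the image of an ideal `J` of `A'`, and `Ω[B⁄A'] = 0`,
then `Ω[B'⁄A'] = K Ω[B'⁄A']`. -/
theorem kaehler_top_le_smul_top (A' B' B : Type u) [CommRing A'] [CommRing B'] [CommRing B]
    [Algebra A' B'] [Algebra B' B] [Algebra A' B] [IsScalarTower A' B' B]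
    (hsurj : Function.Surjective (algebraMap B' B)) (J : Ideal A')
    (hker : RingHom.ker (algebraMap B' B) = J.map (algebraMap A' B'))
    [Subsingleton (Ω[B⁄A'])] :
    (⊤ : Submodule B' (Ω[B'⁄A'])) ≤ (J.map (algebraMap A' B')) • ⊤ := by
  -- step 1: `B ⊗[B'] Ω[B'⁄A']` is trivial
  have hzero : ∀ x ∈ RingHom.ker (algebraMap B' B),
      (1 : B) ⊗ₜ[B'] (KaehlerDifferential.D A' B' x) = 0 := by
    intro x hx
    rw [hker, Ideal.map, ] at hx
    induction hx using Submodule.span_induction with
    | mem x hx =>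
      obtain ⟨a, ha, rfl⟩ := hx
      rw [Derivation.map_algebraMap, TensorProduct.tmul_zero]
    | zero => rw [map_zero, TensorProduct.tmul_zero]
    | add x y _ _ hx hy => rw [map_add, TensorProduct.tmul_add, hx, hy, add_zero]
    | smul b x hxm hx =>
      rw [smul_eq_mul, Derivation.leibniz, TensorProduct.tmul_add, TensorProduct.tmul_smul, hx,
        smul_zero, zero_add, ← TensorProduct.smul_tmul, Algebra.smul_def, mul_one]
      have hxk : x ∈ RingHom.ker (algebraMap B' B) := by
        rw [hker]; exact hxm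
      rw [RingHom.mem_ker.mp hxk, TensorProduct.zero_tmul]
  have hsub : Subsingleton (B ⊗[B'] Ω[B'⁄A']) := by
    refine ⟨fun s t => ?_⟩
    suffices ∀ s : B ⊗[B'] Ω[B'⁄A'], s = 0 by rw [this s, this t]
    intro s
    have hs : s ∈ LinearMap.ker (KaehlerDifferential.mapBaseChange A' B' B) :=
      LinearMap.mem_ker.mpr (Subsingleton.elim _ _)
    have hex := KaehlerDifferential.exact_kerCotangentToTensor_mapBaseChange A' B' B hsurj
    obtain ⟨c, rfl⟩ := (hex s).mp (LinearMap.mem_ker.mp hs)
    obtain ⟨x, rfl⟩ := Ideal.toCotangent_surjective _ c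
    rw [KaehlerDifferential.kerCotangentToTensor_toCotangent]
    exact hzero x.1 x.2
  -- step 2: transport to the quotient
  let K : Ideal B' := J.map (algebraMap A' B')
  let e : (B' ⧸ K) ≃ₗ[B'] B :=
    ((Ideal.quotientEquivAlgOfEq B' hker.symm).trans
      (Ideal.quotientKerAlgEquivOfSurjective (f := Algebra.ofId B' B) hsurj)).toLinearEquiv
  have hsub2 : Subsingleton ((B' ⧸ K) ⊗[B'] Ω[B'⁄A']) :=
    (TensorProduct.congr e (LinearEquiv.refl B' (Ω[B'⁄A']))).toEquiv.subsingleton
  have hsub3 : Subsingleton (Ω[B'⁄A'] ⧸ (K • (⊤ : Submodule B' (Ω[B'⁄A'])))) :=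
    (TensorProduct.quotTensorEquivQuotSMul (Ω[B'⁄A']) K).symm.toEquiv.subsingleton
  exact (Submodule.Quotient.subsingleton_iff.mp hsub3).ge


/-- ring hom version: `Ω[B'⁄A'] = K Ω[B'⁄A']` when the reduction is formally unramified -/
theorem kaehler_top_le_of_ringHom {A' B' A B : Type u} [CommRing A'] [CommRing B'] [CommRing A]
    [CommRing B] (φ' : A' →+* B') (φ : A →+* B) (πA : A' →+* A) (πB : B' →+* B)
    (hcomm : φ.comp πA = πB.comp φ') (hπA : Function.Surjective πA)
    (hπB : Function.Surjective πB)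
    (hker : RingHom.ker πB = (RingHom.ker πA).map φ') (hφ : φ.FormallyUnramified) :
    letI := φ'.toAlgebra
    (⊤ : Submodule B' (Ω[B'⁄A'])) ≤ ((RingHom.ker πA).map φ') • ⊤ := by
  have h1 : (πB.comp φ').FormallyUnramified := by
    rw [← hcomm]
    exact (RingHom.FormallyUnramified.of_surjective hπA).comp hφ
  algebraize [φ', πB, πB.comp φ']
  haveI : Subsingleton (Ω[B⁄A']) := inferInstance
  exact kaehler_top_le_smul_top A' B' B hπB (RingHom.ker πA) hker

/-- formally unramified lifts along nilpotent thickenings -/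
theorem formallyUnramified_of_nilpotent {A' B' A B : Type u} [CommRing A'] [CommRing B']
    [CommRing A] [CommRing B] (φ' : A' →+* B') (φ : A →+* B) (πA : A' →+* A) (πB : B' →+* B)
    (hcomm : φ.comp πA = πB.comp φ') (hπA : Function.Surjective πA)
    (hπB : Function.Surjective πB) (n : ℕ) (hnil : (RingHom.ker πA) ^ n = ⊥)
    (hker : RingHom.ker πB = (RingHom.ker πA).map φ') (hφ : φ.FormallyUnramified) :
    φ'.FormallyUnramified := by
  have h := kaehler_top_le_of_ringHom φ' φ πA πB hcomm hπA hπB hker hφ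
  letI := φ'.toAlgebra
  have hK : ((RingHom.ker πA).map φ') ^ n = ⊥ := by
    rw [← Ideal.map_pow, hnil, Ideal.map_bot]
  have := eq_bot_of_le_smul _ n hK (⊤ : Submodule B' (Ω[B'⁄A'])) h
  show Algebra.FormallyUnramified A' B'
  exact ⟨(Submodule.subsingleton_iff B').mp (subsingleton_of_bot_eq_top this.symm)⟩

/-- formally unramified lifts along nil thickenings for finite type algebras -/
theorem formallyUnramified_of_nil_of_finiteType {A' B' A B : Type u} [CommRing A'] [CommRing B']
    [CommRing A] [CommRing B] (φ' : A' →+* B') (φ : A →+* B) (πA : A' →+* A) (πB : B' →+* B)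
    (hcomm : φ.comp πA = πB.comp φ') (hπA : Function.Surjective πA)
    (hπB : Function.Surjective πB) (hnil : RingHom.ker πA ≤ nilradical A')
    (hker : RingHom.ker πB = (RingHom.ker πA).map φ') (hft : φ'.FiniteType)
    (hφ : φ.FormallyUnramified) :
    φ'.FormallyUnramified := by
  have h := kaehler_top_le_of_ringHom φ' φ πA πB hcomm hπA hπB hker hφ
  algebraize [φ']
  have hK : (RingHom.ker πA).map (algebraMap A' B') ≤ (⊥ : Ideal B').jacobson := by
    rw [Ideal.map_le_iff_le_comap]
    intro a ha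
    have h1 : IsNilpotent a := hnil ha
    have h2 : IsNilpotent (algebraMap A' B' a) := h1.map _
    exact Ideal.radical_le_jacobson (by rw [← Ideal.zero_eq_bot]; exact mem_nilradical.mpr h2)
  have hfin : (⊤ : Submodule B' (Ω[B'⁄A'])).FG := Module.Finite.fg_top
  have := Submodule.eq_bot_of_le_smul_of_le_jacobson_bot _ _ hfin h hK
  show Algebra.FormallyUnramified A' B'
  exact ⟨(Submodule.subsingleton_iff B').mp (subsingleton_of_bot_eq_top this.symm)⟩

end kaehler


section schemes

variable {X X' S S' : Scheme.{u}} {iX : X ⟶ X'} {iS : S ⟶ S'} {f : X ⟶ S} {f' : X' ⟶ S'}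

/-- on an affine open, inclusion of supports gives inclusion in the radical -/
theorem ideal_le_radical {Y : Scheme.{u}} (I I' : Y.IdealSheafData) (V : Y.affineOpens)
    (hZ : (I'.support : Set Y) ⊆ (I.support : Set Y)) :
    I.ideal V ≤ (I'.ideal V).radical := by
  rw [← PrimeSpectrum.zeroLocus_subset_zeroLocus_iff]
  have h1 : Y.zeroLocus (U := V.1) (I'.ideal V) ∩ V ⊆ Y.zeroLocus (U := V.1) (I.ideal V) ∩ V := by
    rw [← I'.coe_support_inter V, ← I.coe_support_inter V]
    exact Set.inter_subset_inter_left _ hZ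
  rw [← V.2.fromSpec_image_zeroLocus, ← V.2.fromSpec_image_zeroLocus] at h1
  exact (Set.image_subset_image_iff V.2.fromSpec.isOpenEmbedding.injective).mp h1

/-- the kernel of a surjective closed immersion consists of nilpotents -/
theorem ker_le_nilradical (iS : S ⟶ S') [IsClosedImmersion iS] [Surjective iS]
    (V' : S'.affineOpens) : RingHom.ker (iS.app V'.1).hom ≤ nilradical Γ(S', V'.1) := by
  rw [← Scheme.Hom.ker_apply]
  have hsupp : ((⊥ : S'.IdealSheafData).support : Set S') ⊆ (iS.ker.support : Set S') := by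
    rw [Scheme.Hom.support_ker]
    intro y _
    have : Set.range iS = Set.univ := Set.range_eq_univ.mpr iS.surjective
    simp [this]
  have := ideal_le_radical iS.ker ⊥ V' hsupp
  have h2 : (⊥ : S'.IdealSheafData).ideal V' = ⊥ := rfl
  rw [h2] at this
  intro a ha
  have := this ha
  rw [← Ideal.zero_eq_bot] at this
  exact this

/-- generic lifting principle along base changes of closed immersions -/
theorem lift_of_isPullback (P : MorphismProperty Scheme.{u})
    (Q : ∀ {R T : Type u} [CommRing R] [CommRing T], (R →+* T) → Prop)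
    [HasRingHomProperty P Q]
    (hc : IsPullback iX f f' iS) [IsClosedImmersion iS]
    (hQ : ∀ (V' : S'.affineOpens) (U' : X'.affineOpens) (e : U'.1 ≤ f' ⁻¹ᵁ V'.1),
      Q (f.appLE (iS ⁻¹ᵁ V'.1) (iX ⁻¹ᵁ U'.1) (preimage_le hc V'.1 U'.1 e)).hom →
        Q (f'.appLE V'.1 U'.1 e).hom)
    (h : P f) : P f' := by
  haveI := isClosedImmersion_of_isPullback hc
  rw [HasRingHomProperty.iff_appLE (P := P)]
  intro V' U' e
  have hV : IsAffineOpen (iS ⁻¹ᵁ V'.1) := V'.2.preimage iS
  have hU : IsAffineOpen (iX ⁻¹ᵁ U'.1) := U'.2.preimage iX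
  exact hQ V' U' e ((HasRingHomProperty.iff_appLE (P := P)).mp h ⟨_, hV⟩ ⟨_, hU⟩ _)

/-- the algebraic facts about the square of sections -/
theorem square_facts (hc : IsPullback iX f f' iS) [IsClosedImmersion iS]
    (V' : S'.affineOpens) (U' : X'.affineOpens) (e : U'.1 ≤ f' ⁻¹ᵁ V'.1) :
    (f.appLE (iS ⁻¹ᵁ V'.1) (iX ⁻¹ᵁ U'.1) (preimage_le hc V'.1 U'.1 e)).hom.comp (iS.app V'.1).hom =
        (iX.app U'.1).hom.comp (f'.appLE V'.1 U'.1 e).hom ∧
      Function.Surjective (iS.app V'.1).hom ∧ Function.Surjective (iX.app U'.1).hom ∧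
      RingHom.ker (iX.app U'.1).hom =
        (RingHom.ker (iS.app V'.1).hom).map (f'.appLE V'.1 U'.1 e).hom := by
  haveI := isClosedImmersion_of_isPullback hc
  refine ⟨?_, iS.app_surjective V'.1 V'.2, iX.app_surjective U'.1 U'.2,
    ker_app_eq_map hc V' U' e⟩
  have := appLE_square hc V'.1 U'.1 e
  exact congrArg CommRingCat.Hom.hom this

end schemes

end Groth.Agent.Lead.ThickBC
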