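import Mathlib
import Groth.Agent.Helper4.TensorAssoc
import Groth.Agent.Lead.GExB
import Groth.Agent.Lead.InvDualA

/-!
# GExC: untwisting — `(- ⊗ B) ⋙ (- ⊗ N) ≅ 𝟭` for `B ⊗ N ≅ O_X`, `B`, `N` invertible
-/

set_option autoImplicit false
set_option linter.style.haveILetI false
set_option linter.unusedSectionVars false
set_option backward.isDefEq.respectTransparency false

universe u

open CategoryTheory CategoryTheory.Limits AlgebraicGeometry Opposite TopologicalSpace TensorProduct
  MonoidalCategory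

namespace Groth.Agent.Lead.GEx

open Groth.Agent.Helper4.TensorLift Groth.Agent.Helper4.TensorAssoc

variable {X : Scheme.{u}}

/-- the first whiskered map of presheaves -/
noncomputable abbrev wB {A A₂ : X.Modules} (f : A ⟶ A₂) (B : X.Modules) :
    (CohB1.tensorPre A B : CohB1.PMod X) ⟶ (CohB1.tensorPre A₂ B : CohB1.PMod X) :=
  (show CohB1.toPMod A ⟶ CohB1.toPMod A₂ from DCoh.toP.map f) ▷ CohB1.toPMod B

theorem tensorRightMod_map_eq {A A₂ : X.Modules} (f : A ⟶ A₂) (B : X.Modules) :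
    (DCoh.tensorRightMod B).map f = (CohB1.sheafifyMod X).map (wB f B) := rfl

/-- naturality of the unit `A ⊗_p B ⟶ A ⊗ B` in `A` -/
theorem eta_naturality {A A₂ : X.Modules} (f : A ⟶ A₂) (B : X.Modules) :
    wB f B ≫ eta A₂ B =
      eta A B ≫ (show CohB1.toPMod (CohB1.tensorMod A B) ⟶ CohB1.toPMod (CohB1.tensorMod A₂ B) from
        DCoh.toP.map ((DCoh.tensorRightMod B).map f)) := by
  have h := (adj X).unit.naturality
    (show (CohB1.tensorPre A B : X.PresheafOfModules) ⟶ CohB1.tensorPre A₂ B from wB f B)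
  exact h


/-- naturality of the adjunction bijection on the left, typed on `CohB1.sheafifyMod` -/
theorem homEquiv_left {P P' : X.PresheafOfModules} (u : P ⟶ P') {T : X.Modules}
    (g : (CohB1.sheafifyMod X).obj P' ⟶ T) :
    (adj X).homEquiv P T ((CohB1.sheafifyMod X).map u ≫ g) = u ≫ (adj X).homEquiv P' T g :=
  (adj X).homEquiv_naturality_left u g

theorem homEquiv_isoL (A B C : X.Modules) (hB : PicF.IsInvertible B) :
    (adj X).homEquiv _ _ (isoL A B C hB).hom = gL A B C :=
  Equiv.apply_symm_apply _ _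

/-- the doubly whiskered map of presheaves -/
noncomputable abbrev wBN {A A₂ : X.Modules} (f : A ⟶ A₂) (B N : X.Modules) :
    ((CohB1.tensorPre A B : CohB1.PMod X) ⊗ CohB1.toPMod N : CohB1.PMod X) ⟶
      ((CohB1.tensorPre A₂ B : CohB1.PMod X) ⊗ CohB1.toPMod N : CohB1.PMod X) :=
  wB f B ▷ CohB1.toPMod N

/-- naturality of `gL` in the first variable -/
theorem gL_naturality {A A₂ : X.Modules} (f : A ⟶ A₂) (B N : X.Modules) :
    (show (((CohB1.tensorPre A B : CohB1.PMod X) ⊗ CohB1.toPMod N : CohB1.PMod X) :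
        X.PresheafOfModules) ⟶
        (((CohB1.tensorPre A₂ B : CohB1.PMod X) ⊗ CohB1.toPMod N : CohB1.PMod X) :
          X.PresheafOfModules) from wBN f B N) ≫ gL A₂ B N =
      gL A B N ≫
        (SheafOfModules.forget _ ⋙ PresheafOfModules.restrictScalars (𝟙 X.ringCatSheaf.obj)).map
          ((DCoh.tensorRightMod N).map ((DCoh.tensorRightMod B).map f)) := by
  have h1 := eta_naturality f B
  have h2 := (adj X).unit.naturality
    (show (CohB1.tensorPre (CohB1.tensorMod A B) N : X.PresheafOfModules) ⟶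
      CohB1.tensorPre (CohB1.tensorMod A₂ B) N from wB ((DCoh.tensorRightMod B).map f) N)
  have h3 : wBN f B N ≫ (eta A₂ B ▷ CohB1.toPMod N) =
      (eta A B ▷ CohB1.toPMod N) ≫ wB ((DCoh.tensorRightMod B).map f) N := by
    rw [← comp_whiskerRight, h1, comp_whiskerRight]
  unfold gL
  rw [← Category.assoc]
  erw [h3]
  rw [Category.assoc, Category.assoc]
  congr 1

/-- naturality of `isoL` in the first variable -/
theorem isoL_naturality {A A₂ : X.Modules} (f : A ⟶ A₂) (B N : X.Modules)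
    (hB : PicF.IsInvertible B) :
    (CohB1.sheafifyMod X).map (show (((CohB1.tensorPre A B : CohB1.PMod X) ⊗ CohB1.toPMod N :
        CohB1.PMod X) : X.PresheafOfModules) ⟶
        (((CohB1.tensorPre A₂ B : CohB1.PMod X) ⊗ CohB1.toPMod N : CohB1.PMod X) :
          X.PresheafOfModules) from wBN f B N) ≫ (isoL A₂ B N hB).hom =
      (isoL A B N hB).hom ≫ (DCoh.tensorRightMod N).map ((DCoh.tensorRightMod B).map f) := by
  apply ((adj X).homEquiv _ _).injective
  rw [homEquiv_left, (adj X).homEquiv_naturality_right, homEquiv_isoL, homEquiv_isoL]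
  exact gL_naturality f B N


section Theta

variable (B N : X.Modules) (e : CohB1.tensorMod B N ≅ Coh.structureModule X)

/-- the pairing of presheaves `B ⊗_p N ⟶ O` -/
noncomputable def pairP : (CohB1.tensorPre B N : CohB1.PMod X) ⟶ 𝟙_ (CohB1.PMod X) :=
  eta B N ≫ (show CohB1.toPMod (CohB1.tensorMod B N) ⟶ 𝟙_ (CohB1.PMod X) from DCoh.toP.map e.hom)

/-- the presheaf-level contraction `(A ⊗_p B) ⊗_p N ⟶ A` -/
noncomputable def tA (A : X.Modules) :
    ((CohB1.tensorPre A B : CohB1.PMod X) ⊗ CohB1.toPMod N : CohB1.PMod X) ⟶ CohB1.toPMod A :=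
  (α_ (CohB1.toPMod A) (CohB1.toPMod B) (CohB1.toPMod N)).hom ≫
    (CohB1.toPMod A ◁ pairP B N e) ≫ (ρ_ (CohB1.toPMod A)).hom

theorem tA_naturality {A A₂ : X.Modules} (f : A ⟶ A₂) :
    wBN f B N ≫ tA B N e A₂ =
      tA B N e A ≫ (show CohB1.toPMod A ⟶ CohB1.toPMod A₂ from DCoh.toP.map f) := by
  unfold tA wBN wB
  rw [associator_naturality_left_assoc, ← whisker_exchange_assoc, rightUnitor_naturality,
    Category.assoc, Category.assoc]

/-- the contraction `a((A ⊗_p B) ⊗_p N) ⟶ A` -/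
noncomputable def θ (A : X.Modules) :
    (CohB1.sheafifyMod X).obj
      (((CohB1.tensorPre A B : CohB1.PMod X) ⊗ CohB1.toPMod N : CohB1.PMod X) :
        X.PresheafOfModules) ⟶ A :=
  ((adj X).homEquiv _ _).symm
    (show (((CohB1.tensorPre A B : CohB1.PMod X) ⊗ CohB1.toPMod N : CohB1.PMod X) :
      X.PresheafOfModules) ⟶ tgt A from tA B N e A)

theorem θ_naturality {A A₂ : X.Modules} (f : A ⟶ A₂) :
    (CohB1.sheafifyMod X).map (show (((CohB1.tensorPre A B : CohB1.PMod X) ⊗ CohB1.toPMod N :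
        CohB1.PMod X) : X.PresheafOfModules) ⟶
        (((CohB1.tensorPre A₂ B : CohB1.PMod X) ⊗ CohB1.toPMod N : CohB1.PMod X) :
          X.PresheafOfModules) from wBN f B N) ≫ θ B N e A₂ = θ B N e A ≫ f := by
  apply ((adj X).homEquiv _ _).injective
  rw [homEquiv_left, (adj X).homEquiv_naturality_right]
  unfold θ
  rw [Equiv.apply_symm_apply, Equiv.apply_symm_apply]
  exact tA_naturality B N e f

theorem isIso_app {P Q : CohB1.PMod X} (f : P ⟶ Q) (hf : IsIso f) (V : (X.Opens)ᵒᵖ) :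
    IsIso (f.app V) :=
  inferInstanceAs (IsIso ((PresheafOfModules.evaluation _ V).map f))

theorem tA_bijective (A : X.Modules) (U : X.Opens)
    (ε : N.restrict U.ι ≅ Coh.structureModule (U : Scheme.{u})) {W : X.Opens} (hW : W ≤ U) :
    Function.Bijective ((tA B N e A).app (op W)) := by
  have h0 := wl_bijective A B N U ε hW
  rw [← ConcreteCategory.isIso_iff_bijective] at h0 ⊢
  let e' : CohB1.toPMod (CohB1.tensorMod B N) ⟶ 𝟙_ (CohB1.PMod X) := DCoh.toP.map e.hom
  haveI : IsIso e' := inferInstanceAs (IsIso (DCoh.toP.map e.hom))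
  have h1 : tA B N e A = (α_ (CohB1.toPMod A) (CohB1.toPMod B) (CohB1.toPMod N)).hom ≫
      (CohB1.toPMod A ◁ eta B N) ≫ ((CohB1.toPMod A ◁ e') ≫ (ρ_ (CohB1.toPMod A)).hom) := by
    unfold tA pairP
    rw [MonoidalCategory.whiskerLeft_comp, Category.assoc]
  rw [h1, PresheafOfModules.comp_app, PresheafOfModules.comp_app]
  haveI := h0
  have hi1 : IsIso (α_ (CohB1.toPMod A) (CohB1.toPMod B) (CohB1.toPMod N)).hom := inferInstance
  have hi2 : IsIso ((CohB1.toPMod A ◁ e') ≫ (ρ_ (CohB1.toPMod A)).hom) := inferInstance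
  haveI := isIso_app _ hi1 (op W)
  haveI := isIso_app _ hi2 (op W)
  infer_instance

theorem isIso_θ (hN : PicF.IsInvertible N) (A : X.Modules) : IsIso (θ B N e A) := by
  unfold θ
  apply isIso_of_isLocallyBijective
  · apply isLocallyInjective_of
    intro V x y hxy p hp
    obtain ⟨U, hpU, ⟨ε⟩⟩ := hN p
    refine ⟨V ⊓ U, homOfLE inf_le_left, ⟨hp, hpU⟩, ?_⟩
    apply (tA_bijective B N e A U ε (inf_le_right : V ⊓ U ≤ U)).1
    have n1 := PresheafOfModules.naturality_apply (tA B N e A) (homOfLE (inf_le_left : V ⊓ U ≤ V)).op x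
    have n2 := PresheafOfModules.naturality_apply (tA B N e A) (homOfLE (inf_le_left : V ⊓ U ≤ V)).op y
    have hxy' : (tA B N e A).app (op V) x = (tA B N e A).app (op V) y := hxy
    exact n1.trans (Eq.trans (by rw [hxy']) n2.symm)
  · apply isLocallySurjective_of
    intro V s p hp
    obtain ⟨U, hpU, ⟨ε⟩⟩ := hN p
    obtain ⟨x, hx⟩ := (tA_bijective B N e A U ε (inf_le_right : V ⊓ U ≤ U)).2
      ((tgt A).map (homOfLE (inf_le_left : V ⊓ U ≤ V)).op s)
    exact ⟨V ⊓ U, homOfLE inf_le_left, ⟨hp, hpU⟩, x, hx⟩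

/-- **untwisting**: `(- ⊗ B) ⋙ (- ⊗ N) ≅ 𝟭` when `B ⊗ N ≅ O_X` with `B`, `N` invertible -/
noncomputable def untwistIso (hB : PicF.IsInvertible B) (hN : PicF.IsInvertible N) :
    DCoh.tensorRightMod B ⋙ DCoh.tensorRightMod N ≅ 𝟭 X.Modules :=
  NatIso.ofComponents
    (fun A => (isoL A B N hB).symm ≪≫ @asIso _ _ _ _ (θ B N e A) (isIso_θ B N e hN A))
    (by
      intro A A₂ f
      have h1 := isoL_naturality f B N hB
      have h2 := θ_naturality B N e f
      have h3 : (isoL A B N hB).inv ≫ (CohB1.sheafifyMod X).map (show (((CohB1.tensorPre A B :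
          CohB1.PMod X) ⊗ CohB1.toPMod N : CohB1.PMod X) : X.PresheafOfModules) ⟶
          (((CohB1.tensorPre A₂ B : CohB1.PMod X) ⊗ CohB1.toPMod N : CohB1.PMod X) :
            X.PresheafOfModules) from wBN f B N) =
          (DCoh.tensorRightMod N).map ((DCoh.tensorRightMod B).map f) ≫ (isoL A₂ B N hB).inv := by
        rw [Iso.inv_comp_eq, ← Category.assoc, ← h1, Category.assoc, Iso.hom_inv_id,
          Category.comp_id]
      change (DCoh.tensorRightMod N).map ((DCoh.tensorRightMod B).map f) ≫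
        (isoL A₂ B N hB).inv ≫ θ B N e A₂ = ((isoL A B N hB).inv ≫ θ B N e A) ≫ f
      rw [← Category.assoc, ← h3, Category.assoc, h2, Category.assoc])

end Theta

open Groth.Agent.Helper1.Form in
/-- **untwisting a formal module**: if the twist of `G` by an invertible module is algebraizable,
so is `G` -/
theorem exists_of_tensor_twist {A : Type u} [CommRing A] [X.Over (Spec (CommRingCat.of A))]
    [IsNoetherianRing A] [IsLocallyNoetherian X] (B : X.Modules) (hB : PicF.IsInvertible B)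
    (I : Ideal A) (G : ℕᵒᵖ ⥤ X.Modules)
    (h : ∃ M : X.Modules, Coh.IsCoh M ∧
      Nonempty (Formal.completion I M ≅ G ⋙ DCoh.tensorRightMod B)) :
    ∃ M : X.Modules, Coh.IsCoh M ∧ Nonempty (Formal.completion I M ≅ G) := by
  obtain ⟨N, hN, -, ⟨e⟩⟩ := Groth.Agent.Lead.InvDual.exists_inverse B hB
  exact exists_of_twist (good_tensorRightMod N hN) (untwistIso B N e hB hN) I G h

end Groth.Agent.Lead.GEx
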