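import Mathlib
import Groth.Agent.Lead.GExC
import Groth.Agent.Lead.GExE
import Groth.Agent.Helper4.GenTwistMain
import Groth.Agent.Helper4.TensorInv
import Groth.Agent.Helper1.TwistAmple
import Groth.Agent.Helper1.PUP8
import Groth.Agent.Helper1.VA10
import Groth.Agent.Helper4.PullAmple
import Groth.Agent.Helper6.HProj

/-!
# GExF: Grothendieck's existence theorem for schemes proper over a complete Noetherian ring
carrying an ample invertible module (in particular the projective case)
-/

set_option autoImplicit false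
set_option linter.style.haveILetI false
set_option linter.unusedSectionVars false

universe u

open CategoryTheory CategoryTheory.Limits AlgebraicGeometry Opposite

namespace Groth.Agent.Lead.GEx

open Groth.Agent.Helper1 Groth.Agent.Helper1.Form Groth.Agent.Helper1.GrSh
  Groth.Agent.Helper1.GrKer

variable {A : Type u} [CommRing A] {X : Scheme.{u}} [X.Over (Spec (CommRingCat.of A))]

/-- **Grothendieck's existence theorem**, essential surjectivity, for a proper scheme with an ample
invertible module over a complete Noetherian ring -/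
theorem exists_algebraization [IsNoetherianRing A] (I : Ideal A) [IsAdicComplete I A]
    [IsProper (X ↘ Spec (CommRingCat.of A))] {L : X.Modules} (hL : CohB1.IsAmple L)
    (G : ℕᵒᵖ ⥤ X.Modules) (hG : Formal.IsCohFormal I G) :
    ∃ M : X.Modules, Coh.IsCoh M ∧ Nonempty (Formal.completion I M ≅ G) := by
  haveI : IsNoetherian X := PropSuppFin.isNoetherian_X A X
  obtain ⟨hc, hk, hq⟩ := (isCohFormal_iff G).1 hG
  -- the first twist
  obtain ⟨d₁, hd₁⟩ := GrKer.uniform_vanishing_kernels G hL hG
  haveI : (G.obj (op 0)).IsQuasicoherent := (hc 0).1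
  obtain ⟨d₂, hd₂⟩ := Groth.Agent.Helper4.GenTwistMain.exists_forall_isGloballyGenerated_twist hL
    (G.obj (op 0)) (hc 0).2
  have hB : PicF.IsInvertible (CohB1.tensorPow L (max d₁ d₂)) :=
    Groth.Agent.Helper4.TensorInv.isInvertible_tensorPow hL.1 _
  have hΦ : Good A (DCoh.tensorRightMod (CohB1.tensorPow L (max d₁ d₂))) :=
    good_tensorRightMod _ hB
  obtain ⟨b, π, hπ⟩ := exists_presentation G hG hΦ (hd₂ _ (le_max_right _ _))
    (fun n => hd₁ n _ (le_max_left _ _) 1 le_rfl)
  -- the kernel system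
  have hF := isCohFormal_completion I (Fr X b) (isCoh_Fr b)
  have hG' := hΦ.isCohFormal hG
  obtain ⟨hcF, hkF, hqF⟩ := (isCohFormal_iff _).1 hF
  obtain ⟨hcG', hkG', hqG'⟩ := (isCohFormal_iff _).1 hG'
  obtain ⟨r, f, hf⟩ := Submodule.fg_iff_exists_fin_generating_family.1 (IsNoetherian.noetherian I)
  have hmem : ∀ i, f i ∈ I := fun i => by
    rw [← hf]
    exact Submodule.subset_span (Set.mem_range_self i)
  let a : Fin r → I := fun i => ⟨f i, hmem i⟩
  have ha : Ideal.span (Set.range fun i => (a i : A)) = I := hf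
  have hFG := isFG_kerGr _ _ hkF hqF hkG' hqG' π hcF hcG' a ha
  obtain ⟨N, hN⟩ := hFG.gen
  obtain ⟨e₁, he₁⟩ := GrVan.uniform_vanishing A hL r _ hFG
  have hcQ : Coh.IsCoh (Q _ _ π (N + 1)) :=
    Groth.Agent.Lead.PerfLib.isCoh_kernel (hcF (N + 1)) (hcG' (N + 1)) _
  haveI : (Q _ _ π (N + 1)).IsQuasicoherent := hcQ.1
  obtain ⟨e₂, he₂⟩ := Groth.Agent.Helper4.GenTwistMain.exists_forall_isGloballyGenerated_twist hL
    (Q _ _ π (N + 1)) hcQ.2
  have hB' : PicF.IsInvertible (CohB1.tensorPow L (max e₁ e₂)) :=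
    Groth.Agent.Helper4.TensorInv.isInvertible_tensorPow hL.1 _
  have hΦ' : Good A (DCoh.tensorRightMod (CohB1.tensorPow L (max e₁ e₂))) :=
    good_tensorRightMod _ hB'
  have h1 := exists_of_presentation _ _ π hkF hqF hkG' hqG' hΦ' hπ (Fr X b) (isCoh_Fr b)
    (fun n => Formal.modPowπ I (n + 1) (Fr X b)) (fun n => isQuot_modPowπ I (n + 1) _)
    (fun n => by
      have h3 : (Formal.completion I (Fr X b)).map (homOfLE (Nat.le_succ n)).op =
          Formal.modPowTrans I (n + 1) (Fr X b) := completion_map_succ _ n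
      have h4 := Formal.modPowπ_trans I (n + 1) (Fr X b)
      exact (congrArg (fun x => Formal.modPowπ I (n + 1 + 1) (Fr X b) ≫ x) h3).trans h4)
    a N hN hcQ (he₂ _ (le_max_right _ _)) (fun n => he₁ n _ (le_max_left _ _) 1 le_rfl)
  have h2 := exists_of_tensor_twist (CohB1.tensorPow L (max e₁ e₂)) hB' I _ h1
  exact exists_of_tensor_twist (CohB1.tensorPow L (max d₁ d₂)) hB I G h2

/-- **the projective case** (S0061) -/
theorem exists_algebraization_projective (A : Type u) [CommRing A] [IsNoetherianRing A]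
    (I : Ideal A) [IsAdicComplete I A] (n : ℕ) (X : Scheme.{u}) [X.Over (Spec (CommRingCat.of A))]
    (i : X ⟶ CohB1.ProjSpace n A) [IsClosedImmersion i]
    (hi : i ≫ CohB1.ProjSpace.toSpec n A = X ↘ Spec (CommRingCat.of A))
    (G : ℕᵒᵖ ⥤ X.Modules) (hG : Formal.IsCohFormal I G) :
    ∃ M : X.Modules, Coh.IsCoh M ∧ Nonempty (Formal.completion I M ≅ G) := by
  haveI : IsProper (CohB1.ProjSpace.toSpec n A) := Groth.Agent.Helper6.HProj.isProper_toSpec n A
  haveI : IsProper (X ↘ Spec (CommRingCat.of A)) := by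
    rw [← hi]
    infer_instance
  haveI : CompactSpace (Proj (CohB1.polyGrading n A)) :=
    Groth.Agent.Helper1.VA.compactSpace_proj A n
  have hamp1 : CohB1.IsAmple (Twist.twist (CohB1.polyGrading n A) ((1 : ℕ) : ℤ)) :=
    Groth.Agent.Helper1.TwistMul.isAmple_twist (CohB1.polyGrading n A)
      (Groth.Agent.Helper1.PUP.hcovP n) 1 one_pos
  have hamp := Groth.Agent.Helper4.PullAmple.isAmple_pullback_of_isAffineHom i hamp1
  exact exists_algebraization I hamp G hG

end Groth.Agent.Lead.GEx
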