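import Groth.Agent.Lead.OmegaSecC
import Groth.Agent.Helper1.Dev1
import Mathlib

/-!
# Lead: formally unramified iff the sheaf of differentials vanishes
-/

set_option autoImplicit false
open CategoryTheory CategoryTheory.Limits AlgebraicGeometry Opposite TopologicalSpace TensorProduct
universe u

namespace Groth.Agent.Lead.OmegaSecD
open Scheme.Modules Groth.Agent.Helper4

variable {X Y : Scheme.{u}} (f : X ⟶ Y)

theorem notMem_support_of_subsingleton (F : X.Modules) [F.IsQuasicoherent] {U : X.Opens}
    (hU : IsAffineOpen U) [Subsingleton Γ(F, U)] (x : X) (hx : x ∈ U) :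
    x ∉ CohB1.support F := by
  rw [← SuppDict.mem_support_iff hU F x hx, Module.mem_support_iff]
  intro hnt
  exact not_subsingleton _ (inferInstance :
    Subsingleton (LocalizedModule (hU.primeIdealOf ⟨x, hx⟩).asIdeal.primeCompl Γ(F, U)))

theorem subsingleton_sections_of_isZero (F : X.Modules) (h : IsZero F) (U : X.Opens) :
    Subsingleton Γ(F, U) := by
  refine subsingleton_of_forall_eq 0 fun m => ?_
  have h1 : (𝟙 F : F ⟶ F) = 0 := h.eq_of_src _ _
  have h2 : (𝟙 F : F ⟶ F).app U m = m := rfl
  rw [h1] at h2
  exact h2.symm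

theorem main [QuasiSeparated f] : FormallyUnramified f ↔ IsZero (Omega.sheaf f) := by
  constructor
  · intro h
    apply Groth.Agent.Helper1.Dev.isZero_of_support_eq_empty
    ext x
    simp only [Set.mem_empty_iff_false, iff_false]
    obtain ⟨U, V, hU, hV, hxU, e⟩ := OmegaSecB.exists_affine_pair f x
    haveI := (OmegaSecC.formallyUnramified_appLE_iff f hU hV e).mp
      (f.formallyUnramified_appLE hV hU e)
    exact notMem_support_of_subsingleton (Omega.sheaf f) hU x hxU
  · intro h
    refine ⟨fun {V} hV {U} hU e => ?_⟩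
    rw [OmegaSecC.formallyUnramified_appLE_iff f hU hV e]
    exact subsingleton_sections_of_isZero _ h U

end Groth.Agent.Lead.OmegaSecD
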