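import Mathlib

set_option autoImplicit false
universe u
open CategoryTheory AlgebraicGeometry Limits

namespace Groth.Agent.Lead.LocalAllied


/-- algebra lemma: a local hom `s : A → B` with `b ∘ s = a` gives domination of ranges -/
theorem range_le_range {A B R : Type*} [CommRing A] [CommRing B] [CommRing R] [IsLocalRing A]
    [IsLocalRing B] [Nontrivial R] (a : A →+* R) (b : B →+* R) (s : A →+* B) [IsLocalHom s]
    (hs : b.comp s = a) : LocalSubring.range a ≤ LocalSubring.range b := by
  rw [LocalSubring.le_def]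
  have hle : (LocalSubring.range a).toSubring ≤ (LocalSubring.range b).toSubring := by
    rintro _ ⟨t, rfl⟩
    exact ⟨s t, by rw [← hs]; rfl⟩
  refine ⟨hle, ⟨?_⟩⟩
  rintro ⟨_, t, rfl⟩ hunit
  obtain ⟨⟨_, w, rfl⟩, hw⟩ := hunit.exists_right_inv
  have hw' : a t * b w = 1 := congrArg Subtype.val hw
  have ht : IsUnit t := by
    by_contra hnt
    have h1 : ¬ IsUnit (s t) := fun h => hnt ((isUnit_map_iff s t).mp h)
    have h2 : s t * w ∈ IsLocalRing.maximalIdeal B :=
      Ideal.mul_mem_right _ _ ((IsLocalRing.mem_maximalIdeal _).mpr h1)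
    have h3 : IsUnit (1 - s t * w) := IsLocalRing.isUnit_one_sub_self_of_mem_nonunits _ h2
    have h4 : b (1 - s t * w) = 0 := by
      rw [map_sub, map_one, map_mul, ← RingHom.comp_apply, hs, hw', sub_self]
    have h5 := h3.map b
    rw [h4] at h5
    exact not_isUnit_zero h5
  exact ht.map a.rangeRestrict

/-- the key stalk identity: for a morphism `p : P ⟶ X` with section `d : X ⟶ P`, a point `z`
which is a specialization of `d ξ`, the composite `O_{X,p z} → O_{P,z} → O_{P,d ξ} → O_{X,ξ}`
is the specialization map. -/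
theorem stalk_identity {X P : Scheme.{u}} (p : P ⟶ X) (d : X ⟶ P) (hdp : d ≫ p = 𝟙 X)
    (ξ : X) (z : P) (hz : d ξ ⤳ z) (h0 : ξ ⤳ p z) :
    p.stalkMap z ≫ P.presheaf.stalkSpecializes hz ≫ d.stalkMap ξ =
      X.presheaf.stalkSpecializes h0 := by
  apply Spec.map_injective
  rw [← cancel_mono (X.fromSpecStalk (p z))]
  rw [Scheme.SpecMap_stalkSpecializes_fromSpecStalk]
  rw [Spec.map_comp, Spec.map_comp, Category.assoc, Category.assoc,
    Scheme.SpecMap_stalkMap_fromSpecStalk, Scheme.SpecMap_stalkSpecializes_fromSpecStalk_assoc,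
    Scheme.SpecMap_stalkMap_fromSpecStalk_assoc, hdp, Category.comp_id]

/-- points of the closure of the diagonal have dominated local rings -/
theorem fst_eq_snd_of_mem_closure {X S : Scheme.{u}} [IsIntegral X] (f : X ⟶ S)
    (H : ∀ (x y : X) (Q : LocalSubring X.functionField),
      LocalSubring.range (algebraMap (X.presheaf.stalk x) X.functionField) ≤ Q →
      LocalSubring.range (algebraMap (X.presheaf.stalk y) X.functionField) ≤ Q → x = y)
    (z : ↑(pullback f f)) (hz : z ∈ closure (Set.range (pullback.diagonal f))) :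
    pullback.fst f f z = pullback.snd f f z := by
  have hspec : pullback.diagonal f (genericPoint X) ⤳ z := by
    rw [specializes_iff_mem_closure]
    refine closure_minimal ?_ isClosed_closure hz
    rintro _ ⟨x, rfl⟩
    rw [← specializes_iff_mem_closure]
    exact (genericPoint_specializes x).map (pullback.diagonal f).continuous
  let φ : (pullback f f).presheaf.stalk z ⟶ X.presheaf.stalk (genericPoint X) :=
    (pullback f f).presheaf.stalkSpecializes hspec ≫ (pullback.diagonal f).stalkMap (genericPoint X)
  apply H _ _ (LocalSubring.range φ.hom)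
  · apply range_le_range _ _ ((pullback.fst f f).stalkMap z).hom
    have := stalk_identity (pullback.fst f f) (pullback.diagonal f) (pullback.diagonal_fst f)
      (genericPoint X) z hspec (genericPoint_specializes _)
    exact congrArg CommRingCat.Hom.hom this
  · apply range_le_range _ _ ((pullback.snd f f).stalkMap z).hom
    have := stalk_identity (pullback.snd f f) (pullback.diagonal f) (pullback.diagonal_snd f)
      (genericPoint X) z hspec (genericPoint_specializes _)
    exact congrArg CommRingCat.Hom.hom this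



open Scheme Pullback in
set_option backward.defeqAttrib.useBackward true in
set_option backward.isDefEq.respectTransparency false in
theorem mem_diagonalCoverDiagonalRange {X Y : Scheme.{u}} (f : X ⟶ Y)
    (𝒰 : Y.OpenCover) (𝒱 : ∀ i, (pullback f (𝒰.f i)).OpenCover)
    (x : ↑(pullback f f)) (H : pullback.fst f f x = pullback.snd f f x) :
    x ∈ diagonalCoverDiagonalRange f 𝒰 𝒱 := by
  simp only [diagonalCoverDiagonalRange, openCoverOfBase_I₀, openCoverOfBase_X,
    openCoverOfLeftRight_I₀, TopologicalSpace.Opens.iSup_mk, TopologicalSpace.Opens.carrier_eq_coe, Hom.coe_opensRange, TopologicalSpace.Opens.mem_mk,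
    Set.mem_iUnion, Set.mem_range, Sigma.exists]
  let i := 𝒰.idx (f (pullback.fst f f x))
  obtain ⟨y : 𝒰.X i, hy : 𝒰.f i y = f _⟩ :=
    𝒰.covers (f (pullback.fst f f x))
  obtain ⟨z, hz₁, hz₂⟩ := exists_preimage_pullback _ _ hy.symm
  let j := (𝒱 i).idx z
  obtain ⟨w : (𝒱 i).X j, hy : (𝒱 i).f j w = z⟩ := (𝒱 i).covers z
  refine ⟨i, j, ?_⟩
  simp_rw [diagonalCover_map]
  change x ∈ Set.range _
  simp only [diagonalCover, openCoverOfBase_I₀,
    Precoverage.ZeroHypercover.pullback₁_toPreZeroHypercover, PreZeroHypercover.pullback₁_X,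
    Precoverage.ZeroHypercover.bind_toPreZeroHypercover, openCoverOfBase_X,
    PreZeroHypercover.bind_X, openCoverOfLeftRight_I₀, openCoverOfLeftRight_X]
  rw [range_map]
  simp [← H, ← hz₁, ← hy]

theorem isSeparated_of_fst_eq_snd {X Y : Scheme.{u}} (f : X ⟶ Y)
    (H : ∀ z : ↑(pullback f f), z ∈ closure (Set.range (pullback.diagonal f)) →
      pullback.fst f f z = pullback.snd f f z) : IsSeparated f := by
  constructor
  let 𝒰 := Y.affineCover
  let 𝒱 (i) := (pullback f (𝒰.f i)).affineCover
  apply IsZariskiLocalAtTarget.of_forall_exists_morphismRestrict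
  intro z
  by_cases hz : z ∈ closure (Set.range (pullback.diagonal f))
  · exact ⟨Scheme.Pullback.diagonalCoverDiagonalRange f 𝒰 𝒱,
      mem_diagonalCoverDiagonalRange f 𝒰 𝒱 z (H z hz),
      isClosedImmersion_diagonal_restrict_diagonalCoverDiagonalRange f 𝒰 𝒱⟩
  · refine ⟨⟨(closure (Set.range (pullback.diagonal f)))ᶜ, isClosed_closure.isOpen_compl⟩, hz, ?_⟩
    have hempty : IsEmpty ↑((pullback.diagonal f) ⁻¹ᵁ
        (⟨(closure (Set.range (pullback.diagonal f)))ᶜ, isClosed_closure.isOpen_compl⟩ :
          (pullback f f).Opens)).toScheme := by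
      constructor
      rintro ⟨x, hx⟩
      exact hx (subset_closure ⟨x, rfl⟩)
    infer_instance



theorem isDominant_SpecMap_of_injective {R S : CommRingCat.{u}} (φ : R ⟶ S)
    (h : Function.Injective φ.hom) : IsDominant (Spec.map φ) := by
  rw [isDominant_iff]
  change DenseRange (PrimeSpectrum.comap φ.hom)
  rw [PrimeSpectrum.denseRange_comap_iff_ker_le_nilRadical,
    (RingHom.injective_iff_ker_eq_bot _).mp h]
  exact bot_le

/-- the morphism `Spec Q ⟶ X` attached to a local subring dominating `O_x` -/
theorem exists_hom_of_le {X : Scheme.{u}} [IsIntegral X] (x : X)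
    (Q : LocalSubring X.functionField)
    (hx : LocalSubring.range (algebraMap (X.presheaf.stalk x) X.functionField) ≤ Q) :
    ∃ g : Spec (CommRingCat.of Q.toSubring) ⟶ X,
      g (IsLocalRing.closedPoint Q.toSubring) = x ∧
      Spec.map (CommRingCat.ofHom Q.toSubring.subtype) ≫ g = X.fromSpecStalk (genericPoint X) := by
  obtain ⟨hle, hloc⟩ := hx
  let a : X.presheaf.stalk x →+* X.functionField := algebraMap (X.presheaf.stalk x) X.functionField
  have hinj : Function.Injective a := IsFractionRing.injective _ _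
  let φ : X.presheaf.stalk x →+* Q.toSubring :=
    a.codRestrict Q.toSubring (fun t => hle ⟨t, rfl⟩)
  have hφ : IsLocalHom φ := by
    constructor
    intro t ht
    have h1 : IsUnit (Subring.inclusion hle ⟨a t, ⟨t, rfl⟩⟩) := ht
    have h2 := hloc.map_nonunit _ h1
    obtain ⟨⟨_, t', rfl⟩, ht'⟩ := h2.exists_right_inv
    have h3 : a t * a t' = 1 := congrArg Subtype.val ht'
    rw [← map_mul, ← map_one a] at h3
    exact IsUnit.of_mul_eq_one _ (hinj h3)
  refine ⟨Spec.map (CommRingCat.ofHom φ) ≫ X.fromSpecStalk x, ?_, ?_⟩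
  · rw [Scheme.Hom.comp_apply]
    have : Spec.map (CommRingCat.ofHom φ) (IsLocalRing.closedPoint Q.toSubring) =
        IsLocalRing.closedPoint (X.presheaf.stalk x) := IsLocalRing.comap_closedPoint φ
    rw [this, Scheme.fromSpecStalk_closedPoint]
  · rw [← Category.assoc, ← Spec.map_comp]
    have : CommRingCat.ofHom φ ≫ CommRingCat.ofHom Q.toSubring.subtype =
        X.presheaf.stalkSpecializes (genericPoint_specializes x) := by
      ext t
      rfl
    rw [this, Scheme.SpecMap_stalkSpecializes_fromSpecStalk]

theorem eq_of_dominated {X : Scheme.{u}} [IsIntegral X] [X.IsSeparated] (x y : X)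
    (Q : LocalSubring X.functionField)
    (hx : LocalSubring.range (algebraMap (X.presheaf.stalk x) X.functionField) ≤ Q)
    (hy : LocalSubring.range (algebraMap (X.presheaf.stalk y) X.functionField) ≤ Q) : x = y := by
  obtain ⟨gx, hgx, hgx'⟩ := exists_hom_of_le x Q hx
  obtain ⟨gy, hgy, hgy'⟩ := exists_hom_of_le y Q hy
  have hdom : IsDominant (Spec.map (CommRingCat.ofHom Q.toSubring.subtype)) :=
    isDominant_SpecMap_of_injective _ Subtype.val_injective
  have hred : IsReduced (Spec (CommRingCat.of Q.toSubring)) := inferInstance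
  have : gx = gy := ext_of_isDominant (Spec.map (CommRingCat.ofHom Q.toSubring.subtype))
    (hgx'.trans hgy'.symm)
  rw [← hgx, ← hgy, this]

end Groth.Agent.Lead.LocalAllied
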