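import Mathlib
import Groth.Agent.Helper4.FinLocFree6
import Groth.Agent.Helper4.QcohEpi
import Groth.Agent.Helper4.AcycLocal

/-!
# Pushforward along affine / finite locally free morphisms: epimorphisms and vector bundles
-/

set_option autoImplicit false
set_option linter.style.haveILetI false
set_option linter.unusedSectionVars false
set_option linter.unusedVariables false

universe u

open AlgebraicGeometry CategoryTheory CategoryTheory.Limits TopologicalSpace Opposite

namespace Groth.Agent.Lead.RPDesc

open Groth.Agent.Helper4 Groth.Agent.Helper4.StalkDict Groth.Agent.Helper4.FinLocFree2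
  Groth.Agent.Helper4.FinLocFree4 Groth.Agent.Helper4.FinLocFree5 Groth.Agent.Helper4.FinLocFree6

variable {X S : Scheme.{u}}

/-- the pushforward along an affine morphism preserves epimorphisms of quasi-coherent modules -/
theorem epi_pushforward_map (f : X ⟶ S) [IsAffineHom f] {M N : X.Modules} [M.IsQuasicoherent]
    [N.IsQuasicoherent] (π : M ⟶ N) [Epi π] : Epi ((Scheme.Modules.pushforward f).map π) := by
  apply AcycLocal.epi_of_app_surjective_affine
  intro V hV
  exact QcohEpi.app_surjective_of_epi π (hV.preimage f)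

set_option backward.isDefEq.respectTransparency false in
/-- the pushforward of a finite locally free module along a finite locally free morphism is
finite locally free -/
theorem isFinLocFree_pushforward (f : X ⟶ S) [IsFinite f] [Flat f]
    [LocallyOfFinitePresentation f] (E : X.Modules) (hE : FlatMod.IsFinLocFree E) :
    FlatMod.IsFinLocFree ((Scheme.Modules.pushforward f).obj E) := by
  let G := (Scheme.Modules.pushforward f).obj E
  haveI : E.IsQuasicoherent := isQuasicoherent_of_isFinLocFree _ hE
  haveI hq : G.IsQuasicoherent := QcohGlue.isQuasicoherent_pushforward f E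
  have hfp : SheafOfModules.IsFinitePresentation (R := S.ringCatSheaf) G :=
    FPGlue.isFinitePresentation_pushforward_of_isFinite f _
      (isFinitePresentation_of_isFinLocFree E hE)
  apply isFinLocFree_of_fp_of_free_stalks G hfp
  intro s
  obtain ⟨V, hV, hs⟩ := QcohLimits.exists_affine_nhd s
  have hflatV : Module.Flat Γ(S, V) Γ(G, V) := by
    have h1 := (affineHom_iff_app @Flat RingHom.Flat f).mp inferInstance V hV
    letI := (f.app V).hom.toAlgebra
    have h2 : Module.Flat Γ(S, V) Γ(X, f ⁻¹ᵁ V) := h1
    have h3 : Module.Flat Γ(X, f ⁻¹ᵁ V) Γ(E, f ⁻¹ᵁ V) :=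
      flat_sections_of_flat_stalks E (hV.preimage f)
        (fun y _ => haveI := free_stalk_of_isFinLocFree E hE y; inferInstance)
    letI : Module Γ(S, V) Γ(E, f ⁻¹ᵁ V) := Module.compHom _ (f.app V).hom
    haveI : IsScalarTower Γ(S, V) Γ(X, f ⁻¹ᵁ V) Γ(E, f ⁻¹ᵁ V) :=
      IsScalarTower.of_algebraMap_smul (fun r m => rfl)
    have h4 : Module.Flat Γ(S, V) Γ(E, f ⁻¹ᵁ V) :=
      Module.Flat.trans Γ(S, V) Γ(X, f ⁻¹ᵁ V) Γ(E, f ⁻¹ᵁ V)
    let e : Γ(E, f ⁻¹ᵁ V) ≃ₗ[Γ(S, V)] Γ(G, V) :=
      { toFun := fun m => m
        invFun := fun m => m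
        map_add' := fun _ _ => rfl
        map_smul' := fun _ _ => rfl
        left_inv := fun _ => rfl
        right_inv := fun _ => rfl }
    exact Module.Flat.of_linearEquiv e.symm
  letI := sectionModStalk G s hs
  letI := S.presheaf.algebra_section_stalk ⟨s, hs⟩
  haveI := hV.isLocalization_stalk ⟨s, hs⟩
  haveI := isLocalizedModule_germ hV G s hs
  haveI : IsScalarTower Γ(S, V) (S.presheaf.stalk s) (G.presheaf.stalk s) :=
    IsScalarTower.of_algebraMap_smul (fun r m => rfl)
  haveI : Module.Flat (S.presheaf.stalk s) (G.presheaf.stalk s) :=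
    Module.Flat.of_isLocalizedModule (S.presheaf.stalk s)
      (hV.primeIdealOf ⟨s, hs⟩).asIdeal.primeCompl (germLin G s hs)
  haveI := finite_stalk G (isFiniteType_of_isFinitePresentation G hfp) s
  exact Module.free_of_flat_of_isLocalRing

end Groth.Agent.Lead.RPDesc
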