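import Groth.Agent.Lead.HomDescG

set_option autoImplicit false
open CategoryTheory AlgebraicGeometry Opposite TopologicalSpace TensorProduct
universe u

namespace Groth.Agent.Lead.HomDesc
open Scheme.Modules Groth.Agent.Lead.BCMap

section aux
variable {X : Scheme.{u}}

theorem iso_hom_inv_apply {M N : X.Modules} (e : M ≅ N) (W : X.Opens) (y : Γ(M, W)) :
    e.inv.app W (e.hom.app W y) = y := by
  have h3 := congrArg (fun ψ => (Scheme.Modules.Hom.app ψ W) y) e.hom_inv_id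
  simp only [Hom.comp_app] at h3
  exact h3

theorem comp_app_apply {M N K : X.Modules} (φ : M ⟶ N) (ψ : N ⟶ K) (W : X.Opens)
    (x : Γ(M, W)) : (φ ≫ ψ).app W x = ψ.app W (φ.app W x) := rfl

theorem natIso_hom_inv_apply {C : Type*} [Category C] {A B : C ⥤ X.Modules} (α : A ≅ B) (F : C)
    (W : X.Opens) (y : Γ(A.obj F, W)) : (α.inv.app F).app W ((α.hom.app F).app W y) = y :=
  iso_hom_inv_apply (α.app F) W y

theorem res_self (Q : X.Modules) {V : X.Opens} (h : V ≤ V) (z : Γ(Q, V)) :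
    Q.presheaf.map (homOfLE h).op z = z := by
  erw [CategoryTheory.Functor.map_id]
  rfl

end aux

section tower
open Groth.Agent.Lead.ModDict Limits
variable {I : Type u} [SmallCategory I] [IsCofiltered I] (D : I ⥤ Scheme.{u}) (c : Cone D)
  [∀ {i j : I} (f : i ⟶ j), IsAffineHom (D.map f)] (i₀ : I) {F₀ : (D.obj i₀).Modules}
  (G₀ : (D.obj i₀).Modules) (𝒞 : CoverData (D.obj i₀) F₀)

attribute [local instance] algApp Stage.algB Stage.algBj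

theorem appLE_app_apply (j : Over i₀) (U : (D.obj i₀).Opens) (x : Γ(D.obj i₀, U)) :
    (c.π.app j.left).appLE _ _ (le_lim D c i₀ U j) ((D.map j.hom).app U x) =
      (c.π.app i₀).app U x :=
  congrArg (fun φ => φ.hom x) (app_appLE_of_eq (c.w j.hom) U (le_lim D c i₀ U j))

/-- families of lifts to a stage -/
abbrev NuFam (j : Over i₀) : Type u :=
  ∀ a : 𝒞.ι, Γ(F₀, 𝒞.U a) →ₗ[Stage.A D i₀ (𝒞.U a)]
    Γ(G₀, 𝒞.U a) ⊗[Stage.A D i₀ (𝒞.U a)] Stage.Bj D i₀ (𝒞.U a) j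

/-- pushing a family of lifts to a later stage -/
noncomputable def push {j j' : Over i₀} (g : j' ⟶ j) (ν : NuFam D i₀ G₀ 𝒞 j) :
    NuFam D i₀ G₀ 𝒞 j' :=
  fun a => ((Stage.tr D i₀ (𝒞.U a) g).toLinearMap.lTensor Γ(G₀, 𝒞.U a)) ∘ₗ ν a

theorem push_apply {j j' : Over i₀} (g : j' ⟶ j) (ν : NuFam D i₀ G₀ 𝒞 j) (a : 𝒞.ι)
    (m : Γ(F₀, 𝒞.U a)) :
    push D i₀ G₀ 𝒞 g ν a m =
      (Stage.tr D i₀ (𝒞.U a) g).toLinearMap.lTensor Γ(G₀, 𝒞.U a) (ν a m) := rfl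

variable (h : (Scheme.Modules.pullback (c.π.app i₀)).obj F₀ ⟶
  (Scheme.Modules.pullback (c.π.app i₀)).obj G₀)

/-- the family lifts the given morphism -/
def IsLift (j : Over i₀) (ν : NuFam D i₀ G₀ 𝒞 j) : Prop :=
  ∀ (a : 𝒞.ι) (m : Γ(F₀, 𝒞.U a)),
    tau D c i₀ G₀ j (𝒞.U a) (eGen (D.map j.hom) G₀ (𝒞.U a) (ν a m)) =
      theta (c.π.app i₀) h (𝒞.U a) m

theorem IsLift.push {j j' : Over i₀} (g : j' ⟶ j) {ν : NuFam D i₀ G₀ 𝒞 j}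
    (hν : IsLift D c i₀ G₀ 𝒞 h j ν) : IsLift D c i₀ G₀ 𝒞 h j' (push D i₀ G₀ 𝒞 g ν) := by
  intro a m
  rw [← hν a m, push_apply]
  exact tau_eGen_tr D c i₀ G₀ g (𝒞.U a) (ν a m)

/-- the family is compatible on the `k`-th overlap chart -/
def IsCompat (k : 𝒞.κ) (j : Over i₀) (ν : NuFam D i₀ G₀ 𝒞 j) : Prop :=
  ∀ l : Fin (𝒞.ng (𝒞.ra k)),
    rGen (D.map j.hom) G₀ (𝒞.hr k) (ν (𝒞.ra k) (𝒞.gen (𝒞.ra k) l)) =
      ∑ i, 𝒞.cf k l i • rGen (D.map j.hom) G₀ (𝒞.hl k) (ν (𝒞.la k) (𝒞.gen (𝒞.la k) i))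

theorem IsCompat.push {k : 𝒞.κ} {j j' : Over i₀} (g : j' ⟶ j) {ν : NuFam D i₀ G₀ 𝒞 j}
    (hν : IsCompat D i₀ G₀ 𝒞 k j ν) : IsCompat D i₀ G₀ 𝒞 k j' (push D i₀ G₀ 𝒞 g ν) := by
  intro l
  rw [push_apply, rGen_tr, hν l, map_sum]
  refine Finset.sum_congr rfl fun i _ => ?_
  rw [LinearMap.map_smul, push_apply, rGen_tr]

theorem exists_compat (hc : IsLimit c) [G₀.IsQuasicoherent] (k : 𝒞.κ) (j : Over i₀)
    (ν : NuFam D i₀ G₀ 𝒞 j) (hν : IsLift D c i₀ G₀ 𝒞 h j ν) :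
    ∃ (j' : Over i₀) (g : j' ⟶ j), IsCompat D i₀ G₀ 𝒞 k j' (push D i₀ G₀ 𝒞 g ν) := by
  obtain ⟨j', g, hg⟩ := local_eq_stage D c i₀ G₀ hc (𝒞.hU' k) j
    (fun l => rGen (D.map j.hom) G₀ (𝒞.hr k) (ν (𝒞.ra k) (𝒞.gen (𝒞.ra k) l)))
    (fun l => ∑ i, 𝒞.cf k l i •
      rGen (D.map j.hom) G₀ (𝒞.hl k) (ν (𝒞.la k) (𝒞.gen (𝒞.la k) i))) (by
    intro l
    have hL : tau D c i₀ G₀ j (𝒞.U' k) (eGen (D.map j.hom) G₀ (𝒞.U' k)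
        (rGen (D.map j.hom) G₀ (𝒞.hr k) (ν (𝒞.ra k) (𝒞.gen (𝒞.ra k) l)))) =
        theta (c.π.app i₀) h (𝒞.U' k)
          (F₀.presheaf.map (homOfLE (𝒞.hr k)).op (𝒞.gen (𝒞.ra k) l)) := by
      rw [← eGen_res (D.map j.hom) G₀ (𝒞.hr k), ← tau_res D c i₀ G₀ j (𝒞.hr k), hν, theta_res]
    have hR : ∀ i, tau D c i₀ G₀ j (𝒞.U' k) (eGen (D.map j.hom) G₀ (𝒞.U' k)
        (𝒞.cf k l i • rGen (D.map j.hom) G₀ (𝒞.hl k) (ν (𝒞.la k) (𝒞.gen (𝒞.la k) i)))) =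
        theta (c.π.app i₀) h (𝒞.U' k)
          (𝒞.cf k l i • F₀.presheaf.map (homOfLE (𝒞.hl k)).op (𝒞.gen (𝒞.la k) i)) := by
      intro i
      rw [eGen_smul, tau_smul, ← eGen_res (D.map j.hom) G₀ (𝒞.hl k),
        ← tau_res D c i₀ G₀ j (𝒞.hl k), hν, theta_res, theta_smul, appLE_app_apply]
    change tau D c i₀ G₀ j (𝒞.U' k) (eGen (D.map j.hom) G₀ (𝒞.U' k)
        (rGen (D.map j.hom) G₀ (𝒞.hr k) (ν (𝒞.ra k) (𝒞.gen (𝒞.ra k) l)))) =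
      tau D c i₀ G₀ j (𝒞.U' k) (eGen (D.map j.hom) G₀ (𝒞.U' k)
        (∑ i, 𝒞.cf k l i •
          rGen (D.map j.hom) G₀ (𝒞.hl k) (ν (𝒞.la k) (𝒞.gen (𝒞.la k) i))))
    rw [hL, map_sum, map_sum, 𝒞.hcf k l, map_sum]
    exact (Finset.sum_congr rfl fun i _ => hR i).symm)
  refine ⟨j', g, fun l => ?_⟩
  rw [push_apply, rGen_tr]
  refine (hg l).trans ?_
  rw [map_sum]
  refine Finset.sum_congr rfl fun i _ => ?_
  rw [LinearMap.map_smul, push_apply, rGen_tr]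


theorem exists_lift_fam (hc : IsLimit c) [G₀.IsQuasicoherent]
    (hfp : ∀ a, Module.FinitePresentation Γ(D.obj i₀, 𝒞.U a) Γ(F₀, 𝒞.U a)) :
    ∃ (j : Over i₀) (ν : NuFam D i₀ G₀ 𝒞 j), IsLift D c i₀ G₀ 𝒞 h j ν := by
  classical
  haveI := 𝒞.fι
  have hex : ∀ a : 𝒞.ι, ∃ j : Over i₀, ∃ ν : Γ(F₀, 𝒞.U a) →ₗ[Stage.A D i₀ (𝒞.U a)]
      Γ(G₀, 𝒞.U a) ⊗[Stage.A D i₀ (𝒞.U a)] Stage.Bj D i₀ (𝒞.U a) j,
      ∀ m, tau D c i₀ G₀ j (𝒞.U a) (eGen (D.map j.hom) G₀ (𝒞.U a) (ν m)) =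
        theta (c.π.app i₀) h (𝒞.U a) m := by
    intro a
    haveI := hfp a
    obtain ⟨j, -, ν, hν⟩ := local_lift D c i₀ G₀ hc (𝒞.hU a) (theta (c.π.app i₀) h (𝒞.U a))
      (theta_smul _ h _) (Over.mk (𝟙 i₀))
    exact ⟨j, ν, hν⟩
  obtain ⟨j₁, hj₁⟩ := exists_common_stage
    (fun (a : 𝒞.ι) (j : Over i₀) => ∃ ν : Γ(F₀, 𝒞.U a) →ₗ[Stage.A D i₀ (𝒞.U a)]
      Γ(G₀, 𝒞.U a) ⊗[Stage.A D i₀ (𝒞.U a)] Stage.Bj D i₀ (𝒞.U a) j,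
      ∀ m, tau D c i₀ G₀ j (𝒞.U a) (eGen (D.map j.hom) G₀ (𝒞.U a) (ν m)) =
        theta (c.π.app i₀) h (𝒞.U a) m)
    (fun a j j' g ⟨ν, hν⟩ =>
      ⟨((Stage.tr D i₀ (𝒞.U a) g).toLinearMap.lTensor Γ(G₀, 𝒞.U a)) ∘ₗ ν, fun m => by
        rw [← hν m]
        exact tau_eGen_tr D c i₀ G₀ g (𝒞.U a) (ν m)⟩) hex
  choose ν₁ hν₁ using hj₁
  exact ⟨j₁, ν₁, fun a m => hν₁ a m⟩

theorem exists_lift_compat (hc : IsLimit c) [G₀.IsQuasicoherent]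
    (hfp : ∀ a, Module.FinitePresentation Γ(D.obj i₀, 𝒞.U a) Γ(F₀, 𝒞.U a)) :
    ∃ (j : Over i₀) (ν : NuFam D i₀ G₀ 𝒞 j), IsLift D c i₀ G₀ 𝒞 h j ν ∧
      ∀ k, IsCompat D i₀ G₀ 𝒞 k j ν := by
  classical
  haveI := 𝒞.fκ
  have hind : ∀ s : Finset 𝒞.κ, ∃ (j : Over i₀) (ν : NuFam D i₀ G₀ 𝒞 j),
      IsLift D c i₀ G₀ 𝒞 h j ν ∧ ∀ k ∈ s, IsCompat D i₀ G₀ 𝒞 k j ν := by
    intro s
    induction s using Finset.induction_on with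
    | empty =>
      obtain ⟨j₁, ν₁, hν₁⟩ := exists_lift_fam D c i₀ G₀ 𝒞 h hc hfp
      exact ⟨j₁, ν₁, hν₁, fun k hk => absurd hk (Finset.notMem_empty k)⟩
    | insert k s hk ih =>
      obtain ⟨j, ν, hL, hC⟩ := ih
      obtain ⟨j', g, hg⟩ := exists_compat D c i₀ G₀ 𝒞 h hc k j ν hL
      refine ⟨j', push D i₀ G₀ 𝒞 g ν, hL.push D c i₀ G₀ 𝒞 h g, fun k' hk' => ?_⟩
      rcases Finset.mem_insert.1 hk' with rfl | hk''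
      · exact hg
      · exact (hC k' hk'').push D i₀ G₀ 𝒞 g
  obtain ⟨j, ν, hL, hC⟩ := hind Finset.univ
  exact ⟨j, ν, hL, fun k => hC k (Finset.mem_univ k)⟩

theorem exists_glued [F₀.IsQuasicoherent] (j : Over i₀) (ν : NuFam D i₀ G₀ 𝒞 j)
    (hC : ∀ k, IsCompat D i₀ G₀ 𝒞 k j ν) :
    ∃ hj : (Scheme.Modules.pullback (D.map j.hom)).obj F₀ ⟶
        (Scheme.Modules.pullback (D.map j.hom)).obj G₀,
      ∀ (a : 𝒞.ι) (m : Γ(F₀, 𝒞.U a)),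
        hj.app (D.map j.hom ⁻¹ᵁ 𝒞.U a)
          (pbSec (D.map j.hom) F₀ (𝒞.U a) (D.map j.hom ⁻¹ᵁ 𝒞.U a) le_rfl m) =
        eGen (D.map j.hom) G₀ (𝒞.U a) (ν a m) := by
  obtain ⟨hj, hhj⟩ := glue_stage (D.map j.hom) F₀
    ((Scheme.Modules.pullback (D.map j.hom)).obj G₀)
    𝒞.U 𝒞.hU 𝒞.hcov 𝒞.ng 𝒞.gen 𝒞.hgen
    (fun a => (eGen (D.map j.hom) G₀ (𝒞.U a)).comp (ν a).toAddMonoidHom)
    (fun a x m => by
      change eGen (D.map j.hom) G₀ (𝒞.U a) (ν a (x • m)) = _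
      rw [LinearMap.map_smul, eGen_smul]
      rfl)
    (by
      intro a b y hya hyb
      obtain ⟨k, rfl, rfl, hyk⟩ := 𝒞.hκ a b y hya hyb
      refine ⟨𝒞.U' k, 𝒞.hU' k, 𝒞.hl k, 𝒞.hr k, hyk, fun l => ⟨𝒞.cf k l, 𝒞.hcf k l, ?_⟩⟩
      change ((Scheme.Modules.pullback (D.map j.hom)).obj G₀).presheaf.map _
          (eGen (D.map j.hom) G₀ _ (ν _ (𝒞.gen _ l))) =
        ∑ i, (D.map j.hom).app _ (𝒞.cf k l i) •
          ((Scheme.Modules.pullback (D.map j.hom)).obj G₀).presheaf.map _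
            (eGen (D.map j.hom) G₀ _ (ν _ (𝒞.gen _ i)))
      rw [eGen_res (D.map j.hom) G₀ (𝒞.hr k), hC k l, map_sum]
      refine Finset.sum_congr rfl fun i _ => ?_
      rw [eGen_smul, eGen_res (D.map j.hom) G₀ (𝒞.hl k)])
  refine ⟨hj, fun a m => ?_⟩
  rw [hhj a _ ((𝒞.hU a).preimage (D.map j.hom)) le_rfl m, res_self]
  rfl

/-- **descent of a homomorphism between pullbacks to a finite stage** -/
theorem descend_hom (hc : IsLimit c) [F₀.IsQuasicoherent] [G₀.IsQuasicoherent]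
    (hfp : ∀ a, Module.FinitePresentation Γ(D.obj i₀, 𝒞.U a) Γ(F₀, 𝒞.U a)) :
    ∃ (j : Over i₀) (hj : (Scheme.Modules.pullback (D.map j.hom)).obj F₀ ⟶
        (Scheme.Modules.pullback (D.map j.hom)).obj G₀),
      ((pullbackπIso D c i₀ j.hom).app F₀).inv ≫
        (Scheme.Modules.pullback (c.π.app j.left)).map hj ≫
          ((pullbackπIso D c i₀ j.hom).app G₀).hom = h := by
  obtain ⟨j, ν, hL, hC⟩ := exists_lift_compat D c i₀ G₀ 𝒞 h hc hfp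
  obtain ⟨hj, hhj⟩ := exists_glued D i₀ G₀ 𝒞 j ν hC
  refine ⟨j, hj, ?_⟩
  apply hom_ext_pbSec (c.π.app i₀) F₀ 𝒞.U 𝒞.hU 𝒞.hcov
  intro a m
  have hx := (tau_pbSec D c i₀ F₀ j (𝒞.U a) m).symm
  rw [tau_apply] at hx
  rw [hx]
  simp only [Iso.app_inv, Iso.app_hom]
  rw [comp_app_apply, comp_app_apply, natIso_hom_inv_apply]
  rw [← pbSec_naturality, hhj a m, ← hx]
  exact (hL a m).trans (theta_apply _ h _ m)

end tower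

end Groth.Agent.Lead.HomDesc
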