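import Mathlib
open CategoryTheory Limits AlgebraicGeometry

namespace Groth.Agent.Lead.SubalgSys
universe u
variable (A : Type u) [CommRing A] (A₁ : Subalgebra ℤ A)

/-- finitely generated subalgebras containing a given one -/
def Idx : Type u := {B : Subalgebra ℤ A // B.FG ∧ A₁ ≤ B}

instance : Preorder (Idx A A₁) := inferInstanceAs (Preorder {B : Subalgebra ℤ A // B.FG ∧ A₁ ≤ B})

/-- the base index -/
def base (h : A₁.FG) : Idx A A₁ := ⟨A₁, h, le_rfl⟩

instance : IsDirected (Idx A A₁) (· ≤ ·) :=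
  ⟨fun B B' ↦ ⟨⟨B.1 ⊔ B'.1, B.2.1.sup B'.2.1, le_sup_of_le_left B.2.2⟩,
    (le_sup_left : B.1 ≤ B.1 ⊔ B'.1), (le_sup_right : B'.1 ≤ B.1 ⊔ B'.1)⟩⟩

lemma base_le (h : A₁.FG) (B : Idx A A₁) : base A A₁ h ≤ B := B.2.2

/-- the diagram of rings -/
def ringDiag : Idx A A₁ ⥤ CommRingCat.{u} where
  obj B := .of B.1
  map {B B'} h := CommRingCat.ofHom (Subalgebra.inclusion (leOfHom h : B.1 ≤ B'.1)).toRingHom
  map_id B := by ext; rfl
  map_comp f g := by ext; rfl

/-- the cocone of inclusions -/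
def ringCocone : Cocone (ringDiag A A₁) where
  pt := .of A
  ι := { app B := CommRingCat.ofHom B.1.val.toRingHom
         naturality B B' h := by ext; rfl }

variable {A A₁}

/-- the ring is the filtered colimit of its finitely generated subalgebras -/
noncomputable def ringCoconeIsColimit (h : A₁.FG) : IsColimit (ringCocone A A₁) := by
  have : Nonempty (Idx A A₁) := ⟨base A A₁ h⟩
  have : ReflectsFilteredColimits (forget CommRingCat.{u}) :=
    ⟨fun _ ↦ reflectsColimitsOfShape_of_reflectsIsomorphisms⟩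
  refine (ReflectsColimit.reflects (F := forget _) (Types.FilteredColimit.isColimitOf' _ _ ?_ ?_)).some
  · intro (x : A)
    refine ⟨⟨A₁ ⊔ Algebra.adjoin ℤ {x}, h.sup ⟨{x}, by simp⟩, le_sup_left⟩,
      ⟨x, ?_⟩, rfl⟩
    exact (le_sup_right : Algebra.adjoin ℤ {x} ≤ A₁ ⊔ Algebra.adjoin ℤ {x})
      (Algebra.self_mem_adjoin_singleton ℤ x)
  · intro B x y hxy
    exact ⟨B, 𝟙 B, by
      have : x = y := Subtype.ext hxy
      rw [this]⟩


variable (A A₁)

/-- the diagram of spectra -/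
noncomputable def D : (Idx A A₁)ᵒᵖ ⥤ Scheme.{u} := (ringDiag A A₁).op ⋙ Scheme.Spec

/-- the cone of spectra -/
noncomputable def cone : Cone (D A A₁) := Scheme.Spec.mapCone (ringCocone A A₁).op

variable {A A₁}

/-- `Spec A` is the limit of the spectra of its finitely generated subalgebras -/
noncomputable def coneIsLimit (h : A₁.FG) : IsLimit (cone A A₁) :=
  isLimitOfPreserves Scheme.Spec (ringCoconeIsColimit h).op

instance {i j : (Idx A A₁)ᵒᵖ} (f : i ⟶ j) : IsAffineHom ((D A A₁).map f) := by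
  dsimp [D]; infer_instance

instance (i : (Idx A A₁)ᵒᵖ) : IsAffine ((D A A₁).obj i) := by
  dsimp [D]; infer_instance

lemma isCofiltered (h : A₁.FG) : IsCofiltered (Idx A A₁)ᵒᵖ := by
  have : Nonempty (Idx A A₁) := ⟨base A A₁ h⟩
  infer_instance

lemma cone_pt : (cone A A₁).pt = Spec (.of A) := rfl

lemma cone_π (B : (Idx A A₁)ᵒᵖ) :
    (cone A A₁).π.app B = Spec.map (CommRingCat.ofHom B.unop.1.val.toRingHom) := rfl

lemma D_obj (B : (Idx A A₁)ᵒᵖ) : (D A A₁).obj B = Spec (.of B.unop.1) := rfl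

end Groth.Agent.Lead.SubalgSys
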