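import Mathlib
import Groth.Prelude.Def_ProCons
import Groth.Agent.Helper7.PC

/-!
# Pro-constructible and ind-constructible subsets of schemes: basic library

Pointwise characterisations and the link with the constructible topology.
-/

set_option autoImplicit false
universe u

open AlgebraicGeometry Topology CategoryTheory TopologicalSpace

namespace Groth.Agent.Lead.ProConsLib

section Top

variable {X : Type*} [TopologicalSpace X]

theorem isLocallyConstructible_compl {s : Set X} (hs : IsLocallyConstructible s) :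
    IsLocallyConstructible sᶜ := by
  intro x
  obtain ⟨U, hU, hUo, hc⟩ := hs x
  refine ⟨U, hU, hUo, ?_⟩
  rw [Set.preimage_compl]
  exact hc.compl

theorem pro_iff_ind_compl (E : Set X) :
    ProCons.IsProConstructible E ↔ ProCons.IsIndConstructible Eᶜ := by
  constructor
  · intro h x
    obtain ⟨U, hU, hx, S, hS, hE⟩ := h x
    refine ⟨U, hU, hx, compl '' S, ?_, ?_⟩
    · rintro _ ⟨T, hT, rfl⟩
      exact isLocallyConstructible_compl (hS T hT)
    · rw [Set.preimage_compl, hE, Set.compl_sInter]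
  · intro h x
    obtain ⟨U, hU, hx, S, hS, hE⟩ := h x
    refine ⟨U, hU, hx, compl '' S, ?_, ?_⟩
    · rintro _ ⟨T, hT, rfl⟩
      exact isLocallyConstructible_compl (hS T hT)
    · have : (Subtype.val ⁻¹' E : Set U) = (Subtype.val ⁻¹' Eᶜ : Set U)ᶜ := by
        rw [Set.preimage_compl, compl_compl]
      rw [this, hE, Set.compl_sUnion]

theorem ind_iff_pro_compl (E : Set X) :
    ProCons.IsIndConstructible E ↔ ProCons.IsProConstructible Eᶜ := by
  rw [pro_iff_ind_compl, compl_compl]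

/-- in a compact quasi-separated prespectral space, every point of a constructible set lies
in a difference of two compact opens contained in the set -/
theorem exists_compact_opens_of_isConstructible [CompactSpace X] [QuasiSeparatedSpace X]
    [PrespectralSpace X] {s : Set X} (hs : IsConstructible s) :
    ∀ x ∈ s, ∃ A B : Set X, IsOpen A ∧ IsCompact A ∧ IsOpen B ∧ IsCompact B ∧
      x ∈ A ∧ x ∉ B ∧ A \ B ⊆ s := by
  classical
  let ι := {U : Set X // IsOpen U ∧ IsCompact U}
  haveI : Nonempty ι := ⟨⟨∅, isOpen_empty, isCompact_empty⟩⟩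
  have hbasis : IsTopologicalBasis (Set.range (fun i : ι => i.1)) := by
    convert PrespectralSpace.isTopologicalBasis (X := X)
    ext U
    constructor
    · rintro ⟨i, rfl⟩; exact i.2
    · intro hU; exact ⟨⟨U, hU⟩, rfl⟩
  induction s, hs using IsConstructible.induction_of_isTopologicalBasis (fun i : ι => i.1) hbasis
    (fun i => i.2.2) with
  | sdiff i t ht =>
    intro x hx
    refine ⟨i.1, ⋃ j ∈ t, j.1, i.2.1, i.2.2, isOpen_biUnion fun j _ => j.2.1,
      ht.isCompact_biUnion fun j _ => j.2.2, hx.1, hx.2, subset_rfl⟩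
  | union s hs t ht ihs iht =>
    intro x hx
    rcases hx with hx | hx
    · obtain ⟨A, B, h1, h2, h3, h4, h5, h6, h7⟩ := ihs x hx
      exact ⟨A, B, h1, h2, h3, h4, h5, h6, h7.trans Set.subset_union_left⟩
    · obtain ⟨A, B, h1, h2, h3, h4, h5, h6, h7⟩ := iht x hx
      exact ⟨A, B, h1, h2, h3, h4, h5, h6, h7.trans Set.subset_union_right⟩

end Top


section Scheme

variable {X : Scheme.{u}}

/-- the pointwise "piece" condition: a difference of an affine open and a compact open inside it,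
containing `x` and contained in `E` -/
def HasPiece (X : Scheme.{u}) (E : Set X) (x : X) : Prop :=
  ∃ (V₁ : X.Opens) (V₂ : Set X), IsAffineOpen V₁ ∧ IsOpen V₂ ∧ IsCompact V₂ ∧ V₂ ⊆ V₁ ∧
    x ∈ V₁ ∧ x ∉ V₂ ∧ (V₁ : Set X) \ V₂ ⊆ E

theorem HasPiece.mono {E E' : Set X} {x : X} (h : HasPiece X E x) (hE : E ⊆ E') :
    HasPiece X E' x := by
  obtain ⟨V₁, V₂, h1, h2, h3, h4, h5, h6, h7⟩ := h
  exact ⟨V₁, V₂, h1, h2, h3, h4, h5, h6, h7.trans hE⟩

/-- shrinking a piece into a given open neighbourhood -/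
theorem HasPiece.shrink {E : Set X} {x : X} (h : HasPiece X E x) (U : X.Opens) (hxU : x ∈ U) :
    ∃ (V₁ : X.Opens) (V₂ : Set X), IsAffineOpen V₁ ∧ IsOpen V₂ ∧ IsCompact V₂ ∧ V₂ ⊆ V₁ ∧
      x ∈ V₁ ∧ x ∉ V₂ ∧ (V₁ : Set X) \ V₂ ⊆ E ∧ V₁ ≤ U := by
  obtain ⟨V₁, V₂, h1, h2, h3, h4, h5, h6, h7⟩ := h
  obtain ⟨W, hW, hxW, hWsub⟩ := exists_isAffineOpen_mem_and_subset (x := x) (U := V₁ ⊓ U)
    ⟨h5, hxU⟩
  refine ⟨W, V₂ ∩ W, hW, h2.inter W.2, ?_, Set.inter_subset_right, hxW,
    fun hx => h6 hx.1, ?_, fun y hy => (hWsub hy).2⟩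
  · exact h1.isQuasiSeparated V₂ W h4 h2 h3 (fun y hy => (hWsub hy).1) W.2 hW.isCompact
  · rintro y ⟨hyW, hy2⟩
    exact h7 ⟨(hWsub hyW).1, fun hy => hy2 ⟨hy, hyW⟩⟩

theorem ind_pieces {E : Set X} (hE : ProCons.IsIndConstructible E) :
    ∀ x ∈ E, HasPiece X E x := by
  intro x hx
  obtain ⟨U, hU, hxU, S, hS, hES⟩ := hE x
  have hxS : (⟨x, hxU⟩ : U) ∈ ⋃₀ S := by rw [← hES]; exact hx
  obtain ⟨T, hTS, hxT⟩ := hxS
  obtain ⟨W, hW, hxW, hWU⟩ := exists_isAffineOpen_mem_and_subset (x := x)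
    (U := (⟨U, hU⟩ : X.Opens)) hxU
  have hWU' : (W : Set X) ⊆ U := hWU
  let TW : Set (W : Set X) := Set.inclusion hWU' ⁻¹' T
  have hTW : IsLocallyConstructible TW :=
    (hS T hTS).preimage_of_isOpenEmbedding
      (Topology.IsOpenEmbedding.inclusion hWU' (W.2.preimage continuous_subtype_val))
  haveI : CompactSpace (W : Set X) := isCompact_iff_compactSpace.mp hW.isCompact
  haveI : QuasiSeparatedSpace (W : Set X) :=
    (isQuasiSeparated_iff_quasiSeparatedSpace _ W.2).mp hW.isQuasiSeparated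
  haveI : PrespectralSpace (W : Set X) := W.2.isOpenEmbedding_subtypeVal.prespectralSpace
  obtain ⟨A, B, hAo, hAc, hBo, hBc, hxA, hxB, hAB⟩ :=
    exists_compact_opens_of_isConstructible hTW.isConstructible ⟨x, hxW⟩ hxT
  have hA'o : IsOpen (Subtype.val '' A : Set X) := W.2.isOpenMap_subtype_val A hAo
  have hB'o : IsOpen (Subtype.val '' B : Set X) := W.2.isOpenMap_subtype_val B hBo
  have hB'c : IsCompact (Subtype.val '' B : Set X) := hBc.image continuous_subtype_val
  obtain ⟨V₁, hV₁, hxV₁, hV₁A⟩ := exists_isAffineOpen_mem_and_subset (x := x)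
    (U := (⟨Subtype.val '' A, hA'o⟩ : X.Opens)) ⟨⟨x, hxW⟩, hxA, rfl⟩
  have hV₁W : (V₁ : Set X) ⊆ W := by
    intro y hy
    obtain ⟨a, -, rfl⟩ := hV₁A hy
    exact a.2
  refine ⟨V₁, Subtype.val '' B ∩ V₁, hV₁, hB'o.inter V₁.2, ?_, Set.inter_subset_right, hxV₁,
    ?_, ?_⟩
  · refine hW.isQuasiSeparated _ _ ?_ hB'o hB'c hV₁W V₁.2 hV₁.isCompact
    rintro _ ⟨b, -, rfl⟩
    exact b.2
  · rintro ⟨⟨b, hb, hbx⟩, -⟩
    have : b = ⟨x, hxW⟩ := Subtype.ext hbx
    exact hxB (this ▸ hb)
  · rintro y ⟨hy1, hy2⟩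
    obtain ⟨a, ha, rfl⟩ := hV₁A hy1
    have haB : a ∉ B := fun hb => hy2 ⟨⟨a, hb, rfl⟩, hy1⟩
    have haT : a ∈ TW := hAB ⟨ha, haB⟩
    have : Set.inclusion hWU' a ∈ ⋃₀ S := ⟨T, hTS, haT⟩
    rw [← hES] at this
    exact this

theorem ind_of_pieces {E : Set X} (h : ∀ x ∈ E, HasPiece X E x) :
    ProCons.IsIndConstructible E := by
  intro y
  obtain ⟨U, hU, hyU, -⟩ := exists_isAffineOpen_mem_and_subset (x := y) (U := ⊤) trivial
  haveI : QuasiSeparatedSpace (U : Set X) :=
    (isQuasiSeparated_iff_quasiSeparatedSpace _ U.2).mp hU.isQuasiSeparated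
  refine ⟨U, U.2, hyU, {Q : Set (U : Set X) | ∃ (V₁ : X.Opens) (V₂ : Set X), IsAffineOpen V₁ ∧ IsOpen V₂ ∧
    IsCompact V₂ ∧ V₂ ⊆ V₁ ∧ (V₁ : Set X) \ V₂ ⊆ E ∧ V₁ ≤ U ∧
    Q = Subtype.val ⁻¹' ((V₁ : Set X) \ V₂)}, ?_, ?_⟩
  · rintro Q ⟨V₁, V₂, hV₁, hV₂o, hV₂c, hV₂V₁, -, hV₁U, rfl⟩
    apply IsConstructible.isLocallyConstructible
    rw [Set.preimage_sdiff]
    have hsub2 : V₂ ⊆ U := hV₂V₁.trans hV₁U
    refine IsConstructible.sdiff ?_ ?_
    · refine IsCompact.isConstructible ?_ (V₁.2.preimage continuous_subtype_val)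
      rw [Topology.IsInducing.subtypeVal.isCompact_preimage_iff (by simpa using hV₁U)]
      exact hV₁.isCompact
    · refine IsCompact.isConstructible ?_ (hV₂o.preimage continuous_subtype_val)
      rw [Topology.IsInducing.subtypeVal.isCompact_preimage_iff (by simpa using hsub2)]
      exact hV₂c
  · ext u
    simp only [Set.mem_preimage, Set.mem_sUnion, Set.mem_ofPred_eq]
    constructor
    · intro hu
      obtain ⟨V₁, V₂, h1, h2, h3, h4, h5, h6, h7, h8⟩ := (h u.1 hu).shrink U u.2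
      exact ⟨_, ⟨V₁, V₂, h1, h2, h3, h4, h7, h8, rfl⟩, ⟨h5, h6⟩⟩
    · rintro ⟨Q, ⟨V₁, V₂, -, -, -, -, hsub, -, rfl⟩, hu⟩
      exact hsub hu

theorem ind_iff_pieces (E : Set X) :
    ProCons.IsIndConstructible E ↔ ∀ x ∈ E, HasPiece X E x :=
  ⟨ind_pieces, ind_of_pieces⟩

theorem pro_iff_pieces (E : Set X) :
    ProCons.IsProConstructible E ↔ ∀ x ∉ E, HasPiece X Eᶜ x := by
  rw [pro_iff_ind_compl, ind_iff_pieces]
  rfl

end Scheme

section QCQS

variable {X : Scheme.{u}} [CompactSpace X] [QuasiSeparatedSpace X]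

/-- finite intersections of subbasic sets of the constructible topology are differences of
compact opens -/
theorem sInter_subbasis_eq_diff {F : Set (Set X)} (hF : F.Finite)
    (hsub : F ⊆ constructibleTopologySubbasis X) :
    ∃ A B : Set X, IsOpen A ∧ IsCompact A ∧ IsOpen B ∧ IsCompact B ∧ ⋂₀ F = A \ B := by
  induction F, hF using Set.Finite.induction_on with
  | empty =>
    exact ⟨Set.univ, ∅, isOpen_univ, isCompact_univ, isOpen_empty, isCompact_empty, by simp⟩
  | @insert s F hs hF ih =>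
    obtain ⟨A, B, hAo, hAc, hBo, hBc, hAB⟩ := ih (fun t ht => hsub (Set.mem_insert_of_mem _ ht))
    rcases hsub (Set.mem_insert s F) with h | h
    · refine ⟨s ∩ A, B, h.1.inter hAo, QuasiSeparatedSpace.inter_isCompact _ _ h.1 h.2 hAo hAc,
        hBo, hBc, ?_⟩
      rw [Set.sInter_insert, hAB, Set.inter_sdiff_assoc]
    · refine ⟨A, B ∪ sᶜ, hAo, hAc, hBo.union h.1.isOpen_compl, hBc.union h.2, ?_⟩
      rw [Set.sInter_insert, hAB]
      ext y
      simp only [Set.mem_inter_iff, Set.mem_sdiff, Set.mem_union, Set.mem_compl_iff, not_or,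
        not_not]
      tauto

theorem ind_iff_isOpen_constructibleTopology (E : Set X) :
    ProCons.IsIndConstructible E ↔ IsOpen[constructibleTopology X] E := by
  constructor
  · intro hE
    rw [@isOpen_iff_forall_mem_open X (constructibleTopology X) E]
    intro x hx
    obtain ⟨V₁, V₂, h1, h2, h3, h4, h5, h6, h7⟩ := ind_pieces hE x hx
    refine ⟨(V₁ : Set X) ∩ V₂ᶜ, h7, ?_, ⟨h5, h6⟩⟩
    refine @IsOpen.inter X (constructibleTopology X) _ _ ?_ ?_
    · exact h1.isCompact.isOpen_constructibleTopology_of_isOpen V₁.2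
    · exact IsCompact.isOpen_constructibleTopology_of_isClosed (by rwa [compl_compl])
        h2.isClosed_compl
  · intro hE
    apply ind_of_pieces
    intro x hx
    have hb := @isTopologicalBasis_of_subbasis X (constructibleTopology X)
      (constructibleTopologySubbasis X) rfl
    obtain ⟨_, ⟨F, ⟨hFfin, hFsub⟩, rfl⟩, hxF, hFE⟩ :=
      (@TopologicalSpace.IsTopologicalBasis.exists_subset_of_mem_open X (constructibleTopology X)
        _ hb x E hx hE)
    change x ∈ ⋂₀ F at hxF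
    change ⋂₀ F ⊆ E at hFE
    obtain ⟨A, B, hAo, hAc, hBo, hBc, hAB⟩ := sInter_subbasis_eq_diff hFfin hFsub
    rw [hAB] at hxF hFE
    obtain ⟨V₁, hV₁, hxV₁, hV₁A⟩ := exists_isAffineOpen_mem_and_subset (x := x)
      (U := (⟨A, hAo⟩ : X.Opens)) hxF.1
    refine ⟨V₁, B ∩ V₁, hV₁, hBo.inter V₁.2,
      QuasiSeparatedSpace.inter_isCompact _ _ hBo hBc V₁.2 hV₁.isCompact,
      Set.inter_subset_right, hxV₁, fun h => hxF.2 h.1, ?_⟩
    rintro y ⟨hy1, hy2⟩
    exact hFE ⟨hV₁A hy1, fun hyB => hy2 ⟨hyB, hy1⟩⟩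

theorem pro_iff_isClosed_constructibleTopology (E : Set X) :
    ProCons.IsProConstructible E ↔ IsClosed[constructibleTopology X] E := by
  rw [pro_iff_ind_compl, ind_iff_isOpen_constructibleTopology,
    @isOpen_compl_iff X E (constructibleTopology X)]

theorem compactSpace_constructibleTopology : @CompactSpace X (constructibleTopology X) :=
  @Function.Surjective.compactSpace (WithConstructibleTopology X) X _ (constructibleTopology X)
    WithTopology.ofTopology (WithTopology.continuous_ofTopology _) inferInstance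
    (WithTopology.ofTopology_surjective _)

/-- the basic compactness statement on a quasi-compact quasi-separated scheme -/
theorem exists_finite_subcover {F : Set X} (hF : ProCons.IsProConstructible F) {ι : Type*}
    (E : ι → Set X) (hE : ∀ i, ProCons.IsIndConstructible (E i)) (h : F ⊆ ⋃ i, E i) :
    ∃ J : Finset ι, F ⊆ ⋃ i ∈ J, E i := by
  have hFc : @IsCompact X (constructibleTopology X) F :=
    @IsClosed.isCompact X (constructibleTopology X) F compactSpace_constructibleTopology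
      ((pro_iff_isClosed_constructibleTopology F).mp hF)
  exact @IsCompact.elim_finite_subcover X (constructibleTopology X) F ι hFc E
    (fun i => (ind_iff_isOpen_constructibleTopology (E i)).mp (hE i)) h

end QCQS

section QC

variable {X : Scheme.{u}} [CompactSpace X]

/-- compactness on a quasi-compact scheme (no quasi-separatedness needed) -/
theorem exists_finite_subcover' {F : Set X} (hF : ProCons.IsProConstructible F) {ι : Type*}
    (E : ι → Set X) (hE : ∀ i, ProCons.IsIndConstructible (E i)) (h : F ⊆ ⋃ i, E i) :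
    ∃ J : Finset ι, F ⊆ ⋃ i ∈ J, E i := by
  classical
  let 𝒰 : X.OpenCover := X.affineCover.finiteSubcover
  have key : ∀ k : 𝒰.I₀, ∃ J : Finset ι,
      (𝒰.f k).base ⁻¹' F ⊆ ⋃ i ∈ J, (𝒰.f k).base ⁻¹' (E i) := by
    intro k
    haveI : IsAffine (𝒰.X k) := by
      dsimp only [𝒰]; infer_instance
    refine exists_finite_subcover (X := 𝒰.X k)
      (Groth.Agent.Helper7.PC.pro_preimage (𝒰.f k) F hF)
      (fun i => (𝒰.f k).base ⁻¹' (E i))
      (fun i => Groth.Agent.Helper7.PC.ind_preimage (𝒰.f k) (E i) (hE i)) ?_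
    intro y hy
    obtain ⟨i, hi⟩ := Set.mem_iUnion.mp (h hy)
    exact Set.mem_iUnion.mpr ⟨i, hi⟩
  choose J hJ using key
  refine ⟨Finset.univ.biUnion J, ?_⟩
  intro x hx
  obtain ⟨k, y, rfl⟩ := 𝒰.exists_eq x
  have := hJ k hx
  simp only [Set.mem_iUnion, Set.mem_preimage, exists_prop] at this
  obtain ⟨i, hiJ, hi⟩ := this
  simp only [Set.mem_iUnion, Finset.mem_biUnion, Finset.mem_univ, true_and, exists_prop]
  exact ⟨i, ⟨k, hiJ⟩, hi⟩

/-- dual form -/
theorem exists_finite_subfamily_inter_subset {E : Set X} (hE : ProCons.IsIndConstructible E)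
    {ι : Type*} (F : ι → Set X) (hF : ∀ i, ProCons.IsProConstructible (F i))
    (h : ⋂ i, F i ⊆ E) : ∃ J : Finset ι, ⋂ i ∈ J, F i ⊆ E := by
  classical
  have hcov : (Set.univ : Set X) ⊆ ⋃ o : Option ι, (Option.elim o E (fun i => (F i)ᶜ)) := by
    intro x _
    by_cases hx : x ∈ E
    · exact Set.mem_iUnion.mpr ⟨none, hx⟩
    · have : x ∉ ⋂ i, F i := fun hh => hx (h hh)
      simp only [Set.mem_iInter, not_forall] at this
      obtain ⟨i, hi⟩ := this
      exact Set.mem_iUnion.mpr ⟨some i, hi⟩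
  have huniv : ProCons.IsProConstructible (Set.univ : Set X) := by
    intro x
    refine ⟨Set.univ, isOpen_univ, trivial, ∅, by simp, by simp⟩
  obtain ⟨J, hJ⟩ := exists_finite_subcover' huniv _ (fun o => by
    cases o with
    | none => exact hE
    | some i => exact (pro_iff_ind_compl _).mp (hF i)) hcov
  refine ⟨J.preimage some (Option.some_injective _).injOn, ?_⟩
  intro x hx
  by_contra hxE
  have := hJ (Set.mem_univ x)
  simp only [Set.mem_iUnion, exists_prop] at this
  obtain ⟨o, hoJ, ho⟩ := this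
  cases o with
  | none => exact hxE ho
  | some i =>
    simp only [Set.mem_iInter, Finset.mem_preimage] at hx
    exact ho (hx i hoJ)

end QC

end Groth.Agent.Lead.ProConsLib
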