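import Mathlib
import Groth.Prelude.Def_ProCons
import Groth.Agent.Lead.ProConsLib

set_option autoImplicit false
universe u

open AlgebraicGeometry Topology CategoryTheory TopologicalSpace

namespace Groth.Agent.Lead.ProConsLib

section Top2

variable {X : Type*} [TopologicalSpace X]

theorem ind_of_isLocallyConstructible {E : Set X} (hE : IsLocallyConstructible E) :
    ProCons.IsIndConstructible E := by
  intro x
  refine ⟨Set.univ, isOpen_univ, trivial, {Subtype.val ⁻¹' E}, ?_, by simp⟩
  intro T hT
  rw [Set.mem_singleton_iff] at hT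
  subst hT
  exact hE.preimage_of_isOpenEmbedding isOpen_univ.isOpenEmbedding_subtypeVal

theorem pro_of_isLocallyConstructible {E : Set X} (hE : IsLocallyConstructible E) :
    ProCons.IsProConstructible E := by
  intro x
  refine ⟨Set.univ, isOpen_univ, trivial, {Subtype.val ⁻¹' E}, ?_, by simp⟩
  intro T hT
  rw [Set.mem_singleton_iff] at hT
  subst hT
  exact hE.preimage_of_isOpenEmbedding isOpen_univ.isOpenEmbedding_subtypeVal

end Top2

section QCQS2

variable {X : Scheme.{u}} [CompactSpace X] [QuasiSeparatedSpace X]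

theorem isConstructible_of_ind_of_pro {E : Set X} (h1 : ProCons.IsIndConstructible E)
    (h2 : ProCons.IsProConstructible E) : IsConstructible E := by
  classical
  have key : ∀ x : E, ∃ P : Set X, IsConstructible P ∧ (x : X) ∈ P ∧ P ⊆ E := by
    intro x
    obtain ⟨V₁, V₂, h1', h2', h3, h4, h5, h6, h7⟩ := ind_pieces h1 x.1 x.2
    exact ⟨(V₁ : Set X) \ V₂, (h1'.isCompact.isConstructible V₁.2).sdiff (h3.isConstructible h2'),
      ⟨h5, h6⟩, h7⟩
  choose P hP1 hP2 hP3 using key
  obtain ⟨J, hJ⟩ := exists_finite_subcover h2 P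
    (fun x => ind_of_isLocallyConstructible (hP1 x).isLocallyConstructible)
    (fun x hx => Set.mem_iUnion.mpr ⟨⟨x, hx⟩, hP2 ⟨x, hx⟩⟩)
  have hEq : E = ⋃ i ∈ (J : Set E), P i := by
    apply subset_antisymm
    · exact hJ
    · exact Set.iUnion₂_subset fun i _ => hP3 i
  rw [hEq]
  exact IsConstructible.biUnion J.finite_toSet (fun i _ => hP1 i)

end QCQS2

section Scheme2

variable {X : Scheme.{u}}

theorem isLocallyConstructible_iff_ind_and_pro (E : Set X) :
    IsLocallyConstructible E ↔ ProCons.IsIndConstructible E ∧ ProCons.IsProConstructible E := by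
  constructor
  · intro h
    exact ⟨ind_of_isLocallyConstructible h, pro_of_isLocallyConstructible h⟩
  · rintro ⟨h1, h2⟩ x
    obtain ⟨W, hW, hxW, -⟩ := exists_isAffineOpen_mem_and_subset (x := x) (U := ⊤) trivial
    refine ⟨(W : Set X), W.2.mem_nhds hxW, W.2, ?_⟩
    haveI : IsAffine W.toScheme := hW
    have := isConstructible_of_ind_of_pro (X := W.toScheme)
      (Groth.Agent.Helper7.PC.ind_preimage W.ι E h1)
      (Groth.Agent.Helper7.PC.pro_preimage W.ι E h2)
    exact this

end Scheme2

end Groth.Agent.Lead.ProConsLib
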