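import Mathlib
import Groth.Prelude.Def_ProCons
import Groth.Agent.Lead.ProConsLib2

set_option autoImplicit false
universe u

open AlgebraicGeometry Topology CategoryTheory TopologicalSpace

namespace Groth.Agent.Lead.ProConsLib

section Scheme3

variable {X : Scheme.{u}}

theorem mem_interior_iff_of_ind {E : Set X} (hE : ProCons.IsIndConstructible E) (x : X) :
    x ∈ interior E ↔ ∀ x' : X, x' ⤳ x → x' ∈ E := by
  constructor
  · intro hx x' hx'
    exact interior_subset (hx'.mem_open isOpen_interior hx)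
  · intro h
    obtain ⟨W, hW, hxW, -⟩ := exists_isAffineOpen_mem_and_subset (x := x) (U := ⊤) trivial
    haveI : IsAffine W.toScheme := hW
    let x₀ : W.toScheme := ⟨x, hxW⟩
    let ι := {U : Set W.toScheme // IsOpen U ∧ IsCompact U ∧ x₀ ∈ U}
    have hsub : ⋂ i : ι, (i.1 : Set W.toScheme) ⊆ W.ι.base ⁻¹' E := by
      intro y hy
      have hyx : y ⤳ x₀ := by
        rw [specializes_iff_forall_open]
        intro s hs hx₀s
        obtain ⟨V, ⟨hV₁, hV₂⟩, hxV, hVs⟩ :=
          PrespectralSpace.isTopologicalBasis.exists_subset_of_mem_open hx₀s hs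
        exact hVs (Set.mem_iInter.mp hy ⟨V, hV₁, hV₂, hxV⟩)
      exact h _ (hyx.map W.ι.continuous)
    obtain ⟨J, hJ⟩ := exists_finite_subfamily_inter_subset (X := W.toScheme)
      (Groth.Agent.Helper7.PC.ind_preimage W.ι E hE) (fun i : ι => (i.1 : Set W.toScheme))
      (fun i => pro_of_isLocallyConstructible
        ((i.2.2.1.isConstructible i.2.1).isLocallyConstructible)) hsub
    rw [mem_interior]
    refine ⟨W.ι.base '' (⋂ i ∈ J, (i.1 : Set W.toScheme)), ?_, ?_, ?_⟩
    · rintro _ ⟨y, hy, rfl⟩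
      exact hJ hy
    · apply W.ι.isOpenEmbedding.isOpenMap
      exact isOpen_biInter_finset (fun i _ => i.2.1)
    · refine ⟨x₀, ?_, rfl⟩
      simp only [Set.mem_iInter]
      intro i _
      exact i.2.2.2

end Scheme3

end Groth.Agent.Lead.ProConsLib
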