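import Mathlib
import Groth.Prelude.Def_ProCons
import Groth.Agent.Lead.ProConsLib2

set_option autoImplicit false
universe u

open AlgebraicGeometry Topology CategoryTheory TopologicalSpace

namespace Groth.Agent.Lead.ProConsLib

section Top3

variable {X : Type*} [TopologicalSpace X]

theorem t2Space_constructibleTopology [T0Space X] [PrespectralSpace X] :
    @T2Space X (constructibleTopology X) := by
  refine @T2Space.mk X (constructibleTopology X) (fun x y hxy => ?_)
  obtain ⟨U, hU, hxor⟩ := exists_isOpen_xor_mem hxy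
  rcases hxor with ⟨hxU, hyU⟩ | ⟨hyU, hxU⟩
  · obtain ⟨W, ⟨hW₁, hW₂⟩, hxW, hWU⟩ :=
      PrespectralSpace.isTopologicalBasis.exists_subset_of_mem_open hxU hU
    refine ⟨W, Wᶜ, hW₂.isOpen_constructibleTopology_of_isOpen hW₁,
      IsCompact.isOpen_constructibleTopology_of_isClosed (by rwa [compl_compl])
        hW₁.isClosed_compl, hxW, fun h => hyU (hWU h), disjoint_compl_right⟩
  · obtain ⟨W, ⟨hW₁, hW₂⟩, hyW, hWU⟩ :=
      PrespectralSpace.isTopologicalBasis.exists_subset_of_mem_open hyU hU
    refine ⟨Wᶜ, W, IsCompact.isOpen_constructibleTopology_of_isClosed (by rwa [compl_compl])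
        hW₁.isClosed_compl, hW₂.isOpen_constructibleTopology_of_isOpen hW₁,
        fun h => hxU (hWU h), hyW, disjoint_compl_left⟩

/-- a spectral-like map (preimages of compact opens are compact) is continuous for the
constructible topologies -/
theorem continuous_constructibleTopology {Y : Type*} [TopologicalSpace Y] (f : X → Y)
    (hf : Continuous f) (hf' : ∀ s : Set Y, IsOpen s → IsCompact s → IsCompact (f ⁻¹' s)) :
    @Continuous X Y (constructibleTopology X) (constructibleTopology Y) f := by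
  rw [constructibleTopology, constructibleTopology]
  apply continuous_generateFrom_iff.mpr
  rintro s (⟨hs₁, hs₂⟩ | ⟨hs₁, hs₂⟩)
  · exact TopologicalSpace.isOpen_generateFrom_of_mem
      (Or.inl ⟨hs₁.preimage hf, hf' s hs₁ hs₂⟩)
  · refine TopologicalSpace.isOpen_generateFrom_of_mem (Or.inr ⟨hs₁.preimage hf, ?_⟩)
    rw [← Set.preimage_compl]
    exact hf' _ hs₁.isOpen_compl hs₂

end Top3

end Groth.Agent.Lead.ProConsLib

namespace Groth.Agent.Lead.ProConsLib

section Scheme4

variable {X : Scheme.{u}}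

theorem hasPiece_of_isOpenImmersion {U : Scheme.{u}} (j : U ⟶ X) [IsOpenImmersion j] {E : Set X}
    {x₀ : U} (h : HasPiece U (j.base ⁻¹' E) x₀) : HasPiece X E (j.base x₀) := by
  obtain ⟨V₁, V₂, h1, h2, h3, h4, h5, h6, h7⟩ := h
  refine ⟨j ''ᵁ V₁, j.base '' V₂, h1.image_of_isOpenImmersion j, j.isOpenEmbedding.isOpenMap _ h2,
    h3.image j.continuous, ?_, ⟨x₀, h5, rfl⟩, ?_, ?_⟩
  · rintro _ ⟨a, ha, rfl⟩
    exact ⟨a, h4 ha, rfl⟩
  · rintro ⟨y, hy, hyx⟩
    exact h6 (j.isOpenEmbedding.injective hyx ▸ hy)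
  · rintro _ ⟨⟨a, ha, rfl⟩, hy2⟩
    exact h7 ⟨ha, fun ha2 => hy2 ⟨a, ha2, rfl⟩⟩

theorem ind_of_local {E : Set X}
    (h : ∀ x ∈ E, ∃ U : X.Opens, x ∈ U ∧ ProCons.IsIndConstructible (U.ι.base ⁻¹' E)) :
    ProCons.IsIndConstructible E := by
  apply ind_of_pieces
  intro x hx
  obtain ⟨U, hxU, hU⟩ := h x hx
  exact hasPiece_of_isOpenImmersion U.ι (x₀ := ⟨x, hxU⟩) (ind_pieces hU ⟨x, hxU⟩ hx)

theorem pro_of_local {E : Set X}
    (h : ∀ x ∉ E, ∃ U : X.Opens, x ∈ U ∧ ProCons.IsProConstructible (U.ι.base ⁻¹' E)) :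
    ProCons.IsProConstructible E := by
  rw [pro_iff_ind_compl]
  apply ind_of_local
  intro x hx
  obtain ⟨U, hxU, hU⟩ := h x hx
  refine ⟨U, hxU, ?_⟩
  rw [pro_iff_ind_compl] at hU
  exact hU

end Scheme4

section QCQS3

variable {X Y : Scheme.{u}} [CompactSpace X] [QuasiSeparatedSpace X]
  [CompactSpace Y] [QuasiSeparatedSpace Y]

/-- images of pro-constructible sets under quasi-compact morphisms of qcqs schemes -/
theorem pro_image_qcqs (f : X ⟶ Y) [QuasiCompact f] {F : Set X}
    (hF : ProCons.IsProConstructible F) : ProCons.IsProConstructible (f.base '' F) := by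
  rw [pro_iff_isClosed_constructibleTopology] at hF ⊢
  have hFc : @IsCompact X (constructibleTopology X) F :=
    @IsClosed.isCompact X (constructibleTopology X) F compactSpace_constructibleTopology hF
  have hcont : @Continuous X Y (constructibleTopology X) (constructibleTopology Y) f.base :=
    continuous_constructibleTopology _ f.continuous
      (fun s hs hs' => QuasiCompact.isCompact_preimage (f := f) s hs hs')
  have := @IsCompact.image X Y (constructibleTopology X) (constructibleTopology Y) F f.base hFc hcont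
  exact @IsCompact.isClosed Y (constructibleTopology Y) t2Space_constructibleTopology _ this

end QCQS3

end Groth.Agent.Lead.ProConsLib
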