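import Mathlib
import Groth.Prelude.Def_ProCons
import Groth.Agent.Lead.ProConsLib3
import Groth.Agent.Lead.ProConsLib4

set_option autoImplicit false
universe u

open AlgebraicGeometry Topology CategoryTheory TopologicalSpace

namespace Groth.Agent.Lead.ProConsLib

section QCQS4

variable {Y : Scheme.{u}} [CompactSpace Y] [QuasiSeparatedSpace Y]

theorem pro_iUnion_finite {κ : Type*} [Finite κ] (F : κ → Set Y)
    (hF : ∀ k, ProCons.IsProConstructible (F k)) : ProCons.IsProConstructible (⋃ k, F k) := by
  rw [pro_iff_isClosed_constructibleTopology]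
  exact @isClosed_iUnion_of_finite Y κ (constructibleTopology Y) _ F
    (fun k => (pro_iff_isClosed_constructibleTopology (F k)).mp (hF k))

end QCQS4

section Image

variable {X' X : Scheme.{u}}

theorem pro_image (f : X' ⟶ X) [QuasiCompact f] {E' : Set X'}
    (hE' : ProCons.IsProConstructible E') : ProCons.IsProConstructible (f.base '' E') := by
  apply pro_of_local
  intro x _
  obtain ⟨W, hW, hxW, -⟩ := exists_isAffineOpen_mem_and_subset (x := x) (U := ⊤) trivial
  refine ⟨W, hxW, ?_⟩
  haveI : IsAffine W.toScheme := hW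
  let V : X'.Opens := f ⁻¹ᵁ W
  haveI : CompactSpace V.toScheme :=
    isCompact_iff_compactSpace.mp (QuasiCompact.isCompact_preimage (f := f) _ W.2 hW.isCompact)
  let 𝒰 : V.toScheme.OpenCover := V.toScheme.affineCover.finiteSubcover
  haveI : ∀ k, IsAffine (𝒰.X k) := fun k => by dsimp only [𝒰]; infer_instance
  have hEq : W.ι.base ⁻¹' (f.base '' E') =
      ⋃ k : 𝒰.I₀, (𝒰.f k ≫ f ∣_ W).base '' ((𝒰.f k ≫ V.ι).base ⁻¹' E') := by
    ext w
    simp only [Set.mem_preimage, Set.mem_image, Set.mem_iUnion]
    constructor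
    · rintro ⟨e, he, hew⟩
      have heV : e ∈ V := by
        change f.base e ∈ W
        rw [hew]; exact w.2
      obtain ⟨k, u, hu⟩ := 𝒰.exists_eq (⟨e, heV⟩ : V.toScheme)
      refine ⟨k, u, ?_, ?_⟩
      · rw [Scheme.Hom.comp_base, TopCat.comp_app, hu]
        exact he
      · apply W.ι.isOpenEmbedding.injective
        rw [← hew, ← Scheme.Hom.comp_apply, Category.assoc, morphismRestrict_ι,
          Scheme.Hom.comp_apply, Scheme.Hom.comp_apply]
        congr 1
        exact congrArg V.ι.base hu
    · rintro ⟨k, u, hu, rfl⟩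
      refine ⟨_, hu, ?_⟩
      rw [← Scheme.Hom.comp_apply, ← Scheme.Hom.comp_apply, Category.assoc, Category.assoc,
        morphismRestrict_ι]
  rw [hEq]
  exact pro_iUnion_finite _ (fun k => pro_image_qcqs _
    (Groth.Agent.Helper7.PC.pro_preimage _ _ hE'))

end Image

end Groth.Agent.Lead.ProConsLib
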