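import Mathlib
import Groth.Prelude.Def_ProCons
import Groth.Agent.Lead.ProConsLib5

set_option autoImplicit false
universe u

open AlgebraicGeometry Topology CategoryTheory TopologicalSpace

namespace Groth.Agent.Lead.ProConsLib

section Image2

variable {X' X : Scheme.{u}}

theorem ind_image (f : X' ⟶ X) [LocallyOfFinitePresentation f] {E' : Set X'}
    (hE' : ProCons.IsIndConstructible E') : ProCons.IsIndConstructible (f.base '' E') := by
  apply ind_of_pieces
  rintro _ ⟨x, hx, rfl⟩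
  obtain ⟨W, hW, hyW, -⟩ := exists_isAffineOpen_mem_and_subset (x := f.base x) (U := ⊤) trivial
  obtain ⟨V₁, V₂, h1, h2, h3, h4, h5, h6, h7, h8⟩ :=
    (ind_pieces hE' x hx).shrink (f ⁻¹ᵁ W) hyW
  let g : V₁.toScheme ⟶ W.toScheme := f.resLE W V₁ h8
  haveI : IsAffine V₁.toScheme := h1
  haveI : IsAffine W.toScheme := hW
  have hC : IsConstructible (V₁.ι.base ⁻¹' ((V₁ : Set X') \ V₂)) := by
    have : V₁.ι.base ⁻¹' ((V₁ : Set X') \ V₂) = (V₁.ι.base ⁻¹' V₂)ᶜ := by
      ext a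
      simp only [Set.mem_preimage, Set.mem_sdiff, Set.mem_compl_iff, and_iff_right_iff_imp]
      intro _
      exact a.2
    rw [this, isConstructible_compl]
    refine IsCompact.isConstructible ?_ (h2.preimage V₁.ι.continuous)
    rw [V₁.ι.isOpenEmbedding.isInducing.isCompact_preimage_iff]
    · exact h3
    · rw [Scheme.Opens.range_ι]; exact h4
  have hgC : IsConstructible (g.base '' (V₁.ι.base ⁻¹' ((V₁ : Set X') \ V₂))) :=
    g.isConstructible_image hC
  have hgx : W.ι.base (g.base ⟨x, h5⟩) = f.base x := by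
    rw [← Scheme.Hom.comp_apply, Scheme.Hom.resLE_comp_ι, Scheme.Hom.comp_apply]
    rfl
  have hy₀ : (⟨f.base x, hyW⟩ : W.toScheme) ∈
      g.base '' (V₁.ι.base ⁻¹' ((V₁ : Set X') \ V₂)) := by
    refine ⟨⟨x, h5⟩, ⟨h5, h6⟩, ?_⟩
    apply W.ι.isOpenEmbedding.injective
    rw [hgx]
    rfl
  have hp := ind_pieces (ind_of_isLocallyConstructible hgC.isLocallyConstructible) _ hy₀
  have hsub : g.base '' (V₁.ι.base ⁻¹' ((V₁ : Set X') \ V₂)) ⊆ W.ι.base ⁻¹' (f.base '' E') := by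
    rintro _ ⟨c, hc, rfl⟩
    refine ⟨V₁.ι.base c, h7 hc, ?_⟩
    rw [← Scheme.Hom.comp_apply, ← Scheme.Hom.comp_apply, Scheme.Hom.resLE_comp_ι]
  exact hasPiece_of_isOpenImmersion W.ι (E := f.base '' E') (x₀ := ⟨f.base x, hyW⟩)
    (hp.mono hsub)

end Image2

end Groth.Agent.Lead.ProConsLib
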