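import Mathlib
import Groth.Prelude.Def_ProCons
import Groth.Agent.Lead.ProConsLib6

set_option autoImplicit false
universe u

open AlgebraicGeometry Topology CategoryTheory TopologicalSpace

namespace Groth.Agent.Lead.ProConsLib

section Closure

variable {X : Scheme.{u}}

/-- the closure of a pro-constructible set consists of specializations of its points -/
theorem exists_specializes_of_mem_closure {Z : Set X} (hZ : ProCons.IsProConstructible Z)
    {x : X} (hx : x ∈ closure Z) : ∃ z ∈ Z, z ⤳ x := by
  classical
  obtain ⟨W, hW, hxW, -⟩ := exists_isAffineOpen_mem_and_subset (x := x) (U := ⊤) trivial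
  haveI : IsAffine W.toScheme := hW
  let x₀ : W.toScheme := ⟨x, hxW⟩
  let ZW : Set W.toScheme := W.ι.base ⁻¹' Z
  have hZW : ProCons.IsProConstructible ZW := Groth.Agent.Helper7.PC.pro_preimage W.ι Z hZ
  have hx₀ : x₀ ∈ closure ZW := by
    have := W.ι.isOpenEmbedding.isInducing.closure_eq_preimage_closure_image ZW
    rw [this]
    change x ∈ closure (W.ι.base '' (W.ι.base ⁻¹' Z))
    rw [Set.image_preimage_eq_inter_range, Scheme.Opens.range_ι]
    rw [mem_closure_iff] at hx ⊢
    intro o ho hxo
    obtain ⟨z, ⟨hz1, hz2⟩, hz3⟩ := hx (o ∩ W) (ho.inter W.2) ⟨hxo, hxW⟩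
    exact ⟨z, hz1, hz3, hz2⟩
  let ι := {U : Set W.toScheme // IsOpen U ∧ IsCompact U ∧ x₀ ∈ U}
  let F : Option ι → Set W.toScheme := fun o => Option.elim o ZW (fun i => i.1)
  have hF : ∀ o, ProCons.IsProConstructible (F o) := by
    intro o
    cases o with
    | none => exact hZW
    | some i =>
      exact pro_of_isLocallyConstructible
        ((i.2.2.1.isConstructible i.2.1).isLocallyConstructible)
  have hne : (⋂ o, F o).Nonempty := by
    by_contra hemp
    rw [Set.not_nonempty_iff_eq_empty] at hemp
    obtain ⟨J, hJ⟩ := exists_finite_subfamily_inter_subset (X := W.toScheme) (E := ∅)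
      (ind_of_isLocallyConstructible IsLocallyConstructible.empty) F hF hemp.subset
    have hopen : IsOpen (⋂ i ∈ J.preimage some (Option.some_injective _).injOn,
        (i.1 : Set W.toScheme)) := isOpen_biInter_finset (fun i _ => i.2.1)
    have hmem : x₀ ∈ ⋂ i ∈ J.preimage some (Option.some_injective _).injOn,
        (i.1 : Set W.toScheme) := by
      simp only [Set.mem_iInter]
      intro i _
      exact i.2.2.2
    obtain ⟨z, hz1, hz2⟩ := mem_closure_iff.mp hx₀ _ hopen hmem
    apply hJ (a := z)
    simp only [Set.mem_iInter]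
    intro o ho
    cases o with
    | none => exact hz2
    | some i =>
      simp only [Set.mem_iInter, Finset.mem_preimage] at hz1
      exact hz1 i ho
  obtain ⟨z, hz⟩ := hne
  rw [Set.mem_iInter] at hz
  refine ⟨W.ι.base z, hz none, ?_⟩
  have hzx : z ⤳ x₀ := by
    rw [specializes_iff_forall_open]
    intro s hs hx₀s
    obtain ⟨V, ⟨hV₁, hV₂⟩, hxV, hVs⟩ :=
      PrespectralSpace.isTopologicalBasis.exists_subset_of_mem_open hx₀s hs
    exact hVs (hz (some ⟨V, hV₁, hV₂, hxV⟩))
  exact hzx.map W.ι.continuous

theorem closure_eq_of_pro {Z : Set X} (hZ : ProCons.IsProConstructible Z) :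
    closure Z = {x | ∃ z ∈ Z, z ⤳ x} := by
  ext x
  constructor
  · exact exists_specializes_of_mem_closure hZ
  · rintro ⟨z, hz, hzx⟩
    exact hzx.mem_closed isClosed_closure (subset_closure hz)

theorem pro_univ : ProCons.IsProConstructible (Set.univ : Set X) :=
  pro_of_isLocallyConstructible IsLocallyConstructible.univ

theorem pro_singleton (x : X) : ProCons.IsProConstructible ({x} : Set X) := by
  haveI : QuasiCompact (X.fromSpecResidueField x) := by
    constructor
    intro U _ _
    exact (Set.toFinite _).isCompact
  have := pro_image (X.fromSpecResidueField x) (pro_univ)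
  rwa [Set.image_univ, Scheme.range_fromSpecResidueField] at this

end Closure

end Groth.Agent.Lead.ProConsLib
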