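import Mathlib
import Groth.Prelude.Def_ProCons
import Groth.Agent.Lead.ProConsLib7

set_option autoImplicit false
universe u

open AlgebraicGeometry Topology CategoryTheory TopologicalSpace

namespace Groth.Agent.Lead.ProConsLib

section QCQS5

variable {X : Scheme.{u}} [CompactSpace X] [QuasiSeparatedSpace X]

theorem pro_of_isConstructible {s : Set X} (hs : IsConstructible s) :
    ProCons.IsProConstructible s :=
  pro_of_isLocallyConstructible hs.isLocallyConstructible

theorem pro_iff_sInter_constructible (E : Set X) :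
    ProCons.IsProConstructible E ↔
      ∃ S : Set (Set X), (∀ s ∈ S, IsConstructible s) ∧ E = ⋂₀ S := by
  constructor
  · intro hE
    have key : ∀ x : (Eᶜ : Set X), ∃ P : Set X, IsConstructible P ∧ (x : X) ∈ P ∧ P ⊆ Eᶜ := by
      intro x
      obtain ⟨V₁, V₂, h1', h2', h3, h4, h5, h6, h7⟩ := (pro_iff_pieces E).mp hE x.1 x.2
      exact ⟨(V₁ : Set X) \ V₂,
        (h1'.isCompact.isConstructible V₁.2).sdiff (h3.isConstructible h2'), ⟨h5, h6⟩, h7⟩
    choose P hP1 hP2 hP3 using key
    refine ⟨Set.range (fun x => (P x)ᶜ), ?_, ?_⟩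
    · rintro _ ⟨x, rfl⟩
      exact isConstructible_compl.mpr (hP1 x)
    · ext y
      simp only [Set.sInter_range, Set.mem_iInter, Set.mem_compl_iff]
      constructor
      · intro hy x hyx
        exact hP3 x hyx hy
      · intro h
        by_contra hy
        exact h ⟨y, hy⟩ (hP2 ⟨y, hy⟩)
  · rintro ⟨S, hS, rfl⟩
    rw [pro_iff_isClosed_constructibleTopology]
    apply @isClosed_sInter X (constructibleTopology X)
    intro s hs
    exact (pro_iff_isClosed_constructibleTopology s).mp (pro_of_isConstructible (hS s hs))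

end QCQS5

end Groth.Agent.Lead.ProConsLib
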