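import Mathlib
import Groth.Prelude.Def_ProCons
import Groth.Agent.Lead.ProConsLib

set_option autoImplicit false
universe u

open Topology TopologicalSpace

namespace Groth.Agent.Lead.ProConsLib

section Ring

variable {A : Type u} [CommRing A]

theorem exists_ringHom_of_sInter (E : Set (PrimeSpectrum A))
    (S : Set (Set (PrimeSpectrum A))) (hS : ∀ s ∈ S, IsConstructible s) (hE : E = ⋂₀ S) :
    ∃ (B : Type u) (_ : CommRing B) (f : A →+* B), Set.range (PrimeSpectrum.comap f) = E := by
  classical
  let B := ∀ p : E, p.1.asIdeal.ResidueField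
  let f : A →+* B := RingHom.pi (fun p => algebraMap A p.1.asIdeal.ResidueField)
  refine ⟨B, inferInstance, f, ?_⟩
  apply Set.Subset.antisymm
  · rintro _ ⟨q, rfl⟩
    by_contra hp'
    have hp'2 : PrimeSpectrum.comap f q ∉ ⋂₀ S := fun h => hp' (hE.superset h)
    rw [Set.mem_sInter] at hp'2
    push Not at hp'2
    obtain ⟨C, hCS, hp'C⟩ := hp'2
    have hCc : IsConstructible Cᶜ := isConstructible_compl.mpr (hS C hCS)
    obtain ⟨U₁, U₂, hU₁o, hU₁c, hU₂o, hU₂c, hxU₁, hxU₂, hsub⟩ :=
      exists_compact_opens_of_isConstructible hCc (PrimeSpectrum.comap f q) hp'C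
    obtain ⟨t, ht⟩ := PrimeSpectrum.isCompact_isOpen_iff.mp ⟨hU₂c, hU₂o⟩
    obtain ⟨_, ⟨g, rfl⟩, hgp', hgU₁⟩ :=
      PrimeSpectrum.isTopologicalBasis_basic_opens.exists_subset_of_mem_open hxU₁ hU₁o
    have hfg : f g ∉ q.asIdeal := hgp'
    have hfh : ∀ h ∈ t, f h ∈ q.asIdeal := by
      intro h hh
      have : PrimeSpectrum.comap f q ∈ PrimeSpectrum.zeroLocus (t : Set A) := by
        by_contra hcon
        apply hxU₂
        rw [← ht]
        exact hcon
      exact this hh
    have hEprop : ∀ p : E, g ∈ p.1.asIdeal ∨ ∃ h ∈ t, h ∉ p.1.asIdeal := by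
      intro p
      by_contra hcon
      push Not at hcon
      have hpC : p.1 ∈ C := by
        have := hE.subset p.2
        rw [Set.mem_sInter] at this
        exact this C hCS
      have : p.1 ∈ Cᶜ := by
        apply hsub
        refine ⟨hgU₁ hcon.1, ?_⟩
        rw [← ht]
        intro hh
        exact hh (fun h hh' => hcon.2 h hh')
      exact this hpC
    let u : A → B := fun h p => (algebraMap A p.1.asIdeal.ResidueField h)⁻¹
    have hzero : f g * ∏ h ∈ t, (1 - u h * f h) = 0 := by
      funext p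
      rw [Pi.mul_apply, Finset.prod_apply, Pi.zero_apply]
      rcases hEprop p with hgp | ⟨h, hht, hhp⟩
      · have : f g p = 0 := Ideal.algebraMap_residueField_eq_zero.mpr hgp
        rw [this, zero_mul]
      · have hne : algebraMap A p.1.asIdeal.ResidueField h ≠ 0 := fun h0 =>
          hhp (Ideal.algebraMap_residueField_eq_zero.mp h0)
        rw [Finset.prod_eq_zero hht, mul_zero]
        change 1 - (algebraMap A p.1.asIdeal.ResidueField h)⁻¹ *
          algebraMap A p.1.asIdeal.ResidueField h = 0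
        rw [inv_mul_cancel₀ hne, sub_self]
    have hmem : f g * ∏ h ∈ t, (1 - u h * f h) ∈ q.asIdeal := by
      rw [hzero]; exact q.asIdeal.zero_mem
    rcases q.2.mem_or_mem hmem with h1 | h2
    · exact hfg h1
    · haveI := q.2
      rw [Ideal.IsPrime.prod_mem_iff] at h2
      obtain ⟨h, hht, hh⟩ := h2
      have h1 : u h * f h ∈ q.asIdeal := q.asIdeal.mul_mem_left _ (hfh h hht)
      have : (1 : B) ∈ q.asIdeal := by
        have := q.asIdeal.add_mem hh h1
        simpa using this
      exact q.2.ne_top ((Ideal.eq_top_iff_one _).mpr this)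
  · intro p hp
    let π : B →+* p.asIdeal.ResidueField := Pi.evalRingHom _ (⟨p, hp⟩ : E)
    refine ⟨PrimeSpectrum.comap π ⊥, ?_⟩
    rw [← PrimeSpectrum.comap_comp_apply]
    ext a
    simp only [PrimeSpectrum.comap_asIdeal, Ideal.mem_comap]
    change π (f a) ∈ (⊥ : PrimeSpectrum p.asIdeal.ResidueField).asIdeal ↔ _
    rw [PrimeSpectrum.asIdeal_bot, Ideal.mem_bot]
    exact Ideal.algebraMap_residueField_eq_zero

end Ring

end Groth.Agent.Lead.ProConsLib
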