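import Mathlib
import Groth.Prelude.Def_ProCons
import Groth.Agent.Lead.ProConsLib8
import Groth.Agent.Lead.ProConsLib9

set_option autoImplicit false
universe u

open AlgebraicGeometry Topology CategoryTheory TopologicalSpace Limits

namespace Groth.Agent.Lead.ProConsLib

theorem exists_Spec_map_range_eq (R : CommRingCat.{u}) {E : Set (Spec R)}
    (hE : ProCons.IsProConstructible E) :
    ∃ (B : CommRingCat.{u}) (φ : R ⟶ B), Set.range (Spec.map φ).base = E := by
  obtain ⟨S, hS, hES⟩ := (pro_iff_sInter_constructible E).mp hE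
  obtain ⟨B, _, f, hf⟩ := exists_ringHom_of_sInter (A := R) E S hS hES
  exact ⟨CommRingCat.of B, CommRingCat.ofHom f, hf⟩

section QCQS6

variable {X : Scheme.{u}} [CompactSpace X] [QuasiSeparatedSpace X]

theorem exists_affine_range_eq {E : Set X} (hE : ProCons.IsProConstructible E) :
    ∃ (X' : Scheme.{u}) (f : X' ⟶ X), IsAffine X' ∧ Set.range f.base = E := by
  classical
  let 𝒰 : X.OpenCover := X.affineCover.finiteSubcover
  haveI : ∀ k, IsAffine (𝒰.X k) := fun k => by dsimp only [𝒰]; infer_instance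
  let g : ∀ k : 𝒰.I₀, Spec Γ(𝒰.X k, ⊤) ⟶ X := fun k => (𝒰.X k).isoSpec.inv ≫ 𝒰.f k
  have key : ∀ k : 𝒰.I₀, ∃ (B : CommRingCat.{u}) (φ : Γ(𝒰.X k, ⊤) ⟶ B),
      Set.range (Spec.map φ).base = (g k).base ⁻¹' E := fun k =>
    exists_Spec_map_range_eq _ (Groth.Agent.Helper7.PC.pro_preimage (g k) E hE)
  choose B φ hφ using key
  refine ⟨∐ (fun k => Spec (B k)), Sigma.desc (fun k => Spec.map (φ k) ≫ g k), inferInstance, ?_⟩
  apply Set.Subset.antisymm
  · rintro _ ⟨z, rfl⟩
    obtain ⟨k, b, rfl⟩ := (sigmaOpenCover (fun k => Spec (B k))).exists_eq z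
    have hb : (Spec.map (φ k)).base b ∈ (g k).base ⁻¹' E := by
      rw [← hφ k]; exact ⟨b, rfl⟩
    have : (Sigma.desc (fun k => Spec.map (φ k) ≫ g k)).base
        ((Sigma.ι (fun k => Spec (B k)) k).base b) = (g k).base ((Spec.map (φ k)).base b) := by
      rw [← Scheme.Hom.comp_apply, ← Scheme.Hom.comp_apply, Sigma.ι_desc]
    change (Sigma.desc (fun k => Spec.map (φ k) ≫ g k)).base
        ((Sigma.ι (fun k => Spec (B k)) k).base b) ∈ E
    rw [this]
    exact hb
  · intro y hy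
    obtain ⟨k, z, rfl⟩ := 𝒰.exists_eq y
    let w : Spec Γ(𝒰.X k, ⊤) := (𝒰.X k).isoSpec.hom.base z
    have hw : (g k).base w = (𝒰.f k).base z := by
      change ((𝒰.X k).isoSpec.inv ≫ 𝒰.f k).base ((𝒰.X k).isoSpec.hom.base z) = _
      rw [← Scheme.Hom.comp_apply, Iso.hom_inv_id_assoc]
    have hwE : w ∈ (g k).base ⁻¹' E := by
      change (g k).base w ∈ E
      rw [hw]; exact hy
    rw [← hφ k] at hwE
    obtain ⟨b, hb⟩ := hwE
    refine ⟨(Sigma.ι (fun k => Spec (B k)) k).base b, ?_⟩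
    rw [← Scheme.Hom.comp_apply, Sigma.ι_desc, Scheme.Hom.comp_apply, hb, hw]

theorem pro_iff_exists_affine (E : Set X) :
    ProCons.IsProConstructible E ↔
      ∃ (X' : Scheme.{u}) (f : X' ⟶ X), IsAffine X' ∧ Set.range f.base = E := by
  constructor
  · exact exists_affine_range_eq
  · rintro ⟨X', f, hX', rfl⟩
    have := pro_image f (pro_univ)
    rwa [Set.image_univ] at this

theorem exists_qc_iff_sInter (E : Set X) :
    (∃ (X' : Scheme.{u}) (f : X' ⟶ X), QuasiCompact f ∧ Set.range f.base = E) ↔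
      ∃ S : Set (Set X), (∀ s ∈ S, IsConstructible s) ∧ E = ⋂₀ S := by
  rw [← pro_iff_sInter_constructible]
  constructor
  · rintro ⟨X', f, hf, rfl⟩
    have := pro_image f (pro_univ)
    rwa [Set.image_univ] at this
  · intro hE
    obtain ⟨X', f, hX', hf⟩ := exists_affine_range_eq hE
    exact ⟨X', f, inferInstance, hf⟩

end QCQS6

end Groth.Agent.Lead.ProConsLib
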