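import Groth.Agent.Lead.LimPullback
import Groth.Agent.Lead.ProConsLib10
open CategoryTheory Limits AlgebraicGeometry Topology

namespace Groth.Agent.Lead.LimCons
open Groth.Agent.Lead.LimPullback Groth.Agent.Lead.ProConsLib
universe u
variable {I : Type u} [SmallCategory I] [IsCofiltered I] {D : I ⥤ Scheme.{u}} {c : Cone D}
  (hc : IsLimit c) [∀ {i j : I} (f : i ⟶ j), IsAffineHom (D.map f)] (i : I)

include hc in
set_option backward.isDefEq.respectTransparency false in
/-- A pro-constructible subset of a qcqs stage whose preimage in the limit is empty has empty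
preimage in some stage. -/
theorem exists_preimage_eq_empty [CompactSpace (D.obj i)] [QuasiSeparatedSpace (D.obj i)]
    (E : Set (D.obj i)) (hE : ProCons.IsProConstructible E)
    (h : (c.π.app i).base ⁻¹' E = ∅) :
    ∃ (j : I) (φ : j ⟶ i), (D.map φ).base ⁻¹' E = ∅ := by
  obtain ⟨T, g, hT, hg⟩ := exists_affine_range_eq hE
  by_contra hcon
  push Not at hcon
  have key : ∀ (j : I) (φ : j ⟶ i), Nonempty ↑(pullback (D.map φ) g) := by
    intro j φ
    obtain ⟨y, hy⟩ := (hcon j φ)
    have hy' : (D.map φ).base y ∈ Set.range g.base := by rw [hg]; exact hy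
    obtain ⟨t, ht⟩ := hy'
    obtain ⟨z, -, -⟩ := Scheme.Pullback.exists_preimage_pullback y t ht.symm
    exact ⟨z⟩
  obtain ⟨z⟩ := nonempty_pullback hc i g key
  have hz : (c.π.app i).base ((pullback.fst (c.π.app i) g).base z) ∈ E := by
    rw [← hg]
    refine ⟨(pullback.snd (c.π.app i) g).base z, ?_⟩
    rw [← Scheme.Hom.comp_apply, ← Scheme.Hom.comp_apply, pullback.condition]
  have : (pullback.fst (c.π.app i) g).base z ∈ (c.π.app i).base ⁻¹' E := hz
  rw [h] at this
  exact this

end Groth.Agent.Lead.LimCons
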