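import Groth.Agent.Lead.LimBC
import Groth.Agent.Lead.LimHom
open CategoryTheory Limits AlgebraicGeometry

namespace Groth.Agent.Lead.LimRed
open Groth.Agent.Lead.LimFrame Groth.Agent.Lead.LimPullback Groth.Agent.Lead.LimBC
  Groth.Agent.Lead.LimHom
universe u

section Generic
variable {B S' X₀ Y₀ X Y : Scheme.{u}} {p : S' ⟶ B} {g₀ : Y₀ ⟶ B} {f₀ : X₀ ⟶ Y₀}

/-- any model of the iterated base change has `P` iff the canonical one has -/
theorem frame_iff (P : MorphismProperty Scheme.{u}) [P.RespectsIso]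
    {f : X ⟶ Y} {g : Y ⟶ S'} {qY : Y ⟶ Y₀} {qX : X ⟶ X₀}
    (hY : IsPullback qY g g₀ p) (hX : IsPullback qX f f₀ qY) :
    P f ↔ P (pullback.snd f₀ (pullback.snd p g₀)) := by
  let eY := hY.flip.isoPullback
  have hsnd : eY.hom ≫ pullback.snd p g₀ = qY := hY.flip.isoPullback_hom_snd
  have hX' : IsPullback qX (f ≫ eY.hom) f₀ (pullback.snd p g₀) := by
    have h4 : IsPullback qX f f₀ (eY.hom ≫ pullback.snd p g₀) := by rw [hsnd]; exact hX
    exact IsPullback.of_iso h4 (Iso.refl _) (Iso.refl _) eY (Iso.refl _) (by simp) (by simp)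
      (by simp) (by simp)
  let eX := hX'.isoPullback
  have h5 : eX.hom ≫ pullback.snd f₀ (pullback.snd p g₀) = f ≫ eY.hom :=
    hX'.isoPullback_hom_snd
  have h6 : pullback.snd f₀ (pullback.snd p g₀) = eX.inv ≫ f ≫ eY.hom := by
    rw [← h5, Iso.inv_hom_id_assoc]
  rw [h6, P.cancel_left_of_respectsIso, P.cancel_right_of_respectsIso]

end Generic

variable {I : Type u} [SmallCategory I] [IsCofiltered I] {D : I ⥤ Scheme.{u}} {c : Cone D}
  (hc : IsLimit c) [∀ {i j : I} (f : i ⟶ j), IsAffineHom (D.map f)] (i₀ : I)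
  {X₀ Y₀ : Scheme.{u}} (g₀ : Y₀ ⟶ D.obj i₀) (f₀ : X₀ ⟶ Y₀)

/-- from an arbitrary model at a stage to the canonical stage map -/
theorem stage_in (P : MorphismProperty Scheme.{u}) [P.RespectsIso] {j : I} (φ : j ⟶ i₀)
    {Xj Yj : Scheme.{u}} {fj : Xj ⟶ Yj} {gj : Yj ⟶ D.obj j} {pY : Yj ⟶ Y₀} {pX : Xj ⟶ X₀}
    (hY : IsPullback pY gj g₀ (D.map φ)) (hX : IsPullback pX fj f₀ pY) :
    P fj ↔ P (stageMap D i₀ f₀ g₀ (Over.mk φ)) :=
  frame_iff P hY hX

/-- from an arbitrary model over the limit to the canonical limit map -/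
theorem lim_in (P : MorphismProperty Scheme.{u}) [P.RespectsIso]
    {X Y : Scheme.{u}} {f : X ⟶ Y} {g : Y ⟶ c.pt} {qY : Y ⟶ Y₀} {qX : X ⟶ X₀}
    (hY : IsPullback qY g g₀ (c.π.app i₀)) (hX : IsPullback qX f f₀ qY) :
    P f ↔ P (LimFrame.limMap D c i₀ f₀ g₀) :=
  frame_iff P hY hX

/-- the "iff eventually" packaging -/
theorem iff_eventually (P : MorphismProperty Scheme.{u}) [P.IsStableUnderBaseChange]
    (H : P (LimFrame.limMap D c i₀ f₀ g₀) → ∃ j : Over i₀, P (stageMap D i₀ f₀ g₀ j))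
    {X Y : Scheme.{u}} {f : X ⟶ Y} {g : Y ⟶ c.pt} {qY : Y ⟶ Y₀} {qX : X ⟶ X₀}
    (hY : IsPullback qY g g₀ (c.π.app i₀)) (hX : IsPullback qX f f₀ qY) :
    P f ↔ ∃ (j : I) (φ : j ⟶ i₀) (Xj Yj : Scheme.{u}) (fj : Xj ⟶ Yj) (gj : Yj ⟶ D.obj j)
      (pY : Yj ⟶ Y₀) (pX : Xj ⟶ X₀), IsPullback pY gj g₀ (D.map φ) ∧ IsPullback pX fj f₀ pY ∧
        P fj := by
  constructor
  · intro hf
    obtain ⟨j, hj⟩ := H ((lim_in i₀ g₀ f₀ P hY hX).mp hf)
    exact frame_out P j hj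
  · rintro ⟨j, φ, Xj, Yj, fj, gj, pY, pX, hYj, hXj, hfj⟩
    have h1 := (stage_in i₀ g₀ f₀ P φ hYj hXj).mp hfj
    exact (lim_in i₀ g₀ f₀ P hY hX).mpr (lim_of_stage P (Over.mk φ) h1)

/-! ### Reframing over the system `Y_j` -/

/-- the canonical isomorphism `Y₀ ≅ Y₀ ×_{S_{i₀}} S_{i₀}` as a morphism to the top stage of `pbDiag` -/
noncomputable def gTop : Y₀ ⟶ (pbDiag D i₀ g₀).obj (Over.mk (𝟙 i₀)) :=
  pullback.lift g₀ (𝟙 Y₀) (by simp)

set_option backward.isDefEq.respectTransparency false in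
theorem gTop_snd : gTop i₀ g₀ ≫ pullback.snd (D.map (𝟙 i₀)) g₀ = 𝟙 _ := by
  simp [gTop]

set_option backward.isDefEq.respectTransparency false in
instance : IsIso (gTop (D := D) i₀ g₀) := by
  refine ⟨pullback.snd (D.map (𝟙 i₀)) g₀, gTop_snd i₀ g₀, ?_⟩
  apply pullback.hom_ext
  · simp only [gTop, Category.assoc, pullback.lift_fst, Category.id_comp]
    rw [← pullback.condition]
    simp
  · simp [gTop]

set_option backward.isDefEq.respectTransparency false in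
/-- (R) it suffices to descend `P` in the frame over the system `Y_j = Y₀ ×_{S_{i₀}} S_j` -/
theorem reframe (P : MorphismProperty Scheme.{u}) [P.IsStableUnderBaseChange]
    (H : P (LimFrame.limMap (pbDiag D i₀ g₀) (pbCone D c i₀ g₀) (Over.mk (𝟙 i₀)) f₀ (gTop i₀ g₀)) →
      ∃ k : Over (Over.mk (𝟙 i₀) : Over i₀),
        P (stageMap (pbDiag D i₀ g₀) (Over.mk (𝟙 i₀)) f₀ (gTop i₀ g₀) k))
    (h : P (LimFrame.limMap D c i₀ f₀ g₀)) : ∃ j : Over i₀, P (stageMap D i₀ f₀ g₀ j) := by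
  have h1 : P (LimFrame.limMap (pbDiag D i₀ g₀) (pbCone D c i₀ g₀) (Over.mk (𝟙 i₀)) f₀
      (gTop i₀ g₀)) := by
    refine prop_snd_of_fac P f₀ (pullback.snd (c.π.app i₀) g₀) _
      (pullback.fst ((pbCone D c i₀ g₀).π.app (Over.mk (𝟙 i₀))) (gTop i₀ g₀)) ?_ h
    have e : pullback.snd (c.π.app i₀) g₀ =
        (pbCone D c i₀ g₀).π.app (Over.mk (𝟙 i₀)) ≫ pullback.snd (D.map (𝟙 i₀)) g₀ := by
      simp [pbCone]
    rw [e, pullback.condition_assoc, gTop_snd, Category.comp_id]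
  obtain ⟨k, hk⟩ := H h1
  refine ⟨k.left, ?_⟩
  have hw : D.map k.hom.left = D.map k.left.hom := by
    have := Over.w k.hom
    simp only [Over.mk_hom] at this
    rw [← this]; simp
  refine prop_snd_of_fac P f₀ (pullback.snd ((pbDiag D i₀ g₀).map k.hom) (gTop i₀ g₀)) _
    (pullback.lift (𝟙 _) (pullback.snd (D.map k.left.hom) g₀) ?_) ?_ hk
  · apply pullback.hom_ext
    · simp only [pbDiag, gTop, Category.id_comp, pullback.lift_fst, Category.assoc]
      rw [← pullback.condition, hw]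
    · simp [pbDiag, gTop]
  · simp

/-! ### Reduction to an affine cover of `Y₀` -/

set_option backward.isDefEq.respectTransparency false in
/-- (C) for a property local on the target it suffices to descend `P` over affine opens of `Y₀` -/
theorem cover_reduction (P : MorphismProperty Scheme.{u}) [P.IsStableUnderBaseChange]
    [IsZariskiLocalAtTarget P] [CompactSpace Y₀]
    (H : ∀ {V : Scheme.{u}} (v : V ⟶ Y₀) [IsOpenImmersion v] [IsAffine V],
      P (LimFrame.limMap D c i₀ (pullback.snd f₀ v) (v ≫ g₀)) →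
        ∃ j : Over i₀, P (stageMap D i₀ (pullback.snd f₀ v) (v ≫ g₀) j))
    (h : P (LimFrame.limMap D c i₀ f₀ g₀)) : ∃ j : Over i₀, P (stageMap D i₀ f₀ g₀ j) := by
  let 𝒰 := Y₀.affineCover.finiteSubcover
  have hfin : Fintype 𝒰.I₀ := inferInstance
  have hU : ∀ r : 𝒰.I₀, ∃ j : Over i₀,
      P (stageMap D i₀ (pullback.snd f₀ (𝒰.f r)) (𝒰.f r ≫ g₀) j) := by
    intro r
    have : IsAffine (𝒰.X r) := by dsimp [𝒰]; infer_instance
    refine H (𝒰.f r) ?_
    refine (prop_snd_snd_iff P f₀ (𝒰.f r) (pullback.snd (c.π.app i₀) (𝒰.f r ≫ g₀))).mpr ?_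
    refine prop_snd_of_fac P f₀ (pullback.snd (c.π.app i₀) g₀) _
      (pullback.lift (pullback.fst _ _) (pullback.snd _ _ ≫ 𝒰.f r) ?_) ?_ h
    · rw [pullback.condition, Category.assoc]
    · simp
  choose jr hjr using hU
  classical
  obtain ⟨j, hj⟩ := IsCofiltered.inf_objs_exists (Finset.univ.image jr)
  refine ⟨j, ?_⟩
  let m := pullback.snd (D.map j.hom) g₀
  rw [IsZariskiLocalAtTarget.iff_of_openCover (P := P) (𝒰.pullback₁ m)]
  intro (r : 𝒰.I₀)
  obtain ⟨φ⟩ := hj (Finset.mem_image_of_mem jr (Finset.mem_univ r))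
  have h2 := stage_of_hom P φ (hjr r)
  have h3 := (prop_snd_snd_iff P f₀ (𝒰.f r) (pullback.snd (D.map j.hom) (𝒰.f r ≫ g₀))).mp h2
  change P (pullback.snd (pullback.snd f₀ m) (pullback.fst m (𝒰.f r)))
  refine (prop_snd_snd_iff P f₀ m (pullback.fst m (𝒰.f r))).mpr ?_
  refine prop_snd_of_fac P f₀ _ _
    (pullback.lift (pullback.fst m (𝒰.f r) ≫ pullback.fst (D.map j.hom) g₀)
      (pullback.snd m (𝒰.f r)) ?_) ?_ h3
  · rw [Category.assoc, pullback.condition, ← pullback.condition_assoc]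
  · rw [pullback.lift_snd_assoc, pullback.condition]

end Groth.Agent.Lead.LimRed
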