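import Groth.Agent.Lead.FibLocus
import Groth.Agent.Lead.LimRed
import Groth.Agent.Lead.LimDiag
open CategoryTheory Limits AlgebraicGeometry Topology

namespace Groth.Agent.Lead.FibLocus
open Groth.Agent.Lead.LimDiag
universe u
variable {X Y S : Scheme.{u}} (f : X ⟶ Y) (g : Y ⟶ S)

/-- the fibre map has `P` iff the canonical frame model has -/
theorem prop_fibMap_iff (P : MorphismProperty Scheme.{u}) [P.RespectsIso] (s : S) :
    P (fibMap f g s) ↔ P (bc (S.fromSpecResidueField s) f g) :=
  Groth.Agent.Lead.LimRed.frame_iff P (IsPullback.of_hasPullback g (S.fromSpecResidueField s))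
    (isPullback_fibMap f g s)

/-- the diagonal of the fibre map has `P` iff the fibre map of the diagonal has -/
theorem prop_diagonal_fibMap_iff (P : MorphismProperty Scheme.{u}) [P.IsStableUnderBaseChange]
    (s : S) :
    P.diagonal (fibMap f g s) ↔ P (fibMap (pullback.diagonal f) (diagBase f g) s) := by
  rw [prop_fibMap_iff f g P.diagonal s, prop_fibMap_iff (pullback.diagonal f) (diagBase f g) P s]
  exact ⟨of_diagonal_bc _ f g P, diagonal_bc_of _ f g P⟩

theorem isLocallyConstructible_setOf_universallyInjective_fibMap
    [LocallyOfFinitePresentation g] [QuasiCompact g] [QuasiSeparated g]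
    [LocallyOfFinitePresentation (f ≫ g)] [QuasiCompact (f ≫ g)] [QuasiSeparated (f ≫ g)] :
    IsLocallyConstructible {s : S | UniversallyInjective (fibMap f g s)} := by
  have hfp : LocallyOfFinitePresentation f :=
    Groth.Agent.Helper2.LfpComp.locallyOfFinitePresentation_of_comp f g inferInstance inferInstance
  have hfc : QuasiCompact f := QuasiCompact.of_comp f g
  have hfq : QuasiSeparated f := QuasiSeparated.of_comp f g
  have e : pullback.diagonal f ≫ diagBase f g = f ≫ g := by simp [diagBase]
  have h1 : LocallyOfFinitePresentation (pullback.diagonal f ≫ diagBase f g) := by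
    rw [e]; infer_instance
  have h2 : QuasiCompact (pullback.diagonal f ≫ diagBase f g) := by rw [e]; infer_instance
  have h3 : LocallyOfFinitePresentation (diagBase f g) := by dsimp only [diagBase]; infer_instance
  have h4 : QuasiCompact (diagBase f g) := by dsimp only [diagBase]; infer_instance
  have h5 : QuasiSeparated (diagBase f g) := by dsimp only [diagBase]; infer_instance
  have key := isLocallyConstructible_setOf_surjective_fibMap (pullback.diagonal f) (diagBase f g)
  convert key using 2
  ext s
  simp only [Set.mem_setOf_eq]
  rw [universallyInjective_eq_diagonal, prop_diagonal_fibMap_iff f g (@Surjective) s]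
  exact ⟨fun h ↦ h.surj, fun h ↦ ⟨h⟩⟩

end Groth.Agent.Lead.FibLocus
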