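import Mathlib
universe u
open CategoryTheory Limits MorphismProperty AlgebraicGeometry

namespace Groth.Agent.Lead.SchDescent

set_option backward.isDefEq.respectTransparency.types false in
/-- Quasi-compact satisfies fpqc descent. (copied from Helper4.SchDescent) -/
instance descendsAlong_quasiCompact_fpqc :
    DescendsAlong @QuasiCompact (@Surjective ⊓ @Flat ⊓ @QuasiCompact : MorphismProperty Scheme.{u}) := by
  refine IsZariskiLocalAtTarget.descendsAlong_inf_quasiCompact _ _ ?_ ?_
  · rw [inf_comm]
    exact inf_le_inf le_rfl (IsLocalIso.le_of_isZariskiLocalAtSource _)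
  intro R S Y φ g ⟨hs, _⟩ hfst
  have : Surjective (Spec.map φ) := hs
  have : QuasiCompact (pullback.fst (Spec.map φ) g) := hfst
  rw [HasAffineProperty.iff_of_isAffine (P := @QuasiCompact)] at this ⊢
  have hsurj : Function.Surjective (pullback.snd (Spec.map φ) g) :=
    (inferInstance : Surjective (pullback.snd (Spec.map φ) g)).surj
  exact ⟨by rw [← Set.range_eq_univ.2 hsurj]; exact isCompact_range (pullback.snd (Spec.map φ) g).continuous⟩

set_option backward.isDefEq.respectTransparency.types false in
theorem isClosedImmersion_descend {A X Y Z : Scheme.{u}} {fst : A ⟶ X} {snd : A ⟶ Y} {f : X ⟶ Z}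
    {g : Y ⟶ Z} (h : IsPullback fst snd f g)
    (hf : (@Surjective ⊓ @Flat ⊓ @QuasiCompact : MorphismProperty Scheme.{u}) f)
    (hfst : IsClosedImmersion fst) : IsClosedImmersion g := by
  rw [IsClosedImmersion.iff_isProper_and_mono]
  have hmono : Mono g := by
    have : (isomorphisms Scheme.{u}).diagonal g :=
      of_isPullback_of_descendsAlong (P := (isomorphisms Scheme.{u}).diagonal)
        (Q := (@Surjective ⊓ @Flat ⊓ @QuasiCompact : MorphismProperty Scheme.{u}))
        h hf (by rw [diagonal_isomorphisms]; exact (inferInstance : Mono fst))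
    rwa [diagonal_isomorphisms] at this
  have huc : UniversallyClosed g :=
    of_isPullback_of_descendsAlong (P := @UniversallyClosed)
      (Q := (@Surjective ⊓ @Flat ⊓ @QuasiCompact : MorphismProperty Scheme.{u}))
      h hf inferInstance
  have hlft : LocallyOfFiniteType g :=
    of_isPullback_of_descendsAlong (P := @LocallyOfFiniteType)
      (Q := (@Surjective ⊓ @Flat ⊓ @QuasiCompact : MorphismProperty Scheme.{u}))
      h hf inferInstance
  have hqc : QuasiCompact g :=
    of_isPullback_of_descendsAlong (P := @QuasiCompact)
      (Q := (@Surjective ⊓ @Flat ⊓ @QuasiCompact : MorphismProperty Scheme.{u}))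
      h hf inferInstance
  exact ⟨{ }, hmono⟩

instance descendsAlong_isClosedImmersion_fpqc :
    DescendsAlong @IsClosedImmersion (@Surjective ⊓ @Flat ⊓ @QuasiCompact : MorphismProperty Scheme.{u}) where
  of_isPullback h hf hfst := isClosedImmersion_descend h hf hfst

instance descendsAlong_isSeparated_fpqc :
    DescendsAlong @IsSeparated (@Surjective ⊓ @Flat ⊓ @QuasiCompact : MorphismProperty Scheme.{u}) := by
  rw [IsSeparated.isSeparated_eq_diagonal_isClosedImmersion]
  infer_instance

instance descendsAlong_quasiSeparated_fpqc :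
    DescendsAlong @QuasiSeparated (@Surjective ⊓ @Flat ⊓ @QuasiCompact : MorphismProperty Scheme.{u}) := by
  rw [quasiSeparated_eq_diagonal_is_quasiCompact]
  infer_instance

instance descendsAlong_isProper_fpqc :
    DescendsAlong @IsProper (@Surjective ⊓ @Flat ⊓ @QuasiCompact : MorphismProperty Scheme.{u}) := by
  rw [isProper_eq]
  infer_instance

end Groth.Agent.Lead.SchDescent
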