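import Mathlib
import Groth.Agent.Lead.SchDescent
universe u
open CategoryTheory Limits MorphismProperty AlgebraicGeometry

namespace Groth.Agent.Lead.SchDescent3
open Groth.Agent.Lead.SchDescent

/-- `toImage` of a quasi-compact morphism is scheme-theoretically dominant. -/
instance std_toImage {X Y : Scheme.{u}} (f : X ⟶ Y) [QuasiCompact f] :
    IsSchemeTheoreticallyDominant f.toImage := by
  rw [isSchemeTheoreticallyDominant_iff]
  have haff : ∀ U : Y.affineOpens, IsAffineOpen (f.imageι ⁻¹ᵁ U.1) := fun U =>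
    U.2.preimage f.imageι
  refine Scheme.IdealSheafData.ext_of_iSup_eq_top
    (fun U : Y.affineOpens ↦ ⟨f.imageι ⁻¹ᵁ U.1, haff U⟩) ?_ ?_
  · rw [eq_top_iff]
    intro x _
    obtain ⟨_, ⟨U, hU, rfl⟩, hxU, -⟩ := Y.isBasis_affineOpens.exists_subset_of_mem_open
      (Set.mem_univ (f.imageι x)) isOpen_univ
    exact TopologicalSpace.Opens.mem_iSup.mpr ⟨⟨U, hU⟩, hxU⟩
  · intro U
    simp only [Scheme.Hom.ker_apply, Scheme.IdealSheafData.ideal_bot, Pi.bot_apply]
    exact (RingHom.injective_iff_ker_eq_bot _).mp (f.toImage_app_injective U)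

/-- A scheme-theoretically dominant quasi-compact immersion is an open immersion. -/
lemma isOpenImmersion_of_std {X Y : Scheme.{u}} (f : X ⟶ Y) [IsImmersion f] [QuasiCompact f]
    [IsSchemeTheoreticallyDominant f] : IsOpenImmersion f := by
  have h : IsIso f.imageι := by
    rw [Scheme.Hom.imageι, Scheme.isIso_subschemeι_iff_eq_bot]
    exact f.ker_eq_bot
  rw [← f.toImage_imageι]
  infer_instance

set_option backward.isDefEq.respectTransparency.types false in
theorem immersion_descend {A X Y Z : Scheme.{u}} {fst : A ⟶ X} {snd : A ⟶ Y} {f : X ⟶ Z}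
    {g : Y ⟶ Z} (h : IsPullback fst snd f g)
    (hf : (@Surjective ⊓ @Flat ⊓ @QuasiCompact : MorphismProperty Scheme.{u}) f)
    (hfst : IsImmersion fst) (hfstqc : QuasiCompact fst) : IsImmersion g ∧ QuasiCompact g := by
  have hqc : QuasiCompact g :=
    of_isPullback_of_descendsAlong (P := @QuasiCompact)
      (Q := (@Surjective ⊓ @Flat ⊓ @QuasiCompact : MorphismProperty Scheme.{u}))
      h hf inferInstance
  refine ⟨?_, hqc⟩
  let i := g.imageι
  let j := g.toImage
  have hji : j ≫ i = g := g.toImage_imageι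
  let p₁ := pullback.fst f i
  let p₂ := pullback.snd f i
  let j' : A ⟶ pullback f i := pullback.lift fst (snd ≫ j) (by rw [Category.assoc, hji, h.w])
  have hj'1 : j' ≫ p₁ = fst := pullback.lift_fst _ _ _
  have hj'2 : j' ≫ p₂ = snd ≫ j := pullback.lift_snd _ _ _
  have s : IsPullback (j' ≫ p₁) snd f (j ≫ i) := by rw [hj'1, hji]; exact h
  have left : IsPullback j' snd p₂ j := IsPullback.of_right s hj'2 (IsPullback.of_hasPullback f i)
  have hQ : (@Surjective ⊓ @Flat ⊓ @QuasiCompact : MorphismProperty Scheme.{u}) p₂ :=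
    (@Surjective ⊓ @Flat ⊓ @QuasiCompact : MorphismProperty Scheme.{u}).pullback_snd _ _ hf
  have : Flat p₂ := hQ.1.2
  have himm : IsImmersion (j' ≫ p₁) := by rw [hj'1]; exact hfst
  have : IsImmersion j' := IsImmersion.of_comp j' p₁
  have hqc' : QuasiCompact (j' ≫ p₁) := by rw [hj'1]; exact hfstqc
  have : QuasiCompact j' := QuasiCompact.of_comp j' p₁
  have : IsSchemeTheoreticallyDominant j' := IsSchemeTheoreticallyDominant.of_isPullback left.flip
  have : IsOpenImmersion j' := isOpenImmersion_of_std j'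
  have : IsOpenImmersion j :=
    of_isPullback_of_descendsAlong (P := @IsOpenImmersion)
      (Q := (@Surjective ⊓ @Flat ⊓ @QuasiCompact : MorphismProperty Scheme.{u})) left hQ this
  rw [← hji]
  infer_instance

instance descendsAlong_qcImmersion_fpqc :
    DescendsAlong (@IsImmersion ⊓ @QuasiCompact : MorphismProperty Scheme.{u})
      (@Surjective ⊓ @Flat ⊓ @QuasiCompact : MorphismProperty Scheme.{u}) where
  of_isPullback h hf hfst := immersion_descend h hf hfst.1 hfst.2

end Groth.Agent.Lead.SchDescent3
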