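import Mathlib
import Groth.Prelude.Def_FDesc
import Groth.Agent.Lead.FlatLib1
import Groth.Agent.Helper4.AssExact
import Groth.Agent.Helper4.AssFin
import Groth.Agent.Helper4.AssMax2
import Groth.Agent.Helper4.EpiStalk

/-!
# Associated points and stalk lengths under restriction to an open (S4657)
-/

set_option autoImplicit false
universe u
open CategoryTheory CategoryTheory.Limits AlgebraicGeometry TopologicalSpace Opposite

namespace Groth.Agent.Lead.AssRestr

open Groth.Agent.Helper4
open Groth.Agent.Helper4.StalkDict (stalkLin)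

section Algebra

variable {R S : Type u} [CommRing R] [CommRing S] (σ : R ≃+* S)
  {M N : Type u} [AddCommGroup M] [Module R M] [AddCommGroup N] [Module S N]
  (e : M ≃+ N) (he : ∀ (r : R) (m : M), e (r • m) = σ r • e m)

/-- the semilinear map underlying a semilinear additive equivalence -/
def toSemi : M →ₛₗ[(σ : R →+* S)] N :=
  { toFun := e, map_add' := map_add e, map_smul' := he }

include he in
theorem length_eq : Module.length R M = Module.length S N := by
  haveI : RingHomSurjective (σ : R →+* S) := ⟨σ.surjective⟩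
  apply WithBot.coe_injective
  rw [Module.coe_length, Module.coe_length,
    Order.krullDim_eq_of_orderIso
      (Submodule.orderIsoMapComapOfBijective (toSemi σ e he) e.bijective)]

include he in
theorem isAssociatedPrime_maximalIdeal [IsLocalRing R] [IsLocalRing S]
    (h : IsAssociatedPrime (IsLocalRing.maximalIdeal R) M) :
    IsAssociatedPrime (IsLocalRing.maximalIdeal S) N := by
  obtain ⟨_, m, hm⟩ := h
  refine ⟨inferInstance, e m, ?_⟩
  have hc : (Submodule.colon (⊥ : Submodule S N) {e m} : Ideal S) =
      Ideal.comap (σ.symm : S →+* R) (Submodule.colon (⊥ : Submodule R M) {m}) := by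
    ext a
    rw [Ideal.mem_comap, Submodule.mem_colon_singleton, Submodule.mem_bot,
      Submodule.mem_colon_singleton, Submodule.mem_bot]
    have h1 : e ((σ.symm a) • m) = a • e m := by
      rw [he, RingEquiv.apply_symm_apply]
    constructor
    · intro h2
      apply e.injective
      rw [map_zero]
      exact h1.trans h2
    · intro h2
      rw [← h1]
      exact (congrArg e h2).trans (map_zero e)
  rw [hc, ← Ideal.comap_radical, ← hm]
  ext a
  rw [Ideal.mem_comap, IsLocalRing.mem_maximalIdeal, IsLocalRing.mem_maximalIdeal,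
    mem_nonunits_iff, mem_nonunits_iff]
  change ¬ IsUnit a ↔ ¬ IsUnit (σ.symm a)
  exact not_congr (isUnit_map_iff σ.symm a).symm

end Algebra

section Iso

variable {Y : Scheme.{u}} {G G' : Y.Modules} (ε : G ≅ G') (y : Y)

include ε in
theorem isAssPoint_iff_of_iso : Curv2.IsAssPoint G y ↔ Curv2.IsAssPoint G' y :=
  ⟨AssExact.isAssPoint_of_mono ε.hom y, AssExact.isAssPoint_of_mono ε.inv y⟩

include ε in
theorem length_eq_of_iso :
    Module.length (Y.presheaf.stalk y) (G.presheaf.stalk y) =
      Module.length (Y.presheaf.stalk y) (G'.presheaf.stalk y) :=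
  (LinearEquiv.ofBijective (stalkLin ε.hom y)
    ⟨StalkExact.stalkLin_injective ε.hom y, EpiStalk.stalkLin_surjective_of_epi ε.hom y⟩).length_eq

end Iso

section Restrict

open Groth.Agent.Lead.FlatLib (rsHom rsHom_bijective rsHom_smul)

variable {X : Scheme.{u}} (U : X.Opens) (F : X.Modules) (x' : (U : Scheme.{u}))

/-- the ring isomorphism between the local rings -/
noncomputable def sig : X.presheaf.stalk (U.ι x') ≃+* (U : Scheme.{u}).presheaf.stalk x' :=
  (asIso (U.ι.stalkMap x')).commRingCatIsoToRingEquiv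

/-- the additive isomorphism between the stalks -/
noncomputable def hh : (F.restrict U.ι).presheaf.stalk x' ≃+ F.presheaf.stalk (U.ι x') :=
  AddEquiv.ofBijective (rsHom U.ι F x') (rsHom_bijective U.ι F x')

theorem hh_symm_smul (r : X.presheaf.stalk (U.ι x')) (m : F.presheaf.stalk (U.ι x')) :
    (hh U F x').symm (r • m) = sig U x' r • (hh U F x').symm m := by
  apply (hh U F x').injective
  rw [AddEquiv.apply_symm_apply]
  have := rsHom_smul U.ι F x' r ((hh U F x').symm m)
  change hh U F x' (_ • (hh U F x').symm m) = r • hh U F x' ((hh U F x').symm m) at this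
  rw [AddEquiv.apply_symm_apply] at this
  exact this.symm

theorem hh_smul (s : (U : Scheme.{u}).presheaf.stalk x') (n : (F.restrict U.ι).presheaf.stalk x') :
    hh U F x' (s • n) = (sig U x').symm s • hh U F x' n := by
  have := hh_symm_smul U F x' ((sig U x').symm s) (hh U F x' n)
  rw [RingEquiv.apply_symm_apply, AddEquiv.symm_apply_apply] at this
  rw [← this, AddEquiv.apply_symm_apply]

theorem length_restrict :
    Module.length ((U : Scheme.{u}).presheaf.stalk x') ((F.restrict U.ι).presheaf.stalk x') =
      Module.length (X.presheaf.stalk (U.ι x')) (F.presheaf.stalk (U.ι x')) :=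
  (length_eq (sig U x') (hh U F x').symm (hh_symm_smul U F x')).symm

theorem isAssPoint_restrict_iff :
    Curv2.IsAssPoint (F.restrict U.ι) x' ↔ Curv2.IsAssPoint F (U.ι x') :=
  ⟨isAssociatedPrime_maximalIdeal (sig U x').symm (hh U F x') (hh_smul U F x'),
    isAssociatedPrime_maximalIdeal (sig U x') (hh U F x').symm (hh_symm_smul U F x')⟩

theorem length_pullback :
    Module.length ((U : Scheme.{u}).presheaf.stalk x')
        (((Scheme.Modules.pullback U.ι).obj F).presheaf.stalk x') =
      Module.length (X.presheaf.stalk (U.ι x')) (F.presheaf.stalk (U.ι x')) :=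
  (length_eq_of_iso ((Scheme.Modules.restrictFunctorIsoPullback U.ι).app F) x').symm.trans
    (length_restrict U F x')

theorem isAssPoint_pullback_iff :
    Curv2.IsAssPoint ((Scheme.Modules.pullback U.ι).obj F) x' ↔ Curv2.IsAssPoint F (U.ι x') :=
  (isAssPoint_iff_of_iso ((Scheme.Modules.restrictFunctorIsoPullback U.ι).app F) x').symm.trans
    (isAssPoint_restrict_iff U F x')

end Restrict

section Main

variable {X : Scheme.{u}} [IsLocallyNoetherian X] (U : X.Opens) (F : X.Modules)

theorem mem_of_dense (hF : Coh.IsCoh F)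
    (hdense : CohB1.support F ⊆ closure ((U : Set X) ∩ CohB1.support F))
    (hne : AssSch.NoEmbedded F) (x : X) (hx : x ∈ AssSch.Ass F) : x ∈ U := by
  haveI : F.IsQuasicoherent := hF.1
  obtain ⟨_, ⟨W, hW : IsAffineOpen W, rfl⟩, hxW, -⟩ :=
    X.isBasis_affineOpens.exists_subset_of_mem_open (Set.mem_univ x) isOpen_univ
  have hfin := AssFin.finite_assPoints_affine F hF.1 hF.2 hW
  let C : Set X := ⋃ z ∈ ({z : X | z ∈ W ∧ Curv2.IsAssPoint F z} \ {x}), closure {z}
  have hC : IsClosed C :=
    (hfin.subset Set.sdiff_subset).isClosed_biUnion (fun z _ => isClosed_closure)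
  have hxC : x ∉ C := by
    intro h
    obtain ⟨z, hz, hxz⟩ := Set.mem_iUnion₂.mp h
    have hspec : z ⤳ x := specializes_iff_mem_closure.mpr hxz
    exact hz.2 (hne x hx z hz.1.2 hspec).symm
  have hxs : x ∈ CohB1.support F :=
    not_subsingleton_iff_nontrivial.mpr (AssMax2.nontrivial_of_isAssPoint F x hx)
  have hxcl := hdense hxs
  rw [mem_closure_iff] at hxcl
  obtain ⟨u, ⟨huW, huC⟩, huU, hus⟩ :=
    hxcl ((W : Set X) ∩ Cᶜ) (W.isOpen.inter hC.isOpen_compl) ⟨hxW, hxC⟩
  obtain ⟨z, hz, hzu⟩ :=
    AssMax2.exists_isAssPoint_specializes F u (not_subsingleton_iff_nontrivial.mp hus)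
  have hzW : z ∈ W := hzu.mem_open W.isOpen huW
  have hzx : z = x := by
    by_contra hne'
    apply huC
    exact Set.mem_biUnion (show z ∈ {z : X | z ∈ W ∧ Curv2.IsAssPoint F z} \ {x} from
      ⟨⟨hzW, hz⟩, hne'⟩) (specializes_iff_mem_closure.mp hzu)
  rw [hzx] at hzu
  exact hzu.mem_open U.isOpen huU

theorem main (hF : Coh.IsCoh F)
    (hdense : CohB1.support F ⊆ closure ((U : Set X) ∩ CohB1.support F)) :
    AssSch.IsReducedMod F ↔
      AssSch.IsReducedMod ((Scheme.Modules.pullback U.ι).obj F) ∧ AssSch.NoEmbedded F := by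
  constructor
  · rintro ⟨hne, hlen⟩
    refine ⟨⟨?_, ?_⟩, hne⟩
    · intro x' hx' y' hy' hspec
      have h1 := (isAssPoint_pullback_iff U F x').mp hx'
      have h2 := (isAssPoint_pullback_iff U F y').mp hy'
      have h3 : U.ι y' ⤳ U.ι x' := hspec.map U.ι.continuous
      exact U.ι.isOpenEmbedding.injective (hne _ h1 _ h2 h3)
    · intro x' hx'
      rw [length_pullback]
      exact hlen _ ((isAssPoint_pullback_iff U F x').mp hx')
  · rintro ⟨⟨hne', hlen'⟩, hne⟩
    refine ⟨hne, ?_⟩
    intro x hx
    have hxU := mem_of_dense U F hF hdense hne x hx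
    have h1 : Curv2.IsAssPoint ((Scheme.Modules.pullback U.ι).obj F) ⟨x, hxU⟩ :=
      (isAssPoint_pullback_iff U F ⟨x, hxU⟩).mpr hx
    have := hlen' ⟨x, hxU⟩ h1
    rw [length_pullback] at this
    exact this

end Main

end Groth.Agent.Lead.AssRestr
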