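import Mathlib
import Groth.Prelude.Def_MeroDiv
import Groth.Prelude.Def_Pic
import Groth.Prelude.Def_PicF2
import Groth.Prelude.Def_SecTwist
import Groth.Agent.Lead.MeroM
import Groth.Agent.Lead.MeroD

/-!
# The zero scheme of a regular section of an invertible module is locally principal
-/

set_option autoImplicit false
set_option linter.style.haveILetI false
set_option linter.unusedSectionVars false

universe u

open CategoryTheory CategoryTheory.Limits AlgebraicGeometry TopologicalSpace Opposite IsLocalRing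

namespace Groth.Agent.Lead.MeroT

open Mero Groth.Agent.Lead.MeroD Groth.Agent.Lead.MeroM

variable {X : Scheme.{u}} (L : X.Modules) (s : Coh.structureModule X ⟶ L)

/-- the section of `L` over `W` named by `s` -/
noncomputable def sec (W : X.Opens) : Γ(L, W) := PicF2.secVal L s W

theorem sec_res {U V : X.Opens} (i : V ⟶ U) : L.presheaf.map i.op (sec L s U) = sec L s V :=
  SecTwist.map_val s i

/-- the germ of the section at a point -/
noncomputable def sgerm (y : X) : L.presheaf.stalk y :=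
  L.presheaf.germ ⊤ y (Opens.mem_top y) (sec L s ⊤)

theorem germ_sec (W : X.Opens) (y : X) (hy : y ∈ W) :
    L.presheaf.germ W y hy (sec L s W) = sgerm L s y := by
  rw [← sec_res L s (homOfLE (le_top : W ≤ ⊤)), TopCat.Presheaf.germ_res_apply]
  rfl

/-- stalkwise conductor of `O • s` in `L` -/
def zJ (W : X.Opens) : Ideal Γ(X, W) where
  carrier := {a | ∀ (y : X) (hy : y ∈ W) (μ : L.presheaf.stalk y),
    ∃ β : X.presheaf.stalk y, X.presheaf.germ W y hy a • μ = β • sgerm L s y}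
  zero_mem' := fun y hy μ => ⟨0, by rw [map_zero, zero_smul, zero_smul]⟩
  add_mem' := by
    intro a b ha hb y hy μ
    obtain ⟨β, hβ⟩ := ha y hy μ
    obtain ⟨β', hβ'⟩ := hb y hy μ
    exact ⟨β + β', by rw [map_add, add_smul, add_smul, hβ, hβ']⟩
  smul_mem' := by
    intro c a ha y hy μ
    obtain ⟨β, hβ⟩ := ha y hy μ
    exact ⟨X.presheaf.germ W y hy c * β, by rw [smul_eq_mul, map_mul, mul_smul, mul_smul, hβ]⟩

theorem mem_zJ_iff (W : X.Opens) (a : Γ(X, W)) : a ∈ zJ L s W ↔
    ∀ (y : X) (hy : y ∈ W) (μ : L.presheaf.stalk y),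
      ∃ β : X.presheaf.stalk y, X.presheaf.germ W y hy a • μ = β • sgerm L s y := Iff.rfl

theorem zJ_res {W V : X.Opens} (hVW : V ≤ W) {a : Γ(X, W)} (ha : a ∈ zJ L s W) :
    X.presheaf.map (homOfLE hVW).op a ∈ zJ L s V := by
  intro y hy μ
  rw [TopCat.Presheaf.germ_res_apply]
  exact ha y (hVW hy) μ

variable {L s}

/-- the section is torsion-free at every point -/
def IsRegSec (L : X.Modules) (s : Coh.structureModule X ⟶ L) : Prop :=
  ∀ (y : X) (β : X.presheaf.stalk y), β • sgerm L s y = 0 → β = 0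

theorem exists_local_quot (W : X.Opens) {a : Γ(X, W)} (ha : a ∈ zJ L s W) (m : Γ(L, W))
    (y : X) (hy : y ∈ W) :
    ∃ (V : X.Opens) (_ : y ∈ V) (hVW : V ≤ W) (b : Γ(X, V)),
      L.presheaf.map (homOfLE hVW).op (a • m) = b • sec L s V := by
  obtain ⟨β, hβ⟩ := ha y hy (L.presheaf.germ W y hy m)
  obtain ⟨V₀, hyV₀, b₀, rfl⟩ := TopCat.Presheaf.exists_germ_eq X.presheaf β
  have hyV₁ : y ∈ V₀ ⊓ W := ⟨hyV₀, hy⟩
  have h1 : L.presheaf.germ (V₀ ⊓ W) y hyV₁
      (L.presheaf.map (homOfLE (inf_le_right : V₀ ⊓ W ≤ W)).op (a • m)) =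
      L.presheaf.germ (V₀ ⊓ W) y hyV₁
        (X.presheaf.map (homOfLE (inf_le_left : V₀ ⊓ W ≤ V₀)).op b₀ • sec L s (V₀ ⊓ W)) := by
    rw [TopCat.Presheaf.germ_res_apply, Mero.germ_smul, Mero.germ_smul,
      TopCat.Presheaf.germ_res_apply, germ_sec]
    exact hβ
  obtain ⟨V, hyV, i₁, i₂, h2⟩ := TopCat.Presheaf.germ_eq L.presheaf y hyV₁ hyV₁ _ _ h1
  have hVW : V ≤ W := i₁.le.trans inf_le_right
  refine ⟨V, hyV, hVW, X.presheaf.map i₁.op
    (X.presheaf.map (homOfLE (inf_le_left : V₀ ⊓ W ≤ V₀)).op b₀), ?_⟩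
  have hi : i₂ = i₁ := Subsingleton.elim _ _
  subst hi
  calc L.presheaf.map (homOfLE hVW).op (a • m)
      = L.presheaf.map i₂.op (L.presheaf.map (homOfLE (inf_le_right : V₀ ⊓ W ≤ W)).op (a • m)) := by
        rw [← ConcreteCategory.comp_apply, ← Functor.map_comp]
        rfl
    _ = L.presheaf.map i₂.op
        (X.presheaf.map (homOfLE (inf_le_left : V₀ ⊓ W ≤ V₀)).op b₀ • sec L s (V₀ ⊓ W)) := h2
    _ = _ := by rw [Scheme.Modules.map_smul, sec_res]

/-- global quotient: an element of the stalkwise conductor multiplies sections into `O • s` -/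
theorem exists_quot (hreg : IsRegSec L s) (W : X.Opens) {a : Γ(X, W)} (ha : a ∈ zJ L s W)
    (m : Γ(L, W)) : ∃ b : Γ(X, W), a • m = b • sec L s W := by
  choose V hyV hVW b hb using fun y : W => exists_local_quot W ha m y.1 y.2
  have hcompat : TopCat.Presheaf.IsCompatible X.presheaf V b := by
    intro i j
    apply section_ext'
    intro z hz
    rw [TopCat.Presheaf.germ_res_apply, TopCat.Presheaf.germ_res_apply, ← sub_eq_zero]
    apply hreg z
    rw [sub_smul, sub_eq_zero]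
    have hi : L.presheaf.germ W z (hVW i hz.1) (a • m) =
        X.presheaf.germ (V i) z hz.1 (b i) • sgerm L s z := by
      rw [← germ_sec L s (V i) z hz.1, ← Mero.germ_smul, ← hb i, TopCat.Presheaf.germ_res_apply]
    have hj : L.presheaf.germ W z (hVW j hz.2) (a • m) =
        X.presheaf.germ (V j) z hz.2 (b j) • sgerm L s z := by
      rw [← germ_sec L s (V j) z hz.2, ← Mero.germ_smul, ← hb j, TopCat.Presheaf.germ_res_apply]
    rw [← hi, ← hj]
  have hcover : W ≤ iSup V := fun y hy => Opens.mem_iSup.mpr ⟨⟨y, hy⟩, hyV ⟨y, hy⟩⟩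
  obtain ⟨bb, hbb, -⟩ := TopCat.Sheaf.existsUnique_gluing' X.sheaf V W
    (fun i => homOfLE (hVW i)) hcover b hcompat
  refine ⟨bb, ?_⟩
  apply section_ext_germ
  intro z hz
  have h1 : L.presheaf.germ W z hz (a • m) =
      X.presheaf.germ (V ⟨z, hz⟩) z (hyV ⟨z, hz⟩) (b ⟨z, hz⟩) • sgerm L s z := by
    rw [← germ_sec L s (V ⟨z, hz⟩) z (hyV ⟨z, hz⟩), ← Mero.germ_smul, ← hb ⟨z, hz⟩,
      TopCat.Presheaf.germ_res_apply]
  rw [h1, Mero.germ_smul, germ_sec, ← hbb ⟨z, hz⟩]
  congr 1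
  exact TopCat.Presheaf.germ_res_apply X.presheaf (homOfLE (hVW ⟨z, hz⟩)) z (hyV ⟨z, hz⟩) bb

/-- local step of quasi-coherence -/
theorem exists_local_pow (hL : PicF.IsInvertible L) (hreg : IsRegSec L s) {W : X.Opens}
    (g a : Γ(X, W))
    (ha : X.presheaf.map (homOfLE (X.basicOpen_le g)).op a ∈ zJ L s (X.basicOpen g))
    (x : X) (hx : x ∈ W) :
    ∃ (V : X.Opens) (_ : x ∈ V) (hVW : V ≤ W) (n : ℕ),
      X.presheaf.map (homOfLE hVW).op (g ^ n * a) ∈ zJ L s V := by
  obtain ⟨U₂, hx₂, e₂, he₂⟩ := exists_isLocalBasis L hL x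
  obtain ⟨V, hV, hxV, hVle⟩ := Opens.isBasis_iff_nbhd.mp X.isBasis_affineOpens
    (show x ∈ U₂ ⊓ W from ⟨hx₂, hx⟩)
  have hVU₂ : V ≤ U₂ := hVle.trans inf_le_left
  have hVW : V ≤ W := hVle.trans inf_le_right
  obtain ⟨e, he_def⟩ : ∃ e, e = L.presheaf.map (homOfLE hVU₂).op e₂ := ⟨_, rfl⟩
  have he : IsLocalBasis L V e := by rw [he_def]; exact he₂.res hVU₂
  have e0 : L.presheaf.map (homOfLE (le_refl V)).op e = e := by
    change L.presheaf.map (𝟙 _) e = e
    rw [L.presheaf.map_id]; rfl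
  obtain ⟨φ, hφ, -⟩ := he V le_rfl (sec L s V)
  rw [e0] at hφ
  obtain ⟨gV, hgV_def⟩ : ∃ gV, gV = X.presheaf.map (homOfLE hVW).op g := ⟨_, rfl⟩
  obtain ⟨aV, haV_def⟩ : ∃ aV, aV = X.presheaf.map (homOfLE hVW).op a := ⟨_, rfl⟩
  have hWV : X.basicOpen gV ≤ V := X.basicOpen_le gV
  have hWg : X.basicOpen gV ≤ X.basicOpen g := by
    rw [hgV_def, Scheme.basicOpen_res]; exact inf_le_right
  have haW : X.presheaf.map (homOfLE hWV).op aV ∈ zJ L s (X.basicOpen gV) := by
    have h1 := zJ_res L s hWg ha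
    have h2 : X.presheaf.map (homOfLE hWg).op (X.presheaf.map (homOfLE (X.basicOpen_le g)).op a) =
        X.presheaf.map (homOfLE hWV).op aV := by
      rw [haV_def, ← ConcreteCategory.comp_apply, ← Functor.map_comp, ← ConcreteCategory.comp_apply,
        ← Functor.map_comp]
      rfl
    rw [h2] at h1
    exact h1
  obtain ⟨c, hc⟩ := exists_quot hreg (X.basicOpen gV) haW (L.presheaf.map (homOfLE hWV).op e)
  have hrel : X.presheaf.map (homOfLE hWV).op aV = c * X.presheaf.map (homOfLE hWV).op φ := by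
    have h1 : sec L s (X.basicOpen gV) =
        X.presheaf.map (homOfLE hWV).op φ • L.presheaf.map (homOfLE hWV).op e := by
      rw [← sec_res L s (homOfLE hWV), hφ, Scheme.Modules.map_smul]
    rw [h1, ← mul_smul] at hc
    obtain ⟨r₀, -, hu⟩ := he (X.basicOpen gV) hWV
      (X.presheaf.map (homOfLE hWV).op aV • L.presheaf.map (homOfLE hWV).op e)
    exact (hu _ rfl).trans (hu _ hc).symm
  haveI := hV.isLocalization_basicOpen gV
  obtain ⟨k, c', hc'⟩ := IsLocalization.Away.surj gV c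
  have hc'' : c * X.presheaf.map (homOfLE hWV).op gV ^ k = X.presheaf.map (homOfLE hWV).op c' := hc'
  have h6 : algebraMap Γ(X, V) Γ(X, X.basicOpen gV) (aV * gV ^ k) =
      algebraMap Γ(X, V) Γ(X, X.basicOpen gV) (c' * φ) := by
    change X.presheaf.map (homOfLE hWV).op (aV * gV ^ k) =
      X.presheaf.map (homOfLE hWV).op (c' * φ)
    rw [map_mul, hrel, map_pow, map_mul, ← hc'']
    ring
  obtain ⟨⟨t, k', rfl⟩, ht⟩ := IsLocalization.exists_of_eq (M := Submonoid.powers gV) h6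
  simp only at ht
  refine ⟨V, hxV, hVW, k + k', ?_⟩
  intro y hy μ
  obtain ⟨ρ, rfl⟩ := (he.germ y hy).1 μ
  refine ⟨ρ * X.presheaf.germ V y hy (gV ^ k' * c'), ?_⟩
  have h7 : sgerm L s y = X.presheaf.germ V y hy φ • L.presheaf.germ V y hy e := by
    rw [← germ_sec L s V y hy, hφ, Mero.germ_smul]
  have h8 : X.presheaf.map (homOfLE hVW).op (g ^ (k + k') * a) = gV ^ k' * (aV * gV ^ k) := by
    rw [map_mul, map_pow, ← hgV_def, ← haV_def, pow_add]
    ring
  rw [h7, h8, ht, ← mul_smul, ← mul_smul]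
  congr 1
  rw [map_mul, map_mul, map_mul]
  ring

/-- global step of quasi-coherence on an affine open -/
theorem exists_pow_mem (hL : PicF.IsInvertible L) (hreg : IsRegSec L s) {W : X.Opens}
    (hW : IsAffineOpen W) (g a : Γ(X, W))
    (ha : X.presheaf.map (homOfLE (X.basicOpen_le g)).op a ∈ zJ L s (X.basicOpen g)) :
    ∃ N : ℕ, g ^ N * a ∈ zJ L s W := by
  classical
  choose V hxV hVW n hn using fun x : W => exists_local_pow hL hreg g a ha x.1 x.2
  obtain ⟨t, ht⟩ := hW.isCompact.elim_finite_subcover (fun x : W => (V x : Set X))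
    (fun x => (V x).isOpen) (fun y hy => Set.mem_iUnion.mpr ⟨⟨y, hy⟩, hxV ⟨y, hy⟩⟩)
  refine ⟨t.sup n, ?_⟩
  intro y hy μ
  obtain ⟨x, hx, hyx⟩ := Set.mem_iUnion₂.mp (ht hy)
  have hle : n x ≤ t.sup n := Finset.le_sup hx
  obtain ⟨β, hβ⟩ := hn x y hyx μ
  rw [TopCat.Presheaf.germ_res_apply] at hβ
  refine ⟨X.presheaf.germ W y hy g ^ (t.sup n - n x) * β, ?_⟩
  have h1 : g ^ t.sup n * a = g ^ (t.sup n - n x) * (g ^ n x * a) := by
    rw [← mul_assoc, ← pow_add, Nat.sub_add_cancel hle]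
  rw [h1, map_mul, map_pow, mul_smul, hβ, mul_smul]

/-- the quasi-coherent ideal sheaf with ideals the stalkwise conductors -/
noncomputable def zSheaf (hL : PicF.IsInvertible L) (hreg : IsRegSec L s) : X.IdealSheafData where
  ideal U := zJ L s U.1
  map_ideal_basicOpen U g := by
    apply le_antisymm
    · rw [Ideal.map_le_iff_le_comap]
      intro a ha
      exact zJ_res L s (X.basicOpen_le g) ha
    · intro a' ha'
      have ha'' : a' ∈ zJ L s (X.basicOpen g) := ha'
      haveI := U.2.isLocalization_basicOpen g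
      obtain ⟨k, a, hka⟩ := IsLocalization.Away.surj g a'
      have hka' : a' * X.presheaf.map (homOfLE (X.basicOpen_le g)).op g ^ k =
        X.presheaf.map (homOfLE (X.basicOpen_le g)).op a := hka
      have h1 : X.presheaf.map (homOfLE (X.basicOpen_le g)).op a ∈ zJ L s (X.basicOpen g) := by
        rw [← hka', mul_comm]
        exact Ideal.mul_mem_left _ _ ha''
      obtain ⟨N, hN⟩ := exists_pow_mem hL hreg U.2 g a h1
      have h3 := Ideal.mem_map_of_mem (X.presheaf.map (homOfLE (X.basicOpen_le g)).op).hom hN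
      have h4 : (X.presheaf.map (homOfLE (X.basicOpen_le g)).op).hom (g ^ N * a) =
          X.presheaf.map (homOfLE (X.basicOpen_le g)).op g ^ (N + k) * a' := by
        change X.presheaf.map (homOfLE (X.basicOpen_le g)).op (g ^ N * a) = _
        rw [map_mul, map_pow, ← hka', pow_add]
        ring
      rw [h4] at h3
      have hu : IsUnit (X.presheaf.map (homOfLE (X.basicOpen_le g)).op g ^ (N + k)) := by
        apply IsUnit.pow
        exact IsLocalization.map_units Γ(X, X.basicOpen g)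
          (⟨g, Submonoid.mem_powers g⟩ : Submonoid.powers g)
      exact (Ideal.unit_mul_mem_iff_mem _ hu).mp h3

theorem zSheaf_le (hL : PicF.IsInvertible L) (hreg : IsRegSec L s) :
    zSheaf hL hreg ≤ PicF2.zeroScheme L s := by
  apply Scheme.IdealSheafData.le_ofIdeals_iff.mpr
  intro W a ha
  have ha' : a ∈ zJ L s W.1 := ha
  intro m
  obtain ⟨b, hb⟩ := exists_quot hreg W.1 ha' m
  exact ⟨b, hb⟩

/-- the ideal of the zero scheme on an affine open with a basis -/
theorem ideal_zeroScheme_eq (hL : PicF.IsInvertible L) (hreg : IsRegSec L s) (U : X.affineOpens)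
    (e : Γ(L, U.1)) (he : IsLocalBasis L U.1 e) (f : Γ(X, U.1)) (hf : sec L s U.1 = f • e) :
    (PicF2.zeroScheme L s).ideal U = Ideal.span {f} := by
  have e0 : L.presheaf.map (homOfLE (le_refl U.1)).op e = e := by
    change L.presheaf.map (𝟙 _) e = e
    rw [L.presheaf.map_id]; rfl
  apply le_antisymm
  · intro a ha
    have h1 := Scheme.IdealSheafData.ideal_ofIdeals_le _ U ha
    obtain ⟨b, hb'⟩ : ∃ b : Γ(X, U.1), a • e = b • sec L s U.1 := h1 e
    rw [hf, ← mul_smul] at hb'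
    obtain ⟨r₀, -, hu⟩ := he U.1 le_rfl (a • e)
    have h2 : a = b * f := (hu a (by rw [e0])).trans (hu (b * f) (by rw [e0]; exact hb')).symm
    rw [h2]
    exact Ideal.mul_mem_left _ _ (Ideal.subset_span rfl)
  · rw [Ideal.span_singleton_le_iff_mem]
    apply (zSheaf_le hL hreg) U
    change f ∈ zJ L s U.1
    intro y hy μ
    obtain ⟨ρ, rfl⟩ := (he.germ y hy).1 μ
    refine ⟨ρ, ?_⟩
    rw [← germ_sec L s U.1 y hy, hf, Mero.germ_smul, ← mul_smul, ← mul_smul, mul_comm]

end Groth.Agent.Lead.MeroT
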