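import Groth.Agent.Lead.OmegaLocB
import Mathlib

/-!
# Lead: sections of an abstract sheaf of differentials over an affine pair are Kähler differentials
-/

set_option autoImplicit false
set_option backward.isDefEq.respectTransparency false
set_option backward.isDefEq.respectTransparency.types false
open CategoryTheory CategoryTheory.Limits AlgebraicGeometry Opposite TopologicalSpace
universe u

namespace Groth.Agent.Lead.OmegaLocC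
open Scheme.Modules OmegaSh Groth.Agent.Helper4

variable {X Y : Scheme.{u}} (f : X ⟶ Y)

/-- the dictionary for the frozen sheaf, with an arbitrary algebra instance -/
theorem exists_sectionsEquiv_frozen [QuasiSeparated f] {U : X.Opens} {V : Y.Opens}
    (hU : IsAffineOpen U) (hV : IsAffineOpen V) (e : U ≤ f ⁻¹ᵁ V)
    [inst : Algebra Γ(Y, V) Γ(X, U)]
    (h : algebraMap Γ(Y, V) Γ(X, U) = (f.appLE V U e).hom) :
    ∃ ε : Γ(Omega.sheaf f, U) ≃ₗ[Γ(X, U)] Ω[Γ(X, U)⁄Γ(Y, V)],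
      ∀ s : Γ(X, U), ε ((dOmega f).app U s) = KaehlerDifferential.D Γ(Y, V) Γ(X, U) s := by
  have : inst = (f.appLE V U e).hom.toAlgebra :=
    Algebra.algebra_ext _ _ (fun r => congr($h r))
  subst this
  exact OmegaSecA.exists_sectionsEquiv f hU hV e

/-- the statement of the dictionary -/
def Dict {Ω' : X.Modules} (d : Der f Ω') (U : X.Opens) (V : Y.Opens) (e : U ≤ f ⁻¹ᵁ V) : Prop :=
  letI := (f.appLE V U e).hom.toAlgebra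
  ∃ ε : Γ(Ω', U) ≃ₗ[Γ(X, U)] Ω[Γ(X, U)⁄Γ(Y, V)],
    ∀ s : Γ(X, U), ε (d.app U s) = KaehlerDifferential.D Γ(Y, V) Γ(X, U) s

theorem dict_congr {Ω' : X.Modules} (d : Der f Ω') {U₁ U : X.Opens} {V₁ V : Y.Opens}
    (hU : U₁ = U) (hV : V₁ = V) (e₁ : U₁ ≤ f ⁻¹ᵁ V₁) (e : U ≤ f ⁻¹ᵁ V)
    (h : Dict f d U₁ V₁ e₁) : Dict f d U V e := by
  subst hU hV
  exact h

theorem dict_top {Ω' : X.Modules} (d : Der f Ω') (hd : IsUniversal d) {U : X.Opens}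
    {V : Y.Opens} (hU : IsAffineOpen U) (hV : IsAffineOpen V) (e : U ≤ f ⁻¹ᵁ V)
    (e' : U.ι ''ᵁ ⊤ ≤ f ⁻¹ᵁ (V.ι ''ᵁ ⊤)) : Dict f d (U.ι ''ᵁ ⊤) (V.ι ''ᵁ ⊤) e' := by
  letI alg : Algebra Γ(Y, V.ι ''ᵁ ⊤) Γ(X, U.ι ''ᵁ ⊤) :=
    (f.appLE (V.ι ''ᵁ ⊤) (U.ι ''ᵁ ⊤) e').hom.toAlgebra
  obtain ⟨φ, hφ⟩ := OmegaLocB.exists_iso_restrict f e hU hV d hd
  haveI := OmegaLocB.quasiSeparated_resLE f e hU hV
  haveI : IsAffine (U : Scheme.{u}) := hU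
  haveI : IsAffine (V : Scheme.{u}) := hV
  have e₀ : (⊤ : (U : Scheme.{u}).Opens) ≤ f.resLE V U e ⁻¹ᵁ ⊤ := le_top
  letI alg' : Algebra Γ(V, ⊤) Γ(U, ⊤) := alg
  have halg : algebraMap Γ(V, ⊤) Γ(U, ⊤) = ((f.resLE V U e).appLE ⊤ ⊤ e₀).hom := by
    rw [Scheme.Hom.resLE_appLE]
    rfl
  obtain ⟨ε₀, hε₀⟩ := exists_sectionsEquiv_frozen (f.resLE V U e) (isAffineOpen_top _)
    (isAffineOpen_top _) e₀ halg
  letI : Module Γ(U, ⊤) Γ(Ω', U.ι ''ᵁ ⊤) :=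
    inferInstanceAs (Module Γ(X, U.ι ''ᵁ ⊤) Γ(Ω', U.ι ''ᵁ ⊤))
  let ε : Γ(Ω', U.ι ''ᵁ ⊤) ≃ₗ[Γ(U, ⊤)] Ω[Γ(U, ⊤)⁄Γ(V, ⊤)] :=
    (OmegaLocB.restrictTopEquiv Ω' U).symm.trans ((OmegaLocB.appEquiv φ ⊤).trans ε₀)
  refine ⟨ε, fun s => ?_⟩
  rw [DerA.postcomp_eq_iff] at hφ
  have h1 := hφ ⊤ s
  change ε₀ (φ.hom.app ⊤ ((OmegaLocA.restrictDer f e d).app ⊤ s)) = _
  rw [h1]
  exact hε₀ s

/-- **Sections of an abstract sheaf of differentials on an affine pair are Kähler differentials**,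
compatibly with the derivation. -/
theorem exists_sectionsEquiv {Ω' : X.Modules} (d : Der f Ω') (hd : IsUniversal d) {U : X.Opens}
    {V : Y.Opens} (hU : IsAffineOpen U) (hV : IsAffineOpen V) (e : U ≤ f ⁻¹ᵁ V) :
    letI := (f.appLE V U e).hom.toAlgebra
    ∃ ε : Γ(Ω', U) ≃ₗ[Γ(X, U)] Ω[Γ(X, U)⁄Γ(Y, V)],
      ∀ s : Γ(X, U), ε (d.app U s) = KaehlerDifferential.D Γ(Y, V) Γ(X, U) s := by
  have e' : U.ι ''ᵁ ⊤ ≤ f ⁻¹ᵁ (V.ι ''ᵁ ⊤) := by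
    rw [U.ι_image_top, V.ι_image_top]; exact e
  exact dict_congr f d U.ι_image_top V.ι_image_top e' e (dict_top f d hd hU hV e e')

end Groth.Agent.Lead.OmegaLocC
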