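import Groth.Prelude.Def_Omega4
import Mathlib

/-!
# Lead: derivations of the structure sheaf: pushforward along a square, the canonical map
`h^*Ω → Ω'` between universal derivations (existence and uniqueness)
-/

set_option autoImplicit false
open CategoryTheory CategoryTheory.Limits AlgebraicGeometry Opposite TopologicalSpace
universe u

namespace Groth.Agent.Lead.DerA
open Scheme.Modules OmegaSh

variable {X S X' S' : Scheme.{u}}

theorem der_app_eq_zero (f' : X' ⟶ S') {Ω' : X'.Modules} (d' : Der f' Ω') (V : S'.Opens)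
    (c : Γ(S', V)) : d'.d (X := op (f' ⁻¹ᵁ V)) (f'.app V c) = 0 :=
  d'.d_app (X := op V) c

theorem der_map {f' : X' ⟶ S'} {Ω' : X'.Modules} (d' : Der f' Ω') {U V : X'.Opens} (i : V ⟶ U)
    (s : Γ(X', U)) : d'.d (X := op V) (X'.presheaf.map i.op s) =
      Ω'.presheaf.map i.op (d'.d (X := op U) s) :=
  d'.d_map i.op s

/-- the pushforward of a derivation along `h`, as a derivation over the lower base -/
noncomputable def pushDer (f : X ⟶ S) (f' : X' ⟶ S') (h : X' ⟶ X) (b : S' ⟶ S)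
    (hsq : f' ≫ b = h ≫ f) {Ω' : X'.Modules} (d' : Der f' Ω') :
    Der f ((pushforward h).obj Ω') where
  d {U} := (d'.d (X := op (h ⁻¹ᵁ U.unop))).comp (h.app U.unop).hom.toAddMonoidHom
  d_mul {U} a b := by
    change d'.d (X := op (h ⁻¹ᵁ U.unop)) (h.app U.unop (a * b)) =
      h.app U.unop a • d'.d (X := op (h ⁻¹ᵁ U.unop)) (h.app U.unop b) +
        h.app U.unop b • d'.d (X := op (h ⁻¹ᵁ U.unop)) (h.app U.unop a)
    rw [map_mul, d'.d_mul]
  d_map {U V} i s := by
    change d'.d (X := op (h ⁻¹ᵁ V.unop)) (h.app V.unop (X.presheaf.map i s)) =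
      Ω'.presheaf.map ((Opens.map h.base).map i.unop).op
        (d'.d (X := op (h ⁻¹ᵁ U.unop)) (h.app U.unop s))
    rw [← der_map]
    congr 1
    exact congr($(h.naturality i) s)
  d_app {V} c := by
    change d'.d (X := op (h ⁻¹ᵁ (f ⁻¹ᵁ V.unop))) (h.app (f ⁻¹ᵁ V.unop) (f.app V.unop c)) = 0
    have h1 : h.app (f ⁻¹ᵁ V.unop) (f.app V.unop c) = (h ≫ f).app V.unop c := by
      rw [Scheme.Hom.comp_app]; rfl
    have h2 : (f' ≫ b).app V.unop c = f'.app (b ⁻¹ᵁ V.unop) (b.app V.unop c) := by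
      rw [Scheme.Hom.comp_app]; rfl
    have h3 : (h ≫ f).app V.unop c = X'.presheaf.map (eqToHom (by rw [hsq])).op
        ((f' ≫ b).app V.unop c) := by
      rw [Scheme.Hom.congr_app hsq.symm V.unop]; rfl
    rw [h1, h3, h2]
    erw [der_map d' (eqToHom _)]
    exact (congrArg _ (der_app_eq_zero f' d' (b ⁻¹ᵁ V.unop) (b.app V.unop c))).trans (map_zero _)


theorem postcomp_eq_iff {f : X ⟶ S} {Ω F : X.Modules} (d : Der f Ω) (D : Der f F) (α : Ω ⟶ F) :
    d.postcomp α.val = D ↔ ∀ (U : X.Opens) (s : Γ(X, U)), α.app U (d.app U s) = D.app U s := by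
  constructor
  · rintro rfl U s
    rfl
  · intro H
    ext U s
    exact H U.unop s

theorem isDiffCompat_iff (f : X ⟶ S) (f' : X' ⟶ S') (h : X' ⟶ X) (b : S' ⟶ S)
    (hsq : f' ≫ b = h ≫ f) {Ω : X.Modules} (d : Der f Ω) {Ω' : X'.Modules} (d' : Der f' Ω')
    (c : (Scheme.Modules.pullback h).obj Ω ⟶ Ω') :
    IsDiffCompat h d d' c ↔
      d.postcomp ((pullbackPushforwardAdjunction h).homEquiv _ _ c).val =
        pushDer f f' h b hsq d' := by
  rw [postcomp_eq_iff]
  refine forall_congr' fun U => forall_congr' fun s => ?_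
  rw [Adjunction.homEquiv_unit]
  rfl

theorem existsUnique_diffCompat (f : X ⟶ S) (f' : X' ⟶ S') (h : X' ⟶ X) (b : S' ⟶ S)
    (hsq : f' ≫ b = h ≫ f) (Ω : X.Modules) (d : Der f Ω) (hd : IsUniversal d)
    (Ω' : X'.Modules) (d' : Der f' Ω') :
    ∃! c : (Scheme.Modules.pullback h).obj Ω ⟶ Ω', IsDiffCompat h d d' c := by
  obtain ⟨α, hα, huniq⟩ := hd _ (pushDer f f' h b hsq d')
  refine ⟨((pullbackPushforwardAdjunction h).homEquiv _ _).symm α, ?_, ?_⟩
  · change IsDiffCompat h d d' _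
    rw [isDiffCompat_iff f f' h b hsq, Equiv.apply_symm_apply]
    exact hα
  · intro c hc
    rw [isDiffCompat_iff f f' h b hsq] at hc
    rw [← huniq _ hc, Equiv.symm_apply_apply]

end Groth.Agent.Lead.DerA
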