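import Groth.Agent.Lead.OmegaSecB
import Groth.Agent.Lead.DerA
import Groth.Agent.Helper1.BasisHom
import Mathlib

/-!
# Lead: `OmegaSh.dOmega f` is a universal derivation (f quasi-separated)
-/

set_option autoImplicit false
set_option backward.isDefEq.respectTransparency false
set_option backward.isDefEq.respectTransparency.types false
open CategoryTheory CategoryTheory.Limits AlgebraicGeometry Opposite TopologicalSpace TensorProduct
universe u

namespace Groth.Agent.Lead.OmegaUnivA
open Scheme.Modules OmegaSh Groth.Agent.Helper1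

variable {X Y : Scheme.{u}} (f : X ⟶ Y)

section Pair
variable {U : X.Opens} (hU : IsAffineOpen U) {V : Y.Opens} (hV : IsAffineOpen V)
  (e : U ≤ f ⁻¹ᵁ V)

theorem der_appLE {F : X.Modules} (D : Der f F) (c : Γ(Y, V)) :
    D.app U (f.appLE V U e c) = 0 := by
  have h1 : f.appLE V U e c = X.presheaf.map (homOfLE e).op (f.app V c) := rfl
  rw [h1, Der.app_apply, DerA.der_map D (homOfLE e), DerA.der_app_eq_zero, map_zero]

include hU hV e in
/-- the sections of `Ω_{X/Y}` over an affine `U` (over an affine `V`) are spanned by the `d s`. -/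
theorem span_dOmega [QuasiSeparated f] :
    Submodule.span Γ(X, U) (Set.range ((dOmega f).app U)) = ⊤ := by
  letI := (f.appLE V U e).hom.toAlgebra
  obtain ⟨ε, hε⟩ := OmegaSecA.exists_sectionsEquiv f hU hV e
  have h1 := KaehlerDifferential.span_range_derivation Γ(Y, V) Γ(X, U)
  apply_fun Submodule.map ε.symm.toLinearMap at h1
  rw [Submodule.map_top, LinearMap.range_eq_top.mpr ε.symm.surjective, Submodule.map_span] at h1
  rw [← h1]
  congr 1
  ext m
  constructor
  · rintro ⟨s, rfl⟩
    exact ⟨_, ⟨s, rfl⟩, by rw [← hε s]; exact ε.symm_apply_apply _⟩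
  · rintro ⟨_, ⟨s, rfl⟩, rfl⟩
    exact ⟨s, by rw [← hε s]; exact (ε.symm_apply_apply _).symm⟩

include hU hV e in
/-- a derivation lifts, on an affine pair, to a linear map out of the sections of `Ω`. -/
theorem exists_lift [QuasiSeparated f] {F : X.Modules} (D : Der f F) :
    ∃ a : Γ(Omega.sheaf f, U) →ₗ[Γ(X, U)] Γ(F, U),
      ∀ s : Γ(X, U), a ((dOmega f).app U s) = D.app U s := by
  letI := (f.appLE V U e).hom.toAlgebra
  obtain ⟨ε, hε⟩ := OmegaSecA.exists_sectionsEquiv f hU hV e
  letI : Module Γ(Y, V) Γ(F, U) := Module.compHom _ (algebraMap Γ(Y, V) Γ(X, U))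
  haveI : IsScalarTower Γ(Y, V) Γ(X, U) Γ(F, U) := ⟨fun a b m => by
    change (a • b) • m = algebraMap Γ(Y, V) Γ(X, U) a • b • m
    rw [Algebra.smul_def, mul_smul]⟩
  let D' : Derivation Γ(Y, V) Γ(X, U) Γ(F, U) :=
    { toFun := fun s => D.app U s
      map_add' := fun a b => map_add _ a b
      map_smul' := fun a b => by
        change D.app U (a • b) = algebraMap Γ(Y, V) Γ(X, U) a • D.app U b
        rw [Algebra.smul_def, Der.app_apply, D.d_mul, ← Der.app_apply, ← Der.app_apply]
        have : D.app U (algebraMap Γ(Y, V) Γ(X, U) a) = 0 := der_appLE f e D a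
        rw [this, smul_zero, add_zero]
      map_one_eq_zero' := by
        change D.app U 1 = 0
        rw [Der.app_apply, D.d_one]
      leibniz' := fun a b => by
        change D.app U (a * b) = a • D.app U b + b • D.app U a
        rw [Der.app_apply, D.d_mul]
        rfl }
  refine ⟨D'.liftKaehlerDifferential ∘ₗ ε.toLinearMap, fun s => ?_⟩
  change D'.liftKaehlerDifferential (ε ((dOmega f).app U s)) = _
  rw [hε, Derivation.liftKaehlerDifferential_comp_D]
  rfl

end Pair

theorem der_app_map {F : X.Modules} (D : Der f F) {U V : X.Opens} (h : V ≤ U) (s : Γ(X, U)) :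
    D.app V (X.presheaf.map (homOfLE h).op s) = F.presheaf.map (homOfLE h).op (D.app U s) :=
  DerA.der_map D (homOfLE h) s

/-- affine pairs -/
abbrev Idx : Type u := {p : X.affineOpens × Y.affineOpens // p.1.1 ≤ f ⁻¹ᵁ p.2.1}

/-- the affine opens of `X` lying over an affine open of `Y` -/
abbrev B : Idx f → X.Opens := fun p => p.1.1.1

theorem isBasis : Opens.IsBasis (Set.range (B f)) := by
  rw [Opens.isBasis_iff_nbhd]
  intro W x hx
  obtain ⟨U, V, hU, hV, hxU, hUV, hUW⟩ := OmegaSecB.exists_affine_pair_le f x W hx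
  exact ⟨U, ⟨⟨(⟨U, hU⟩, ⟨V, hV⟩), hUV⟩, rfl⟩, hxU, hUW⟩

theorem hom_ext_of_basis {M N : X.Modules} (α β : M ⟶ N)
    (h : ∀ i : Idx f, α.app (B f i) = β.app (B f i)) : α = β := by
  apply Scheme.Modules.hom_ext
  intro W
  apply AddCommGrpCat.hom_ext
  apply AddMonoidHom.ext
  intro m
  apply BasisHom.section_ext_of_cover N W (fun k : {i : Idx f // B f i ≤ W} => B f k.1)
    (fun k => k.2) (BasisHom.le_iSup_basis (B f) (isBasis f) W)
  intro k
  have h1 := congr($(α.mapPresheaf.naturality (homOfLE k.2).op) m)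
  have h2 := congr($(β.mapPresheaf.naturality (homOfLE k.2).op) m)
  have h3 : α.app (B f k.1) (M.presheaf.map (homOfLE k.2).op m) =
      β.app (B f k.1) (M.presheaf.map (homOfLE k.2).op m) := by rw [h k.1]
  exact h1.symm.trans (h3.trans h2)

theorem isUniversal [QuasiSeparated f] : IsUniversal (dOmega f) := by
  intro F D
  have hex : ∀ i : Idx f, ∃ a : Γ(Omega.sheaf f, B f i) →ₗ[Γ(X, B f i)] Γ(F, B f i),
      ∀ s : Γ(X, B f i), a ((dOmega f).app (B f i) s) = D.app (B f i) s :=
    fun i => exists_lift f i.1.1.2 i.1.2.2 i.2 D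
  choose a ha using hex
  have hnat : ∀ (i j : Idx f) (h : B f j ≤ B f i) (s : Γ(Omega.sheaf f, B f i)),
      F.presheaf.map (homOfLE h).op (a i s) =
        a j ((Omega.sheaf f).presheaf.map (homOfLE h).op s) := by
    intro i j h s
    have hs : s ∈ Submodule.span Γ(X, B f i) (Set.range ((dOmega f).app (B f i))) := by
      have := span_dOmega f i.1.1.2 i.1.2.2 i.2
      exact this ▸ Submodule.mem_top
    induction hs using Submodule.span_induction with
    | mem x hx =>
      obtain ⟨t, rfl⟩ := hx
      rw [ha, ← der_app_map f D h, ← der_app_map f (dOmega f) h, ha]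
    | zero => simp
    | add x y _ _ hx hy => rw [map_add, map_add, hx, hy, map_add, map_add]
    | smul r x _ hx =>
      rw [_root_.map_smul, Scheme.Modules.map_smul, hx, Scheme.Modules.map_smul, _root_.map_smul]
  let α : Omega.sheaf f ⟶ F := BasisHom.homOfBasis (B f) (isBasis f) (Omega.sheaf f) F
    (fun i => (a i).toAddMonoidHom) hnat (fun i r s => (a i).map_smul r s)
  have hα : ∀ (i : Idx f) (s : Γ(Omega.sheaf f, B f i)), α.app (B f i) s = a i s :=
    fun i s => BasisHom.homOfBasis_app (B f) (isBasis f) (Omega.sheaf f) F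
      (fun i => (a i).toAddMonoidHom) hnat (fun i r s => (a i).map_smul r s) i s
  refine ⟨α, ?_, ?_⟩
  · change (dOmega f).postcomp α.val = D
    rw [DerA.postcomp_eq_iff]
    intro W s
    apply BasisHom.section_ext_of_cover F W (fun k : {i : Idx f // B f i ≤ W} => B f k.1)
      (fun k => k.2) (BasisHom.le_iSup_basis (B f) (isBasis f) W)
    intro k
    have h1 := congr($(α.mapPresheaf.naturality (homOfLE k.2).op) ((dOmega f).app W s))
    refine h1.symm.trans ?_
    change α.app (B f k.1) ((Omega.sheaf f).presheaf.map (homOfLE k.2).op ((dOmega f).app W s)) = _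
    rw [← der_app_map f (dOmega f) k.2, hα, ha, der_app_map f D k.2]
  · intro β hβ
    change (dOmega f).postcomp β.val = D at hβ
    rw [DerA.postcomp_eq_iff] at hβ
    apply hom_ext_of_basis f
    intro i
    apply AddCommGrpCat.hom_ext
    apply AddMonoidHom.ext
    intro s
    have hs : s ∈ Submodule.span Γ(X, B f i) (Set.range ((dOmega f).app (B f i))) := by
      have := span_dOmega f i.1.1.2 i.1.2.2 i.2
      exact this ▸ Submodule.mem_top
    induction hs using Submodule.span_induction with
    | mem x hx =>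
      obtain ⟨t, rfl⟩ := hx
      exact (hβ _ t).trans ((hα i _).trans (ha i t)).symm
    | zero => simp
    | add x y _ _ hx hy =>
      exact (map_add _ x y).trans ((congrArg₂ (· + ·) hx hy).trans (map_add _ x y).symm)
    | smul r x _ hx =>
      exact (Scheme.Modules.Hom.app_smul β r x).trans
        ((congrArg (r • ·) hx).trans (Scheme.Modules.Hom.app_smul α r x).symm)

end Groth.Agent.Lead.OmegaUnivA
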