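import Groth.Agent.Helper4.TensorLift
import Mathlib

/-!
# Lead: `tilde (M ⊗ N) ≅ tilde M ⊗ tilde N`
-/

set_option autoImplicit false
universe u
open TensorProduct CategoryTheory AlgebraicGeometry Opposite TopologicalSpace

namespace Groth.Agent.Lead.TildeTensor

section Alg
variable {R : Type u} [CommRing R] (S : Submonoid R) (M N : Type u) [AddCommGroup M] [Module R M]
  [AddCommGroup N] [Module R N]

/-- the canonical bilinear map `M_S × N_S → (M ⊗ N)_S` -/
noncomputable def mu : LocalizedModule S M →ₗ[R] LocalizedModule S N →ₗ[R]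
    LocalizedModule S (M ⊗[R] N) :=
  (TensorProduct.mk R (LocalizedModule S M) (LocalizedModule S N)).compr₂
    (IsLocalizedModule.iso S (TensorProduct.map (LocalizedModule.mkLinearMap S M)
      (LocalizedModule.mkLinearMap S N))).symm.toLinearMap

theorem smul_mk_self (m : M) (a : S) : (a : R) • LocalizedModule.mk m a = LocalizedModule.mk m 1 := by
  rw [LocalizedModule.smul'_mk, LocalizedModule.mk_eq]
  refine ⟨1, ?_⟩
  simp only [one_smul]
  rfl

theorem mu_mk (m : M) (a : S) (n : N) (b : S) :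
    mu S M N (LocalizedModule.mk m a) (LocalizedModule.mk n b) =
      LocalizedModule.mk (m ⊗ₜ[R] n) (a * b) := by
  change (IsLocalizedModule.iso S (TensorProduct.map (LocalizedModule.mkLinearMap S M)
      (LocalizedModule.mkLinearMap S N))).symm
      ((LocalizedModule.mk m a) ⊗ₜ[R] (LocalizedModule.mk n b)) = _
  apply IsLocalizedModule.iso_symm_apply'
  rw [TensorProduct.map_tmul, Submonoid.smul_def, Submonoid.coe_mul, mul_smul,
    ← TensorProduct.tmul_smul, TensorProduct.smul_tmul', smul_mk_self, smul_mk_self]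
  rfl

theorem mk_smul_mk' {P : Type u} [AddCommGroup P] [Module R P] (r : R) (s : S) (m : P) (a : S) :
    (LocalizedModule.mk r s : LocalizedModule S R) • (LocalizedModule.mk m a : LocalizedModule S P) =
      LocalizedModule.mk (r • m) (s * a) :=
  LocalizedModule.mk_smul_mk r m s a

/-- `mu` is bilinear over the localized ring -/
theorem mu_smul_left (ρ : LocalizedModule S R) (x : LocalizedModule S M) (y : LocalizedModule S N) :
    mu S M N (ρ • x) y = ρ • mu S M N x y := by
  induction ρ with | _ r s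
  induction x with | _ m a
  induction y with | _ n b
  rw [mk_smul_mk', mu_mk, mu_mk, mk_smul_mk',
    TensorProduct.smul_tmul', mul_assoc]

theorem mu_smul_right (ρ : LocalizedModule S R) (x : LocalizedModule S M) (y : LocalizedModule S N) :
    mu S M N x (ρ • y) = ρ • mu S M N x y := by
  induction ρ with | _ r s
  induction x with | _ m a
  induction y with | _ n b
  rw [mk_smul_mk', mu_mk, mu_mk, mk_smul_mk',
    TensorProduct.tmul_smul, mul_left_comm]

end Alg

section BC
variable {R A M N P Q T : Type u} [CommRing R] [CommRing A] [Algebra R A]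
  [AddCommGroup M] [Module R M] [AddCommGroup N] [Module R N]
  [AddCommGroup P] [Module R P] [Module A P] [IsScalarTower R A P]
  [AddCommGroup Q] [Module R Q] [Module A Q] [IsScalarTower R A Q]
  [AddCommGroup T] [Module R T] [Module A T] [IsScalarTower R A T]

/-- the map `M ⊗[R] N → P ⊗[A] Q` -/
noncomputable def tmap (ρ : M →ₗ[R] P) (σ : N →ₗ[R] Q) : M ⊗[R] N →ₗ[R] P ⊗[A] Q :=
  TensorProduct.lift
    (((TensorProduct.mk A P Q).restrictScalars₁₂ R R).compl₁₂ ρ σ)

theorem tmap_tmul (ρ : M →ₗ[R] P) (σ : N →ₗ[R] Q) (m : M) (n : N) :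
    tmap (A := A) ρ σ (m ⊗ₜ n) = ρ m ⊗ₜ[A] σ n := rfl

theorem isBaseChange_tmap {ρ : M →ₗ[R] P} {σ : N →ₗ[R] Q} (hρ : IsBaseChange A ρ)
    (hσ : IsBaseChange A σ) : IsBaseChange A (tmap (A := A) ρ σ) := by
  let e : A ⊗[R] (M ⊗[R] N) ≃ₗ[A] P ⊗[A] Q :=
    (AlgebraTensorModule.distribBaseChange R A M N).trans
      (TensorProduct.congr hρ.equiv hσ.equiv)
  refine IsBaseChange.of_equiv e (fun x => ?_)
  induction x using TensorProduct.induction_on with
  | zero => simp
  | tmul m n =>
    simp [e, tmap_tmul, IsBaseChange.equiv_tmul]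
  | add x y hx hy => rw [tmul_add, map_add, map_add, hx, hy]

theorem bijective_of_two_isBaseChange {R R' M₁ M₂ N₁ N₂ : Type u} [CommRing R] [CommRing R']
    [Algebra R R'] [AddCommGroup M₁] [Module R M₁] [AddCommGroup M₂] [Module R M₂]
    [AddCommGroup N₁] [Module R N₁] [Module R' N₁] [IsScalarTower R R' N₁]
    [AddCommGroup N₂] [Module R N₂] [Module R' N₂] [IsScalarTower R R' N₂]
    (ρ₁ : M₁ →ₗ[R] N₁) (h₁ : IsBaseChange R' ρ₁) (ρ₂ : M₂ →ₗ[R] N₂) (h₂ : IsBaseChange R' ρ₂)
    (eM : M₁ ≃ₗ[R] M₂) (β : N₁ →ₗ[R'] N₂) (hβ : ∀ m, β (ρ₁ m) = ρ₂ (eM m)) :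
    Function.Bijective β := by
  have h₂' : IsBaseChange R' (ρ₂.comp eM.toLinearMap) := IsBaseChange.comp_equiv eM ρ₂ h₂
  have key : ∀ t : R' ⊗[R] M₁, β (h₁.equiv t) = h₂'.equiv t := by
    intro t
    induction t using TensorProduct.induction_on with
    | zero => simp
    | tmul r' m =>
      rw [IsBaseChange.equiv_tmul, IsBaseChange.equiv_tmul, LinearMap.map_smul, hβ]
      rfl
    | add x y hx hy => rw [map_add, map_add, map_add, hx, hy]
  have hβ' : (β : N₁ → N₂) = h₂'.equiv ∘ h₁.equiv.symm := by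
    funext n
    obtain ⟨t, rfl⟩ := h₁.equiv.surjective n
    rw [key]
    simp
  rw [hβ']
  exact h₂'.equiv.bijective.comp h₁.equiv.symm.bijective

theorem bijective_of_localizations (f : R) [IsLocalization.Away f A]
    (ρ : M →ₗ[R] P) [IsLocalizedModule (.powers f) ρ] (σ : N →ₗ[R] Q)
    [IsLocalizedModule (.powers f) σ]
    (θ : M ⊗[R] N →ₗ[R] T) [IsLocalizedModule (.powers f) θ]
    (b : P ⊗[A] Q →ₗ[A] T) (hb : ∀ m n, b (ρ m ⊗ₜ σ n) = θ (m ⊗ₜ n)) : Function.Bijective b := by
  have hρ : IsBaseChange A ρ := IsLocalizedModule.isBaseChange (.powers f) A ρ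
  have hσ : IsBaseChange A σ := IsLocalizedModule.isBaseChange (.powers f) A σ
  have hθ : IsBaseChange A θ := IsLocalizedModule.isBaseChange (.powers f) A θ
  refine bijective_of_two_isBaseChange (tmap (A := A) ρ σ) (isBaseChange_tmap hρ hσ) θ hθ
    (LinearEquiv.refl R _) b ?_
  intro z
  induction z using TensorProduct.induction_on with
  | zero => simp
  | tmul m n => rw [tmap_tmul, hb]; rfl
  | add x y hx hy => rw [map_add, map_add, map_add, map_add, hx, hy]

end BC

section Sheaf
open StructureSheaf Groth.Agent.Helper4.TensorLift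

variable {R : CommRingCat.{u}} (M N : ModuleCat.{u} R)

/-- the target sheaf -/
noncomputable abbrev tens : (Spec R).Modules := tilde (ModuleCat.of R (M ⊗[R] N))

set_option backward.isDefEq.respectTransparency false in
/-- the bilinear map on sections -/
noncomputable def betaFun (V : (Spec R).Opens) (s : Γ(tilde M, V)) (t : Γ(tilde N, V)) :
    Γ(tens M N, V) :=
  ⟨fun x => mu x.1.asIdeal.primeCompl M N (s.1 x) (t.1 x), by
    intro x
    obtain ⟨Va, ma, ia, ra, sa, wa⟩ := s.2 x
    obtain ⟨Vb, mb, ib, rb, sb, wb⟩ := t.2 x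
    refine ⟨Va ⊓ Vb, ⟨ma, mb⟩, Opens.infLELeft _ _ ≫ ia, ra ⊗ₜ[R] rb, sa * sb, fun y ↦ ?_⟩
    obtain ⟨hsax, hsa⟩ := wa ⟨y.1, y.2.1⟩
    obtain ⟨hsbx, hsb⟩ := wb ⟨y.1, y.2.2⟩
    refine ⟨y.1.asIdeal.primeCompl.mul_mem hsax hsbx, ?_⟩
    have h := mu_mk y.1.asIdeal.primeCompl M N ra ⟨sa, hsax⟩ rb ⟨sb, hsbx⟩
    rw [← hsa, ← hsb] at h
    exact h⟩

set_option backward.isDefEq.respectTransparency false in
/-- the bilinear family -/
noncomputable def beta : Bil (tilde M) (tilde N) (tens M N) where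
  f := betaFun M N
  add_left V m m' n := Subtype.ext (funext fun x =>
    LinearMap.map_add₂ (mu x.1.asIdeal.primeCompl M N) (m.1 x) (m'.1 x) (n.1 x))
  add_right V m n n' := Subtype.ext (funext fun x =>
    LinearMap.map_add (mu x.1.asIdeal.primeCompl M N (m.1 x)) (n.1 x) (n'.1 x))
  smul_left V r m n := Subtype.ext (funext fun x =>
    mu_smul_left x.1.asIdeal.primeCompl M N (r.1 x) (m.1 x) (n.1 x))
  smul_right V r m n := Subtype.ext (funext fun x =>
    mu_smul_right x.1.asIdeal.primeCompl M N (r.1 x) (m.1 x) (n.1 x))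
  map i m n := rfl

set_option backward.isDefEq.respectTransparency false in
theorem toOpen_apply (P : ModuleCat.{u} R) (V : (Spec R).Opens) (m : P) (x : V) :
    ((tilde.toOpen P V).hom m).1 x = LocalizedModule.mk m 1 := rfl

set_option backward.isDefEq.respectTransparency false in
theorem betaFun_toOpen (V : (Spec R).Opens) (m : M) (n : N) :
    betaFun M N V ((tilde.toOpen M V).hom m) ((tilde.toOpen N V).hom n) =
      (tilde.toOpen (ModuleCat.of R (M ⊗[R] N)) V).hom (m ⊗ₜ[R] n) := by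
  apply Subtype.ext
  funext x
  change mu x.1.asIdeal.primeCompl M N (((tilde.toOpen M V).hom m).1 x)
    (((tilde.toOpen N V).hom n).1 x) = _
  rw [toOpen_apply, toOpen_apply, mu_mk, toOpen_apply, mul_one]

set_option backward.isDefEq.respectTransparency false in
theorem beta_lin_bijective (f : R) :
    Function.Bijective ((beta M N).lin (PrimeSpectrum.basicOpen f)) := by
  let b : Γ(tilde M, PrimeSpectrum.basicOpen f) ⊗[Γ(Spec R, PrimeSpectrum.basicOpen f)]
      Γ(tilde N, PrimeSpectrum.basicOpen f) →ₗ[Γ(Spec R, PrimeSpectrum.basicOpen f)]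
      Γ(tens M N, PrimeSpectrum.basicOpen f) := (beta M N).lin (PrimeSpectrum.basicOpen f)
  change Function.Bijective b
  let ρ : M →ₗ[R] Γ(tilde M, PrimeSpectrum.basicOpen f) :=
    (tilde.toOpen M (PrimeSpectrum.basicOpen f)).hom
  let σ : N →ₗ[R] Γ(tilde N, PrimeSpectrum.basicOpen f) :=
    (tilde.toOpen N (PrimeSpectrum.basicOpen f)).hom
  let θ : M ⊗[R] N →ₗ[R] Γ(tens M N, PrimeSpectrum.basicOpen f) :=
    (tilde.toOpen (ModuleCat.of R (M ⊗[R] N)) (PrimeSpectrum.basicOpen f)).hom
  haveI : IsLocalizedModule (.powers f) ρ :=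
    inferInstanceAs (IsLocalizedModule.Away f (tilde.toOpen M (PrimeSpectrum.basicOpen f)).hom)
  haveI : IsLocalizedModule (.powers f) σ :=
    inferInstanceAs (IsLocalizedModule.Away f (tilde.toOpen N (PrimeSpectrum.basicOpen f)).hom)
  haveI : IsLocalizedModule (.powers f) θ := by
    have h : ∀ (P : ModuleCat.{u} R), IsLocalizedModule (.powers f)
        (tilde.toOpen P (PrimeSpectrum.basicOpen f)).hom := fun P => inferInstance
    exact h (ModuleCat.of R (M ⊗[R] N))
  refine bijective_of_localizations (R := R) (A := Γ(Spec R, PrimeSpectrum.basicOpen f)) f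
    ρ σ θ b ?_
  intro m n
  refine ((beta M N).lin_pure (PrimeSpectrum.basicOpen f) _ _).trans ?_
  exact betaFun_toOpen M N _ m n

theorem isIso_lift : IsIso (beta M N).lift := by
  apply Bil.isIso_lift
  · intro V x y hxy p hp
    obtain ⟨_, ⟨_, ⟨f, rfl⟩, rfl⟩, hpf, hfV⟩ :=
      PrimeSpectrum.isBasis_basic_opens.exists_subset_of_mem_open hp V.2
    refine ⟨PrimeSpectrum.basicOpen f, homOfLE hfV, hpf, ?_⟩
    apply (beta_lin_bijective M N f).1
    rw [Bil.lin_map, Bil.lin_map, hxy]
  · intro V s p hp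
    obtain ⟨_, ⟨_, ⟨f, rfl⟩, rfl⟩, hpf, hfV⟩ :=
      PrimeSpectrum.isBasis_basic_opens.exists_subset_of_mem_open hp V.2
    obtain ⟨x, hx⟩ := (beta_lin_bijective M N f).2
      ((tens M N).presheaf.map (homOfLE hfV).op s)
    exact ⟨PrimeSpectrum.basicOpen f, homOfLE hfV, hpf, x, hx⟩

/-- **`tilde M ⊗ tilde N ≅ tilde (M ⊗ N)`** -/
noncomputable def tensorTildeIso : CohB1.tensorMod (tilde M) (tilde N) ≅ tens M N :=
  haveI := isIso_lift M N
  asIso (beta M N).lift

end Sheaf

end Groth.Agent.Lead.TildeTensor
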