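import Groth.Agent.Helper5.RegCl
import Groth.Agent.Lead.PuncSec
import Groth.Agent.S5761
import Mathlib

set_option autoImplicit false
open CategoryTheory Limits AlgebraicGeometry TopologicalSpace Opposite
universe u

namespace Groth.Agent.Lead.CMCl

theorem cm_of_ringEquiv {R S : Type u} [CommRing R] [CommRing S] (e : R ≃+* S)
    [h : LocCoh.IsCohenMacaulayLocalRing R] : LocCoh.IsCohenMacaulayLocalRing S := by
  haveI : IsNoetherianRing S := isNoetherianRing_of_ringEquiv R e
  haveI : IsLocalRing S := e.isLocalRing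
  refine { supportDim_eq_depth := ?_ }
  rw [Module.supportDim_self_eq_ringKrullDim, ← ringKrullDim_eq_of_ringEquiv e,
    ← Groth.Agent.Lead.PuncSec.depth_eq_of_ringEquiv e, ← Module.supportDim_self_eq_ringKrullDim]
  exact h.supportDim_eq_depth

theorem cm_localization (A : Type u) [CommRing A] [h : LocCoh.IsCohenMacaulayLocalRing A]
    (q : Ideal A) [hq : q.IsPrime] : LocCoh.IsCohenMacaulayLocalRing (Localization.AtPrime q) := by
  have hsupp : (⟨q, hq⟩ : PrimeSpectrum A) ∈ Module.support A A := by
    rw [Module.support_eq_zeroLocus, Module.annihilator_eq_bot.mpr inferInstance]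
    simp
  have := Groth.Agent.S5761.result A A h.supportDim_eq_depth ⟨q, hq⟩ hsupp
  exact { supportDim_eq_depth := this }

/-- CM passes to further localizations. -/
theorem cm_of_le {B : Type u} [CommRing B] (p p' : Ideal B) [p.IsPrime]
    [hp' : p'.IsPrime] (hle : p' ≤ p)
    (A : Type u) [CommRing A] [Algebra B A] [IsLocalization.AtPrime A p]
    [LocCoh.IsCohenMacaulayLocalRing A]
    (A' : Type u) [CommRing A'] [Algebra B A'] [IsLocalization.AtPrime A' p'] :
    LocCoh.IsCohenMacaulayLocalRing A' := by
  have hdisj : Disjoint (p.primeCompl : Set B) (p' : Set B) := by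
    rw [Set.disjoint_left]
    intro b hb hb'
    exact hb (hle hb')
  haveI hq : (Ideal.map (algebraMap B A) p').IsPrime :=
    IsLocalization.isPrime_of_isPrime_disjoint p.primeCompl A p' hp' hdisj
  have hcm : Ideal.comap (algebraMap B A) (Ideal.map (algebraMap B A) p') = p' :=
    IsLocalization.comap_map_of_isPrime_disjoint p.primeCompl A hp' hdisj
  haveI := cm_localization A (Ideal.map (algebraMap B A) p')
  haveI : IsScalarTower B A (Localization.AtPrime (Ideal.map (algebraMap B A) p')) :=
    inferInstance
  haveI h1 : IsLocalization.AtPrime (Localization.AtPrime (Ideal.map (algebraMap B A) p'))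
      (Ideal.comap (algebraMap B A) (Ideal.map (algebraMap B A) p')) :=
    IsLocalization.isLocalization_isLocalization_atPrime_isLocalization p.primeCompl _ _
  haveI h2 : IsLocalization.AtPrime (Localization.AtPrime (Ideal.map (algebraMap B A) p')) p' := by
    convert h1 using 2
    exact hcm.symm
  exact cm_of_ringEquiv
    (IsLocalization.algEquiv p'.primeCompl
      (Localization.AtPrime (Ideal.map (algebraMap B A) p')) A').toRingEquiv

open Groth.Agent.Helper4 Groth.Agent.Helper5.RegCl in
theorem main (X : Scheme.{u}) [IsLocallyNoetherian X] :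
    (∀ x : X, LocCoh.IsCohenMacaulayLocalRing (X.presheaf.stalk x)) ↔
      ∀ x : X, IsClosed ({x} : Set X) → LocCoh.IsCohenMacaulayLocalRing (X.presheaf.stalk x) := by
  refine ⟨fun h x _ => h x, fun h x => ?_⟩
  obtain ⟨c, hcl, hxc, U, hU, hcU, hxU⟩ := specializes_closed_affine x
  letI := X.presheaf.algebra_section_stalk ⟨c, hcU⟩
  letI := X.presheaf.algebra_section_stalk ⟨x, hxU⟩
  haveI := hU.isLocalization_stalk ⟨c, hcU⟩
  haveI := hU.isLocalization_stalk ⟨x, hxU⟩
  haveI := h c hcl
  exact cm_of_le (hU.primeIdealOf ⟨c, hcU⟩).asIdeal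
    (hU.primeIdealOf ⟨x, hxU⟩).asIdeal (SuppDict.primeIdealOf_le_of_specializes hU hxU hcU hxc)
    (X.presheaf.stalk c) (X.presheaf.stalk x)

end Groth.Agent.Lead.CMCl
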