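import Mathlib
import Groth.Agent.Helper1.KoszulPoly2

/-!
# Sections of standard smooth algebras are cut out by a regular sequence (algebra part)
-/

set_option autoImplicit false

namespace Groth.Agent.Lead.SecRegA

open MvPolynomial RingTheory.Sequence

universe u
variable {A B : Type u} [CommRing A] [CommRing B]

/-- translation endomorphism `X i ↦ X i - a i` -/
noncomputable def tr (n : ℕ) (a : Fin n → A) :
    MvPolynomial (Fin n) A →ₐ[A] MvPolynomial (Fin n) A :=
  aeval (fun i => X i - C (a i))

lemma tr_comp (n : ℕ) (a : Fin n → A) :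
    (tr n a).comp (tr n (-a)) = AlgHom.id A (MvPolynomial (Fin n) A) := by
  apply MvPolynomial.algHom_ext
  intro i
  simp [tr]

lemma tr_bijective (n : ℕ) (a : Fin n → A) : Function.Bijective (tr n a) := by
  have h1 := tr_comp n a
  have h2 := tr_comp n (-a)
  rw [neg_neg] at h2
  refine ⟨?_, ?_⟩
  · intro p q hpq
    have := congrArg (tr n (-a)) hpq
    rwa [← AlgHom.comp_apply, ← AlgHom.comp_apply, h2] at this
  · intro p
    exact ⟨tr n (-a) p, by rw [← AlgHom.comp_apply, h1]; rfl⟩


/-- core lemma: a retraction of an algebra étale over a polynomial ring is cut out by the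
translated variables near the section. -/
theorem core (n : ℕ) (φ : A →+* B) (g : MvPolynomial (Fin n) A →+* B)
    (hg : g.comp C = φ) (hge : g.Etale) (hfp : φ.FinitePresentation)
    (s : B →+* A) (hs : s.comp φ = RingHom.id A) :
    ∃ (h : B) (ts : List B), ts.length = n ∧ s h = 1 ∧ (∀ t ∈ ts, s t = 0) ∧
      IsWeaklyRegular B ts ∧ ∀ b, s b = 0 → h * b ∈ Ideal.ofList ts := by
  classical
  have hsφ : ∀ c, s (φ c) = c := fun c => RingHom.congr_fun hs c
  have hgC : ∀ c, g (C c) = φ c := fun c => RingHom.congr_fun hg c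
  set a : Fin n → A := fun i => s (g (X i)) with ha
  have hτ : Function.Bijective (tr n a) := tr_bijective n a
  set g' : MvPolynomial (Fin n) A →+* B := g.comp (tr n a).toRingHom with hg'
  have hg'e : g'.Etale :=
    RingHom.Etale.stableUnderComposition _ _ (RingHom.Etale.of_bijective hτ) hge
  have hg'X : ∀ i, g' (X i) = g (X i) - φ (a i) := by
    intro i
    simp [hg', tr, hgC]
  have hg'C : ∀ c, g' (C c) = φ c := by
    intro c
    simp [hg', tr, hgC]
  have hsg' : ∀ p, s (g' p) = constantCoeff p := by
    intro p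
    have : (s.comp g') = (constantCoeff : MvPolynomial (Fin n) A →+* A) := by
      apply MvPolynomial.ringHom_ext
      · intro c
        simp [hg'C, hsφ]
      · intro i
        simp [hg'X, hsφ, ha]
    exact RingHom.congr_fun this p
  algebraize [g', φ]
  have hflat : Module.Flat (MvPolynomial (Fin n) A) B := inferInstance
  have hunr : Algebra.FormallyUnramified (MvPolynomial (Fin n) A) B := inferInstance
  set ts : List B := (List.ofFn (fun j : Fin n => (X j : MvPolynomial (Fin n) A) ^ 1)).map
    (algebraMap (MvPolynomial (Fin n) A) B) with hts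
  have hreg : IsWeaklyRegular B ts :=
    (Groth.Agent.Helper1.KoszulPoly.isWeaklyRegular_X_pow n 1).of_flat
  have hmem : ∀ t ∈ ts, ∃ j : Fin n, t = g' (X j) := by
    intro t ht
    rw [hts, List.mem_map] at ht
    obtain ⟨q, hq, rfl⟩ := ht
    rw [List.mem_ofFn] at hq
    obtain ⟨j, rfl⟩ := hq
    exact ⟨j, by rw [pow_one]; rfl⟩
  have hmem' : ∀ j : Fin n, g' (X j) ∈ Ideal.ofList ts := by
    intro j
    apply Ideal.subset_span
    show g' (X j) ∈ ts
    rw [hts, List.mem_map]
    exact ⟨X j ^ 1, by rw [List.mem_ofFn]; exact ⟨j, rfl⟩, by rw [pow_one]; rfl⟩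
  have hst : ∀ t ∈ ts, s t = 0 := by
    intro t ht
    obtain ⟨j, rfl⟩ := hmem t ht
    rw [hsg']
    simp
  set J : Ideal B := Ideal.ofList ts with hJ
  set I : Ideal B := RingHom.ker s with hI
  have hJI : J ≤ I := by
    rw [hJ]
    apply Ideal.span_le.2
    intro t ht
    exact hst t ht
  -- F1
  have hF1 : ∀ p : MvPolynomial (Fin n) A, g' p - φ (constantCoeff p) ∈ J := by
    intro p
    induction p using MvPolynomial.induction_on with
    | C c => simp [hg'C]
    | add p q hp hq =>
      have : g' (p + q) - φ (constantCoeff (p + q)) =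
          (g' p - φ (constantCoeff p)) + (g' q - φ (constantCoeff q)) := by
        rw [map_add, map_add, map_add]; ring
      rw [this]
      exact J.add_mem hp hq
    | mul_X p i _ =>
      have : g' (p * X i) - φ (constantCoeff (p * X i)) = g' p * g' (X i) := by
        rw [map_mul, map_mul]; simp
      rw [this]
      exact J.mul_mem_left _ (hmem' i)
  -- F2
  have hF2 : I ≤ I * I ⊔ J := by
    set K : Ideal B := I * I ⊔ J with hK
    let π : B →ₐ[MvPolynomial (Fin n) A] (B ⧸ K) := Ideal.Quotient.mkₐ _ K
    let π' : B →ₐ[MvPolynomial (Fin n) A] (B ⧸ K) :=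
      { toRingHom := (Ideal.Quotient.mk K).comp (φ.comp s)
        commutes' := by
          intro p
          show Ideal.Quotient.mk K (φ (s (g' p))) = Ideal.Quotient.mk K (g' p)
          rw [hsg']
          symm
          exact Ideal.Quotient.eq.2 (le_sup_right (α := Ideal B) (hF1 p)) }
    have hnil : IsNilpotent (I.map (Ideal.Quotient.mk K)) := by
      refine ⟨2, ?_⟩
      rw [← Ideal.map_pow, Ideal.zero_eq_bot, Ideal.map_eq_bot_iff_le_ker, Ideal.mk_ker, pow_two]
      exact le_sup_left
    have hππ' : π = π' := by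
      apply Algebra.FormallyUnramified.ext (I := I.map (Ideal.Quotient.mk K)) hnil
      intro x
      rw [Ideal.Quotient.eq]
      show Ideal.Quotient.mk K x - Ideal.Quotient.mk K (φ (s x)) ∈ _
      rw [← map_sub]
      apply Ideal.mem_map_of_mem
      show s (x - φ (s x)) = 0
      rw [map_sub, hsφ, sub_self]
    intro b hb
    have h1 : π b = π' b := by rw [hππ']
    have h2 : π' b = 0 := by
      show Ideal.Quotient.mk K (φ (s b)) = 0
      rw [show s b = 0 from hb, map_zero, map_zero]
    rw [h2] at h1
    exact Ideal.Quotient.eq_zero_iff_mem.1 h1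
  -- finite generation of I
  have hIfg : I.FG := by
    haveI : Algebra.FinitePresentation A B := hfp
    let sA : B →ₐ[A] A :=
      { toRingHom := s
        commutes' := fun c => hsφ c }
    have hsurj : Function.Surjective sA := fun c => ⟨φ c, hsφ c⟩
    exact Algebra.FinitePresentation.ker_fG_of_surjective sA hsurj
  -- Nakayama
  have hN : Submodule.map J.mkQ I ≤ I • Submodule.map J.mkQ I := by
    rintro _ ⟨b, hb, rfl⟩
    have hb' := hF2 hb
    obtain ⟨y, hy, j, hj, rfl⟩ := Submodule.mem_sup.1 hb'
    have hj0 : J.mkQ j = 0 := by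
      rw [Submodule.mkQ_apply]; exact (Submodule.Quotient.mk_eq_zero _).2 hj
    rw [map_add, hj0, add_zero]
    refine Submodule.mul_induction_on hy ?_ ?_
    · intro x hx z hz
      have : J.mkQ (x * z) = x • J.mkQ z := by
        rw [← smul_eq_mul, map_smul]
      rw [this]
      exact Submodule.smul_mem_smul hx ⟨z, hz, rfl⟩
    · intro x z hx hz
      rw [map_add]
      exact Submodule.add_mem _ hx hz
  obtain ⟨r, hr1, hr2⟩ := Submodule.exists_sub_one_mem_and_smul_eq_zero_of_fg_of_le_smul I
    (Submodule.map J.mkQ I) (Submodule.FG.map _ hIfg) hN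
  refine ⟨r, ts, by simp [hts], ?_, hst, hreg, ?_⟩
  · have : s (r - 1) = 0 := hr1
    rw [map_sub, map_one, sub_eq_zero] at this
    exact this
  · intro b hb
    have := hr2 (J.mkQ b) ⟨b, hb, rfl⟩
    rw [← map_smul, Submodule.mkQ_apply, Submodule.Quotient.mk_eq_zero, smul_eq_mul] at this
    exact this

end Groth.Agent.Lead.SecRegA
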