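import Mathlib
import Groth.Agent.Lead.SecRegA

/-!
# Sections of smooth morphisms are regular closed immersions (scheme part)
-/

set_option autoImplicit false

namespace Groth.Agent.Lead.SecRegB

open AlgebraicGeometry CategoryTheory MvPolynomial

universe u

variable {X S : Scheme.{u}} (f : X ⟶ S) (σ : S ⟶ X)

theorem appLE_id_of_eq {U : S.Opens} (k : S ⟶ S) (hk : k = 𝟙 S) (h : U ≤ k ⁻¹ᵁ U) :
    k.appLE U U h = 𝟙 _ := by
  subst hk
  rw [Scheme.Hom.appLE]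
  simp
  exact S.presheaf.map_id _

/-- the local statement: given compatible affine charts with an étale coordinate map -/
theorem local_reg [IsClosedImmersion σ] (hσ : σ ≫ f = 𝟙 S) {U : S.Opens} (hU : IsAffineOpen U)
    (V : X.affineOpens) (e : V.1 ≤ f ⁻¹ᵁ U) (e' : U ≤ σ ⁻¹ᵁ V.1) (n : ℕ)
    (g : MvPolynomial (Fin n) Γ(S, U) →+* Γ(X, V.1))
    (hg : g.comp C = (f.appLE U V.1 e).hom) (hge : g.Etale)
    (hfp : (f.appLE U V.1 e).hom.FinitePresentation)
    (z : S) (hz : z ∈ U) :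
    ∃ h : Γ(X, V.1), σ z ∈ X.basicOpen h ∧ ∃ ts : List Γ(X, V.1), ts.length = n ∧
      RingTheory.Sequence.IsRegular Γ(X, X.basicOpen h)
        (ts.map (algebraMap Γ(X, V.1) Γ(X, X.basicOpen h))) ∧
      σ.ker.ideal (X.affineBasicOpen h) =
        Ideal.ofList (ts.map (algebraMap Γ(X, V.1) Γ(X, X.basicOpen h))) := by
  set s : Γ(X, V.1) →+* Γ(S, U) := (σ.appLE V.1 U e').hom with hs
  set φ : Γ(S, U) →+* Γ(X, V.1) := (f.appLE U V.1 e).hom with hφ
  have hsφ : s.comp φ = RingHom.id _ := by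
    rw [hs, hφ, ← CommRingCat.hom_comp, Scheme.Hom.appLE_comp_appLE, appLE_id_of_eq _ hσ]
    rfl
  obtain ⟨h, ts, hlen, hsh, hst, hreg, hker⟩ := SecRegA.core n φ g hg hge hfp s hsφ
  -- σ⁻¹ V = U
  have hEq : σ ⁻¹ᵁ V.1 = U := by
    apply le_antisymm _ e'
    intro w hw
    have h1 : σ w ∈ f ⁻¹ᵁ U := e hw
    have h2 : f (σ w) = w := by
      have := congrArg (fun k : S ⟶ S => k w) hσ
      simpa using this
    have h3 : f (σ w) ∈ U := h1
    rwa [h2] at h3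
  -- kernel of s is σ.ker.ideal V
  have hkers : ∀ b : Γ(X, V.1), s b = 0 ↔ b ∈ σ.ker.ideal V := by
    intro b
    rw [Scheme.Hom.ker_apply, RingHom.mem_ker]
    have : s b = (S.presheaf.map (homOfLE e').op).hom ((σ.app V.1).hom b) := rfl
    rw [this]
    have hiso : IsIso (S.presheaf.map (homOfLE e').op) := by
      have : IsIso (homOfLE e') := by
        refine ⟨homOfLE hEq.le, Subsingleton.elim _ _, Subsingleton.elim _ _⟩
      infer_instance
    have hinj : Function.Injective (S.presheaf.map (homOfLE e').op).hom :=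
      (ConcreteCategory.bijective_of_isIso (S.presheaf.map (homOfLE e').op)).1
    constructor
    · intro h0
      apply hinj
      rw [h0, map_zero]
    · intro h0
      rw [h0, map_zero]
  -- z in the basic open
  have hzh : σ z ∈ X.basicOpen h := by
    show z ∈ σ ⁻¹ᵁ (X.basicOpen h)
    rw [Scheme.preimage_basicOpen]
    have h1 : S.basicOpen (s h) = U := by
      rw [hsh]
      exact Scheme.basicOpen_of_isUnit _ isUnit_one
    have h2 : S.basicOpen (s h) ≤ S.basicOpen ((σ.app V.1).hom h) := by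
      have : s h = (S.presheaf.map (homOfLE e').op).hom ((σ.app V.1).hom h) := rfl
      rw [this, Scheme.basicOpen_res]
      exact inf_le_right
    exact h2 (by rw [h1]; exact hz)
  refine ⟨h, hzh, ts, hlen, ?_⟩
  haveI := V.2.isLocalization_basicOpen h
  have hmapI : σ.ker.ideal (X.affineBasicOpen h) =
      Ideal.ofList (ts.map (algebraMap Γ(X, V.1) Γ(X, X.basicOpen h))) := by
    rw [← σ.ker.map_ideal_basicOpen V h, ← Ideal.map_ofList]
    show Ideal.map (algebraMap Γ(X, V.1) Γ(X, X.basicOpen h)) _ =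
      Ideal.map (algebraMap Γ(X, V.1) Γ(X, X.basicOpen h)) _
    apply le_antisymm
    · rw [Ideal.map_le_iff_le_comap]
      intro b hb
      have hb' : s b = 0 := (hkers b).2 hb
      have h1 := hker b hb'
      have h2 : algebraMap Γ(X, V.1) Γ(X, X.basicOpen h) (h * b) ∈
          Ideal.map (algebraMap Γ(X, V.1) Γ(X, X.basicOpen h)) (Ideal.ofList ts) :=
        Ideal.mem_map_of_mem _ h1
      rw [map_mul] at h2
      have hu : IsUnit (algebraMap Γ(X, V.1) Γ(X, X.basicOpen h) h) :=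
        IsLocalization.Away.algebraMap_isUnit h
      exact (Ideal.unit_mul_mem_iff_mem _ hu).1 h2
    · apply Ideal.map_mono
      apply Ideal.span_le.2
      intro t ht
      exact (hkers t).1 (hst t ht)
  refine ⟨⟨hreg.of_isLocalization Γ(X, X.basicOpen h) (Submonoid.powers h), ?_⟩, hmapI⟩
  rw [smul_eq_mul, Ideal.mul_top, ← hmapI]
  intro htop
  have h1 : (1 : Γ(X, (X.affineBasicOpen h).1)) ∈ σ.ker.ideal (X.affineBasicOpen h) := by
    rw [← htop]; trivial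
  rw [Scheme.Hom.ker_apply] at h1
  have h1' : (σ.app (X.affineBasicOpen h).1).hom 1 = 0 := h1
  rw [map_one] at h1'
  have hne : Nontrivial Γ(S, σ ⁻¹ᵁ (X.affineBasicOpen h).1) := by
    have : Nonempty ↥(σ ⁻¹ᵁ (X.affineBasicOpen h).1) := ⟨⟨z, hzh⟩⟩
    infer_instance
  exact one_ne_zero h1'


theorem section_apply (hσ : σ ≫ f = 𝟙 S) (w : S) : f (σ w) = w := by
  have := congrArg (fun k : S ⟶ S => k w) hσ
  simpa using this

/-- shrinking the charts so that the section maps the base chart into the source chart -/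
theorem glue (P : ∀ {R T : Type u} [CommRing R] [CommRing T], (R →+* T) → Prop)
    (hP : RingHom.LocalizationPreserves @P) (hσ : σ ≫ f = 𝟙 S) (z : S)
    {U₀ : S.Opens} (hU₀ : IsAffineOpen U₀) {V₀ : X.Opens} (hV₀ : IsAffineOpen V₀)
    (hx : σ z ∈ V₀) (e₀ : V₀ ≤ f ⁻¹ᵁ U₀) (hφ₀ : P (f.appLE U₀ V₀ e₀).hom) :
    ∃ (U₁ : S.Opens) (_ : IsAffineOpen U₁) (V₁ : X.affineOpens) (e₁ : V₁.1 ≤ f ⁻¹ᵁ U₁)
      (_ : U₁ ≤ σ ⁻¹ᵁ V₁.1), z ∈ U₁ ∧ P (f.appLE U₁ V₁.1 e₁).hom := by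
  have hz0 : z ∈ U₀ := by
    have h1 : f (σ z) ∈ U₀ := e₀ hx
    rwa [section_apply f σ hσ] at h1
  obtain ⟨a, ha1, ha2⟩ := hU₀.exists_basicOpen_le (V := σ ⁻¹ᵁ V₀) ⟨z, hx⟩ hz0
  have e1 : X.basicOpen (f.appLE U₀ V₀ e₀ a) ≤ f ⁻¹ᵁ (S.basicOpen a) := by
    rw [Scheme.basicOpen_appLE]; exact inf_le_right
  have e1' : S.basicOpen a ≤ σ ⁻¹ᵁ (X.basicOpen (f.appLE U₀ V₀ e₀ a)) := by
    intro w hw
    show σ w ∈ X.basicOpen (f.appLE U₀ V₀ e₀ a)
    rw [Scheme.basicOpen_appLE]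
    refine ⟨ha1 hw, ?_⟩
    show f (σ w) ∈ S.basicOpen a
    rw [section_apply f σ hσ]
    exact hw
  refine ⟨S.basicOpen a, hU₀.basicOpen a, ⟨X.basicOpen (f.appLE U₀ V₀ e₀ a), hV₀.basicOpen _⟩,
    e1, e1', ha2, ?_⟩
  haveI := hU₀.isLocalization_basicOpen a
  haveI := hV₀.isLocalization_basicOpen (f.appLE U₀ V₀ e₀ a)
  have key := hU₀.appLE_eq_away_map f hV₀ e₀ a
  have h2 := hP.away (f.appLE U₀ V₀ e₀).hom a Γ(S, S.basicOpen a)
    Γ(X, X.basicOpen (f.appLE U₀ V₀ e₀ a)) hφ₀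
  show P (f.appLE (S.basicOpen a) (X.basicOpen (f.appLE U₀ V₀ e₀ a)) e1).hom
  rw [key]
  exact h2

theorem nzd_of_isSMulRegular {R : Type*} [CommRing R] {r : R} (h : IsSMulRegular R r) :
    r ∈ nonZeroDivisors R := by
  rw [mem_nonZeroDivisors_iff_right]
  intro x hx
  apply h
  simp only [smul_eq_mul, mul_zero]
  rw [mul_comm]; exact hx

/-- combined local result -/
theorem exists_chart [IsClosedImmersion σ] (hσ : σ ≫ f = 𝟙 S) (z : S) (n : ℕ)
    {U₀ : S.Opens} (hU₀ : IsAffineOpen U₀) {V₀ : X.Opens} (hV₀ : IsAffineOpen V₀)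
    (hx : σ z ∈ V₀) (e₀ : V₀ ≤ f ⁻¹ᵁ U₀)
    (hφ₀ : (f.appLE U₀ V₀ e₀).hom.IsStandardSmoothOfRelativeDimension n) :
    ∃ (W : X.affineOpens), σ z ∈ W.1 ∧ ∃ rs : List Γ(X, W.1), rs.length = n ∧
      RingTheory.Sequence.IsRegular Γ(X, W.1) rs ∧ σ.ker.ideal W = Ideal.ofList rs := by
  obtain ⟨U₁, hU₁, V₁, e₁, e₁', hz, hss₁⟩ := glue f σ
    (fun φ => φ.IsStandardSmoothOfRelativeDimension n)
    (RingHom.isStandardSmoothOfRelativeDimension_localizationPreserves n) hσ z hU₀ hV₀ hx e₀ hφ₀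
  obtain ⟨g, hg, hge⟩ := hss₁.exists_etale_mvPolynomial
  have hfp := (hss₁.isStandardSmooth).smooth.finitePresentation
  obtain ⟨h, hzh, ts, hlen, hreg, hI⟩ := local_reg f σ hσ hU₁ V₁ e₁ e₁' n g hg hge hfp z hz
  exact ⟨X.affineBasicOpen h, hzh, _, (List.length_map _).trans hlen, hreg, hI⟩

end Groth.Agent.Lead.SecRegB
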