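import Mathlib
import Groth.Agent.Lead.SecRegB

/-!
# Étale charts to affine space adapted to a section of a morphism smooth along the section
-/

set_option autoImplicit false
universe u
open CategoryTheory CategoryTheory.Limits AlgebraicGeometry TopologicalSpace MvPolynomial

namespace Groth.Agent.Lead.EtChartA

set_option backward.isDefEq.respectTransparency.types false in
instance smooth_affineSpace (n : Type u) [Finite n] (S : Scheme.{u}) : Smooth (𝔸(n; S) ↘ S) :=
  MorphismProperty.pullback_fst _ _ <| by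
  have := isIso_of_isTerminal specULiftZIsTerminal.{u} terminalIsTerminal (terminal.from _)
  rw [← terminal.comp_from (Spec.map (CommRingCat.ofHom C)),
    MorphismProperty.cancel_right_of_respectsIso (P := @Smooth),
    HasRingHomProperty.Spec_iff (P := @Smooth), RingHom.Smooth]
  have hsm : Algebra.Smooth (ULift.{u} ℤ) (MvPolynomial n (ULift.{u} ℤ)) :=
    ⟨inferInstance, inferInstance⟩
  convert! hsm
  exact Algebra.algebra_ext _ _ fun _ ↦ rfl

/-- for affine source and base, étaleness of a morphism to affine space is étaleness of the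
polynomial evaluation. -/
theorem etale_homOfVector_iff {n : Type u} {S X : Scheme.{u}} [IsAffine S] [IsAffine X]
    (g : X ⟶ S) (v : n → Γ(X, ⊤)) :
    Etale (AffineSpace.homOfVector g v) ↔ (eval₂Hom g.appTop.hom v).Etale := by
  rw [← MorphismProperty.cancel_right_of_respectsIso (P := @Etale) _
    (AffineSpace.isoOfIsAffine n S).hom]
  rw [HasRingHomProperty.iff_of_isAffine (P := @Etale)]
  have hR : RingHom.RespectsIso
      (fun {R T : Type u} [CommRing R] [CommRing T] (f : R →+* T) => f.Etale) :=
    RingHom.Etale.respectsIso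
  have key : (AffineSpace.homOfVector g v ≫ (AffineSpace.isoOfIsAffine n S).hom).appTop =
      (Scheme.ΓSpecIso _).hom ≫ CommRingCat.ofHom (eval₂Hom g.appTop.hom v) := by
    rw [Scheme.Hom.comp_appTop, AffineSpace.isoOfIsAffine_hom_appTop, Category.assoc]
    congr 1
    ext : 1
    apply MvPolynomial.ringHom_ext'
    · rw [CommRingCat.hom_comp, CommRingCat.hom_ofHom, CommRingCat.hom_ofHom, RingHom.comp_assoc,
        eval₂Hom_comp_C, eval₂Hom_comp_C, ← CommRingCat.hom_comp, ← Scheme.Hom.comp_appTop,
        AffineSpace.homOfVector_over]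
    · intro i
      rw [CommRingCat.hom_comp, CommRingCat.hom_ofHom, CommRingCat.hom_ofHom, RingHom.comp_apply,
        coe_eval₂Hom, coe_eval₂Hom, eval₂_X, eval₂_X]
      exact AffineSpace.homOfVector_appTop_coord g v i
  rw [key, CommRingCat.hom_comp, hR.cancel_left_isIso]
  rfl

/-- a chart étale over affine space puts the point in the smooth locus. -/
theorem mem_smoothLocus_of_chart {X Y : Scheme.{u}} (f : X ⟶ Y) [LocallyOfFinitePresentation f]
    (i : Y ⟶ X) (y : Y) (U : Y.Opens) (V : X.Opens) (hy : y ∈ U) (hUV : U ≤ i ⁻¹ᵁ V)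
    (hVU : V ≤ f ⁻¹ᵁ U) (n : Type u) [Finite n] (v : n → Γ(V, ⊤))
    (h : Etale (AffineSpace.homOfVector (f.resLE U V hVU) v)) : i y ∈ f.smoothLocus := by
  have hsm : Smooth (f.resLE U V hVU) := by
    rw [← AffineSpace.homOfVector_over (f.resLE U V hVU) v]
    infer_instance
  haveI : Smooth (V.ι ≫ f) := by
    rw [← Scheme.Hom.resLE_comp_ι f hVU]
    infer_instance
  have h1 := Scheme.Hom.preimage_smoothLocus_eq V.ι f
  rw [Scheme.Hom.smoothLocus_eq_top (V.ι ≫ f)] at h1
  have h2 : (⟨i y, hUV hy⟩ : ↥V) ∈ V.ι ⁻¹ᵁ f.smoothLocus := by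
    rw [h1]; trivial
  exact h2

/-- algebra: a standard smooth map with a retraction admits étale coordinates vanishing under the
retraction. -/
theorem exists_coords {A B : Type u} [CommRing A] [CommRing B] (φ : A →+* B)
    (hφ : φ.IsStandardSmooth) (s : B →+* A) (hs : s.comp φ = RingHom.id A) :
    ∃ (n : ℕ) (g : MvPolynomial (Fin n) A →+* B), g.comp C = φ ∧ g.Etale ∧
      ∀ j, s (g (X j)) = 0 := by
  obtain ⟨n, g, hgC, hge⟩ := RingHom.IsStandardSmooth.exists_etale_mvPolynomial hφ
  have hsφ : ∀ c, s (φ c) = c := fun c => RingHom.congr_fun hs c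
  have hgC' : ∀ c, g (C c) = φ c := fun c => RingHom.congr_fun hgC c
  set a : Fin n → A := fun j => s (g (X j)) with ha
  have hτ : Function.Bijective (SecRegA.tr n a) := SecRegA.tr_bijective n a
  refine ⟨n, g.comp (SecRegA.tr n a).toRingHom, ?_, ?_, ?_⟩
  · ext c
    simp [SecRegA.tr, hgC']
  · exact RingHom.Etale.stableUnderComposition _ _ (RingHom.Etale.of_bijective hτ) hge
  · intro j
    simp [SecRegA.tr, hgC', hsφ, ha]

end Groth.Agent.Lead.EtChartA
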