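import Groth.Prelude.Def_Found
import Mathlib.RingTheory.Spectrum.Prime.RingHom
import Mathlib.RingTheory.Localization.Ideal
import Mathlib.Order.Cover
import Mathlib.Tactic

set_option autoImplicit false
universe u

namespace Groth.Agent.Lead.Cat

/-- The order-theoretic catenary condition. -/
def OrdCatenary (P : Type u) [PartialOrder P] : Prop :=
  (∀ p q : P, p ≤ q → ∃ n : ℕ, ∀ s : LTSeries P, s.head = p → s.last = q → s.length ≤ n) ∧
  ∀ s t : LTSeries P, s.head = t.head → s.last = t.last →
    (∀ i : Fin s.length, s (Fin.castSucc i) ⋖ s (Fin.succ i)) →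
    (∀ i : Fin t.length, t (Fin.castSucc i) ⋖ t (Fin.succ i)) →
    s.length = t.length

theorem isCatenary_iff (R : Type u) [CommRing R] :
    CAlg.IsCatenary R ↔ OrdCatenary (PrimeSpectrum R) := Iff.rfl

theorem OrdCatenary.of_embedding {P Q : Type u} [PartialOrder P] [PartialOrder Q] (e : P ↪o Q)
    (he : (Set.range e).OrdConnected) (hQ : OrdCatenary Q) : OrdCatenary P := by
  refine ⟨fun p q hpq => ?_, fun s t hh hl hs ht => ?_⟩
  · obtain ⟨n, hn⟩ := hQ.1 (e p) (e q) (e.monotone hpq)
    refine ⟨n, fun s hs hl => ?_⟩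
    have := hn (s.map e e.strictMono) (by simp [hs]) (by simp [hl])
    simpa using this
  · have := hQ.2 (s.map e e.strictMono) (t.map e e.strictMono) (by simp [hh]) (by simp [hl])
      (fun i => (hs i).image e he) (fun i => (ht i).image e he)
    simpa using this

/-- transfer along order isomorphisms -/
theorem OrdCatenary.of_orderIso {P Q : Type u} [PartialOrder P] [PartialOrder Q] (e : P ≃o Q)
    (hQ : OrdCatenary Q) : OrdCatenary P :=
  hQ.of_embedding e.toOrderEmbedding (by
    have : Set.range e.toOrderEmbedding = Set.univ := e.surjective.range_eq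
    rw [this]; exact Set.ordConnected_univ)

theorem OrdCatenary.subtype {Q : Type u} [PartialOrder Q] (s : Set Q) (hs : s.OrdConnected)
    (hQ : OrdCatenary Q) : OrdCatenary s :=
  hQ.of_embedding (OrderEmbedding.subtype (· ∈ s)) (by
    have : Set.range (OrderEmbedding.subtype (· ∈ s)) = s := Subtype.range_coe
    rw [this]; exact hs)

theorem isCatenary_quotient (A : Type u) [CommRing A] (I : Ideal A)
    (hA : CAlg.IsCatenary A) : CAlg.IsCatenary (A ⧸ I) := by
  rw [isCatenary_iff] at hA ⊢
  refine OrdCatenary.of_orderIso (Ideal.primeSpectrumQuotientOrderIsoZeroLocus I) ?_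
  refine hA.subtype _ ?_
  refine (IsUpperSet.ordConnected ?_)
  intro p q hpq hp
  exact le_trans (show (I : Set A) ⊆ p.asIdeal from hp) hpq

theorem isCatenary_of_isLocalization (A : Type u) [CommRing A] (S : Submonoid A)
    (B : Type u) [CommRing B] [Algebra A B] [IsLocalization S B]
    (hA : CAlg.IsCatenary A) : CAlg.IsCatenary B := by
  rw [isCatenary_iff] at hA ⊢
  refine OrdCatenary.of_orderIso (IsLocalization.primeSpectrumOrderIso S B) ?_
  refine hA.subtype _ ?_
  refine (IsLowerSet.ordConnected ?_)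
  intro p q hpq hp
  exact Set.disjoint_of_subset_right (show (q.asIdeal : Set A) ⊆ p.asIdeal from hpq) hp

end Groth.Agent.Lead.Cat

namespace Groth.Agent.Lead.Cat

/-- lift a series into a subtype -/
def liftSeries {Q : Type u} [PartialOrder Q] (U : Set Q) (s : LTSeries Q) (h : ∀ i, s i ∈ U) :
    LTSeries U where
  length := s.length
  toFun i := ⟨s i, h i⟩
  step i := s.step i

theorem OrdCatenary.of_upperSets {Q : Type u} [PartialOrder Q]
    (H : ∀ x : Q, ∃ U : Set Q, IsUpperSet U ∧ x ∈ U ∧ OrdCatenary U) : OrdCatenary Q := by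
  have mem : ∀ (U : Set Q), IsUpperSet U → ∀ s : LTSeries Q, s.head ∈ U → ∀ i, s i ∈ U := by
    intro U hU s hs i
    exact hU (LTSeries.head_le s i) hs
  refine ⟨fun p q hpq => ?_, fun s t hh hl hs ht => ?_⟩
  · obtain ⟨U, hU, hpU, hcat⟩ := H p
    have hqU : q ∈ U := hU hpq hpU
    obtain ⟨n, hn⟩ := hcat.1 ⟨p, hpU⟩ ⟨q, hqU⟩ hpq
    refine ⟨n, fun s hs hl => ?_⟩
    have hsU := mem U hU s (hs ▸ hpU)
    exact hn (liftSeries U s hsU) (Subtype.ext hs) (Subtype.ext hl)
  · obtain ⟨U, hU, hpU, hcat⟩ := H s.head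
    have hsU := mem U hU s hpU
    have htU := mem U hU t (hh ▸ hpU)
    have hconn : (Set.range (OrderEmbedding.subtype (· ∈ U))).OrdConnected := by
      have : Set.range (OrderEmbedding.subtype (· ∈ U)) = U := Subtype.range_coe
      rw [this]; exact hU.ordConnected
    refine hcat.2 (liftSeries U s hsU) (liftSeries U t htU) (Subtype.ext hh) (Subtype.ext hl)
      (fun i => ?_) (fun i => ?_)
    · exact (Set.OrdConnected.apply_covBy_apply_iff (OrderEmbedding.subtype (· ∈ U)) hconn).mp (hs i)
    · exact (Set.OrdConnected.apply_covBy_apply_iff (OrderEmbedding.subtype (· ∈ U)) hconn).mp (ht i)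

theorem isCatenary_iff_forall_quotient_minimalPrimes (R : Type u) [CommRing R] :
    CAlg.IsCatenary R ↔ ∀ p ∈ minimalPrimes R, CAlg.IsCatenary (R ⧸ p) := by
  constructor
  · intro h p _
    exact isCatenary_quotient R p h
  · intro h
    rw [isCatenary_iff]
    apply OrdCatenary.of_upperSets
    intro x
    obtain ⟨p, hp, hpx⟩ := Ideal.exists_minimalPrimes_le (bot_le : (⊥ : Ideal R) ≤ x.asIdeal)
    refine ⟨PrimeSpectrum.zeroLocus (p : Set R), ?_, hpx, ?_⟩
    · intro a b hab ha
      exact le_trans (show (p : Set R) ⊆ a.asIdeal from ha) hab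
    · have := (isCatenary_iff _).mp (h p hp)
      exact OrdCatenary.of_orderIso (Ideal.primeSpectrumQuotientOrderIsoZeroLocus p).symm this

end Groth.Agent.Lead.Cat

namespace Groth.Agent.Lead.Cat

theorem OrdCatenary.of_lowerSets {Q : Type u} [PartialOrder Q]
    (H : ∀ x : Q, ∃ U : Set Q, IsLowerSet U ∧ x ∈ U ∧ OrdCatenary U) : OrdCatenary Q := by
  have mem : ∀ (U : Set Q), IsLowerSet U → ∀ s : LTSeries Q, s.last ∈ U → ∀ i, s i ∈ U := by
    intro U hU s hs i
    exact hU (s.monotone (Fin.le_last i)) hs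
  refine ⟨fun p q hpq => ?_, fun s t hh hl hs ht => ?_⟩
  · obtain ⟨U, hU, hqU, hcat⟩ := H q
    have hpU : p ∈ U := hU hpq hqU
    obtain ⟨n, hn⟩ := hcat.1 ⟨p, hpU⟩ ⟨q, hqU⟩ hpq
    refine ⟨n, fun s hs hl => ?_⟩
    have hsU := mem U hU s (hl ▸ hqU)
    exact hn (liftSeries U s hsU) (Subtype.ext hs) (Subtype.ext hl)
  · obtain ⟨U, hU, hqU, hcat⟩ := H s.last
    have hsU := mem U hU s hqU
    have htU := mem U hU t (hl ▸ hqU)
    have hconn : (Set.range (OrderEmbedding.subtype (· ∈ U))).OrdConnected := by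
      have : Set.range (OrderEmbedding.subtype (· ∈ U)) = U := Subtype.range_coe
      rw [this]; exact hU.ordConnected
    refine hcat.2 (liftSeries U s hsU) (liftSeries U t htU) (Subtype.ext hh) (Subtype.ext hl)
      (fun i => ?_) (fun i => ?_)
    · exact (Set.OrdConnected.apply_covBy_apply_iff (OrderEmbedding.subtype (· ∈ U)) hconn).mp (hs i)
    · exact (Set.OrdConnected.apply_covBy_apply_iff (OrderEmbedding.subtype (· ∈ U)) hconn).mp (ht i)

theorem isCatenary_iff_localization_maximal (R : Type u) [CommRing R] :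
    CAlg.IsCatenary R ↔ ∀ (m : Ideal R) [m.IsMaximal], CAlg.IsCatenary (Localization.AtPrime m) := by
  constructor
  · intro h m _
    exact isCatenary_of_isLocalization R m.primeCompl _ h
  · intro h
    rw [isCatenary_iff]
    apply OrdCatenary.of_lowerSets
    intro x
    obtain ⟨m, hm, hxm⟩ := Ideal.exists_le_maximal x.asIdeal x.2.ne_top
    refine ⟨Set.Iic (⟨m, hm.isPrime⟩ : PrimeSpectrum R), isLowerSet_Iic _, hxm, ?_⟩
    have := (isCatenary_iff _).mp (h m)
    exact OrdCatenary.of_orderIso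
      (IsLocalization.AtPrime.primeSpectrumOrderIso (Localization.AtPrime m) m).symm this

end Groth.Agent.Lead.Cat
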