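import Mathlib

set_option autoImplicit false
open CategoryTheory CategoryTheory.Limits AlgebraicGeometry Opposite
universe u

namespace Groth.Agent.Lead.LimExists

section sheaf

variable {J : Type u} [SmallCategory J] (E : J ⥤ Scheme.{u})

lemma cones_map_app {T V : Scheme.{u}} (f : V ⟶ T) (c : E.cones.obj (op T)) (j : J) :
    (E.cones.map f.op c).app j = f ≫ c.app j := by
  simp [Functor.cones]

/-- The presheaf of cones over a diagram of schemes is a Zariski sheaf. -/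
lemma isSheaf_cones : Presieve.IsSheaf Scheme.zariskiTopology E.cones := by
  intro T S hS x hx
  have hrep : ∀ j, Presieve.IsSheaf Scheme.zariskiTopology (yoneda.obj (E.obj j)) := fun j =>
    GrothendieckTopology.Subcanonical.isSheaf_of_isRepresentable _
  let xj : ∀ j, Presieve.FamilyOfElements (yoneda.obj (E.obj j)) S.arrows :=
    fun j V f hf => (x f hf).app j
  have hxj : ∀ j, (xj j).Compatible := by
    intro j V₁ V₂ W g₁ g₂ f₁ f₂ h₁ h₂ hcomm
    have := hx g₁ g₂ h₁ h₂ hcomm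
    have h2 := congr(($this).app j)
    rw [cones_map_app, cones_map_app] at h2
    exact h2
  have hex := fun j => hrep j S hS (xj j) (hxj j)
  choose y hy huniq using hex
  have hy' : ∀ j (V : Scheme.{u}) (f : V ⟶ T) (hf : S.arrows f), f ≫ y j = (x f hf).app j := by
    intro j V f hf
    exact hy j f hf
  have hnat : ∀ {j j' : J} (φ : j ⟶ j'), y j ≫ E.map φ = y j' := by
    intro j j' φ
    apply huniq j'
    intro V f hf
    change f ≫ y j ≫ E.map φ = (x f hf).app j'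
    rw [← Category.assoc, hy' j V f hf]
    have := (x f hf).naturality φ
    simp at this
    exact this.symm
  refine ⟨{ app := y, naturality := fun j j' φ => by simp [hnat φ] }, ?_, ?_⟩
  · intro V f hf
    refine NatTrans.ext (funext fun j => ?_)
    rw [cones_map_app]
    exact hy' j V f hf
  · intro π' hπ'
    refine NatTrans.ext (funext fun j => ?_)
    apply huniq j
    intro V f hf
    have := hπ' f hf
    have h2 := congr(($this).app j)
    rw [cones_map_app] at h2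
    exact h2

end sheaf

lemma hasLimit_of_forall_isAffine {K : Type u} [SmallCategory K] (E : K ⥤ Scheme.{u})
    [∀ k, IsAffine (E.obj k)] : HasLimit E := by
  let e : E ≅ E ⋙ Scheme.Γ.rightOp ⋙ Scheme.Spec :=
    NatIso.ofComponents (fun k => (E.obj k).isoSpec)
      (fun f => (Scheme.isoSpec_hom_naturality (E.map f)).symm)
  have : HasLimit (E ⋙ Scheme.Γ.rightOp ⋙ Scheme.Spec) := by
    have h1 : HasLimit (E ⋙ Scheme.Γ.rightOp) := inferInstance
    exact ⟨⟨⟨Scheme.Spec.mapCone (limit.cone (E ⋙ Scheme.Γ.rightOp)),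
      isLimitOfPreserves Scheme.Spec (limit.isLimit _)⟩⟩⟩
  exact hasLimit_of_iso e.symm

section main

variable {I : Type u} [SmallCategory I] [IsCofiltered I] (D : I ⥤ Scheme.{u})
  [∀ {i j : I} (f : i ⟶ j), IsAffineHom (D.map f)] (i₀ : I)

/-- The restriction of the diagram to `Over i₀`. -/
abbrev DJ : Over i₀ ⥤ Scheme.{u} := Over.forget i₀ ⋙ D

/-- The terminal object of `Over i₀`. -/
abbrev star : Over i₀ := Over.mk (𝟙 i₀)

/-- The sheaf of cones. -/
noncomputable abbrev F : Sheaf Scheme.zariskiTopology (Type u) :=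
  ⟨(DJ D i₀).cones, (isSheaf_iff_isSheaf_of_type _ _).mpr (isSheaf_cones _)⟩

instance (U : (D.obj i₀).affineOpens) (j : Over i₀) :
    IsAffine ((opensDiagram D i₀ U.1).obj j) :=
  U.2.preimage (D.map j.hom)

instance (U : (D.obj i₀).affineOpens) : HasLimit (opensDiagram D i₀ U.1) :=
  hasLimit_of_forall_isAffine _

/-- The local pieces. -/
noncomputable abbrev L (U : (D.obj i₀).affineOpens) : Scheme.{u} := limit (opensDiagram D i₀ U.1)

/-- The canonical cone from the local piece. -/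
noncomputable def cU (U : (D.obj i₀).affineOpens) : (DJ D i₀).cones.obj (op (L D i₀ U)) :=
  (limit.cone (opensDiagram D i₀ U.1)).π ≫ opensDiagramι D i₀ U.1

noncomputable def fU (U : (D.obj i₀).affineOpens) : yoneda.obj (L D i₀ U) ⟶ (F D i₀).1 :=
  yonedaEquiv.symm (cU D i₀ U)

/-- Components of a cone, with explicit types. -/
def sApp {T : Scheme.{u}} (s : (DJ D i₀).cones.obj (op T)) (j : Over i₀) : T ⟶ D.obj j.left :=
  s.app j

/-- The component of a cone at `i₀`. -/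
def s0 {T : Scheme.{u}} (s : (DJ D i₀).cones.obj (op T)) : T ⟶ D.obj i₀ :=
  s.app (star i₀)

lemma sApp_naturality {T : Scheme.{u}} (s : (DJ D i₀).cones.obj (op T)) {j k : Over i₀}
    (f : j ⟶ k) : sApp D i₀ s j ≫ D.map f.left = sApp D i₀ s k := by
  have := s.naturality f
  simp at this
  exact this.symm

lemma sApp_w {T : Scheme.{u}} (s : (DJ D i₀).cones.obj (op T)) (j : Over i₀) :
    sApp D i₀ s j ≫ D.map j.hom = s0 D i₀ s :=
  sApp_naturality D i₀ s (Over.homMk j.hom : j ⟶ star i₀)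

lemma cones_ext {T : Scheme.{u}} (s s' : (DJ D i₀).cones.obj (op T))
    (h : ∀ j, sApp D i₀ s j = sApp D i₀ s' j) : s = s' :=
  NatTrans.ext (funext h)

lemma sApp_map {T V : Scheme.{u}} (a : V ⟶ T) (s : (DJ D i₀).cones.obj (op T)) (j : Over i₀) :
    sApp D i₀ ((DJ D i₀).cones.map a.op s) j = a ≫ sApp D i₀ s j :=
  cones_map_app _ a s j

lemma sApp_fU (U : (D.obj i₀).affineOpens) {V : Scheme.{u}} (a : V ⟶ L D i₀ U) (j : Over i₀) :
    sApp D i₀ ((fU D i₀ U).app (op V) a) j =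
      a ≫ limit.π (opensDiagram D i₀ U.1) j ≫ (D.map j.hom ⁻¹ᵁ U.1).ι := by
  change sApp D i₀ ((DJ D i₀).cones.map a.op (cU D i₀ U)) j = _
  rw [sApp_map]
  rfl

set_option backward.isDefEq.respectTransparency false in
/-- The restriction of a cone to the open `U`. -/
noncomputable def opensConeJ {T : Scheme.{u}} (s : (DJ D i₀).cones.obj (op T))
    (U : (D.obj i₀).Opens) : Cone (opensDiagram D i₀ U) where
  pt := s0 D i₀ s ⁻¹ᵁ U
  π :=
  { app := fun j => (sApp D i₀ s j).resLE (D.map j.hom ⁻¹ᵁ U) (s0 D i₀ s ⁻¹ᵁ U)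
      (by rw [← Scheme.Hom.comp_preimage, sApp_w])
    naturality := by
      intro j k f
      simp only [Functor.const_obj_obj, Functor.const_obj_map, Category.id_comp,
        opensDiagram_map]
      rw [Scheme.Hom.resLE_comp_resLE]
      congr 1
      exact (sApp_naturality D i₀ s f).symm }

lemma sApp_yonedaEquiv_symm {T V : Scheme.{u}} (s : (DJ D i₀).cones.obj (op T)) (a : V ⟶ T)
    (j : Over i₀) :
    sApp D i₀ (((yonedaEquiv (F := (F D i₀).1)).symm s).app (op V) a) j = a ≫ sApp D i₀ s j := by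
  change sApp D i₀ ((DJ D i₀).cones.map a.op s) j = _
  exact sApp_map D i₀ a s j

/-- The lift of the restricted cone to the local piece. -/
noncomputable def liftU {T : Scheme.{u}} (s : (DJ D i₀).cones.obj (op T))
    (U : (D.obj i₀).affineOpens) : (s0 D i₀ s ⁻¹ᵁ U.1 : Scheme.{u}) ⟶ L D i₀ U :=
  limit.lift _ (opensConeJ D i₀ s U.1)

set_option backward.isDefEq.respectTransparency false in
lemma liftU_π {T : Scheme.{u}} (s : (DJ D i₀).cones.obj (op T)) (U : (D.obj i₀).affineOpens)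
    (j : Over i₀) :
    liftU D i₀ s U ≫ limit.π (opensDiagram D i₀ U.1) j ≫ (D.map j.hom ⁻¹ᵁ U.1).ι =
      (s0 D i₀ s ⁻¹ᵁ U.1).ι ≫ sApp D i₀ s j := by
  rw [liftU, limit.lift_π_assoc]
  simp [opensConeJ]

set_option backward.isDefEq.respectTransparency false in
lemma hf (U : (D.obj i₀).affineOpens) : IsOpenImmersion.presheaf (fU D i₀ U) := by
  apply MorphismProperty.relative.of_exists
  intro T g
  obtain ⟨s, rfl⟩ : ∃ s, g = yonedaEquiv.symm s :=
    ⟨yonedaEquiv g, (Equiv.symm_apply_apply _ _).symm⟩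
  refine ⟨(s0 D i₀ s ⁻¹ᵁ U.1 : Scheme.{u}), yoneda.map (liftU D i₀ s U),
    (s0 D i₀ s ⁻¹ᵁ U.1).ι, ?_, inferInstance⟩
  apply IsPullback.of_forall_isPullback_app
  rintro ⟨V⟩
  rw [Types.isPullback_iff]
  refine ⟨?_, ?_, ?_⟩
  · ext (x₁ : V ⟶ (s0 D i₀ s ⁻¹ᵁ U.1 : Scheme.{u}))
    apply cones_ext
    intro j
    change sApp D i₀ ((fU D i₀ U).app (op V) (x₁ ≫ liftU D i₀ s U)) j =
      sApp D i₀ (((yonedaEquiv (F := (F D i₀).1)).symm s).app (op V)
        (x₁ ≫ (s0 D i₀ s ⁻¹ᵁ U.1).ι)) j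
    rw [sApp_fU, sApp_yonedaEquiv_symm, Category.assoc, liftU_π, Category.assoc]
  · rintro (x₁ : V ⟶ (s0 D i₀ s ⁻¹ᵁ U.1 : Scheme.{u})) (y₁ : V ⟶ (s0 D i₀ s ⁻¹ᵁ U.1 : Scheme.{u}))
      ⟨-, h2⟩
    change x₁ ≫ (s0 D i₀ s ⁻¹ᵁ U.1).ι = y₁ ≫ (s0 D i₀ s ⁻¹ᵁ U.1).ι at h2
    exact (cancel_mono _).mp h2
  · rintro (x₂ : V ⟶ L D i₀ U) (x₃ : V ⟶ T) h
    have hj : ∀ j, x₂ ≫ limit.π (opensDiagram D i₀ U.1) j ≫ (D.map j.hom ⁻¹ᵁ U.1).ι =
        x₃ ≫ sApp D i₀ s j := by
      intro j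
      rw [← sApp_fU, ← sApp_yonedaEquiv_symm]
      exact congrArg (fun c => sApp D i₀ c j) h
    have hrange : Set.range x₃ ⊆ Set.range (s0 D i₀ s ⁻¹ᵁ U.1).ι := by
      rintro _ ⟨v, rfl⟩
      rw [Scheme.Opens.range_ι]
      change (x₃ ≫ s0 D i₀ s) v ∈ U.1
      have h0 := hj (star i₀)
      have h1 : x₃ ≫ s0 D i₀ s = x₃ ≫ sApp D i₀ s (star i₀) := rfl
      rw [h1, ← h0]
      obtain ⟨y, hy⟩ : ∃ y : ↥(D.map (star i₀).hom ⁻¹ᵁ U.1 : Scheme.{u}),
          y = (x₂ ≫ limit.π (opensDiagram D i₀ U.1) (star i₀)) v := ⟨_, rfl⟩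
      have h2 : (D.map (star i₀).hom ⁻¹ᵁ U.1).ι y ∈
          ((D.map (star i₀).hom ⁻¹ᵁ U.1 : (D.obj i₀).Opens) : Set (D.obj i₀)) := by
        rw [← Scheme.Opens.range_ι]; exact ⟨y, rfl⟩
      have h3 : (D.map (star i₀).hom ⁻¹ᵁ U.1).ι y ∈ U.1 := by simpa using h2
      rw [Scheme.Hom.comp_apply, Scheme.Hom.comp_apply, ← Scheme.Hom.comp_apply x₂, ← hy]
      exact h3
    refine ⟨IsOpenImmersion.lift (s0 D i₀ s ⁻¹ᵁ U.1).ι x₃ hrange, ?_, ?_⟩
    · change IsOpenImmersion.lift (s0 D i₀ s ⁻¹ᵁ U.1).ι x₃ hrange ≫ liftU D i₀ s U = x₂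
      apply limit.hom_ext
      intro j
      rw [← cancel_mono (D.map j.hom ⁻¹ᵁ U.1).ι, Category.assoc, Category.assoc, liftU_π,
        IsOpenImmersion.lift_fac_assoc, Category.assoc, hj j]
    · change IsOpenImmersion.lift (s0 D i₀ s ⁻¹ᵁ U.1).ι x₃ hrange ≫ (s0 D i₀ s ⁻¹ᵁ U.1).ι = x₃
      exact IsOpenImmersion.lift_fac _ _ _

lemma fU_liftU {T : Scheme.{u}} (s : (DJ D i₀).cones.obj (op T)) (U : (D.obj i₀).affineOpens) :
    (fU D i₀ U).app (op _) (liftU D i₀ s U) =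
      (DJ D i₀).cones.map (s0 D i₀ s ⁻¹ᵁ U.1).ι.op s := by
  apply cones_ext
  intro j
  rw [sApp_fU]
  exact (liftU_π D i₀ s U j).trans (sApp_map D i₀ _ s j).symm

lemma isOpenCover_preimage {T : Scheme.{u}} (s : (DJ D i₀).cones.obj (op T)) :
    TopologicalSpace.IsOpenCover (fun U : (D.obj i₀).affineOpens => s0 D i₀ s ⁻¹ᵁ U.1) := by
  apply TopologicalSpace.IsOpenCover.mk
  rw [eq_top_iff]
  intro x _
  have hx : s0 D i₀ s x ∈ ⨆ i : (D.obj i₀).affineOpens, (i : (D.obj i₀).Opens) := by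
    rw [iSup_affineOpens_eq_top]; trivial
  rw [TopologicalSpace.Opens.mem_iSup] at hx ⊢
  obtain ⟨U, hU⟩ := hx
  exact ⟨U, hU⟩

instance : Presheaf.IsLocallySurjective Scheme.zariskiTopology (Sigma.desc (fU D i₀)) where
  imageSieve_mem {T} s := by
    let 𝒰 : T.OpenCover := T.openCoverOfIsOpenCover _ (isOpenCover_preimage D i₀ s)
    refine Scheme.zariskiTopology.superset_covering ?_ 𝒰.mem_grothendieckTopology
    rw [Sieve.ofArrows, Sieve.generate_le_iff]
    rintro V f ⟨U⟩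
    refine ⟨(Sigma.ι (fun U => yoneda.obj (L D i₀ U)) U).app (op _) (liftU D i₀ s U), ?_⟩
    have h1 : (Sigma.ι (fun U => yoneda.obj (L D i₀ U)) U) ≫ Sigma.desc (fU D i₀) = fU D i₀ U :=
      Sigma.ι_desc _ _
    have h2 := congr(($h1).app (op _) (liftU D i₀ s U))
    simp only [NatTrans.comp_app] at h2
    exact h2.trans (fU_liftU D i₀ s U)

theorem isRepresentable_cones : (DJ D i₀).cones.IsRepresentable :=
  Scheme.LocalRepresentability.isRepresentable (F := F D i₀) (f := fU D i₀) (hf D i₀)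

theorem hasLimit_DJ : HasLimit (DJ D i₀) := by
  obtain ⟨Y, ⟨h⟩⟩ := (isRepresentable_cones D i₀).has_representation
  exact ⟨⟨⟨_, IsLimit.ofRepresentableBy h⟩⟩⟩

include i₀ in
theorem hasLimit : HasLimit D := by
  haveI := hasLimit_DJ D i₀
  haveI : (Over.forget i₀).Initial := Over.initial_forget i₀
  exact Functor.Initial.hasLimit_of_comp (Over.forget i₀)

end main

/-- Existence of limits of cofiltered diagrams of schemes with affine transition maps. -/
theorem main {I : Type u} [SmallCategory I] [IsCofiltered I] (D : I ⥤ Scheme.{u})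
    [∀ (i j : I) (f : i ⟶ j), IsAffineHom (D.map f)] :
    ∃ (c : Limits.Cone D) (_ : Limits.IsLimit c), ∀ i, IsAffineHom (c.π.app i) := by
  haveI : ∀ {i j : I} (f : i ⟶ j), IsAffineHom (D.map f) := fun f => inferInstance
  obtain ⟨i₀⟩ := IsCofiltered.nonempty (C := I)
  haveI := hasLimit D i₀
  exact ⟨limit.cone D, limit.isLimit D, fun i => isAffineHom_π_app D _ (limit.isLimit D) i⟩

end Groth.Agent.Lead.LimExists
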