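import Mathlib
import Groth.Agent.Lead.PerfLib5
import Groth.Agent.Lead.Hartogs

set_option autoImplicit false
universe u
open CategoryTheory CategoryTheory.Limits AlgebraicGeometry TopologicalSpace Opposite

namespace Groth.Agent.Lead.CohPull
open Groth.Agent.Helper4 Groth.Agent.Helper4.QcohEpi

variable {X : Scheme.{u}}

/-- a section of a biproduct is determined by its components -/
theorem biprod_section (F₁ F₂ : X.Modules) (U : X.Opens) (t : Γ(F₁ ⊞ F₂, U)) :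
    t = (biprod.inl : F₁ ⟶ F₁ ⊞ F₂).app U ((biprod.fst : F₁ ⊞ F₂ ⟶ F₁).app U t) +
      (biprod.inr : F₂ ⟶ F₁ ⊞ F₂).app U ((biprod.snd : F₁ ⊞ F₂ ⟶ F₂).app U t) := by
  have h : (𝟙 (F₁ ⊞ F₂) : F₁ ⊞ F₂ ⟶ F₁ ⊞ F₂) =
      biprod.fst ≫ biprod.inl + biprod.snd ≫ biprod.inr := biprod.total.symm
  have h2 := congrArg (fun φ : F₁ ⊞ F₂ ⟶ F₁ ⊞ F₂ => Scheme.Modules.Hom.app φ U t) h
  simp only [Scheme.Modules.Hom.add_app] at h2
  simpa using h2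

theorem isCoh_biprod {F₁ F₂ : X.Modules} (h₁ : Coh.IsCoh F₁) (h₂ : Coh.IsCoh F₂) :
    Coh.IsCoh (F₁ ⊞ F₂) := by
  haveI : F₁.IsQuasicoherent := h₁.1
  haveI : F₂.IsQuasicoherent := h₂.1
  haveI hq : (F₁ ⊞ F₂).IsQuasicoherent := QcohLimits.isQuasicoherent_biprod F₁ F₂
  refine ⟨hq, ?_⟩
  apply FTGlue.isFiniteType_of_finite_sections
  intro x
  obtain ⟨U, hU, hx⟩ := QcohLimits.exists_affine_nhd x
  refine ⟨U, hU, hx, ?_⟩
  haveI : Module.Finite Γ(X, U) Γ(F₁, U) := SecDict.finite_sections hU F₁ inferInstance h₁.2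
  haveI : Module.Finite Γ(X, U) Γ(F₂, U) := SecDict.finite_sections hU F₂ inferInstance h₂.2
  let f : (Γ(F₁, U) × Γ(F₂, U)) →ₗ[Γ(X, U)] Γ(F₁ ⊞ F₂, U) :=
    LinearMap.coprod (appLin (biprod.inl : F₁ ⟶ F₁ ⊞ F₂) U) (appLin (biprod.inr : F₂ ⟶ F₁ ⊞ F₂) U)
  apply Module.Finite.of_surjective f
  intro t
  refine ⟨((biprod.fst : F₁ ⊞ F₂ ⟶ F₁).app U t, (biprod.snd : F₁ ⊞ F₂ ⟶ F₂).app U t), ?_⟩
  rw [LinearMap.coprod_apply]
  exact (biprod_section F₁ F₂ U t).symm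

theorem isCoh_pullback [IsLocallyNoetherian X] {F₁ F₂ H : X.Modules} (ψ₁ : F₁ ⟶ H) (ψ₂ : F₂ ⟶ H)
    (h₁ : Coh.IsCoh F₁) (h₂ : Coh.IsCoh F₂) [H.IsQuasicoherent] :
    Coh.IsCoh (pullback ψ₁ ψ₂) := by
  haveI : F₁.IsQuasicoherent := h₁.1
  haveI : F₂.IsQuasicoherent := h₂.1
  haveI hq : (pullback ψ₁ ψ₂).IsQuasicoherent := QcohLimits.isQuasicoherent_pullback ψ₁ ψ₂
  have hb := isCoh_biprod h₁ h₂
  haveI : (F₁ ⊞ F₂).IsQuasicoherent := hb.1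
  refine ⟨hq, ?_⟩
  let ι : pullback ψ₁ ψ₂ ⟶ F₁ ⊞ F₂ := biprod.lift (pullback.fst ψ₁ ψ₂) (pullback.snd ψ₁ ψ₂)
  haveI : Mono ι := by
    refine ⟨fun {Z} a b hab => ?_⟩
    apply pullback.hom_ext
    · have := congrArg (· ≫ (biprod.fst : F₁ ⊞ F₂ ⟶ F₁)) hab
      simpa [ι] using this
    · have := congrArg (· ≫ (biprod.snd : F₁ ⊞ F₂ ⟶ F₂)) hab
      simpa [ι] using this
  exact QcohEpi.isFiniteType_of_mono ι hb.2

/-- S8127 -/
theorem main [IsNoetherian X] (U : X.Opens)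
    (F₁ F₂ : X.Modules) (h₁ : Coh.IsCoh F₁) (h₂ : Coh.IsCoh F₂)
    (e : F₁.restrict U.ι ≅ F₂.restrict U.ι) :
    ∃ (G : X.Modules) (p₁ : G ⟶ F₁) (p₂ : G ⟶ F₂), Coh.IsCoh G ∧
      IsIso ((Scheme.Modules.restrictFunctor U.ι).map p₁) ∧
      IsIso ((Scheme.Modules.restrictFunctor U.ι).map p₂) := by
  haveI : F₁.IsQuasicoherent := h₁.1
  haveI : F₂.IsQuasicoherent := h₂.1
  haveI : (F₂.restrict U.ι).IsQuasicoherent := inferInstance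
  haveI : (Hartogs.pushRes U F₂).IsQuasicoherent :=
    QcohGlue.isQuasicoherent_pushforward U.ι (F₂.restrict U.ι)
  let ψ₁ : F₁ ⟶ Hartogs.pushRes U F₂ :=
    Hartogs.unit U F₁ ≫ (Scheme.Modules.pushforward U.ι).map e.hom
  let ψ₂ : F₂ ⟶ Hartogs.pushRes U F₂ := Hartogs.unit U F₂
  refine ⟨pullback ψ₁ ψ₂, pullback.fst ψ₁ ψ₂, pullback.snd ψ₁ ψ₂, isCoh_pullback ψ₁ ψ₂ h₁ h₂, ?_, ?_⟩
  all_goals
    let R := Scheme.Modules.restrictFunctor U.ι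
    haveI : PreservesFiniteLimits R := inferInstance
    haveI h2 : IsIso (R.map ψ₂) := PullFF.isIso_restrict_unit_restrict U F₂
    haveI h1 : IsIso (R.map ψ₁) := by
      haveI := PullFF.isIso_restrict_unit_restrict U F₁
      show IsIso (R.map (Hartogs.unit U F₁ ≫ (Scheme.Modules.pushforward U.ι).map e.hom))
      rw [Functor.map_comp]
      infer_instance
  · rw [← PreservesPullback.iso_hom_fst R ψ₁ ψ₂]
    infer_instance
  · rw [← PreservesPullback.iso_hom_snd R ψ₁ ψ₂]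
    infer_instance

end Groth.Agent.Lead.CohPull
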