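import Mathlib
import Groth.Agent.Lead.GExE
import Groth.Agent.Helper1.KLQuot
import Groth.Agent.Lead.CohPull

/-!
# GExG: generalities for the "easy" existence lemma: cokernels of quotient maps, coherence of
`M/IⁿM` for finitely generated `I`, stabilization of torsion kernel systems, pullback squares
-/

set_option autoImplicit false
set_option linter.style.haveILetI false
set_option linter.unusedSectionVars false

universe u

open CategoryTheory CategoryTheory.Limits AlgebraicGeometry Opposite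

namespace Groth.Agent.Lead.GEx

open Groth.Agent.Helper1 Groth.Agent.Helper1.Form Groth.Agent.Helper1.GrSh
  Groth.Agent.Helper1.Rees Groth.Agent.Helper1.GrKer

section Abelian

variable {C : Type*} [Category C] [Abelian C]

/-- a commutative square of epimorphisms inducing an isomorphism on kernels is a pullback -/
theorem isPullback_of_isIso_kernel {F₂ F₁ N₂ N₁ : C} (τ : F₂ ⟶ F₁) (α₂ : F₂ ⟶ N₂) (α₁ : F₁ ⟶ N₁)
    (ν : N₂ ⟶ N₁) (w : τ ≫ α₁ = α₂ ≫ ν) [Epi α₂] [Epi α₁] (σ : kernel α₂ ⟶ kernel α₁)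
    (hσ : σ ≫ kernel.ι α₁ = kernel.ι α₂ ≫ τ) [IsIso σ] : IsPullback τ α₂ α₁ ν := by
  let φ : F₂ ⟶ pullback α₁ ν := pullback.lift τ α₂ w
  have hφ1 : φ ≫ pullback.fst α₁ ν = τ := pullback.lift_fst _ _ _
  have hφ2 : φ ≫ pullback.snd α₁ ν = α₂ := pullback.lift_snd _ _ _
  haveI : Mono φ := by
    apply Preadditive.mono_of_kernel_zero
    have h1 : kernel.ι φ ≫ τ = 0 := by rw [← hφ1, kernel.condition_assoc, zero_comp]
    have h2 : kernel.ι φ ≫ α₂ = 0 := by rw [← hφ2, kernel.condition_assoc, zero_comp]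
    have hk' : kernel.lift α₂ (kernel.ι φ) h2 ≫ kernel.ι α₂ = kernel.ι φ := kernel.lift_ι _ _ _
    have h3 : kernel.lift α₂ (kernel.ι φ) h2 ≫ σ = 0 := by
      rw [← cancel_mono (kernel.ι α₁), Category.assoc, hσ, ← Category.assoc, hk', h1, zero_comp]
    have h4 : kernel.lift α₂ (kernel.ι φ) h2 = 0 := by rw [← cancel_mono σ, h3, zero_comp]
    rw [← hk', h4, zero_comp]
  haveI : Epi φ := by
    apply Preadditive.epi_of_cancel_zero
    intro Z z hz
    have h5 : kernel.ι (pullback.snd α₁ ν) ≫ z = 0 := by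
      have h6 : (kernel.ι (pullback.snd α₁ ν) ≫ pullback.fst α₁ ν) ≫ α₁ = 0 := by
        rw [Category.assoc, pullback.condition, ← Category.assoc, kernel.condition, zero_comp]
      have hx' : kernel.lift α₁ (kernel.ι (pullback.snd α₁ ν) ≫ pullback.fst α₁ ν) h6 ≫
          kernel.ι α₁ = kernel.ι (pullback.snd α₁ ν) ≫ pullback.fst α₁ ν := kernel.lift_ι _ _ _
      have h7 : kernel.ι (pullback.snd α₁ ν) =
          (kernel.lift α₁ (kernel.ι (pullback.snd α₁ ν) ≫ pullback.fst α₁ ν) h6 ≫ inv σ ≫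
            kernel.ι α₂) ≫ φ := by
        apply pullback.hom_ext
        · rw [Category.assoc, hφ1, Category.assoc, Category.assoc, ← hσ, IsIso.inv_hom_id_assoc,
            hx']
        · rw [Category.assoc, hφ2, Category.assoc, Category.assoc, kernel.condition α₂, comp_zero,
            comp_zero, kernel.condition]
      rw [h7, Category.assoc, hz, comp_zero]
    have hz' : pullback.snd α₁ ν ≫ Abelian.epiDesc (pullback.snd α₁ ν) z h5 = z :=
      Abelian.comp_epiDesc _ _ _
    have h8 : α₂ ≫ Abelian.epiDesc (pullback.snd α₁ ν) z h5 = 0 := by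
      rw [← hφ2, Category.assoc, hz', hz]
    have h9 : Abelian.epiDesc (pullback.snd α₁ ν) z h5 = 0 := by
      rw [← cancel_epi α₂, h8, comp_zero]
    rw [← hz', h9, comp_zero]
  haveI : IsIso φ := isIso_of_mono_of_epi φ
  exact IsPullback.of_iso_pullback ⟨w⟩ (asIso φ) hφ1 hφ2

/-- if `q` is a cokernel of `s`, the canonical map from the source of `s` to `ker q` is an
epimorphism -/
theorem epi_kernel_lift_of_iso_cokernel {S N N' : C} (s : S ⟶ N) (q : N ⟶ N')
    (e : cokernel s ≅ N') (he : cokernel.π s ≫ e.hom = q) (h : s ≫ q = 0) :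
    Epi (kernel.lift q s h) := by
  have h0 : kernel.ι q ≫ cokernel.π s = 0 := by
    have : cokernel.π s = q ≫ e.inv := by rw [← he, Category.assoc, e.hom_inv_id, Category.comp_id]
    rw [this, ← Category.assoc, kernel.condition, zero_comp]
  let θ : kernel q ⟶ Abelian.image s := kernel.lift (cokernel.π s) (kernel.ι q) h0
  have hθ : θ ≫ Abelian.image.ι s = kernel.ι q := kernel.lift_ι _ _ _
  have h1 : kernel.lift q s h ≫ θ = Abelian.factorThruImage s := by
    rw [← cancel_mono (Abelian.image.ι s), Category.assoc, hθ, kernel.lift_ι, Abelian.image.fac]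
  haveI : Mono θ := mono_of_mono_fac hθ
  haveI : Epi (kernel.lift q s h ≫ θ) := by rw [h1]; infer_instance
  haveI : Epi θ := epi_of_epi (kernel.lift q s h) θ
  haveI : IsIso θ := isIso_of_mono_of_epi θ
  have h2 : kernel.lift q s h = Abelian.factorThruImage s ≫ inv θ := by
    rw [← h1, Category.assoc, IsIso.hom_inv_id, Category.comp_id]
  rw [h2]
  infer_instance

end Abelian

variable {A : Type u} [CommRing A] {X : Scheme.{u}} [X.Over (Spec (CommRingCat.of A))]

/-- the induced map on cokernels of a map of quotients is a quotient -/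
theorem isQuot_cokernel_map {J : Ideal A} {M' M N' N : X.Modules} {p : M' ⟶ M} {q : N' ⟶ N}
    (hp : IsQuot J p) (hq : IsQuot J q) (f' : M' ⟶ N') (f : M ⟶ N) (w : f' ≫ q = p ≫ f) :
    IsQuot J (cokernel.map f' f p q w) := by
  haveI := hp.epi
  haveI := hq.epi
  have h1 : cokernel.π f' ≫ cokernel.map f' f p q w = q ≫ cokernel.π f := cokernel.π_desc _ _ _
  haveI : Epi (cokernel.map f' f p q w) := by
    have : Epi (cokernel.π f' ≫ cokernel.map f' f p q w) := by rw [h1]; exact epi_comp _ _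
    exact epi_of_epi (cokernel.π f') _
  refine ⟨inferInstance,
    kills_of_killedBy_right (killedBy_of_epi (cokernel.π f) hq.killedBy) _, ?_⟩
  intro Z g hg
  obtain ⟨h, hh⟩ := hq.fac (cokernel.π f' ≫ g) (hg.comp_left _)
  have h2 : f ≫ h = 0 := by
    rw [← cancel_epi p, comp_zero, ← Category.assoc, ← w, Category.assoc, hh,
      cokernel.condition_assoc, zero_comp]
  refine ⟨cokernel.desc f h h2, ?_⟩
  rw [← cancel_epi (cokernel.π f'), ← Category.assoc, h1, Category.assoc, cokernel.π_desc, hh]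

/-- `M/IⁿM` is coherent for `M` coherent and `I` finitely generated -/
theorem isCoh_modPow_of_fg {I : Ideal A} (hI : I.FG) (n : ℕ) (M : X.Modules) (hM : Coh.IsCoh M) :
    Coh.IsCoh (Formal.modPow I n M) := by
  obtain ⟨k, g, hg⟩ := Submodule.fg_iff_exists_fin_generating_family.1
    (Ideal.FG.pow hI : (I ^ n).FG)
  have h1 := isQuot_cokernel_fin g M
  have hg' : Ideal.span (Set.range g) = I ^ n := hg
  rw [hg'] at h1
  have e := h1.iso (isQuot_modPowπ I n M)
  refine Groth.Agent.Lead.PerfLib.isCoh_of_iso e ?_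
  exact Groth.Agent.Lead.PerfLib.isCoh_cokernel
    (SerreFin.isCoh_sigma_fin _ (fun _ => hM)) hM _

theorem isCoh_Rn_of_fg [IsLocallyNoetherian X] {I : Ideal A} (hI : I.FG) (n : ℕ) (M : X.Modules)
    (hM : Coh.IsCoh M) : Coh.IsCoh (Rn I M n) :=
  Groth.Agent.Lead.PerfLib.isCoh_kernel hM (isCoh_modPow_of_fg hI n M hM) _

lemma fg_of_span_range {I : Ideal A} {r : ℕ} (a : Fin r → I)
    (ha : Ideal.span (Set.range fun i => (a i : A)) = I) : I.FG := by
  rw [← ha]
  exact Submodule.fg_span (Set.finite_range _)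

/-- compatible quotient maps are compatible with all transition maps -/
lemma comp_tr_eq {N : X.Modules} (Nn : ℕᵒᵖ ⥤ X.Modules) (q : ∀ n, N ⟶ Nn.obj (op n))
    (hqc : ∀ n, q (n + 1) ≫ τ Nn n = q n) {n m : ℕ} (h : n ≤ m) :
    q m ≫ ARSys.tr Nn h = q n := by
  induction m, h using Nat.le_induction with
  | base => rw [tr_self, Category.comp_id]
  | succ m h ih =>
    have h1 := tr_succ Nn h
    rw [show ARSys.tr Nn (Nat.le_succ_of_le h) = _ from h1, ← Category.assoc]
    rw [show q (m + 1) ≫ Nn.map (homOfLE (Nat.le_succ m)).op = q m from hqc m, ih]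

/-- the canonical quotient maps from a module to its completion -/
noncomputable def cq (I : Ideal A) (M : X.Modules) (n : ℕ) :
    M ⟶ (Formal.completion I M).obj (op n) := Formal.modPowπ I (n + 1) M

lemma isQuot_cq (I : Ideal A) (M : X.Modules) (n : ℕ) : IsQuot (I ^ (n + 1)) (cq I M n) :=
  isQuot_modPowπ I (n + 1) M

lemma cq_τ (I : Ideal A) (M : X.Modules) (n : ℕ) :
    cq I M (n + 1) ≫ τ (Formal.completion I M) n = cq I M n := by
  have h3 : (Formal.completion I M).map (homOfLE (Nat.le_succ n)).op =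
      Formal.modPowTrans I (n + 1) M := completion_map_succ _ n
  have h4 := Formal.modPowπ_trans I (n + 1) M
  exact (congrArg (fun x => Formal.modPowπ I (n + 1 + 1) M ≫ x) h3).trans h4

/-- the completion of a coherent module is a coherent formal module, `I` finitely generated -/
theorem isCohFormal_completion_of_fg {I : Ideal A} (hI : I.FG) (M : X.Modules)
    (hM : Coh.IsCoh M) : Formal.IsCohFormal I (Formal.completion I M) := by
  rw [isCohFormal_iff]
  refine ⟨fun n => isCoh_modPow_of_fg hI (n + 1) M hM,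
    fun n => (isQuot_modPowπ I (n + 1) M).killedBy, fun n => ?_⟩
  have h1 : (Formal.completion I M).map (homOfLE (Nat.le_succ n)).op =
      Formal.modPowTrans I (n + 1) M := completion_map_succ M n
  haveI : Epi (Formal.modPowπ I (n + 1 + 1) M) := (isQuot_modPowπ I (n + 1 + 1) M).epi
  have h2 : IsQuot (I ^ (n + 1))
      (Formal.modPowπ I (n + 1 + 1) M ≫ Formal.modPowTrans I (n + 1) M) := by
    rw [Formal.modPowπ_trans]
    exact isQuot_modPowπ I (n + 1) M
  have h3 : IsQuot (I ^ (n + 1)) (Formal.modPowTrans I (n + 1) M) :=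
    IsQuot.of_epi_comp (Formal.modPowπ I (n + 1 + 1) M) h2
  rw [h1]
  exact h3

section Kernel

variable {I : Ideal A} (F G : ℕᵒᵖ ⥤ X.Modules)
variable (hkF : ∀ n, Formal.KilledBy (I ^ (n + 1)) (F.obj (op n))) (hqF : HasQuotTrans I F)
variable (hkG : ∀ n, Formal.KilledBy (I ^ (n + 1)) (G.obj (op n))) (hqG : HasQuotTrans I G)
variable (π : F ⟶ G)

theorem isFG_grObj_of_fg [IsLocallyNoetherian X]
    (hc : ∀ n, Coh.IsCoh (F.obj (op n))) {r : ℕ} (a : Fin r → I)
    (ha : Ideal.span (Set.range fun i => (a i : A)) = I) : IsFG (grObj F hkF hqF a) where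
  coh n := isCoh_Rn_of_fg (fg_of_span_range a ha) (n + 1) _ (hc (n + 1))
  gen := ⟨0, fun n _ => jointlyEpi_grObj F hkF hqF a ha n⟩

theorem isFG_kerGr_of_fg [IsNoetherian X]
    (hcF : ∀ n, Coh.IsCoh (F.obj (op n))) (hcG : ∀ n, Coh.IsCoh (G.obj (op n)))
    {r : ℕ} (a : Fin r → I) (ha : Ideal.span (Set.range fun i => (a i : A)) = I) :
    IsFG (kerGr F G hkF hqF hkG hqG π a) := by
  have hQ : ∀ n, Coh.IsCoh (Q F G π n) := fun n =>
    Groth.Agent.Lead.PerfLib.isCoh_kernel (hcF n) (hcG n) _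
  refine isFG_of_sub (subGr F G hkF hqF hkG hqG π a) (isFG_grObj_of_fg F hkF hqF hcF a ha) ?_
  intro n
  exact Groth.Agent.Lead.PerfLib.isCoh_kernel (hQ (n + 1)) (hQ n) _

include hkF hqF hkG hqG in
/-- **stabilization**: a kernel system killed by a fixed power of `I` has eventually
isomorphic transition maps -/
theorem isIso_σ_of_torsion [IsNoetherian X] (hπ : ∀ n, Epi (π.app (op n)))
    (hcF : ∀ n, Coh.IsCoh (F.obj (op n))) (hcG : ∀ n, Coh.IsCoh (G.obj (op n)))
    {r : ℕ} (a : Fin r → I) (ha : Ideal.span (Set.range fun i => (a i : A)) = I) (t : ℕ)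
    (hQ : ∀ n, Formal.KilledBy (I ^ (t + 1)) (Q F G π n)) :
    ∃ n₀ : ℕ, ∀ n, n₀ ≤ n → IsIso (σ F G π n) := by
  obtain ⟨N, hN⟩ := (isFG_kerGr_of_fg F G hkF hqF hkG hqG π hcF hcG a ha).gen
  have claim : ∀ (k n : ℕ), N ≤ n → ∀ {Z : X.Modules} (f : Q F G π (n + k + 1) ⟶ Z),
      Kills (I ^ k) f → κ F G π (n + k) ≫ f = 0 := by
    intro k
    induction k with
    | zero =>
      intro n hn Z f hf
      have h1 := hf 1 (by rw [pow_zero, Ideal.one_eq_top]; trivial)
      rw [one_smul] at h1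
      rw [h1, comp_zero]
    | succ k ih =>
      intro n hn Z f hf
      apply hN (n + k) (by omega)
      intro i
      show TK F G hkF hqF hkG hqG π (a i) (n + k) ≫ κ F G π (n + k + 1) ≫ f = 0
      rw [TK_κ_assoc]
      apply ih n hn
      intro b hb
      haveI := epi_σ F G hkF hqF hqG π hπ (n + k + 1)
      rw [← cancel_epi (σ F G π (n + k + 1)), comp_zero, Linear.comp_smul, σ_mQ_assoc,
        smulMod_comp_eq_smul, smul_smul]
      exact hf _ (by rw [pow_succ]; exact Ideal.mul_mem_mul hb (a i).2)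
  refine ⟨N + (t + 1), fun m hm => ?_⟩
  obtain ⟨n, rfl⟩ : ∃ n, m = n + (t + 1) := ⟨m - (t + 1), by omega⟩
  have hn : N ≤ n := by omega
  have h1 := claim (t + 1) n hn (𝟙 (Q F G π (n + (t + 1) + 1)))
    ((killedBy_iff _ _).1 (hQ _))
  rw [Category.comp_id] at h1
  haveI : Mono (σ F G π (n + (t + 1))) := Preadditive.mono_of_kernel_zero h1
  haveI := epi_σ F G hkF hqF hqG π hπ (n + (t + 1))
  exact isIso_of_mono_of_epi _

end Kernel

/-- for a pullback square over a quotient map `q : N ⟶ N/JN` along an epimorphism from a module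
killed by `J`, the projection to that module is a quotient map by `J` -/
theorem isQuot_fst_of_isPullback {J : Ideal A} {E F N N' : X.Modules} {p₁ : E ⟶ F} {p₂ : E ⟶ N}
    {α' : F ⟶ N'} {q : N ⟶ N'} (h : IsPullback p₁ p₂ α' q) [Epi α'] (hq : IsQuot J q)
    (hF : Formal.KilledBy J F) : IsQuot J p₁ := by
  haveI := hq.epi
  haveI : Epi p₁ := by
    rw [← h.isoPullback_hom_fst]
    infer_instance
  haveI : Epi p₂ := by
    rw [← h.isoPullback_hom_snd]
    infer_instance
  refine ⟨inferInstance, kills_of_killedBy_right hF p₁, ?_⟩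
  intro Z f hf
  -- multiplication by `a ∈ J` on `E` factors through `ker p₁`
  have hmul : ∀ a : J, Formal.smulMod A E (a : A) ≫ p₁ = 0 := fun a => by
    rw [smulMod_comp]
    rw [hF _ a.2, comp_zero]
  let ℓ : ∀ a : J, E ⟶ kernel p₁ := fun a => kernel.lift p₁ (Formal.smulMod A E (a : A)) (hmul a)
  have hℓ : ∀ a : J, ℓ a ≫ kernel.ι p₁ = Formal.smulMod A E (a : A) := fun a =>
    kernel.lift_ι _ _ _
  -- `ker p₁ ⟶ ker q`
  have hκ0 : (kernel.ι p₁ ≫ p₂) ≫ q = 0 := by
    rw [Category.assoc, ← h.w, ← Category.assoc, kernel.condition, zero_comp]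
  let κ₁ : kernel p₁ ⟶ kernel q := kernel.lift q (kernel.ι p₁ ≫ p₂) hκ0
  have hκ₁ : κ₁ ≫ kernel.ι q = kernel.ι p₁ ≫ p₂ := kernel.lift_ι _ _ _
  haveI : Mono κ₁ := by
    apply Preadditive.mono_of_cancel_zero
    intro T x hx
    have h1 : (x ≫ kernel.ι p₁) ≫ p₂ = 0 := by
      rw [Category.assoc, ← hκ₁, ← Category.assoc, hx, zero_comp]
    have h2 : (x ≫ kernel.ι p₁) ≫ p₁ = 0 := by
      rw [Category.assoc, kernel.condition, comp_zero]
    have h3 : x ≫ kernel.ι p₁ = 0 := by
      apply h.hom_ext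
      · rw [h2, zero_comp]
      · rw [h1, zero_comp]
    rw [← cancel_mono (kernel.ι p₁), h3, zero_comp]
  -- the canonical epimorphism `∐ N ⟶ ker q`
  have hs : Formal.smulFamily J N ≫ q = 0 := (smulFamily_comp_eq_zero_iff J q).2 hq.kills
  haveI hr : Epi (kernel.lift q (Formal.smulFamily J N) hs) :=
    epi_kernel_lift_of_iso_cokernel (Formal.smulFamily J N) q ((isQuot_cokernelπ J N).iso hq)
      ((isQuot_cokernelπ J N).fac_iso_hom hq) hs
  have key : ∀ a : J, p₂ ≫ Sigma.ι (fun _ : J => N) a ≫ kernel.lift q (Formal.smulFamily J N) hs =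
      ℓ a ≫ κ₁ := by
    intro a
    rw [← cancel_mono (kernel.ι q), Category.assoc, Category.assoc, kernel.lift_ι,
      ι_smulFamily, Category.assoc, hκ₁, ← Category.assoc, hℓ, smulMod_comp]
  -- a morphism out of `ker q` vanishing after all `ℓ a ≫ κ₁` vanishes
  have van : ∀ {Z' : X.Modules} (y : kernel q ⟶ Z'), (∀ a : J, ℓ a ≫ κ₁ ≫ y = 0) → y = 0 := by
    intro Z' y hy
    rw [← cancel_epi (kernel.lift q (Formal.smulFamily J N) hs), comp_zero]
    apply Sigma.hom_ext
    intro a
    rw [comp_zero, ← cancel_epi p₂, comp_zero, ← Category.assoc, ← Category.assoc,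
      Category.assoc p₂, key a, Category.assoc, hy a]
  haveI : Epi κ₁ := by
    apply Preadditive.epi_of_cancel_zero
    intro Z' y hy
    exact van y (fun a => by rw [hy, comp_zero])
  haveI : IsIso κ₁ := isIso_of_mono_of_epi κ₁
  have h0 : kernel.ι p₁ ≫ f = 0 := by
    have h1 : inv κ₁ ≫ kernel.ι p₁ ≫ f = 0 := by
      apply van
      intro a
      rw [IsIso.hom_inv_id_assoc, ← Category.assoc, hℓ]
      exact hf _ a.2
    have h2 := congrArg (fun x => κ₁ ≫ x) h1
    simpa using h2
  exact ⟨Abelian.epiDesc p₁ f h0, Abelian.comp_epiDesc _ _ _⟩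

end Groth.Agent.Lead.GEx
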