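import Mathlib
import Groth.Agent.Lead.GExG

/-!
# GExH: algebraization of an extension of the completion of a coherent module by a torsion
kernel system
-/

set_option autoImplicit false
set_option linter.style.haveILetI false
set_option linter.unusedSectionVars false

universe u

open CategoryTheory CategoryTheory.Limits AlgebraicGeometry Opposite

namespace Groth.Agent.Lead.GEx

open Groth.Agent.Helper1 Groth.Agent.Helper1.Form Groth.Agent.Helper1.GrSh
  Groth.Agent.Helper1.Rees Groth.Agent.Helper1.GrKer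

variable {A : Type u} [CommRing A] {X : Scheme.{u}} [X.Over (Spec (CommRingCat.of A))]

/-- **core**: a levelwise epimorphism `α' : F ⟶ (N/I^(n+1)N)` of coherent formal modules whose
kernels are killed by a fixed power of `I` comes from an epimorphism `F' ⟶ N` of coherent modules -/
theorem exists_of_epi_torsion [IsNoetherian X] {I : Ideal A} {r : ℕ} (a : Fin r → I)
    (ha : Ideal.span (Set.range fun i => (a i : A)) = I)
    (F Nn : ℕᵒᵖ ⥤ X.Modules) (hF : Formal.IsCohFormal I F) (hN : Formal.IsCohFormal I Nn)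
    (N : X.Modules) (hNc : Coh.IsCoh N) (q : ∀ n, N ⟶ Nn.obj (op n))
    (hq : ∀ n, IsQuot (I ^ (n + 1)) (q n)) (hqc : ∀ n, q (n + 1) ≫ τ Nn n = q n)
    (α' : F ⟶ Nn) (hα' : ∀ n, Epi (α'.app (op n))) (t : ℕ)
    (hQ : ∀ n, Formal.KilledBy (I ^ (t + 1)) (kernel (α'.app (op n)))) :
    ∃ (F' : X.Modules) (p : F' ⟶ N) (ρ : ∀ n, F' ⟶ F.obj (op n)), Coh.IsCoh F' ∧ Epi p ∧
      Formal.KilledBy (I ^ (t + 1)) (kernel p) ∧ (∀ n, IsQuot (I ^ (n + 1)) (ρ n)) ∧
      (∀ n, ρ (n + 1) ≫ τ F n = ρ n) ∧ ∀ n, ρ n ≫ α'.app (op n) = p ≫ q n := by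
  obtain ⟨hcF, hkF, hqF⟩ := (isCohFormal_iff F).1 hF
  obtain ⟨hcN, hkN, hqN⟩ := (isCohFormal_iff Nn).1 hN
  obtain ⟨n₀, hn₀⟩ := isIso_σ_of_torsion F Nn hkF hqF hkN hqN α' hα' hcF hcN a ha t hQ
  -- the squares are pullbacks in high degree
  have hPB : ∀ n, n₀ ≤ n →
      IsPullback (τ F n) (α'.app (op (n + 1))) (α'.app (op n)) (τ Nn n) := by
    intro n hn
    haveI := hα' (n + 1)
    haveI := hα' n
    haveI := hn₀ n hn
    exact isPullback_of_isIso_kernel (τ F n) (α'.app (op (n + 1))) (α'.app (op n)) (τ Nn n)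
      (α'.naturality _) (σ F Nn α' n) (σ_ι F Nn α' n)
  -- the module `F'`
  haveI := hα' n₀
  haveI : (Nn.obj (op n₀)).IsQuasicoherent := (hcN n₀).1
  have hcP : Coh.IsCoh (pullback (α'.app (op n₀)) (q n₀)) :=
    Groth.Agent.Lead.CohPull.isCoh_pullback _ _ (hcF n₀) hNc
  have hηe : Epi (pullback.snd (α'.app (op n₀)) (q n₀)) := inferInstance
  obtain ⟨F', ρ₀, η, hpb, hF'c, hηepi⟩ : ∃ (F' : X.Modules) (ρ₀ : F' ⟶ F.obj (op n₀)) (η : F' ⟶ N),
      IsPullback ρ₀ η (α'.app (op n₀)) (q n₀) ∧ Coh.IsCoh F' ∧ Epi η :=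
    ⟨_, _, _, IsPullback.of_hasPullback _ _, hcP, hηe⟩
  -- the recursive construction of the maps `F' ⟶ F_(n₀+k)`
  let S : ℕ → Type u := fun k =>
    {ρ : F' ⟶ F.obj (op (n₀ + k)) // IsPullback ρ η (α'.app (op (n₀ + k))) (q (n₀ + k))}
  let R : ∀ k, S k := fun k => Nat.rec (motive := S) ⟨ρ₀, hpb⟩
    (fun k s => ⟨_, IsPullback.of_right' (h₂₁ := q (n₀ + k + 1))
      (show IsPullback s.1 η (α'.app (op (n₀ + k))) (q (n₀ + k + 1) ≫ τ Nn (n₀ + k)) by
        rw [hqc]; exact s.2) (hPB (n₀ + k) (Nat.le_add_right _ _))⟩) k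
  let ρ' : ∀ k, F' ⟶ F.obj (op (n₀ + k)) := fun k => (R k).1
  have hR : ∀ k, IsPullback (ρ' k) η (α'.app (op (n₀ + k))) (q (n₀ + k)) := fun k => (R k).2
  have hρ's : ∀ k, ρ' (k + 1) ≫ τ F (n₀ + k) = ρ' k := fun k =>
    IsPullback.lift_fst _ _ _ _
  have hρ'q : ∀ k, IsQuot (I ^ (n₀ + k + 1)) (ρ' k) := fun k => by
    haveI := hα' (n₀ + k)
    exact isQuot_fst_of_isPullback (hR k) (hq (n₀ + k)) (hkF (n₀ + k))
  -- the maps to all levels
  let ρ : ∀ n, F' ⟶ F.obj (op n) := fun n => ρ' n ≫ ARSys.tr F (Nat.le_add_left n n₀)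
  refine ⟨F', η, ρ, hF'c, hηepi, ?_, ?_, ?_, ?_⟩
  · -- the kernel of `η` is killed
    rw [killedBy_iff]
    intro b hb
    rw [← smulMod_comp_eq_smul, Category.comp_id, ← cancel_mono (kernel.ι η), zero_comp,
      smulMod_comp]
    have e1 : (kernel.ι η ≫ ρ₀) ≫ α'.app (op n₀) = 0 := by
      rw [Category.assoc, hpb.w, ← Category.assoc, kernel.condition, zero_comp]
    have e2 : kernel.lift _ _ e1 ≫ kernel.ι (α'.app (op n₀)) = kernel.ι η ≫ ρ₀ :=
      kernel.lift_ι _ _ _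
    apply hpb.hom_ext
    · rw [zero_comp, Category.assoc, smulMod_comp ρ₀ b, ← Category.assoc, ← e2, Category.assoc,
        ← smulMod_comp (kernel.ι (α'.app (op n₀))) b, hQ n₀ b hb, zero_comp, comp_zero]
    · rw [zero_comp, Category.assoc, smulMod_comp η b, kernel.condition_assoc, zero_comp]
  · intro n
    exact IsQuot.comp (Ideal.pow_le_pow_right (by omega)) (hρ'q n)
      (isQuot_tr hqF hkF (Nat.le_add_left n n₀))
  · intro n
    have h1 : n + 1 ≤ n₀ + n + 1 := by omega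
    have h2 : n ≤ n₀ + n := by omega
    show (ρ' (n + 1) ≫ ARSys.tr F h1) ≫ ARSys.tr F (Nat.le_succ n) = ρ' n ≫ ARSys.tr F h2
    rw [Category.assoc, tr_comp F (Nat.le_succ n) h1, ← hρ's n, Category.assoc]
    exact congrArg (fun x => ρ' (n + 1) ≫ x) (tr_comp F h2 (Nat.le_succ (n₀ + n))).symm
  · intro n
    have h2 : n ≤ n₀ + n := by omega
    show (ρ' n ≫ ARSys.tr F h2) ≫ α'.app (op n) = η ≫ q n
    rw [Category.assoc,
      show ARSys.tr F h2 ≫ α'.app (op n) = α'.app (op (n₀ + n)) ≫ ARSys.tr Nn h2 from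
        α'.naturality _,
      ← Category.assoc, (hR n).w, Category.assoc, comp_tr_eq Nn q hqc h2]

/-- **the easy existence lemma** (Stacks 0889 (1)), for a finitely generated ideal, in terms of
compatible quotient maps -/
theorem exists_easy_left_fg [IsNoetherian X] {I : Ideal A} {r : ℕ} (a : Fin r → I)
    (ha : Ideal.span (Set.range fun i => (a i : A)) = I)
    (G : X.Modules) (hG : Coh.IsCoh G) (Gs : ℕᵒᵖ ⥤ X.Modules) (hGs : Formal.IsCohFormal I Gs)
    (πG : ∀ n, G ⟶ Gs.obj (op n)) (hπG : ∀ n, IsQuot (I ^ (n + 1)) (πG n))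
    (hπGc : ∀ n, πG (n + 1) ≫ τ Gs n = πG n)
    (F : ℕᵒᵖ ⥤ X.Modules) (hF : Formal.IsCohFormal I F) (α : F ⟶ Gs) (t : ℕ)
    (hα : ∀ n, Formal.KilledBy (I ^ (t + 1)) (kernel (α.app (op n))) ∧
      Formal.KilledBy (I ^ (t + 1)) (cokernel (α.app (op n)))) :
    ∃ (F' : X.Modules) (f : F' ⟶ G) (ρ : ∀ n, F' ⟶ F.obj (op n)), Coh.IsCoh F' ∧
      Formal.KilledBy (I ^ (t + 1)) (kernel f) ∧ Formal.KilledBy (I ^ (t + 1)) (cokernel f) ∧
      (∀ n, IsQuot (I ^ (n + 1)) (ρ n)) ∧ (∀ n, ρ (n + 1) ≫ τ F n = ρ n) ∧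
      ∀ n, ρ n ≫ α.app (op n) = f ≫ πG n := by
  obtain ⟨hcF, hkF, hqF⟩ := (isCohFormal_iff F).1 hF
  obtain ⟨hcG, hkG, hqG⟩ := (isCohFormal_iff Gs).1 hGs
  have hIfg : I.FG := fg_of_span_range a ha
  -- (1) the cokernels stabilize
  have hC : ∀ m, t ≤ m → ∃ θ : cokernel (α.app (op m)) ⟶ cokernel (α.app (op t)), Mono θ ∧
      ∀ h : t ≤ m, cokernel.π (α.app (op m)) ≫ θ =
        ARSys.tr Gs h ≫ cokernel.π (α.app (op t)) := by
    intro m hm
    induction m, hm using Nat.le_induction with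
    | base =>
      refine ⟨𝟙 _, inferInstance, fun h => ?_⟩
      rw [tr_self, Category.comp_id, Category.id_comp]
    | succ m hm ih =>
      obtain ⟨θ, hθ, hc⟩ := ih
      have w : α.app (op (m + 1)) ≫ τ Gs m = τ F m ≫ α.app (op m) := (α.naturality _).symm
      have hγ : IsQuot (I ^ (m + 1)) (cokernel.map _ _ (τ F m) (τ Gs m) w) :=
        isQuot_cokernel_map (hqF m) (hqG m) _ _ w
      haveI : IsIso (cokernel.map _ _ (τ F m) (τ Gs m) w) :=
        hγ.isIso_of_killedBy (killedBy_mono (Ideal.pow_le_pow_right (by omega)) (hα (m + 1)).2)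
      refine ⟨cokernel.map _ _ (τ F m) (τ Gs m) w ≫ θ, mono_comp _ _, fun h => ?_⟩
      rw [← Category.assoc, cokernel.π_desc, Category.assoc, hc hm, ← Category.assoc]
      congr 1
      exact (tr_succ Gs hm).symm
  -- (2) the module `N' = ker (G → C_t)`
  obtain ⟨d, hd⟩ : ∃ d : G ⟶ cokernel (α.app (op t)), d = πG t ≫ cokernel.π (α.app (op t)) :=
    ⟨_, rfl⟩
  have hcC : Coh.IsCoh (cokernel (α.app (op t))) :=
    Groth.Agent.Lead.PerfLib.isCoh_cokernel (hcF t) (hcG t) _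
  have hcN : Coh.IsCoh (kernel d) := Groth.Agent.Lead.PerfLib.isCoh_kernel hG hcC d
  have hbd : ∀ b ∈ I ^ (t + 1), Formal.smulMod A G b ≫ d = 0 := by
    intro b hb
    rw [smulMod_comp, (hα t).2 b hb, comp_zero]
  have hcokj : Formal.KilledBy (I ^ (t + 1)) (cokernel (kernel.ι d)) := by
    rw [killedBy_iff]
    intro b hb
    rw [← smulMod_comp_eq_smul, Category.comp_id, ← cancel_epi (cokernel.π (kernel.ι d)),
      comp_zero, ← smulMod_comp, ← kernel.lift_ι d _ (hbd b hb), Category.assoc,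
      cokernel.condition, comp_zero]
  have hdm : ∀ m, t ≤ m → kernel.ι d ≫ πG m ≫ cokernel.π (α.app (op m)) = 0 := by
    intro m hm
    obtain ⟨θ, hθ, hc⟩ := hC m hm
    rw [← cancel_mono θ, zero_comp, Category.assoc, Category.assoc, hc hm,
      ← Category.assoc (πG m), comp_tr_eq Gs πG hπGc hm, ← hd]
    exact kernel.condition d
  -- (3) Artin–Rees with the explicit constant `t + 1`
  have hpow : ∀ n : ℕ, I ^ (t + 1 + n + 1) = I ^ (n + 1) * I ^ (t + 1) := by
    intro n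
    rw [← pow_add]
    congr 1
    omega
  have har : ∀ (n : ℕ) {Z : X.Modules} (f : kernel d ⟶ Z), Kills (I ^ (n + 1)) f →
      kernel.ι (kernel.ι d ≫ πG (t + 1 + n)) ≫ f = 0 := by
    intro n Z f hf
    have hP : ∀ c ∈ I ^ (n + 1) * I ^ (t + 1), Formal.smulMod A G c ≫ d = 0 ∧
        ∀ l : G ⟶ kernel d, l ≫ kernel.ι d = Formal.smulMod A G c → l ≫ f = 0 := by
      intro c hc
      refine Submodule.mul_induction_on hc ?_ ?_
      · intro x hx y hy
        have hy0 := hbd y hy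
        refine ⟨?_, fun l hl => ?_⟩
        · rw [smulMod_mul, Category.assoc, hy0, comp_zero]
        · have h1 : l = Formal.smulMod A G x ≫ kernel.lift d _ hy0 := by
            rw [← cancel_mono (kernel.ι d), hl, Category.assoc, kernel.lift_ι, smulMod_mul]
          rw [h1, Category.assoc, smulMod_comp_eq_smul]
          exact (hf.comp_left _) x hx
      · rintro x y ⟨hx0, hx⟩ ⟨hy0, hy⟩
        have hxy : Formal.smulMod A G (x + y) = Formal.smulMod A G x + Formal.smulMod A G y :=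
          smulMod_add G x y
        refine ⟨?_, fun l hl => ?_⟩
        · rw [hxy, Preadditive.add_comp, hx0, hy0, add_zero]
        · have h1 : l = kernel.lift d _ hx0 + kernel.lift d _ hy0 := by
            rw [← cancel_mono (kernel.ι d), hl, Preadditive.add_comp, kernel.lift_ι,
              kernel.lift_ι, hxy]
          rw [h1, Preadditive.add_comp, hx _ (kernel.lift_ι _ _ _), hy _ (kernel.lift_ι _ _ _),
            add_zero]
    have hs : Formal.smulFamily (I ^ (t + 1 + n + 1)) G ≫ πG (t + 1 + n) = 0 :=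
      (smulFamily_comp_eq_zero_iff _ _).2 (hπG (t + 1 + n)).kills
    obtain ⟨r', hr'e, hr'⟩ : ∃ r' : (∐ fun _ : ↥(I ^ (t + 1 + n + 1)) => G) ⟶
        kernel (πG (t + 1 + n)), Epi r' ∧
        r' ≫ kernel.ι (πG (t + 1 + n)) = Formal.smulFamily (I ^ (t + 1 + n + 1)) G :=
      ⟨_, epi_kernel_lift_of_iso_cokernel _ _ ((isQuot_cokernelπ _ G).iso (hπG (t + 1 + n)))
        ((isQuot_cokernelπ _ G).fac_iso_hom (hπG (t + 1 + n))) hs, kernel.lift_ι _ _ hs⟩
    have hx0 : (kernel.ι (kernel.ι d ≫ πG (t + 1 + n)) ≫ kernel.ι d) ≫ πG (t + 1 + n) = 0 := by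
      rw [Category.assoc]
      exact kernel.condition _
    obtain ⟨x, hx⟩ : ∃ x : kernel (kernel.ι d ≫ πG (t + 1 + n)) ⟶ kernel (πG (t + 1 + n)),
        x ≫ kernel.ι (πG (t + 1 + n)) = kernel.ι (kernel.ι d ≫ πG (t + 1 + n)) ≫ kernel.ι d :=
      ⟨_, kernel.lift_ι _ _ hx0⟩
    haveI : Epi (pullback.snd r' x) := inferInstance
    rw [← cancel_epi (pullback.snd r' x), comp_zero]
    have hΛ0 : ∀ c : ↥(I ^ (t + 1 + n + 1)), Formal.smulMod A G (c : A) ≫ d = 0 := fun c =>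
      (hP c (by rw [← hpow]; exact c.2)).1
    obtain ⟨Λ, hΛι⟩ : ∃ Λ : (∐ fun _ : ↥(I ^ (t + 1 + n + 1)) => G) ⟶ kernel d,
        ∀ c, Sigma.ι (fun _ : ↥(I ^ (t + 1 + n + 1)) => G) c ≫ Λ = kernel.lift d _ (hΛ0 c) :=
      ⟨Sigma.desc fun c => kernel.lift d _ (hΛ0 c), fun c => Sigma.ι_desc _ _⟩
    have hΛ : Λ ≫ kernel.ι d = Formal.smulFamily (I ^ (t + 1 + n + 1)) G := by
      apply Sigma.hom_ext
      intro c
      rw [← Category.assoc, hΛι, kernel.lift_ι, ι_smulFamily]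
    have h2 : pullback.snd r' x ≫ kernel.ι (kernel.ι d ≫ πG (t + 1 + n)) =
        pullback.fst r' x ≫ Λ := by
      rw [← cancel_mono (kernel.ι d), Category.assoc, Category.assoc, hΛ, ← hx, ← hr',
        ← Category.assoc, ← Category.assoc, pullback.condition]
    have hΛf : Λ ≫ f = 0 := by
      apply Sigma.hom_ext
      intro c
      rw [← Category.assoc, hΛι, comp_zero]
      exact (hP c (by rw [← hpow]; exact c.2)).2 _ (kernel.lift_ι _ _ _)
    rw [← Category.assoc, h2, Category.assoc, hΛf, comp_zero]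
  -- (4) the levelwise epimorphism `α' : F ⟶ N'^`
  have hle : ∀ n : ℕ, n ≤ t + 1 + n := fun n => by omega
  have htle : ∀ n : ℕ, t ≤ t + 1 + n := fun n => by omega
  have hNs : Formal.IsCohFormal I (Formal.completion I (kernel d)) :=
    isCohFormal_completion_of_fg hIfg _ hcN
  obtain ⟨hcNs, hkNs, hqNs⟩ := (isCohFormal_iff _).1 hNs
  have hu0 : ∀ n, pullback.snd (α.app (op (t + 1 + n))) (πG (t + 1 + n)) ≫ d = 0 := by
    intro n
    obtain ⟨θ, hθ, hc⟩ := hC _ (htle n)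
    have h1 : d = πG (t + 1 + n) ≫ cokernel.π (α.app (op (t + 1 + n))) ≫ θ := by
      rw [hc (htle n), ← Category.assoc, comp_tr_eq Gs πG hπGc (htle n), hd]
    rw [h1, ← Category.assoc, ← pullback.condition, Category.assoc, cokernel.condition_assoc,
      zero_comp, comp_zero]
  let P : ℕ → X.Modules := fun n => pullback (α.app (op (t + 1 + n))) (πG (t + 1 + n))
  let pr₁ : ∀ n, P n ⟶ F.obj (op (t + 1 + n)) := fun n => pullback.fst _ _
  let pr₂ : ∀ n, P n ⟶ G := fun n => pullback.snd _ _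
  have hPc : ∀ n, pr₁ n ≫ α.app (op (t + 1 + n)) = pr₂ n ≫ πG (t + 1 + n) :=
    fun n => pullback.condition
  haveI hπGe : ∀ n, Epi (πG n) := fun n => (hπG n).epi
  haveI hpe : ∀ n, Epi (pr₁ n) := fun n =>
    (inferInstance : Epi (pullback.fst (α.app (op (t + 1 + n))) (πG (t + 1 + n))))
  let u : ∀ n, P n ⟶ kernel d := fun n => kernel.lift d (pr₂ n) (hu0 n)
  have hu : ∀ n, u n ≫ kernel.ι d = pr₂ n := fun n => kernel.lift_ι _ _ _
  have hβ0 : ∀ n, kernel.ι (pr₁ n) ≫ u n ≫ cq I (kernel d) n = 0 := by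
    intro n
    have h1 : (kernel.ι (pr₁ n) ≫ u n) ≫ (kernel.ι d ≫ πG (t + 1 + n)) = 0 := by
      rw [Category.assoc, ← Category.assoc (u n), hu, ← hPc, kernel.condition_assoc, zero_comp]
    have h2 := har n (cq I (kernel d) n) (isQuot_cq I (kernel d) n).kills
    rw [← Category.assoc, ← kernel.lift_ι _ _ h1, Category.assoc, h2, comp_zero]
  let β : ∀ n, F.obj (op (t + 1 + n)) ⟶ (Formal.completion I (kernel d)).obj (op n) := fun n =>
    Abelian.epiDesc (pr₁ n) (u n ≫ cq I (kernel d) n) (hβ0 n)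
  have hβ : ∀ n, pr₁ n ≫ β n = u n ≫ cq I (kernel d) n := fun n => Abelian.comp_epiDesc _ _ _
  let α' : ∀ n, F.obj (op n) ⟶ (Formal.completion I (kernel d)).obj (op n) := fun n =>
    (isQuot_tr hqF hkF (hle n)).desc (β n) (kills_of_killedBy_right (hkNs n) _)
  have hα'd : ∀ n, ARSys.tr F (hle n) ≫ α' n = β n := fun n => IsQuot.fac_desc _ _ _
  haveI htre : ∀ n, Epi (ARSys.tr F (hle n)) := fun n => (isQuot_tr hqF hkF (hle n)).epi
  haveI hεe : ∀ n, Epi (pr₁ n ≫ ARSys.tr F (hle n)) := fun n => epi_comp _ _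
  have hstar : ∀ n, (pr₁ n ≫ ARSys.tr F (hle n)) ≫ α' n = u n ≫ cq I (kernel d) n := by
    intro n
    rw [Category.assoc, hα'd, hβ]
  -- the map induced by the inclusion
  obtain ⟨jh, hjh0⟩ := exists_completion_hom (I := I) (kernel d) Gs hkG
    (fun n => kernel.ι d ≫ πG n) (fun n => by
      rw [Category.assoc]
      congr 1
      exact hπGc n)
  have hjh : ∀ n, cq I (kernel d) n ≫ jh.app (op n) = kernel.ι d ≫ πG n := hjh0
  -- (i) `α' ≫ ĵ = α`
  have hα'j : ∀ n, α' n ≫ jh.app (op n) = α.app (op n) := by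
    intro n
    rw [← cancel_epi (pr₁ n ≫ ARSys.tr F (hle n))]
    have e1 : (pr₁ n ≫ ARSys.tr F (hle n)) ≫ α' n ≫ jh.app (op n) = pr₂ n ≫ πG n := by
      rw [← Category.assoc, hstar, Category.assoc, hjh, ← Category.assoc, hu]
    have e2 : (pr₁ n ≫ ARSys.tr F (hle n)) ≫ α.app (op n) = pr₂ n ≫ πG n := by
      rw [Category.assoc,
        show ARSys.tr F (hle n) ≫ α.app (op n) = α.app (op (t + 1 + n)) ≫ ARSys.tr Gs (hle n) from
          α.naturality _,
        ← Category.assoc, hPc, Category.assoc, comp_tr_eq Gs πG hπGc (hle n)]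
    rw [e1, e2]
  -- (ii) `α'` is a levelwise epimorphism
  have hue : ∀ n, Epi (u n) := by
    intro n
    have hv0 : (kernel.ι d ≫ πG (t + 1 + n)) ≫ cokernel.π (α.app (op (t + 1 + n))) = 0 := by
      rw [Category.assoc]
      exact hdm _ (htle n)
    obtain ⟨v, hv⟩ : ∃ v : kernel d ⟶ Abelian.image (α.app (op (t + 1 + n))),
        v ≫ Abelian.image.ι (α.app (op (t + 1 + n))) = kernel.ι d ≫ πG (t + 1 + n) :=
      ⟨kernel.lift _ _ hv0, kernel.lift_ι _ _ _⟩
    have hcone : pullback.fst (Abelian.factorThruImage (α.app (op (t + 1 + n)))) v ≫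
        α.app (op (t + 1 + n)) =
        (pullback.snd (Abelian.factorThruImage (α.app (op (t + 1 + n)))) v ≫ kernel.ι d) ≫
          πG (t + 1 + n) := by
      rw [Category.assoc, ← hv, ← Category.assoc, ← pullback.condition, Category.assoc,
        Abelian.image.fac]
    have hw : pullback.lift _ _ hcone ≫ u n =
        pullback.snd (Abelian.factorThruImage (α.app (op (t + 1 + n)))) v := by
      rw [← cancel_mono (kernel.ι d), Category.assoc, hu]
      exact pullback.lift_snd _ _ _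
    haveI : Epi (pullback.snd (Abelian.factorThruImage (α.app (op (t + 1 + n)))) v) :=
      inferInstance
    exact epi_of_epi_fac hw
  have hα'e : ∀ n, Epi (α' n) := by
    intro n
    haveI := hue n
    haveI : Epi (cq I (kernel d) n) := (isQuot_cq I (kernel d) n).epi
    haveI : Epi ((pr₁ n ≫ ARSys.tr F (hle n)) ≫ α' n) := by
      rw [hstar]
      exact epi_comp _ _
    exact epi_of_epi (pr₁ n ≫ ARSys.tr F (hle n)) (α' n)
  -- (iii) naturality
  have hnat : ∀ n, F.map (homOfLE (Nat.le_add_right n 1)).op ≫ α' n =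
      α' (n + 1) ≫ (Formal.completion I (kernel d)).map (homOfLE (Nat.le_add_right n 1)).op := by
    intro n
    have hcone : (pr₁ (n + 1) ≫ τ F (t + 1 + n)) ≫ α.app (op (t + 1 + n)) =
        pr₂ (n + 1) ≫ πG (t + 1 + n) := by
      rw [Category.assoc,
        show τ F (t + 1 + n) ≫ α.app (op (t + 1 + n)) =
          α.app (op (t + 1 + n + 1)) ≫ τ Gs (t + 1 + n) from α.naturality _,
        ← Category.assoc]
      rw [show pr₁ (n + 1) ≫ α.app (op (t + 1 + n + 1)) = pr₂ (n + 1) ≫ πG (t + 1 + n + 1) from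
        hPc (n + 1), Category.assoc]
      congr 1
      exact hπGc _
    obtain ⟨θP, hθ1, hθ2⟩ : ∃ θP : P (n + 1) ⟶ P n, θP ≫ pr₁ n = pr₁ (n + 1) ≫ τ F (t + 1 + n) ∧
        θP ≫ pr₂ n = pr₂ (n + 1) :=
      ⟨pullback.lift _ _ hcone, pullback.lift_fst _ _ _, pullback.lift_snd _ _ _⟩
    have hθu : θP ≫ u n = u (n + 1) := by
      rw [← cancel_mono (kernel.ι d), Category.assoc, hu, hθ2, hu]
    have hε : (pr₁ (n + 1) ≫ ARSys.tr F (hle (n + 1))) ≫ τ F n =
        θP ≫ (pr₁ n ≫ ARSys.tr F (hle n)) := by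
      rw [← Category.assoc θP, hθ1, Category.assoc, Category.assoc]
      congr 1
      rw [show τ F n = ARSys.tr F (Nat.le_succ n) from rfl, tr_comp,
        show τ F (t + 1 + n) = ARSys.tr F (Nat.le_succ (t + 1 + n)) from rfl, tr_comp]
    rw [← cancel_epi (pr₁ (n + 1) ≫ ARSys.tr F (hle (n + 1)))]
    have e1 : (pr₁ (n + 1) ≫ ARSys.tr F (hle (n + 1))) ≫
        F.map (homOfLE (Nat.le_add_right n 1)).op ≫ α' n = u (n + 1) ≫ cq I (kernel d) n := by
      rw [← Category.assoc]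
      rw [show (pr₁ (n + 1) ≫ ARSys.tr F (hle (n + 1))) ≫
        F.map (homOfLE (Nat.le_add_right n 1)).op = θP ≫ (pr₁ n ≫ ARSys.tr F (hle n)) from hε]
      rw [Category.assoc, hstar, ← Category.assoc, hθu]
    have e2 : (pr₁ (n + 1) ≫ ARSys.tr F (hle (n + 1))) ≫ α' (n + 1) ≫
        (Formal.completion I (kernel d)).map (homOfLE (Nat.le_add_right n 1)).op =
        u (n + 1) ≫ cq I (kernel d) n := by
      rw [← Category.assoc, hstar, Category.assoc]
      congr 1
      exact cq_τ I (kernel d) n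
    rw [e1, e2]
  obtain ⟨αN, hαN⟩ : ∃ αN : F ⟶ Formal.completion I (kernel d), ∀ n, αN.app (op n) = α' n :=
    ⟨NatTrans.ofOpSequence (fun n => α' n) hnat, fun n => rfl⟩
  -- (iv) the kernels are killed
  have hQ : ∀ n, Formal.KilledBy (I ^ (t + 1)) (kernel (αN.app (op n))) := by
    intro n
    have h0 : kernel.ι (αN.app (op n)) ≫ α.app (op n) = 0 := by
      rw [← hα'j n, ← hαN n, ← Category.assoc, kernel.condition, zero_comp]
    have h1 : kernel.lift (α.app (op n)) _ h0 ≫ kernel.ι (α.app (op n)) =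
        kernel.ι (αN.app (op n)) := kernel.lift_ι _ _ _
    haveI : Mono (kernel.lift (α.app (op n)) _ h0) := mono_of_mono_fac h1
    exact killedBy_of_mono (kernel.lift (α.app (op n)) _ h0) (hα n).1
  -- (5) apply the core theorem
  obtain ⟨F', p, ρ, hF'c, hpe', hkp, hρq, hρc, hρα⟩ := exists_of_epi_torsion a ha F
    (Formal.completion I (kernel d)) hF hNs (kernel d) hcN (cq I (kernel d))
    (isQuot_cq I (kernel d)) (cq_τ I (kernel d)) αN (fun n => by rw [hαN]; exact hα'e n) t hQ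
  refine ⟨F', p ≫ kernel.ι d, ρ, hF'c, ?_, ?_, hρq, hρc, ?_⟩
  · exact killedBy_of_mono (kernelCompMono p (kernel.ι d)).hom hkp
  · exact killedBy_of_epi (cokernelEpiComp p (kernel.ι d)).inv hcokj
  · intro n
    rw [← hα'j n, ← hαN n, ← Category.assoc, hρα n, Category.assoc, hjh, Category.assoc]

end Groth.Agent.Lead.GEx
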