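import Mathlib
import Groth.Agent.Lead.GExH

/-!
# GExI: reduction to finitely generated ideals and the easy existence lemma (S0829)
-/

set_option autoImplicit false
set_option linter.style.haveILetI false
set_option linter.unusedSectionVars false

universe u

open CategoryTheory CategoryTheory.Limits AlgebraicGeometry Opposite

namespace Groth.Agent.Lead.GEx

open Groth.Agent.Helper1 Groth.Agent.Helper1.Form Groth.Agent.Helper1.GrKer
  Groth.Agent.Helper1.QuotPush

variable {A : Type u} [CommRing A] {X : Scheme.{u}} [X.Over (Spec (CommRingCat.of A))]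

variable (X) in
/-- the extensions of `I` and `I'` to the rings of sections agree on an affine open cover -/
def LocEq (I I' : Ideal A) : Prop :=
  ∀ x : X, ∃ U : X.Opens, IsAffineOpen U ∧ x ∈ U ∧
    I.map (ρ (A := A) U) = I'.map (ρ (A := A) U)

theorem kills_of_locEq {I I' : Ideal A} (h : LocEq X I I') (n : ℕ) {M Z : X.Modules}
    [M.IsQuasicoherent] {f : M ⟶ Z} (hf : Kills (I' ^ n) f) : Kills (I ^ n) f := by
  intro a ha
  apply Groth.Agent.Helper4.QcohLocal.eq_zero_of_app_eq_zero_of_affine_cover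
  intro x
  obtain ⟨U, hU, hx, hUe⟩ := h x
  refine ⟨U, hU, hx, fun m => ?_⟩
  show f.app U (ρ (A := A) U a • m) = 0
  apply KLQuot.app_eq_zero_of_mem_smul_top hf U
  have h1 : ρ (A := A) U a ∈ (I' ^ n).map (ρ (A := A) U) := by
    rw [Ideal.map_pow, ← hUe, ← Ideal.map_pow]
    exact Ideal.mem_map_of_mem _ ha
  exact Submodule.smul_mem_smul h1 Submodule.mem_top

theorem killedBy_of_locEq {I I' : Ideal A} (h : LocEq X I I') (n : ℕ) {M : X.Modules}
    [M.IsQuasicoherent] (hM : Formal.KilledBy (I' ^ n) M) : Formal.KilledBy (I ^ n) M := by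
  rw [killedBy_iff] at hM ⊢
  exact kills_of_locEq h n hM

theorem isQuot_of_locEq {I I' : Ideal A} (hle : I' ≤ I) (h : LocEq X I I') (n : ℕ)
    {M N : X.Modules} [M.IsQuasicoherent] {p : M ⟶ N} (hp : IsQuot (I' ^ n) p) :
    IsQuot (I ^ n) p :=
  ⟨hp.epi, kills_of_locEq h n hp.kills,
    fun {_} f hf => hp.fac f (hf.mono (Ideal.pow_right_mono hle n))⟩

theorem isQuot_of_locEq' {I I' : Ideal A} (hle : I' ≤ I) (h : LocEq X I I') (n : ℕ)
    {M N : X.Modules} [M.IsQuasicoherent] {p : M ⟶ N} (hp : IsQuot (I ^ n) p) :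
    IsQuot (I' ^ n) p :=
  ⟨hp.epi, hp.kills.mono (Ideal.pow_right_mono hle n),
    fun {_} f hf => hp.fac f (kills_of_locEq h n hf)⟩

/-- on a Noetherian scheme every ideal of the base ring can be replaced by a finitely generated
subideal with the same extension to `O_X` -/
theorem exists_fg_locEq [IsNoetherian X] (I : Ideal A) :
    ∃ I' : Ideal A, I' ≤ I ∧ I'.FG ∧ LocEq X I I' := by
  classical
  have hcov : ∀ x : X, ∃ U : X.Opens, IsAffineOpen U ∧ x ∈ U := fun x => by
    obtain ⟨U, hU, hx⟩ := Groth.Agent.Helper4.QcohLimits.exists_affine_nhd x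
    exact ⟨U, hU, hx⟩
  choose U hU hxU using hcov
  obtain ⟨T, hT⟩ := isCompact_univ.elim_finite_subcover (fun x => ((U x : X.Opens) : Set X))
    (fun x => (U x).isOpen) (fun x _ => Set.mem_iUnion.2 ⟨x, hxU x⟩)
  have hfin : ∀ y : X, ∃ S : Finset A, (↑S : Set A) ⊆ (I : Set A) ∧
      I.map (ρ (A := A) (U y)) = Ideal.span ((ρ (A := A) (U y)) '' (↑S : Set A)) := by
    intro y
    haveI : IsNoetherianRing Γ(X, U y) := IsLocallyNoetherian.component_noetherian ⟨U y, hU y⟩
    have hfg : (Ideal.span ((ρ (A := A) (U y)) '' (I : Set A))).FG :=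
      IsNoetherian.noetherian _
    obtain ⟨s', hs's, hss'⟩ := (Submodule.fg_span_iff_fg_span_finset_subset _).1 hfg
    have hpre : ∀ z ∈ s', ∃ a, a ∈ I ∧ ρ (A := A) (U y) a = z := fun z hz => hs's hz
    choose! g hgI hgz using hpre
    refine ⟨s'.image g, ?_, ?_⟩
    · intro a ha
      obtain ⟨z, hz, rfl⟩ := Finset.mem_image.1 (Finset.mem_coe.1 ha)
      exact hgI z hz
    · have h1 : (ρ (A := A) (U y)) '' (↑(s'.image g) : Set A) = (↑s' : Set Γ(X, U y)) := by
        ext z
        constructor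
        · rintro ⟨a, ha, rfl⟩
          obtain ⟨w, hw, rfl⟩ := Finset.mem_image.1 (Finset.mem_coe.1 ha)
          rw [hgz w hw]
          exact hw
        · intro hz
          exact ⟨g z, Finset.mem_coe.2 (Finset.mem_image.2 ⟨z, hz, rfl⟩), hgz z hz⟩
      rw [h1]
      exact hss'
  choose S hSI hSspan using hfin
  have hI'le : Ideal.span (↑(T.biUnion S) : Set A) ≤ I := by
    rw [Ideal.span_le]
    intro a ha
    obtain ⟨y, -, hay⟩ := Finset.mem_biUnion.1 (Finset.mem_coe.1 ha)
    exact hSI y (Finset.mem_coe.2 hay)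
  refine ⟨Ideal.span (↑(T.biUnion S) : Set A), hI'le, ⟨T.biUnion S, rfl⟩, ?_⟩
  intro x
  obtain ⟨y, hy⟩ := Set.mem_iUnion.1 (hT (Set.mem_univ x))
  obtain ⟨hyT, hxy⟩ := Set.mem_iUnion.1 hy
  refine ⟨U y, hU y, hxy, le_antisymm ?_ (Ideal.map_mono hI'le)⟩
  rw [hSspan y, Ideal.span_le]
  rintro _ ⟨a, ha, rfl⟩
  refine Ideal.mem_map_of_mem _ (Ideal.subset_span ?_)
  exact Finset.mem_coe.2 (Finset.mem_biUnion.2 ⟨y, hyT, Finset.mem_coe.1 ha⟩)

/-- the transition maps of a completion are quotient maps -/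
theorem hasQuotTrans_completion (I : Ideal A) (M : X.Modules) :
    HasQuotTrans I (Formal.completion I M) := by
  intro n
  have h1 : (Formal.completion I M).map (homOfLE (Nat.le_succ n)).op =
      Formal.modPowTrans I (n + 1) M := completion_map_succ M n
  haveI : Epi (Formal.modPowπ I (n + 1 + 1) M) := (isQuot_modPowπ I (n + 1 + 1) M).epi
  have h2 : IsQuot (I ^ (n + 1))
      (Formal.modPowπ I (n + 1 + 1) M ≫ Formal.modPowTrans I (n + 1) M) := by
    rw [Formal.modPowπ_trans]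
    exact isQuot_modPowπ I (n + 1) M
  have h3 : IsQuot (I ^ (n + 1)) (Formal.modPowTrans I (n + 1) M) :=
    IsQuot.of_epi_comp (Formal.modPowπ I (n + 1 + 1) M) h2
  rw [h1]
  exact h3

/-- **the easy existence lemma** (S0829) -/
theorem exists_easy_left (A : Type u) [CommRing A] (I : Ideal A) (X : Scheme.{u})
    [X.Over (Spec (CommRingCat.of A))] [IsNoetherian X] (G : X.Modules) (hG : Coh.IsCoh G)
    (F : ℕᵒᵖ ⥤ X.Modules) (hF : Formal.IsCohFormal I F) (α : F ⟶ Formal.completion I G)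
    (hα : Formal2.KerCokerKilledByIPow I α) :
    ∃ (F' : X.Modules) (a : F' ⟶ G) (β : F ≅ Formal.completion I F'), Coh.IsCoh F' ∧
      Formal2.KerCokerKilledByIPowHom I a ∧
      ∀ n : ℕ, Formal.modPowπ I (n + 1) F' ≫ β.inv.app (op n) ≫ α.app (op n) =
        a ≫ Formal.modPowπ I (n + 1) G := by
  obtain ⟨I', hle, hfg, hloc⟩ := exists_fg_locEq (X := X) I
  obtain ⟨r, g, hg⟩ := Submodule.fg_iff_exists_fin_generating_family.1 hfg
  have hmem : ∀ i, g i ∈ I' := fun i => by
    rw [← hg]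
    exact Submodule.subset_span (Set.mem_range_self i)
  let a : Fin r → I' := fun i => ⟨g i, hmem i⟩
  have ha : Ideal.span (Set.range fun i => (a i : A)) = I' := hg
  obtain ⟨t, ht⟩ := hα
  obtain ⟨hcF, hkF, hqF⟩ := (isCohFormal_iff F).1 hF
  haveI hGq : G.IsQuasicoherent := hG.1
  -- `F` is a coherent formal module for `I'`
  have hF' : Formal.IsCohFormal I' F := by
    rw [isCohFormal_iff]
    refine ⟨hcF, fun n => killedBy_mono (Ideal.pow_right_mono hle _) (hkF n), fun n => ?_⟩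
    haveI : (F.obj (op (n + 1))).IsQuasicoherent := (hcF (n + 1)).1
    exact isQuot_of_locEq' hle hloc (n + 1) (hqF n)
  -- so is the completion of `G`
  have hπG : ∀ n, IsQuot (I' ^ (n + 1)) (cq I G n) := fun n =>
    isQuot_of_locEq' hle hloc (n + 1) (isQuot_cq I G n)
  have hcGs : ∀ n, Coh.IsCoh ((Formal.completion I G).obj (op n)) := fun n =>
    Groth.Agent.Lead.PerfLib.isCoh_of_iso ((isQuot_modPowπ I' (n + 1) G).iso (hπG n))
      (isCoh_modPow_of_fg hfg (n + 1) G hG)
  have hGs : Formal.IsCohFormal I' (Formal.completion I G) := by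
    rw [isCohFormal_iff]
    refine ⟨hcGs, fun n => killedBy_mono (Ideal.pow_right_mono hle _) (isQuot_cq I G n).killedBy,
      fun n => ?_⟩
    haveI : ((Formal.completion I G).obj (op (n + 1))).IsQuasicoherent := (hcGs (n + 1)).1
    exact isQuot_of_locEq' hle hloc (n + 1) (hasQuotTrans_completion I G n)
  obtain ⟨F', f, ρ, hF'c, hkf, hcf, hρq, hρc, hρα⟩ := exists_easy_left_fg a ha G hG
    (Formal.completion I G) hGs (cq I G) hπG (cq_τ I G) F hF' α t
    (fun n => ⟨killedBy_mono (Ideal.pow_right_mono hle _) (ht n).1,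
      killedBy_mono (Ideal.pow_right_mono hle _) (ht n).2⟩)
  haveI : F'.IsQuasicoherent := hF'c.1
  have hρq' : ∀ n, IsQuot (I ^ (n + 1)) (ρ n) := fun n => isQuot_of_locEq hle hloc (n + 1) (hρq n)
  obtain ⟨e, he⟩ := Form.exists_completion_iso (I := I) F' F ρ hρq' hρc
  haveI : (kernel f).IsQuasicoherent :=
    (Groth.Agent.Lead.PerfLib.isCoh_kernel hF'c hG f).1
  haveI : (cokernel f).IsQuasicoherent :=
    (Groth.Agent.Lead.PerfLib.isCoh_cokernel hF'c hG f).1
  refine ⟨F', f, e.symm, hF'c,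
    ⟨t, killedBy_of_locEq hloc (t + 1) hkf, killedBy_of_locEq hloc (t + 1) hcf⟩, fun n => ?_⟩
  have h1 := he n
  calc Formal.modPowπ I (n + 1) F' ≫ e.symm.inv.app (op n) ≫ α.app (op n)
      = (Formal.modPowπ I (n + 1) F' ≫ e.hom.app (op n)) ≫ α.app (op n) :=
        (Category.assoc _ _ _).symm
    _ = ρ n ≫ α.app (op n) := congrArg (fun x => x ≫ α.app (op n)) h1
    _ = f ≫ Formal.modPowπ I (n + 1) G := hρα n

end Groth.Agent.Lead.GEx
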