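import Mathlib
import Groth.Prelude.Def_FlatMod2
import Groth.Prelude.Def_Coh
import Groth.Agent.Lead.RegDimOne
import Groth.Agent.Helper1.RegGlobalDim

/-!
# Regular schemes of dimension ≤ 2: reflexive coherent modules are locally free (S1689)
-/

set_option autoImplicit false
universe u
open CategoryTheory CategoryTheory.Limits AlgebraicGeometry TopologicalSpace

namespace Groth.Agent.Lead.RegDimTwo

variable {R : Type u} [CommRing R]

theorem finite_dual [IsNoetherianRing R] (M : Type u) [AddCommGroup M] [Module R M]
    [Module.Finite R M] : Module.Finite R (Module.Dual R M) := by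
  obtain ⟨n, f, hf⟩ := Module.Finite.exists_fin' R M
  have hinj : Function.Injective f.dualMap := LinearMap.dualMap_injective_of_surjective hf
  exact Module.Finite.of_injective f.dualMap hinj

open Groth.Agent.Helper1.TorLib in
theorem projective_ker_of_pd (P Q : Type u) [AddCommGroup P] [Module R P] [AddCommGroup Q]
    [Module R Q] [Module.Projective R P] [Module.Projective R Q] (φ : P →ₗ[R] Q)
    (h : HasProjectiveDimensionLT (ModuleCat.of R (Q ⧸ LinearMap.range φ)) 3) :
    Module.Projective R (LinearMap.ker φ) := by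
  have hex1 : Function.Exact (LinearMap.range φ).subtype (LinearMap.range φ).mkQ :=
    LinearMap.exact_subtype_mkQ _
  have hS1 := scOfLinear_shortExact (LinearMap.range φ).subtype (LinearMap.range φ).mkQ
    (Submodule.subtype_injective _) (Submodule.mkQ_surjective _) hex1
  have hQ : Projective (scOfLinear (LinearMap.range φ).subtype (LinearMap.range φ).mkQ hex1).X₂ := by
    show Projective (ModuleCat.of R Q)
    rw [← IsProjective.iff_projective]
    infer_instance
  have h1 : HasProjectiveDimensionLT (ModuleCat.of R (LinearMap.range φ)) 2 :=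
    (hS1.hasProjectiveDimensionLT_X₃_iff 1 hQ).mp h
  have hex2 : Function.Exact (LinearMap.ker φ).subtype φ.rangeRestrict := by
    rw [LinearMap.exact_iff, LinearMap.ker_rangeRestrict, Submodule.range_subtype]
  have hS2 := scOfLinear_shortExact (LinearMap.ker φ).subtype φ.rangeRestrict
    (Submodule.subtype_injective _) φ.surjective_rangeRestrict hex2
  have hP : Projective (scOfLinear (LinearMap.ker φ).subtype φ.rangeRestrict hex2).X₂ := by
    show Projective (ModuleCat.of R P)
    rw [← IsProjective.iff_projective]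
    infer_instance
  have h2 : HasProjectiveDimensionLT (ModuleCat.of R (LinearMap.ker φ)) 1 :=
    (hS2.hasProjectiveDimensionLT_X₃_iff 0 hP).mp h1
  rw [← projective_iff_hasProjectiveDimensionLT_one, ← IsProjective.iff_projective] at h2
  exact h2

/-- a finite reflexive module over a regular local ring of dimension `≤ 2` is free. -/
theorem free_of_reflexive_of_regular_dim_le_two (R : Type u) [CommRing R] [IsRegularLocalRing R]
    (h : ringKrullDim R ≤ 2) (M : Type u) [AddCommGroup M] [Module R M] [Module.Finite R M]
    [Module.IsReflexive R M] : Module.Free R M := by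
  -- global dimension `≤ 2`
  have hgd : ∀ N : ModuleCat.{u} R, HasProjectiveDimensionLT N 3 := by
    intro N
    have hne : ringKrullDim R ≠ ⊥ := ringKrullDim_ne_bot
    have hnt : ringKrullDim R ≠ ⊤ := by
      intro ht
      rw [ht] at h
      exact absurd h (by decide)
    obtain ⟨d, hd⟩ : ∃ d : ℕ, ringKrullDim R = d := by
      obtain ⟨e, he⟩ := WithBot.ne_bot_iff_exists.mp hne
      have het : e ≠ ⊤ := by
        rintro rfl
        exact hnt he.symm
      exact ⟨e.toNat, by rw [← he, ← ENat.coe_toNat het]; rfl⟩
    have hd2 : d ≤ 2 := by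
      rw [hd] at h
      exact_mod_cast h
    have := Groth.Agent.Helper1.TorLib.hasProjectiveDimensionLT_of_isRegularLocalRing d hd N
    exact hasProjectiveDimensionLT_of_ge N (d + 1) 3 (by omega)
  haveI hD : Module.Finite R (Module.Dual R M) := finite_dual M
  obtain ⟨n, π, hπ⟩ := Module.Finite.exists_fin' R (Module.Dual R M)
  haveI : Module.Finite R (LinearMap.ker π) := inferInstance
  obtain ⟨m, ρ, hρ⟩ := Module.Finite.exists_fin' R (LinearMap.ker π)
  let ψ : (Fin m → R) →ₗ[R] (Fin n → R) := (LinearMap.ker π).subtype ∘ₗ ρ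
  have hψ : LinearMap.range ψ = LinearMap.ker π := by
    rw [LinearMap.range_comp, LinearMap.range_eq_top.mpr hρ, Submodule.map_top,
      Submodule.range_subtype]
  have hproj : Module.Projective R (LinearMap.ker ψ.dualMap) :=
    projective_ker_of_pd _ _ ψ.dualMap (hgd _)
  let e1 : M ≃ₗ[R] Module.Dual R (Module.Dual R M) := Module.evalEquiv R M
  let e2 : Module.Dual R (Module.Dual R M) ≃ₗ[R] Module.Dual R ((Fin n → R) ⧸ LinearMap.ker π) :=
    (π.quotKerEquivOfSurjective hπ).dualMap
  let e3 : Module.Dual R ((Fin n → R) ⧸ LinearMap.ker π) ≃ₗ[R] (LinearMap.ker π).dualAnnihilator :=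
    Submodule.dualQuotEquivDualAnnihilator _
  have h4 : (LinearMap.ker π).dualAnnihilator = LinearMap.ker ψ.dualMap := by
    rw [LinearMap.ker_dualMap_eq_dualAnnihilator_range, hψ]
  let e : M ≃ₗ[R] LinearMap.ker ψ.dualMap := e1 ≪≫ₗ e2 ≪≫ₗ e3 ≪≫ₗ LinearEquiv.ofEq _ _ h4
  haveI : Module.Projective R M := Module.Projective.of_equiv e.symm
  haveI : Module.Flat R M := Module.Flat.of_projective
  exact Module.free_of_flat_of_isLocalRing

theorem reflexive_iff_isFinLocFree (X : Scheme.{u}) [IsLocallyNoetherian X]
    (hreg : ∀ x : ↥X, IsRegularLocalRing (X.presheaf.stalk x))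
    (hdim : topologicalKrullDim ↥X ≤ 2) (F : X.Modules) (hF : Coh.IsCoh F) :
    (∀ x : ↥X, Module.IsReflexive (X.presheaf.stalk x) (F.presheaf.stalk x)) ↔
      FlatMod.IsFinLocFree F := by
  haveI : F.IsQuasicoherent := hF.1
  constructor
  · intro h
    apply Groth.Agent.Helper4.FinLocFree2.isFinLocFree_of_fp_of_free_stalks F
      (Groth.Agent.Helper4.CohFP.isFP_of_isCoh F hF.1 hF.2)
    intro x
    haveI := hreg x
    haveI := h x
    haveI := Groth.Agent.Helper4.FinLocFree2.finite_stalk F hF.2 x
    exact free_of_reflexive_of_regular_dim_le_two _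
      ((Groth.Agent.Lead.RegDimOne.ringKrullDim_stalk_le_dim X x).trans hdim) _
  · intro h x
    haveI := Groth.Agent.Helper4.FinLocFree2.free_stalk_of_isFinLocFree F h x
    haveI := Groth.Agent.Helper4.FinLocFree2.finite_stalk F hF.2 x
    infer_instance

end Groth.Agent.Lead.RegDimTwo
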