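import Mathlib
import Groth.Prelude.Def_Coh
import Groth.Prelude.Def_FlatMod2
import Groth.Prelude.Def_TorSh
import Groth.Agent.Lead.RegDimTwo
import Groth.Agent.Helper4.StalkExact
import Groth.Agent.Helper4.EpiStalk
import Groth.Agent.Lead.PerfLib5
import Groth.Agent.Helper4.CohFP

set_option autoImplicit false
universe u
open CategoryTheory CategoryTheory.Limits AlgebraicGeometry TopologicalSpace

namespace Groth.Agent.Lead.SurfKer

section Alg

/-- a finite torsion-free module over a domain embeds in a finite free module. -/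
theorem exists_injective_to_free (R : Type u) [CommRing R] [IsDomain R] (N : Type u)
    [AddCommGroup N] [Module R N] [Module.Finite R N] [Module.IsTorsionFree R N] :
    ∃ (n : ℕ) (f : N →ₗ[R] (Fin n → R)), Function.Injective f := by
  classical
  let K := FractionRing R
  let V := LocalizedModule (nonZeroDivisors R) N
  let ι : N →ₗ[R] V := LocalizedModule.mkLinearMap (nonZeroDivisors R) N
  have hι : Function.Injective ι := by
    rw [← LinearMap.ker_eq_bot, LinearMap.ker_eq_bot']
    intro x hx
    obtain ⟨c, hc⟩ := (IsLocalizedModule.eq_zero_iff (nonZeroDivisors R) ι).mp hx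
    have hreg : IsSMulRegular N (c : R) :=
      Module.IsTorsionFree.isSMulRegular (isRegular_of_ne_zero (nonZeroDivisors.ne_zero c.2))
    apply hreg
    change (c : R) • x = (c : R) • (0 : N)
    rw [smul_zero]
    exact hc
  haveI : Module.Finite K V := inferInstance
  let b := Module.finBasis K V
  set n := Module.finrank K V with hn
  obtain ⟨S, hS⟩ := (Module.Finite.fg_top : (⊤ : Submodule R N).FG)
  let T : Finset K := (S ×ˢ (Finset.univ : Finset (Fin n))).image (fun p => b.repr (ι p.1) p.2)
  obtain ⟨s, hs⟩ := IsLocalization.exist_integer_multiples_of_finset (nonZeroDivisors R) T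
  let g : N →ₗ[R] (Fin n → K) :=
    { toFun := fun x i => (s : R) • b.repr (ι x) i
      map_add' := fun x y => by
        funext i
        simp [smul_add]
      map_smul' := fun r x => by
        funext i
        simp only [map_smul, RingHom.id_apply, Pi.smul_apply]
        have h1 : b.repr (r • ι x) = r • b.repr (ι x) :=
          LinearMap.map_smul_of_tower (b.repr : V →ₗ[K] (Fin n →₀ K)) r (ι x)
        rw [h1, Finsupp.smul_apply, smul_comm] }
  let h : (Fin n → R) →ₗ[R] (Fin n → K) := (Algebra.linearMap R K).compLeft (Fin n)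
  have hinj : Function.Injective h := by
    intro a c hac
    funext i
    have := congrFun hac i
    exact IsFractionRing.injective R K this
  have hmem : ∀ x, g x ∈ LinearMap.range h := by
    have key : (⊤ : Submodule R N) ≤ (LinearMap.range h).comap g := by
      rw [← hS, Submodule.span_le]
      intro x hx
      have hx' : ∀ i, ∃ r : R, algebraMap R K r = (s : R) • b.repr (ι x) i := by
        intro i
        apply hs
        exact Finset.mem_image.mpr ⟨(x, i), Finset.mem_product.mpr ⟨hx, Finset.mem_univ _⟩, rfl⟩
      choose r hr using hx'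
      exact ⟨r, funext fun i => hr i⟩
    intro x
    exact key (Submodule.mem_top)
  have hginj : Function.Injective g := by
    rw [← LinearMap.ker_eq_bot, LinearMap.ker_eq_bot']
    intro x hx
    apply hι
    rw [map_zero]
    apply b.repr.injective
    rw [map_zero]
    ext i
    have h1 : (s : R) • b.repr (ι x) i = 0 := congrFun hx i
    rw [Algebra.smul_def, mul_eq_zero] at h1
    rcases h1 with h1 | h1
    · exfalso
      exact nonZeroDivisors.ne_zero s.2 (IsFractionRing.injective R K (by rw [h1, map_zero]))
    · simpa using h1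
  refine ⟨n, (LinearEquiv.ofInjective h hinj).symm.toLinearMap ∘ₗ
    g.codRestrict (LinearMap.range h) hmem, ?_⟩
  rw [LinearMap.coe_comp]
  exact (LinearEquiv.injective _).comp ((LinearMap.injective_codRestrict_iff hmem).mpr hginj)

theorem hasProjectiveDimensionLT_three (R : Type u) [CommRing R] [IsRegularLocalRing R]
    (h : ringKrullDim R ≤ 2) (N : ModuleCat.{u} R) : HasProjectiveDimensionLT N 3 := by
  have hne : ringKrullDim R ≠ ⊥ := ringKrullDim_ne_bot
  have hnt : ringKrullDim R ≠ ⊤ := by
    intro ht
    rw [ht] at h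
    exact absurd h (by decide)
  obtain ⟨d, hd⟩ : ∃ d : ℕ, ringKrullDim R = d := by
    obtain ⟨e, he⟩ := WithBot.ne_bot_iff_exists.mp hne
    have het : e ≠ ⊤ := by
      rintro rfl
      exact hnt he.symm
    exact ⟨e.toNat, by rw [← he, ← ENat.coe_toNat het]; rfl⟩
  have hd2 : d ≤ 2 := by
    rw [hd] at h
    exact_mod_cast h
  have := Groth.Agent.Helper1.TorLib.hasProjectiveDimensionLT_of_isRegularLocalRing d hd N
  exact hasProjectiveDimensionLT_of_ge N (d + 1) 3 (by omega)

/-- over a regular local ring of dimension `≤ 2`, the kernel of a map from a finite free module to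
a finite torsion-free module is free. -/
theorem free_ker_of_torsionFree (R : Type u) [CommRing R] [IsRegularLocalRing R]
    (h : ringKrullDim R ≤ 2) (P T : Type u) [AddCommGroup P] [Module R P] [AddCommGroup T]
    [Module R T] [Module.Free R P] [Module.Finite R P] [Module.Finite R T]
    [Module.IsTorsionFree R T] (φ : P →ₗ[R] T) : Module.Free R (LinearMap.ker φ) := by
  haveI : IsDomain R := Groth.Agent.Lead.RegLocal.isDomain_of_isRegularLocalRing R
  obtain ⟨n, f, hf⟩ := exists_injective_to_free R T
  have hker : LinearMap.ker (f ∘ₗ φ) = LinearMap.ker φ :=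
    LinearMap.ker_comp_of_ker_eq_bot φ (LinearMap.ker_eq_bot.mpr hf)
  have hproj : Module.Projective R (LinearMap.ker (f ∘ₗ φ)) :=
    Groth.Agent.Lead.RegDimTwo.projective_ker_of_pd _ _ (f ∘ₗ φ)
      (hasProjectiveDimensionLT_three R h _)
  rw [hker] at hproj
  haveI : Module.Flat R (LinearMap.ker φ) := Module.Flat.of_projective
  haveI : Module.Finite R (LinearMap.ker φ) := inferInstance
  exact Module.free_of_flat_of_isLocalRing

end Alg

section Sch
open Groth.Agent.Helper4 Groth.Agent.Helper4.StalkDict Groth.Agent.Helper4.StalkExact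

theorem isFinLocFree_kernel_of_torsionFree (X : Scheme.{u}) [IsLocallyNoetherian X]
    (hreg : ∀ x : X, IsRegularLocalRing (X.presheaf.stalk x))
    (hdim : topologicalKrullDim ↥X ≤ 2) (N : X.Modules) (hN : Coh.IsCoh N)
    (hNtf : TorSh.IsTorsionFree N) (M : X.Modules) (hM : FlatMod.IsFinLocFree M) (φ : M ⟶ N) :
    FlatMod.IsFinLocFree (kernel φ) := by
  have hMc : Coh.IsCoh M := Groth.Agent.Lead.PerfLib.isCoh_of_isFinLocFree hM
  have hKc : Coh.IsCoh (kernel φ) := Groth.Agent.Lead.PerfLib.isCoh_kernel hMc hN φ
  haveI : (kernel φ).IsQuasicoherent := hKc.1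
  haveI : M.IsQuasicoherent := hMc.1
  haveI : N.IsQuasicoherent := hN.1
  apply FinLocFree2.isFinLocFree_of_fp_of_free_stalks (kernel φ)
    (CohFP.isFP_of_isCoh (kernel φ) hKc.1 hKc.2)
  intro x
  haveI := hreg x
  haveI := FinLocFree2.free_stalk_of_isFinLocFree M hM x
  haveI := FinLocFree2.finite_stalk M hMc.2 x
  haveI := FinLocFree2.finite_stalk N hN.2 x
  haveI := hNtf x
  have hfree : Module.Free (X.presheaf.stalk x) (LinearMap.ker (stalkLin φ x)) :=
    free_ker_of_torsionFree _
      ((Groth.Agent.Lead.RegDimOne.ringKrullDim_stalk_le_dim X x).trans hdim) _ _ (stalkLin φ x)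
  -- the stalk of the kernel is the kernel of the stalk map
  let S : ShortComplex X.Modules := ShortComplex.mk (kernel.ι φ) φ (kernel.condition φ)
  have hS : S.Exact := ShortComplex.exact_of_f_is_kernel _ (kernelIsKernel φ)
  haveI : Mono S.f := inferInstanceAs (Mono (kernel.ι φ))
  have hex : Function.Exact (stalkLin (kernel.ι φ) x) (stalkLin φ x) := stalkLin_exact S hS x
  have hinj : Function.Injective (stalkLin (kernel.ι φ) x) := stalkLin_injective (kernel.ι φ) x
  have hrange : LinearMap.range (stalkLin (kernel.ι φ) x) = LinearMap.ker (stalkLin φ x) :=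
    (LinearMap.exact_iff.mp hex).symm
  let e : (kernel φ).presheaf.stalk x ≃ₗ[X.presheaf.stalk x] LinearMap.ker (stalkLin φ x) :=
    (LinearEquiv.ofInjective _ hinj) ≪≫ₗ LinearEquiv.ofEq _ _ hrange
  exact Module.Free.of_equiv e.symm

end Sch

end Groth.Agent.Lead.SurfKer
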