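import Mathlib
import Groth.Prelude.Def_MeroDiv
import Groth.Agent.Lead.MeroE

/-!
# Extending functions on a schematically dense open to meromorphic functions
-/

set_option autoImplicit false
set_option linter.style.haveILetI false
set_option linter.unusedSectionVars false

universe u

open CategoryTheory CategoryTheory.Limits AlgebraicGeometry TopologicalSpace Opposite IsLocalRing

namespace Groth.Agent.Lead.MeroH

open Mero Groth.Agent.Lead.MeroB Groth.Agent.Lead.MeroD Groth.Agent.Lead.MeroE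

/-- in a reduced ring with finitely many minimal primes, an ideal consisting of zero-divisors is
killed by a nonzero element -/
theorem exists_ne_zero_mul_eq_zero_of_reduced {A : Type*} [CommRing A] [IsReduced A]
    (hfin : (minimalPrimes A).Finite) (I : Ideal A)
    (h : Disjoint (I : Set A) (nonZeroDivisors A)) : ∃ x : A, x ≠ 0 ∧ ∀ a ∈ I, a * x = 0 := by
  classical
  have hnil : sInf (minimalPrimes A) = (⊥ : Ideal A) := by
    have := Ideal.sInf_minimalPrimes (I := (⊥ : Ideal A))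
    rw [show (⊥ : Ideal A).minimalPrimes = minimalPrimes A from rfl] at this
    rw [this]
    exact nilradical_eq_zero A
  have h1 : (I : Set A) ⊆ ⋃ p ∈ minimalPrimes A, (p : Set A) := by
    intro a ha
    have hna : a ∉ nonZeroDivisors A := fun h' => Set.disjoint_left.mp h ha h'
    rw [mem_nonZeroDivisors_iff_right] at hna
    push Not at hna
    obtain ⟨b, hba, hb⟩ := hna
    have hb' : b ∉ sInf (minimalPrimes A) := by rw [hnil]; exact hb
    rw [Ideal.mem_sInf] at hb'
    push Not at hb'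
    obtain ⟨p, hp, hbp⟩ := hb'
    refine Set.mem_iUnion₂.mpr ⟨p, hp, ?_⟩
    have : b * a ∈ p := by rw [hba]; exact p.zero_mem
    exact (hp.1.1.mem_or_mem this).resolve_left hbp
  obtain ⟨p, hp, hIp⟩ := (Ideal.subset_union_prime_finite hfin (f := id) ⊥ ⊥
    (fun q hq _ _ => hq.1.1)).mp h1
  have hpp : p.IsPrime := hp.1.1
  let s : Finset (Ideal A) := hfin.toFinset.erase p
  have hJ : ¬ s.inf id ≤ p := by
    intro hle
    obtain ⟨q, hq, hqp⟩ := (Ideal.IsPrime.inf_le' hpp).mp hle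
    rw [Finset.mem_erase, Set.Finite.mem_toFinset] at hq
    have : p ≤ q := hp.2 ⟨hq.2.1.1, bot_le⟩ hqp
    exact hq.1 (le_antisymm hqp this)
  obtain ⟨x, hxJ, hxp⟩ := SetLike.not_le_iff_exists.mp hJ
  refine ⟨x, fun h0 => hxp (h0 ▸ p.zero_mem), fun a ha => ?_⟩
  have : a * x ∈ sInf (minimalPrimes A) := by
    rw [Ideal.mem_sInf]
    intro q hq
    by_cases hqp : q = p
    · subst hqp
      exact q.mul_mem_right _ (hIp ha)
    · have hqs : q ∈ s := by
        rw [Finset.mem_erase, Set.Finite.mem_toFinset]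
        exact ⟨hqp, hq⟩
      have : s.inf id ≤ q := Finset.inf_le hqs
      exact q.mul_mem_left _ (this hxJ)
  rw [hnil] at this
  exact this


/-- irreducible components of the source of an open embedding come from the target -/
theorem finite_irreducibleComponents_of_isOpenEmbedding {Y X : Type*} [TopologicalSpace Y]
    [TopologicalSpace X] {f : Y → X} (hf : Topology.IsOpenEmbedding f)
    (hfin : {Z : Set X | Z ∈ irreducibleComponents X ∧ (Z ∩ Set.range f).Nonempty}.Finite) :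
    (irreducibleComponents Y).Finite := by
  refine (hfin.image (fun Z => f ⁻¹' Z)).subset ?_
  intro T hT
  have hTi : IsIrreducible T := hT.1
  have h1 : IsIrreducible (closure (f '' T)) :=
    (hTi.image f hf.continuous.continuousOn).closure
  obtain ⟨Z, hZ, hZs⟩ := exists_mem_irreducibleComponents_subset_of_isIrreducible _ h1
  have hne : (Z ∩ Set.range f).Nonempty := by
    obtain ⟨t, ht⟩ := hTi.1
    exact ⟨f t, hZs (subset_closure ⟨t, ht, rfl⟩), ⟨t, rfl⟩⟩
  have h2 := preimage_mem_irreducibleComponents hZ hf hne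
  have h3 : T ⊆ f ⁻¹' Z := fun t ht => hZs (subset_closure ⟨t, ht, rfl⟩)
  have h4 : f ⁻¹' Z ⊆ T := hT.2 h2.1 h3
  exact ⟨Z, ⟨hZ, hne⟩, (Set.Subset.antisymm h3 h4).symm⟩

variable {X : Scheme.{u}}

theorem finite_minimalPrimes_of_finite {W : X.Opens} (hW : IsAffineOpen W)
    (hfin : {Z : Set X | Z ∈ irreducibleComponents X ∧ (Z ∩ (W : Set X)).Nonempty}.Finite) :
    (minimalPrimes Γ(X, W)).Finite := by
  rw [← PrimeSpectrum.vanishingIdeal_irreducibleComponents]
  apply Set.Finite.image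
  have hf : Topology.IsOpenEmbedding hW.fromSpec := hW.fromSpec.isOpenEmbedding
  apply finite_irreducibleComponents_of_isOpenEmbedding hf
  have : Set.range hW.fromSpec = (W : Set X) := hW.range_fromSpec
  rw [this]
  exact hfin


/-- the ideal of functions `h` on `W` with `D(h) ⊆ V` -/
def openIdeal (W V : X.Opens) : Ideal Γ(X, W) where
  carrier := {h | X.basicOpen h ≤ V}
  zero_mem' := by
    rw [Set.mem_setOf_eq, Scheme.basicOpen_zero]
    exact bot_le
  add_mem' := by
    intro a b ha hb z hz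
    have hzW : z ∈ W := X.basicOpen_le _ hz
    rw [Scheme.mem_basicOpen X _ z hzW, map_add] at hz
    rcases IsLocalRing.isUnit_or_isUnit_of_isUnit_add hz with h | h
    · exact ha ((Scheme.mem_basicOpen X _ z hzW).mpr h)
    · exact hb ((Scheme.mem_basicOpen X _ z hzW).mpr h)
  smul_mem' := by
    intro c a ha
    rw [Set.mem_setOf_eq, smul_eq_mul, Scheme.basicOpen_mul]
    exact inf_le_right.trans ha

/-- property (A)-like condition on a ring: ideals of zero-divisors have nonzero annihilators -/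
def HasAnn (A : Type*) [CommRing A] : Prop :=
  ∀ I : Ideal A, Disjoint (I : Set A) (nonZeroDivisors A) → ∃ x : A, x ≠ 0 ∧ ∀ a ∈ I, a * x = 0

theorem hasAnn_of_isNoetherianRing (A : Type*) [CommRing A] [IsNoetherianRing A] : HasAnn A := by
  intro I hI
  have h := Ideal.bot_lt_annihilator_of_disjoint_nonZeroDivisors hI
  obtain ⟨x, hx, hx0⟩ := SetLike.exists_of_lt h
  refine ⟨x, fun h0 => hx0 (by rw [h0]; exact Submodule.zero_mem _), fun a ha => ?_⟩
  have := Module.mem_annihilator.mp hx ⟨a, ha⟩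
  have h2 := congrArg Subtype.val this
  simp only [Submodule.coe_smul, smul_eq_mul, ZeroMemClass.coe_zero] at h2
  rw [mul_comm]
  exact h2

theorem exists_nonZeroDivisor_basicOpen_le {W V : X.Opens} (hW : IsAffineOpen W)
    (hA : HasAnn Γ(X, W))
    (hV : Function.Injective (X.presheaf.map (homOfLE (inf_le_left : W ⊓ V ≤ W)).op)) :
    ∃ h ∈ nonZeroDivisors Γ(X, W), X.basicOpen h ≤ V := by
  by_contra hcon
  push Not at hcon
  have hdis : Disjoint (openIdeal W V : Set Γ(X, W)) (nonZeroDivisors Γ(X, W)) := by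
    rw [Set.disjoint_left]
    intro h hh hnz
    exact hcon h hnz hh
  obtain ⟨x₀, hx₀, hann⟩ := hA _ hdis
  apply hx₀
  apply hV
  rw [map_zero]
  apply section_ext'
  intro z hz
  rw [map_zero, TopCat.Presheaf.germ_res_apply]
  obtain ⟨f, hfV, hzf⟩ := hW.exists_basicOpen_le (V := V) ⟨z, hz.2⟩ hz.1
  have h1 : f * x₀ = 0 := hann f hfV
  have h2 := congrArg (X.presheaf.germ W z hz.1) h1
  rw [map_mul, map_zero] at h2
  have hu := (Scheme.mem_basicOpen X f z hz.1).mp hzf
  exact hu.mul_right_eq_zero.mp h2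


/-- two meromorphic functions agreeing on a schematically dense open agree -/
theorem eq_of_eq_on_dense {W V : X.Opens}
    (hV : ∀ W' : X.Opens, W' ≤ W →
      Function.Injective (X.presheaf.map (homOfLE (inf_le_left : W' ⊓ V ≤ W')).op))
    (t t' : Γ(kmod X, W)) (h : ∀ z : W, z.1 ∈ V → t.1 z = t'.1 z) : t = t' := by
  rw [← sub_eq_zero]
  apply kmod_ext
  intro y
  obtain ⟨V₀, hyV₀, hV₀W, a, b, hb, hab⟩ := exists_frac (t - t') y
  have ha : a = 0 := by
    apply hV V₀ hV₀W
    rw [map_zero]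
    apply section_ext'
    intro z hz
    rw [map_zero, TopCat.Presheaf.germ_res_apply]
    apply algebraMap_KStalk_injective z
    rw [map_zero, ← hab ⟨z, hz.1⟩]
    have : (t - t').1 ⟨z, hV₀W hz.1⟩ = 0 := by
      change t.1 ⟨z, hV₀W hz.1⟩ - t'.1 ⟨z, hV₀W hz.1⟩ = 0
      rw [h ⟨z, hV₀W hz.1⟩ hz.2, sub_self]
    simp only at this ⊢
    rw [this, zero_mul]
  have h1 := hab ⟨y.1, hyV₀⟩
  simp only at h1
  rw [ha, map_zero, map_zero] at h1
  have hbu : IsUnit (algebraMap _ (KStalk X y.1) (X.presheaf.germ V₀ y.1 hyV₀ b)) :=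
    IsLocalization.map_units (KStalk X y.1) (regGerm ⟨y.1, hyV₀⟩ ⟨b, hb⟩)
  exact hbu.mul_left_eq_zero.mp h1

theorem invReg_mul_toK {U : X.Opens} (s : regSub X U) : invReg s * toK X U s.1 = 1 := by
  rw [mul_comm]; exact toK_mul_invReg s

/-- local extension of a function on `V` to a meromorphic function on an affine open `W` in which
`V` contains the non-vanishing locus of a non-zero-divisor -/
theorem exists_local_extension {W V : X.Opens} (hW : IsAffineOpen W) (h : Γ(X, W))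
    (hh : h ∈ nonZeroDivisors Γ(X, W)) (hle : X.basicOpen h ≤ V) (g : Γ(X, V)) :
    ∃ s : Γ(kmod X, W), ∀ (z : W) (hz : z.1 ∈ V),
      s.1 z = algebraMap _ (KStalk X z.1) (X.presheaf.germ V z.1 hz g) := by
  have hreg : h ∈ regSub X W := by rw [regSub_eq_nonZeroDivisors hW]; exact hh
  haveI := hW.isLocalization_basicOpen h
  obtain ⟨n, a, hna⟩ := IsLocalization.Away.surj h (X.presheaf.map (homOfLE hle).op g)
  let hn : regSub X W := ⟨h ^ n, pow_mem hreg n⟩
  let s : Γ(kmod X, W) := toK X W a * invReg hn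
  -- key identity: `s * h^n = a`
  have hs : ∀ z : W, s.1 z * algebraMap _ (KStalk X z.1) (X.presheaf.germ W z.1 z.2 (h ^ n)) =
      algebraMap _ (KStalk X z.1) (X.presheaf.germ W z.1 z.2 a) := by
    intro z
    have e : s * toK X W (h ^ n) = toK X W a := by
      change toK X W a * invReg hn * toK X W hn.1 = toK X W a
      rw [mul_assoc, invReg_mul_toK, mul_one]
    have := congrArg (fun t : Γ(kmod X, W) => t.1 z) e
    exact this
  refine ⟨s, ?_⟩
  -- the difference vanishes on `D(h)`, hence on `W ⊓ V`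
  let d : Γ(kmod X, W ⊓ V) := (kmod X).presheaf.map (homOfLE (inf_le_left : W ⊓ V ≤ W)).op s -
    toK X (W ⊓ V) (X.presheaf.map (homOfLE (inf_le_right : W ⊓ V ≤ V)).op g)
  have hd : ∀ z : ↥(W ⊓ V), d.1 z = s.1 ⟨z.1, z.2.1⟩ -
      algebraMap _ (KStalk X z.1) (X.presheaf.germ V z.1 z.2.2 g) := by
    intro z
    change s.1 ⟨z.1, z.2.1⟩ - algebraMap _ (KStalk X z.1)
      (X.presheaf.germ (W ⊓ V) z.1 z.2 (X.presheaf.map (homOfLE (inf_le_right : W ⊓ V ≤ V)).op g)) = _
    rw [TopCat.Presheaf.germ_res_apply]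
  have hd0 : d = 0 := by
    apply eq_zero_of_basicOpen d (X.presheaf.map (homOfLE (inf_le_left : W ⊓ V ≤ W)).op h)
      (regSub_res _ hreg)
    intro z hz
    have hzh : z.1 ∈ X.basicOpen h := by
      rw [Scheme.mem_basicOpen X _ z.1 z.2.1]
      have := (Scheme.mem_basicOpen X _ z.1 z.2).mp hz
      rwa [TopCat.Presheaf.germ_res_apply] at this
    rw [hd]
    have e2 := congrArg (X.presheaf.germ (X.basicOpen h) z.1 hzh) hna
    rw [map_mul, map_pow] at e2
    have e3 : ∀ r : Γ(X, W), X.presheaf.germ (X.basicOpen h) z.1 hzh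
        (algebraMap Γ(X, W) Γ(X, X.basicOpen h) r) = X.presheaf.germ W z.1 z.2.1 r := fun r =>
      TopCat.Presheaf.germ_res_apply X.presheaf (homOfLE (X.basicOpen_le h)) z.1 hzh r
    rw [e3, e3, TopCat.Presheaf.germ_res_apply] at e2
    have hu : IsUnit (algebraMap _ (KStalk X z.1) (X.presheaf.germ W z.1 z.2.1 (h ^ n))) :=
      IsLocalization.map_units (KStalk X z.1) (regGerm ⟨z.1, z.2.1⟩ hn)
    apply hu.mul_left_eq_zero.mp
    rw [sub_mul, hs ⟨z.1, z.2.1⟩, ← map_mul, map_pow, e2, sub_self]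
  intro z hz
  have := hd ⟨z.1, ⟨z.2, hz⟩⟩
  rw [hd0] at this
  exact (sub_eq_zero.mp this.symm)


theorem s5086 (X : Scheme.{u})
    (hX : IsLocallyNoetherian X ∨ (IsReduced X ∧ ∀ x : ↥X, ∃ W : X.Opens, x ∈ W ∧
      {Z : Set ↥X | Z ∈ irreducibleComponents ↥X ∧ (Z ∩ (W : Set ↥X)).Nonempty}.Finite))
    (U V : X.Opens) (hVU : V ≤ U)
    (hV : ∀ W : X.Opens, W ≤ U →
      Function.Injective ⇑(X.presheaf.map (homOfLE (inf_le_left : W ⊓ V ≤ W)).op))
    (g : Γ(X, V)) :
    ∃ s : Γ(Mero.kmod X, U), (Mero.kmod X).presheaf.map (homOfLE hVU).op s = Mero.toK X V g := by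
  have hloc : ∀ y : U, ∃ W : X.Opens, IsAffineOpen W ∧ y.1 ∈ W ∧ W ≤ U ∧ HasAnn Γ(X, W) := by
    intro y
    rcases hX with hN | ⟨hR, hfin⟩
    · obtain ⟨W, hW, hyW, hWU⟩ := Opens.isBasis_iff_nbhd.mp X.isBasis_affineOpens y.2
      haveI : IsNoetherianRing Γ(X, W) := IsLocallyNoetherian.component_noetherian ⟨W, hW⟩
      exact ⟨W, hW, hyW, hWU, hasAnn_of_isNoetherianRing _⟩
    · obtain ⟨W₀, hyW₀, hf⟩ := hfin y.1
      obtain ⟨W, hW, hyW, hWle⟩ := Opens.isBasis_iff_nbhd.mp X.isBasis_affineOpens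
        (show y.1 ∈ U ⊓ W₀ from ⟨y.2, hyW₀⟩)
      refine ⟨W, hW, hyW, hWle.trans inf_le_left, ?_⟩
      have hfinW : (minimalPrimes Γ(X, W)).Finite := by
        apply finite_minimalPrimes_of_finite hW
        refine hf.subset ?_
        rintro Z ⟨hZ, z, hzZ, hzW⟩
        exact ⟨hZ, z, hzZ, (hWle.trans inf_le_right) hzW⟩
      intro I hI
      exact exists_ne_zero_mul_eq_zero_of_reduced hfinW I hI
  choose W hWa hyW hWU hA using hloc
  have hloc2 : ∀ y : U, ∃ s : Γ(kmod X, W y), ∀ (z : W y) (hz : z.1 ∈ V),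
      s.1 z = algebraMap _ (KStalk X z.1) (X.presheaf.germ V z.1 hz g) := by
    intro y
    obtain ⟨h, hh, hle⟩ := exists_nonZeroDivisor_basicOpen_le (hWa y) (hA y) (hV (W y) (hWU y))
    exact exists_local_extension (hWa y) h hh hle g
  choose sW hsW using hloc2
  have hagree : ∀ (y y' : U) (z : X) (hz : z ∈ W y) (hz' : z ∈ W y'),
      (sW y).1 ⟨z, hz⟩ = (sW y').1 ⟨z, hz'⟩ := by
    intro y y' z hz hz'
    have e : (kmod X).presheaf.map (homOfLE (inf_le_left : W y ⊓ W y' ≤ W y)).op (sW y) =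
        (kmod X).presheaf.map (homOfLE (inf_le_right : W y ⊓ W y' ≤ W y')).op (sW y') := by
      apply eq_of_eq_on_dense (V := V)
        (fun W' hW' => hV W' (hW'.trans (inf_le_left.trans (hWU y))))
      intro w hw
      change (sW y).1 ⟨w.1, w.2.1⟩ = (sW y').1 ⟨w.1, w.2.2⟩
      rw [hsW y ⟨w.1, w.2.1⟩ hw, hsW y' ⟨w.1, w.2.2⟩ hw]
    have := congrArg (fun t : Γ(kmod X, W y ⊓ W y') => t.1 ⟨z, ⟨hz, hz'⟩⟩) e
    exact this
  let sfun : ∀ y : U, KStalk X y.1 := fun y => (sW y).1 ⟨y.1, hyW y⟩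
  have hpred : (kLoc X).pred sfun := by
    intro y
    obtain ⟨V', hyV', i', hfrac⟩ := (sW y).2 ⟨y.1, hyW y⟩
    refine ⟨V', hyV', i' ≫ homOfLE (hWU y), ?_⟩
    have : (fun z : V' => sfun ((i' ≫ homOfLE (hWU y)) z)) = fun z : V' => (sW y).1 (i' z) := by
      funext z
      exact hagree ⟨z.1, hWU y (i'.le z.2)⟩ y z.1 (hyW _) (i'.le z.2)
    rw [this]
    exact hfrac
  refine ⟨⟨sfun, hpred⟩, ?_⟩
  apply kmod_ext
  intro z
  rw [toK_val]
  change (sW ⟨z.1, hVU z.2⟩).1 ⟨z.1, hyW _⟩ = _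
  exact hsW ⟨z.1, hVU z.2⟩ ⟨z.1, hyW _⟩ z.2

end Groth.Agent.Lead.MeroH
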