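import Mathlib
import Groth.Prelude.Def_MeroDiv
import Groth.Prelude.Def_CurvBase
import Groth.Agent.Lead.MeroH
import Groth.Agent.Lead.WeakAss

/-!
# `K_X` when the weakly associated points are generic and components are locally finite
-/

set_option autoImplicit false
set_option linter.style.haveILetI false
set_option linter.unusedSectionVars false

universe u

open CategoryTheory CategoryTheory.Limits AlgebraicGeometry TopologicalSpace Opposite IsLocalRing

namespace Groth.Agent.Lead.MeroI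

open Mero Groth.Agent.Lead.MeroB Groth.Agent.Lead.MeroD Groth.Agent.Lead.MeroE
  Groth.Agent.Lead.MeroH Groth.Agent.Lead.WeakAss

/-- a section whose image in the localization at `p` is a nonzerodivisor avoids the minimal primes
below `p` -/
theorem notMem_of_mem_minimalPrimes_of_le {A S : Type*} [CommRing A] [CommRing S] [Algebra A S]
    (p : Ideal A) [p.IsPrime] [IsLocalization.AtPrime S p] (a : A)
    (ha : algebraMap A S a ∈ nonZeroDivisors S) (q : Ideal A) (hq : q ∈ minimalPrimes A)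
    (hqp : q ≤ p) : a ∉ q := by
  intro haq
  have hqprime : q.IsPrime := hq.1.1
  have hdisj : Disjoint (p.primeCompl : Set A) (q : Set A) := by
    rw [Set.disjoint_left]
    intro x hx hxq
    exact hx (hqp hxq)
  have hQ : (q.map (algebraMap A S)).IsPrime :=
    IsLocalization.isPrime_of_isPrime_disjoint p.primeCompl S q hqprime hdisj
  have hunder : (q.map (algebraMap A S)).under A = q :=
    IsLocalization.under_map_of_isPrime_disjoint p.primeCompl S hqprime hdisj
  have hQmin : q.map (algebraMap A S) ∈ minimalPrimes S := by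
    have h := IsLocalization.minimalPrimes_map p.primeCompl S (⊥ : Ideal A)
    rw [Ideal.map_bot] at h
    change q.map (algebraMap A S) ∈ (⊥ : Ideal S).minimalPrimes
    rw [h, Set.mem_preimage, hunder]
    exact hq
  exact notMem_nonZeroDivisors_of_mem_mem_minimalPrimes (Ideal.mem_map_of_mem _ haq) hQmin ha

/-- in the localization at a minimal prime, every nonzerodivisor is a unit -/
theorem isUnit_of_mem_nonZeroDivisors_of_mem_minimalPrimes {A S : Type*} [CommRing A]
    [CommRing S] [Algebra A S] (p : Ideal A) [p.IsPrime] [IsLocalization.AtPrime S p]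
    (hp : p ∈ minimalPrimes A) (β : S) (hβ : β ∈ nonZeroDivisors S) : IsUnit β := by
  haveI : IsLocalRing S := IsLocalization.AtPrime.isLocalRing S p
  by_contra hu
  have hm : β ∈ maximalIdeal S := (mem_maximalIdeal β).mpr hu
  have hmin : maximalIdeal S ∈ minimalPrimes S := by
    have h := IsLocalization.minimalPrimes_map p.primeCompl S (⊥ : Ideal A)
    rw [Ideal.map_bot] at h
    change maximalIdeal S ∈ (⊥ : Ideal S).minimalPrimes
    rw [h, Set.mem_preimage, IsLocalization.AtPrime.under_maximalIdeal S p]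
    exact hp
  exact notMem_nonZeroDivisors_of_mem_mem_minimalPrimes hm hmin hβ

variable {X : Scheme.{u}}

/-- hypothesis (a): weakly associated points of `O_X` have no proper generization -/
def WeakAssGeneric (X : Scheme.{u}) : Prop :=
  ∀ x : ↥X, Curv2.IsWeakAssPoint (Coh.structureModule X) x → ∀ y : ↥X, y ⤳ x → y = x

/-- under (a), weakly associated points of an affine open are minimal primes -/
theorem mem_minimalPrimes_of_isWeakAssPoint (ha : WeakAssGeneric X) {V : X.Opens}
    (hV : IsAffineOpen V) (y : X) (hy : y ∈ V)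
    (hw : Curv2.IsWeakAssPoint (Coh.structureModule X) y) :
    (hV.primeIdealOf ⟨y, hy⟩).asIdeal ∈ minimalPrimes Γ(X, V) := by
  obtain ⟨q, hq, hqp⟩ := Ideal.exists_minimalPrimes_le
    (bot_le : (⊥ : Ideal Γ(X, V)) ≤ (hV.primeIdealOf ⟨y, hy⟩).asIdeal)
  have hqprime : q.IsPrime := hq.1.1
  let qq : PrimeSpectrum Γ(X, V) := ⟨q, hqprime⟩
  have hspec : qq ⤳ hV.primeIdealOf ⟨y, hy⟩ := (PrimeSpectrum.le_iff_specializes _ _).mp hqp
  have h2 : hV.fromSpec qq ⤳ hV.fromSpec (hV.primeIdealOf ⟨y, hy⟩) :=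
    hspec.map hV.fromSpec.continuous
  rw [hV.fromSpec_primeIdealOf ⟨y, hy⟩] at h2
  have h3 : hV.fromSpec qq = y := ha y hw _ h2
  have h4 : hV.primeIdealOf ⟨y, hy⟩ = qq := by
    have := primeIdealOf_fromSpec hV qq (fromSpec_mem hV qq)
    rw [← this]
    congr 1
    exact Subtype.ext h3.symm
  rw [h4]
  exact hq

/-- under (a), a section of an affine open avoiding all minimal primes is a nonzerodivisor -/
theorem mem_nonZeroDivisors_of_forall_minimalPrimes (ha : WeakAssGeneric X) {V : X.Opens}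
    (hV : IsAffineOpen V) (g : Γ(X, V)) (hg : ∀ q ∈ minimalPrimes Γ(X, V), g ∉ q) :
    g ∈ nonZeroDivisors Γ(X, V) := by
  apply nzd_of_forall_weakAss hV g
  intro y hy hw
  have hmin := mem_minimalPrimes_of_isWeakAssPoint ha hV y hy hw
  have hgp := hg _ hmin
  have h2 : hV.primeIdealOf ⟨y, hy⟩ ∈ hV.fromSpec ⁻¹ᵁ X.basicOpen g := by
    rw [hV.fromSpec_preimage_basicOpen]
    exact hgp
  have h3 : hV.fromSpec (hV.primeIdealOf ⟨y, hy⟩) ∈ X.basicOpen g := h2
  rwa [hV.fromSpec_primeIdealOf ⟨y, hy⟩] at h3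


theorem mem_basicOpen_iff_notMem {V : X.Opens} (hV : IsAffineOpen V) (y : V) (f : Γ(X, V)) :
    y.1 ∈ X.basicOpen f ↔ f ∉ (hV.primeIdealOf y).asIdeal := by
  letI := TopCat.Presheaf.algebra_section_stalk X.presheaf y
  haveI := hV.isLocalization_stalk y
  rw [Scheme.mem_basicOpen X f y.1 y.2]
  exact IsLocalization.AtPrime.isUnit_to_map_iff (X.presheaf.stalk y.1)
    (hV.primeIdealOf y).asIdeal f

/-- hypothesis (b) gives finitely many minimal primes on affine opens -/
theorem finite_minimalPrimes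
    (hb : ∀ U : X.Opens, IsCompact (U : Set ↥X) → (irreducibleComponents ↥(U : Scheme.{u})).Finite)
    {V : X.Opens} (hV : IsAffineOpen V) : (minimalPrimes Γ(X, V)).Finite := by
  rw [← PrimeSpectrum.vanishingIdeal_irreducibleComponents]
  apply Set.Finite.image
  have hfin := hb V hV.isCompact
  have hf : Topology.IsOpenEmbedding hV.isoSpec.inv := hV.isoSpec.inv.isOpenEmbedding
  exact finite_irreducibleComponents_of_isOpenEmbedding hf (hfin.subset fun Z hZ => hZ.1)

/-- part (1) -/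
theorem regStalk_eq (ha : WeakAssGeneric X)
    (hb : ∀ U : X.Opens, IsCompact (U : Set ↥X) → (irreducibleComponents ↥(U : Scheme.{u})).Finite)
    (x : X) : Mero.regStalk X x = nonZeroDivisors ↑(X.presheaf.stalk x) := by
  classical
  apply le_antisymm (regStalk_le_nonZeroDivisors x)
  intro α hα
  obtain ⟨V₀, hxV₀, a₀, rfl⟩ := TopCat.Presheaf.exists_germ_eq X.presheaf α
  obtain ⟨V, hV, hxV, hVV₀⟩ := Opens.isBasis_iff_nbhd.mp X.isBasis_affineOpens hxV₀
  set a := X.presheaf.map (homOfLE hVV₀).op a₀ with ha_def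
  have hgerm : X.presheaf.germ V x hxV a = X.presheaf.germ V₀ x hxV₀ a₀ :=
    TopCat.Presheaf.germ_res_apply X.presheaf (homOfLE hVV₀) x hxV a₀
  have hfin := finite_minimalPrimes hb hV
  set p := (hV.primeIdealOf ⟨x, hxV⟩).asIdeal with hp_def
  have hpprime : p.IsPrime := (hV.primeIdealOf ⟨x, hxV⟩).isPrime
  have hex : ∀ q : Ideal Γ(X, V), ∃ f : Γ(X, V), f ∉ p ∧
      (q ∈ minimalPrimes Γ(X, V) → ¬ q ≤ p → f ∈ q) := by
    intro q
    by_cases h : q ∈ minimalPrimes Γ(X, V) ∧ ¬ q ≤ p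
    · obtain ⟨f, hfq, hfp⟩ := SetLike.not_le_iff_exists.mp h.2
      exact ⟨f, hfp, fun _ _ => hfq⟩
    · exact ⟨1, fun h1 => hpprime.ne_top ((Ideal.eq_top_iff_one p).mpr h1),
        fun h1 h2 => (h ⟨h1, h2⟩).elim⟩
  choose F hFp hFq using hex
  set f := ∏ q ∈ hfin.toFinset, F q with hf_def
  have hfp : f ∉ p := by
    intro h
    obtain ⟨q, _, hq⟩ := Ideal.IsPrime.prod_mem_iff.mp h
    exact hFp q hq
  have hxf : x ∈ X.basicOpen f := (mem_basicOpen_iff_notMem hV ⟨x, hxV⟩ f).mpr hfp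
  have hV' : IsAffineOpen (X.basicOpen f) := hV.basicOpen f
  set a' := X.presheaf.map (homOfLE (X.basicOpen_le f)).op a with ha'_def
  have hgerm' : X.presheaf.germ (X.basicOpen f) x hxf a' = X.presheaf.germ V x hxV a :=
    TopCat.Presheaf.germ_res_apply X.presheaf (homOfLE (X.basicOpen_le f)) x hxf a
  have hreg : a' ∈ regSub X (X.basicOpen f) := by
    rw [regSub_eq_nonZeroDivisors hV']
    apply nzd_of_forall_weakAss hV' a'
    intro y hy hw
    have hyV : y ∈ V := X.basicOpen_le f hy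
    have hmin := mem_minimalPrimes_of_isWeakAssPoint ha hV y hyV hw
    have hfy : f ∉ (hV.primeIdealOf ⟨y, hyV⟩).asIdeal :=
      (mem_basicOpen_iff_notMem hV ⟨y, hyV⟩ f).mp hy
    have hle : (hV.primeIdealOf ⟨y, hyV⟩).asIdeal ≤ p := by
      by_contra hnle
      apply hfy
      have h1 := hFq _ hmin hnle
      have h2 : (hV.primeIdealOf ⟨y, hyV⟩).asIdeal ∈ hfin.toFinset := by
        rw [Set.Finite.mem_toFinset]; exact hmin
      rw [hf_def, ← Finset.mul_prod_erase _ _ h2]
      exact Ideal.mul_mem_right _ _ h1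
    letI := TopCat.Presheaf.algebra_section_stalk X.presheaf (⟨x, hxV⟩ : V)
    haveI := hV.isLocalization_stalk ⟨x, hxV⟩
    have hnz : algebraMap Γ(X, V) (X.presheaf.stalk x) a ∈ nonZeroDivisors (X.presheaf.stalk x) := by
      change X.presheaf.germ V x hxV a ∈ _
      rw [hgerm]
      exact hα
    have hay := notMem_of_mem_minimalPrimes_of_le p a hnz _ hmin hle
    have hya : y ∈ X.basicOpen a := (mem_basicOpen_iff_notMem hV ⟨y, hyV⟩ a).mpr hay
    rw [ha'_def, Scheme.basicOpen_res]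
    exact ⟨hy, hya⟩
  have := germ_mem_regStalk (⟨x, hxf⟩ : (X.basicOpen f : X.Opens)) hreg
  rw [hgerm', hgerm] at this
  exact this

/-- a meromorphic function is regular at the minimal primes -/
theorem mem_range_of_mem_minimalPrimes {U : X.Opens} (hU : IsAffineOpen U)
    (t : Γ(kmod X, U)) (y : U)
    (hy : (hU.primeIdealOf y).asIdeal ∈ minimalPrimes Γ(X, U)) :
    t.1 y ∈ (algebraMap (X.presheaf.stalk y.1) (KStalk X y.1)).range := by
  obtain ⟨⟨α, β⟩, h⟩ := IsLocalization.surj (regStalk X y.1) (t.1 y)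
  simp only at h
  letI := TopCat.Presheaf.algebra_section_stalk X.presheaf y
  haveI := hU.isLocalization_stalk y
  have hβ : IsUnit (β : X.presheaf.stalk y.1) :=
    isUnit_of_mem_nonZeroDivisors_of_mem_minimalPrimes (hU.primeIdealOf y).asIdeal hy _
      (regStalk_le_nonZeroDivisors y.1 β.2)
  exact mem_range_of_isUnit _ _ _ hβ h

theorem exists_nonZeroDivisor_mul (ha : WeakAssGeneric X)
    (hb : ∀ U : X.Opens, IsCompact (U : Set ↥X) → (irreducibleComponents ↥(U : Scheme.{u})).Finite)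
    {U : X.Opens} (hU : IsAffineOpen U) (t : Γ(kmod X, U)) :
    ∃ (a s : Γ(X, U)), s ∈ nonZeroDivisors Γ(X, U) ∧ t * toK X U s = toK X U a := by
  have hfin := finite_minimalPrimes hb hU
  have hI : ¬ ((regIdeal t : Set Γ(X, U)) ⊆ ⋃ p ∈ minimalPrimes Γ(X, U), p) := by
    rw [Ideal.subset_union_prime_finite hfin ⊥ ⊥ (fun p hp _ _ => hp.1.1)]
    rintro ⟨p, hp, hIp⟩
    let pp : PrimeSpectrum Γ(X, U) := ⟨p, hp.1.1⟩
    let y : U := hU.isoSpec.inv pp
    have hyp : hU.primeIdealOf y = pp := by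
      change hU.isoSpec.hom (hU.isoSpec.inv pp) = pp
      rw [← Scheme.Hom.comp_apply, Iso.inv_hom_id]
      rfl
    have h1 := mem_range_of_mem_minimalPrimes hU t y (by rw [hyp]; exact hp)
    have hyD : y.1 ∈ (⟨_, isOpen_domain t⟩ : X.Opens) := ⟨y.2, h1⟩
    obtain ⟨h, hle, hyh⟩ := hU.exists_basicOpen_le ⟨y.1, hyD⟩ y.2
    have hhI : h ∈ regIdeal t := fun z hz => (hle hz).2
    have hhp : h ∈ p := hIp hhI
    have := (mem_basicOpen_iff_notMem hU y h).mp hyh
    rw [hyp] at this
    exact this hhp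
  obtain ⟨h, hhI, hh⟩ := Set.not_subset.mp hI
  have hh' : h ∈ nonZeroDivisors Γ(X, U) := by
    apply mem_nonZeroDivisors_of_forall_minimalPrimes ha hU
    intro q hq hhq
    exact hh (Set.mem_iUnion₂.mpr ⟨q, hq, hhq⟩)
  have hreg : h ∈ regSub X U := by rw [regSub_eq_nonZeroDivisors hU]; exact hh'
  -- `t` restricted to `D(h)` is a regular function
  let t' : Γ(kmod X, X.basicOpen h) := (kmod X).presheaf.map (homOfLE (X.basicOpen_le h)).op t
  obtain ⟨c, hc⟩ := exists_eq_toK t' (fun z => hhI ⟨z.1, X.basicOpen_le h z.2⟩ z.2)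
  haveI := hU.isLocalization_basicOpen h
  obtain ⟨n, a, hna⟩ := IsLocalization.Away.surj h c
  refine ⟨a, h ^ n, pow_mem hh' n, ?_⟩
  rw [← sub_eq_zero]
  apply eq_zero_of_basicOpen _ h hreg
  intro z hz
  have e1 : t.1 z = algebraMap _ (KStalk X z.1) (X.presheaf.germ (X.basicOpen h) z.1 hz c) := by
    have := congrArg (fun r : Γ(kmod X, X.basicOpen h) => r.1 ⟨z.1, hz⟩) hc
    exact this.symm
  have e2 := congrArg (X.presheaf.germ (X.basicOpen h) z.1 hz) hna
  rw [map_mul, map_pow] at e2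
  have e3 : ∀ r : Γ(X, U), X.presheaf.germ (X.basicOpen h) z.1 hz
      (algebraMap Γ(X, U) Γ(X, X.basicOpen h) r) = X.presheaf.germ U z.1 z.2 r := fun r =>
    TopCat.Presheaf.germ_res_apply X.presheaf (homOfLE (X.basicOpen_le h)) z.1 hz r
  rw [e3, e3] at e2
  change t.1 z * (toK X U (h ^ n)).1 z - (toK X U a).1 z = 0
  rw [toK_val, toK_val, e1, ← map_mul, map_pow, e2, sub_self]

theorem s8904 (X : Scheme.{u})
    (ha : ∀ x : ↥X, Curv2.IsWeakAssPoint (Coh.structureModule X) x → ∀ y : ↥X, y ⤳ x → y = x)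
    (hb : ∀ U : X.Opens, IsCompact (U : Set ↥X) → (irreducibleComponents ↥(U : Scheme.{u})).Finite) :
    (∀ x : ↥X, Mero.regStalk X x = nonZeroDivisors ↑(X.presheaf.stalk x)) ∧
      ∀ U : X.affineOpens,
        @IsLocalization Γ(X, U.1) _ (nonZeroDivisors Γ(X, U.1)) Γ(Mero.kmod X, U.1) _
          (Mero.toK X U.1).toAlgebra := by
  refine ⟨fun x => regStalk_eq ha hb x, fun U => ?_⟩
  letI := (Mero.toK X U.1).toAlgebra
  rw [isLocalization_iff]
  refine ⟨fun s => ?_, fun t => ?_, fun {a b} hab => ?_⟩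
  · exact isUnit_toK s.1 (by rw [regSub_eq_nonZeroDivisors U.2]; exact s.2)
  · obtain ⟨a, s, hs, h⟩ := exists_nonZeroDivisor_mul ha hb U.2 t
    exact ⟨(a, ⟨s, hs⟩), h⟩
  · exact ⟨1, by rw [toK_injective U.1 hab]⟩

end Groth.Agent.Lead.MeroI
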