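import Mathlib
import Groth.Prelude.Def_MeroDiv
import Groth.Agent.Helper5.DepthOne1
import Groth.Agent.Helper5.StalkDict

/-!
# Divisors (in the sense of `Mero`) on locally Noetherian schemes and depth one points
-/

set_option autoImplicit false
set_option linter.style.haveILetI false
set_option linter.unusedSectionVars false

universe u

open CategoryTheory CategoryTheory.Limits AlgebraicGeometry TopologicalSpace Opposite IsLocalRing

namespace Groth.Agent.Lead.MeroA

open Groth.Agent.Helper5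

/-- (non-domain version of `Helper5.DepthOne.depth_eq_one`) -/
theorem depth_eq_one (A : Type u) [CommRing A] [IsNoetherianRing A] [IsLocalRing A]
    (a b : A) (hb : IsSMulRegular A b) (hab : ∀ c : A, a ≠ b * c)
    (h : ∀ p : Ideal A, p.IsPrime → p ≠ maximalIdeal A → ∃ t : A, t ∉ p ∧ ∃ c : A, t * a = b * c) :
    LocCoh.depth A A = 1 := by
  have hbm : b ∈ maximalIdeal A := by
    rw [mem_maximalIdeal]
    intro hu
    obtain ⟨u, rfl⟩ := hu
    exact hab (↑u⁻¹ * a) (by rw [← mul_assoc, Units.mul_inv, one_mul])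
  let M := QuotSMulTop b A
  let abar : M := Submodule.Quotient.mk a
  have hmemN : ∀ y : A, (Submodule.Quotient.mk y : M) = 0 ↔ ∃ c : A, y = b * c := by
    intro y
    rw [Submodule.Quotient.mk_eq_zero, Submodule.mem_smul_pointwise_iff_exists]
    constructor
    · rintro ⟨c, -, hc⟩
      exact ⟨c, hc.symm⟩
    · rintro ⟨c, hc⟩
      exact ⟨c, trivial, hc.symm⟩
  have habar : abar ≠ 0 := by
    intro h0
    obtain ⟨c, hc⟩ := (hmemN a).1 h0
    exact hab c hc
  have hnt : Nontrivial M := ⟨⟨abar, 0, habar⟩⟩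
  obtain ⟨P, hP, hle⟩ := exists_le_isAssociatedPrime_of_isNoetherianRing (R := A) abar habar
  have hPprime : P.IsPrime := hP.isPrime
  have hPm : P = maximalIdeal A := by
    by_contra hne
    obtain ⟨t, htP, c, hc⟩ := h P hPprime hne
    apply htP
    apply hle
    rw [Submodule.mem_colon_singleton, Submodule.mem_bot]
    show t • (Submodule.Quotient.mk a : M) = 0
    rw [← Submodule.Quotient.mk_smul, hmemN]
    exact ⟨c, hc⟩
  have hass : maximalIdeal A ∈ associatedPrimes A M := hPm ▸ hP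
  have hnreg : ∀ x ∈ maximalIdeal A, ¬ IsSMulRegular M x := fun x hx =>
    Groth.Agent.Helper2.Depth.not_regular_of_mem_ass A M _ hass x hx
  have hd0 : LocCoh.depth A M = 0 := (Groth.Agent.Helper2.Depth.depth_eq_zero_iff A M).2 hnreg
  have hIM : maximalIdeal A • (⊤ : Submodule A A) ≠ ⊤ :=
    Groth.Agent.Helper2.Depth.smul_top_ne_top A A
  have key := Groth.Agent.Helper2.DepthCM.idealDepth_quotSMulTop (maximalIdeal A) A hIM b hbm hb
  unfold LocCoh.depth at hd0 ⊢
  rw [← key, hd0, zero_add]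

variable {X : Scheme.{u}}

/-- clearing denominators along a specialization -/
theorem exists_denominator (x z : X) (h : z ⤳ x) (a b : X.presheaf.stalk x)
    (c' : X.presheaf.stalk z)
    (hc : (X.presheaf.stalkSpecializes h).hom a = (X.presheaf.stalkSpecializes h).hom b * c') :
    ∃ t c : X.presheaf.stalk x, IsUnit ((X.presheaf.stalkSpecializes h).hom t) ∧
      t * a = b * c := by
  obtain ⟨_, ⟨W, hW, rfl⟩, hxW, -⟩ := X.isBasis_affineOpens.exists_subset_of_mem_open
    (Set.mem_univ x) isOpen_univ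
  have hzW : z ∈ W := h.mem_open W.isOpen hxW
  let _ : Algebra Γ(X, W) (X.presheaf.stalk z) :=
    TopCat.Presheaf.algebra_section_stalk X.presheaf (⟨z, hzW⟩ : W)
  let _ : Algebra Γ(X, W) (X.presheaf.stalk x) :=
    TopCat.Presheaf.algebra_section_stalk X.presheaf (⟨x, hxW⟩ : W)
  have hlocz := hW.isLocalization_stalk ⟨z, hzW⟩
  have hlocx := hW.isLocalization_stalk ⟨x, hxW⟩
  have halgz : ∀ s : Γ(X, W), algebraMap Γ(X, W) (X.presheaf.stalk z) s =
      (X.presheaf.germ W z hzW).hom s := fun s => rfl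
  have halgx : ∀ s : Γ(X, W), algebraMap Γ(X, W) (X.presheaf.stalk x) s =
      (X.presheaf.germ W x hxW).hom s := fun s => rfl
  have hspec : ∀ s : Γ(X, W), (X.presheaf.stalkSpecializes h).hom
      (algebraMap Γ(X, W) (X.presheaf.stalk x) s) =
      algebraMap Γ(X, W) (X.presheaf.stalk z) s := by
    intro s
    have := X.presheaf.germ_stalkSpecializes (U := W) hxW h
    exact congrArg (fun φ => φ.hom s) this
  obtain ⟨⟨α, σ⟩, hασ⟩ := IsLocalization.surj
    (M := (hW.primeIdealOf ⟨x, hxW⟩).asIdeal.primeCompl) a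
  obtain ⟨⟨β, τ⟩, hβτ⟩ := IsLocalization.surj
    (M := (hW.primeIdealOf ⟨x, hxW⟩).asIdeal.primeCompl) b
  obtain ⟨⟨γ, ρ⟩, hγρ⟩ := IsLocalization.surj
    (M := (hW.primeIdealOf ⟨z, hzW⟩).asIdeal.primeCompl) c'
  simp only at hασ hβτ hγρ
  -- the relation in `O_z`
  have h1 : algebraMap Γ(X, W) (X.presheaf.stalk z) (α * τ.1 * ρ.1) =
      algebraMap Γ(X, W) (X.presheaf.stalk z) (β * γ * σ.1) := by
    have e1 := congrArg (X.presheaf.stalkSpecializes h).hom hασ
    have e2 := congrArg (X.presheaf.stalkSpecializes h).hom hβτ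
    rw [map_mul, hspec] at e1 e2
    rw [hspec] at e1 e2
    rw [map_mul, map_mul, map_mul, map_mul, ← e1, ← e2, ← hγρ, hc]
    ring
  obtain ⟨ω, hω⟩ := (IsLocalization.eq_iff_exists
    (hW.primeIdealOf ⟨z, hzW⟩).asIdeal.primeCompl (X.presheaf.stalk z)).1 h1
  refine ⟨algebraMap Γ(X, W) (X.presheaf.stalk x) (ω.1 * ρ.1),
    algebraMap Γ(X, W) (X.presheaf.stalk x) (ω.1 * γ), ?_, ?_⟩
  · rw [hspec, map_mul]
    exact (IsLocalization.map_units (X.presheaf.stalk z) ω).mul
      (IsLocalization.map_units (X.presheaf.stalk z) ρ)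
  · have hu : IsUnit (algebraMap Γ(X, W) (X.presheaf.stalk x) (σ.1 * τ.1)) := by
      rw [map_mul]
      exact (IsLocalization.map_units (X.presheaf.stalk x) σ).mul
        (IsLocalization.map_units (X.presheaf.stalk x) τ)
    apply hu.mul_right_cancel
    have h2 := congrArg (algebraMap Γ(X, W) (X.presheaf.stalk x)) hω
    simp only [map_mul] at h2 ⊢
    rw [← hασ, ← hβτ] at h2
    linear_combination h2

end Groth.Agent.Lead.MeroA
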