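import Mathlib
import Groth.Prelude.Def_MeroDiv
import Groth.Agent.Lead.MeroA
import Groth.Agent.Lead.MeroB

/-!
# Divisors (in the sense of `Mero`) on locally Noetherian schemes are detected at depth one points
(S5098, S5099)
-/

set_option autoImplicit false
set_option linter.style.haveILetI false
set_option linter.unusedSectionVars false

universe u

open CategoryTheory CategoryTheory.Limits AlgebraicGeometry TopologicalSpace Opposite IsLocalRing

namespace Groth.Agent.Lead.MeroC

open Mero Groth.Agent.Helper5 Groth.Agent.Lead.MeroA Groth.Agent.Lead.MeroB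

variable {X : Scheme.{u}}

theorem mem_prime_iff (x : X) (p : ↥(Spec (X.presheaf.stalk x))) (t : X.presheaf.stalk x) :
    t ∈ p.asIdeal ↔ ¬ IsUnit ((X.presheaf.stalkSpecializes
      (StalkDict.fromSpecStalk_specializes x p)).hom t) := by
  have h : X.fromSpecStalk x p ⤳ x := StalkDict.fromSpecStalk_specializes x p
  have h1 := Scheme.SpecMap_stalkSpecializes_fromSpecStalk (X := X) h
  have h2 := congrArg (fun ψ : Spec (X.presheaf.stalk (X.fromSpecStalk x p)) ⟶ X =>
    ψ (IsLocalRing.closedPoint (X.presheaf.stalk (X.fromSpecStalk x p)))) h1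
  have h3 : X.fromSpecStalk (X.fromSpecStalk x p)
      (IsLocalRing.closedPoint (X.presheaf.stalk (X.fromSpecStalk x p))) = X.fromSpecStalk x p :=
    Scheme.fromSpecStalk_closedPoint
  have h4 : X.fromSpecStalk x (Spec.map (X.presheaf.stalkSpecializes h)
      (IsLocalRing.closedPoint (X.presheaf.stalk (X.fromSpecStalk x p)))) = X.fromSpecStalk x p :=
    h2.trans h3
  have h5 : Spec.map (X.presheaf.stalkSpecializes h)
      (IsLocalRing.closedPoint (X.presheaf.stalk (X.fromSpecStalk x p))) = p :=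
    (X.fromSpecStalk x).isEmbedding.injective h4
  have h6 : t ∈ p.asIdeal ↔ t ∈ Ideal.comap (X.presheaf.stalkSpecializes h).hom
      (IsLocalRing.maximalIdeal (X.presheaf.stalk (X.fromSpecStalk x p))) := by
    conv_lhs => rw [← h5]
    exact Iff.rfl
  rw [h6, Ideal.mem_comap, IsLocalRing.mem_maximalIdeal, mem_nonunits_iff]

variable [IsLocallyNoetherian X]

theorem coheight_lt_top (x : X) : Order.coheight x < ⊤ := by
  have h1 := ringKrullDim_stalk_eq_coheight x
  have h2 : ringKrullDim (X.presheaf.stalk x) < ⊤ := ringKrullDim_lt_top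
  rw [h1] at h2
  have h3 : ((Order.coheight x : ℕ∞) : WithBot ℕ∞) < ((⊤ : ℕ∞) : WithBot ℕ∞) := h2
  exact WithBot.coe_lt_coe.1 h3

theorem coheight_lt_of_specializes (x z : X) (hz : z ⤳ x) (hne : z ≠ x) :
    Order.coheight z < Order.coheight x := by
  have hlt : x < z := by
    refine ⟨hz, fun h => hne ?_⟩
    exact (Specializes.antisymm hz h).eq
  have h1 := Order.coheight_add_one_le hlt
  exact lt_of_lt_of_le ((ENat.lt_add_one_iff (coheight_lt_top z).ne).2 le_rfl) h1

/-- depth one from non-divisibility at `x` and divisibility at all proper generizations -/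
theorem depth_eq_one_of_not_dvd (x : X) (V : X.Opens) (hxV : x ∈ V) (a b : Γ(X, V))
    (hb : b ∈ regSub X V)
    (hx : ∀ c, X.presheaf.germ V x hxV a ≠ X.presheaf.germ V x hxV b * c)
    (H : ∀ (z : X) (hz : z ⤳ x), z ≠ x →
      ∃ c, X.presheaf.germ V z (hz.mem_open V.isOpen hxV) a =
        X.presheaf.germ V z (hz.mem_open V.isOpen hxV) b * c) :
    LocCoh.depth (X.presheaf.stalk x) (X.presheaf.stalk x) = 1 := by
  let A := X.presheaf.stalk x
  have hreg : IsSMulRegular A (X.presheaf.germ V x hxV b) :=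
    (isRegular_iff_mem_nonZeroDivisors.mpr (hb ⟨x, hxV⟩)).left.isSMulRegular
  apply MeroA.depth_eq_one A _ _ hreg hx
  intro P hP hPm
  let p : ↥(Spec A) := ⟨P, hP⟩
  have hspec := StalkDict.fromSpecStalk_specializes x p
  have hne : X.fromSpecStalk x p ≠ x := by
    intro he
    have h3 : X.fromSpecStalk x (IsLocalRing.closedPoint A) = x := Scheme.fromSpecStalk_closedPoint
    have h5 : p = IsLocalRing.closedPoint A :=
      (X.fromSpecStalk x).isEmbedding.injective (he.trans h3.symm)
    apply hPm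
    have := congrArg PrimeSpectrum.asIdeal h5
    exact this
  obtain ⟨c', hc'⟩ := H _ hspec hne
  have hsp : ∀ s : Γ(X, V), (X.presheaf.stalkSpecializes hspec).hom (X.presheaf.germ V x hxV s) =
      X.presheaf.germ V _ (hspec.mem_open V.isOpen hxV) s := fun s =>
    TopCat.Presheaf.germ_stalkSpecializes_apply X.presheaf hxV hspec s
  obtain ⟨t, c, htu, htc⟩ := exists_denominator x _ hspec (X.presheaf.germ V x hxV a)
    (X.presheaf.germ V x hxV b) c' (by rw [hsp, hsp]; exact hc')
  refine ⟨t, ?_, c, htc⟩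
  intro htP
  exact ((mem_prime_iff x p t).1 htP) htu

/-- divisibility at `x` from divisibility at the depth one generizations of `x` -/
theorem dvd_of_depth_one (x : X) (V : X.Opens) (hxV : x ∈ V) (a b : Γ(X, V))
    (hb : b ∈ regSub X V)
    (H : ∀ (z : X) (hz : z ⤳ x), LocCoh.depth (X.presheaf.stalk z) (X.presheaf.stalk z) = 1 →
      ∃ c, X.presheaf.germ V z (hz.mem_open V.isOpen hxV) a =
        X.presheaf.germ V z (hz.mem_open V.isOpen hxV) b * c) :
    ∃ c, X.presheaf.germ V x hxV a = X.presheaf.germ V x hxV b * c := by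
  by_contra hnot
  let S : Set X := {z | ∃ hz : z ⤳ x, ¬ ∃ c, X.presheaf.germ V z (hz.mem_open V.isOpen hxV) a =
        X.presheaf.germ V z (hz.mem_open V.isOpen hxV) b * c}
  have hxS : x ∈ S := ⟨specializes_rfl, hnot⟩
  have hwf : WellFounded (InvImage (· < ·) (fun z : X => Order.coheight z)) :=
    InvImage.wf _ wellFounded_lt
  obtain ⟨z, ⟨hzx, hzf⟩, hmin⟩ := hwf.has_min S ⟨x, hxS⟩
  have hzV : z ∈ V := hzx.mem_open V.isOpen hxV
  have hd : LocCoh.depth (X.presheaf.stalk z) (X.presheaf.stalk z) = 1 := by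
    apply depth_eq_one_of_not_dvd z V hzV a b hb
    · intro c hc
      exact hzf ⟨c, hc⟩
    · intro z' hz' hne
      by_contra hcon
      exact hmin z' ⟨hz'.trans hzx, hcon⟩ (coheight_lt_of_specializes z z' hz' hne)
  exact hzf (H z hzx hd)

theorem s5099 (D : Mero.Divisor X)
    (x : ↥X) (hx : x ∈ Mero.supp D) (hmax : ∀ z : ↥X, z ∈ Mero.supp D → z ⤳ x → z = x) :
    LocCoh.depth ↑(X.presheaf.stalk x) ↑(X.presheaf.stalk x) = 1 := by
  obtain ⟨V, hxV, ⟨R⟩⟩ := exists_localRep D x
  have hgen : ∀ (z : X) (hz : z ⤳ x), z ≠ x → D.1 z = 1 := by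
    intro z hz hne
    by_contra h1
    exact hne (hmax z h1 hz)
  have hx1 : ¬ D.1 x = 1 := hx
  rw [R.eq_one_iff ⟨x, hxV⟩] at hx1
  by_cases hP : ∃ c, X.presheaf.germ V x hxV R.a = X.presheaf.germ V x hxV R.b * c
  · have hP' : ¬ ∃ c, X.presheaf.germ V x hxV R.b = X.presheaf.germ V x hxV R.a * c :=
      fun h => hx1 ⟨hP, h⟩
    apply depth_eq_one_of_not_dvd x V hxV R.b R.a R.ha
    · intro c hc
      exact hP' ⟨c, hc⟩
    · intro z hz hne
      exact ((R.eq_one_iff ⟨z, hz.mem_open V.isOpen hxV⟩).1 (hgen z hz hne)).2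
  · apply depth_eq_one_of_not_dvd x V hxV R.a R.b R.hb
    · intro c hc
      exact hP ⟨c, hc⟩
    · intro z hz hne
      exact ((R.eq_one_iff ⟨z, hz.mem_open V.isOpen hxV⟩).1 (hgen z hz hne)).1

theorem s5098 (D : Mero.Divisor X) :
    ((∀ x : ↥X, LocCoh.depth ↑(X.presheaf.stalk x) ↑(X.presheaf.stalk x) = 1 →
        Mero.IsEffectiveAt D x) → Mero.IsEffective D) ∧
      ((∀ x : ↥X, LocCoh.depth ↑(X.presheaf.stalk x) ↑(X.presheaf.stalk x) = 1 → D.1 x = 1) →
        D = 1) := by
  constructor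
  · intro h x
    obtain ⟨V, hxV, ⟨R⟩⟩ := exists_localRep D x
    apply (R.effectiveAt_iff ⟨x, hxV⟩).2
    apply dvd_of_depth_one x V hxV R.a R.b R.hb
    intro z hz hd
    exact (R.effectiveAt_iff ⟨z, hz.mem_open V.isOpen hxV⟩).1 (h z hd)
  · intro h
    apply Subtype.ext
    funext x
    obtain ⟨V, hxV, ⟨R⟩⟩ := exists_localRep D x
    change D.1 x = 1
    apply (R.eq_one_iff ⟨x, hxV⟩).2
    constructor
    · apply dvd_of_depth_one x V hxV R.a R.b R.hb
      intro z hz hd
      exact ((R.eq_one_iff ⟨z, hz.mem_open V.isOpen hxV⟩).1 (h z hd)).1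
    · apply dvd_of_depth_one x V hxV R.b R.a R.ha
      intro z hz hd
      exact ((R.eq_one_iff ⟨z, hz.mem_open V.isOpen hxV⟩).1 (h z hd)).2

end Groth.Agent.Lead.MeroC
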