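import Mathlib
import Groth.Prelude.Def_MeroDiv
import Groth.Agent.Lead.MeroC
import Groth.Agent.Lead.MeroI
import Groth.Agent.S8863

/-!
# Divisors on absolute curves
-/

set_option autoImplicit false
set_option linter.style.haveILetI false
set_option linter.unusedSectionVars false

universe u

open CategoryTheory CategoryTheory.Limits AlgebraicGeometry TopologicalSpace Opposite IsLocalRing

namespace Groth.Agent.Lead.MeroJ

open Mero Groth.Agent.Lead.MeroB Groth.Agent.Lead.MeroC Groth.Agent.Lead.MeroD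
  Groth.Agent.Lead.MeroE Groth.Agent.Lead.MeroI Groth.Agent.Lead.WeakAss

variable {C : Scheme.{u}}

/-- absolute curve condition -/
def AbsCurve (C : Scheme.{u}) : Prop :=
  ∀ x : C, IsClosed ({x} : Set C) → ringKrullDim (C.presheaf.stalk x) = 1

theorem krullDimLE_zero_of_not_isClosed [IsNoetherian C] (hC : AbsCurve C) (x : C)
    (hx : ¬ IsClosed ({x} : Set C)) : Ring.KrullDimLE 0 (C.presheaf.stalk x) := by
  obtain ⟨z, hz, hzc⟩ := IsClosed.exists_closed_singleton (isClosed_closure : IsClosed (closure {x}))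
    ⟨x, subset_closure rfl⟩
  have hspec : x ⤳ z := specializes_iff_mem_closure.mpr hz
  have hne : x ≠ z := by
    rintro rfl
    exact hx hzc
  have h1 := coheight_lt_of_specializes z x hspec hne
  have h2 : ringKrullDim (C.presheaf.stalk z) = 1 := hC z hzc
  rw [ringKrullDim_stalk_eq_coheight] at h2
  have h3 : Order.coheight z = 1 := by
    have : ((Order.coheight z : ℕ∞) : WithBot ℕ∞) = ((1 : ℕ∞) : WithBot ℕ∞) := h2
    exact WithBot.coe_injective this
  rw [h3] at h1
  have h4 : Order.coheight x = 0 := Order.lt_one_iff.mp h1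
  rw [Ring.krullDimLE_iff, ringKrullDim_stalk_eq_coheight, h4]
  rfl

theorem isUnit_of_mem_nonZeroDivisors_of_not_isClosed [IsNoetherian C] (hC : AbsCurve C) (x : C)
    (hx : ¬ IsClosed ({x} : Set C)) (t : C.presheaf.stalk x)
    (ht : t ∈ nonZeroDivisors (C.presheaf.stalk x)) : IsUnit t := by
  haveI := krullDimLE_zero_of_not_isClosed hC x hx
  by_contra hu
  have hm : t ∈ maximalIdeal (C.presheaf.stalk x) := (mem_maximalIdeal t).mpr hu
  have hmin : maximalIdeal (C.presheaf.stalk x) ∈ minimalPrimes (C.presheaf.stalk x) :=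
    Ideal.mem_minimalPrimes_of_krullDimLE_zero _
  exact notMem_nonZeroDivisors_of_mem_mem_minimalPrimes hm hmin ht

/-- a germ of function which becomes a unit of `K_{X,x}` is a nonzerodivisor -/
theorem mem_nonZeroDivisors_of_isUnit_algebraMap (x : C) (α : C.presheaf.stalk x)
    (h : IsUnit (algebraMap (C.presheaf.stalk x) (KStalk C x) α)) :
    α ∈ nonZeroDivisors (C.presheaf.stalk x) := by
  rw [mem_nonZeroDivisors_iff_right]
  intro c hc
  apply algebraMap_KStalk_injective x
  rw [map_zero]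
  have : algebraMap (C.presheaf.stalk x) (KStalk C x) c *
      algebraMap (C.presheaf.stalk x) (KStalk C x) α = 0 := by
    rw [← map_mul, hc, map_zero]
  exact h.mul_left_eq_zero.mp this

/-- representation of a unit of `K_{X,x}` as a quotient of regular germs -/
theorem exists_regStalk_rep [IsLocallyNoetherian C] (x : C) (u : (KStalk C x)ˣ) :
    ∃ α β : regStalk C x, (u : KStalk C x) * algebraMap _ (KStalk C x) (β : C.presheaf.stalk x) =
      algebraMap _ (KStalk C x) (α : C.presheaf.stalk x) := by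
  obtain ⟨⟨α, β⟩, h⟩ := IsLocalization.surj (regStalk C x) (u : KStalk C x)
  simp only at h
  have hα : α ∈ regStalk C x := by
    rw [Groth.Agent.S8863.result C x]
    apply mem_nonZeroDivisors_of_isUnit_algebraMap
    rw [← h]
    exact u.isUnit.mul (IsLocalization.map_units (KStalk C x) β)
  exact ⟨⟨α, hα⟩, β, h⟩

theorem germ_eq_one_of_not_isClosed [IsNoetherian C] (hC : AbsCurve C) (x : C)
    (hx : ¬ IsClosed ({x} : Set C)) (γ : Germ C x) : γ = 1 := by
  obtain ⟨u, rfl⟩ := QuotientGroup.mk_surjective γ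
  rw [QuotientGroup.eq_one_iff]
  obtain ⟨α, β, h⟩ := exists_regStalk_rep x u
  have hα : IsUnit (α : C.presheaf.stalk x) :=
    isUnit_of_mem_nonZeroDivisors_of_not_isClosed hC x hx _ (regStalk_le_nonZeroDivisors x α.2)
  have hβ : IsUnit (β : C.presheaf.stalk x) :=
    isUnit_of_mem_nonZeroDivisors_of_not_isClosed hC x hx _ (regStalk_le_nonZeroDivisors x β.2)
  refine ⟨hα.unit * hβ.unit⁻¹, ?_⟩
  apply Units.ext
  change algebraMap _ (KStalk C x) ((hα.unit * hβ.unit⁻¹ : (C.presheaf.stalk x)ˣ) :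
    C.presheaf.stalk x) = (u : KStalk C x)
  apply (IsLocalization.map_units (KStalk C x) β).mul_right_cancel
  rw [h, ← map_mul, Units.val_mul, mul_assoc]
  have : ((hβ.unit⁻¹ : (C.presheaf.stalk x)ˣ) : C.presheaf.stalk x) * (β : C.presheaf.stalk x) = 1 :=
    hβ.val_inv_mul
  rw [this, mul_one, hα.unit_spec]

/-- the zero locus of a regular section on an affine open of an absolute curve -/
theorem zeroLocus_finite [IsNoetherian C] (hC : AbsCurve C) {W : C.Opens} (hW : IsAffineOpen W)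
    (a : Γ(C, W)) (ha : a ∈ regSub C W) :
    {y : C | ∃ hy : y ∈ W, ¬ IsUnit (C.presheaf.germ W y hy a)}.Finite ∧
      ∀ (y : C) (hy : y ∈ W), ¬ IsUnit (C.presheaf.germ W y hy a) → IsClosed ({y} : Set C) := by
  have hcl : ∀ (y : C) (hy : y ∈ W), ¬ IsUnit (C.presheaf.germ W y hy a) →
      IsClosed ({y} : Set C) := by
    intro y hy hu
    by_contra hncl
    exact hu (isUnit_of_mem_nonZeroDivisors_of_not_isClosed hC y hncl _ (ha ⟨y, hy⟩))
  refine ⟨?_, hcl⟩
  haveI : IsNoetherianRing Γ(C, W) := IsLocallyNoetherian.component_noetherian ⟨W, hW⟩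
  have hfin : {p : PrimeSpectrum Γ(C, W) | p.asIdeal ∈ (Ideal.span {a}).minimalPrimes}.Finite := by
    apply Set.Finite.preimage _ (Ideal.finite_minimalPrimes_of_isNoetherianRing Γ(C, W)
      (Ideal.span {a}))
    intro p _ q _ hpq
    exact PrimeSpectrum.ext hpq
  refine (hfin.image (fun p => hW.fromSpec p)).subset ?_
  rintro y ⟨hy, hu⟩
  have hay : a ∈ (hW.primeIdealOf ⟨y, hy⟩).asIdeal := by
    by_contra hn
    have := (mem_basicOpen_iff_notMem hW ⟨y, hy⟩ a).mpr hn
    exact hu ((Scheme.mem_basicOpen C a y hy).mp this)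
  have hle : Ideal.span {a} ≤ (hW.primeIdealOf ⟨y, hy⟩).asIdeal := by
    rw [Ideal.span_le, Set.singleton_subset_iff]
    exact hay
  obtain ⟨q, hq, hqp⟩ := Ideal.exists_minimalPrimes_le hle
  have hqprime : q.IsPrime := hq.1.1
  let qq : PrimeSpectrum Γ(C, W) := ⟨q, hqprime⟩
  have hzW : hW.fromSpec qq ∈ W := fromSpec_mem hW qq
  have haq : a ∈ q := hq.1.2 (Ideal.subset_span rfl)
  have hzu : ¬ IsUnit (C.presheaf.germ W (hW.fromSpec qq) hzW a) := by
    intro hu'
    have h1 := (Scheme.mem_basicOpen C a _ hzW).mpr hu'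
    have h2 := (mem_basicOpen_iff_notMem hW ⟨_, hzW⟩ a).mp h1
    rw [primeIdealOf_fromSpec hW qq hzW] at h2
    exact h2 haq
  have hzcl := hcl _ hzW hzu
  have hspec : qq ⤳ hW.primeIdealOf ⟨y, hy⟩ := (PrimeSpectrum.le_iff_specializes _ _).mp hqp
  have h2 : hW.fromSpec qq ⤳ hW.fromSpec (hW.primeIdealOf ⟨y, hy⟩) :=
    hspec.map hW.fromSpec.continuous
  rw [hW.fromSpec_primeIdealOf ⟨y, hy⟩] at h2
  have h3 : y ∈ closure ({hW.fromSpec qq} : Set C) := specializes_iff_mem_closure.mp h2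
  rw [hzcl.closure_eq] at h3
  exact ⟨qq, hq, h3.symm⟩


/-- the support of a divisor on an absolute curve is finite -/
theorem finite_supp [IsNoetherian C] (hC : AbsCurve C) (D : Divisor C) : (supp D).Finite := by
  have hloc : ∀ x : C, ∃ V : C.Opens, x ∈ V ∧ (supp D ∩ (V : Set C)).Finite := by
    intro x
    obtain ⟨V₀, hxV₀, ⟨R⟩⟩ := exists_localRep D x
    obtain ⟨W, hW, hxW, hWV₀⟩ := Opens.isBasis_iff_nbhd.mp C.isBasis_affineOpens hxV₀
    refine ⟨W, hxW, ?_⟩
    obtain ⟨a, ha_def⟩ : ∃ a, a = C.presheaf.map (homOfLE hWV₀).op R.a := ⟨_, rfl⟩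
    obtain ⟨b, hb_def⟩ : ∃ b, b = C.presheaf.map (homOfLE hWV₀).op R.b := ⟨_, rfl⟩
    have ha : a ∈ regSub C W := by rw [ha_def]; exact regSub_res _ R.ha
    have hb : b ∈ regSub C W := by rw [hb_def]; exact regSub_res _ R.hb
    refine ((zeroLocus_finite hC hW a ha).1.union (zeroLocus_finite hC hW b hb).1).subset ?_
    rintro y ⟨hyD, hyW⟩
    by_contra hnot
    rw [Set.mem_union, not_or] at hnot
    have hua : IsUnit (C.presheaf.germ W y hyW a) := by
      by_contra h
      exact hnot.1 ⟨hyW, h⟩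
    have hub : IsUnit (C.presheaf.germ W y hyW b) := by
      by_contra h
      exact hnot.2 ⟨hyW, h⟩
    rw [ha_def, TopCat.Presheaf.germ_res_apply] at hua
    rw [hb_def, TopCat.Presheaf.germ_res_apply] at hub
    apply hyD
    rw [R.eq_one_iff ⟨y, hWV₀ hyW⟩]
    obtain ⟨ua, hua'⟩ := hua
    obtain ⟨ub, hub'⟩ := hub
    refine ⟨⟨((ub⁻¹ : (C.presheaf.stalk y)ˣ) : C.presheaf.stalk y) *
      C.presheaf.germ V₀ y (hWV₀ hyW) R.a, ?_⟩, ⟨((ua⁻¹ : (C.presheaf.stalk y)ˣ) :
      C.presheaf.stalk y) * C.presheaf.germ V₀ y (hWV₀ hyW) R.b, ?_⟩⟩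
    · rw [← mul_assoc, ← hub', Units.mul_inv, one_mul]
    · rw [← mul_assoc, ← hua', Units.mul_inv, one_mul]
  choose V hxV hfin using hloc
  obtain ⟨t, ht⟩ := isCompact_univ.elim_finite_subcover (fun x => (V x : Set C))
    (fun x => (V x).isOpen) (fun x _ => Set.mem_iUnion.mpr ⟨x, hxV x⟩)
  have : supp D ⊆ ⋃ x ∈ t, supp D ∩ (V x : Set C) := by
    intro y hy
    obtain ⟨x, hx, hyx⟩ := Set.mem_iUnion₂.mp (ht (Set.mem_univ y))
    exact Set.mem_iUnion₂.mpr ⟨x, hx, hy, hyx⟩
  exact (Set.Finite.biUnion t.finite_toSet (fun x _ => hfin x)).subset this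

/-- value of a quotient of a function by a regular function -/
theorem val_mul {U : C.Opens} (a : Γ(C, U)) (b : regSub C U) (y : U) :
    (toK C U a * invReg b).1 y * algebraMap _ (KStalk C y.1) (C.presheaf.germ U y.1 y.2 b.1) =
      algebraMap _ (KStalk C y.1) (C.presheaf.germ U y.1 y.2 a) := by
  have h1 : toK C U a * invReg b * toK C U b.1 = toK C U a := by
    rw [mul_assoc, mul_comm (invReg b), toK_mul_invReg, mul_one]
  have h2 := congrArg (fun t : Γ(kmod C, U) => t.1 y) h1
  exact h2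

/-- the unit of `K_X(U)` attached to two regular sections -/
noncomputable def unitOf {U : C.Opens} (a b : regSub C U) : (Γ(kmod C, U))ˣ where
  val := toK C U a.1 * invReg b
  inv := toK C U b.1 * invReg a
  val_inv := by
    have h1 := toK_mul_invReg a
    have h2 := toK_mul_invReg b
    calc toK C U a.1 * invReg b * (toK C U b.1 * invReg a)
        = (toK C U a.1 * invReg a) * (toK C U b.1 * invReg b) := by ring
      _ = 1 := by rw [h1, h2, one_mul]
  inv_val := by
    have h1 := toK_mul_invReg a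
    have h2 := toK_mul_invReg b
    calc toK C U b.1 * invReg a * (toK C U a.1 * invReg b)
        = (toK C U a.1 * invReg a) * (toK C U b.1 * invReg b) := by ring
      _ = 1 := by rw [h1, h2, one_mul]

theorem unitOf_val_mul {U : C.Opens} (a b : regSub C U) (y : U) :
    ((Units.map (evalK C U y).toMonoidHom (unitOf a b) : (KStalk C y.1)ˣ) : KStalk C y.1) *
      algebraMap _ (KStalk C y.1) (C.presheaf.germ U y.1 y.2 b.1) =
      algebraMap _ (KStalk C y.1) (C.presheaf.germ U y.1 y.2 a.1) :=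
  val_mul a.1 b y

theorem germOf_unitOf_eq_one {U : C.Opens} (a b : regSub C U) (y : U)
    (hua : IsUnit (C.presheaf.germ U y.1 y.2 a.1)) (hub : IsUnit (C.presheaf.germ U y.1 y.2 b.1)) :
    germOf (unitOf a b) y = 1 := by
  rw [germOf, QuotientGroup.eq_one_iff]
  refine ⟨hua.unit * hub.unit⁻¹, ?_⟩
  apply Units.ext
  change algebraMap _ (KStalk C y.1) ((hua.unit * hub.unit⁻¹ : (C.presheaf.stalk y.1)ˣ) :
    C.presheaf.stalk y.1) = _
  apply (IsLocalization.map_units (KStalk C y.1) (regGerm y b)).mul_right_cancel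
  rw [unitOf_val_mul a b y]
  change algebraMap _ (KStalk C y.1) _ * algebraMap _ (KStalk C y.1)
    (C.presheaf.germ U y.1 y.2 b.1) = _
  rw [← map_mul, Units.val_mul, mul_assoc, hub.val_inv_mul, mul_one, hua.unit_spec]

theorem germOf_unitOf_eq {U : C.Opens} (a b : regSub C U) (y : U) (u : (KStalk C y.1)ˣ)
    (h : (u : KStalk C y.1) * algebraMap _ (KStalk C y.1) (C.presheaf.germ U y.1 y.2 b.1) =
      algebraMap _ (KStalk C y.1) (C.presheaf.germ U y.1 y.2 a.1)) :
    germOf (unitOf a b) y = QuotientGroup.mk u := by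
  rw [germOf]
  congr 1
  apply Units.ext
  apply (IsLocalization.map_units (KStalk C y.1) (regGerm y b)).mul_right_cancel
  rw [unitOf_val_mul a b y]
  exact h.symm

/-- S10892 -/
theorem mem_divisorGroup_iff [IsNoetherian C] (hC : AbsCurve C) (g : ∀ x : C, Mero.Germ C x) :
    g ∈ Mero.divisorGroup C ↔
      ({x : C | g x ≠ 1}.Finite ∧ ∀ x : C, ¬ IsClosed ({x} : Set C) → g x = 1) := by
  constructor
  · intro hg
    exact ⟨finite_supp hC ⟨g, hg⟩, fun x hx => germ_eq_one_of_not_isClosed hC x hx _⟩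
  · rintro ⟨hfin, hncl⟩ x
    obtain ⟨u, hu⟩ := QuotientGroup.mk_surjective (g x)
    obtain ⟨α, β, hαβ⟩ := exists_regStalk_rep x u
    obtain ⟨U₁, hx₁, a₁, ha₁, hα⟩ := α.2
    obtain ⟨U₂, hx₂, b₂, hb₂, hβ⟩ := β.2
    obtain ⟨W, hW, hxW, hWU⟩ := Opens.isBasis_iff_nbhd.mp C.isBasis_affineOpens
      (show x ∈ U₁ ⊓ U₂ from ⟨hx₁, hx₂⟩)
    have hWU₁ : W ≤ U₁ := hWU.trans inf_le_left
    have hWU₂ : W ≤ U₂ := hWU.trans inf_le_right
    obtain ⟨aW, haW_def⟩ : ∃ aW, aW = C.presheaf.map (homOfLE hWU₁).op a₁ := ⟨_, rfl⟩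
    obtain ⟨bW, hbW_def⟩ : ∃ bW, bW = C.presheaf.map (homOfLE hWU₂).op b₂ := ⟨_, rfl⟩
    have hgα : C.presheaf.germ W x hxW aW = (α : C.presheaf.stalk x) := by
      rw [haW_def, TopCat.Presheaf.germ_res_apply]
      exact hα
    have hgβ : C.presheaf.germ W x hxW bW = (β : C.presheaf.stalk x) := by
      rw [hbW_def, TopCat.Presheaf.germ_res_apply]
      exact hβ
    have haW : aW ∈ regSub C W := by rw [haW_def]; exact regSub_res _ ha₁
    have hbW : bW ∈ regSub C W := by rw [hbW_def]; exact regSub_res _ hb₂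
    obtain ⟨hfa, hca⟩ := zeroLocus_finite hC hW aW haW
    obtain ⟨hfb, hcb⟩ := zeroLocus_finite hC hW bW hbW
    set Z : Set C := ({y : C | ∃ hy : y ∈ W, ¬ IsUnit (C.presheaf.germ W y hy aW)} ∪
      {y : C | ∃ hy : y ∈ W, ¬ IsUnit (C.presheaf.germ W y hy bW)} ∪ {y : C | g y ≠ 1}) \ {x}
      with hZ_def
    have hZfin : Z.Finite := ((hfa.union hfb).union hfin).diff
    have hZcl : IsClosed Z := by
      have : Z = ⋃ z ∈ Z, ({z} : Set C) := by
        ext y
        simp only [Set.mem_iUnion, Set.mem_singleton_iff, exists_prop, exists_eq_right']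
      rw [this]
      refine Set.Finite.isClosed_biUnion hZfin (fun z hz => ?_)
      rcases hz.1 with (⟨hzW, hu⟩ | ⟨hzW, hu⟩) | hz1
      · exact hca z hzW hu
      · exact hcb z hzW hu
      · by_contra hncl'
        exact hz1 (hncl z hncl')
    let U : C.Opens := ⟨(W : Set C) ∩ Zᶜ, W.isOpen.inter hZcl.isOpen_compl⟩
    have hUW : U ≤ W := fun y hy => hy.1
    have hxU : x ∈ U := ⟨hxW, fun h => h.2 rfl⟩
    let a : regSub C U := ⟨C.presheaf.map (homOfLE hUW).op aW, regSub_res _ haW⟩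
    let b : regSub C U := ⟨C.presheaf.map (homOfLE hUW).op bW, regSub_res _ hbW⟩
    refine ⟨U, hxU, unitOf a b, ?_⟩
    rintro ⟨y, hyU⟩
    by_cases hyx : y = x
    · subst hyx
      rw [← hu]
      symm
      apply germOf_unitOf_eq a b ⟨y, hyU⟩ u
      change _ * algebraMap _ (KStalk C y) (C.presheaf.germ U y hyU
        (C.presheaf.map (homOfLE hUW).op bW)) = algebraMap _ (KStalk C y) (C.presheaf.germ U y hyU
        (C.presheaf.map (homOfLE hUW).op aW))
      rw [TopCat.Presheaf.germ_res_apply, TopCat.Presheaf.germ_res_apply]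
      change _ * algebraMap _ (KStalk C y) (C.presheaf.germ W y hxW bW) =
        algebraMap _ (KStalk C y) (C.presheaf.germ W y hxW aW)
      rw [hgα, hgβ]
      exact hαβ
    · have hyZ : y ∉ Z := hyU.2
      have hyW : y ∈ W := hyU.1
      have h1 : ¬ (y ∈ ({y : C | ∃ hy : y ∈ W, ¬ IsUnit (C.presheaf.germ W y hy aW)} ∪
          {y : C | ∃ hy : y ∈ W, ¬ IsUnit (C.presheaf.germ W y hy bW)} ∪ {y : C | g y ≠ 1})) :=
        fun h => hyZ ⟨h, hyx⟩
      rw [Set.mem_union, Set.mem_union, not_or, not_or] at h1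
      obtain ⟨⟨h1a, h1b⟩, h1g⟩ := h1
      have hgy : g y = 1 := by
        by_contra h
        exact h1g h
      have hua : IsUnit (C.presheaf.germ W y hyW aW) := by
        by_contra h
        exact h1a ⟨hyW, h⟩
      have hub : IsUnit (C.presheaf.germ W y hyW bW) := by
        by_contra h
        exact h1b ⟨hyW, h⟩
      change g y = _
      rw [hgy]
      symm
      apply germOf_unitOf_eq_one a b ⟨y, hyU⟩
      · change IsUnit (C.presheaf.germ U y hyU (C.presheaf.map (homOfLE hUW).op aW))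
        rw [TopCat.Presheaf.germ_res_apply]
        exact hua
      · change IsUnit (C.presheaf.germ U y hyU (C.presheaf.map (homOfLE hUW).op bW))
        rw [TopCat.Presheaf.germ_res_apply]
        exact hub


/-- S10894 -/
theorem s10894 [IsNoetherian C] (hC : AbsCurve C) (D : Mero.Divisor C) :
    ∃ D₁ D₂ : Mero.Divisor C, Mero.IsEffective D₁ ∧ Mero.IsEffective D₂ ∧ D = D₁ * D₂⁻¹ ∧
      Mero.supp D₁ ⊆ Mero.supp D ∧ Mero.supp D₂ ⊆ Mero.supp D := by
  classical
  have hrep : ∀ x : C, ∃ α β : regStalk C x, D.1 x =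
      QuotientGroup.mk (IsLocalization.map_units (KStalk C x) α).unit *
        (QuotientGroup.mk (IsLocalization.map_units (KStalk C x) β).unit)⁻¹ := by
    intro x
    obtain ⟨u, hu⟩ := QuotientGroup.mk_surjective (D.1 x)
    obtain ⟨α, β, h⟩ := exists_regStalk_rep x u
    refine ⟨α, β, ?_⟩
    rw [← hu, ← QuotientGroup.mk_inv, ← QuotientGroup.mk_mul]
    congr 1
    have : u * (IsLocalization.map_units (KStalk C x) β).unit =
        (IsLocalization.map_units (KStalk C x) α).unit := Units.ext h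
    exact eq_mul_inv_of_mul_eq this
  choose α β hαβ using hrep
  let g₁ : ∀ x : C, Germ C x := fun x =>
    if x ∈ supp D then QuotientGroup.mk (IsLocalization.map_units (KStalk C x) (α x)).unit else 1
  let g₂ : ∀ x : C, Germ C x := fun x =>
    if x ∈ supp D then QuotientGroup.mk (IsLocalization.map_units (KStalk C x) (β x)).unit else 1
  have h₁ : ∀ x, x ∉ supp D → g₁ x = 1 := fun x hx => if_neg hx
  have h₂ : ∀ x, x ∉ supp D → g₂ x = 1 := fun x hx => if_neg hx
  have h₁' : ∀ x, x ∈ supp D →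
      g₁ x = QuotientGroup.mk (IsLocalization.map_units (KStalk C x) (α x)).unit :=
    fun x hx => if_pos hx
  have h₂' : ∀ x, x ∈ supp D →
      g₂ x = QuotientGroup.mk (IsLocalization.map_units (KStalk C x) (β x)).unit :=
    fun x hx => if_pos hx
  have hfin := finite_supp hC D
  have hg₁ : g₁ ∈ divisorGroup C := (mem_divisorGroup_iff hC g₁).mpr
    ⟨hfin.subset (fun x hx => by
      by_contra hn
      exact hx (h₁ x hn)), fun x hx => germ_eq_one_of_not_isClosed hC x hx _⟩
  have hg₂ : g₂ ∈ divisorGroup C := (mem_divisorGroup_iff hC g₂).mpr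
    ⟨hfin.subset (fun x hx => by
      by_contra hn
      exact hx (h₂ x hn)), fun x hx => germ_eq_one_of_not_isClosed hC x hx _⟩
  have hone : ∀ x : C, (1 : Germ C x) =
      QuotientGroup.mk (IsLocalization.map_units (KStalk C x) (1 : regStalk C x)).unit := by
    intro x
    rw [← QuotientGroup.mk_one]
    congr 1
    apply Units.ext
    change (1 : KStalk C x) = algebraMap _ (KStalk C x) ((1 : regStalk C x) : C.presheaf.stalk x)
    rw [Submonoid.coe_one, map_one]
  refine ⟨⟨g₁, hg₁⟩, ⟨g₂, hg₂⟩, ?_, ?_, ?_, ?_, ?_⟩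
  · intro x
    by_cases hx : x ∈ supp D
    · exact ⟨α x, h₁' x hx⟩
    · exact ⟨1, (h₁ x hx).trans (hone x)⟩
  · intro x
    by_cases hx : x ∈ supp D
    · exact ⟨β x, h₂' x hx⟩
    · exact ⟨1, (h₂ x hx).trans (hone x)⟩
  · apply Subtype.ext
    funext x
    change D.1 x = g₁ x * (g₂ x)⁻¹
    by_cases hx : x ∈ supp D
    · rw [h₁' x hx, h₂' x hx]
      exact hαβ x
    · have hD1 : D.1 x = 1 := by
        by_contra hn
        exact hx hn
      rw [h₁ x hx, h₂ x hx, hD1]
      exact (mul_inv_cancel (1 : Germ C x)).symm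
  · intro x hx
    by_contra hn
    exact hx (h₁ x hn)
  · intro x hx
    by_contra hn
    exact hx (h₂ x hn)

end Groth.Agent.Lead.MeroJ
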