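import Mathlib
import Groth.Prelude.Def_MeroDiv
import Groth.Prelude.Def_Pic
import Groth.Agent.Lead.MeroM
import Groth.Agent.Lead.MeroJ

/-!
# A regular meromorphic section of an invertible module `L` gives `L ≅ O_X(D)`
-/

set_option autoImplicit false
set_option linter.style.haveILetI false
set_option linter.unusedSectionVars false

universe u

open CategoryTheory CategoryTheory.Limits AlgebraicGeometry TopologicalSpace Opposite IsLocalRing

namespace Groth.Agent.Lead.MeroN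

open Mero Groth.Agent.Lead.MeroB Groth.Agent.Lead.MeroD Groth.Agent.Lead.MeroE
  Groth.Agent.Lead.MeroJ Groth.Agent.Lead.MeroM

variable {X : Scheme.{u}} (L : X.Modules) (s : Γ(merMod L, ⊤))

/-- the value of `s` at `y` -/
abbrev sval (y : X) : MStalk L y := s.1 ⟨y, Opens.mem_top y⟩

/-- `g` is a coefficient of `s` at `y` with respect to some basis of the stalk -/
def IsCoeff (y : X) (g : (KStalk X y)ˣ) : Prop :=
  ∃ ε : L.presheaf.stalk y, IsBasisElt (X.presheaf.stalk y) ε ∧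
    sval L s y = (g : KStalk X y) • (LocalizedModule.mk ε 1 : MStalk L y)

/-- local form of the meromorphic section `s` on `V` -/
structure LocalForm (V : X.Opens) where
  e : Γ(L, V)
  he : IsLocalBasis L V e
  r : regSub X V
  b : regSub X V
  hs : ∀ z : V, sval L s z.1 =
    LocalizedModule.mk (X.presheaf.germ V z.1 z.2 r.1 • L.presheaf.germ V z.1 z.2 e) (regGerm z b)

variable {L s}

theorem algebraMap_smul_mk (y : X) (c : X.presheaf.stalk y) (μ : L.presheaf.stalk y)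
    (t : regStalk X y) :
    algebraMap (X.presheaf.stalk y) (KStalk X y) c • (LocalizedModule.mk μ t : MStalk L y) =
      LocalizedModule.mk (c • μ) t := by
  rw [algebraMap_smul, LocalizedModule.smul'_mk]

theorem mk_smul_mk' (y : X) (c : X.presheaf.stalk y) (β : regStalk X y) (μ : L.presheaf.stalk y)
    (t : regStalk X y) :
    (LocalizedModule.mk c β : KStalk X y) • (LocalizedModule.mk μ t : MStalk L y) =
      LocalizedModule.mk (c • μ) (β * t) :=
  LocalizedModule.mk_smul_mk c μ β t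

theorem exists_localForm (hL : PicF.IsInvertible L) (hs : IsRegularMero L s) (x : X) :
    ∃ (V : X.Opens) (_ : x ∈ V), Nonempty (LocalForm L s V) := by
  obtain ⟨U₁, hx₁, e₁, he₁⟩ := exists_isLocalBasis L hL x
  obtain ⟨V₂, hx₂, i, m, b, hmb⟩ := s.2 ⟨x, Opens.mem_top x⟩
  have hxV : x ∈ V₂ ⊓ U₁ := ⟨hx₂, hx₁⟩
  obtain ⟨e, he_def⟩ : ∃ e, e = L.presheaf.map (homOfLE (inf_le_right : V₂ ⊓ U₁ ≤ U₁)).op e₁ :=
    ⟨_, rfl⟩
  have he : IsLocalBasis L (V₂ ⊓ U₁) e := by rw [he_def]; exact he₁.res inf_le_right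
  obtain ⟨r, hr, -⟩ := he (V₂ ⊓ U₁) le_rfl
    (L.presheaf.map (homOfLE (inf_le_left : V₂ ⊓ U₁ ≤ V₂)).op m)
  have e0 : L.presheaf.map (homOfLE (le_refl (V₂ ⊓ U₁))).op e = e := by
    change L.presheaf.map (𝟙 _) e = e
    rw [L.presheaf.map_id]; rfl
  rw [e0] at hr
  obtain ⟨b', hb'_def⟩ : ∃ b', b' = X.presheaf.map (homOfLE (inf_le_left : V₂ ⊓ U₁ ≤ V₂)).op b.1 :=
    ⟨_, rfl⟩
  have hb' : b' ∈ regSub X (V₂ ⊓ U₁) := by rw [hb'_def]; exact regSub_res _ b.2
  have hform : ∀ z : (V₂ ⊓ U₁ : X.Opens), sval L s z.1 =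
      LocalizedModule.mk (X.presheaf.germ _ z.1 z.2 r • L.presheaf.germ _ z.1 z.2 e)
        (regGerm z ⟨b', hb'⟩) := by
    intro z
    have h1 := hmb ⟨z.1, z.2.1⟩
    have h2 : sval L s z.1 = LocalizedModule.mk (L.presheaf.germ V₂ z.1 z.2.1 m)
        (regGerm ⟨z.1, z.2.1⟩ b) := h1
    rw [h2]
    refine mk_congr ?_ ?_
    · rw [← Mero.germ_smul, ← hr, TopCat.Presheaf.germ_res_apply]
    · change X.presheaf.germ V₂ z.1 z.2.1 b.1 = X.presheaf.germ _ z.1 z.2 b'
      rw [hb'_def, TopCat.Presheaf.germ_res_apply]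
  have hr_reg : r ∈ regSub X (V₂ ⊓ U₁) := by
    intro z
    rw [mem_nonZeroDivisors_iff_right]
    intro c hc
    have h1 : algebraMap (X.presheaf.stalk z.1) (KStalk X z.1) c • sval L s z.1 = 0 := by
      rw [hform z, algebraMap_smul_mk, ← mul_smul, hc, zero_smul, LocalizedModule.zero_mk]
    have h2 := hs z.1 _ h1
    exact algebraMap_KStalk_injective z.1 (h2.trans (map_zero _).symm)
  exact ⟨V₂ ⊓ U₁, hxV, ⟨⟨e, he, ⟨r, hr_reg⟩, ⟨b', hb'⟩, hform⟩⟩⟩

theorem unitOf_val {U : X.Opens} (a b : regSub X U) (y : U) :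
    ((Units.map (evalK X U y).toMonoidHom (unitOf a b) : (KStalk X y.1)ˣ) : KStalk X y.1) =
      LocalizedModule.mk (X.presheaf.germ U y.1 y.2 a.1) (regGerm y b) := by
  change (LocalizedModule.mk (X.presheaf.germ U y.1 y.2 a.1) 1 : KStalk X y.1) *
    LocalizedModule.mk 1 (regGerm y b) = _
  refine LocalizedModule.mk_mul_mk.trans ?_
  rw [mul_one, one_mul]

theorem LocalForm.sval_eq {V : X.Opens} (F : LocalForm L s V) (z : V) :
    sval L s z.1 = ((unitOf F.r F.b : (Γ(kmod X, V))ˣ) : Γ(kmod X, V)).1 z •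
      (LocalizedModule.mk (L.presheaf.germ V z.1 z.2 F.e) 1 : MStalk L z.1) := by
  have h1 := unitOf_val F.r F.b z
  change ((unitOf F.r F.b : (Γ(kmod X, V))ˣ) : Γ(kmod X, V)).1 z = _ at h1
  rw [h1, mk_smul_mk', mul_one]
  exact F.hs z

theorem LocalForm.isCoeff {V : X.Opens} (F : LocalForm L s V) (z : V) :
    IsCoeff L s z.1 (Units.map (evalK X V z).toMonoidHom (unitOf F.r F.b)) :=
  ⟨L.presheaf.germ V z.1 z.2 F.e, F.he.germ z.1 z.2, F.sval_eq z⟩

theorem IsBasisElt.exists_unit {R : Type*} [CommRing R] {M : Type*} [AddCommGroup M] [Module R M]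
    {ε ε' : M} (h : IsBasisElt R ε) (h' : IsBasisElt R ε') : ∃ u : Rˣ, ε' = (u : R) • ε := by
  apply h.exists_unit_of_span
  rw [eq_top_iff]
  intro μ _
  obtain ⟨ρ, rfl⟩ := h'.1 μ
  exact Submodule.smul_mem _ _ (Submodule.mem_span_singleton_self _)

theorem isCoeff_unique {y : X} {g g' : (KStalk X y)ˣ} (hg : IsCoeff L s y g)
    (hg' : IsCoeff L s y g') : (QuotientGroup.mk g : Germ X y) = QuotientGroup.mk g' := by
  obtain ⟨ε, hε, h1⟩ := hg
  obtain ⟨ε', hε', h2⟩ := hg'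
  obtain ⟨u, hu⟩ := IsBasisElt.exists_unit hε hε'
  rw [QuotientGroup.eq]
  refine ⟨u⁻¹, ?_⟩
  have h3 : (g : KStalk X y) • (LocalizedModule.mk ε 1 : MStalk L y) =
      ((g' : KStalk X y) * algebraMap _ (KStalk X y) (u : X.presheaf.stalk y)) •
        (LocalizedModule.mk ε 1 : MStalk L y) := by
    rw [← h1, h2, mul_smul, algebraMap_smul_mk, hu]
  have h4 := hε.loc_injective (regStalk_le_nonZeroDivisors y) _ _ h3
  have h5 : g' = g * Units.map (algebraMap (X.presheaf.stalk y) (KStalk X y)).toMonoidHom u⁻¹ := by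
    apply Units.ext
    rw [Units.val_mul, h4, mul_assoc]
    change _ = _ * (algebraMap _ (KStalk X y) (u : X.presheaf.stalk y) *
      algebraMap _ (KStalk X y) ((u⁻¹ : (X.presheaf.stalk y)ˣ) : X.presheaf.stalk y))
    rw [← map_mul, Units.mul_inv, map_one, mul_one]
  rw [h5, inv_mul_cancel_left]

section Div

variable (hc : ∀ y : X, ∃ g, IsCoeff L s y g)

/-- the germs of the divisor of `s` -/
noncomputable def divFun : ∀ y : X, Germ X y := fun y => QuotientGroup.mk (hc y).choose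

theorem divFun_eq (y : X) (g : (KStalk X y)ˣ) (hg : IsCoeff L s y g) :
    divFun hc y = QuotientGroup.mk g :=
  isCoeff_unique (hc y).choose_spec hg

theorem divFun_mem (hf : ∀ x : X, ∃ (V : X.Opens) (_ : x ∈ V), Nonempty (LocalForm L s V)) :
    divFun hc ∈ divisorGroup X := by
  intro x
  obtain ⟨V, hxV, ⟨F⟩⟩ := hf x
  exact ⟨V, hxV, unitOf F.r F.b, fun y => divFun_eq hc y.1 _ (F.isCoeff y)⟩

theorem existsUnique_coef {y : X} (hy : ∃ g, IsCoeff L s y g) (μ : MStalk L y) :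
    ∃! c : KStalk X y, c • sval L s y = μ := by
  obtain ⟨g, ε, hε, h1⟩ := hy
  obtain ⟨q, hq⟩ := hε.loc_exists (S := regStalk X y) μ
  refine ⟨q * ((g⁻¹ : (KStalk X y)ˣ) : KStalk X y), ?_, ?_⟩
  · change (q * ((g⁻¹ : (KStalk X y)ˣ) : KStalk X y)) • sval L s y = μ
    rw [h1, ← mul_smul, mul_assoc, Units.inv_mul, mul_one, hq]
  · intro c hc'
    change c • sval L s y = μ at hc'
    rw [h1, ← mul_smul, hq] at hc'
    have h2 := hε.loc_injective (regStalk_le_nonZeroDivisors y) _ _ hc'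
    rw [← h2, mul_assoc, Units.mul_inv, mul_one]

/-- the coefficient of an element of `S_y⁻¹ L_y` with respect to `s_y` -/
noncomputable def coef (y : X) (μ : MStalk L y) : KStalk X y :=
  (existsUnique_coef (hc y) μ).exists.choose

theorem coef_smul (y : X) (μ : MStalk L y) : coef hc y μ • sval L s y = μ :=
  (existsUnique_coef (hc y) μ).exists.choose_spec

theorem coef_eq (y : X) (μ : MStalk L y) (c : KStalk X y) (h : c • sval L s y = μ) :
    coef hc y μ = c :=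
  (existsUnique_coef (hc y) μ).unique (coef_smul hc y μ) h

theorem coef_add (y : X) (μ μ' : MStalk L y) :
    coef hc y (μ + μ') = coef hc y μ + coef hc y μ' := by
  apply coef_eq
  rw [add_smul, coef_smul, coef_smul]

theorem coef_zero (y : X) : coef hc y 0 = 0 := by
  apply coef_eq
  rw [zero_smul]

theorem coef_stalk_smul (y : X) (ρ : X.presheaf.stalk y) (μ : MStalk L y) :
    coef hc y (ρ • μ) = ρ • coef hc y μ := by
  apply coef_eq
  rw [smul_assoc, coef_smul]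

variable (hf : ∀ x : X, ∃ (V : X.Opens) (_ : x ∈ V), Nonempty (LocalForm L s V))

/-- the divisor of `s` -/
noncomputable def divOf : Divisor X := ⟨divFun hc, divFun_mem hc hf⟩

include hf in
theorem phi_kLoc (W : X.Opens) (m : Γ(L, W)) :
    (kLoc X).pred (fun z : W => coef hc z.1 (LocalizedModule.mk (L.presheaf.germ W z.1 z.2 m) 1)) := by
  intro z
  obtain ⟨V₁, hzV₁, ⟨F⟩⟩ := hf z.1
  have hzV : z.1 ∈ V₁ ⊓ W := ⟨hzV₁, z.2⟩
  obtain ⟨a, ha, -⟩ := F.he (V₁ ⊓ W) inf_le_left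
    (L.presheaf.map (homOfLE (inf_le_right : V₁ ⊓ W ≤ W)).op m)
  refine ⟨V₁ ⊓ W, hzV, homOfLE inf_le_right,
    a * X.presheaf.map (homOfLE (inf_le_left : V₁ ⊓ W ≤ V₁)).op F.b.1,
    ⟨X.presheaf.map (homOfLE (inf_le_left : V₁ ⊓ W ≤ V₁)).op F.r.1, regSub_res _ F.r.2⟩, fun w => ?_⟩
  apply coef_eq
  have h1 := F.hs ⟨w.1, w.2.1⟩
  have h2 : sval L s w.1 = LocalizedModule.mk (X.presheaf.germ V₁ w.1 w.2.1 F.r.1 •
      L.presheaf.germ V₁ w.1 w.2.1 F.e) (regGerm ⟨w.1, w.2.1⟩ F.b) := h1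
  change (LocalizedModule.mk _ _ : KStalk X w.1) • sval L s w.1 =
    LocalizedModule.mk (L.presheaf.germ W w.1 w.2.2 m) 1
  rw [h2, mk_smul_mk']
  have h3 : L.presheaf.germ W w.1 w.2.2 m = X.presheaf.germ (V₁ ⊓ W) w.1 w.2 a •
      L.presheaf.germ V₁ w.1 w.2.1 F.e := by
    rw [← TopCat.Presheaf.germ_res_apply L.presheaf (homOfLE (inf_le_right : V₁ ⊓ W ≤ W)) w.1 w.2 m,
      ha, Mero.germ_smul, TopCat.Presheaf.germ_res_apply]
  rw [h3, LocalizedModule.mk_eq]
  refine ⟨1, ?_⟩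
  simp only [one_smul, Submonoid.smul_def, smul_smul, Submonoid.coe_mul, map_mul,
    TopCat.Presheaf.germ_res_apply]
  congr 1
  ring

theorem phi_divCond (W : X.Opens) (m : Γ(L, W)) (z : W) :
    DivCond (divOf hc hf) z.1
      (coef hc z.1 (LocalizedModule.mk (L.presheaf.germ W z.1 z.2 m) 1)) := by
  intro g hg
  obtain ⟨g₀, hg₀⟩ := hc z.1
  have h0 : (divOf hc hf).1 z.1 = QuotientGroup.mk g₀ := divFun_eq hc z.1 g₀ hg₀
  obtain ⟨ε, hε, h1⟩ := hg₀
  rw [h0, QuotientGroup.eq] at hg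
  obtain ⟨u, hu⟩ := hg
  obtain ⟨α, hα⟩ := hε.1 (L.presheaf.germ W z.1 z.2 m)
  have h2 := coef_smul hc z.1 (LocalizedModule.mk (L.presheaf.germ W z.1 z.2 m) 1)
  obtain ⟨c, hc_def⟩ : ∃ c, c = coef hc z.1 (LocalizedModule.mk (L.presheaf.germ W z.1 z.2 m) 1) :=
    ⟨_, rfl⟩
  rw [← hc_def] at h2 ⊢
  rw [h1, ← mul_smul, hα, ← algebraMap_smul_mk] at h2
  have h3 := hε.loc_injective (regStalk_le_nonZeroDivisors z.1) _ _ h2
  have h4 : (g : KStalk X z.1) = (g₀ : KStalk X z.1) *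
      algebraMap _ (KStalk X z.1) (u : X.presheaf.stalk z.1) := by
    have : g = g₀ * (g₀⁻¹ * g) := by rw [mul_inv_cancel_left]
    rw [this, ← hu]
    rfl
  refine ⟨α * (u : X.presheaf.stalk z.1), ?_⟩
  rw [h4, ← mul_assoc, h3, map_mul]

theorem phi_pred (W : X.Opens) (m : Γ(L, W)) :
    (divLoc X (divOf hc hf)).pred
      (fun z : W => coef hc z.1 (LocalizedModule.mk (L.presheaf.germ W z.1 z.2 m) 1)) :=
  ⟨phi_kLoc hc hf W m, fun z => phi_divCond hc hf W m z⟩

/-- the comparison map on sections -/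
noncomputable def phiFun (W : X.Opens) : Γ(L, W) →+ Γ(divMod (divOf hc hf), W) where
  toFun m := ⟨fun z => coef hc z.1 (LocalizedModule.mk (L.presheaf.germ W z.1 z.2 m) 1),
    phi_pred hc hf W m⟩
  map_zero' := Subtype.ext <| funext fun z => by
    change coef hc z.1 (LocalizedModule.mk (L.presheaf.germ W z.1 z.2 0) 1) = 0
    rw [map_zero, LocalizedModule.zero_mk, coef_zero]
  map_add' m m' := Subtype.ext <| funext fun z => by
    change coef hc z.1 (LocalizedModule.mk (L.presheaf.germ W z.1 z.2 (m + m')) 1) =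
      coef hc z.1 (LocalizedModule.mk (L.presheaf.germ W z.1 z.2 m) 1) +
      coef hc z.1 (LocalizedModule.mk (L.presheaf.germ W z.1 z.2 m') 1)
    rw [← coef_add]
    congr 1
    rw [LocalizedModule.mk_add_mk, map_add]
    exact mk_congr (by simp only [one_smul]) (by rw [one_mul])

theorem phiFun_val (W : X.Opens) (m : Γ(L, W)) (z : W) :
    (phiFun hc hf W m).1 z = coef hc z.1 (LocalizedModule.mk (L.presheaf.germ W z.1 z.2 m) 1) := rfl

/-- the comparison map `L ⟶ O_X(D)` -/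
noncomputable def phi : L ⟶ divMod (divOf hc hf) :=
  ⟨PresheafOfModules.homMk (M₁ := L.val) (M₂ := (divMod (divOf hc hf)).val)
    { app := fun U => AddCommGrpCat.ofHom (phiFun hc hf U.unop)
      naturality := fun {U V} i => by
        ext m
        refine Subtype.ext (funext fun x => ?_)
        exact congrArg (coef hc x.1)
          (mk_congr (TopCat.Presheaf.germ_res_apply' L.presheaf i x.1 x.2 m) rfl) }
    (fun U r m => Subtype.ext <| funext fun x => by
      change coef hc x.1 (LocalizedModule.mk (L.presheaf.germ U.unop x.1 x.2 (r • m)) 1) =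
        X.presheaf.germ U.unop x.1 x.2 r •
          coef hc x.1 (LocalizedModule.mk (L.presheaf.germ U.unop x.1 x.2 m) 1)
      rw [← coef_stalk_smul]
      congr 1
      exact (mk_congr (germ_smul L U.unop x.1 x.2 r m) rfl).trans
        (LocalizedModule.smul'_mk _ _ _).symm)⟩

theorem phi_app (W : X.Opens) (m : Γ(L, W)) :
    (phi hc hf).app W m = phiFun hc hf W m := rfl

include hc in
theorem germ_eq_of_mk_eq (y : X) (μ μ' : L.presheaf.stalk y)
    (h : (LocalizedModule.mk μ 1 : MStalk L y) = LocalizedModule.mk μ' 1) : μ = μ' := by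
  obtain ⟨g, ε, hε, -⟩ := hc y
  rw [← sub_eq_zero]
  apply hε.mk_eq_zero (regStalk_le_nonZeroDivisors y)
  have h1 : ∀ ν : L.presheaf.stalk y, (LocalizedModule.mk ν 1 : MStalk L y) =
      LocalizedModule.mkLinearMap (regStalk X y) (L.presheaf.stalk y) ν := fun ν => rfl
  rw [h1, map_sub, ← h1, ← h1, h, sub_self]

theorem phiFun_injective (W : X.Opens) : Function.Injective (phiFun hc hf W) := by
  intro m m' hmm
  apply section_ext_germ
  intro z hz
  apply germ_eq_of_mk_eq hc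
  have h1 := congrArg (fun t : Γ(divMod (divOf hc hf), W) => t.1 ⟨z, hz⟩) hmm
  have h2 : coef hc z (LocalizedModule.mk (L.presheaf.germ W z hz m) 1) =
      coef hc z (LocalizedModule.mk (L.presheaf.germ W z hz m') 1) := h1
  rw [← coef_smul hc z (LocalizedModule.mk (L.presheaf.germ W z hz m) 1), h2, coef_smul]

theorem exists_local_lift (W : X.Opens) (t : Γ(divMod (divOf hc hf), W)) (z : W) :
    ∃ (N : X.Opens) (_ : z.1 ∈ N) (hNW : N ≤ W) (m : Γ(L, N)), ∀ w : N,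
      (LocalizedModule.mk (L.presheaf.germ N w.1 w.2 m) 1 : MStalk L w.1) =
        t.1 ⟨w.1, hNW w.2⟩ • sval L s w.1 := by
  obtain ⟨V₁, hzV₁, ⟨F⟩⟩ := hf z.1
  have hzN : z.1 ∈ V₁ ⊓ W := ⟨hzV₁, z.2⟩
  let tk : Γ(kmod X, W) := ⟨t.1, t.2.1⟩
  let τ : Γ(kmod X, V₁ ⊓ W) :=
    (kmod X).presheaf.map (homOfLE (inf_le_right : V₁ ⊓ W ≤ W)).op tk *
      (kmod X).presheaf.map (homOfLE (inf_le_left : V₁ ⊓ W ≤ V₁)).op
        ((unitOf F.r F.b : (Γ(kmod X, V₁))ˣ) : Γ(kmod X, V₁))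
  have hτ : ∀ w : (V₁ ⊓ W : X.Opens), τ.1 w = t.1 ⟨w.1, w.2.2⟩ *
      ((unitOf F.r F.b : (Γ(kmod X, V₁))ˣ) : Γ(kmod X, V₁)).1 ⟨w.1, w.2.1⟩ := fun w => rfl
  have hrange : ∀ w : (V₁ ⊓ W : X.Opens), τ.1 w ∈
      (algebraMap (X.presheaf.stalk w.1) (KStalk X w.1)).range := by
    intro w
    rw [hτ]
    exact t.2.2 ⟨w.1, w.2.2⟩ _ (divFun_eq hc w.1 _ (F.isCoeff ⟨w.1, w.2.1⟩))
  obtain ⟨ρ, hρ⟩ := exists_eq_toK τ hrange
  refine ⟨V₁ ⊓ W, hzN, inf_le_right,
    ρ • L.presheaf.map (homOfLE (inf_le_left : V₁ ⊓ W ≤ V₁)).op F.e, fun w => ?_⟩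
  have h1 := F.sval_eq ⟨w.1, w.2.1⟩
  have h2 : sval L s w.1 = ((unitOf F.r F.b : (Γ(kmod X, V₁))ˣ) : Γ(kmod X, V₁)).1 ⟨w.1, w.2.1⟩ •
      (LocalizedModule.mk (L.presheaf.germ V₁ w.1 w.2.1 F.e) 1 : MStalk L w.1) := h1
  rw [h2, ← mul_smul, ← hτ, ← hρ, toK_val, algebraMap_smul_mk, Mero.germ_smul,
    TopCat.Presheaf.germ_res_apply]

theorem phiFun_surjective (W : X.Opens) : Function.Surjective (phiFun hc hf W) := by
  intro t
  choose N hzN hNW sf hsf using fun z : W => exists_local_lift hc hf W t z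
  have hcompat : TopCat.Presheaf.IsCompatible L.presheaf N sf := by
    intro i j
    apply section_ext_germ
    intro z hz
    rw [TopCat.Presheaf.germ_res_apply, TopCat.Presheaf.germ_res_apply]
    apply germ_eq_of_mk_eq hc
    rw [hsf i ⟨z, hz.1⟩, hsf j ⟨z, hz.2⟩]
  have hcover : W ≤ iSup N := by
    intro y hy
    exact Opens.mem_iSup.mpr ⟨⟨y, hy⟩, hzN ⟨y, hy⟩⟩
  obtain ⟨m, hm, -⟩ := TopCat.Sheaf.existsUnique_gluing'
    (⟨L.presheaf, L.isSheaf⟩ : TopCat.Sheaf Ab X) N W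
    (fun i => homOfLE (hNW i)) hcover sf hcompat
  refine ⟨m, Subtype.ext (funext fun z => ?_)⟩
  rw [phiFun_val]
  apply coef_eq
  rw [← hsf z ⟨z.1, hzN z⟩, ← hm z]
  congr 1
  exact TopCat.Presheaf.germ_res_apply L.presheaf (homOfLE (hNW z)) _ (hzN z) m

theorem isIso_phi : IsIso (phi hc hf) := by
  apply Groth.Agent.Lead.HomShL.isIso_of_app_bijective
  intro W
  exact ⟨phiFun_injective hc hf W, phiFun_surjective hc hf W⟩

end Div

/-- an invertible module with a regular meromorphic section is `O_X(D)` for a divisor `D` -/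
theorem exists_iso_divMod (hL : PicF.IsInvertible L) (hs : IsRegularMero L s) :
    ∃ D : Mero.Divisor X, Nonempty (L ≅ Mero.divMod D) := by
  have hf := exists_localForm hL hs
  have hc : ∀ y : X, ∃ g, IsCoeff L s y g := by
    intro y
    obtain ⟨V, hyV, ⟨F⟩⟩ := hf y
    exact ⟨_, F.isCoeff ⟨y, hyV⟩⟩
  haveI := isIso_phi hc hf
  exact ⟨divOf hc hf, ⟨asIso (phi hc hf)⟩⟩

end Groth.Agent.Lead.MeroN
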