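import Mathlib

/-!
# Minimal primes: nilpotency, vanishing and simultaneous approximation
-/

set_option autoImplicit false
set_option linter.style.haveILetI false
set_option linter.unusedSectionVars false

universe u

open CategoryTheory CategoryTheory.Limits AlgebraicGeometry TopologicalSpace Opposite IsLocalRing

namespace Groth.Agent.Lead.MeroP

section Alg
variable {A : Type*} [CommRing A]

/-- an element of a minimal prime is nilpotent up to an element outside the prime -/
theorem exists_mul_pow_eq_zero_of_mem_minimalPrimes {q : Ideal A} (hq : q ∈ minimalPrimes A)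
    {x : A} (hx : x ∈ q) : ∃ c, c ∉ q ∧ ∃ n : ℕ, c * x ^ n = 0 := by
  haveI : q.IsPrime := hq.1.1
  have h1 := IsLocalization.AtPrime.radical_map_of_mem_minimalPrimes
    (A := Localization.AtPrime q) q ⊥ hq
  rw [Ideal.map_bot] at h1
  have h2 : algebraMap A (Localization.AtPrime q) x ∈ (⊥ : Ideal (Localization.AtPrime q)).radical := by
    rw [h1]
    exact Ideal.mem_map_of_mem _ hx
  obtain ⟨n, hn⟩ := h2
  rw [Ideal.mem_bot, ← map_pow, IsLocalization.map_eq_zero_iff q.primeCompl] at hn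
  obtain ⟨c, hc⟩ := hn
  exact ⟨c.1, c.2, n, hc⟩

theorem eq_zero_of_forall_minimalPrimes (hfin : (minimalPrimes A).Finite)
    (hZ : ∀ g : A, (∀ q ∈ minimalPrimes A, g ∉ q) → g ∈ nonZeroDivisors A)
    (d : A) (hd : ∀ p ∈ minimalPrimes A, ∃ c, c ∉ p ∧ c * d = 0) : d = 0 := by
  let I : Ideal A :=
    { carrier := {c | c * d = 0}
      zero_mem' := zero_mul d
      add_mem' := fun {a b} ha hb => by
        change (a + b) * d = 0
        rw [add_mul, ha, hb, add_zero]
      smul_mem' := fun r a ha => by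
        change r * a * d = 0
        rw [mul_assoc, ha, mul_zero] }
  have hI : ¬ ((I : Set A) ⊆ ⋃ p ∈ minimalPrimes A, p) := by
    rw [Ideal.subset_union_prime_finite hfin ⊥ ⊥ (fun p hp _ _ => hp.1.1)]
    rintro ⟨p, hp, hIp⟩
    obtain ⟨c, hcp, hcd⟩ := hd p hp
    exact hcp (hIp hcd)
  obtain ⟨c, hcI, hc⟩ := Set.not_subset.mp hI
  have hc' : c ∈ nonZeroDivisors A := by
    apply hZ
    intro q hq hcq
    exact hc (Set.mem_iUnion₂.mpr ⟨q, hq, hcq⟩)
  have hcd : c * d = 0 := hcI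
  exact (mul_left_mem_nonZeroDivisors_eq_zero_iff hc').mp hcd

/-- simultaneous approximation of units of the localizations at the minimal primes -/
theorem crt (hfin : (minimalPrimes A).Finite) (aa ss : Ideal A → A)
    (hs : ∀ p ∈ minimalPrimes A, ss p ∉ p) (ha : ∀ p ∈ minimalPrimes A, aa p ∉ p) :
    ∃ a b : A, (∀ p ∈ minimalPrimes A, a ∉ p) ∧ (∀ p ∈ minimalPrimes A, b ∉ p) ∧
      ∀ p ∈ minimalPrimes A, ∃ c, c ∉ p ∧ c * (a * ss p - b * aa p) = 0 := by
  classical
  set T := hfin.toFinset with hT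
  have hTmem : ∀ p, p ∈ T ↔ p ∈ minimalPrimes A := fun p => Set.Finite.mem_toFinset hfin
  have hprime : ∀ p ∈ minimalPrimes A, p.IsPrime := fun p hp => hp.1.1
  have hF : ∀ p q : Ideal A, ∃ f : A, (p ∈ minimalPrimes A → f ∉ p) ∧
      (p ∈ minimalPrimes A → q ∈ minimalPrimes A → q ≠ p → f ∈ q) := by
    intro p q
    by_cases h : p ∈ minimalPrimes A ∧ q ∈ minimalPrimes A ∧ q ≠ p
    · obtain ⟨hp, hq, hne⟩ := h
      have : ¬ q ≤ p := fun hle => hne (le_antisymm hle (hp.2 ⟨hq.1.1, bot_le⟩ hle))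
      obtain ⟨f, hfq, hfp⟩ := SetLike.not_le_iff_exists.mp this
      exact ⟨f, fun _ => hfp, fun _ _ _ => hfq⟩
    · exact ⟨1, fun hp h1 => (hprime p hp).ne_top ((Ideal.eq_top_iff_one p).mpr h1),
        fun h1 h2 h3 => (h ⟨h1, h2, h3⟩).elim⟩
  choose F hFp hFq using hF
  set e : Ideal A → A := fun p => ∏ q ∈ T.erase p, F p q with he
  have he_notin : ∀ p ∈ minimalPrimes A, e p ∉ p := by
    intro p hp h
    haveI := hprime p hp
    obtain ⟨q, _, hq⟩ := Ideal.IsPrime.prod_mem_iff.mp h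
    exact hFp p q hp hq
  have he_in : ∀ p ∈ minimalPrimes A, ∀ q ∈ minimalPrimes A, q ≠ p → e p ∈ q := by
    intro p hp q hq hne
    have hqT : q ∈ T.erase p := Finset.mem_erase.mpr ⟨hne, (hTmem q).mpr hq⟩
    rw [he]
    dsimp only
    rw [← Finset.mul_prod_erase _ _ hqT]
    exact Ideal.mul_mem_right _ _ (hFq p q hp hq hne)
  have hN : ∀ p q : Ideal A, ∃ c : A, ∃ n : ℕ, (q ∈ minimalPrimes A → c ∉ q) ∧
      (p ∈ minimalPrimes A → q ∈ minimalPrimes A → q ≠ p → c * e p ^ n = 0) := by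
    intro p q
    by_cases h : p ∈ minimalPrimes A ∧ q ∈ minimalPrimes A ∧ q ≠ p
    · obtain ⟨hp, hq, hne⟩ := h
      obtain ⟨c, hc, n, hn⟩ := exists_mul_pow_eq_zero_of_mem_minimalPrimes hq (he_in p hp q hq hne)
      exact ⟨c, n, fun _ => hc, fun _ _ _ => hn⟩
    · exact ⟨1, 0, fun hq h1 => (hprime q hq).ne_top ((Ideal.eq_top_iff_one q).mpr h1),
        fun h1 h2 h3 => (h ⟨h1, h2, h3⟩).elim⟩
  choose C Nn hCq hCz using hN
  set N : Ideal A → ℕ := fun p => ∑ q ∈ T, Nn p q with hN_def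
  have hNle : ∀ p q, q ∈ T → Nn p q ≤ N p := by
    intro p q hq
    exact Finset.single_le_sum (f := fun q => Nn p q) (fun _ _ => Nat.zero_le _) hq
  set E : Ideal A → A := fun p => e p ^ (N p + 1) with hE_def
  have hE_notin : ∀ p ∈ minimalPrimes A, E p ∉ p := by
    intro p hp h
    haveI := hprime p hp
    exact he_notin p hp (Ideal.IsPrime.mem_of_pow_mem inferInstance _ h)
  have hE_in : ∀ p ∈ minimalPrimes A, ∀ q ∈ minimalPrimes A, q ≠ p → E p ∈ q := by
    intro p hp q hq hne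
    exact Ideal.pow_mem_of_mem q (he_in p hp q hq hne) _ (Nat.succ_pos _)
  have hCE : ∀ p ∈ minimalPrimes A, ∀ q ∈ minimalPrimes A, q ≠ p → C p q * E p = 0 := by
    intro p hp q hq hne
    have hle : Nn p q ≤ N p + 1 := (hNle p q ((hTmem q).mpr hq)).trans (Nat.le_succ _)
    change C p q * e p ^ (N p + 1) = 0
    rw [← pow_mul_pow_sub (e p) hle, ← mul_assoc, hCz p q hp hq hne, zero_mul]
  refine ⟨∑ p ∈ T, E p * aa p, ∑ p ∈ T, E p * ss p, ?_, ?_, ?_⟩
  · intro q hq h
    haveI := hprime q hq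
    have hqT : q ∈ T := (hTmem q).mpr hq
    rw [← Finset.add_sum_erase T _ hqT] at h
    have hrest : ∑ p ∈ T.erase q, E p * aa p ∈ q := by
      refine Ideal.sum_mem _ fun p hp => Ideal.mul_mem_right _ _ ?_
      obtain ⟨hne, hpT⟩ := Finset.mem_erase.mp hp
      exact hE_in p ((hTmem p).mp hpT) q hq (Ne.symm hne)
    have h1 : E q * aa q ∈ q := (Ideal.add_mem_iff_left q hrest).mp h
    rcases Ideal.IsPrime.mem_or_mem inferInstance h1 with h2 | h2
    · exact hE_notin q hq h2
    · exact ha q hq h2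
  · intro q hq h
    haveI := hprime q hq
    have hqT : q ∈ T := (hTmem q).mpr hq
    rw [← Finset.add_sum_erase T _ hqT] at h
    have hrest : ∑ p ∈ T.erase q, E p * ss p ∈ q := by
      refine Ideal.sum_mem _ fun p hp => Ideal.mul_mem_right _ _ ?_
      obtain ⟨hne, hpT⟩ := Finset.mem_erase.mp hp
      exact hE_in p ((hTmem p).mp hpT) q hq (Ne.symm hne)
    have h1 : E q * ss q ∈ q := (Ideal.add_mem_iff_left q hrest).mp h
    rcases Ideal.IsPrime.mem_or_mem inferInstance h1 with h2 | h2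
    · exact hE_notin q hq h2
    · exact hs q hq h2
  · intro q hq
    haveI := hprime q hq
    refine ⟨∏ p ∈ T.erase q, C p q, ?_, ?_⟩
    · intro h
      obtain ⟨p, _, hp⟩ := Ideal.IsPrime.prod_mem_iff.mp h
      exact hCq p q hq hp
    · have h1 : (∑ p ∈ T, E p * aa p) * ss q - (∑ p ∈ T, E p * ss p) * aa q =
          ∑ p ∈ T, E p * (aa p * ss q - ss p * aa q) := by
        rw [Finset.sum_mul, Finset.sum_mul, ← Finset.sum_sub_distrib]
        refine Finset.sum_congr rfl fun p _ => ?_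
        ring
      rw [h1, Finset.mul_sum]
      refine Finset.sum_eq_zero fun p hp => ?_
      by_cases hpq : p = q
      · subst hpq
        have : aa p * ss p - ss p * aa p = 0 := by ring
        rw [this, mul_zero, mul_zero]
      · have hpT : p ∈ T.erase q := Finset.mem_erase.mpr ⟨hpq, hp⟩
        rw [← Finset.mul_prod_erase _ _ hpT]
        have h2 := hCE p ((hTmem p).mp hp) q hq (Ne.symm hpq)
        obtain ⟨P, hP⟩ : ∃ P, P = ∏ x ∈ (T.erase q).erase p, C x q := ⟨_, rfl⟩
        rw [← hP]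
        calc C p q * P * (E p * (aa p * ss q - ss p * aa q))
            = (C p q * E p) * (P * (aa p * ss q - ss p * aa q)) := by ring
          _ = 0 := by rw [h2, zero_mul]

end Alg

end Groth.Agent.Lead.MeroP
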