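import Mathlib
import Groth.Prelude.Def_MeroDiv
import Groth.Prelude.Def_Pic
import Groth.Agent.Lead.MeroN
import Groth.Agent.Lead.MeroI
import Groth.Agent.Lead.MeroP1

/-!
# Generic points and local meromorphic sections with prescribed generic values
-/

set_option autoImplicit false
set_option linter.style.haveILetI false
set_option linter.unusedSectionVars false

universe u

open CategoryTheory CategoryTheory.Limits AlgebraicGeometry TopologicalSpace Opposite IsLocalRing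

namespace Groth.Agent.Lead.MeroP

open Mero Groth.Agent.Lead.MeroB Groth.Agent.Lead.MeroD Groth.Agent.Lead.MeroE
  Groth.Agent.Lead.MeroI Groth.Agent.Lead.MeroM Groth.Agent.Lead.MeroN Groth.Agent.Lead.WeakAss

variable {X : Scheme.{u}}

/-- `z` has no proper generization -/
def IsGen (z : X) : Prop := ∀ y : X, y ⤳ z → y = z

theorem mem_minimalPrimes_of_isGen {V : X.Opens} (hV : IsAffineOpen V) (y : X) (hy : y ∈ V)
    (hg : IsGen y) : (hV.primeIdealOf ⟨y, hy⟩).asIdeal ∈ minimalPrimes Γ(X, V) := by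
  obtain ⟨q, hq, hqp⟩ := Ideal.exists_minimalPrimes_le
    (bot_le : (⊥ : Ideal Γ(X, V)) ≤ (hV.primeIdealOf ⟨y, hy⟩).asIdeal)
  have hqprime : q.IsPrime := hq.1.1
  let qq : PrimeSpectrum Γ(X, V) := ⟨q, hqprime⟩
  have hspec : qq ⤳ hV.primeIdealOf ⟨y, hy⟩ := (PrimeSpectrum.le_iff_specializes _ _).mp hqp
  have h2 : hV.fromSpec qq ⤳ hV.fromSpec (hV.primeIdealOf ⟨y, hy⟩) :=
    hspec.map hV.fromSpec.continuous
  rw [hV.fromSpec_primeIdealOf ⟨y, hy⟩] at h2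
  have h3 : hV.fromSpec qq = y := hg _ h2
  have h4 : hV.primeIdealOf ⟨y, hy⟩ = qq := by
    have := primeIdealOf_fromSpec hV qq (fromSpec_mem hV qq)
    rw [← this]
    congr 1
    exact Subtype.ext h3.symm
  rw [h4]
  exact hq

theorem exists_eq_fromSpec_of_isGen {V : X.Opens} (hV : IsAffineOpen V) (y : X) (hy : y ∈ V)
    (hg : IsGen y) : ∃ (p : Ideal Γ(X, V)) (hp : p ∈ minimalPrimes Γ(X, V)),
      y = hV.fromSpec ⟨p, hp.1.1⟩ :=
  ⟨_, mem_minimalPrimes_of_isGen hV y hy hg, (hV.fromSpec_primeIdealOf ⟨y, hy⟩).symm⟩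

theorem isGen_fromSpec {V : X.Opens} (hV : IsAffineOpen V) (p : Ideal Γ(X, V))
    (hp : p ∈ minimalPrimes Γ(X, V)) : IsGen (hV.fromSpec ⟨p, hp.1.1⟩) := by
  intro y hy
  have hyV : y ∈ V := hy.mem_open V.isOpen (fromSpec_mem hV _)
  have h1 : hV.fromSpec (hV.primeIdealOf ⟨y, hyV⟩) ⤳ hV.fromSpec ⟨p, hp.1.1⟩ := by
    rw [hV.fromSpec_primeIdealOf ⟨y, hyV⟩]; exact hy
  have h2 : hV.primeIdealOf ⟨y, hyV⟩ ⤳ (⟨p, hp.1.1⟩ : PrimeSpectrum Γ(X, V)) :=
    hV.fromSpec.isOpenEmbedding.isInducing.specializes_iff.mp h1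
  have h3 : (hV.primeIdealOf ⟨y, hyV⟩).asIdeal ≤ p := (PrimeSpectrum.le_iff_specializes _ _).mpr h2
  have h4 : p ≤ (hV.primeIdealOf ⟨y, hyV⟩).asIdeal :=
    hp.2 ⟨(hV.primeIdealOf ⟨y, hyV⟩).isPrime, bot_le⟩ h3
  have h5 : hV.primeIdealOf ⟨y, hyV⟩ = ⟨p, hp.1.1⟩ := PrimeSpectrum.ext (le_antisymm h3 h4)
  exact (hV.fromSpec_primeIdealOf ⟨y, hyV⟩).symm.trans (congrArg hV.fromSpec h5)

theorem isUnit_germ_iff {V : X.Opens} (hV : IsAffineOpen V) (y : V) (g : Γ(X, V)) :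
    IsUnit (X.presheaf.germ V y.1 y.2 g) ↔ g ∉ (hV.primeIdealOf y).asIdeal := by
  letI := TopCat.Presheaf.algebra_section_stalk X.presheaf y
  haveI := hV.isLocalization_stalk y
  exact IsLocalization.AtPrime.isUnit_to_map_iff (X.presheaf.stalk y.1)
    (hV.primeIdealOf y).asIdeal g

theorem germ_eq_zero_iff {V : X.Opens} (hV : IsAffineOpen V) (y : V) (d : Γ(X, V)) :
    X.presheaf.germ V y.1 y.2 d = 0 ↔ ∃ c, c ∉ (hV.primeIdealOf y).asIdeal ∧ c * d = 0 := by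
  letI := TopCat.Presheaf.algebra_section_stalk X.presheaf y
  haveI := hV.isLocalization_stalk y
  have := IsLocalization.map_eq_zero_iff (hV.primeIdealOf y).asIdeal.primeCompl
    (X.presheaf.stalk y.1) d
  change X.presheaf.germ V y.1 y.2 d = 0 ↔ _ at this
  rw [this]
  constructor
  · rintro ⟨c, hc⟩
    exact ⟨c.1, c.2, hc⟩
  · rintro ⟨c, hc, hcd⟩
    exact ⟨⟨c, hc⟩, hcd⟩

theorem exists_germ_frac {V : X.Opens} (hV : IsAffineOpen V) (y : V) (u : X.presheaf.stalk y.1) :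
    ∃ a s : Γ(X, V), s ∉ (hV.primeIdealOf y).asIdeal ∧
      u * X.presheaf.germ V y.1 y.2 s = X.presheaf.germ V y.1 y.2 a := by
  letI := TopCat.Presheaf.algebra_section_stalk X.presheaf y
  haveI := hV.isLocalization_stalk y
  obtain ⟨⟨a, s⟩, h⟩ := IsLocalization.surj (hV.primeIdealOf y).asIdeal.primeCompl u
  exact ⟨a, s.1, s.2, h⟩

/-- local existence: near every point there are regular `a`, `b` with `a • e = b • ε` at the
generic points -/
theorem exists_local_section (ha : WeakAssGeneric X)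
    (hb : ∀ U : X.Opens, IsCompact (U : Set ↥X) → (irreducibleComponents ↥(U : Scheme.{u})).Finite)
    (L : X.Modules) (hL : PicF.IsInvertible L)
    (ε : ∀ z : X, L.presheaf.stalk z) (hε : ∀ z, IsBasisElt (X.presheaf.stalk z) (ε z)) (x : X) :
    ∃ (V : X.Opens) (_ : x ∈ V) (e : Γ(L, V)) (_ : IsLocalBasis L V e) (a b : regSub X V),
      ∀ (z : X) (hz : z ∈ V), IsGen z →
        X.presheaf.germ V z hz a.1 • L.presheaf.germ V z hz e =
          X.presheaf.germ V z hz b.1 • ε z := by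
  obtain ⟨U₁, hx₁, e₁, he₁⟩ := exists_isLocalBasis L hL x
  obtain ⟨V, hV, hxV, hVU⟩ := Opens.isBasis_iff_nbhd.mp X.isBasis_affineOpens hx₁
  obtain ⟨e, he_def⟩ : ∃ e, e = L.presheaf.map (homOfLE hVU).op e₁ := ⟨_, rfl⟩
  have he : IsLocalBasis L V e := by rw [he_def]; exact he₁.res hVU
  have hfin := finite_minimalPrimes hb hV
  have hdata : ∀ p : Ideal Γ(X, V), ∃ ap sp : Γ(X, V), ∀ hp : p ∈ minimalPrimes Γ(X, V),
      sp ∉ p ∧ ap ∉ p ∧
        X.presheaf.germ V (hV.fromSpec ⟨p, hp.1.1⟩) (fromSpec_mem hV _) ap •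
          L.presheaf.germ V (hV.fromSpec ⟨p, hp.1.1⟩) (fromSpec_mem hV _) e =
        X.presheaf.germ V (hV.fromSpec ⟨p, hp.1.1⟩) (fromSpec_mem hV _) sp •
          ε (hV.fromSpec ⟨p, hp.1.1⟩) := by
    intro p
    by_cases hp : p ∈ minimalPrimes Γ(X, V)
    · obtain ⟨ξ, hξ_def⟩ : ∃ ξ, ξ = hV.fromSpec ⟨p, hp.1.1⟩ := ⟨_, rfl⟩
      have hξV : ξ ∈ V := by rw [hξ_def]; exact fromSpec_mem hV _
      have hpξ : (hV.primeIdealOf ⟨ξ, hξV⟩).asIdeal = p := by
        have := primeIdealOf_fromSpec hV ⟨p, hp.1.1⟩ (fromSpec_mem hV _)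
        subst hξ_def
        rw [this]
      obtain ⟨u, hu⟩ := IsBasisElt.exists_unit (he.germ ξ hξV) (hε ξ)
      obtain ⟨ap, sp, hsp, hus⟩ := exists_germ_frac hV ⟨ξ, hξV⟩ (u : X.presheaf.stalk ξ)
      rw [hpξ] at hsp
      have hap : ap ∉ p := by
        rw [← hpξ, ← isUnit_germ_iff hV ⟨ξ, hξV⟩, ← hus]
        refine u.isUnit.mul ?_
        rw [isUnit_germ_iff hV ⟨ξ, hξV⟩, hpξ]
        exact hsp
      refine ⟨ap, sp, fun _ => ⟨hsp, hap, ?_⟩⟩
      subst hξ_def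
      rw [← hus, hu, ← mul_smul, mul_comm]
    · exact ⟨0, 0, fun hp' => (hp hp').elim⟩
  choose aa ss hdata using hdata
  obtain ⟨a, b, ha', hb', hab⟩ := crt hfin aa ss (fun p hp => (hdata p hp).1)
    (fun p hp => (hdata p hp).2.1)
  have hareg : a ∈ regSub X V := by
    rw [regSub_eq_nonZeroDivisors hV]
    exact mem_nonZeroDivisors_of_forall_minimalPrimes ha hV a ha'
  have hbreg : b ∈ regSub X V := by
    rw [regSub_eq_nonZeroDivisors hV]
    exact mem_nonZeroDivisors_of_forall_minimalPrimes ha hV b hb'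
  refine ⟨V, hxV, e, he, ⟨a, hareg⟩, ⟨b, hbreg⟩, ?_⟩
  intro z hz hgen
  obtain ⟨p, hp, rfl⟩ := exists_eq_fromSpec_of_isGen hV z hz hgen
  obtain ⟨hsp, hap, hrel⟩ := hdata p hp
  obtain ⟨c, hcp, hc⟩ := hab p hp
  obtain ⟨ξ, hξ_def⟩ : ∃ ξ, ξ = hV.fromSpec ⟨p, hp.1.1⟩ := ⟨_, rfl⟩
  have hpξ : (hV.primeIdealOf ⟨hV.fromSpec ⟨p, hp.1.1⟩, hz⟩).asIdeal = p := by
    rw [primeIdealOf_fromSpec hV ⟨p, hp.1.1⟩ hz]
  have hcu : IsUnit (X.presheaf.germ V _ hz c) := by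
    rw [isUnit_germ_iff hV ⟨_, hz⟩, hpξ]; exact hcp
  have hsu : IsUnit (X.presheaf.germ V _ hz (ss p)) := by
    rw [isUnit_germ_iff hV ⟨_, hz⟩, hpξ]; exact hsp
  have h1 := congrArg (X.presheaf.germ V _ hz) hc
  rw [map_mul, map_zero, map_sub, map_mul, map_mul] at h1
  have h2 := hcu.mul_right_eq_zero.mp h1
  have h3 : X.presheaf.germ V _ hz a * X.presheaf.germ V _ hz (ss p) =
      X.presheaf.germ V _ hz b * X.presheaf.germ V _ hz (aa p) := sub_eq_zero.mp h2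
  have h4 : X.presheaf.germ V _ hz (ss p) • (X.presheaf.germ V _ hz a • L.presheaf.germ V _ hz e) =
      X.presheaf.germ V _ hz (ss p) • (X.presheaf.germ V _ hz b • ε _) := by
    rw [← mul_smul, mul_comm, h3, mul_smul, hrel, ← mul_smul, ← mul_smul, mul_comm]
  obtain ⟨w, hw⟩ := hsu.exists_left_inv
  calc X.presheaf.germ V _ hz a • L.presheaf.germ V _ hz e
      = w • (X.presheaf.germ V _ hz (ss p) •
          (X.presheaf.germ V _ hz a • L.presheaf.germ V _ hz e)) := by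
        rw [← mul_smul w, hw, one_smul]
    _ = X.presheaf.germ V _ hz b • ε _ := by
        rw [h4, ← mul_smul w, hw, one_smul]

end Groth.Agent.Lead.MeroP
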