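import Mathlib
import Groth.Prelude.Def_MeroDiv
import Groth.Agent.Lead.MeroP2
import Groth.Agent.Lead.MeroH

/-!
# Meromorphic functions on a reduced scheme with finitely many irreducible components
-/

set_option autoImplicit false
set_option linter.style.haveILetI false
set_option linter.unusedSectionVars false

universe u

open CategoryTheory CategoryTheory.Limits AlgebraicGeometry TopologicalSpace Opposite IsLocalRing

namespace Groth.Agent.Lead.MeroAA

section Alg

variable {A : Type*} [CommRing A]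

theorem eq_zero_of_mem_minimalPrimes [IsReduced A] (d : A) (hd : ∀ p ∈ minimalPrimes A, d ∈ p) :
    d = 0 := by
  have h1 : d ∈ sInf (minimalPrimes A) := by
    rw [Submodule.mem_sInf]
    exact hd
  have h2 : sInf (minimalPrimes A) = nilradical A := by
    have := Ideal.sInf_minimalPrimes (I := (⊥ : Ideal A))
    rw [minimalPrimes]
    rw [this]
    rfl
  rw [h2, nilradical_eq_zero] at h1
  exact h1

theorem mem_nonZeroDivisors_of_forall_notMem [IsReduced A] (b : A)
    (hb : ∀ p ∈ minimalPrimes A, b ∉ p) : b ∈ nonZeroDivisors A := by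
  rw [mem_nonZeroDivisors_iff_right]
  intro c hc
  apply eq_zero_of_mem_minimalPrimes
  intro p hp
  haveI : p.IsPrime := hp.1.1
  have h1 : c * b ∈ p := by rw [hc]; exact p.zero_mem
  rcases Ideal.IsPrime.mem_or_mem inferInstance h1 with h | h
  · exact h
  · exact (hb p hp h).elim

/-- simultaneous approximation in the total ring of fractions of a reduced ring -/
theorem crt_reduced [IsReduced A] (hfin : (minimalPrimes A).Finite) (aa ss : Ideal A → A)
    (hs : ∀ p ∈ minimalPrimes A, ss p ∉ p) :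
    ∃ a b : A, (∀ p ∈ minimalPrimes A, b ∉ p) ∧
      ∀ p ∈ minimalPrimes A, ∃ c, c ∉ p ∧ c * (a * ss p - b * aa p) = 0 := by
  classical
  set T := hfin.toFinset with hT
  have hTmem : ∀ p, p ∈ T ↔ p ∈ minimalPrimes A := fun p => Set.Finite.mem_toFinset hfin
  have hprime : ∀ p ∈ minimalPrimes A, p.IsPrime := fun p hp => hp.1.1
  have hF : ∀ p q : Ideal A, ∃ f : A, (p ∈ minimalPrimes A → f ∉ p) ∧
      (p ∈ minimalPrimes A → q ∈ minimalPrimes A → q ≠ p → f ∈ q) := by
    intro p q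
    by_cases h : p ∈ minimalPrimes A ∧ q ∈ minimalPrimes A ∧ q ≠ p
    · obtain ⟨hp, hq, hne⟩ := h
      have : ¬ q ≤ p := fun hle => hne (le_antisymm hle (hp.2 ⟨hq.1.1, bot_le⟩ hle))
      obtain ⟨f, hfq, hfp⟩ := SetLike.not_le_iff_exists.mp this
      exact ⟨f, fun _ => hfp, fun _ _ _ => hfq⟩
    · exact ⟨1, fun hp h1 => (hprime p hp).ne_top ((Ideal.eq_top_iff_one p).mpr h1),
        fun h1 h2 h3 => (h ⟨h1, h2, h3⟩).elim⟩
  choose F hFp hFq using hF
  set e : Ideal A → A := fun p => ∏ q ∈ T.erase p, F p q with he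
  have he_notin : ∀ p ∈ minimalPrimes A, e p ∉ p := by
    intro p hp h
    haveI := hprime p hp
    obtain ⟨q, _, hq⟩ := Ideal.IsPrime.prod_mem_iff.mp h
    exact hFp p q hp hq
  have he_in : ∀ p ∈ minimalPrimes A, ∀ q ∈ minimalPrimes A, q ≠ p → e p ∈ q := by
    intro p hp q hq hne
    have hqT : q ∈ T.erase p := Finset.mem_erase.mpr ⟨hne, (hTmem q).mpr hq⟩
    rw [he]
    dsimp only
    rw [← Finset.mul_prod_erase _ _ hqT]
    exact Ideal.mul_mem_right _ _ (hFq p q hp hq hne)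
  have hee : ∀ p ∈ minimalPrimes A, ∀ q ∈ minimalPrimes A, q ≠ p → e p * e q = 0 := by
    intro p hp q hq hne
    apply eq_zero_of_mem_minimalPrimes
    intro r hr
    by_cases hrp : r = p
    · subst hrp
      exact Ideal.mul_mem_left _ _ (he_in q hq r hr (Ne.symm hne))
    · exact Ideal.mul_mem_right _ _ (he_in p hp r hr hrp)
  refine ⟨∑ p ∈ T, e p * aa p, ∑ p ∈ T, e p * ss p, ?_, ?_⟩
  · intro q hq h
    haveI := hprime q hq
    have hqT : q ∈ T := (hTmem q).mpr hq
    rw [← Finset.add_sum_erase T _ hqT] at h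
    have hrest : ∑ p ∈ T.erase q, e p * ss p ∈ q := by
      refine Ideal.sum_mem _ fun p hp => Ideal.mul_mem_right _ _ ?_
      obtain ⟨hne, hpT⟩ := Finset.mem_erase.mp hp
      exact he_in p ((hTmem p).mp hpT) q hq (Ne.symm hne)
    have h1 : e q * ss q ∈ q := (Ideal.add_mem_iff_left q hrest).mp h
    rcases Ideal.IsPrime.mem_or_mem inferInstance h1 with h2 | h2
    · exact he_notin q hq h2
    · exact hs q hq h2
  · intro p hp
    refine ⟨e p, he_notin p hp, ?_⟩
    have hpT : p ∈ T := (hTmem p).mpr hp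
    have key : ∀ (g : Ideal A → A), e p * ∑ q ∈ T, e q * g q = e p * (e p * g p) := by
      intro g
      rw [← Finset.add_sum_erase T _ hpT, mul_add]
      have : e p * ∑ q ∈ T.erase p, e q * g q = 0 := by
        rw [Finset.mul_sum]
        apply Finset.sum_eq_zero
        intro q hq
        obtain ⟨hne, hqT⟩ := Finset.mem_erase.mp hq
        rw [← mul_assoc, hee p hp q ((hTmem q).mp hqT) hne, zero_mul]
      rw [this, add_zero]
    calc e p * ((∑ q ∈ T, e q * aa q) * ss p - (∑ q ∈ T, e q * ss q) * aa p)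
        = (e p * ∑ q ∈ T, e q * aa q) * ss p - (e p * ∑ q ∈ T, e q * ss q) * aa p := by ring
      _ = 0 := by rw [key aa, key ss]; ring

end Alg

open Mero Groth.Agent.Lead.MeroB Groth.Agent.Lead.MeroD Groth.Agent.Lead.MeroE
  Groth.Agent.Lead.MeroP

variable {X : Scheme.{u}}

/-! ### Generic points -/

theorem isGen_iff_closure_mem (x : X) :
    IsGen x ↔ closure ({x} : Set X) ∈ irreducibleComponents (X : Type u) := by
  constructor
  · intro hx
    have hirr : IsIrreducible (closure ({x} : Set X)) := isIrreducible_singleton.closure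
    obtain ⟨Z, hZ, hxZ⟩ := exists_mem_irreducibleComponents_subset_of_isIrreducible _ hirr
    have hZc : IsClosed Z := isClosed_of_mem_irreducibleComponents Z hZ
    obtain ⟨η, hη⟩ := QuasiSober.sober hZ.1 hZc
    have hxη : η ⤳ x := by
      rw [specializes_iff_mem_closure, hη.def]
      exact hxZ (subset_closure rfl)
    have h1 := hx η hxη
    rw [← h1, hη.def]
    exact hZ
  · intro hx y hy
    have h1 : closure ({x} : Set X) ⊆ closure ({y} : Set X) := by
      rw [← specializes_iff_closure_subset]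
      exact hy
    have hirr : IsIrreducible (closure ({y} : Set X)) := isIrreducible_singleton.closure
    have h2 : closure ({y} : Set X) ⊆ closure ({x} : Set X) := hx.2 hirr h1
    have h3 : x ⤳ y := by
      rw [specializes_iff_closure_subset]
      exact h2
    exact (hy.antisymm h3).eq

theorem maximalIdeal_eq_bot_of_isGen [IsReduced X] (x : X) (hx : IsGen x) :
    maximalIdeal (X.presheaf.stalk x) = ⊥ := by
  obtain ⟨V, hV, hxV, -⟩ := Opens.isBasis_iff_nbhd.mp X.isBasis_affineOpens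
    (show x ∈ (⊤ : X.Opens) from trivial)
  have hmin := mem_minimalPrimes_of_isGen hV x hxV hx
  rw [eq_bot_iff]
  intro u hu
  rw [Ideal.mem_bot]
  obtain ⟨a, s, hs, has⟩ := exists_germ_frac hV ⟨x, hxV⟩ u
  have hsu : IsUnit (X.presheaf.germ V x hxV s) := (isUnit_germ_iff hV ⟨x, hxV⟩ s).mpr hs
  have ha : a ∈ (hV.primeIdealOf ⟨x, hxV⟩).asIdeal := by
    by_contra hna
    have h1 : IsUnit (X.presheaf.germ V x hxV a) := (isUnit_germ_iff hV ⟨x, hxV⟩ a).mpr hna
    rw [← has] at h1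
    exact hu (isUnit_of_mul_isUnit_left h1)
  obtain ⟨c, hc, n, hn⟩ := exists_mul_pow_eq_zero_of_mem_minimalPrimes hmin ha
  have hca : c * a = 0 := by
    apply IsReduced.eq_zero
    refine ⟨n + 1, ?_⟩
    rw [mul_pow, pow_succ a n, pow_succ c n]
    calc c ^ n * c * (a ^ n * a) = c ^ n * a * (c * a ^ n) := by ring
      _ = 0 := by rw [hn, mul_zero]
  have hcu : IsUnit (X.presheaf.germ V x hxV c) := (isUnit_germ_iff hV ⟨x, hxV⟩ c).mpr hc
  have h2 : X.presheaf.germ V x hxV c * X.presheaf.germ V x hxV a = 0 := by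
    rw [← map_mul, hca, map_zero]
  have h3 : X.presheaf.germ V x hxV a = 0 := (hcu.mul_right_eq_zero).mp h2
  rw [h3] at has
  exact (hsu.mul_left_eq_zero).mp has

theorem algebraMap_bijective_of_isGen [IsReduced X] (x : X) (hx : IsGen x) :
    Function.Bijective (algebraMap (X.presheaf.stalk x) (KStalk X x)) := by
  refine ⟨algebraMap_KStalk_injective x, ?_⟩
  intro q
  induction q using Localization.induction_on with
  | H p =>
    obtain ⟨a, s⟩ := p
    have hs0 : (s : X.presheaf.stalk x) ∉ maximalIdeal (X.presheaf.stalk x) := by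
      rw [maximalIdeal_eq_bot_of_isGen x hx, Ideal.mem_bot]
      exact nonZeroDivisors.ne_zero (regStalk_le_nonZeroDivisors x s.2)
    have hsu : IsUnit (s : X.presheaf.stalk x) := by
      by_contra hn
      exact hs0 ((IsLocalRing.mem_maximalIdeal _).mpr hn)
    obtain ⟨v, hv⟩ := hsu
    refine ⟨a * ((v⁻¹ : (X.presheaf.stalk x)ˣ) : X.presheaf.stalk x), ?_⟩
    have hunit : IsUnit (algebraMap (X.presheaf.stalk x) (KStalk X x) (s : X.presheaf.stalk x)) :=
      IsLocalization.map_units (KStalk X x) s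
    apply hunit.mul_right_cancel
    have h1 := mk_mul_algebraMap x a s
    have h2 : (Localization.mk a s : KStalk X x) = LocalizedModule.mk a s := rfl
    rw [h2, h1, ← map_mul, mul_assoc, ← hv, Units.inv_mul, mul_one]

/-! ### Meromorphic functions are determined by their values at the generic points -/

theorem finite_minimalPrimes (hfin : (irreducibleComponents (X : Type u)).Finite)
    {W : X.Opens} (hW : IsAffineOpen W) : (minimalPrimes Γ(X, W)).Finite := by
  apply Groth.Agent.Lead.MeroH.finite_minimalPrimes_of_finite hW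
  exact hfin.subset (fun Z hZ => hZ.1)

theorem section_eq_zero_of_generic [IsReduced X] {W : X.Opens} (hW : IsAffineOpen W)
    (a : Γ(X, W)) (h : ∀ (z : X) (hz : z ∈ W), IsGen z → X.presheaf.germ W z hz a = 0) :
    a = 0 := by
  apply eq_zero_of_mem_minimalPrimes
  intro p hp
  haveI : p.IsPrime := hp.1.1
  have hz : hW.fromSpec ⟨p, hp.1.1⟩ ∈ W := Groth.Agent.Helper4.AssDict.fromSpec_mem hW _
  have h1 := h _ hz (isGen_fromSpec hW p hp)
  rw [germ_eq_zero_iff hW ⟨_, hz⟩] at h1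
  obtain ⟨c, hc, hca⟩ := h1
  rw [Groth.Agent.Helper4.AssDict.primeIdealOf_fromSpec] at hc
  have h2 : c * a ∈ p := by rw [hca]; exact p.zero_mem
  rcases Ideal.IsPrime.mem_or_mem inferInstance h2 with h3 | h3
  · exact (hc h3).elim
  · exact h3

theorem kmod_eq_of_generic [IsReduced X] {U : X.Opens} (s s' : Γ(kmod X, U))
    (h : ∀ x : U, IsGen x.1 → s.1 x = s'.1 x) : s = s' := by
  apply kmod_ext
  intro y
  obtain ⟨t, ht_def⟩ : ∃ t : Γ(kmod X, U), t = s - s' := ⟨_, rfl⟩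
  have htval : ∀ z : U, t.1 z = s.1 z - s'.1 z := by
    intro z
    rw [ht_def]
    rfl
  have ht0 : t.1 y = 0 := by
    obtain ⟨V, hyV, hVU, a, b, hb, hab⟩ := exists_frac t y
    obtain ⟨W, hW, hyW, hWV⟩ : ∃ W : X.Opens, IsAffineOpen W ∧ y.1 ∈ W ∧ W ≤ V := by
      obtain ⟨W, h1, h2, h3⟩ := Opens.isBasis_iff_nbhd.mp X.isBasis_affineOpens hyV
      exact ⟨W, h1, h2, h3⟩
    have ha0 : X.presheaf.map (homOfLE hWV).op a = 0 := by
      apply section_eq_zero_of_generic hW
      intro z hz hgen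
      rw [TopCat.Presheaf.germ_res_apply]
      apply algebraMap_KStalk_injective z
      rw [← hab ⟨z, hWV hz⟩, htval, h ⟨z, hVU (hWV hz)⟩ hgen, sub_self, zero_mul, map_zero]
    have h1 := hab ⟨y.1, hyV⟩
    have h2 : X.presheaf.germ V y.1 hyV a = 0 := by
      rw [← TopCat.Presheaf.germ_res_apply X.presheaf (homOfLE hWV) y.1 hyW a, ha0, map_zero]
    rw [h2, map_zero] at h1
    have hunit : IsUnit (algebraMap (X.presheaf.stalk y.1) (KStalk X y.1)
        (X.presheaf.germ V y.1 hyV b)) :=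
      IsLocalization.map_units (KStalk X y.1) (regGerm ⟨y.1, hyV⟩ ⟨b, hb⟩)
    exact (hunit.mul_left_eq_zero).mp h1
  rw [htval] at ht0
  exact sub_eq_zero.mp ht0

/-! ### Prescribing the values at the generic points -/

theorem exists_local_section [IsReduced X] (hfin : (irreducibleComponents (X : Type u)).Finite)
    {W : X.Opens} (hW : IsAffineOpen W) (t : ∀ z : X, KStalk X z) :
    ∃ σ : Γ(kmod X, W), ∀ (z : X) (hz : z ∈ W), IsGen z → σ.1 ⟨z, hz⟩ = t z := by
  have hdata : ∀ p : Ideal Γ(X, W), ∃ aa ss : Γ(X, W), ∀ (hp : p ∈ minimalPrimes Γ(X, W)),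
      ss ∉ p ∧ ∀ (hz : hW.fromSpec ⟨p, hp.1.1⟩ ∈ W),
        t (hW.fromSpec ⟨p, hp.1.1⟩) *
          algebraMap _ (KStalk X (hW.fromSpec ⟨p, hp.1.1⟩)) (X.presheaf.germ W _ hz ss) =
          algebraMap _ (KStalk X (hW.fromSpec ⟨p, hp.1.1⟩)) (X.presheaf.germ W _ hz aa) := by
    intro p
    by_cases hp : p ∈ minimalPrimes Γ(X, W)
    · obtain ⟨z, hz_def⟩ : ∃ z : X, z = hW.fromSpec ⟨p, hp.1.1⟩ := ⟨_, rfl⟩
      have hz : z ∈ W := by rw [hz_def]; exact Groth.Agent.Helper4.AssDict.fromSpec_mem hW _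
      have hgen : IsGen z := by rw [hz_def]; exact isGen_fromSpec hW p hp
      obtain ⟨u, hu⟩ := (algebraMap_bijective_of_isGen z hgen).2 (t z)
      obtain ⟨a, s, hs, has⟩ := exists_germ_frac hW ⟨z, hz⟩ u
      refine ⟨a, s, fun _ => ⟨?_, fun hz' => ?_⟩⟩
      · have h1 : hW.primeIdealOf ⟨z, hz⟩ = ⟨p, hp.1.1⟩ := by
          subst hz_def
          exact Groth.Agent.Helper4.AssDict.primeIdealOf_fromSpec hW _
        rw [h1] at hs
        exact hs
      · subst hz_def
        rw [← hu, ← map_mul]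
        exact congrArg _ has
    · exact ⟨0, 1, fun hp' => (hp hp').elim⟩
  choose aa ss hdat using hdata
  have hfinW := finite_minimalPrimes hfin hW
  obtain ⟨a, b, hb, hab⟩ := crt_reduced hfinW aa ss (fun p hp => (hdat p hp).1)
  have hbreg : b ∈ regSub X W := by
    rw [regSub_eq_nonZeroDivisors hW]
    exact mem_nonZeroDivisors_of_forall_notMem b hb
  refine ⟨toK X W a * invReg ⟨b, hbreg⟩, ?_⟩
  intro z hz hgen
  obtain ⟨p, hp, rfl⟩ := exists_eq_fromSpec_of_isGen hW z hz hgen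
  have hpid : hW.primeIdealOf ⟨hW.fromSpec ⟨p, hp.1.1⟩, hz⟩ = ⟨p, hp.1.1⟩ :=
    Groth.Agent.Helper4.AssDict.primeIdealOf_fromSpec hW _
  obtain ⟨c, hc, hcab⟩ := hab p hp
  have hcu : IsUnit (X.presheaf.germ W _ hz c) := by
    rw [isUnit_germ_iff hW ⟨_, hz⟩ c, hpid]
    exact hc
  have hsu : IsUnit (X.presheaf.germ W _ hz (ss p)) := by
    rw [isUnit_germ_iff hW ⟨_, hz⟩ (ss p), hpid]
    exact (hdat p hp).1
  have h1 : X.presheaf.germ W _ hz a * X.presheaf.germ W _ hz (ss p) =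
      X.presheaf.germ W _ hz b * X.presheaf.germ W _ hz (aa p) := by
    have h2 := congrArg (X.presheaf.germ W _ hz) hcab
    rw [map_mul, map_zero, map_sub, map_mul, map_mul] at h2
    exact sub_eq_zero.mp ((hcu.mul_right_eq_zero).mp h2)
  have h3 := (hdat p hp).2 hz
  obtain ⟨Z, hZ_def⟩ : ∃ Z : X, Z = hW.fromSpec ⟨p, hp.1.1⟩ := ⟨_, rfl⟩
  have hval : (toK X W a * invReg ⟨b, hbreg⟩).1 ⟨hW.fromSpec ⟨p, hp.1.1⟩, hz⟩ =
      algebraMap _ (KStalk X (hW.fromSpec ⟨p, hp.1.1⟩)) (X.presheaf.germ W _ hz a) *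
        (invReg ⟨b, hbreg⟩).1 ⟨hW.fromSpec ⟨p, hp.1.1⟩, hz⟩ := rfl
  rw [hval]
  have hinv : (invReg ⟨b, hbreg⟩).1 ⟨hW.fromSpec ⟨p, hp.1.1⟩, hz⟩ *
      algebraMap _ (KStalk X (hW.fromSpec ⟨p, hp.1.1⟩)) (X.presheaf.germ W _ hz b) = 1 :=
    (mk_mul_algebraMap _ 1 (regGerm ⟨hW.fromSpec ⟨p, hp.1.1⟩, hz⟩ ⟨b, hbreg⟩)).trans (map_one _)
  have hsu' : IsUnit (algebraMap _ (KStalk X (hW.fromSpec ⟨p, hp.1.1⟩))
      (X.presheaf.germ W _ hz (ss p))) := hsu.map _
  have h4 : algebraMap _ (KStalk X (hW.fromSpec ⟨p, hp.1.1⟩)) (X.presheaf.germ W _ hz a) =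
      algebraMap _ (KStalk X (hW.fromSpec ⟨p, hp.1.1⟩)) (X.presheaf.germ W _ hz b) *
        t (hW.fromSpec ⟨p, hp.1.1⟩) := by
    apply hsu'.mul_right_cancel
    rw [← map_mul, h1, map_mul, mul_assoc, h3]
  rw [h4, mul_comm (algebraMap _ _ _) (t _), mul_assoc, mul_comm (algebraMap _ _ _), hinv, mul_one]

theorem exists_section [IsReduced X] (hfin : (irreducibleComponents (X : Type u)).Finite)
    (U : X.Opens) (t : ∀ z : X, KStalk X z) :
    ∃ s : Γ(kmod X, U), ∀ (z : X) (hz : z ∈ U), IsGen z → s.1 ⟨z, hz⟩ = t z := by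
  have hloc : ∀ y : U, ∃ (W : X.Opens) (_ : y.1 ∈ W) (_ : W ≤ U) (σ : Γ(kmod X, W)),
      ∀ (z : X) (hz : z ∈ W), IsGen z → σ.1 ⟨z, hz⟩ = t z := by
    intro y
    obtain ⟨W, hW, hyW, hWU⟩ : ∃ W : X.Opens, IsAffineOpen W ∧ y.1 ∈ W ∧ W ≤ U := by
      obtain ⟨W, h1, h2, h3⟩ := Opens.isBasis_iff_nbhd.mp X.isBasis_affineOpens y.2
      exact ⟨W, h1, h2, h3⟩
    obtain ⟨σ, hσ⟩ := exists_local_section hfin hW t
    exact ⟨W, hyW, hWU, σ, hσ⟩
  choose W hyW hWU σ hσ using hloc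
  have hcompat : TopCat.Presheaf.IsCompatible (kmod X).presheaf W σ := by
    intro i j
    apply kmod_eq_of_generic
    intro z hgen
    exact (hσ i z.1 z.2.1 hgen).trans (hσ j z.1 z.2.2 hgen).symm
  have hcover : U ≤ iSup W := by
    intro y hy
    exact Opens.mem_iSup.mpr ⟨⟨y, hy⟩, hyW ⟨y, hy⟩⟩
  obtain ⟨s, hs, -⟩ := TopCat.Sheaf.existsUnique_gluing'
    (⟨(kmod X).presheaf, (kmod X).isSheaf⟩ : TopCat.Sheaf Ab X) W U
    (fun i => homOfLE (hWU i)) hcover σ hcompat
  refine ⟨s, ?_⟩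
  intro z hz hgen
  have h1 := hs ⟨z, hz⟩
  have h2 : (show Γ(kmod X, W ⟨z, hz⟩) from
      (kmod X).presheaf.map (homOfLE (hWU ⟨z, hz⟩)).op s).1 ⟨z, hyW ⟨z, hz⟩⟩ =
      (σ ⟨z, hz⟩).1 ⟨z, hyW ⟨z, hz⟩⟩ :=
    congrArg (fun τ : Γ(kmod X, W ⟨z, hz⟩) => τ.1 ⟨z, hyW ⟨z, hz⟩⟩) h1
  exact h2.trans (hσ ⟨z, hz⟩ z (hyW ⟨z, hz⟩) hgen)

theorem s10961 [IsReduced X] (hfin : (irreducibleComponents (X : Type u)).Finite) (U : X.Opens) :
    Function.Bijective (fun s : Γ(Mero.kmod X, U) =>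
      fun x : {x : U // closure ({x.1} : Set X) ∈ irreducibleComponents (X : Type u)} =>
        Mero.evalK X U x.1 s) ∧
    (∀ x : X, closure ({x} : Set X) ∈ irreducibleComponents (X : Type u) →
      IsField (X.presheaf.stalk x) ∧
        Function.Bijective (algebraMap (X.presheaf.stalk x) (Mero.KStalk X x))) := by
  classical
  refine ⟨⟨?_, ?_⟩, ?_⟩
  · intro s s' hss
    apply kmod_eq_of_generic
    intro x hgen
    exact congrFun hss ⟨x, (isGen_iff_closure_mem x.1).mp hgen⟩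
  · intro τ
    obtain ⟨t, ht_def⟩ : ∃ t : ∀ z : X, KStalk X z, t = fun z =>
      if h : z ∈ U ∧ closure ({z} : Set X) ∈ irreducibleComponents (X : Type u) then
        τ ⟨⟨z, h.1⟩, h.2⟩ else 0 := ⟨_, rfl⟩
    obtain ⟨s, hs⟩ := exists_section hfin U t
    refine ⟨s, ?_⟩
    funext x
    change s.1 x.1 = τ x
    have h1 := hs x.1.1 x.1.2 ((isGen_iff_closure_mem x.1.1).mpr x.2)
    rw [ht_def] at h1
    simp only at h1
    rw [dif_pos ⟨x.1.2, x.2⟩] at h1
    exact h1
  · intro x hx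
    have hgen := (isGen_iff_closure_mem x).mpr hx
    exact ⟨IsLocalRing.isField_iff_maximalIdeal_eq.mpr (maximalIdeal_eq_bot_of_isGen x hgen),
      algebraMap_bijective_of_isGen x hgen⟩

end Groth.Agent.Lead.MeroAA
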