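import Mathlib
import Groth.Prelude.Def_RefHull
import Groth.Prelude.Def_FlatMod2
import Groth.Agent.Lead.WDivB
import Groth.Agent.Lead.HomShH
import Groth.Agent.Lead.CohPull
import Groth.Agent.Lead.ResPropC

/-!
# Torsion-free modules on an integral scheme: basic closure properties
-/

set_option autoImplicit false
set_option linter.unusedSectionVars false
set_option linter.style.haveILetI false
universe u
open CategoryTheory CategoryTheory.Limits AlgebraicGeometry TopologicalSpace Opposite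

namespace Groth.Agent.Lead.TFQuot

variable {X : Scheme.{u}}

/-- stalkwise torsion-freeness -/
def TFree (A : X.Modules) : Prop :=
  ∀ y : X, NoZeroSMulDivisors (X.presheaf.stalk y) (A.presheaf.stalk y)

theorem tfree_of_mono {A B : X.Modules} (i : A ⟶ B) [Mono i] (hB : TFree B) : TFree A := by
  intro y
  haveI := hB y
  refine ⟨fun {r v} hrv => ?_⟩
  have hinj := Groth.Agent.Lead.WDivB.stalkMapₗ_injective_of_mono i y
  have h1 : r • RefHull.stalkMapₗ i y v = 0 := by
    rw [← map_smul, hrv, map_zero]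
  rcases NoZeroSMulDivisors.eq_zero_or_eq_zero_of_smul_eq_zero h1 with h | h
  · exact Or.inl h
  · right
    apply hinj
    rw [h, map_zero]

theorem tfree_of_iso {A B : X.Modules} (e : A ≅ B) (hA : TFree A) : TFree B :=
  tfree_of_mono e.inv hA

theorem germ_eq_zero_iff (A : X.Modules) {U : X.Opens} (y : X) (hy : y ∈ U) (m : Γ(A, U)) :
    A.presheaf.germ U y hy m = 0 ↔
      ∃ (W : X.Opens) (hW : W ≤ U), y ∈ W ∧ A.presheaf.map (homOfLE hW).op m = 0 := by
  constructor
  · intro h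
    have h0 : A.presheaf.germ U y hy m = A.presheaf.germ U y hy 0 := by rw [h, map_zero]
    obtain ⟨W, hyW, iU, iV, he⟩ := TopCat.Presheaf.germ_eq A.presheaf y hy hy m 0 h0
    refine ⟨W, iU.le, hyW, ?_⟩
    rw [map_zero] at he
    exact he
  · rintro ⟨W, hW, hyW, h⟩
    rw [← TopCat.Presheaf.germ_res_apply A.presheaf (homOfLE hW) y hyW, h, map_zero]

theorem tfree_unit [IsIntegral X] : TFree (Coh.structureModule X) := by
  intro y
  refine ⟨fun {r v} hrv => ?_⟩
  obtain ⟨U₁, hy₁, r', rfl⟩ := TopCat.Presheaf.exists_germ_eq X.presheaf r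
  obtain ⟨U₂, hy₂, m', rfl⟩ := TopCat.Presheaf.exists_germ_eq (Coh.structureModule X).presheaf v
  set W := U₁ ⊓ U₂ with hW
  have hyW : y ∈ W := ⟨hy₁, hy₂⟩
  let r'' : Γ(X, W) := X.presheaf.map (homOfLE (inf_le_left : W ≤ U₁)).op r'
  let m'' : Γ(Coh.structureModule X, W) :=
    (Coh.structureModule X).presheaf.map (homOfLE (inf_le_right : W ≤ U₂)).op m'
  have hr : X.presheaf.germ U₁ y hy₁ r' = X.presheaf.germ W y hyW r'' :=
    (TopCat.Presheaf.germ_res_apply X.presheaf (homOfLE inf_le_left) y hyW r').symm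
  have hm : (Coh.structureModule X).presheaf.germ U₂ y hy₂ m' =
      (Coh.structureModule X).presheaf.germ W y hyW m'' :=
    (TopCat.Presheaf.germ_res_apply (Coh.structureModule X).presheaf (homOfLE inf_le_right) y hyW
      m').symm
  rw [hr, hm, ← Mero.germ_smul, germ_eq_zero_iff] at hrv
  obtain ⟨W', hW', hyW', h0⟩ := hrv
  haveI : Nonempty W' := ⟨⟨y, hyW'⟩⟩
  haveI : IsDomain Γ(X, W') := inferInstance
  have h1 : X.presheaf.map (homOfLE hW').op r'' *
      (show Γ(X, W') from (Coh.structureModule X).presheaf.map (homOfLE hW').op m'') = 0 := by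
    have h2 := Scheme.Modules.map_smul (M := Coh.structureModule X) (homOfLE hW') r'' m''
    rw [h0] at h2
    exact h2.symm
  rcases mul_eq_zero.mp h1 with h | h
  · left
    rw [hr, ← TopCat.Presheaf.germ_res_apply X.presheaf (homOfLE hW') y hyW', h, map_zero]
  · right
    rw [hm]
    exact (germ_eq_zero_iff _ y hyW m'').mpr ⟨W', hW', hyW', h⟩

theorem tfree_of_isZero {A : X.Modules} (hA : IsZero A) : TFree A := by
  intro y
  refine ⟨fun {r v} _ => Or.inr ?_⟩
  obtain ⟨U, hy, p, rfl⟩ := TopCat.Presheaf.exists_germ_eq A.presheaf v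
  have h1 : RefHull.stalkMapₗ (𝟙 A) y (A.presheaf.germ U y hy p) = 0 := by
    rw [hA.eq_of_src (𝟙 A) 0, RefHull.stalkMapₗ_germ, Scheme.Modules.Hom.zero_app]
    exact map_zero _
  rwa [HomShG.stalkMapₗ_id] at h1

theorem tfree_biprod {A B : X.Modules} (hA : TFree A) (hB : TFree B) : TFree (A ⊞ B) := by
  intro y
  haveI := hA y
  haveI := hB y
  refine ⟨fun {r v} hrv => ?_⟩
  by_cases hr : r = 0
  · exact Or.inl hr
  right
  have hf : RefHull.stalkMapₗ (biprod.fst : A ⊞ B ⟶ A) y v = 0 := by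
    have h1 : r • RefHull.stalkMapₗ (biprod.fst : A ⊞ B ⟶ A) y v = 0 := by
      rw [← map_smul, hrv, map_zero]
    exact (NoZeroSMulDivisors.eq_zero_or_eq_zero_of_smul_eq_zero h1).resolve_left hr
  have hs : RefHull.stalkMapₗ (biprod.snd : A ⊞ B ⟶ B) y v = 0 := by
    have h1 : r • RefHull.stalkMapₗ (biprod.snd : A ⊞ B ⟶ B) y v = 0 := by
      rw [← map_smul, hrv, map_zero]
    exact (NoZeroSMulDivisors.eq_zero_or_eq_zero_of_smul_eq_zero h1).resolve_left hr
  obtain ⟨U, hy, p, rfl⟩ := TopCat.Presheaf.exists_germ_eq (A ⊞ B : X.Modules).presheaf v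
  rw [RefHull.stalkMapₗ_germ, germ_eq_zero_iff] at hf hs
  obtain ⟨W₁, hW₁, hy₁, h₁⟩ := hf
  obtain ⟨W₂, hW₂, hy₂, h₂⟩ := hs
  refine (germ_eq_zero_iff _ y hy p).mpr ⟨W₁ ⊓ W₂, inf_le_left.trans hW₁, ⟨hy₁, hy₂⟩, ?_⟩
  set q := (A ⊞ B : X.Modules).presheaf.map (homOfLE (inf_le_left.trans hW₁ : W₁ ⊓ W₂ ≤ U)).op p
    with hq
  have e1 : (biprod.fst : A ⊞ B ⟶ A).app (W₁ ⊓ W₂) q = 0 := by
    rw [hq, Groth.Agent.Helper4.StalkExact.app_res]
    have : (homOfLE (inf_le_left.trans hW₁ : W₁ ⊓ W₂ ≤ U)) =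
        homOfLE (inf_le_left : W₁ ⊓ W₂ ≤ W₁) ≫ homOfLE hW₁ := rfl
    rw [this, op_comp, A.presheaf.map_comp]
    change A.presheaf.map _ (A.presheaf.map (homOfLE hW₁).op _) = 0
    rw [h₁, map_zero]
  have e2 : (biprod.snd : A ⊞ B ⟶ B).app (W₁ ⊓ W₂) q = 0 := by
    rw [hq, Groth.Agent.Helper4.StalkExact.app_res]
    have : (homOfLE (inf_le_left.trans hW₁ : W₁ ⊓ W₂ ≤ U)) =
        homOfLE (inf_le_right : W₁ ⊓ W₂ ≤ W₂) ≫ homOfLE hW₂ := rfl
    rw [this, op_comp, B.presheaf.map_comp]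
    change B.presheaf.map _ (B.presheaf.map (homOfLE hW₂).op _) = 0
    rw [h₂, map_zero]
  have e3 : q = ((biprod.fst : A ⊞ B ⟶ A) ≫ biprod.inl + biprod.snd ≫ biprod.inr).app
      (W₁ ⊓ W₂) q := by
    rw [biprod.total]
    rfl
  rw [e3, Scheme.Modules.Hom.add_app]
  change (biprod.inl : A ⟶ A ⊞ B).app _ ((biprod.fst : A ⊞ B ⟶ A).app _ q) +
    (biprod.inr : B ⟶ A ⊞ B).app _ ((biprod.snd : A ⊞ B ⟶ B).app _ q) = 0
  rw [e1, e2, map_zero, map_zero, add_zero]

/-- a property of modules closed under isomorphisms, zero objects and binary biproducts is closed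
under finite biproducts -/
theorem prop_biproduct (C : X.Modules → Prop)
    (hiso : ∀ {M N : X.Modules}, (M ≅ N) → C M → C N)
    (hzero : ∀ M : X.Modules, IsZero M → C M)
    (hbi : ∀ M N : X.Modules, C M → C N → C (M ⊞ N)) :
    ∀ (K : ℕ) (N : Fin K → X.Modules), (∀ j, C (N j)) → C (⨁ N) := by
  intro K
  induction K with
  | zero =>
    intro N _
    apply hzero
    rw [IsZero.iff_id_eq_zero]
    apply biproduct.hom_ext
    intro j
    exact j.elim0
  | succ n ih =>
    intro N hN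
    obtain ⟨i⟩ := Groth.Agent.Lead.ResProp.nonempty_biproduct_fin_succ_iso N
    exact hiso i.symm (hbi _ _ (hN 0) (ih _ (fun j => hN j.succ)))

theorem prop_biproduct' (C : X.Modules → Prop)
    (hiso : ∀ {M N : X.Modules}, (M ≅ N) → C M → C N)
    (hzero : ∀ M : X.Modules, IsZero M → C M)
    (hbi : ∀ M N : X.Modules, C M → C N → C (M ⊞ N))
    {ι : Type*} [Finite ι] (N : ι → X.Modules) (hN : ∀ j, C (N j)) : C (⨁ N) := by
  obtain ⟨K, ⟨e⟩⟩ := Finite.exists_equiv_fin ι
  have h1 := prop_biproduct C hiso hzero hbi K (fun k => N (e.symm k)) (fun k => hN _)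
  exact hiso (biproduct.whiskerEquiv (f := N) (g := fun k : Fin K => N (e.symm k)) e
      (fun j => eqToIso (by simp))).symm h1

end Groth.Agent.Lead.TFQuot
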