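import Mathlib
import Groth.Prelude.Def_TorSh
import Groth.Prelude.Def_Coh
import Groth.Agent.Lead.MeroAA
import Groth.Agent.Lead.TFQuotA
import Groth.Agent.Lead.PropIntC
import Groth.Agent.Lead.CartProdA
import Groth.Agent.Helper4.StalkDict

/-!
# Germs of sections of a torsion-free quasi-coherent module on a reduced locally Noetherian scheme
(S18922)
-/

set_option autoImplicit false
universe u
open CategoryTheory CategoryTheory.Limits AlgebraicGeometry TopologicalSpace Opposite IsLocalRing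

namespace Groth.Agent.Lead.TFGerm

open Groth.Agent.Lead.MeroP Groth.Agent.Lead.MeroAA Groth.Agent.Lead.MeroM

variable {X : Scheme.{u}}

theorem isField_stalk_fromSpec [IsReduced X] {W : X.Opens} (hW : IsAffineOpen W)
    (p : Ideal Γ(X, W)) (hp : p ∈ minimalPrimes Γ(X, W)) :
    IsField (X.presheaf.stalk (hW.fromSpec ⟨p, hp.1.1⟩)) := by
  rw [IsLocalRing.isField_iff_maximalIdeal_eq]
  exact maximalIdeal_eq_bot_of_isGen _ (isGen_fromSpec hW p hp)

theorem isRegular_germ {W : X.Opens} (hW : IsAffineOpen W) (z : X) (hz : z ∈ W) (a : Γ(X, W))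
    (ha : a ∈ nonZeroDivisors Γ(X, W)) : IsRegular (X.presheaf.germ W z hz a) := by
  rw [isRegular_iff_mem_nonZeroDivisors]
  letI := TopCat.Presheaf.algebra_section_stalk X.presheaf (⟨z, hz⟩ : W)
  haveI := hW.isLocalization_stalk ⟨z, hz⟩
  exact IsLocalization.map_nonZeroDivisors_le (hW.primeIdealOf ⟨z, hz⟩).asIdeal.primeCompl
    (X.presheaf.stalk z) (Submonoid.mem_map_of_mem _ ha)

/-- the annihilator of a section -/
def annIdeal (F : X.Modules) {W : X.Opens} (m : Γ(F, W)) : Ideal Γ(X, W) where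
  carrier := {a | a • m = 0}
  zero_mem' := zero_smul _ _
  add_mem' := by
    intro a b ha hb
    change (a + b) • m = 0
    rw [add_smul, ha, hb, add_zero]
  smul_mem' := by
    intro c a ha
    change (c * a) • m = 0
    rw [mul_smul, ha, smul_zero]

theorem main [IsReduced X] [IsLocallyNoetherian X] (F : X.Modules) [F.IsQuasicoherent]
    (htF : TorSh.IsTorsionFree F) (x : X) (U : X.Opens) (hxU : x ∈ U)
    (hU : ∀ y : X, y ∈ U → IsField (X.presheaf.stalk y) → x ∈ closure ({y} : Set X)) :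
    Function.Injective (F.presheaf.germ U x hxU) := by
  rw [injective_iff_map_eq_zero]
  intro s hs
  obtain ⟨V, hVU, hxV, hsV⟩ := (Groth.Agent.Lead.TFQuot.germ_eq_zero_iff F x hxU s).1 hs
  apply section_ext_germ
  intro z hz
  rw [map_zero]
  obtain ⟨_, ⟨W, hW, rfl⟩, hzW, hle⟩ :=
    X.isBasis_affineOpens.exists_subset_of_mem_open hz U.isOpen
  have hle' : W ≤ U := hle
  obtain ⟨m, hm⟩ : ∃ m : Γ(F, W), m = F.presheaf.map (homOfLE hle').op s := ⟨_, rfl⟩
  haveI : IsNoetherianRing Γ(X, W) := IsLocallyNoetherian.component_noetherian ⟨W, hW⟩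
  -- the annihilator is in no minimal prime
  have hclaim : ∀ p ∈ minimalPrimes Γ(X, W), ¬ annIdeal F m ≤ p := by
    intro p hp hIp
    haveI : p.IsPrime := hp.1.1
    obtain ⟨y, hy⟩ : ∃ y : X, y = hW.fromSpec ⟨p, hp.1.1⟩ := ⟨_, rfl⟩
    have hyW : y ∈ W := by rw [hy]; exact Groth.Agent.Lead.PropIntB.fromSpec_mem hW _
    have hfield : IsField (X.presheaf.stalk y) := by
      rw [hy]; exact isField_stalk_fromSpec hW p hp
    have hxy : y ⤳ x := specializes_iff_mem_closure.mpr (hU y (hle' hyW) hfield)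
    have hyV : y ∈ V := hxy.mem_open V.isOpen hxV
    obtain ⟨a, haV, hya⟩ := hW.exists_basicOpen_le (V := W ⊓ V) ⟨y, ⟨hyW, hyV⟩⟩ hyW
    have hres : F.presheaf.map (homOfLE (X.basicOpen_le a)).op m = 0 := by
      have h1 : F.presheaf.map (homOfLE (X.basicOpen_le a)).op m =
          F.presheaf.map (homOfLE (haV.trans inf_le_right)).op
            (F.presheaf.map (homOfLE hVU).op s) := by
        rw [hm, ← ConcreteCategory.comp_apply, ← Functor.map_comp, ← ConcreteCategory.comp_apply,
          ← Functor.map_comp]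
        rfl
      rw [h1, hsV, map_zero]
    obtain ⟨n, hn⟩ := Groth.Agent.Helper4.StalkDict.exists_pow_smul_eq_zero hW F a m hres
    have h2 : a ^ n ∈ p := hIp hn
    have h3 : a ∈ p := Ideal.IsPrime.mem_of_pow_mem inferInstance n h2
    have h4 := (Groth.Agent.Lead.CartProdA.mem_primeIdealOf_iff ⟨W, hW⟩ y hyW a).1
    have h5 : hW.primeIdealOf ⟨y, hyW⟩ = ⟨p, hp.1.1⟩ := by
      have := Groth.Agent.Lead.PropIntC.primeIdealOf_fromSpec hW ⟨p, hp.1.1⟩
      rw [← this]
      congr 1
      exact Subtype.ext hy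
    rw [h5] at h4
    exact h4 h3 hya
  -- prime avoidance
  obtain ⟨a, haI, hamin⟩ : ∃ a ∈ annIdeal F m, ∀ p ∈ minimalPrimes Γ(X, W), a ∉ p := by
    by_contra hcon
    push Not at hcon
    have hfin : (minimalPrimes Γ(X, W)).Finite := minimalPrimes.finite_of_isNoetherianRing _
    have hsub : ((annIdeal F m : Ideal Γ(X, W)) : Set Γ(X, W)) ⊆
        ⋃ p ∈ (↑hfin.toFinset : Set (Ideal Γ(X, W))), (id p : Ideal Γ(X, W)) := by
      intro a ha
      obtain ⟨p, hp, hap⟩ := hcon a ha
      exact Set.mem_iUnion₂.mpr ⟨p, by simpa using hp, hap⟩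
    obtain ⟨p, hp, hle⟩ := (Ideal.subset_union_prime (s := hfin.toFinset) (f := id) ⊥ ⊥
      (fun p hp _ _ => by
        have : p ∈ minimalPrimes Γ(X, W) := by simpa using hp
        exact this.1.1)).1 hsub
    have hp' : p ∈ minimalPrimes Γ(X, W) := by simpa using hp
    exact hclaim p hp' hle
  have hanzd : a ∈ nonZeroDivisors Γ(X, W) := mem_nonZeroDivisors_of_forall_notMem a hamin
  have hreg := isRegular_germ hW z hzW a hanzd
  have hsm := (htF z).isSMulRegular hreg
  have h6 : X.presheaf.germ W z hzW a • F.presheaf.germ W z hzW m = 0 := by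
    rw [← Mero.germ_smul]
    have : a • m = 0 := haI
    rw [this, map_zero]
  have h7 : F.presheaf.germ W z hzW m = 0 := by
    apply hsm
    change X.presheaf.germ W z hzW a • F.presheaf.germ W z hzW m = X.presheaf.germ W z hzW a • 0
    rw [h6, smul_zero]
  rw [hm, TopCat.Presheaf.germ_res_apply] at h7
  exact h7

theorem s18922 (k : Type u) [Field k] (X : Scheme.{u}) [X.Over (Spec (CommRingCat.of k))]
    [IsProper (X ↘ Spec (CommRingCat.of k))] [IsReduced X]
    (F : X.Modules) (hF : Coh.IsCoh F) (htF : TorSh.IsTorsionFree F)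
    (x : X) (U : X.Opens) (hxU : x ∈ U)
    (hU : ∀ y : X, y ∈ U → IsField (X.presheaf.stalk y) → x ∈ closure ({y} : Set X)) :
    Function.Injective (F.presheaf.germ U x hxU) := by
  haveI : IsLocallyNoetherian X :=
    LocallyOfFiniteType.isLocallyNoetherian (X ↘ Spec (CommRingCat.of k))
  haveI : F.IsQuasicoherent := hF.1
  exact main F htF x U hxU hU

end Groth.Agent.Lead.TFGerm
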