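import Mathlib
import Groth.Prelude.Def_RefHull
import Groth.Prelude.Def_TorSh
import Groth.Prelude.Def_Pi1
import Groth.Agent.Lead.BCMap5
import Groth.Agent.Lead.TFGerm
import Groth.Agent.Lead.Ref1H
import Groth.Agent.Lead.SurfKer
import Groth.Agent.Lead.ReflExtC
import Groth.Agent.Lead.StalkPull
import Groth.Agent.Lead.ZeroDimGG
import Groth.Agent.Helper4.QcohEpi
import Groth.Agent.Helper4.EpiStalk
import Groth.Agent.Helper4.StalkExact

/-!
# Torsion-free quotients of pullbacks along a birational morphism: module level lemmas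
-/

set_option autoImplicit false
set_option linter.style.haveILetI false
set_option linter.unusedSectionVars false
universe u
open CategoryTheory CategoryTheory.Limits AlgebraicGeometry Opposite TopologicalSpace TensorProduct

namespace Groth.Agent.Lead.RatRefl
open Scheme.Modules Groth.Agent.Helper4 Groth.Agent.Helper4.StalkDict Groth.Agent.Lead.BCMap

/-- a base change along a bijective ring homomorphism is bijective -/
theorem bijective_of_isBaseChange {R S M N : Type*} [CommRing R] [CommRing S] [Algebra R S]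
    [AddCommGroup M] [Module R M] [AddCommGroup N] [Module R N] [Module S N]
    [IsScalarTower R S N] (ρ : M →ₗ[R] N) (h : IsBaseChange S ρ)
    (hb : Function.Bijective (algebraMap R S)) : Function.Bijective ρ := by
  have hj : Function.Bijective (fun m : M => (1 : S) ⊗ₜ[R] m) := by
    let σ : R ≃ₗ[R] S := LinearEquiv.ofBijective (Algebra.linearMap R S) hb
    let τ : M ≃ₗ[R] S ⊗[R] M :=
      (TensorProduct.lid R M).symm ≪≫ₗ TensorProduct.congr σ (LinearEquiv.refl R M)
    have : (fun m : M => (1 : S) ⊗ₜ[R] m) = τ := by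
      funext m
      simp [τ, σ]
    rw [this]
    exact τ.bijective
  have : (ρ : M → N) = h.equiv ∘ (fun m : M => (1 : S) ⊗ₜ[R] m) := by
    funext m
    simp [IsBaseChange.equiv_tmul]
  rw [this]
  exact h.equiv.bijective.comp hj

section Pb
variable {X Y : Scheme.{u}} (f : X ⟶ Y) (L : Y.Modules)

/-- the pullback of sections between affine opens is bijective when the ring map is -/
theorem pbSec_bijective [L.IsQuasicoherent] {U : Y.Opens} (hU : IsAffineOpen U) {V : X.Opens}
    (hV : IsAffineOpen V) (e : V ≤ f ⁻¹ᵁ U)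
    (hb : Function.Bijective (f.appLE U V e).hom) :
    Function.Bijective (pbSec f L U V e) := by
  letI := (f.appLE U V e).hom.toAlgebra
  letI : Module Γ(Y, U) Γ((Scheme.Modules.pullback f).obj L, V) :=
    Module.compHom _ (f.appLE U V e).hom
  haveI : IsScalarTower Γ(Y, U) Γ(X, V) Γ((Scheme.Modules.pullback f).obj L, V) :=
    IsScalarTower.of_compHom _ _ _
  obtain ⟨ρ, hρ, hbc⟩ := exists_isBaseChange_pbSec f L hU hV e
  have h := bijective_of_isBaseChange ρ hbc hb
  have he : (pbSec f L U V e : Γ(L, U) → _) = ρ := funext fun m => (hρ m).symm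
  rw [he]
  exact h

variable {L} {M : X.Modules} (q : (Scheme.Modules.pullback f).obj L ⟶ M)

/-- the adjoint morphism `L ⟶ f_* M` -/
noncomputable def adj : L ⟶ (Scheme.Modules.pushforward f).obj M :=
  ((pullbackPushforwardAdjunction f).homEquiv L M) q

theorem adj_app (U : Y.Opens) (l : Γ(L, U)) :
    (adj f q).app U l = q.app (f ⁻¹ᵁ U) (pbSec f L U (f ⁻¹ᵁ U) le_rfl l) := by
  have h := homEquiv_app f L q U (f ⁻¹ᵁ U) le_rfl l
  rw [← h]
  have h1 : (homOfLE (le_rfl : f ⁻¹ᵁ U ≤ f ⁻¹ᵁ U)).op = 𝟙 _ := rfl
  rw [h1, M.presheaf.map_id]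
  rfl

theorem adj_app_surjective [L.IsQuasicoherent] [M.IsQuasicoherent] [Epi q] {V : Y.Opens}
    (hV : IsAffineOpen V) (hV' : IsAffineOpen (f ⁻¹ᵁ V))
    (hb : Function.Bijective (f.app V).hom) : Function.Surjective ((adj f q).app V) := by
  intro t
  haveI := Groth.Agent.Lead.StalkPull.isQuasicoherent_pullbackObj f L
  obtain ⟨s, hs⟩ := QcohEpi.app_surjective_of_epi q hV' t
  have hb' : Function.Bijective (f.appLE V (f ⁻¹ᵁ V) le_rfl).hom := by
    rw [Scheme.Hom.appLE_eq_app]
    exact hb
  obtain ⟨l, hl⟩ := (pbSec_bijective f L hV hV' le_rfl hb').2 s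
  refine ⟨l, ?_⟩
  rw [adj_app, hl]
  exact hs

end Pb

section Generic
variable {X : Scheme.{u}} [IsIntegral X] [IsLocallyNoetherian X]

/-- sections of a torsion-free quasi-coherent module inject into the generic stalk -/
theorem germ_generic_injective (F : X.Modules) [F.IsQuasicoherent]
    (htF : TorSh.IsTorsionFree F) (U : X.Opens) (hη : genericPoint X ∈ U) :
    Function.Injective (F.presheaf.germ U (genericPoint X) hη) := by
  refine Groth.Agent.Lead.TFGerm.main F htF (genericPoint X) U hη ?_
  intro y _ hy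
  have h0 : y = genericPoint X :=
    Groth.Agent.Lead.Ref1H.eq_genericPoint_of_dim_le_zero y
      (by rw [ringKrullDim_eq_zero_of_isField hy])
  rw [h0]
  exact subset_closure rfl

theorem res_injective_of_generic (F : X.Modules) [F.IsQuasicoherent]
    (htF : TorSh.IsTorsionFree F) {U V : X.Opens} (hVU : V ≤ U) (hη : genericPoint X ∈ V) :
    Function.Injective (F.presheaf.map (homOfLE hVU).op) := by
  intro s t hst
  apply germ_generic_injective F htF U (hVU hη)
  rw [← TopCat.Presheaf.germ_res_apply F.presheaf (homOfLE hVU) (genericPoint X) hη s,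
    ← TopCat.Presheaf.germ_res_apply F.presheaf (homOfLE hVU) (genericPoint X) hη t, hst]

end Generic

/-- a reflexive module is torsion-free -/
theorem isTorsionFree_of_isReflexive (R M : Type*) [CommRing R] [AddCommGroup M] [Module R M]
    [Module.IsReflexive R M] : Module.IsTorsionFree R M :=
  (Module.bijective_dual_eval R M).1.moduleIsTorsionFree _ (fun r m => map_smul _ r m)

section Inj
variable {X Y : Scheme.{u}} [IsIntegral X] [IsIntegral Y] [IsLocallyNoetherian Y] (f : X ⟶ Y)
  {L : Y.Modules} {M : X.Modules} (q : (Scheme.Modules.pullback f).obj L ⟶ M)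

/-- the adjoint of a generically injective morphism from the pullback of a torsion-free module
along a birational morphism is injective on sections -/
theorem adj_app_injective [L.IsQuasicoherent] (hLt : TorSh.IsTorsionFree L)
    (hηf : f (genericPoint X) = genericPoint Y)
    (hq : Function.Injective (RefHull.stalkMapₗ q (genericPoint X)))
    (hgood : ∀ U : Y.Opens, genericPoint Y ∈ U → ∃ V : Y.Opens, V ≤ U ∧ genericPoint Y ∈ V ∧
      IsAffineOpen V ∧ IsAffineOpen (f ⁻¹ᵁ V) ∧ Function.Bijective (f.app V).hom)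
    (U : Y.Opens) : Function.Injective ((adj f q).app U) := by
  rw [injective_iff_map_eq_zero]
  intro l hl
  by_cases hη : genericPoint Y ∈ U
  swap
  · apply TopCat.Presheaf.section_ext (Groth.Agent.Lead.ZeroDimGG.sh L) U
    intro x hx
    exact absurd (((genericPoint_spec Y).mem_open_set_iff U.isOpen).mpr ⟨x, trivial, hx⟩) hη
  apply germ_generic_injective L hLt U hη
  rw [map_zero]
  obtain ⟨V, hVU, hηV, hV, hV', hb⟩ := hgood U hη
  haveI := Groth.Agent.Lead.StalkPull.isQuasicoherent_pullbackObj f L
  obtain ⟨l', hl'⟩ : ∃ l' : Γ(L, V), l' = L.presheaf.map (homOfLE hVU).op l := ⟨_, rfl⟩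
  have h1 : (adj f q).app V l' = 0 := by
    rw [hl', ← Groth.Agent.Lead.HomShK.app_res (adj f q) hVU l, hl, map_zero]
  rw [adj_app] at h1
  have h1' : q.app (f ⁻¹ᵁ V) (pbSec f L V (f ⁻¹ᵁ V) le_rfl l') = (0 : Γ(M, f ⁻¹ᵁ V)) := h1
  have hηX : genericPoint X ∈ f ⁻¹ᵁ V := by
    show f (genericPoint X) ∈ V
    rw [hηf]
    exact hηV
  have h2 : ((Scheme.Modules.pullback f).obj L).presheaf.germ (f ⁻¹ᵁ V) (genericPoint X) hηX
      (pbSec f L V (f ⁻¹ᵁ V) le_rfl l') = 0 := by
    apply hq
    rw [RefHull.stalkMapₗ_germ, h1', map_zero, map_zero]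
  letI := StalkDict.sectionModStalk ((Scheme.Modules.pullback f).obj L) (genericPoint X) hηX
  haveI := StalkDict.isLocalizedModule_germ hV' ((Scheme.Modules.pullback f).obj L)
    (genericPoint X) hηX
  obtain ⟨c, hc⟩ := (IsLocalizedModule.eq_zero_iff
    (hV'.primeIdealOf ⟨genericPoint X, hηX⟩).asIdeal.primeCompl
    (StalkDict.germLin ((Scheme.Modules.pullback f).obj L) (genericPoint X) hηX)).mp h2
  obtain ⟨a, ha⟩ := hb.2 c.1
  have ha0 : a ≠ 0 := by
    rintro rfl
    rw [map_zero] at ha
    exact c.2 (ha ▸ Ideal.zero_mem _)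
  have hb' : Function.Bijective (f.appLE V (f ⁻¹ᵁ V) le_rfl).hom := by
    rw [Scheme.Hom.appLE_eq_app]
    exact hb
  have h3 : pbSec f L V (f ⁻¹ᵁ V) le_rfl (a • l') = 0 := by
    rw [pbSec_smul, Scheme.Hom.appLE_eq_app]
    have : (f.app V).hom a = c.1 := ha
    erw [this]
    exact hc
  have h4 : a • l' = 0 := by
    apply (pbSec_bijective f L hV hV' le_rfl hb').1
    rw [h3, map_zero]
  have h5 := congrArg (L.presheaf.germ V (genericPoint Y) hηV) h4
  rw [StalkDict.germ_smul, map_zero] at h5
  have h6 : Y.presheaf.germ V (genericPoint Y) hηV a ≠ 0 := by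
    intro h
    exact ha0 (germ_injective_of_isIntegral Y (genericPoint Y) hηV (by rw [h, map_zero]))
  haveI := hLt (genericPoint Y)
  have h7 := (smul_eq_zero.mp h5).resolve_left h6
  rw [← TopCat.Presheaf.germ_res_apply L.presheaf (homOfLE hVU) (genericPoint Y) hηV l, ← hl']
  exact h7

end Inj

section Bidual
variable {X : Scheme.{u}}

/-- the dual of a module of finite type is torsion-free -/
theorem isTorsionFree_dual (G : X.Modules)
    (hG : SheafOfModules.IsFiniteType (R := X.ringCatSheaf) G) :
    TorSh.IsTorsionFree (RefHull.dual G) := by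
  intro x
  haveI : Module.IsTorsionFree (X.presheaf.stalk x)
      ((Coh.structureModule X).presheaf.stalk x) :=
    (Groth.Agent.Lead.Hartogs2.unitEquiv x).symm.injective.moduleIsTorsionFree _
      (fun r m => map_smul _ r m)
  exact (Groth.Agent.Lead.HomSh.evalStalk_injective_of_isFT G _ hG x).moduleIsTorsionFree _
    (fun r m => map_smul _ r m)

/-- the biduality map of a torsion-free coherent module on an integral scheme is injective on
stalks -/
theorem stalkMap_bidualMap_injective [IsIntegral X] [IsLocallyNoetherian X] (M : X.Modules)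
    (hM : Coh.IsCoh M) (hMt : TorSh.IsTorsionFree M) (x : X) :
    Function.Injective (RefHull.stalkMapₗ (RefHull.bidualMap M) x) := by
  have hFP := Groth.Agent.Helper4.CohFP.isFP_of_isCoh M hM.1 hM.2
  haveI := hM.1
  haveI : Module.Finite (X.presheaf.stalk x) (M.presheaf.stalk x) :=
    Groth.Agent.Helper4.FinLocFree2.finite_stalk M hM.2 x
  haveI := hMt x
  rw [injective_iff_map_eq_zero]
  intro v hv
  have h1 : RefHull.bidualAt M x v = 0 := by
    rw [← Groth.Agent.Lead.HomShF.evalStalk_stalkMap_bidualMap, hv, map_zero]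
  obtain ⟨n, g, hg⟩ := Groth.Agent.Lead.SurfKer.exists_injective_to_free
    (X.presheaf.stalk x) (M.presheaf.stalk x)
  apply hg
  rw [map_zero]
  funext i
  let φ : RefHull.StalkHom M (Coh.structureModule X) x :=
    (Groth.Agent.Lead.Hartogs2.unitEquiv x).toLinearMap ∘ₗ (LinearMap.proj i) ∘ₗ g
  obtain ⟨θ, hθ⟩ := Groth.Agent.Lead.HomShB.evalStalk_surjective M _ hFP x φ
  have h2 : RefHull.bidualAt M x v θ = 0 := by
    rw [h1]
    rfl
  rw [RefHull.bidualAt_apply, hθ] at h2
  have h3 : Groth.Agent.Lead.Hartogs2.unitEquiv x (g v i) = 0 := h2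
  have h4 := (Groth.Agent.Lead.Hartogs2.unitEquiv x).injective (h3.trans (map_zero _).symm)
  exact h4

/-- a torsion-free coherent module is free at the points where the local ring is normal of
dimension at most one -/
theorem free_stalk_of_dim_le_one [IsLocallyNoetherian X] (hX : Pi1.IsNormalScheme X)
    (M : X.Modules) (hM : Coh.IsCoh M) (hMt : TorSh.IsTorsionFree M) (x : X)
    (h1 : ringKrullDim (X.presheaf.stalk x) ≤ 1) :
    Module.Free (X.presheaf.stalk x) (M.presheaf.stalk x) := by
  haveI := hM.1
  haveI := (hX x).1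
  haveI := (hX x).2
  haveI : IsPrincipalIdealRing (X.presheaf.stalk x) :=
    Groth.Agent.Lead.ReflExtB.isPrincipalIdealRing_of_normal_dim_le_one _ h1
  haveI := hMt x
  haveI : Module.Finite (X.presheaf.stalk x) (M.presheaf.stalk x) :=
    Groth.Agent.Helper4.FinLocFree2.finite_stalk M hM.2 x
  exact Module.free_of_finite_type_torsion_free'

/-- the biduality map is bijective on the stalks at the points where the stalk is free -/
theorem stalkMap_bidualMap_bijective_of_free [IsLocallyNoetherian X] (M : X.Modules)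
    (hM : Coh.IsCoh M) (x : X)
    (hfree : Module.Free (X.presheaf.stalk x) (M.presheaf.stalk x)) :
    Function.Bijective (RefHull.stalkMapₗ (RefHull.bidualMap M) x) := by
  have hFP := Groth.Agent.Helper4.CohFP.isFP_of_isCoh M hM.1 hM.2
  have hDFP := Groth.Agent.Lead.HomShE.isFP_homSh M _ hM (Groth.Agent.Lead.HomShH.isCoh_unit X)
  haveI := hM.1
  haveI : Module.Finite (X.presheaf.stalk x) (M.presheaf.stalk x) :=
    Groth.Agent.Helper4.FinLocFree2.finite_stalk M hM.2 x
  haveI := hfree
  have hr : RefHull.IsReflexiveAt M x :=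
    (inferInstance : Module.IsReflexive (X.presheaf.stalk x) (M.presheaf.stalk x))
  exact (Groth.Agent.Lead.HomShF.isReflexiveAt_iff M hFP hDFP x).mp hr

/-- the cokernel vanishes at the points where the morphism is surjective on stalks -/
theorem subsingleton_stalk_cokernel {F G : X.Modules} (β : F ⟶ G) (x : X)
    (h : Function.Surjective (RefHull.stalkMapₗ β x)) :
    Subsingleton ((cokernel β).presheaf.stalk x) := by
  suffices H : ∀ t : (cokernel β).presheaf.stalk x, t = 0 from
    ⟨fun a b => (H a).trans (H b).symm⟩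
  intro t
  obtain ⟨k, rfl⟩ := Groth.Agent.Helper4.EpiStalk.stalkLin_surjective_of_epi (cokernel.π β) x t
  obtain ⟨m, rfl⟩ := h k
  obtain ⟨U, hxU, s, rfl⟩ := TopCat.Presheaf.exists_germ_eq F.presheaf m
  rw [RefHull.stalkMapₗ_germ, Groth.Agent.Helper4.StalkExact.stalkLin_germ]
  have h0 : (cokernel.π β).app U (β.app U s) = 0 := by
    have h00 : (β ≫ cokernel.π β).app U s = 0 := by
      rw [cokernel.condition]
      rfl
    exact h00
  rw [h0, map_zero]

end Bidual

end Groth.Agent.Lead.RatRefl
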