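import Mathlib
import Groth.Agent.S1567

/-!
# Stalks of the closed subscheme of an ideal sheaf
-/

set_option autoImplicit false
universe u
open CategoryTheory CategoryTheory.Limits AlgebraicGeometry TopologicalSpace

namespace Groth.Agent.Lead.SubStalk

open Groth.Agent.S1567

/-- The kernel of the stalk map of `D ↪ X` is generated by the ideal of `D` on any affine
neighbourhood. -/
theorem ker_stalkMap_subschemeι {X : Scheme.{u}} (𝓘 : X.IdealSheafData) (d : 𝓘.subscheme)
    (W : X.affineOpens) (hxW : 𝓘.subschemeι d ∈ W.1) :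
    RingHom.ker (𝓘.subschemeι.stalkMap d).hom =
      (𝓘.ideal W).map (X.presheaf.germ W.1 (𝓘.subschemeι d) hxW).hom := by
  set x := 𝓘.subschemeι d with hx
  have hW' : IsAffineOpen (𝓘.subschemeι ⁻¹ᵁ W.1) := W.2.preimage 𝓘.subschemeι
  have hdW' : d ∈ 𝓘.subschemeι ⁻¹ᵁ W.1 := hxW
  apply le_antisymm
  · intro z hz
    rw [RingHom.mem_ker] at hz
    let _ := X.presheaf.algebra_section_stalk ⟨x, hxW⟩
    have hloc := W.2.isLocalization_stalk ⟨x, hxW⟩
    obtain ⟨b, ⟨s, hs⟩, rfl⟩ := IsLocalization.exists_mk'_eq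
      (W.2.primeIdealOf ⟨x, hxW⟩).asIdeal.primeCompl z
    have hsu : IsUnit (algebraMap Γ(X, W.1) (X.presheaf.stalk x) s) :=
      IsLocalization.map_units _ ⟨s, hs⟩
    -- germ of `b` maps to zero
    have hb0 : (𝓘.subschemeι.stalkMap d).hom (algebraMap Γ(X, W.1) (X.presheaf.stalk x) b) = 0 := by
      have := IsLocalization.mk'_spec (X.presheaf.stalk x) b ⟨s, hs⟩
      rw [← this, map_mul, hz, zero_mul]
    have hb1 : (𝓘.subscheme.presheaf.germ (𝓘.subschemeι ⁻¹ᵁ W.1) d hdW')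
        ((𝓘.subschemeι.app W.1).hom b) = 0 := by
      have := Scheme.Hom.germ_stalkMap_apply 𝓘.subschemeι W.1 d hxW b
      rw [← this]
      exact hb0
    let _ := 𝓘.subscheme.presheaf.algebra_section_stalk ⟨d, hdW'⟩
    have hloc' := hW'.isLocalization_stalk ⟨d, hdW'⟩
    obtain ⟨⟨u', hu'⟩, hu'0⟩ := (IsLocalization.map_eq_zero_iff
      (hW'.primeIdealOf ⟨d, hdW'⟩).asIdeal.primeCompl (𝓘.subscheme.presheaf.stalk d) _).mp hb1
    obtain ⟨u, rfl⟩ := 𝓘.subschemeι_app_surjective W u'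
    simp only at hu'0
    have hub : u * b ∈ 𝓘.ideal W := by
      rw [← 𝓘.ker_subschemeι_app W, RingHom.mem_ker, map_mul]
      exact hu'0
    have hux : u ∉ (W.2.primeIdealOf ⟨x, hxW⟩).asIdeal := by
      rw [← mem_basicOpen_iff_notMem_primeIdealOf W.2 x hxW u]
      have h1 : d ∈ 𝓘.subscheme.basicOpen ((𝓘.subschemeι.app W.1).hom u) :=
        (mem_basicOpen_iff_notMem_primeIdealOf hW' d hdW' _).mpr hu'
      rw [← Scheme.preimage_basicOpen] at h1
      exact h1
    have huu : IsUnit (algebraMap Γ(X, W.1) (X.presheaf.stalk x) u) :=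
      IsLocalization.map_units (M := (W.2.primeIdealOf ⟨x, hxW⟩).asIdeal.primeCompl) _ ⟨u, hux⟩
    have hmem : algebraMap Γ(X, W.1) (X.presheaf.stalk x) b ∈
        (𝓘.ideal W).map (algebraMap Γ(X, W.1) (X.presheaf.stalk x)) := by
      have h2 : algebraMap Γ(X, W.1) (X.presheaf.stalk x) (u * b) ∈
          (𝓘.ideal W).map (algebraMap Γ(X, W.1) (X.presheaf.stalk x)) :=
        Ideal.mem_map_of_mem _ hub
      rw [map_mul] at h2
      exact (Ideal.unit_mul_mem_iff_mem _ huu).mp h2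
    have h3 : IsLocalization.mk' (X.presheaf.stalk x) b ⟨s, hs⟩ =
        algebraMap Γ(X, W.1) (X.presheaf.stalk x) b * ↑(hsu.unit⁻¹) := by
      rw [IsLocalization.mk'_eq_iff_eq_mul, mul_assoc]
      simp
    rw [h3]
    exact Ideal.mul_mem_right _ _ hmem
  · rw [Ideal.map_le_iff_le_comap]
    intro a ha
    rw [Ideal.mem_comap, RingHom.mem_ker]
    have := Scheme.Hom.germ_stalkMap_apply 𝓘.subschemeι W.1 d hxW a
    erw [this]
    have ha0 : (𝓘.subschemeι.app W.1).hom a = 0 := by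
      rw [← RingHom.mem_ker, 𝓘.ker_subschemeι_app W]; exact ha
    erw [ha0]
    exact map_zero _

end Groth.Agent.Lead.SubStalk
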