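import Mathlib
import Groth.Agent.Lead.IdealMulA
import Groth.Agent.Helper4.SecDict
import Groth.Agent.Helper4.SubExt

/-!
# Uniform constants on Noetherian schemes: killing by powers of an ideal, Artin–Rees
-/

set_option autoImplicit false
set_option linter.unusedSectionVars false
set_option linter.style.haveILetI false

open CategoryTheory Limits AlgebraicGeometry TopologicalSpace Opposite

universe u

namespace Groth.Agent.Lead.IdealMul

open Groth.Agent.Helper4 Groth.Agent.Lead.Thick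

variable {X : Scheme.{u}}

theorem exists_finite_affine_cover (X : Scheme.{u}) [CompactSpace X] :
    ∃ s : Finset X.affineOpens, ∀ x : X, ∃ U ∈ s, x ∈ (U : X.Opens) := by
  classical
  choose U hU hxU using fun x : X => QcohLimits.exists_affine_nhd x
  obtain ⟨t, ht⟩ := isCompact_univ.elim_nhds_subcover (fun x => ((U x : X.Opens) : Set X))
    (fun x _ => (U x).isOpen.mem_nhds (hxU x))
  refine ⟨t.image (fun x => (⟨U x, hU x⟩ : X.affineOpens)), fun x => ?_⟩
  have hx : x ∈ ⋃ y ∈ t, ((U y : X.Opens) : Set X) := ht.2 (Set.mem_univ x)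
  simp only [Set.mem_iUnion] at hx
  obtain ⟨y, hy, hxy⟩ := hx
  exact ⟨⟨U y, hU y⟩, Finset.mem_image.mpr ⟨y, hy, rfl⟩, hxy⟩

/-- a constant that exists on every affine open and may be enlarged can be chosen uniformly on an
affine cover of a quasi-compact scheme -/
theorem exists_uniform [CompactSpace X] (P : ℕ → X.Opens → Prop)
    (hmono : ∀ (n n' : ℕ) (U : X.Opens), n ≤ n' → P n U → P n' U)
    (h : ∀ U : X.Opens, IsAffineOpen U → ∃ n, P n U) :
    ∃ n, ∀ x : X, ∃ U : X.Opens, IsAffineOpen U ∧ x ∈ U ∧ P n U := by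
  classical
  obtain ⟨s, hs⟩ := exists_finite_affine_cover X
  choose n hn using fun U : X.affineOpens => h U.1 U.2
  refine ⟨s.sup n, fun x => ?_⟩
  obtain ⟨U, hUs, hxU⟩ := hs x
  exact ⟨U.1, U.2, hxU, hmono _ _ _ (Finset.le_sup hUs) (hn U)⟩

/-- a morphism whose restriction to `U` vanishes is zero on sections over opens inside `U` -/
theorem app_eq_zero_of_restrict {A C : X.Modules} (ψ : A ⟶ C) (U : X.Opens)
    (hψ : (Scheme.Modules.restrictFunctor U.ι).map ψ = 0) {W : X.Opens} (hW : W ≤ U)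
    (m : Γ(A, W)) : ψ.app W m = 0 := by
  have e : U.ι ''ᵁ (U.ι ⁻¹ᵁ W) = W :=
    SubExt.image_preimage_of_le U.ι (by rw [Scheme.Opens.opensRange_ι]; exact hW)
  have h1 : ∀ T' : (U : Scheme.{u}).Opens, ψ.app (U.ι ''ᵁ T') = 0 := by
    intro T'
    have := congrArg (fun φ => Scheme.Modules.Hom.app φ T') hψ
    exact this
  have h2 := h1 (U.ι ⁻¹ᵁ W)
  rw [e] at h2
  rw [h2]
  rfl

theorem basicOpen_le_of_mem_ideal (I : X.IdealSheafData) (U : X.Opens)
    (hU : (U : Set X) = (I.support : Set X)ᶜ) {V : X.Opens} (hV : IsAffineOpen V)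
    (a : Γ(X, V)) (ha : a ∈ I.ideal ⟨V, hV⟩) : X.basicOpen a ≤ U := by
  intro x hx
  change x ∈ (U : Set X)
  rw [hU]
  intro hxs
  have hxV : x ∈ V := X.basicOpen_le a hx
  have hxs' : x ∈ I.support := hxs
  rw [Scheme.IdealSheafData.mem_support_iff_of_mem (U := ⟨V, hV⟩) hxV,
    Scheme.mem_zeroLocus_iff] at hxs'
  exact hxs' a ha hx

/-- **killing**: on a Noetherian scheme a morphism from a coherent module to a quasi-coherent one
which vanishes off `V(I)` vanishes on `I^N G` for some `N` -/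
theorem exists_idealMulι_comp_eq_zero [IsNoetherian X] (I : X.IdealSheafData) (G C : X.Modules)
    [G.IsQuasicoherent] (hG : SheafOfModules.IsFiniteType (R := X.ringCatSheaf) G)
    [C.IsQuasicoherent] (ψ : G ⟶ C) (U : X.Opens) (hU : (U : Set X) = (I.support : Set X)ᶜ)
    (hψ : (Scheme.Modules.restrictFunctor U.ι).map ψ = 0) :
    ∃ N : ℕ, Dual3.idealMulι (I ^ N) G ≫ ψ = 0 := by
  let P : ℕ → X.Opens → Prop := fun N V => ∀ hV : IsAffineOpen V,
    ∀ a ∈ I.ideal ⟨V, hV⟩ ^ N, ∀ m : Γ(G, V), ψ.app V (a • m) = 0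
  have hmono : ∀ (n n' : ℕ) (V : X.Opens), n ≤ n' → P n V → P n' V := by
    intro n n' V hnn' hP hV a ha m
    exact hP hV a (Ideal.pow_le_pow_right hnn' ha) m
  have hex : ∀ V : X.Opens, IsAffineOpen V → ∃ n, P n V := by
    intro V hV
    haveI : IsNoetherianRing Γ(X, V) := IsLocallyNoetherian.component_noetherian ⟨V, hV⟩
    haveI : Module.Finite Γ(X, V) Γ(G, V) := SecDict.finite_sections hV G inferInstance hG
    let L := QcohEpi.appLin ψ V
    have hrad : I.ideal ⟨V, hV⟩ ≤ (LinearMap.range L).annihilator.radical := by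
      intro a ha
      obtain ⟨S, hS⟩ := (Module.Finite.fg_top : (⊤ : Submodule Γ(X, V) Γ(G, V)).FG)
      have hk : ∀ m : Γ(G, V), ∃ k : ℕ, a ^ k • L m = 0 := by
        intro m
        apply (QcqsMod.isLocalizingOn_of_isAffineOpen C hV).zero a (L m)
        have h1 : C.presheaf.map (homOfLE (X.basicOpen_le a)).op (ψ.app V m) =
            ψ.app (X.basicOpen a) (G.presheaf.map (homOfLE (X.basicOpen_le a)).op m) :=
          (StalkExact.app_res ψ (homOfLE (X.basicOpen_le a)) m).symm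
        change C.presheaf.map (homOfLE (X.basicOpen_le a)).op (ψ.app V m) = 0
        rw [h1]
        exact app_eq_zero_of_restrict ψ U hψ (basicOpen_le_of_mem_ideal I U hU hV a ha) _
      choose k hk using hk
      refine ⟨S.sup k, ?_⟩
      have hr : LinearMap.range L = Submodule.span Γ(X, V) (L '' (S : Set Γ(G, V))) := by
        rw [← Submodule.map_span, hS, Submodule.map_top]
      rw [hr, Submodule.mem_annihilator_span]
      rintro ⟨y, m, hm, rfl⟩
      have hle : k m ≤ S.sup k := Finset.le_sup hm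
      obtain ⟨d, hd⟩ := Nat.exists_eq_add_of_le hle
      change a ^ S.sup k • L m = 0
      rw [hd, pow_add, mul_comm, mul_smul, hk m, smul_zero]
    obtain ⟨N, hN⟩ := Ideal.exists_pow_le_of_le_radical_of_fg hrad
      (IsNoetherian.noetherian (I.ideal ⟨V, hV⟩))
    refine ⟨N, fun hV' a ha m => ?_⟩
    have ha' : a ∈ (LinearMap.range L).annihilator := hN ha
    rw [Scheme.Modules.Hom.app_smul]
    exact (Submodule.mem_annihilator.mp ha') (L m) (LinearMap.mem_range_self L m)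
  obtain ⟨N, hN⟩ := exists_uniform P hmono hex
  refine ⟨N, ?_⟩
  apply eq_zero_of_cover
  intro x
  obtain ⟨V, hV, hxV, hP⟩ := hN x
  refine ⟨V, hV, hxV, fun t => ?_⟩
  have h1 : (Dual3.idealMulι (I ^ N) G).app V t ∈
      (I ^ N).ideal ⟨V, hV⟩ • (⊤ : Submodule Γ(X, V) Γ(G, V)) := by
    rw [← secR_idealMulι (I ^ N) G hV]
    exact app_mem_secR _ V t
  change ψ.app V ((Dual3.idealMulι (I ^ N) G).app V t) = 0
  refine Submodule.smul_induction_on h1 ?_ ?_
  · intro a ha m _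
    exact hP hV a ha m
  · intro y z hy hz
    rw [map_add, hy, hz, add_zero]

/-- Artin–Rees constants may be enlarged -/
theorem ar_mono {R M : Type*} [CommRing R] [AddCommGroup M] [Module R M] (J : Ideal R)
    (N : Submodule R M) (c c' : ℕ) (hcc' : c ≤ c')
    (hc : ∀ n ≥ c, J ^ n • (⊤ : Submodule R M) ⊓ N = J ^ (n - c) • (J ^ c • ⊤ ⊓ N)) :
    ∀ n ≥ c', J ^ n • (⊤ : Submodule R M) ⊓ N = J ^ (n - c') • (J ^ c' • ⊤ ⊓ N) := by
  intro n hn
  rw [hc c' hcc', ← Submodule.mul_smul, ← pow_add, hc n (hcc'.trans hn)]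
  congr 2
  omega

/-- **Artin–Rees**, uniformly on an affine cover -/
theorem exists_ar [IsNoetherian X] (I : X.IdealSheafData) (Q K : X.Modules)
    [Q.IsQuasicoherent] (hQ : SheafOfModules.IsFiniteType (R := X.ringCatSheaf) Q)
    (k : K ⟶ Q) :
    ∃ c : ℕ, ∀ x : X, ∃ V : X.Opens, ∃ hV : IsAffineOpen V, x ∈ V ∧ ∀ n ≥ c,
      I.ideal ⟨V, hV⟩ ^ n • (⊤ : Submodule Γ(X, V) Γ(Q, V)) ⊓ secR k V =
        I.ideal ⟨V, hV⟩ ^ (n - c) • (I.ideal ⟨V, hV⟩ ^ c • ⊤ ⊓ secR k V) := by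
  let P : ℕ → X.Opens → Prop := fun c V => ∀ hV : IsAffineOpen V, ∀ n ≥ c,
      I.ideal ⟨V, hV⟩ ^ n • (⊤ : Submodule Γ(X, V) Γ(Q, V)) ⊓ secR k V =
        I.ideal ⟨V, hV⟩ ^ (n - c) • (I.ideal ⟨V, hV⟩ ^ c • ⊤ ⊓ secR k V)
  have hmono : ∀ (n n' : ℕ) (V : X.Opens), n ≤ n' → P n V → P n' V := by
    intro c c' V hcc' hP hV
    exact ar_mono _ _ c c' hcc' (hP hV)
  have hex : ∀ V : X.Opens, IsAffineOpen V → ∃ n, P n V := by
    intro V hV
    haveI : IsNoetherianRing Γ(X, V) := IsLocallyNoetherian.component_noetherian ⟨V, hV⟩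
    haveI : Module.Finite Γ(X, V) Γ(Q, V) := SecDict.finite_sections hV Q inferInstance hQ
    obtain ⟨c, hc⟩ := Ideal.exists_pow_inf_eq_pow_smul (I.ideal ⟨V, hV⟩) (secR k V)
    exact ⟨c, fun _ => hc⟩
  obtain ⟨c, hc⟩ := exists_uniform P hmono hex
  refine ⟨c, fun x => ?_⟩
  obtain ⟨V, hV, hxV, hP⟩ := hc x
  exact ⟨V, hV, hxV, hP hV⟩

end Groth.Agent.Lead.IdealMul
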