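import Mathlib
import Groth.Agent.Lead.IdealMulB
import Groth.Agent.Helper4.FTLift
import Groth.Agent.Helper4.QcohGlue

/-!
# Deligne's formula: lifting part

On a Noetherian scheme, a morphism `G|_U ⟶ F|_U` (`G` coherent, `F` quasi-coherent, `U` the
complement of `V(I)`) is induced by a morphism `I^n G ⟶ F`.
-/

set_option autoImplicit false
set_option linter.unusedSectionVars false
set_option linter.style.haveILetI false

open CategoryTheory Limits AlgebraicGeometry TopologicalSpace Opposite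

universe u

namespace Groth.Agent.Lead.IdealMul

open Groth.Agent.Helper4 Groth.Agent.Lead.Thick

variable {X : Scheme.{u}}

/-- a quasi-coherent module mapping onto a finite type one has a finite type submodule doing so -/
theorem exists_finiteType_sub_epi [CompactSpace X] [QuasiSeparatedSpace X] {P T : X.Modules}
    [P.IsQuasicoherent] [T.IsQuasicoherent]
    (hT : SheafOfModules.IsFiniteType (R := X.ringCatSheaf) T) (p : P ⟶ T) [Epi p] :
    ∃ (Q : X.Modules) (q : Q ⟶ P), Mono q ∧ Q.IsQuasicoherent ∧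
      SheafOfModules.IsFiniteType (R := X.ringCatSheaf) Q ∧ Epi (q ≫ p) := by
  classical
  obtain ⟨s, hs⟩ := exists_finite_affine_cover X
  have hgen : ∀ U : X.affineOpens, ∃ S : Finset Γ(T, U.1),
      Submodule.span Γ(X, U.1) (S : Set Γ(T, U.1)) = ⊤ := by
    intro U
    haveI : Module.Finite Γ(X, U.1) Γ(T, U.1) := SecDict.finite_sections U.2 T inferInstance hT
    exact (Module.Finite.fg_top : (⊤ : Submodule Γ(X, U.1) Γ(T, U.1)).FG)
  choose S hS using hgen
  have hlift : ∀ (U : X.affineOpens) (t : Γ(T, U.1)), ∃ y : Γ(P, U.1), p.app U.1 y = t :=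
    fun U t => QcohEpi.app_surjective_of_epi p U.2 t
  choose lift hlift using hlift
  let l : List (Σ U : X.Opens, Γ(P, U)) :=
    s.toList.flatMap (fun U => (S U).toList.map (fun t => ⟨U.1, lift U t⟩))
  have hl : ∀ z ∈ l, IsCompact (z.1 : Set X) := by
    intro z hz
    obtain ⟨U, -, hz⟩ := List.mem_flatMap.mp hz
    obtain ⟨t, -, rfl⟩ := List.mem_map.mp hz
    exact U.2.isCompact
  obtain ⟨Q, q, hq, hQ, hft, hmem⟩ := FTLift.exists_submodule_through_sections P l hl
  refine ⟨Q, q, hq, hQ, hft, ?_⟩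
  apply QcohLocal.epi_of_app_surjective_of_affine_cover
  intro x
  obtain ⟨U, hUs, hxU⟩ := hs x
  refine ⟨U.1, U.2, hxU, ?_⟩
  have hle : (⊤ : Submodule Γ(X, U.1) Γ(T, U.1)) ≤ secR (q ≫ p) U.1 := by
    rw [← hS U, Submodule.span_le]
    intro t ht
    have hz : (⟨U.1, lift U t⟩ : Σ U : X.Opens, Γ(P, U)) ∈ l :=
      List.mem_flatMap.mpr ⟨U, Finset.mem_toList.mpr hUs,
        List.mem_map.mpr ⟨t, Finset.mem_toList.mpr ht, rfl⟩⟩
    obtain ⟨g, hg⟩ := hmem _ hz
    refine (mem_secR (q ≫ p) U.1 t).mpr ⟨g, ?_⟩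
    change p.app U.1 (q.app U.1 g) = t
    rw [hg]
    exact hlift U t
  intro t
  exact (mem_secR (q ≫ p) U.1 t).mp (hle trivial)

variable (I : X.IdealSheafData)

/-- `I · (-)` preserves epimorphisms of quasi-coherent modules -/
theorem epi_idealMul_map {Q T : X.Modules} [Q.IsQuasicoherent] [T.IsQuasicoherent] (r : Q ⟶ T)
    [Epi r] : Epi ((Dual3.idealMul I).map r) := by
  apply QcohLocal.epi_of_app_surjective_of_affine_cover
  intro x
  obtain ⟨U, hU, hxU⟩ := QcohLimits.exists_affine_nhd x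
  refine ⟨U, hU, hxU, fun t' => ?_⟩
  have h1 : (Dual3.idealMulι I T).app U t' ∈ secR (Dual3.idealMulι I Q ≫ r) U := by
    rw [secR_idealMulι_comp I r hU]
    have htop : secR r U = ⊤ := by
      rw [eq_top_iff]
      intro t _
      exact (mem_secR r U t).mpr (QcohEpi.app_surjective_of_epi r hU t)
    rw [htop, ← secR_idealMulι I T hU]
    exact app_mem_secR _ U t'
  obtain ⟨y, hy⟩ := (mem_secR _ U _).mp h1
  refine ⟨y, ?_⟩
  apply AffineDict.app_injective_of_mono (Dual3.idealMulι I T) U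
  rw [← hy]
  have := congrArg (fun φ => (Scheme.Modules.Hom.app φ U) y) (Dual3.idealMul_map_ι I r)
  exact this

/-- `I^(a+b) G ⊆ I^a (I^b G)` -/
theorem exists_idealMul_pow_add (G : X.Modules) [G.IsQuasicoherent] (a b : ℕ) :
    ∃ w : (Dual3.idealMul (I ^ (a + b))).obj G ⟶
        (Dual3.idealMul (I ^ a)).obj ((Dual3.idealMul (I ^ b)).obj G),
      w ≫ Dual3.idealMulι (I ^ a) ((Dual3.idealMul (I ^ b)).obj G) ≫ Dual3.idealMulι (I ^ b) G =
        Dual3.idealMulι (I ^ (a + b)) G := by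
  apply exists_factor_of_cover
  intro x
  obtain ⟨U, hU, hxU⟩ := QcohLimits.exists_affine_nhd x
  refine ⟨U, hU, hxU, ?_⟩
  rw [secR_idealMulι_comp (I ^ a) _ hU, secR_idealMulι (I ^ b) G hU,
    secR_idealMulι (I ^ (a + b)) G hU, ← Submodule.mul_smul]
  apply le_of_eq
  congr 1
  change I.ideal ⟨U, hU⟩ ^ (a + b) = I.ideal ⟨U, hU⟩ ^ a * I.ideal ⟨U, hU⟩ ^ b
  rw [pow_add]

/-- **Deligne's formula, existence of lifts** -/
theorem exists_lift_of_restrict [IsNoetherian X] (F G : X.Modules) [F.IsQuasicoherent]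
    [G.IsQuasicoherent] (hG : SheafOfModules.IsFiniteType (R := X.ringCatSheaf) G)
    (U : X.Opens) (hU : (U : Set X) = (I.support : Set X)ᶜ)
    (φ : (Scheme.Modules.restrictFunctor U.ι).obj G ⟶
      (Scheme.Modules.restrictFunctor U.ι).obj F) :
    ∃ (n : ℕ) (ψ : (Dual3.idealMul (I ^ n)).obj G ⟶ F),
      (Scheme.Modules.restrictFunctor U.ι).map ψ =
        (Scheme.Modules.restrictFunctor U.ι).map (Dual3.idealMulι (I ^ n) G) ≫ φ := by
  let R := Scheme.Modules.restrictFunctor U.ι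
  let adj := Scheme.Modules.restrictAdjunction U.ι
  let H : X.Modules := (Scheme.Modules.pushforward U.ι).obj (R.obj F)
  haveI : (R.obj F).IsQuasicoherent := inferInstance
  haveI : H.IsQuasicoherent := QcohGlue.isQuasicoherent_pushforward U.ι (R.obj F)
  let u : F ⟶ H := adj.unit.app F
  have htri : R.map u ≫ adj.counit.app (R.obj F) = 𝟙 _ := adj.left_triangle_components F
  -- restriction kills morphisms which die after composing with `u`
  have hkill : ∀ {A : X.Modules} (f : A ⟶ F), f ≫ u = 0 → R.map f = 0 := by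
    intro A f hf
    have : R.map f = R.map (f ≫ u) ≫ adj.counit.app (R.obj F) := by
      rw [R.map_comp, Category.assoc, htri, Category.comp_id]
    rw [this, hf, R.map_zero, zero_comp]
  let φ' : G ⟶ H := adj.homEquiv G (R.obj F) φ
  have hφ' : R.map φ' ≫ adj.counit.app (R.obj F) = φ := by
    have h := (adj.homEquiv G (R.obj F)).symm_apply_apply φ
    rw [Adjunction.homEquiv_counit] at h
    exact h
  let π := cokernel.π u
  haveI : (cokernel u).IsQuasicoherent := QcohLimits.isQuasicoherent_cokernel u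
  have hRπ : R.map π = 0 := by
    haveI : IsIso (R.map u) := by
      have h1 : R.map u = inv (adj.counit.app (R.obj F)) := by
        rw [← cancel_mono (adj.counit.app (R.obj F)), htri, IsIso.inv_hom_id]
      rw [h1]; infer_instance
    rw [← cancel_epi (R.map u), ← R.map_comp, cokernel.condition, R.map_zero, comp_zero]
  obtain ⟨n, hn⟩ := exists_idealMulι_comp_eq_zero I G (cokernel u) hG (φ' ≫ π) U hU (by
    rw [R.map_comp, hRπ, comp_zero])
  -- the pullback
  let e' : F ⟶ Abelian.image u := Abelian.factorThruImage u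
  let Gn : X.Modules := (Dual3.idealMul (I ^ n)).obj G
  let ιn : Gn ⟶ G := Dual3.idealMulι (I ^ n) G
  obtain ⟨χ, hχ⟩ : ∃ χ : Gn ⟶ Abelian.image u, χ ≫ Abelian.image.ι u = ιn ≫ φ' :=
    ⟨kernel.lift (cokernel.π u) (ιn ≫ φ') (by rw [Category.assoc]; exact hn),
      kernel.lift_ι _ _ _⟩
  have he' : e' ≫ Abelian.image.ι u = u := Abelian.image.fac u
  haveI : (Abelian.image u).IsQuasicoherent := QcohLimits.isQuasicoherent_kernel (cokernel.π u)
  haveI : (pullback χ e').IsQuasicoherent := QcohLimits.isQuasicoherent_pullback χ e'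
  have hGn : SheafOfModules.IsFiniteType (R := X.ringCatSheaf) Gn :=
    QcohEpi.isFiniteType_of_mono ιn hG
  let p1 : pullback χ e' ⟶ Gn := pullback.fst χ e'
  let p2 : pullback χ e' ⟶ F := pullback.snd χ e'
  haveI : Epi p1 := inferInstance
  obtain ⟨Q, q, hqm, hQ, hQft, hQepi⟩ := exists_finiteType_sub_epi hGn p1
  haveI := hQ
  obtain ⟨r, hr⟩ : ∃ r : Q ⟶ Gn, r = q ≫ p1 := ⟨_, rfl⟩
  obtain ⟨s, hs⟩ : ∃ s : Q ⟶ F, s = q ≫ p2 := ⟨_, rfl⟩
  haveI : Epi r := hr ▸ hQepi
  have hsu : s ≫ u = r ≫ ιn ≫ φ' := by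
    have hc : p1 ≫ χ = p2 ≫ e' := pullback.condition
    rw [hr, hs]
    calc (q ≫ p2) ≫ u = q ≫ (p2 ≫ e') ≫ Abelian.image.ι u := by
          rw [Category.assoc, Category.assoc, he']
      _ = q ≫ (p1 ≫ χ) ≫ Abelian.image.ι u := by rw [hc]
      _ = (q ≫ p1) ≫ ιn ≫ φ' := by
          rw [Category.assoc, Category.assoc, hχ]
  obtain ⟨k, hk⟩ : ∃ k : kernel r ⟶ Q, k = kernel.ι r := ⟨_, rfl⟩
  haveI : Mono k := hk ▸ inferInstance
  have hkr : k ≫ r = 0 := by rw [hk]; exact kernel.condition r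
  haveI : (kernel r).IsQuasicoherent := QcohLimits.isQuasicoherent_kernel r
  have test : Mono k := inferInstance
  have test2 : (kernel r).IsQuasicoherent := inferInstance
  have test3 : IsLocallyNoetherian X := inferInstance
  have hKft : SheafOfModules.IsFiniteType (R := X.ringCatSheaf) (kernel r) :=
    @QcohEpi.isFiniteType_of_mono X (kernel r) Q test3 k test test2 hQ hQft
  have hks : R.map (k ≫ s) = 0 := by
    apply hkill
    rw [Category.assoc, hsu, ← Category.assoc, hkr, zero_comp]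
  obtain ⟨m, hm⟩ := exists_idealMulι_comp_eq_zero I (kernel r) F hKft (k ≫ s) U hU hks
  obtain ⟨c, hc⟩ := exists_ar I Q (kernel r) hQft k
  obtain ⟨N, hN⟩ : ∃ N : ℕ, N = c + m := ⟨_, rfl⟩
  obtain ⟨e, he0⟩ : ∃ e : (Dual3.idealMul (I ^ N)).obj Q ⟶ (Dual3.idealMul (I ^ N)).obj Gn,
    e = (Dual3.idealMul (I ^ N)).map r := ⟨_, rfl⟩
  haveI : Epi e := he0 ▸ epi_idealMul_map (I ^ N) r
  have he : e ≫ Dual3.idealMulι (I ^ N) Gn = Dual3.idealMulι (I ^ N) Q ≫ r := by
    rw [he0]; exact Dual3.idealMul_map_ι (I ^ N) r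
  haveI : (kernel e).IsQuasicoherent := QcohLimits.isQuasicoherent_kernel e
  have hzero : kernel.ι e ≫ Dual3.idealMulι (I ^ N) Q ≫ s = 0 := by
    apply eq_zero_of_cover
    intro x
    obtain ⟨V, hV, hxV, hAR⟩ := hc x
    refine ⟨V, hV, hxV, fun y => ?_⟩
    let z : Γ(Q, V) := (Dual3.idealMulι (I ^ N) Q).app V ((kernel.ι e).app V y)
    change s.app V z = 0
    have hz1 : z ∈ I.ideal ⟨V, hV⟩ ^ N • (⊤ : Submodule Γ(X, V) Γ(Q, V)) := by
      have := app_mem_secR (Dual3.idealMulι (I ^ N) Q) V ((kernel.ι e).app V y)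
      rw [secR_idealMulι (I ^ N) Q hV] at this
      exact this
    have hz2 : z ∈ secR k V := by
      rw [mem_secR, hk]
      apply (SubSec.exists_kernel_section_iff r V z).mpr
      have h1 := congrArg (fun φ => (Scheme.Modules.Hom.app φ V) ((kernel.ι e).app V y)) he
      have h2 := congrArg (fun φ => (Scheme.Modules.Hom.app φ V) y) (kernel.condition e)
      change r.app V ((Dual3.idealMulι (I ^ N) Q).app V ((kernel.ι e).app V y)) = 0
      change (Dual3.idealMulι (I ^ N) Gn).app V (e.app V ((kernel.ι e).app V y)) =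
        r.app V ((Dual3.idealMulι (I ^ N) Q).app V ((kernel.ι e).app V y)) at h1
      change e.app V ((kernel.ι e).app V y) = 0 at h2
      rw [← h1, h2, map_zero]
    have hz3 : z ∈ secR (Dual3.idealMulι (I ^ m) (kernel r) ≫ k) V := by
      rw [secR_idealMulι_comp (I ^ m) k hV]
      have h3 := hAR N (by omega)
      have hNc : N - c = m := by omega
      rw [hNc] at h3
      have h4 : z ∈ I.ideal ⟨V, hV⟩ ^ N • (⊤ : Submodule Γ(X, V) Γ(Q, V)) ⊓ secR k V :=
        ⟨hz1, hz2⟩
      rw [h3] at h4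
      exact Submodule.smul_mono le_rfl inf_le_right h4
    obtain ⟨y', hy'⟩ := (mem_secR _ V z).mp hz3
    rw [← hy']
    have := congrArg (fun φ => (Scheme.Modules.Hom.app φ V) y') hm
    exact this
  have hcok := Abelian.epiIsCokernelOfKernel (KernelFork.ofι (kernel.ι e) (kernel.condition e))
    (kernelIsKernel e)
  let ψ' : (Dual3.idealMul (I ^ N)).obj Gn ⟶ F :=
    hcok.desc (CokernelCofork.ofπ (Dual3.idealMulι (I ^ N) Q ≫ s) hzero)
  have hψ' : e ≫ ψ' = Dual3.idealMulι (I ^ N) Q ≫ s :=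
    hcok.fac (CokernelCofork.ofπ (Dual3.idealMulι (I ^ N) Q ≫ s) hzero) WalkingParallelPair.one
  obtain ⟨w, hw⟩ := exists_idealMul_pow_add I G N n
  have hψu : ψ' ≫ u = Dual3.idealMulι (I ^ N) Gn ≫ ιn ≫ φ' := by
    rw [← cancel_epi e, ← Category.assoc, hψ', Category.assoc, hsu, ← Category.assoc,
      ← Category.assoc, ← he, Category.assoc, Category.assoc]
  refine ⟨N + n, w ≫ ψ', ?_⟩
  have h1 : (w ≫ ψ') ≫ u = Dual3.idealMulι (I ^ (N + n)) G ≫ φ' := by
    rw [Category.assoc, hψu, ← hw, Category.assoc, Category.assoc]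
  have h2 : R.map (w ≫ ψ') = R.map ((w ≫ ψ') ≫ u) ≫ adj.counit.app (R.obj F) := by
    rw [R.map_comp _ u, Category.assoc, htri, Category.comp_id]
  change R.map (w ≫ ψ') = R.map (Dual3.idealMulι (I ^ (N + n)) G) ≫ φ
  rw [h2, h1, R.map_comp, Category.assoc, hφ']

end Groth.Agent.Lead.IdealMul
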