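import Mathlib
import Groth.Agent.Lead.IdealMulC

/-!
# Sections of subobjects: intersections, Artin–Rees in the subobject lattice
-/

set_option autoImplicit false
set_option linter.unusedSectionVars false
set_option linter.style.haveILetI false

open CategoryTheory Limits AlgebraicGeometry TopologicalSpace Opposite

universe u

namespace Groth.Agent.Lead.IdealMul

open Groth.Agent.Helper4 Groth.Agent.Lead.Thick

variable {X : Scheme.{u}}

theorem secR_iso_comp {A A' F : X.Modules} (e : A ≅ A') (a : A' ⟶ F) (V : X.Opens) :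
    secR (e.hom ≫ a) V = secR a V := by
  apply le_antisymm (secR_comp_le _ _ V)
  have h : a = e.inv ≫ (e.hom ≫ a) := by rw [Iso.inv_hom_id_assoc]
  conv_lhs => rw [h]
  exact secR_comp_le _ _ V

theorem secR_mk_arrow {A F : X.Modules} (a : A ⟶ F) [Mono a] (V : X.Opens) :
    secR (Subobject.mk a).arrow V = secR a V := by
  rw [← Subobject.underlyingIso_hom_comp_eq_mk a]
  exact secR_iso_comp _ a V

/-- the kernel description of an intersection of subobjects -/
noncomputable abbrev infK {F : X.Modules} (S T : Subobject F) : X.Modules :=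
  kernel (S.arrow ≫ cokernel.π T.arrow)

noncomputable abbrev infKι {F : X.Modules} (S T : Subobject F) : infK S T ⟶ F :=
  kernel.ι (S.arrow ≫ cokernel.π T.arrow) ≫ S.arrow

theorem inf_eq_mk {F : X.Modules} (S T : Subobject F) :
    S ⊓ T = Subobject.mk (infKι S T) := by
  have hS : (ShortComplex.mk T.arrow (cokernel.π T.arrow) (cokernel.condition T.arrow)).Exact :=
    ShortComplex.exact_of_g_is_cokernel _ (cokernelIsCokernel T.arrow)
  haveI : Mono (ShortComplex.mk T.arrow (cokernel.π T.arrow) (cokernel.condition T.arrow)).f :=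
    inferInstanceAs (Mono T.arrow)
  apply le_antisymm
  · have h0 : Subobject.ofLE (S ⊓ T) S inf_le_left ≫ (S.arrow ≫ cokernel.π T.arrow) = 0 := by
      rw [← Category.assoc, Subobject.ofLE_arrow, ← Subobject.ofLE_arrow (inf_le_right : S ⊓ T ≤ T),
        Category.assoc, cokernel.condition, comp_zero]
    refine Subobject.le_mk_of_comm (kernel.lift _ _ h0) ?_
    rw [← Category.assoc, kernel.lift_ι, Subobject.ofLE_arrow]
  · apply le_inf
    · exact Subobject.mk_le_of_comm (kernel.ι _) rfl
    · have h0 : infKι S T ≫ cokernel.π T.arrow = 0 := by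
        rw [Category.assoc]; exact kernel.condition _
      exact Subobject.mk_le_of_comm (hS.lift (infKι S T) h0) (hS.lift_f _ h0)

theorem secR_infKι {F : X.Modules} (S T : Subobject F) (V : X.Opens) :
    secR (infKι S T) V = secR S.arrow V ⊓ secR T.arrow V := by
  ext x
  rw [Submodule.mem_inf, mem_secR, mem_secR, mem_secR]
  constructor
  · rintro ⟨y, rfl⟩
    refine ⟨⟨(kernel.ι (S.arrow ≫ cokernel.π T.arrow)).app V y, rfl⟩, ?_⟩
    apply (SubSec.cokernel_π_app_eq_zero_iff T.arrow V _).mp
    have := congrArg (fun φ => (Scheme.Modules.Hom.app φ V) y)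
      (kernel.condition (S.arrow ≫ cokernel.π T.arrow))
    exact this
  · rintro ⟨⟨s, rfl⟩, ht⟩
    have h0 : (S.arrow ≫ cokernel.π T.arrow).app V s = 0 :=
      (SubSec.cokernel_π_app_eq_zero_iff T.arrow V _).mpr ht
    obtain ⟨y, hy⟩ := (SubSec.exists_kernel_section_iff _ V s).mpr h0
    refine ⟨y, ?_⟩
    change S.arrow.app V ((kernel.ι (S.arrow ≫ cokernel.π T.arrow)).app V y) = _
    rw [hy]

theorem secR_inf {F : X.Modules} (S T : Subobject F) (V : X.Opens) :
    secR (S ⊓ T).arrow V = secR S.arrow V ⊓ secR T.arrow V := by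
  rw [inf_eq_mk, secR_mk_arrow, secR_infKι]

theorem isQuasicoherent_mk {A F : X.Modules} (a : A ⟶ F) [Mono a] [A.IsQuasicoherent] :
    (Subobject.underlying.obj (Subobject.mk a)).IsQuasicoherent :=
  QcohLimits.isQuasicoherent_of_iso (Subobject.underlyingIso a).symm

theorem isQuasicoherent_inf {F : X.Modules} [F.IsQuasicoherent] (S T : Subobject F)
    [(Subobject.underlying.obj S).IsQuasicoherent] [(Subobject.underlying.obj T).IsQuasicoherent] :
    (Subobject.underlying.obj (S ⊓ T)).IsQuasicoherent := by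
  haveI : (cokernel T.arrow).IsQuasicoherent := QcohLimits.isQuasicoherent_cokernel _
  haveI : (infK S T).IsQuasicoherent := QcohLimits.isQuasicoherent_kernel _
  rw [inf_eq_mk]
  exact isQuasicoherent_mk (infKι S T)

/-- **Artin–Rees** in the lattice of subobjects -/
theorem artinRees_subobject [IsNoetherian X] (I : X.IdealSheafData) (F G : X.Modules)
    [F.IsQuasicoherent] (hF : SheafOfModules.IsFiniteType (R := X.ringCatSheaf) F)
    [G.IsQuasicoherent] (ι : G ⟶ F) [Mono ι] :
    ∃ c : ℕ, ∀ n : ℕ, c ≤ n →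
      Subobject.mk (Dual3.idealMulι (I ^ (n - c))
          (Subobject.underlying.obj (Subobject.mk (Dual3.idealMulι (I ^ c) F) ⊓ Subobject.mk ι)) ≫
        (Subobject.mk (Dual3.idealMulι (I ^ c) F) ⊓ Subobject.mk ι).arrow) =
      Subobject.mk (Dual3.idealMulι (I ^ n) F) ⊓ Subobject.mk ι := by
  obtain ⟨c, hc⟩ := exists_ar I F G hF ι
  refine ⟨c, fun n hn => ?_⟩
  have hq : ∀ m : ℕ, (Subobject.underlying.obj
      (Subobject.mk (Dual3.idealMulι (I ^ m) F) ⊓ Subobject.mk ι)).IsQuasicoherent := by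
    intro m
    haveI := isQuasicoherent_mk (Dual3.idealMulι (I ^ m) F)
    haveI := isQuasicoherent_mk ι
    exact isQuasicoherent_inf _ _
  haveI := hq c
  haveI := hq n
  have hsec : ∀ (m : ℕ) (V : X.Opens) (hV : IsAffineOpen V),
      secR (Subobject.mk (Dual3.idealMulι (I ^ m) F) ⊓ Subobject.mk ι).arrow V =
        I.ideal ⟨V, hV⟩ ^ m • (⊤ : Submodule Γ(X, V) Γ(F, V)) ⊓ secR ι V := by
    intro m V hV
    rw [secR_inf, secR_mk_arrow, secR_mk_arrow, secR_idealMulι (I ^ m) F hV]
    rfl
  obtain ⟨e, he⟩ := exists_iso_of_cover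
    (Dual3.idealMulι (I ^ (n - c))
        (Subobject.underlying.obj (Subobject.mk (Dual3.idealMulι (I ^ c) F) ⊓ Subobject.mk ι)) ≫
      (Subobject.mk (Dual3.idealMulι (I ^ c) F) ⊓ Subobject.mk ι).arrow)
    (Subobject.mk (Dual3.idealMulι (I ^ n) F) ⊓ Subobject.mk ι).arrow (by
      intro x
      obtain ⟨V, hV, hxV, hAR⟩ := hc x
      refine ⟨V, hV, hxV, ?_⟩
      rw [secR_idealMulι_comp (I ^ (n - c)) _ hV, hsec c V hV, hsec n V hV, hAR n hn]
      rfl)
  exact Subobject.mk_eq_of_comm _ e he

end Groth.Agent.Lead.IdealMul
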