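import Mathlib
import Groth.Agent.Helper4.SubInf6
import Groth.Agent.Lead.IdealMulD

/-!
# Lead: shrinking a coherent submodule so that a morphism becomes injective on it

Local lemmas for the extension of morphisms of coherent modules across a closed subset
(S0816, S7769): locality of membership and of vanishing, the sections of `I · N` away from the
support of `I`, and the Artin–Rees shrinking lemma on a Noetherian scheme.
-/

set_option autoImplicit false
universe u
open CategoryTheory CategoryTheory.Limits AlgebraicGeometry TopologicalSpace Opposite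

namespace Groth.Agent.Lead.ExtMor

open Groth.Agent.Helper4 Groth.Agent.Helper4.SubInf Groth.Agent.Helper4.SubExt
  Groth.Agent.Helper4.SubSec Groth.Agent.Helper4.StalkExact Groth.Agent.Lead.IdealMul

variable {X : Scheme.{u}}

/-- vanishing of a section is local -/
theorem section_eq_zero_of_local (M : X.Modules) (T : X.Opens) (s : Γ(M, T))
    (h : ∀ x ∈ T, ∃ (W : X.Opens) (hW : W ≤ T), x ∈ W ∧
      M.presheaf.map (homOfLE hW).op s = 0) : s = 0 := by
  apply AssDict.section_eq_zero_of_germ
  intro x hx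
  obtain ⟨W, hW, hxW, hs⟩ := h x hx
  rw [← QcqsMod.germ_res M hW x hxW s, hs, map_zero]

/-- membership in a subobject is local -/
theorem in_of_local {A H : X.Modules} (a : A ⟶ H) [Mono a] (T : X.Opens) (s : Γ(H, T))
    (h : ∀ x ∈ T, ∃ (W : X.Opens) (hW : W ≤ T), x ∈ W ∧
      In a W (H.presheaf.map (homOfLE hW).op s)) : In a T s := by
  apply (cokernel_π_app_eq_zero_iff a T s).mp
  apply section_eq_zero_of_local
  intro x hx
  obtain ⟨W, hW, hxW, hs⟩ := h x hx
  refine ⟨W, hW, hxW, ?_⟩
  rw [← app_res (cokernel.π a) (homOfLE hW) s]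
  exact (cokernel_π_app_eq_zero_iff a W _).mpr hs

/-- `q ∘ a` is injective on the sections of the subobject `a` over opens inside `W` -/
def Disj {H F : X.Modules} (q : H ⟶ F) (W : X.Opens) {A : X.Modules} (a : A ⟶ H) : Prop :=
  ∀ T : X.Opens, T ≤ W → ∀ s : Γ(H, T), In a T s → q.app T s = 0 → s = 0

theorem disj_of_local {H F A : X.Modules} (q : H ⟶ F) (a : A ⟶ H) (W : X.Opens)
    (h : ∀ x ∈ W, ∃ W' : X.Opens, x ∈ W' ∧ Disj q W' a) : Disj q W a := by
  intro T hT s hs hq
  apply section_eq_zero_of_local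
  intro x hx
  obtain ⟨W', hxW', hW'⟩ := h x (hT hx)
  refine ⟨T ⊓ W', inf_le_left, ⟨hx, hxW'⟩, ?_⟩
  apply hW' (T ⊓ W') inf_le_right _ (hs.res inf_le_left)
  rw [app_res, hq, map_zero]

/-- away from its support an ideal sheaf is the unit ideal -/
theorem ideal_eq_top_of_disjoint (I : X.IdealSheafData) {W : X.Opens} (hW : IsAffineOpen W)
    (h : ∀ x ∈ W, x ∉ I.support) : I.ideal ⟨W, hW⟩ = ⊤ := by
  have h1 := I.coe_support_inter ⟨W, hW⟩
  have h2 : (I.support : Set X) ∩ (W : Set X) = ∅ := by
    ext x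
    simp only [Set.mem_inter_iff, Set.mem_empty_iff_false, iff_false, not_and]
    intro hx hxW
    exact h x hxW hx
  have h3 : hW.fromSpec '' PrimeSpectrum.zeroLocus (I.ideal ⟨W, hW⟩ : Set Γ(X, W)) = ∅ := by
    rw [hW.fromSpec_image_zeroLocus]
    exact h1.symm.trans h2
  rw [Set.image_eq_empty] at h3
  exact PrimeSpectrum.zeroLocus_empty_iff_eq_top.mp h3

theorem not_mem_support_pow (I : X.IdealSheafData) (n : ℕ) (x : X) (hx : x ∉ I.support) :
    x ∉ (I ^ n).support := by
  cases n with
  | zero =>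
    rw [pow_zero, Scheme.IdealSheafData.one_eq_top, Scheme.IdealSheafData.support_top]
    exact fun h => h
  | succ n => rw [Scheme.IdealSheafData.support_pow_succ]; exact hx

/-- away from the support of `I` every section of `N` lies in `I · N` -/
theorem in_idealMulι_of_disjoint (I : X.IdealSheafData) (N : X.Modules) [N.IsQuasicoherent]
    (T : X.Opens) (hT : ∀ x ∈ T, x ∉ I.support) (t : Γ(N, T)) :
    In (Dual3.idealMulι I N) T t := by
  apply in_of_local
  intro x hx
  obtain ⟨W, hW, hxW, hWT⟩ := FinLocFree2.exists_affine_nhd_le x T hx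
  refine ⟨W, hWT, hxW, ?_⟩
  have h1 := secR_idealMulι I N hW
  rw [ideal_eq_top_of_disjoint I hW (fun y hy => hT y (hWT hy)), Submodule.top_smul] at h1
  exact (mem_secR _ W _).mp (h1 ▸ Submodule.mem_top)

/-- **Artin–Rees shrinking**: on a Noetherian scheme, if `r : N ⟶ F` is injective on sections
over opens inside the complement `U` of the support of `I` and `N` is coherent, then `r` is
injective on `I^n · N` for some `n`. -/
theorem exists_pow_mono [IsNoetherian X] (I : X.IdealSheafData) (U : X.Opens)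
    (hU : (U : Set X) = (I.support : Set X)ᶜ) (N F : X.Modules) [N.IsQuasicoherent]
    (hN : SheafOfModules.IsFiniteType (R := X.ringCatSheaf) N) [F.IsQuasicoherent] (r : N ⟶ F)
    (h : ∀ T : X.Opens, T ≤ U → ∀ t : Γ(N, T), r.app T t = 0 → t = 0) :
    ∃ n : ℕ, Mono (Dual3.idealMulι (I ^ n) N ≫ r) := by
  obtain ⟨κ, hκ⟩ : ∃ κ : kernel r ⟶ N, κ = kernel.ι r := ⟨_, rfl⟩
  haveI : Mono κ := hκ ▸ inferInstance
  haveI : (kernel r).IsQuasicoherent := QcohLimits.isQuasicoherent_kernel r
  have test : Mono κ := inferInstance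
  have test2 : (kernel r).IsQuasicoherent := inferInstance
  have test3 : IsLocallyNoetherian X := inferInstance
  have test4 : N.IsQuasicoherent := inferInstance
  have hKft : SheafOfModules.IsFiniteType (R := X.ringCatSheaf) (kernel r) :=
    @QcohEpi.isFiniteType_of_mono X (kernel r) N test3 κ test test2 test4 hN
  have hκr : κ ≫ r = 0 := by rw [hκ]; exact kernel.condition r
  have hκU : (Scheme.Modules.restrictFunctor U.ι).map κ = 0 := by
    apply Scheme.Modules.hom_ext
    intro T'
    ext k
    change κ.app (U.ι ''ᵁ T') k = 0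
    apply h (U.ι ''ᵁ T') (by
      rintro _ ⟨z, -, rfl⟩
      exact z.2)
    change (κ ≫ r).app (U.ι ''ᵁ T') k = 0
    rw [hκr]
    rfl
  obtain ⟨m, hm⟩ := exists_idealMulι_comp_eq_zero I (kernel r) N hKft κ U hU hκU
  obtain ⟨c, hc⟩ := exists_ar I N (kernel r) hN κ
  refine ⟨c + m, ?_⟩
  apply QcohLocal.mono_of_app_injective_of_affine_cover
  intro x
  obtain ⟨V, hV, hxV, hVn⟩ := hc x
  refine ⟨V, hV, hxV, ?_⟩
  have hinj : Function.Injective (QcohEpi.appLin (Dual3.idealMulι (I ^ (c + m)) N ≫ r) V) := by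
    rw [injective_iff_map_eq_zero]
    intro t ht
    have hu0 : r.app V ((Dual3.idealMulι (I ^ (c + m)) N).app V t) = 0 := ht
    set u := (Dual3.idealMulι (I ^ (c + m)) N).app V t with hu
    have hu1 : u ∈ I.ideal ⟨V, hV⟩ ^ (c + m) • (⊤ : Submodule Γ(X, V) Γ(N, V)) := by
      have := app_mem_secR (Dual3.idealMulι (I ^ (c + m)) N) V t
      rw [secR_idealMulι (I ^ (c + m)) N hV] at this
      exact this
    have hu2 : u ∈ secR κ V := by
      rw [mem_secR, hκ]
      exact (exists_kernel_section_iff r V u).mpr hu0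
    have hu3 : u ∈ I.ideal ⟨V, hV⟩ ^ m • secR κ V := by
      have h1 := hVn (c + m) (Nat.le_add_right c m)
      rw [Nat.add_sub_cancel_left] at h1
      have h2 : u ∈ I.ideal ⟨V, hV⟩ ^ (c + m) • (⊤ : Submodule Γ(X, V) Γ(N, V)) ⊓ secR κ V :=
        ⟨hu1, hu2⟩
      rw [h1] at h2
      exact Submodule.smul_mono le_rfl inf_le_right h2
    have hu4 : u = 0 := by
      have h1 := secR_idealMulι_comp (I ^ m) κ hV
      have h2 : u ∈ secR (Dual3.idealMulι (I ^ m) (kernel r) ≫ κ) V := by
        rw [h1]; exact hu3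
      obtain ⟨w, hw⟩ := (mem_secR _ V u).mp h2
      rw [hm] at hw
      exact hw.symm
    exact AffineDict.app_injective_of_mono (Dual3.idealMulι (I ^ (c + m)) N) V
      (hu4.trans (map_zero _).symm)
  exact hinj

end Groth.Agent.Lead.ExtMor
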