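import Mathlib
import Groth.Agent.Lead.ExtMorA

/-!
# Lead: coherent submodules on which a morphism is injective (transfinite construction)

Variant of helper4's transfinite extension of submodules (`SubInf`): at every stage the new
submodule is shrunk by a power of an ideal (Artin–Rees) so that a given morphism `q : H ⟶ F`
stays injective on it.
-/

set_option autoImplicit false
universe u
open CategoryTheory CategoryTheory.Limits AlgebraicGeometry TopologicalSpace Opposite

namespace Groth.Agent.Lead.ExtMor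

open Groth.Agent.Helper4 Groth.Agent.Helper4.SubInf Groth.Agent.Helper4.SubExt
  Groth.Agent.Helper4.SubSec Groth.Agent.Helper4.StalkExact Groth.Agent.Lead.IdealMul

variable {X : Scheme.{u}} {H F : X.Modules}

section Step

set_option backward.isDefEq.respectTransparency false in
set_option maxHeartbeats 800000 in
/-- shrinking a submodule which is coherent on the affine open `V`, keeping it over `V ⊓ D`,
so that `q` becomes injective on it over `V` -/
theorem exists_shrink [IsLocallyNoetherian X] [H.IsQuasicoherent] [F.IsQuasicoherent]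
    (q : H ⟶ F) {V : X.Opens} (hV : IsAffineOpen V) (D : X.Opens) (x : Sub H) (hmono : Mono x.2)
    (hxq : (x.1.restrict hV.fromSpec).IsQuasicoherent)
    (hxft : SheafOfModules.IsFiniteType (R := (Spec Γ(X, V)).ringCatSheaf)
      (x.1.restrict hV.fromSpec))
    (hdis : Disj q (V ⊓ D) x.2) :
    ∃ x' : Sub H, Mono x'.2 ∧ Sat V x'.2 ∧ (x'.1.restrict hV.fromSpec).IsQuasicoherent ∧
      SheafOfModules.IsFiniteType (R := (Spec Γ(X, V)).ringCatSheaf)
        (x'.1.restrict hV.fromSpec) ∧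
      (∀ T : X.Opens, T ≤ V ⊓ D → ∀ s : Γ(H, T), In x'.2 T s ↔ In x.2 T s) ∧
      Disj q V x'.2 := by
  classical
  let R : CommRingCat.{u} := Γ(X, V)
  let j : Spec R ⟶ X := hV.fromSpec
  have hrange : j.opensRange = V := hV.opensRange_fromSpec
  haveI : IsNoetherianRing R := IsLocallyNoetherian.component_noetherian ⟨V, hV⟩
  haveI : IsNoetherian (Spec R) := inferInstance
  let D' : (Spec R).Opens := j ⁻¹ᵁ D
  let Z : Closeds (Spec R) := ⟨(D' : Set (Spec R))ᶜ, D'.isOpen.isClosed_compl⟩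
  let I : (Spec R).IdealSheafData := Scheme.IdealSheafData.vanishingIdeal Z
  have hsupp : (I.support : Set (Spec R)) = (D' : Set (Spec R))ᶜ :=
    Scheme.IdealSheafData.coe_support_vanishingIdeal Z
  have hU : (D' : Set (Spec R)) = (I.support : Set (Spec R))ᶜ := by
    rw [hsupp, compl_compl]
  have hnot : ∀ (n : ℕ) (T' : (Spec R).Opens), T' ≤ D' → ∀ y ∈ T', y ∉ (I ^ n).support := by
    intro n T' hT' y hy
    apply not_mem_support_pow
    intro hy'
    have h1 : y ∈ (I.support : Set (Spec R)) := hy'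
    rw [hsupp] at h1
    exact h1 (hT' hy)
  let N : (Spec R).Modules := x.1.restrict j
  let ν : N ⟶ H.restrict j := (Scheme.Modules.restrictFunctor j).map x.2
  haveI := hmono
  haveI : Mono ν := inferInstance
  let q' : H.restrict j ⟶ F.restrict j := (Scheme.Modules.restrictFunctor j).map q
  haveI hNq : N.IsQuasicoherent := hxq
  haveI : (F.restrict j).IsQuasicoherent := inferInstance
  have hleV : ∀ T' : (Spec R).Opens, j ''ᵁ T' ≤ V := by
    rintro T' _ ⟨z, -, rfl⟩
    have : j z ∈ j.opensRange := ⟨z, rfl⟩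
    rw [hrange] at this
    exact this
  have hleD : ∀ T' : (Spec R).Opens, T' ≤ D' → j ''ᵁ T' ≤ D := by
    rintro T' hT' _ ⟨z, hz, rfl⟩
    exact hT' hz
  have hkey0 : ∀ T : (Spec R).Opens, T ≤ D' → ∀ t : Γ(N, T), (ν ≫ q').app T t = 0 → t = 0 := by
    intro T hT t ht
    have h1 : x.2.app (j ''ᵁ T) t = 0 :=
      hdis (j ''ᵁ T) (le_inf (hleV T) (hleD T hT)) (x.2.app (j ''ᵁ T) t) ⟨t, rfl⟩ ht
    exact AffineDict.app_injective_of_mono x.2 (j ''ᵁ T) (h1.trans (map_zero _).symm)
  obtain ⟨n, hn⟩ := exists_pow_mono I D' hU N (F.restrict j) hxft (ν ≫ q') hkey0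
  obtain ⟨ι, hι⟩ : ∃ ι : (Dual3.idealMul (I ^ n)).obj N ⟶ N, ι = Dual3.idealMulι (I ^ n) N :=
    ⟨_, rfl⟩
  haveI hιm : Mono ι := hι ▸ inferInstance
  haveI hN'q : ((Dual3.idealMul (I ^ n)).obj N).IsQuasicoherent := inferInstance
  have t3 : IsLocallyNoetherian (Spec R) := inferInstance
  have hN'ft : SheafOfModules.IsFiniteType (R := (Spec R).ringCatSheaf)
      ((Dual3.idealMul (I ^ n)).obj N) :=
    @QcohEpi.isFiniteType_of_mono (Spec R) ((Dual3.idealMul (I ^ n)).obj N) N t3 ι hιm hN'q hNq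
      hxft
  obtain ⟨ν', hν'⟩ : ∃ ν' : (Dual3.idealMul (I ^ n)).obj N ⟶ H.restrict j, ν' = ι ≫ ν :=
    ⟨_, rfl⟩
  haveI : Mono ν' := hν' ▸ mono_comp _ _
  haveI hnm : Mono (ν' ≫ q') := by
    rw [hν', hι, Category.assoc]
    exact hn
  obtain ⟨eK, -⟩ := exists_restrict_K_iso j H ν'
  have hkey1 : ∀ (T' : (Spec R).Opens) (s : Γ(H, j ''ᵁ T')),
      In (Kι j H ν') (j ''ᵁ T') s ↔
        ∃ t : Γ((Dual3.idealMul (I ^ n)).obj N, T'), ν'.app T' t = s :=
    fun T' s => mem_K_image_iff j H ν' T' s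
  have hkeyA : ∀ (T' : (Spec R).Opens), T' ≤ D' → ∀ s : Γ(H, j ''ᵁ T'),
      In (Kι j H ν') (j ''ᵁ T') s ↔ In x.2 (j ''ᵁ T') s := by
    intro T' hT' s
    rw [hkey1]
    constructor
    · rintro ⟨t, rfl⟩
      refine ⟨ι.app T' t, ?_⟩
      rw [hν']
      rfl
    · rintro ⟨k, rfl⟩
      obtain ⟨t, ht⟩ := in_idealMulι_of_disjoint (I ^ n) N T' (hnot n T' hT') k
      refine ⟨t, ?_⟩
      rw [hν']
      change x.2.app (j ''ᵁ T') (ι.app T' t) = _
      rw [hι, ht]
  have hkeyB : ∀ (T' : (Spec R).Opens) (s : Γ(H, j ''ᵁ T')),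
      In (Kι j H ν') (j ''ᵁ T') s → q.app (j ''ᵁ T') s = 0 → s = 0 := by
    intro T' s hs hq
    obtain ⟨t, rfl⟩ := (hkey1 T' s).mp hs
    have h0 : (ν' ≫ q').app T' t = 0 := hq
    have : t = 0 :=
      AffineDict.app_injective_of_mono (ν' ≫ q') T' (h0.trans (map_zero _).symm)
    rw [this, map_zero]
  refine ⟨⟨K j H ν', Kι j H ν'⟩, inferInstanceAs (Mono (Kι j H ν')), ?_, ?_, ?_, ?_, ?_⟩
  · have := sat_K j ν'
    rw [hrange] at this
    exact this
  · exact QcohLimits.isQuasicoherent_of_iso eK.symm (hF := hN'q)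
  · haveI := hN'ft
    exact FTRestrict.SoM.isFiniteType_of_iso (R := (Spec R).ringCatSheaf) eK.symm
  · intro T hT s
    have h1 : j ''ᵁ (j ⁻¹ᵁ T) = T :=
      image_preimage_of_le j (by rw [hrange]; exact hT.trans inf_le_left)
    have key := hkeyA (j ⁻¹ᵁ T) (fun z hz => (hT hz).2)
    rw [h1] at key
    exact key s
  · intro T hT s hs hq
    have h1 : j ''ᵁ (j ⁻¹ᵁ T) = T := image_preimage_of_le j (by rw [hrange]; exact hT)
    have key := hkeyB (j ⁻¹ᵁ T)
    rw [h1] at key
    exact key s hs hq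

end Step

section Main

variable {L : Type u} [LinearOrder L] [WellFoundedLT L] (V : L → X.Opens)
  (hV : ∀ l, IsAffineOpen (V l)) (U : X.Opens)

theorem exists_good' [IsLocallyNoetherian X] [H.IsQuasicoherent] [F.IsQuasicoherent]
    (q : H ⟶ F) (hfinU : FinOn H U) (hqU : Disj q U (𝟙 H)) (a : L → Sub H) (l₀ : L)
    (hInv : ∀ m, m < l₀ → Inv V hV U a m) (hdis : ∀ m, m < l₀ → Disj q (V m) (a m).2)
    (hcomp : IsCompact ((V l₀ : Set X) ∩ (Dl V U l₀ : Set X))) :
    ∃ x : Sub H, Good V hV U l₀ (fun m _ => a m) x ∧ Disj q (V l₀) x.2 := by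
  obtain ⟨x, hx⟩ := exists_good V hV U hfinU a l₀ hInv hcomp
  have hxD : Disj q (V l₀ ⊓ Dl V U l₀) x.2 := by
    intro T hT s hs hq
    have hall := (hx.eq T hT s).mp hs
    apply section_eq_zero_of_local
    intro y hy
    have hyD : y ∈ Dl V U l₀ := (hT hy).2
    rcases hyD with hyU | hyV
    · refine ⟨T ⊓ U, inf_le_left, ⟨hy, hyU⟩, ?_⟩
      apply hqU (T ⊓ U) inf_le_right (H.presheaf.map (homOfLE inf_le_left).op s) ⟨_, rfl⟩
      rw [app_res, hq, map_zero]
    · obtain ⟨⟨m, hm⟩, hym⟩ := Opens.mem_iSup.mp hyV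
      refine ⟨T ⊓ V m, inf_le_left, ⟨hy, hym⟩, ?_⟩
      apply hdis m hm (T ⊓ V m) inf_le_right _ ((hall m hm).res inf_le_left)
      rw [app_res, hq, map_zero]
  obtain ⟨x', h1, h2, h3, h4, h5, h6⟩ :=
    exists_shrink q (hV l₀) (Dl V U l₀) x hx.mono hx.qcoh hx.ft hxD
  exact ⟨x', ⟨h1, h2, h3, h4, fun T hT s => (h5 T hT s).trans (hx.eq T hT s)⟩, h6⟩

/-- the strengthened invariant -/
def Good' (q : H ⟶ F) (l : L) (prev : ∀ m, m < l → Sub H) (x : Sub H) : Prop :=
  Good V hV U l prev x ∧ Disj q (V l) x.2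

open Classical in
/-- the family of subobjects, chosen by transfinite recursion -/
noncomputable def fam' (q : H ⟶ F) : L → Sub H := fun l =>
  WellFounded.fix (wellFounded_lt : WellFounded ((· < ·) : L → L → Prop))
    (fun l prev => if h : ∃ x : Sub H, Good' V hV U q l prev x then h.choose else ⟨H, 𝟙 H⟩) l

open Classical in
theorem fam'_eq (q : H ⟶ F) (l : L) : fam' V hV U q l =
    if h : ∃ x : Sub H, Good' V hV U q l (fun m _ => fam' V hV U q m) x then h.choose
    else ⟨H, 𝟙 H⟩ := by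
  unfold fam'
  rw [WellFounded.fix_eq]

theorem fam'_good (q : H ⟶ F) (l : L)
    (h : ∃ x : Sub H, Good' V hV U q l (fun m _ => fam' V hV U q m) x) :
    Good' V hV U q l (fun m _ => fam' V hV U q m) (fam' V hV U q l) := by
  rw [fam'_eq V hV U q l, dif_pos h]
  exact h.choose_spec

theorem all_inv' [IsLocallyNoetherian X] [H.IsQuasicoherent] [F.IsQuasicoherent] (q : H ⟶ F)
    (hfinU : FinOn H U) (hqU : Disj q U (𝟙 H))
    (hcomp : ∀ l, IsCompact ((V l : Set X) ∩ (Dl V U l : Set X))) (l : L) :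
    Good' V hV U q l (fun m _ => fam' V hV U q m) (fam' V hV U q l) := by
  induction l using WellFoundedLT.induction with
  | ind l ih =>
    exact fam'_good V hV U q l (exists_good' V hV U q hfinU hqU _ l (fun m hm => (ih m hm).1)
      (fun m hm => (ih m hm).2) (hcomp l))

end Main

section Final

variable {L : Type u} [LinearOrder L] [WellFoundedLT L] (V : L → X.Opens)

set_option backward.isDefEq.respectTransparency false in
/-- for a scheme with a well-ordered affine cover: a coherent submodule of `H`, equal to `H`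
over `U`, on which `q` is injective -/
theorem exists_sub_wellOrdered [IsLocallyNoetherian X] (hV : ∀ l, IsAffineOpen (V l))
    (hcov : ⨆ l, V l = ⊤)
    (hW : ∀ l, IsCompact ((V l : Set X) ∩ ⋃ m ∈ Set.Iio l, (V m : Set X)))
    (U : X.Opens) [QuasiCompact U.ι] (H F : X.Modules) [H.IsQuasicoherent] [F.IsQuasicoherent]
    (q : H ⟶ F) (hfinU : FinOn H U) (hqU : Disj q U (𝟙 H)) :
    ∃ (A : X.Modules) (f : A ⟶ H), Mono f ∧ A.IsQuasicoherent ∧
      SheafOfModules.IsFiniteType (R := X.ringCatSheaf) A ∧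
      (∀ T : X.Opens, T ≤ U → ∀ s : Γ(H, T), In f T s) ∧ Mono (f ≫ q) := by
  have hcomp : ∀ l, IsCompact ((V l : Set X) ∩ (Dl V U l : Set X)) := by
    intro l
    have h1 : IsCompact ((V l : Set X) ∩ (U : Set X)) := by
      have hc := quasiCompact_iff_forall_isAffineOpen.mp ‹QuasiCompact U.ι› (V l) (hV l)
      have himg := hc.image U.ι.continuous
      convert himg using 1
      ext x
      constructor
      · rintro ⟨h1, h2⟩
        exact ⟨⟨x, h2⟩, h1, rfl⟩
      · rintro ⟨y, hy, rfl⟩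
        exact ⟨hy, y.2⟩
    have h2 : ((V l : Set X) ∩ (Dl V U l : Set X)) =
        ((V l : Set X) ∩ (U : Set X)) ∪ ((V l : Set X) ∩ ⋃ m ∈ Set.Iio l, (V m : Set X)) := by
      ext x
      constructor
      · rintro ⟨h1, h2 | h2⟩
        · exact Or.inl ⟨h1, h2⟩
        · obtain ⟨⟨m, hm⟩, hxm⟩ := Opens.mem_iSup.mp h2
          exact Or.inr ⟨h1, Set.mem_biUnion hm hxm⟩
      · rintro (⟨h1, h2⟩ | ⟨h1, h2⟩)
        · exact ⟨h1, Or.inl h2⟩
        · obtain ⟨m, hm, hxm⟩ := Set.mem_iUnion₂.mp h2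
          exact ⟨h1, Or.inr (Opens.mem_iSup.mpr ⟨⟨m, hm⟩, hxm⟩)⟩
    rw [h2]
    exact h1.union (hW l)
  let a : L → Sub H := fam' V hV U q
  have hAll := all_inv' V hV U q hfinU hqU hcomp
  have hInv : ∀ l, Inv V hV U a l := fun l => (hAll l).1
  have hDis : ∀ l, Disj q (V l) (a l).2 := fun l => (hAll l).2
  let P : L → Prop := fun _ => True
  have hP : ∀ k k', k' ≤ k → P k → P k' := fun _ _ _ _ => trivial
  have hInv' : ∀ k, P k → Inv V hV U a k := fun k _ => hInv k
  have ha : ∀ l, Mono (a l).2 := fun l => (hInv l).mono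
  let A : X.Modules := inter a
  let f : A ⟶ H := interι a
  have hf : ∀ (T : X.Opens) (s : Γ(H, T)), In f T s ↔ ∀ l, In (a l).2 T s :=
    fun T s => in_inter_iff a ha T s
  have hfU : ∀ T : X.Opens, T ≤ U → ∀ s : Γ(H, T), In f T s := fun T hT s =>
    (hf T s).mpr (fun l => in_of_le_U V hV U a P hP hInv' l trivial T hT s)
  have hfV : ∀ (m : L) (T : X.Opens), T ≤ V m → ∀ s : Γ(H, T), In f T s ↔ In (a m).2 T s :=
    fun m T hT s => ⟨fun h => (hf T s).mp h m, fun h => (hf T s).mpr (fun m' =>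
      spread V hV U a P hP hInv' m m' trivial trivial T hT s h)⟩
  have hres : ∀ m, ∃ e : A.restrict (hV m).fromSpec ≅ (a m).1.restrict (hV m).fromSpec, True := by
    intro m
    haveI := ha m
    obtain ⟨e, -⟩ := exists_restrict_iso_of_same_sections f (a m).2 (hV m).fromSpec
      (fun T hT s => hfV m T (by rw [← (hV m).opensRange_fromSpec]; exact hT) s)
    exact ⟨e, trivial⟩
  have hcover : ∀ x : X, ∃ m, x ∈ V m := by
    intro x
    have : x ∈ (⨆ l, V l : X.Opens) := by rw [hcov]; trivial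
    exact Opens.mem_iSup.mp this
  haveI hAq : A.IsQuasicoherent := by
    apply QcohGlue.isQuasicoherent_of_affine_cover
    intro x
    obtain ⟨m, hm⟩ := hcover x
    refine ⟨V m, hV m, hm, ?_⟩
    obtain ⟨e, -⟩ := hres m
    haveI := (hInv m).qcoh
    exact QcohLimits.isQuasicoherent_of_iso e.symm
  have hAft : SheafOfModules.IsFiniteType (R := X.ringCatSheaf) A := by
    apply FTGlue.isFiniteType_of_finite_sections
    intro x
    obtain ⟨m, hm⟩ := hcover x
    refine ⟨V m, hV m, hm, ?_⟩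
    obtain ⟨e, -⟩ := hres m
    haveI := (hInv m).ft
    have h1 : SheafOfModules.IsFiniteType (R := (Spec Γ(X, V m)).ringCatSheaf)
        (A.restrict (hV m).fromSpec) :=
      FTRestrict.SoM.isFiniteType_of_iso (R := (Spec Γ(X, V m)).ringCatSheaf) e.symm
    have h2 := finOn_of_isFT_restrict (hV m).fromSpec A h1
    rw [(hV m).opensRange_fromSpec] at h2
    exact h2 (V m) (hV m) le_rfl
  have hdisj : Disj q ⊤ f := by
    apply disj_of_local
    intro x _
    obtain ⟨m, hm⟩ := hcover x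
    refine ⟨V m, hm, ?_⟩
    intro T hT s hs hq
    exact hDis m T hT s ((hfV m T hT s).mp hs) hq
  have hmono : Mono (f ≫ q) := by
    apply mono_of_app_injective
    intro T
    have hinj : Function.Injective (QcohEpi.appLin (f ≫ q) T) := by
      rw [injective_iff_map_eq_zero]
      intro t ht
      have h1 : f.app T t = 0 := hdisj T le_top _ ⟨t, rfl⟩ ht
      exact AffineDict.app_injective_of_mono f T (h1.trans (map_zero _).symm)
    exact hinj
  exact ⟨A, f, inferInstance, hAq, hAft, hfU, hmono⟩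

end Final

/-- **coherent submodules on which a morphism is injective**, locally Noetherian scheme: if
`H` is quasi-coherent and of finite type over `U`, and `q : H ⟶ F` is injective on sections over
opens inside `U`, there is a coherent submodule of `H`, equal to `H` over `U`, on which `q` is
injective. -/
theorem exists_sub_locallyNoetherian [IsLocallyNoetherian X] (U : X.Opens) (H F : X.Modules)
    [H.IsQuasicoherent] [F.IsQuasicoherent] (q : H ⟶ F) (hfinU : FinOn H U)
    (hqU : Disj q U (𝟙 H)) :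
    ∃ (A : X.Modules) (f : A ⟶ H), Mono f ∧ A.IsQuasicoherent ∧
      SheafOfModules.IsFiniteType (R := X.ringCatSheaf) A ∧
      (∀ T : X.Opens, T ≤ U → ∀ s : Γ(H, T), In f T s) ∧ Mono (f ≫ q) := by
  have hX : ∀ x : X, ∃ U : X.Opens, x ∈ U ∧ TopologicalSpace.NoetherianSpace (U : Set X) := by
    intro x
    obtain ⟨W, hW, hxW⟩ := QcohLimits.exists_affine_nhd x
    haveI : IsNoetherianRing Γ(X, W) := IsLocallyNoetherian.component_noetherian ⟨W, hW⟩
    exact ⟨W, hxW, noetherianSpace_of_isAffineOpen W hW⟩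
  obtain ⟨i1, i2⟩ := exists_wellFoundedLT X.affineOpens
  haveI := quasiCompact_ι_of_locallyNoetherian hX U
  exact exists_sub_wellOrdered (fun W : X.affineOpens => (W : X.Opens)) (fun W => W.2)
    (iSup_affineOpens_eq_top X)
    (fun W => isCompact_of_subset_affine hX W.2 Set.inter_subset_left) U H F q hfinU hqU

end Groth.Agent.Lead.ExtMor
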