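import Mathlib
import Groth.Agent.Lead.ExtMorB

/-!
# Lead: extension of a morphism of modules from an open subset, after shrinking the source
(locally Noetherian schemes; S0816 and its variant with quasi-coherent target)
-/

set_option autoImplicit false
universe u
open CategoryTheory CategoryTheory.Limits AlgebraicGeometry TopologicalSpace Opposite

namespace Groth.Agent.Lead.ExtMor

open Groth.Agent.Helper4 Groth.Agent.Helper4.SubInf Groth.Agent.Helper4.SubExt
  Groth.Agent.Helper4.SubSec Groth.Agent.Helper4.StalkExact Groth.Agent.Lead.IdealMul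

variable {X : Scheme.{u}}

theorem noetherianSpace_nhd [IsLocallyNoetherian X] (x : X) :
    ∃ U : X.Opens, x ∈ U ∧ TopologicalSpace.NoetherianSpace (U : Set X) := by
  obtain ⟨W, hW, hxW⟩ := QcohLimits.exists_affine_nhd x
  haveI : IsNoetherianRing Γ(X, W) := IsLocallyNoetherian.component_noetherian ⟨W, hW⟩
  exact ⟨W, hxW, noetherianSpace_of_isAffineOpen W hW⟩

set_option backward.isDefEq.respectTransparency false in
set_option maxHeartbeats 800000 in
/-- **Extension of morphisms.** Let `X` be locally Noetherian, `F` coherent, `G` quasi-coherent,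
`U ⊆ X` open and `φ : F|_U ⟶ G|_U`.  Then there are a coherent submodule `F' ⊆ F` agreeing with
`F` over `U` and `φ' : F' ⟶ G` restricting to `φ`. -/
theorem exists_extension_hom [IsLocallyNoetherian X] (F G : X.Modules) [F.IsQuasicoherent]
    (hFft : SheafOfModules.IsFiniteType (R := X.ringCatSheaf) F) [G.IsQuasicoherent]
    (U : X.Opens)
    (φ : (Scheme.Modules.restrictFunctor U.ι).obj F ⟶ (Scheme.Modules.restrictFunctor U.ι).obj G) :
    ∃ (F' : X.Modules) (ι : F' ⟶ F) (φ' : F' ⟶ G), Mono ι ∧ F'.IsQuasicoherent ∧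
      SheafOfModules.IsFiniteType (R := X.ringCatSheaf) F' ∧
      IsIso ((Scheme.Modules.restrictFunctor U.ι).map ι) ∧
      (Scheme.Modules.restrictFunctor U.ι).map φ' =
        (Scheme.Modules.restrictFunctor U.ι).map ι ≫ φ := by
  have hX : ∀ x : X, ∃ U : X.Opens, x ∈ U ∧ TopologicalSpace.NoetherianSpace (U : Set X) :=
    noetherianSpace_nhd
  haveI := quasiCompact_ι_of_locallyNoetherian hX U
  let Rf := Scheme.Modules.restrictFunctor U.ι
  let C : X.Modules := F ⊞ G
  haveI : C.IsQuasicoherent := QcohLimits.isQuasicoherent_biprod F G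
  obtain ⟨γ, hγ⟩ : ∃ γ : Rf.obj F ⟶ Rf.obj C, γ = Rf.map biprod.inl + φ ≫ Rf.map biprod.inr :=
    ⟨_, rfl⟩
  have hγ1 : γ ≫ Rf.map biprod.fst = 𝟙 _ := by
    rw [hγ, Preadditive.add_comp, Category.assoc, ← Rf.map_comp, ← Rf.map_comp, biprod.inl_fst,
      biprod.inr_fst, Rf.map_id, Rf.map_zero, comp_zero, add_zero]
  have hγ2 : γ ≫ Rf.map biprod.snd = φ := by
    rw [hγ, Preadditive.add_comp, Category.assoc, ← Rf.map_comp, ← Rf.map_comp, biprod.inl_snd,
      biprod.inr_snd, Rf.map_id, Rf.map_zero, Category.comp_id, zero_add]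
  haveI : Mono γ := by
    haveI : Mono (γ ≫ Rf.map biprod.fst) := by rw [hγ1]; infer_instance
    exact mono_of_mono γ (Rf.map biprod.fst)
  let P : X.Modules := K U.ι C γ
  let κ : P ⟶ C := Kι U.ι C γ
  haveI : (F.restrict U.ι).IsQuasicoherent := inferInstance
  haveI hPq : P.IsQuasicoherent := isQuasicoherent_K U.ι C γ
  obtain ⟨e₀, he₀⟩ := exists_restrict_K_iso U.ι C γ
  let p₁ : P ⟶ F := κ ≫ biprod.fst
  let p₂ : P ⟶ G := κ ≫ biprod.snd
  have hp₁ : Rf.map p₁ = e₀.hom := by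
    rw [Rf.map_comp, ← he₀, Category.assoc, hγ1, Category.comp_id]
  have hp₂ : Rf.map p₂ = e₀.hom ≫ φ := by
    rw [Rf.map_comp, ← he₀, Category.assoc, hγ2]
  have hfinU : FinOn P U := by
    have hft : SheafOfModules.IsFiniteType (R := (U : Scheme.{u}).ringCatSheaf)
        (P.restrict U.ι) := by
      haveI := FTRestrict.isFT_restrict U.ι F hFft
      exact FTRestrict.SoM.isFiniteType_of_iso (R := (U : Scheme.{u}).ringCatSheaf) e₀.symm
    have h1 := finOn_of_isFT_restrict U.ι P hft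
    rw [Scheme.Opens.opensRange_ι] at h1
    exact h1
  have hinj : ∀ T' : (U : Scheme.{u}).Opens, Function.Injective (p₁.app (U.ι ''ᵁ T')) := by
    intro T'
    haveI : Mono (Rf.map p₁) := by rw [hp₁]; infer_instance
    exact AffineDict.app_injective_of_mono (Rf.map p₁) T'
  have hqU : Disj p₁ U (𝟙 P) := by
    intro T hT s _ hs
    have h1 : U.ι ''ᵁ (U.ι ⁻¹ᵁ T) = T :=
      image_preimage_of_le U.ι (by rw [Scheme.Opens.opensRange_ι]; exact hT)
    have key := hinj (U.ι ⁻¹ᵁ T)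
    rw [h1] at key
    exact key (hs.trans (map_zero _).symm)
  obtain ⟨A, f, hfm, hAq, hAft, hfU, hfq⟩ := exists_sub_locallyNoetherian U P F p₁ hfinU hqU
  haveI := hfm
  have hRf : IsIso (Rf.map f) := by
    obtain ⟨e, he⟩ := exists_iso_of_sections (Rf.map f) (𝟙 (Rf.obj P))
      (fun T' s => ⟨(Rf.map f).app T' s, rfl⟩)
      (fun T' t => by
        obtain ⟨k, hk⟩ := hfU (U.ι ''ᵁ T') (by
          rintro _ ⟨z, -, rfl⟩
          exact z.2) t
        exact ⟨k, hk⟩)
    have : Rf.map f = e.hom := by rw [← he, Category.comp_id]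
    rw [this]
    infer_instance
  refine ⟨A, f ≫ p₁, f ≫ p₂, hfq, hAq, hAft, ?_, ?_⟩
  · have h2 : Rf.map (f ≫ p₁) = Rf.map f ≫ Rf.map p₁ := Rf.map_comp f p₁
    change IsIso (Rf.map (f ≫ p₁))
    rw [h2, hp₁]
    infer_instance
  · have h1 : Rf.map (f ≫ p₂) = Rf.map f ≫ Rf.map p₂ := Rf.map_comp f p₂
    have h2 : Rf.map (f ≫ p₁) = Rf.map f ≫ Rf.map p₁ := Rf.map_comp f p₁
    change Rf.map (f ≫ p₂) = Rf.map (f ≫ p₁) ≫ φ
    rw [h1, h2, hp₂, hp₁, Category.assoc]

/-- S0816 -/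
theorem main_coh (X : Scheme.{u}) [IsLocallyNoetherian X] (F G : X.Modules)
    (hF : Coh.IsCoh F) (hG : Coh.IsQCoh G) (U : X.Opens)
    (φ : (Scheme.Modules.restrictFunctor U.ι).obj F ⟶ (Scheme.Modules.restrictFunctor U.ι).obj G) :
    ∃ (F' : X.Modules) (ι : F' ⟶ F) (φ' : F' ⟶ G), Mono ι ∧ Coh.IsCoh F' ∧
      IsIso ((Scheme.Modules.restrictFunctor U.ι).map ι) ∧
      (Scheme.Modules.restrictFunctor U.ι).map φ' =
        (Scheme.Modules.restrictFunctor U.ι).map ι ≫ φ := by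
  haveI := hF.1
  haveI : G.IsQuasicoherent := hG
  obtain ⟨F', ι, φ', h1, h2, h3, h4, h5⟩ := exists_extension_hom F G hF.2 U φ
  exact ⟨F', ι, φ', h1, ⟨h2, h3⟩, h4, h5⟩

end Groth.Agent.Lead.ExtMor
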