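import Mathlib
import Groth.Prelude
import Groth.Agent.Lead.HomShB
import Groth.Agent.Lead.HomShC
import Groth.Agent.Lead.MeroM
import Groth.Agent.Helper4.CohFP

/-!
# Lead.HomRestr : a section of the sheaf Hom over `U` gives a morphism of the restrictions to `U`;
every linear map of stalks of coherent modules is induced by a morphism near the point.
-/

set_option autoImplicit false
set_option linter.style.haveILetI false
set_option linter.unusedVariables false
universe u
open CategoryTheory CategoryTheory.Limits AlgebraicGeometry TopologicalSpace Opposite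

namespace Groth.Agent.Lead.HomRestr

open RefHull Groth.Agent.Lead

variable {X : Scheme.{u}} (G F : X.Modules) (U : X.Opens) (t : Γ(homSh G F, U))

/-- restriction of a section of the sheaf Hom -/
noncomputable def resT {W : X.Opens} (hW : W ≤ U) : Γ(homSh G F, W) :=
  (homSh G F).presheaf.map (homOfLE hW).op t

theorem resT_apply {W : X.Opens} (hW : W ≤ U) (y : W) :
    (resT G F U t hW).1 y = t.1 ⟨y.1, hW y.2⟩ := rfl

/-- the additive map on sections over `W ≤ U` -/
noncomputable def secMap {W : X.Opens} (hW : W ≤ U) : Γ(G, W) →+ Γ(F, W) :=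
  (HomShC.toLin G F (resT G F U t hW)).toAddMonoidHom

theorem germ_secMap {W : X.Opens} (hW : W ≤ U) (m : Γ(G, W)) (y : X) (hy : y ∈ W) :
    F.presheaf.germ W y hy (secMap G F U t hW m) = t.1 ⟨y, hW hy⟩ (G.presheaf.germ W y hy m) :=
  HomShC.germ_toLin G F (resT G F U t hW) m y hy

theorem secMap_res {W₁ W₂ : X.Opens} (h₁ : W₁ ≤ U) (h₂ : W₂ ≤ U) (i : W₂ ⟶ W₁) (m : Γ(G, W₁)) :
    secMap G F U t h₂ (G.presheaf.map i.op m) = F.presheaf.map i.op (secMap G F U t h₁ m) := by
  apply MeroM.section_ext_germ F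
  intro y hy
  rw [germ_secMap, TopCat.Presheaf.germ_res_apply, TopCat.Presheaf.germ_res_apply, germ_secMap]

theorem secMap_smul {W : X.Opens} (hW : W ≤ U) (r : Γ(X, W)) (m : Γ(G, W)) :
    secMap G F U t hW (r • m) = r • secMap G F U t hW m :=
  (HomShC.toLin G F (resT G F U t hW)).map_smul r m

/-- the morphism of restrictions to `U` defined by a section of the sheaf Hom over `U` -/
noncomputable def homU : G.restrict U.ι ⟶ F.restrict U.ι :=
  ⟨PresheafOfModules.homMk
    { app := fun W => AddCommGrpCat.ofHom (secMap G F U t (U.ι_image_le W.unop))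
      naturality := fun {W₁ W₂} i => by
        ext s
        exact secMap_res G F U t (U.ι_image_le W₁.unop) (U.ι_image_le W₂.unop)
          (U.ι.opensFunctor.map i.unop) s }
    (fun W r s => secMap_smul G F U t (U.ι_image_le W.unop) ((U.ι.appIso W.unop).inv r) s)⟩

theorem homU_app (W : U.toScheme.Opens) (m : Γ(G, U.ι ''ᵁ W)) :
    (homU G F U t).app W m = secMap G F U t (U.ι_image_le W) m := rfl

theorem stalk_homU (x : X) (hx : x ∈ U) :
    (Scheme.Modules.restrictStalkNatIso U.ι (⟨x, hx⟩ : U)).inv.app G ≫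
        (TopCat.Presheaf.stalkFunctor _ (⟨x, hx⟩ : U)).map (homU G F U t).mapPresheaf ≫
          (Scheme.Modules.restrictStalkNatIso U.ι (⟨x, hx⟩ : U)).hom.app F =
      AddCommGrpCat.ofHom (t.1 ⟨x, hx⟩).toAddMonoidHom := by
  rw [← Iso.app_inv, Iso.inv_comp_eq, Iso.app_hom]
  refine TopCat.Presheaf.stalk_hom_ext _ fun W hxW => ?_
  erw [TopCat.Presheaf.stalkFunctor_map_germ_assoc]
  have e1 := Scheme.Modules.germ_restrictStalkNatIso_hom_app U.ι (⟨x, hx⟩ : U) F hxW
  have e2 := Scheme.Modules.germ_restrictStalkNatIso_hom_app U.ι (⟨x, hx⟩ : U) G hxW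
  refine (congrArg (fun z => _ ≫ z) e1).trans ?_
  refine Eq.trans ?_ ((congrArg (fun z => z ≫ _) e2).symm.trans (Category.assoc _ _ _))
  ext m
  exact germ_secMap G F U t (U.ι_image_le W) m x _

/-- **every linear map of stalks of coherent modules is induced by a morphism near the point** -/
theorem main [IsLocallyNoetherian X] (hF : Coh.IsCoh F) (hG : Coh.IsCoh G) (x : X)
    (ψ : ↑(G.presheaf.stalk x) →ₗ[X.presheaf.stalk x] ↑(F.presheaf.stalk x)) :
    ∃ (U : X.Opens) (hx : x ∈ U)
      (φ : (Scheme.Modules.restrictFunctor U.ι).obj G ⟶ (Scheme.Modules.restrictFunctor U.ι).obj F),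
      (Scheme.Modules.restrictStalkNatIso U.ι (⟨x, hx⟩ : U)).inv.app G ≫
          (TopCat.Presheaf.stalkFunctor _ (⟨x, hx⟩ : U)).map φ.mapPresheaf ≫
            (Scheme.Modules.restrictStalkNatIso U.ι (⟨x, hx⟩ : U)).hom.app F =
        AddCommGrpCat.ofHom ψ.toAddMonoidHom := by
  have hFP := Groth.Agent.Helper4.CohFP.isFP_of_isCoh G hG.1 hG.2
  obtain ⟨θ, hθ⟩ := HomShB.evalStalk_surjective G F hFP x ψ
  obtain ⟨U, hx, t, rfl⟩ := TopCat.Presheaf.exists_germ_eq (homSh G F).presheaf θ
  rw [evalStalk_germ] at hθ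
  refine ⟨U, hx, homU G F U t, ?_⟩
  rw [stalk_homU, hθ]

end Groth.Agent.Lead.HomRestr
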