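import Mathlib
import Groth.Prelude.Def_CxOX
import Groth.Prelude.Def_FlatMod2
import Groth.Agent.Helper9.SkyMod2
import Groth.Agent.Helper4.StalkExact
import Groth.Agent.Lead.LocLift

/-!
# Every O_X-module is a quotient of a flat one (direct sums of `j_! O_U`)
-/

set_option autoImplicit false
universe u
open CategoryTheory CategoryTheory.Limits AlgebraicGeometry Opposite
attribute [local instance] HasDerivedCategory.standard

namespace Groth.Agent.Lead.FlatQuot

open Groth.Agent.Helper9.SkyMod1 Groth.Agent.Helper9.SkyMod2 Groth.Agent.Lead.LocLift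

variable {X : Scheme.{u}}

/-- transport a section over `U` to a global section of the restriction to `U`. -/
noncomputable def secTop (F : X.Modules) (U : X.Opens) (s : Γ(F, U)) :
    Γ((Scheme.Modules.restrictFunctor U.ι).obj F, ⊤) :=
  F.presheaf.map (eqToHom U.ι_image_top).op s

theorem secTop_injective (F : X.Modules) (U : X.Opens) : Function.Injective (secTop F U) := by
  intro s t h
  have h2 := congrArg (F.presheaf.map (eqToHom U.ι_image_top.symm).op) h
  unfold secTop at h2
  have e1 : ∀ z : Γ(F, U), F.presheaf.map (eqToHom U.ι_image_top.symm).op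
      (F.presheaf.map (eqToHom U.ι_image_top).op z) = z := by
    intro z
    have := F.presheaf.map_comp (eqToHom U.ι_image_top).op (eqToHom U.ι_image_top.symm).op
    have h3 := congrArg (fun k => k.hom z) this
    refine h3.symm.trans ?_
    have h4 : (eqToHom U.ι_image_top).op ≫ (eqToHom U.ι_image_top.symm).op = 𝟙 (op U) := by
      apply Subsingleton.elim
    show (F.presheaf.map ((eqToHom U.ι_image_top).op ≫ (eqToHom U.ι_image_top.symm).op)).hom z = z
    rw [h4]
    simp
  rw [e1, e1] at h2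
  exact h2

/-- the morphism `j_! O_U ⟶ F` attached to a section over `U`. -/
noncomputable def ofSec (F : X.Modules) (U : X.Opens) (s : Γ(F, U)) :
    CxOX.extZeroUnit U.ι ⟶ F :=
  ((CxOX.extZeroAdj U.ι).homEquiv _ _).symm
    (homOfTop ((Scheme.Modules.restrictFunctor U.ι).obj F) (secTop F U s))

theorem homEquiv_symm_zero {U : X.Opens} (A : (U : Scheme.{u}).Modules) (B : X.Modules) :
    ((CxOX.extZeroAdj U.ι).homEquiv A B).symm 0 = 0 := by
  rw [Adjunction.homEquiv_counit]
  simp

theorem eq_zero_of_ofSec_comp {F G : X.Modules} (g : F ⟶ G) (U : X.Opens) (s : Γ(F, U))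
    (h : ofSec F U s ≫ g = 0) : g.app U s = 0 := by
  unfold ofSec at h
  rw [← Adjunction.homEquiv_naturality_right_symm, ← homEquiv_symm_zero] at h
  have h1 := (Equiv.injective _) h
  have h2 := congrArg (fun k => k.app ⊤ (1 : Γ(U.toScheme, ⊤))) h1
  have h3 : ((Scheme.Modules.restrictFunctor U.ι).map g).app ⊤ (secTop F U s) = 0 := by
    have := homOfTop_app_one ((Scheme.Modules.restrictFunctor U.ι).obj F) (secTop F U s)
    have h2' : ((Scheme.Modules.restrictFunctor U.ι).map g).app ⊤
        ((homOfTop ((Scheme.Modules.restrictFunctor U.ι).obj F) (secTop F U s)).app ⊤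
          (1 : Γ(U.toScheme, ⊤))) = 0 := h2
    rw [this] at h2'
    exact h2'
  have h4 : secTop G U (g.app U s) = 0 := by
    refine Eq.trans ?_ h3
    exact (Groth.Agent.Helper4.StalkExact.app_res g (eqToHom U.ι_image_top) s).symm
  have h5 : secTop G U (g.app U s) = secTop G U 0 :=
    h4.trans (by unfold secTop; exact (map_zero _).symm)
  exact secTop_injective G U h5

theorem epi_desc (F : X.Modules)
    [HasCoproduct fun i : (Σ U : X.Opens, Γ(F, U)) => CxOX.extZeroUnit i.1.ι] :
    Epi (Sigma.desc fun i : (Σ U : X.Opens, Γ(F, U)) => ofSec F i.1 i.2) := by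
  refine Preadditive.epi_of_cancel_zero _ fun {G} g hg => ?_
  apply Scheme.Modules.hom_ext
  intro V
  ext s
  have h1 := (Sigma.ι (fun i : (Σ U : X.Opens, Γ(F, U)) => CxOX.extZeroUnit i.1.ι) ⟨V, s⟩) ≫= hg
  rw [Sigma.ι_desc_assoc, comp_zero] at h1
  exact eq_zero_of_ofSec_comp g V s h1


theorem homOfTop_comp {Y : Scheme.{u}} {N N' : Y.Modules} (t : Γ(N, ⊤)) (φ : N ⟶ N') :
    homOfTop N t ≫ φ = homOfTop N' (φ.app ⊤ t) := by
  apply hom_unit_ext
  rw [homOfTop_app_one]
  show φ.app ⊤ ((homOfTop N t).app ⊤ (1 : Γ(Y, ⊤))) = _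
  rw [homOfTop_app_one]

theorem exists_lift_extZeroUnit {x : X} {N N' : ModuleCat.{u} (X.presheaf.stalk x)} (e : N ⟶ N')
    [Epi e] (U : X.Opens) (k : CxOX.extZeroUnit U.ι ⟶ sky x N') :
    ∃ h : CxOX.extZeroUnit U.ι ⟶ sky x N, h ≫ skyMap x e = k := by
  have hsurj : Function.Surjective e.hom := (ModuleCat.epi_iff_surjective e).1 inferInstance
  let k' := (CxOX.extZeroAdj U.ι).homEquiv _ _ k
  let t' : PLift (x ∈ U.ι ''ᵁ ⊤) → N' := k'.app ⊤ (1 : Γ(U.toScheme, ⊤))
  let t : PLift (x ∈ U.ι ''ᵁ ⊤) → N := fun h => (hsurj (t' h)).choose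
  have ht : ∀ h, e.hom (t h) = t' h := fun h => (hsurj (t' h)).choose_spec
  refine ⟨((CxOX.extZeroAdj U.ι).homEquiv _ _).symm
    (homOfTop ((Scheme.Modules.restrictFunctor U.ι).obj (sky x N)) t), ?_⟩
  rw [← Adjunction.homEquiv_naturality_right_symm]
  apply ((CxOX.extZeroAdj U.ι).homEquiv _ _).injective
  rw [Equiv.apply_symm_apply, homOfTop_comp]
  apply hom_unit_ext
  rw [homOfTop_app_one]
  show _ = t'
  funext h
  exact (skyMap_app_apply x e (U.ι ''ᵁ ⊤) t h).trans (ht h)

theorem projective_stalk (x : X) {ι : Type u} (U : ι → X.Opens)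
    [HasCoproduct fun i => CxOX.extZeroUnit (U i).ι] :
    Projective ((DerSch.stalkFunctor X x).obj (∐ fun i => CxOX.extZeroUnit (U i).ι)) := by
  constructor
  intro E N' f e _
  let f' : (∐ fun i => CxOX.extZeroUnit (U i).ι) ⟶ sky x N' := (adj x).homEquiv _ _ f
  choose h hh using fun i => exists_lift_extZeroUnit e (U i)
    (Sigma.ι (fun i => CxOX.extZeroUnit (U i).ι) i ≫ f')
  refine ⟨((adj x).homEquiv _ _).symm (Sigma.desc h), ?_⟩
  apply ((adj x).homEquiv _ _).injective
  rw [Adjunction.homEquiv_naturality_right, Equiv.apply_symm_apply]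
  apply Sigma.hom_ext
  intro i
  rw [Sigma.ι_desc_assoc]
  exact hh i

theorem isFlat_coprod {ι : Type u} (U : ι → X.Opens)
    [HasCoproduct fun i => CxOX.extZeroUnit (U i).ι] :
    FlatMod.IsFlat (∐ fun i => CxOX.extZeroUnit (U i).ι) := by
  intro x
  have hp := projective_stalk x U
  have h2 : Module.Projective (X.presheaf.stalk x)
      ((∐ fun i => CxOX.extZeroUnit (U i).ι).presheaf.stalk x) :=
    (IsProjective.iff_projective _).2 hp
  exact Module.Flat.of_projective

end Groth.Agent.Lead.FlatQuot
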