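import Mathlib
import Groth.Prelude.Def_CxOX
import Groth.Agent.S0484
import Groth.Agent.Lead.InjShA
import Groth.Agent.Lead.FlatQuot
import Groth.Agent.Lead.LocalLift
import Groth.Agent.Helper4.EpiStalk
import Groth.Agent.Helper9.SkyMod5

/-!
# Lead: Baer criterion for `O_X`-modules with the generators `j_! O_U`
-/

set_option autoImplicit false
universe u
open CategoryTheory CategoryTheory.Limits AlgebraicGeometry Opposite TopologicalSpace

namespace Groth.Agent.Lead.InjShB

open Groth.Agent.Lead.FlatQuot Groth.Agent.Lead.LocLift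
open Groth.Agent.Helper9.SkyMod1 Groth.Agent.Helper9.SkyMod2 Groth.Agent.Helper9.SkyMod4
  Groth.Agent.Helper9.SkyMod5

variable {X : Scheme.{u}}

instance instGroth (X : Scheme.{u}) : IsGrothendieckAbelian.{u} X.Modules :=
  Groth.Agent.S0484.result _ X.ringCatSheaf

theorem secTop_surjective (F : X.Modules) (U : X.Opens) : Function.Surjective (secTop F U) := by
  intro t
  refine ⟨F.presheaf.map (eqToHom U.ι_image_top.symm).op t, ?_⟩
  unfold secTop
  have := F.presheaf.map_comp (eqToHom U.ι_image_top.symm).op (eqToHom U.ι_image_top).op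
  have h3 := congrArg (fun k => k.hom t) this
  refine h3.symm.trans ?_
  have h4 : (eqToHom U.ι_image_top.symm).op ≫ (eqToHom U.ι_image_top).op =
      𝟙 (op (U.ι ''ᵁ ⊤)) := by
    apply Subsingleton.elim
  show (F.presheaf.map ((eqToHom U.ι_image_top.symm).op ≫ (eqToHom U.ι_image_top).op)).hom t = t
  rw [h4]
  simp

theorem homOfTop_injective {Y : Scheme.{u}} (N : Y.Modules) : Function.Injective (homOfTop N) := by
  intro s t h
  have := congrArg (fun k => k.app ⊤ (1 : Γ(Y, ⊤))) h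
  simpa only [homOfTop_app_one] using this

theorem homOfTop_surjective {Y : Scheme.{u}} (N : Y.Modules) :
    Function.Surjective (homOfTop N) := by
  intro k
  refine ⟨k.app ⊤ (1 : Γ(Y, ⊤)), ?_⟩
  apply hom_unit_ext
  rw [homOfTop_app_one]

theorem ofSec_injective (F : X.Modules) (U : X.Opens) : Function.Injective (ofSec F U) := by
  intro s t h
  unfold ofSec at h
  exact secTop_injective F U (homOfTop_injective _ ((Equiv.injective _) h))

theorem ofSec_surjective (F : X.Modules) (U : X.Opens) : Function.Surjective (ofSec F U) := by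
  intro k
  obtain ⟨t, ht⟩ := homOfTop_surjective _ ((CxOX.extZeroAdj U.ι).homEquiv _ _ k)
  obtain ⟨s, hs⟩ := secTop_surjective F U t
  refine ⟨s, ?_⟩
  unfold ofSec
  rw [hs, ht, Equiv.symm_apply_apply]

theorem ofSec_comp {F G : X.Modules} (g : F ⟶ G) (U : X.Opens) (s : Γ(F, U)) :
    ofSec F U s ≫ g = ofSec G U (g.app U s) := by
  unfold ofSec
  rw [← Adjunction.homEquiv_naturality_right_symm, homOfTop_comp]
  congr 2
  exact Groth.Agent.Helper4.StalkExact.app_res g (eqToHom U.ι_image_top) s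

/-- the `j_! O_U` for `U` in a basis detect proper subobjects -/
theorem detect (𝓑 : Set X.Opens) (h𝓑 : Opens.IsBasis 𝓑) {A B : X.Modules} (p : A ⟶ B) [Mono p]
    (hp : ¬ IsIso p) :
    ∃ (U : 𝓑) (f : CxOX.extZeroUnit U.1.ι ⟶ B), ∀ a : CxOX.extZeroUnit U.1.ι ⟶ A, a ≫ p ≠ f := by
  by_contra hcon
  push_neg at hcon
  apply hp
  haveI : Epi p := by
    apply Groth.Agent.Lead.LocalLift.epi_of_local_lift
    intro T t x hx
    obtain ⟨U, hU, hxU, hUT⟩ := Opens.isBasis_iff_nbhd.1 h𝓑 hx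
    obtain ⟨a, ha⟩ := hcon ⟨U, hU⟩ (ofSec B U (B.presheaf.map (homOfLE hUT).op t))
    obtain ⟨s, rfl⟩ := ofSec_surjective A U a
    rw [ofSec_comp] at ha
    exact ⟨U, hUT, hxU, s, ofSec_injective B U ha⟩
  exact isIso_of_mono_of_epi p

/-- **Baer criterion** for `O_X`-modules. -/
theorem injective_of_baer (𝓑 : Set X.Opens) (h𝓑 : Opens.IsBasis 𝓑) (hne : 𝓑.Nonempty)
    (F : X.Modules)
    (hF : ∀ U ∈ 𝓑, ∀ (S : X.Modules) (m : S ⟶ CxOX.extZeroUnit U.ι) [Mono m] (φ : S ⟶ F),
      ∃ ψ : CxOX.extZeroUnit U.ι ⟶ F, m ≫ ψ = φ) : Injective F := by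
  haveI : Nonempty 𝓑 := hne.to_subtype
  refine Groth.Agent.Lead.InjShA.injective_of_family.{u}
    (fun U : 𝓑 => CxOX.extZeroUnit U.1.ι) (fun p _ hp => detect 𝓑 h𝓑 p hp) F ?_
  intro U S m _ φ
  exact hF U.1 U.2 S m φ

end Groth.Agent.Lead.InjShB
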