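import Mathlib
import Groth.Agent.Lead.InjShB
import Groth.Agent.Helper4.HZshQc

/-!
# Lead: subobjects of `j_! N`, and locally injective modules are injective
-/

set_option autoImplicit false
universe u
open CategoryTheory CategoryTheory.Limits AlgebraicGeometry Opposite TopologicalSpace

namespace Groth.Agent.Lead.InjShC

open Groth.Agent.Lead.FlatQuot Groth.Agent.Lead.LocLift Groth.Agent.Lead.InjShB
open Groth.Agent.Helper9.SkyMod1 Groth.Agent.Helper9.SkyMod2 Groth.Agent.Helper9.SkyMod4
  Groth.Agent.Helper9.SkyMod5 Groth.Agent.Helper4.ExtZeroStalk Groth.Agent.Helper4.HZshQc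

/-- sections of a sheaf of modules which agree locally are equal -/
theorem eq_of_local {X : Scheme.{u}} (F : X.Modules) (V : X.Opens) (s t : Γ(F, V))
    (h : ∀ x ∈ V, ∃ (W : X.Opens) (hW : W ≤ V), x ∈ W ∧
      F.presheaf.map (homOfLE hW).op s = F.presheaf.map (homOfLE hW).op t) : s = t := by
  refine TopCat.Presheaf.section_ext (⟨F.presheaf, F.isSheaf⟩ : TopCat.Sheaf Ab X.toTopCat) V s t ?_
  intro x hx
  obtain ⟨W, hW, hxW, e⟩ := h x hx
  have h1 := TopCat.Presheaf.germ_res_apply F.presheaf (homOfLE hW) x hxW s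
  have h2 := TopCat.Presheaf.germ_res_apply F.presheaf (homOfLE hW) x hxW t
  exact h1.symm.trans ((congrArg _ e).trans h2)

variable {U X : Scheme.{u}} (j : U ⟶ X) [IsOpenImmersion j]

/-- sections of a subobject of `j_! N` vanish near the points outside `U` -/
theorem exists_nhd_res_eq_zero {S : X.Modules} {N : U.Modules}
    (m : S ⟶ (CxOX.extZero j).obj N) [Mono m] (x : X) (hx : x ∉ Set.range j)
    (V : X.Opens) (hxV : x ∈ V) (s : Γ(S, V)) :
    ∃ (W : X.Opens) (hW : W ≤ V), x ∈ W ∧ S.presheaf.map (homOfLE hW).op s = 0 := by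
  have hinj : Function.Injective ((St x).map m).hom :=
    (ModuleCat.mono_iff_injective _).1 inferInstance
  haveI : Subsingleton ↑((St x).obj ((CxOX.extZero j).obj N)) :=
    subsingleton_stalk_extZero j N x hx
  have h0 : S.presheaf.germ V x hxV s = S.presheaf.germ V x hxV 0 :=
    hinj (Subsingleton.elim _ _)
  obtain ⟨W, hxW, i1, i2, h⟩ := TopCat.Presheaf.germ_eq S.presheaf x hxV hxV s 0 h0
  refine ⟨W, i1.le, hxW, ?_⟩
  exact h.trans (map_zero _)

/-- restriction to `U` is faithful on morphisms out of a subobject of `j_! N` -/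
theorem eq_of_restrict_eq {S F : X.Modules} {N : U.Modules}
    (m : S ⟶ (CxOX.extZero j).obj N) [Mono m] (a b : S ⟶ F)
    (h : (Scheme.Modules.restrictFunctor j).map a = (Scheme.Modules.restrictFunctor j).map b) :
    a = b := by
  apply Scheme.Modules.hom_ext
  intro V
  ext s
  apply eq_of_local F V
  intro x hxV
  by_cases hx : x ∈ Set.range j
  · obtain ⟨y, rfl⟩ := hx
    have hW : j ''ᵁ (j ⁻¹ᵁ V) ≤ V := by
      rw [Scheme.Hom.image_preimage_eq_opensRange_inf]
      exact inf_le_right
    refine ⟨j ''ᵁ (j ⁻¹ᵁ V), hW, ⟨y, hxV, rfl⟩, ?_⟩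
    have hab : a.app (j ''ᵁ (j ⁻¹ᵁ V)) = b.app (j ''ᵁ (j ⁻¹ᵁ V)) :=
      congrArg (fun k => k.app (j ⁻¹ᵁ V)) h
    rw [← Groth.Agent.Helper4.StalkExact.app_res a (homOfLE hW) s,
      ← Groth.Agent.Helper4.StalkExact.app_res b (homOfLE hW) s, hab]
  · obtain ⟨W, hW, hxW, hs⟩ := exists_nhd_res_eq_zero j m x hx V hxV s
    refine ⟨W, hW, hxW, ?_⟩
    rw [← Groth.Agent.Helper4.StalkExact.app_res a (homOfLE hW) s,
      ← Groth.Agent.Helper4.StalkExact.app_res b (homOfLE hW) s, hs, map_zero, map_zero]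

instance : (Scheme.Modules.restrictFunctor j).PreservesMonomorphisms :=
  haveI : PreservesLimitsOfSize.{0, 0} (Scheme.Modules.restrictFunctor j) :=
    (CxOX.extZeroAdj j).rightAdjoint_preservesLimits
  inferInstance

/-- if `F|_U` is injective then morphisms to `F` extend along subobjects of `j_! N`. -/
theorem exists_extension {S F : X.Modules} {N : U.Modules}
    (hF : Injective ((Scheme.Modules.restrictFunctor j).obj F))
    (m : S ⟶ (CxOX.extZero j).obj N) [Mono m] (φ : S ⟶ F) :
    ∃ ψ : (CxOX.extZero j).obj N ⟶ F, m ≫ ψ = φ := by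
  let ψ₀ : (Scheme.Modules.restrictFunctor j).obj ((CxOX.extZero j).obj N) ⟶
      (Scheme.Modules.restrictFunctor j).obj F :=
    Injective.factorThru ((Scheme.Modules.restrictFunctor j).map φ)
      ((Scheme.Modules.restrictFunctor j).map m)
  have hψ₀ : (Scheme.Modules.restrictFunctor j).map m ≫ ψ₀ =
      (Scheme.Modules.restrictFunctor j).map φ := Injective.comp_factorThru _ _
  let η := (CxOX.extZeroAdj j).unit.app N
  let ψ := ((CxOX.extZeroAdj j).homEquiv N F).symm (η ≫ ψ₀)
  have h1 : (Scheme.Modules.restrictFunctor j).map ψ = ψ₀ := by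
    have h2 : (CxOX.extZeroAdj j).homEquiv N F ψ = η ≫ ψ₀ := Equiv.apply_symm_apply _ _
    rw [Adjunction.homEquiv_unit] at h2
    haveI : IsIso η := inferInstance
    exact (cancel_epi η).1 h2
  refine ⟨ψ, eq_of_restrict_eq j m _ _ ?_⟩
  rw [Functor.map_comp, h1, hψ₀]

/-- restriction of an injective restriction to a smaller open is injective -/
theorem injective_restrict_of_le {X : Scheme.{u}} (F : X.Modules) (V W : X.Opens) (h : W ≤ V)
    (hV : Injective ((Scheme.Modules.restrictFunctor V.ι).obj F)) :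
    Injective ((Scheme.Modules.restrictFunctor W.ι).obj F) := by
  haveI := hV
  have h1 := injective_restrict (X.homOfLE h) ((Scheme.Modules.restrictFunctor V.ι).obj F)
  have e : (Scheme.Modules.restrictFunctor W.ι).obj F ≅
      (Scheme.Modules.restrictFunctor (X.homOfLE h)).obj
        ((Scheme.Modules.restrictFunctor V.ι).obj F) :=
    ((Scheme.Modules.restrictFunctorCongr (X.homOfLE_ι h).symm).app F) ≪≫
      ((Scheme.Modules.restrictFunctorComp (X.homOfLE h) V.ι).app F)
  exact Injective.of_iso e.symm h1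

/-- **locally injective modules are injective** -/
theorem injective_of_locally_injective {X : Scheme.{u}} (F : X.Modules)
    (hF : ∀ x : X, ∃ U : X.Opens, x ∈ U ∧
      Injective ((Scheme.Modules.restrictFunctor U.ι).obj F)) : Injective F := by
  by_cases hX : Nonempty X
  swap
  · have hz : IsZero F := isZero_of_stalks X F (fun x => (hX ⟨x⟩).elim)
    exact Injective.of_iso hz.isoZero.symm inferInstance
  let 𝓑 : Set X.Opens := {W | Injective ((Scheme.Modules.restrictFunctor W.ι).obj F)}
  have h𝓑 : Opens.IsBasis 𝓑 := by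
    rw [Opens.isBasis_iff_nbhd]
    intro T x hx
    obtain ⟨V, hxV, hV⟩ := hF x
    exact ⟨T ⊓ V, injective_restrict_of_le F V (T ⊓ V) inf_le_right hV, ⟨hx, hxV⟩, inf_le_left⟩
  have hne : 𝓑.Nonempty := by
    obtain ⟨x⟩ := hX
    obtain ⟨V, _, hV⟩ := hF x
    exact ⟨V, hV⟩
  apply injective_of_baer 𝓑 h𝓑 hne F
  intro V hV S m _ φ
  exact exists_extension V.ι hV m φ

end Groth.Agent.Lead.InjShC
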