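import Mathlib

/-!
# Lead: Gabriel's lemma — uniform stabilisation of ascending chains of "coherent-like" ideals of
stalks on a Noetherian scheme
-/

set_option autoImplicit false
universe u
open CategoryTheory AlgebraicGeometry Opposite TopologicalSpace

namespace Groth.Agent.Lead.InjShD

section Algebra

variable {R : Type*} [CommRing R]

/-- In a Noetherian ring, the contraction of the extension of an ideal to a localisation at a prime
is cut out by a single denominator. -/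
theorem exists_denominator [IsNoetherianRing R] (𝔭 : Ideal R) [𝔭.IsPrime] (S : Type*) [CommRing S]
    [Algebra R S] [IsLocalization.AtPrime S 𝔭] (C : Ideal R) :
    ∃ g ∈ 𝔭.primeCompl, ∀ a : R, algebraMap R S a ∈ Ideal.map (algebraMap R S) C → g * a ∈ C := by
  classical
  set K : Ideal R := Ideal.comap (algebraMap R S) (Ideal.map (algebraMap R S) C) with hK
  obtain ⟨F, hF⟩ : K.FG := IsNoetherian.noetherian K
  have hu : ∀ a ∈ F, ∃ u ∈ 𝔭.primeCompl, u * a ∈ C := by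
    intro a ha
    have haK : a ∈ K := hF ▸ Ideal.subset_span ha
    exact (IsLocalization.algebraMap_mem_map_algebraMap_iff 𝔭.primeCompl S C a).1 haK
  choose! u hu1 hu2 using hu
  refine ⟨∏ a ∈ F, u a, Submonoid.prod_mem _ (fun a ha => hu1 a ha), ?_⟩
  intro a ha
  have haK : a ∈ K := ha
  rw [← hF] at haK
  refine Submodule.span_induction (p := fun a _ => (∏ b ∈ F, u b) * a ∈ C) ?_ ?_ ?_ ?_ haK
  · intro b hb
    rw [← Finset.mul_prod_erase F u hb, mul_assoc, mul_comm _ b, ← mul_assoc]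
    exact C.mul_mem_right _ (hu2 b hb)
  · simp
  · intro x y _ _ hx hy
    rw [mul_add]
    exact C.add_mem hx hy
  · intro r x _ hx
    rw [smul_eq_mul, mul_left_comm]
    exact C.mul_mem_left _ hx

/-- membership in an extended ideal of a localisation away from `h` -/
theorem mem_map_away {T : Type*} [CommRing T] [Algebra R T] (h g a : R) (k : ℕ) (C : Ideal R)
    (s : T) (hs : s * algebraMap R T (h ^ k) = algebraMap R T a) (hga : g * a ∈ C)
    (hh : IsUnit (algebraMap R T h)) (hg : IsUnit (algebraMap R T g)) :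
    s ∈ Ideal.map (algebraMap R T) C := by
  have h1 : algebraMap R T (g * a) ∈ Ideal.map (algebraMap R T) C := Ideal.mem_map_of_mem _ hga
  have h2 : algebraMap R T (g * a) = (algebraMap R T g * algebraMap R T h ^ k) * s := by
    rw [map_mul, ← hs, map_pow]
    ring
  rw [h2] at h1
  exact (Ideal.unit_mul_mem_iff_mem _ (hg.mul (hh.pow k))).1 h1

end Algebra

section Step

variable {U : Scheme.{u}} [IsLocallyNoetherian U]
  (I : ℕ → (x : U) → Ideal (U.presheaf.stalk x))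
  (hloc : ∀ n x (σ : U.presheaf.stalk x), σ ∈ I n x →
    ∃ (V : U.Opens) (hx : x ∈ V) (s : Γ(U, V)), U.presheaf.germ V x hx s = σ ∧
      ∀ y (hy : y ∈ V), U.presheaf.germ V y hy s ∈ I n y)

include hloc in
theorem step (ζ : U) (N₀ : ℕ) (hN₀ : ∀ n, N₀ ≤ n → I n ζ = I N₀ ζ) :
    ∃ W' : U.Opens, ζ ∈ W' ∧ ∀ y ∈ W', ζ ⤳ y → ∀ n, N₀ ≤ n → I n y ≤ I N₀ y := by
  classical
  obtain ⟨Fs, hFs⟩ : (I N₀ ζ).FG := IsNoetherian.noetherian (I N₀ ζ)
  have h1 : ∀ σ : Fs, ∃ (V : U.Opens) (hx : ζ ∈ V) (s : Γ(U, V)),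
      U.presheaf.germ V ζ hx s = σ.1 ∧ ∀ y (hy : y ∈ V), U.presheaf.germ V y hy s ∈ I N₀ y :=
    fun σ => hloc N₀ ζ σ.1 (hFs ▸ Ideal.subset_span σ.2)
  choose V hζV s hs1 hs2 using h1
  let T : U.Opens := ⟨⋂ σ : Fs, (V σ : Set U), isOpen_iInter_of_finite (fun σ => (V σ).isOpen)⟩
  have hζT : ζ ∈ T := Set.mem_iInter.2 (fun σ => hζV σ)
  obtain ⟨W₀, hW₀, hζ, hW₀T⟩ := Opens.isBasis_iff_nbhd.1 U.isBasis_affineOpens hζT
  have hle : ∀ σ : Fs, W₀ ≤ V σ := fun σ x hx => Set.mem_iInter.1 (hW₀T hx) σ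
  haveI : IsNoetherianRing Γ(U, W₀) := IsLocallyNoetherian.component_noetherian ⟨W₀, hW₀⟩
  let t : Fs → Γ(U, W₀) := fun σ => U.presheaf.map (homOfLE (hle σ)).op (s σ)
  let C : Ideal Γ(U, W₀) := Ideal.span (Set.range t)
  let ζ' : W₀ := ⟨ζ, hζ⟩
  letI : Algebra Γ(U, W₀) (U.presheaf.stalk ζ) :=
    TopCat.Presheaf.algebra_section_stalk U.presheaf ζ'
  haveI hloc' : IsLocalization.AtPrime (U.presheaf.stalk ζ) (hW₀.primeIdealOf ζ').asIdeal :=
    hW₀.isLocalization_stalk ζ'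
  have halg : ∀ r : Γ(U, W₀), algebraMap Γ(U, W₀) (U.presheaf.stalk ζ) r =
      U.presheaf.germ W₀ ζ hζ r := fun r => rfl
  have hJ : Ideal.map (algebraMap Γ(U, W₀) (U.presheaf.stalk ζ)) C = I N₀ ζ := by
    rw [← hFs, Ideal.map_span]
    congr 1
    ext τ
    constructor
    · rintro ⟨_, ⟨σ, rfl⟩, rfl⟩
      rw [halg]
      have : U.presheaf.germ W₀ ζ hζ (t σ) = σ.1 :=
        (TopCat.Presheaf.germ_res_apply U.presheaf (homOfLE (hle σ)) ζ hζ (s σ)).trans (hs1 σ)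
      rw [this]
      exact σ.2
    · intro hτ
      refine ⟨t ⟨τ, hτ⟩, ⟨⟨τ, hτ⟩, rfl⟩, ?_⟩
      rw [halg]
      exact (TopCat.Presheaf.germ_res_apply U.presheaf (homOfLE (hle ⟨τ, hτ⟩)) ζ hζ
        (s ⟨τ, hτ⟩)).trans (hs1 ⟨τ, hτ⟩)
  obtain ⟨g, hg𝔭, hg⟩ := exists_denominator (hW₀.primeIdealOf ζ').asIdeal (U.presheaf.stalk ζ) C
  refine ⟨U.basicOpen g, ?_, ?_⟩
  · rw [Scheme.mem_basicOpen U g ζ hζ]
    exact IsLocalization.map_units (U.presheaf.stalk ζ)
      (⟨g, hg𝔭⟩ : (hW₀.primeIdealOf ζ').asIdeal.primeCompl)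
  intro y hyW' hspec n hn σ hσ
  have hyW₀ : y ∈ W₀ := U.basicOpen_le g hyW'
  obtain ⟨V', hyV', s', hs'1, hs'2⟩ := hloc n y σ hσ
  obtain ⟨h, hDle, hyD⟩ := hW₀.exists_basicOpen_le (V := V' ⊓ U.basicOpen g)
    ⟨y, ⟨hyV', hyW'⟩⟩ hyW₀
  have hDV : U.basicOpen h ≤ V' := hDle.trans inf_le_left
  have hDg : U.basicOpen h ≤ U.basicOpen g := hDle.trans inf_le_right
  have hDW₀ : U.basicOpen h ≤ W₀ := U.basicOpen_le h
  have hζD : ζ ∈ U.basicOpen h := hspec.mem_open (U.basicOpen h).isOpen hyD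
  let sD : Γ(U, U.basicOpen h) := U.presheaf.map (homOfLE hDV).op s'
  haveI := hW₀.isLocalization_basicOpen h
  obtain ⟨⟨a, ⟨_, k, rfl⟩⟩, hak⟩ := IsLocalization.surj (Submonoid.powers h) sD
  have halgD : ∀ r : Γ(U, W₀), algebraMap Γ(U, W₀) Γ(U, U.basicOpen h) r =
      U.presheaf.map (homOfLE hDW₀).op r := fun r => rfl
  -- the germ of `a` at `ζ` lies in the extension of `C`
  have ha : algebraMap Γ(U, W₀) (U.presheaf.stalk ζ) a ∈
      Ideal.map (algebraMap Γ(U, W₀) (U.presheaf.stalk ζ)) C := by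
    rw [hJ, halg, ← TopCat.Presheaf.germ_res_apply U.presheaf (homOfLE hDW₀) ζ hζD a, ← halgD,
      ← hak, map_mul]
    apply Ideal.mul_mem_right
    have : U.presheaf.germ (U.basicOpen h) ζ hζD sD = U.presheaf.germ V' ζ (hDV hζD) s' :=
      TopCat.Presheaf.germ_res_apply U.presheaf (homOfLE hDV) ζ hζD s'
    rw [this, ← hN₀ n hn]
    exact hs'2 ζ (hDV hζD)
  have hga : g * a ∈ C := hg a ha
  have hunit_h : IsUnit (algebraMap Γ(U, W₀) Γ(U, U.basicOpen h) h) :=
    U.toRingedSpace.isUnit_res_basicOpen h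
  have hunit_g : IsUnit (algebraMap Γ(U, W₀) Γ(U, U.basicOpen h) g) := by
    have h1 : IsUnit (U.presheaf.map (homOfLE (U.basicOpen_le g)).op g) :=
      U.toRingedSpace.isUnit_res_basicOpen g
    have h2 := h1.map (U.presheaf.map (homOfLE hDg).op).hom
    have h3 : (U.presheaf.map (homOfLE hDg).op).hom
        (U.presheaf.map (homOfLE (U.basicOpen_le g)).op g) =
        algebraMap Γ(U, W₀) Γ(U, U.basicOpen h) g := by
      rw [halgD]
      have := U.presheaf.map_comp (homOfLE (U.basicOpen_le g)).op (homOfLE hDg).op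
      exact (congrArg (fun φ => φ.hom g) this).symm
    rwa [h3] at h2
  have hsD : sD ∈ Ideal.map (algebraMap Γ(U, W₀) Γ(U, U.basicOpen h)) C :=
    mem_map_away h g a k C sD hak hga hunit_h hunit_g
  have hσ' : σ = U.presheaf.germ (U.basicOpen h) y hyD sD :=
    hs'1.symm.trans (TopCat.Presheaf.germ_res_apply U.presheaf (homOfLE hDV) y hyD s').symm
  rw [hσ']
  have hle2 : Ideal.map (algebraMap Γ(U, W₀) Γ(U, U.basicOpen h)) C ≤
      Ideal.comap (U.presheaf.germ (U.basicOpen h) y hyD).hom (I N₀ y) := by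
    rw [Ideal.map_le_iff_le_comap, Ideal.span_le]
    rintro _ ⟨τ, rfl⟩
    show (U.presheaf.germ (U.basicOpen h) y hyD).hom
      (algebraMap Γ(U, W₀) Γ(U, U.basicOpen h) (t τ)) ∈ I N₀ y
    rw [halgD]
    have e1 : U.presheaf.germ (U.basicOpen h) y hyD (U.presheaf.map (homOfLE hDW₀).op (t τ)) =
        U.presheaf.germ W₀ y hyW₀ (t τ) :=
      TopCat.Presheaf.germ_res_apply U.presheaf (homOfLE hDW₀) y hyD (t τ)
    have e2 : U.presheaf.germ W₀ y hyW₀ (t τ) = U.presheaf.germ (V τ) y (hle τ hyW₀) (s τ) :=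
      TopCat.Presheaf.germ_res_apply U.presheaf (homOfLE (hle τ)) y hyW₀ (s τ)
    exact (e1.trans e2) ▸ hs2 τ y (hle τ hyW₀)
  exact hle2 hsD

end Step

section Main

variable {U : Scheme.{u}} [IsNoetherian U]
  (I : ℕ → (x : U) → Ideal (U.presheaf.stalk x))
  (hmono : ∀ n x, I n x ≤ I (n + 1) x)
  (hloc : ∀ n x (σ : U.presheaf.stalk x), σ ∈ I n x →
    ∃ (V : U.Opens) (hx : x ∈ V) (s : Γ(U, V)), U.presheaf.germ V x hx s = σ ∧
      ∀ y (hy : y ∈ V), U.presheaf.germ V y hy s ∈ I n y)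

/-- uniform stabilisation along a subset -/
def P (Y : Set U) : Prop := ∃ N, ∀ n, N ≤ n → ∀ x ∈ Y, I n x ≤ I N x

include hmono in
theorem mono' {m n : ℕ} (h : m ≤ n) (x : U) : I m x ≤ I n x :=
  monotone_nat_of_le_succ (f := fun n => I n x) (fun n => hmono n x) h

theorem P_mono {Y Y' : Set U} (h : Y ⊆ Y') (hP : P I Y') : P I Y := by
  obtain ⟨N, hN⟩ := hP
  exact ⟨N, fun n hn x hx => hN n hn x (h hx)⟩

include hmono in
theorem P_biUnion (S : Set (Closeds U)) (hS : S.Finite) (h : ∀ t ∈ S, P I (t : Set U)) :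
    P I (⋃ t ∈ S, (t : Set U)) := by
  classical
  choose! N hN using h
  refine ⟨hS.toFinset.sup N, ?_⟩
  intro n hn x hx
  obtain ⟨t, ht, hxt⟩ := Set.mem_iUnion₂.1 hx
  have h1 : N t ≤ hS.toFinset.sup N := Finset.le_sup (f := N) (hS.mem_toFinset.2 ht)
  exact (hN t ht n (h1.trans hn) x hxt).trans (mono' I hmono h1 x)

include hmono hloc in
theorem P_closeds (Y : Closeds U) : P I (Y : Set U) := by
  induction Y using WellFoundedLT.induction with
  | ind Y ih =>
  obtain ⟨S, hSfin, hSirr, hY⟩ := NoetherianSpace.exists_finite_set_closeds_irreducible Y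
  have hle : (Y : Set U) ⊆ ⋃ t ∈ S, (t : Set U) := by
    let Z : Closeds U := ⟨⋃ t ∈ S, (t : Set U), hSfin.isClosed_biUnion (fun t _ => t.isClosed)⟩
    have : Y ≤ Z := by
      rw [hY]
      exact sSup_le (fun t ht => Set.subset_biUnion_of_mem (u := fun t : Closeds U => (t : Set U)) ht)
    exact this
  refine P_mono I hle (P_biUnion I hmono S hSfin ?_)
  intro t ht
  have htY : t ≤ Y := hY ▸ le_sSup ht
  obtain ⟨ζ, hζ⟩ := QuasiSober.sober (hSirr t ht) t.isClosed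
  obtain ⟨N₀, hN₀⟩ := (monotone_stabilizes_iff_noetherian
    (R := U.presheaf.stalk ζ) (M := U.presheaf.stalk ζ)).2 inferInstance
    ⟨fun n => I n ζ, monotone_nat_of_le_succ (fun n => hmono n ζ)⟩
  obtain ⟨W', hζW', hW'⟩ := step I hloc ζ N₀ (fun n hn => (hN₀ n hn).symm)
  let Y' : Closeds U := ⟨(t : Set U) ∩ (W' : Set U)ᶜ, t.isClosed.inter W'.isOpen.isClosed_compl⟩
  have hζt : ζ ∈ (t : Set U) := hζ.mem
  have hY'lt : Y' < Y := by
    rw [SetLike.lt_iff_le_and_exists]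
    refine ⟨fun x hx => htY hx.1, ζ, htY hζt, fun h => h.2 hζW'⟩
  obtain ⟨N₁, hN₁⟩ := ih Y' hY'lt
  refine ⟨max N₀ N₁, ?_⟩
  intro n hn x hx
  by_cases hxW : x ∈ W'
  · exact (hW' x hxW (hζ.specializes hx) n ((le_max_left _ _).trans hn)).trans
      (mono' I hmono (le_max_left _ _) x)
  · exact (hN₁ n ((le_max_right _ _).trans hn) x ⟨hx, hxW⟩).trans
      (mono' I hmono (le_max_right _ _) x)

include hmono hloc in
/-- **Gabriel's lemma**: on a Noetherian scheme, an ascending chain of families of ideals of the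
stalks, each of which is locally generated by sections, is uniformly stationary. -/
theorem gabriel : ∃ N, ∀ n, N ≤ n → ∀ x, I n x = I N x := by
  obtain ⟨N, hN⟩ := P_closeds I hmono hloc ⊤
  exact ⟨N, fun n hn x => le_antisymm (hN n hn x trivial) (mono' I hmono hn x)⟩

end Main

end Groth.Agent.Lead.InjShD
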