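import Mathlib
import Groth.Agent.Lead.InjShC
import Groth.Agent.Lead.InjShD

/-!
# Lead: the structure sheaf of a Noetherian scheme is a Noetherian object of the category of modules
-/

set_option autoImplicit false
universe u
open CategoryTheory CategoryTheory.Limits AlgebraicGeometry Opposite TopologicalSpace

namespace Groth.Agent.Lead.InjShE

open Groth.Agent.Helper4.StalkExact

variable {U : Scheme.{u}}

/-- a section of the structure module, viewed as a function -/
def asFun (V : U.Opens) (a : Γ(Coh.structureModule U, V)) : Γ(U, V) := a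

theorem asFun_res {V W : U.Opens} (i : W ⟶ V) (a : Γ(Coh.structureModule U, V)) :
    asFun W ((Coh.structureModule U).presheaf.map i.op a) = U.presheaf.map i.op (asFun V a) := rfl

theorem asFun_add (V : U.Opens) (a b : Γ(Coh.structureModule U, V)) :
    asFun V (a + b) = asFun V a + asFun V b := rfl

theorem asFun_zero (V : U.Opens) : asFun V (0 : Γ(Coh.structureModule U, V)) = 0 := rfl

theorem asFun_smul (V : U.Opens) (r : Γ(U, V)) (a : Γ(Coh.structureModule U, V)) :
    asFun V (r • a) = r * asFun V a := rfl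

variable {T : U.Modules} (i : T ⟶ Coh.structureModule U)

/-- germ of the image of a local section -/
noncomputable def gm (x : U) (V : U.Opens) (hx : x ∈ V) (t : Γ(T, V)) : U.presheaf.stalk x :=
  U.presheaf.germ V x hx (asFun V (i.app V t))

theorem gm_res (x : U) {V W : U.Opens} (h : W ⟶ V) (hx : x ∈ W) (t : Γ(T, V)) :
    gm i x W hx (T.presheaf.map h.op t) = gm i x V (h.le hx) t := by
  unfold gm
  rw [app_res i h t, asFun_res]
  exact TopCat.Presheaf.germ_res_apply U.presheaf h x hx _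

/-- the ideal of the stalk `O_{U,x}` of germs of sections of the image of `i` -/
noncomputable def stalkIdeal (x : U) : Ideal (U.presheaf.stalk x) where
  carrier := {σ | ∃ (V : U.Opens) (hx : x ∈ V) (t : Γ(T, V)), gm i x V hx t = σ}
  zero_mem' := by
    refine ⟨⊤, trivial, 0, ?_⟩
    unfold gm
    rw [map_zero, asFun_zero, map_zero]
  add_mem' := by
    rintro _ _ ⟨V₁, h₁, t₁, rfl⟩ ⟨V₂, h₂, t₂, rfl⟩
    refine ⟨V₁ ⊓ V₂, ⟨h₁, h₂⟩, T.presheaf.map (homOfLE inf_le_left).op t₁ +
      T.presheaf.map (homOfLE inf_le_right).op t₂, ?_⟩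
    rw [← gm_res i x (homOfLE inf_le_left : V₁ ⊓ V₂ ⟶ V₁) ⟨h₁, h₂⟩ t₁,
      ← gm_res i x (homOfLE inf_le_right : V₁ ⊓ V₂ ⟶ V₂) ⟨h₁, h₂⟩ t₂]
    unfold gm
    rw [map_add, asFun_add, map_add]
  smul_mem' := by
    rintro c _ ⟨V, hV, t, rfl⟩
    obtain ⟨V', hV', f, rfl⟩ := U.presheaf.exists_germ_eq (x := x) c
    refine ⟨V' ⊓ V, ⟨hV', hV⟩,
      ((U.presheaf.map (homOfLE inf_le_left : V' ⊓ V ⟶ V').op f : Γ(U, V' ⊓ V)) •
        (T.presheaf.map (homOfLE inf_le_right : V' ⊓ V ⟶ V).op t : Γ(T, V' ⊓ V))), ?_⟩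
    rw [← gm_res i x (homOfLE inf_le_right : V' ⊓ V ⟶ V) ⟨hV', hV⟩ t]
    unfold gm
    rw [Scheme.Modules.Hom.app_smul, asFun_smul, map_mul, smul_eq_mul]
    congr 1
    exact TopCat.Presheaf.germ_res_apply U.presheaf (homOfLE inf_le_left : V' ⊓ V ⟶ V') x
      ⟨hV', hV⟩ f

theorem mem_stalkIdeal (x : U) (σ : U.presheaf.stalk x) :
    σ ∈ stalkIdeal i x ↔ ∃ (V : U.Opens) (hx : x ∈ V) (t : Γ(T, V)), gm i x V hx t = σ := Iff.rfl

theorem stalkIdeal_loc (x : U) (σ : U.presheaf.stalk x) (hσ : σ ∈ stalkIdeal i x) :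
    ∃ (V : U.Opens) (hx : x ∈ V) (s : Γ(U, V)), U.presheaf.germ V x hx s = σ ∧
      ∀ y (hy : y ∈ V), U.presheaf.germ V y hy s ∈ stalkIdeal i y := by
  obtain ⟨V, hx, t, rfl⟩ := hσ
  exact ⟨V, hx, asFun V (i.app V t), rfl, fun y hy => ⟨V, hy, t, rfl⟩⟩

theorem stalkIdeal_mono {T' : U.Modules} (i' : T' ⟶ Coh.structureModule U) (k : T ⟶ T')
    (hk : k ≫ i' = i) (x : U) : stalkIdeal i x ≤ stalkIdeal i' x := by
  rintro _ ⟨V, hx, t, rfl⟩
  refine ⟨V, hx, k.app V t, ?_⟩
  unfold gm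
  rw [← hk]
  rfl

/-- **the structure sheaf of a Noetherian scheme is a Noetherian object** of the category of
all modules. -/
theorem acc_structureModule [IsNoetherian U] (c : ℕ →o Subobject (Coh.structureModule U)) :
    ∃ N, ∀ n, N ≤ n → c N = c n := by
  obtain ⟨N, hN⟩ := Groth.Agent.Lead.InjShD.gabriel
    (fun n x => stalkIdeal (c n).arrow x)
    (fun n x => stalkIdeal_mono (c n).arrow (c (n + 1)).arrow
      (Subobject.ofLE _ _ (c.monotone (Nat.le_succ n))) (Subobject.ofLE_arrow _) x)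
    (fun n x σ hσ => stalkIdeal_loc (c n).arrow x σ hσ)
  refine ⟨N, fun n hn => ?_⟩
  have hle : c N ≤ c n := c.monotone hn
  refine le_antisymm hle ?_
  let ι := Subobject.ofLE (c N) (c n) hle
  have hι : ι ≫ (c n).arrow = (c N).arrow := Subobject.ofLE_arrow hle
  haveI : Epi ι := by
    apply Groth.Agent.Lead.LocalLift.epi_of_local_lift
    intro T t x hx
    have hσ : gm (c n).arrow x T hx t ∈ stalkIdeal (c N).arrow x := by
      rw [← hN n hn x]
      exact ⟨T, hx, t, rfl⟩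
    obtain ⟨V', hx', t', ht'⟩ := hσ
    obtain ⟨W, hxW, iU, iV, he⟩ := TopCat.Presheaf.germ_eq U.presheaf x hx' hx _ _ ht'
    refine ⟨W, iV.le, hxW, (c N : U.Modules).presheaf.map iU.op t', ?_⟩
    apply Groth.Agent.Helper4.AffineDict.app_injective_of_mono (c n).arrow W
    have h1 : (c n).arrow.app W (ι.app W ((c N : U.Modules).presheaf.map iU.op t')) =
        (c N).arrow.app W ((c N : U.Modules).presheaf.map iU.op t') := by
      rw [← hι]
      rfl
    rw [h1, app_res (c N).arrow iU t', app_res (c n).arrow (homOfLE iV.le) t]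
    exact he
  haveI : IsIso ι := isIso_of_mono_of_epi ι
  exact Subobject.le_of_comm (inv ι) (by rw [IsIso.inv_comp_eq, hι])

end Groth.Agent.Lead.InjShE
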