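import Mathlib
import Groth.Agent.Lead.InjShE

/-!
# Lead: `j_! O_U` is a Noetherian object for `U` a Noetherian scheme
-/

set_option autoImplicit false
universe u
open CategoryTheory CategoryTheory.Limits AlgebraicGeometry Opposite TopologicalSpace

namespace Groth.Agent.Lead.InjShF

open Groth.Agent.Helper4.StalkExact Groth.Agent.Helper4.ExtZeroStalk Groth.Agent.Lead.InjShC
  Groth.Agent.Lead.InjShE

variable {U X : Scheme.{u}} (j : U ⟶ X) [IsOpenImmersion j]

/-- **`j_! O_U` is a Noetherian object** when `U` is a Noetherian scheme. -/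
theorem acc_extZeroUnit [IsNoetherian U] (c : ℕ →o Subobject (CxOX.extZeroUnit j)) :
    ∃ N, ∀ n, N ≤ n → c N = c n := by
  let R := Scheme.Modules.restrictFunctor j
  let η := (CxOX.extZeroAdj j).unit.app (Coh.structureModule U)
  haveI : IsIso η := inferInstance
  let a : ∀ n, R.obj (c n : X.Modules) ⟶ Coh.structureModule U := fun n =>
    R.map (c n).arrow ≫ inv η
  haveI : ∀ n, Mono (a n) := fun n => mono_comp _ _
  have ha : ∀ {n m : ℕ} (h : c n ≤ c m), R.map (Subobject.ofLE _ _ h) ≫ a m = a n := by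
    intro n m h
    show R.map (Subobject.ofLE _ _ h) ≫ R.map (c m).arrow ≫ inv η = R.map (c n).arrow ≫ inv η
    rw [← Category.assoc, ← R.map_comp, Subobject.ofLE_arrow]
  let c' : ℕ →o Subobject (Coh.structureModule U) :=
    ⟨fun n => Subobject.mk (a n), fun n m h =>
      Subobject.mk_le_mk_of_comm (R.map (Subobject.ofLE _ _ (c.monotone h))) (ha (c.monotone h))⟩
  obtain ⟨N, hN⟩ := acc_structureModule c'
  refine ⟨N, fun n hn => ?_⟩
  have hle : c N ≤ c n := c.monotone hn
  refine le_antisymm hle ?_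
  let ι := Subobject.ofLE (c N) (c n) hle
  have hι : ι ≫ (c n).arrow = (c N).arrow := Subobject.ofLE_arrow hle
  have heq : Subobject.mk (a N) = Subobject.mk (a n) := hN n hn
  let θ : R.obj (c n : X.Modules) ⟶ R.obj (c N : X.Modules) :=
    Subobject.ofMkLEMk (a n) (a N) heq.ge
  have hθ : θ ≫ a N = a n := Subobject.ofMkLEMk_comp heq.ge
  have hθι : θ ≫ R.map ι = 𝟙 _ := by
    rw [← cancel_mono (a n), Category.assoc, ha hle, hθ, Category.id_comp]
  haveI : Epi ι := by
    apply Groth.Agent.Lead.LocalLift.epi_of_local_lift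
    intro T t x hxT
    by_cases hx : x ∈ Set.range j
    · obtain ⟨y, rfl⟩ := hx
      have hW : j ''ᵁ (j ⁻¹ᵁ T) ≤ T := by
        rw [Scheme.Hom.image_preimage_eq_opensRange_inf]
        exact inf_le_right
      refine ⟨j ''ᵁ (j ⁻¹ᵁ T), hW, ⟨y, hxT, rfl⟩,
        θ.app (j ⁻¹ᵁ T) ((c n : X.Modules).presheaf.map (homOfLE hW).op t), ?_⟩
      have h1 := congrArg (fun k => k.app (j ⁻¹ᵁ T)
        ((c n : X.Modules).presheaf.map (homOfLE hW).op t)) hθι
      exact h1
    · obtain ⟨W, hW, hxW, hs⟩ := exists_nhd_res_eq_zero j (c n).arrow x hx T hxT t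
      refine ⟨W, hW, hxW, 0, ?_⟩
      rw [hs, map_zero]
  haveI : IsIso ι := isIso_of_mono_of_epi ι
  exact Subobject.le_of_comm (inv ι) (by rw [IsIso.inv_comp_eq, hι])

/-- the form of S11158 -/
theorem main {U X : Scheme.{u}} [IsLocallyNoetherian X] [IsAffine U] (j : U ⟶ X)
    [IsOpenImmersion j] (c : ℕ →o Subobject (CxOX.extZeroUnit j)) :
    ∃ n : ℕ, ∀ m : ℕ, n ≤ m → c n = c m := by
  haveI : IsLocallyNoetherian U := isLocallyNoetherian_of_isOpenImmersion j
  haveI : IsNoetherian U := { }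
  exact acc_extZeroUnit j c

end Groth.Agent.Lead.InjShF
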