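import Mathlib
import Groth.Agent.Lead.InjShF

/-!
# Lead: direct sums of injective modules on a locally Noetherian scheme are injective
-/

set_option autoImplicit false
universe u v w
open CategoryTheory CategoryTheory.Limits AlgebraicGeometry Opposite TopologicalSpace

namespace Groth.Agent.Lead.InjShG

section Abstract

variable {C : Type u} [Category.{v} C] [Preadditive C] {ι : Type w} [DecidableEq ι]
  (I : ι → C) [HasCoproduct I]

/-- the idempotent of `∐ I` projecting onto the components in `F` -/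
noncomputable def eF (F : Finset ι) : ∐ I ⟶ ∐ I := ∑ i ∈ F, Sigma.π I i ≫ Sigma.ι I i

/-- the complementary idempotent -/
noncomputable def pF (F : Finset ι) : ∐ I ⟶ ∐ I := 𝟙 _ - eF I F

theorem ι_eF (F : Finset ι) (k : ι) :
    Sigma.ι I k ≫ eF I F = if k ∈ F then Sigma.ι I k else 0 := by
  unfold eF
  rw [Preadditive.comp_sum]
  simp_rw [← Category.assoc, Sigma.ι_π, dite_comp, zero_comp]
  split_ifs with hk
  · rw [Finset.sum_eq_single k]
    · simp
    · intro b _ hb
      rw [dif_neg (Ne.symm hb)]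
    · intro h
      exact (h hk).elim
  · apply Finset.sum_eq_zero
    intro b hb
    rw [dif_neg]
    rintro rfl
    exact hk hb

theorem ι_pF (F : Finset ι) (k : ι) :
    Sigma.ι I k ≫ pF I F = if k ∈ F then 0 else Sigma.ι I k := by
  unfold pF
  rw [Preadditive.comp_sub, Category.comp_id, ι_eF]
  split_ifs <;> simp

theorem pF_comp_pF {F F' : Finset ι} (h : F ⊆ F') : pF I F ≫ pF I F' = pF I F' := by
  apply Sigma.hom_ext
  intro k
  rw [← Category.assoc, ι_pF, ι_pF]
  by_cases hk : k ∈ F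
  · rw [if_pos hk, if_pos (h hk), zero_comp]
  · rw [if_neg hk, ι_pF]

theorem ι_pF_of_mem {F : Finset ι} {k : ι} (hk : k ∈ F) : Sigma.ι I k ≫ pF I F = 0 := by
  rw [ι_pF, if_pos hk]

/-- extension of a morphism to a coproduct of injectives which is supported on finitely many
components -/
theorem exists_extension_of_finite {S P : C} (m : S ⟶ P) [Mono m] (hI : ∀ i, Injective (I i))
    (φ : S ⟶ ∐ I) (F : Finset ι) (hφ : φ ≫ pF I F = 0) : ∃ ψ : P ⟶ ∐ I, m ≫ ψ = φ := by
  refine ⟨∑ i ∈ F, Injective.factorThru (φ ≫ Sigma.π I i) m ≫ Sigma.ι I i, ?_⟩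
  rw [Preadditive.comp_sum]
  simp_rw [← Category.assoc, Injective.comp_factorThru]
  have h1 : φ ≫ eF I F = φ := by
    have : φ ≫ pF I F = φ - φ ≫ eF I F := by
      unfold pF
      rw [Preadditive.comp_sub, Category.comp_id]
    rw [this, sub_eq_zero] at hφ
    exact hφ.symm
  have h2 : φ ≫ eF I F = ∑ i ∈ F, (φ ≫ Sigma.π I i) ≫ Sigma.ι I i := by
    unfold eF
    rw [Preadditive.comp_sum]
    simp_rw [Category.assoc]
  rw [← h2, h1]

end Abstract

section Sheaf

open Groth.Agent.Helper9.SkyMod1 Groth.Agent.Helper9.SkyMod2 Groth.Agent.Helper9.SkyMod4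
  Groth.Agent.Helper9.SkyMod5 Groth.Agent.Helper4.StalkExact Groth.Agent.Lead.FlatQuot
  Groth.Agent.Lead.InjShB Groth.Agent.Lead.InjShC

variable {X : Scheme.{u}} {ι : Type u} (I : ι → X.Modules)

/-- the images of the components span the stalk of a coproduct -/
theorem iSup_range_stalk (x : X) :
    (⨆ i, LinearMap.range ((St x).map (Sigma.ι I i)).hom) = ⊤ := by
  haveI : PreservesColimitsOfSize.{u, u} (St x) := (adj x).leftAdjoint_preservesColimits
  have hc : IsColimit ((St x).mapCocone (Cofan.mk (∐ I) (Sigma.ι I))) :=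
    isColimitOfPreserves (St x) (coproductIsCoproduct I)
  set N := ⨆ i, LinearMap.range ((St x).map (Sigma.ι I i)).hom with hN
  let π : (St x).obj (∐ I) ⟶ ModuleCat.of _ (_ ⧸ N) := ModuleCat.ofHom N.mkQ
  have h0 : π = 0 := by
    apply hc.hom_ext
    rintro ⟨i⟩
    rw [comp_zero]
    ext m
    exact (Submodule.Quotient.mk_eq_zero N).2 (le_iSup (fun i => LinearMap.range
      ((St x).map (Sigma.ι I i)).hom) i ⟨m, rfl⟩)
  rw [eq_top_iff]
  intro m _
  have := congrArg (fun k => k.hom m) h0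
  exact (Submodule.Quotient.mk_eq_zero N).1 this

theorem ofSec_zero (F : X.Modules) (U : X.Opens) : ofSec F U 0 = 0 := by
  have := ofSec_comp (0 : F ⟶ F) U (0 : Γ(F, U))
  rw [comp_zero] at this
  exact this.symm

variable [DecidableEq ι]

/-- a local section of a coproduct is locally supported on finitely many components -/
theorem exists_nhd_pF_eq_zero (V : X.Opens) (s : Γ(∐ I, V)) (x : X) (hx : x ∈ V) :
    ∃ (W : X.Opens) (hW : W ≤ V) (F : Finset ι), x ∈ W ∧
      (pF I F).app W ((∐ I).presheaf.map (homOfLE hW).op s) = 0 := by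
  let m : ↑((St x).obj (∐ I)) := (∐ I).presheaf.germ V x hx s
  have hm : m ∈ ⨆ i, LinearMap.range ((St x).map (Sigma.ι I i)).hom := by
    rw [iSup_range_stalk]
    trivial
  obtain ⟨F, hF⟩ := Submodule.mem_iSup_iff_exists_finset.1 hm
  have hker : (⨆ i ∈ F, LinearMap.range ((St x).map (Sigma.ι I i)).hom) ≤
      LinearMap.ker ((St x).map (pF I F)).hom := by
    refine iSup₂_le (fun i hi => ?_)
    rintro _ ⟨n, rfl⟩
    show ((St x).map (pF I F)).hom (((St x).map (Sigma.ι I i)).hom n) = 0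
    have h1 : (St x).map (Sigma.ι I i) ≫ (St x).map (pF I F) = 0 := by
      rw [← Functor.map_comp, ι_pF_of_mem I hi, Functor.map_zero]
    exact congrArg (fun k => k.hom n) h1
  have h0 : ((St x).map (pF I F)).hom m = 0 := hker hF
  have h1 : (∐ I).presheaf.germ V x hx ((pF I F).app V s) =
      (∐ I).presheaf.germ V x hx 0 := by
    rw [map_zero]
    exact (DerSch.stalkFunctor_map_germ x (pF I F) V hx s).symm.trans h0
  obtain ⟨W, hxW, iU, iV, he⟩ := TopCat.Presheaf.germ_eq (∐ I).presheaf x hx hx _ _ h1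
  refine ⟨W, iU.le, F, hxW, ?_⟩
  rw [app_res (pF I F) (homOfLE iU.le) s]
  exact he.trans (map_zero _)

/-- a morphism from a Noetherian object to a coproduct is supported on finitely many components -/
theorem exists_finset_comp_pF_eq_zero {S : X.Modules} [IsNoetherianObject S] (φ : S ⟶ ∐ I) :
    ∃ F : Finset ι, φ ≫ pF I F = 0 := by
  let K : Finset ι → Subobject S := fun F => kernelSubobject (φ ≫ pF I F)
  have hKmono : ∀ F F' : Finset ι, F ⊆ F' → K F ≤ K F' := by
    intro F F' h
    have h1 : φ ≫ pF I F' = (φ ≫ pF I F) ≫ pF I F' := by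
      rw [Category.assoc, pF_comp_pF I h]
    show kernelSubobject _ ≤ kernelSubobject _
    rw [h1]
    exact kernelSubobject_comp_le _ _
  obtain ⟨_, ⟨F₀, rfl⟩, hmax⟩ :=
    (wellFounded_gt (α := Subobject S)).has_min (Set.range K) ⟨K ∅, ∅, rfl⟩
  have hKeq : ∀ F, F₀ ⊆ F → K F₀ = K F := fun F h =>
    (hKmono _ _ h).eq_or_lt.resolve_right (hmax (K F) ⟨F, rfl⟩)
  refine ⟨F₀, ?_⟩
  apply Scheme.Modules.hom_ext
  intro V
  ext t
  show (φ ≫ pF I F₀).app V t = 0
  apply eq_of_local _ V
  intro x hx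
  obtain ⟨W, hW, F, hxW, hF⟩ := exists_nhd_pF_eq_zero I V (φ.app V t) x hx
  refine ⟨W, hW, hxW, ?_⟩
  rw [map_zero, ← app_res (φ ≫ pF I F₀) (homOfLE hW) t]
  set t' := S.presheaf.map (homOfLE hW).op t with ht'
  have h1 : (φ ≫ pF I (F ∪ F₀)).app W t' = 0 := by
    rw [← pF_comp_pF I (Finset.subset_union_left : F ⊆ F ∪ F₀)]
    show (pF I (F ∪ F₀)).app W ((pF I F).app W (φ.app W t')) = 0
    rw [ht', app_res φ (homOfLE hW) t, hF, map_zero]
  have h2 : ofSec S W t' ≫ (φ ≫ pF I (F ∪ F₀)) = 0 := by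
    rw [ofSec_comp, h1, ofSec_zero]
  have h3 : ofSec S W t' ≫ (φ ≫ pF I F₀) = 0 := by
    have e : K F₀ = K (F ∪ F₀) := hKeq (F ∪ F₀) Finset.subset_union_right
    rw [← factorThruKernelSubobject_comp_arrow _ _ h2, Category.assoc]
    have h4 : (kernelSubobject (φ ≫ pF I (F ∪ F₀))).arrow ≫ (φ ≫ pF I F₀) = 0 := by
      show (K (F ∪ F₀)).arrow ≫ (φ ≫ pF I F₀) = 0
      rw [← Subobject.ofLE_arrow (le_of_eq e.symm), Category.assoc]
      show _ ≫ (kernelSubobject (φ ≫ pF I F₀)).arrow ≫ _ = 0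
      rw [kernelSubobject_arrow_comp, comp_zero]
    rw [h4, comp_zero]
  exact eq_zero_of_ofSec_comp _ W t' h3

end Sheaf

/-- **direct sums of injective modules on a locally Noetherian scheme are injective** -/
theorem main {X : Scheme.{u}} [IsLocallyNoetherian X] {ι : Type u} (I : ι → X.Modules)
    (hI : ∀ j, Injective (I j)) : Injective (∐ I) := by
  classical
  apply Groth.Agent.Lead.InjShB.injective_of_baer X.affineOpens X.isBasis_affineOpens
    ⟨⊥, isAffineOpen_bot X⟩ (∐ I)
  intro W hW S m _ φ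
  haveI : CompactSpace (W : Scheme.{u}) := isCompact_iff_compactSpace.mp (IsAffineOpen.isCompact hW)
  haveI : IsNoetherian (W : Scheme.{u}) := ⟨⟩
  haveI : IsNoetherianObject (CxOX.extZeroUnit W.ι) := by
    rw [isNoetherianObject_iff_monotone_chain_condition]
    intro c
    exact Groth.Agent.Lead.InjShF.acc_extZeroUnit W.ι c
  haveI : IsNoetherianObject S := isNoetherianObject_of_mono m
  obtain ⟨F, hF⟩ := exists_finset_comp_pF_eq_zero I φ
  exact exists_extension_of_finite I m hI φ F hF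

end Groth.Agent.Lead.InjShG
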