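import Mathlib
import Groth.Agent.Lead.InjShC
import Groth.Agent.Helper4.TildeExact

/-!
# Lead: sections of an injective `O_X`-module over an affine open form an injective module
-/

set_option autoImplicit false
universe u
open CategoryTheory CategoryTheory.Limits AlgebraicGeometry Opposite TopologicalSpace

namespace Groth.Agent.Lead.InjShH

open Groth.Agent.Helper4.HZshQc

variable {X : Scheme.{u}}

/-- the adjunction `j_! ∘ tilde ⊣ Γ ∘ j^*` for an open immersion `j : Spec R ⟶ X` -/
noncomputable def adjSpec {R : CommRingCat.{u}} (j : Spec R ⟶ X) [IsOpenImmersion j] :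
    tilde.functor R ⋙ CxOX.extZero j ⊣ Scheme.Modules.restrictFunctor j ⋙ moduleSpecΓFunctor :=
  tilde.adjunction.comp (CxOX.extZeroAdj j)

instance {R : CommRingCat.{u}} (j : Spec R ⟶ X) [IsOpenImmersion j] :
    (tilde.functor R ⋙ CxOX.extZero j).PreservesMonomorphisms := by
  haveI : (tilde.functor R).PreservesMonomorphisms := inferInstance
  infer_instance

theorem injective_sections_spec {R : CommRingCat.{u}} (j : Spec R ⟶ X) [IsOpenImmersion j]
    (I : X.Modules) [Injective I] :
    Module.Injective R Γ((Scheme.Modules.restrictFunctor j).obj I, ⊤) := by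
  have h : Injective ((Scheme.Modules.restrictFunctor j ⋙ moduleSpecΓFunctor).obj I) :=
    Injective.injective_of_adjoint (adjSpec j) I
  haveI : Injective (ModuleCat.of R Γ((Scheme.Modules.restrictFunctor j).obj I, ⊤)) := h
  exact Module.injective_module_of_injective_object R _

/-- the ring isomorphism `R ≅ Γ(X, j(Spec R))` -/
noncomputable def kap {R : CommRingCat.{u}} (j : Spec R ⟶ X) [IsOpenImmersion j] :
    R ≅ Γ(X, j ''ᵁ ⊤) :=
  (Scheme.ΓSpecIso R).symm ≪≫ (j.appIso ⊤).symm

theorem smul_eq_kap {R : CommRingCat.{u}} (j : Spec R ⟶ X) [IsOpenImmersion j] (I : X.Modules)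
    (r : R) (s : Γ(I, j ''ᵁ ⊤)) :
    (r • (show Γ((Scheme.Modules.restrictFunctor j).obj I, ⊤) from s)) = (kap j).hom r • s := by
  rw [Scheme.Modules.smul_Spec_def]
  have h1 : (Spec R).presheaf.map (⊤ : (Spec R).Opens).leTop.op = 𝟙 _ := by
    have : (⊤ : (Spec R).Opens).leTop = 𝟙 _ := Subsingleton.elim _ _
    rw [this, op_id, CategoryTheory.Functor.map_id]
  rw [h1]
  rfl

/-- **sections of an injective module over (the image of) an affine scheme are an injective
module** -/
theorem injective_sections_image {R : CommRingCat.{u}} (j : Spec R ⟶ X) [IsOpenImmersion j]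
    (I : X.Modules) [Injective I] : Module.Injective Γ(X, j ''ᵁ ⊤) Γ(I, j ''ᵁ ⊤) := by
  apply Module.Baer.injective
  intro 𝔠 g
  have hinj := injective_sections_spec j I
  have hbaer : Module.Baer R Γ((Scheme.Modules.restrictFunctor j).obj I, ⊤) :=
    Module.Baer.of_injective hinj
  let κ := kap j
  let 𝔠' : Ideal R := 𝔠.comap κ.hom.hom
  let g' : 𝔠' →ₗ[R] Γ((Scheme.Modules.restrictFunctor j).obj I, ⊤) :=
    { toFun := fun r => g ⟨κ.hom r.1, r.2⟩
      map_add' := by
        intro a b
        have : (⟨κ.hom (a + b).1, (a + b).2⟩ : 𝔠) = ⟨κ.hom a.1, a.2⟩ + ⟨κ.hom b.1, b.2⟩ := by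
          apply Subtype.ext
          exact map_add κ.hom.hom a.1 b.1
        rw [this, map_add]
        rfl
      map_smul' := by
        intro r a
        have : (⟨κ.hom (r • a).1, (r • a).2⟩ : 𝔠) = κ.hom r • ⟨κ.hom a.1, a.2⟩ := by
          apply Subtype.ext
          exact map_mul κ.hom.hom r a.1
        rw [this, map_smul, RingHom.id_apply, smul_eq_kap] }
  obtain ⟨G, hG⟩ := hbaer 𝔠' g'
  refine ⟨LinearMap.toSpanSingleton _ _ (G 1 : Γ(I, j ''ᵁ ⊤)), ?_⟩
  intro r'' hr''
  rw [LinearMap.toSpanSingleton_apply]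
  have hr : κ.hom (κ.inv r'') = r'' := by
    have := congrArg (fun φ => φ.hom r'') κ.inv_hom_id
    exact this
  have hmem : κ.inv r'' ∈ 𝔠' := by
    show κ.hom (κ.inv r'') ∈ 𝔠
    rw [hr]
    exact hr''
  have h1 := hG (κ.inv r'') hmem
  have h2 : G (κ.inv r'') = (κ.inv r'') • G 1 := by
    rw [← G.map_smul, smul_eq_mul, mul_one]
  rw [h2, smul_eq_kap, hr] at h1
  rw [h1]
  show g ⟨κ.hom (κ.inv r''), _⟩ = g ⟨r'', hr''⟩
  congr 1
  exact Subtype.ext hr

/-- sections of an injective module over an affine open are an injective module -/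
theorem injective_sections (I : X.Modules) [Injective I] (W : X.Opens) (hW : IsAffineOpen W) :
    Module.Injective Γ(X, W) Γ(I, W) := by
  have h := injective_sections_image hW.fromSpec I
  have e : hW.fromSpec ''ᵁ ⊤ = W := (Scheme.Hom.image_top_eq_opensRange _).trans hW.opensRange_fromSpec
  exact e ▸ h

end Groth.Agent.Lead.InjShH
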