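import Mathlib
import Groth.Agent.Lead.InjShH
import Groth.Agent.S8925

/-!
# Lead: stalks of injective modules on a locally Noetherian scheme are injective
-/

set_option autoImplicit false
universe u
open CategoryTheory CategoryTheory.Limits AlgebraicGeometry Opposite TopologicalSpace

namespace Groth.Agent.Lead.InjShI

open Groth.Agent.Helper9.SkyMod2

variable {X : Scheme.{u}}

theorem map_smul' (M : X.Modules) {U V : X.Opens} (i : U ⟶ V) (r : Γ(X, V)) (s : Γ(M, V)) :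
    M.presheaf.map i.op (r • s) = (X.presheaf.map i.op r : Γ(X, U)) • M.presheaf.map i.op s := by
  have h := Scheme.Modules.map_comp_smul (M := M) i r
  exact congrArg (fun k => k.hom s) h

set_option maxHeartbeats 1600000 in
theorem stalk_injective [IsLocallyNoetherian X] (I : X.Modules) [Injective I] (x : X) :
    Module.Injective (X.presheaf.stalk x) (I.presheaf.stalk x) := by
  apply Module.Baer.injective
  intro 𝔞 g
  suffices h : ∃ e : I.presheaf.stalk x, ∀ (a) (ha : a ∈ 𝔞), a • e = g ⟨a, ha⟩ by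
    obtain ⟨e, he⟩ := h
    exact ⟨LinearMap.toSpanSingleton _ _ e, fun a ha => by
      rw [LinearMap.toSpanSingleton_apply]; exact he a ha⟩
  classical
  obtain ⟨Fs, hFs⟩ : 𝔞.FG := IsNoetherian.noetherian 𝔞
  have hmemFs : ∀ α : Fs, α.1 ∈ 𝔞 := fun α => hFs ▸ Ideal.subset_span α.2
  have h1 : ∀ α : Fs, ∃ (V : X.Opens) (hx : x ∈ V) (a : Γ(X, V)) (t : Γ(I, V)),
      X.presheaf.germ V x hx a = α.1 ∧ I.presheaf.germ V x hx t = g ⟨α.1, hmemFs α⟩ := by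
    intro α
    obtain ⟨V₁, hx₁, a, ha⟩ := X.presheaf.exists_germ_eq (x := x) α.1
    obtain ⟨V₂, hx₂, t, ht⟩ := I.presheaf.exists_germ_eq (x := x) (g ⟨α.1, hmemFs α⟩)
    refine ⟨V₁ ⊓ V₂, ⟨hx₁, hx₂⟩, X.presheaf.map (homOfLE inf_le_left).op a,
      I.presheaf.map (homOfLE inf_le_right).op t, ?_, ?_⟩
    · exact (TopCat.Presheaf.germ_res_apply X.presheaf (homOfLE inf_le_left) x ⟨hx₁, hx₂⟩ a).trans ha
    · exact (TopCat.Presheaf.germ_res_apply I.presheaf (homOfLE inf_le_right) x ⟨hx₁, hx₂⟩ t).trans ht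
  choose V hxV a t ha ht using h1
  let T : X.Opens := ⟨⋂ α : Fs, (V α : Set X), isOpen_iInter_of_finite (fun α => (V α).isOpen)⟩
  have hxT : x ∈ T := Set.mem_iInter.2 (fun α => hxV α)
  obtain ⟨W₁, hW₁, hxW₁, hW₁T⟩ := Opens.isBasis_iff_nbhd.1 X.isBasis_affineOpens hxT
  have hle : ∀ α : Fs, W₁ ≤ V α := fun α y hy => Set.mem_iInter.1 (hW₁T hy) α
  haveI : IsNoetherianRing Γ(X, W₁) := IsLocallyNoetherian.component_noetherian ⟨W₁, hW₁⟩
  let a₁ : Fs → Γ(X, W₁) := fun α => X.presheaf.map (homOfLE (hle α)).op (a α)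
  let t₁ : Fs → Γ(I, W₁) := fun α => I.presheaf.map (homOfLE (hle α)).op (t α)
  have ha₁ : ∀ α, X.presheaf.germ W₁ x hxW₁ (a₁ α) = α.1 := fun α =>
    (TopCat.Presheaf.germ_res_apply X.presheaf (homOfLE (hle α)) x hxW₁ (a α)).trans (ha α)
  have ht₁ : ∀ α, I.presheaf.germ W₁ x hxW₁ (t₁ α) = g ⟨α.1, hmemFs α⟩ := fun α =>
    (TopCat.Presheaf.germ_res_apply I.presheaf (homOfLE (hle α)) x hxW₁ (t α)).trans (ht α)
  let π : (Fs → Γ(X, W₁)) →ₗ[Γ(X, W₁)] Γ(X, W₁) := Fintype.linearCombination Γ(X, W₁) a₁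
  obtain ⟨Gs, hGs⟩ : (LinearMap.ker π).FG := IsNoetherian.noetherian _
  -- the relations hold for the germs of the `t₁`
  have hσ : ∀ ρ : Gs, I.presheaf.germ W₁ x hxW₁ (∑ α, ρ.1 α • t₁ α) = 0 := by
    intro ρ
    have hρ : π ρ.1 = 0 := by
      have : ρ.1 ∈ LinearMap.ker π := hGs ▸ Submodule.subset_span ρ.2
      exact this
    rw [map_sum]
    simp_rw [germ_smul, ht₁]
    have h2 : ∑ α : Fs, X.presheaf.germ W₁ x hxW₁ (ρ.1 α) • g ⟨α.1, hmemFs α⟩ =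
        g (∑ α : Fs, X.presheaf.germ W₁ x hxW₁ (ρ.1 α) • (⟨α.1, hmemFs α⟩ : 𝔞)) := by
      rw [map_sum]
      simp_rw [map_smul]
    rw [h2]
    have h3 : (∑ α : Fs, X.presheaf.germ W₁ x hxW₁ (ρ.1 α) • (⟨α.1, hmemFs α⟩ : 𝔞)) = 0 := by
      apply Subtype.ext
      rw [Submodule.coe_sum]
      show ∑ α : Fs, X.presheaf.germ W₁ x hxW₁ (ρ.1 α) * α.1 = 0
      simp_rw [← ha₁, ← map_mul]
      rw [← map_sum]
      have : ∑ α : Fs, ρ.1 α * a₁ α = π ρ.1 := by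
        simp [π, Fintype.linearCombination_apply]
      rw [this, hρ, map_zero]
    rw [h3, map_zero]
  have h4 : ∀ ρ : Gs, ∃ (V' : X.Opens) (hV' : V' ≤ W₁), x ∈ V' ∧
      I.presheaf.map (homOfLE hV').op (∑ α, ρ.1 α • t₁ α) = 0 := by
    intro ρ
    have h0 : I.presheaf.germ W₁ x hxW₁ (∑ α, ρ.1 α • t₁ α) = I.presheaf.germ W₁ x hxW₁ 0 := by
      rw [hσ ρ, map_zero]
    obtain ⟨V', hxV', i1, i2, he⟩ := TopCat.Presheaf.germ_eq I.presheaf x hxW₁ hxW₁ _ _ h0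
    exact ⟨V', i1.le, hxV', he.trans (map_zero _)⟩
  choose V' hV'le hxV' hV' using h4
  let T' : X.Opens := ⟨⋂ ρ : Gs, (V' ρ : Set X), isOpen_iInter_of_finite (fun ρ => (V' ρ).isOpen)⟩
  have hxT' : x ∈ T' := Set.mem_iInter.2 (fun ρ => hxV' ρ)
  obtain ⟨h, hDle, hxD⟩ := hW₁.exists_basicOpen_le (V := T') ⟨x, hxT'⟩ hxW₁
  have hW₂ : IsAffineOpen (X.basicOpen h) := hW₁.basicOpen h
  have hW₂W₁ : X.basicOpen h ≤ W₁ := X.basicOpen_le h
  haveI hJ₂ : Module.Injective Γ(X, X.basicOpen h) Γ(I, X.basicOpen h) :=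
    Groth.Agent.Lead.InjShH.injective_sections I _ hW₂
  letI : Module Γ(X, W₁) Γ(I, X.basicOpen h) :=
    Module.compHom Γ(I, X.basicOpen h) (algebraMap Γ(X, W₁) Γ(X, X.basicOpen h))
  haveI : IsScalarTower Γ(X, W₁) Γ(X, X.basicOpen h) Γ(I, X.basicOpen h) :=
    IsScalarTower.of_compHom _ _ _
  haveI := hW₁.isLocalization_basicOpen h
  haveI : Module.Flat Γ(X, W₁) Γ(X, X.basicOpen h) :=
    IsLocalization.flat Γ(X, X.basicOpen h) (Submonoid.powers h)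
  have hJ₁ : Module.Injective Γ(X, W₁) Γ(I, X.basicOpen h) :=
    Groth.Agent.S8925.result Γ(X, W₁) Γ(X, X.basicOpen h) Γ(I, X.basicOpen h)
  have hsm : ∀ (r : Γ(X, W₁)) (s : Γ(I, X.basicOpen h)),
      r • s = (X.presheaf.map (homOfLE hW₂W₁).op r : Γ(X, X.basicOpen h)) • s := fun r s => rfl
  let t₂ : Fs → Γ(I, X.basicOpen h) := fun α => I.presheaf.map (homOfLE hW₂W₁).op (t₁ α)
  let ℓ : (Fs → Γ(X, W₁)) →ₗ[Γ(X, W₁)] Γ(I, X.basicOpen h) :=
    Fintype.linearCombination Γ(X, W₁) t₂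
  have hres : ∀ c : Fs → Γ(X, W₁), ℓ c = I.presheaf.map (homOfLE hW₂W₁).op (∑ α, c α • t₁ α) := by
    intro c
    rw [map_sum]
    simp only [ℓ, Fintype.linearCombination_apply]
    refine Finset.sum_congr rfl (fun α _ => ?_)
    rw [hsm]
    exact (Groth.Agent.Lead.InjShI.map_smul' I (homOfLE hW₂W₁) (c α) (t₁ α)).symm
  have hℓ : LinearMap.ker π ≤ LinearMap.ker ℓ := by
    rw [← hGs, Submodule.span_le]
    intro ρ hρ
    show ℓ ρ = 0
    rw [hres]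
    have hle2 : X.basicOpen h ≤ V' ⟨ρ, hρ⟩ := fun y hy => Set.mem_iInter.1 (hDle hy) ⟨ρ, hρ⟩
    have h5 := hV' ⟨ρ, hρ⟩
    have e : (homOfLE hW₂W₁).op = (homOfLE (hV'le ⟨ρ, hρ⟩)).op ≫ (homOfLE hle2).op := rfl
    rw [e]
    have h6 := I.presheaf.map_comp (homOfLE (hV'le ⟨ρ, hρ⟩)).op (homOfLE hle2).op
    have h7 := congrArg (fun k => k.hom (∑ α, ρ α • t₁ α)) h6
    refine h7.trans ?_
    show I.presheaf.map (homOfLE hle2).op
      (I.presheaf.map (homOfLE (hV'le ⟨ρ, hρ⟩)).op (∑ α, ρ α • t₁ α)) = 0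
    rw [h5, map_zero]
  let 𝔟 : Ideal Γ(X, W₁) := LinearMap.range π
  let gbar : 𝔟 →ₗ[Γ(X, W₁)] Γ(I, X.basicOpen h) :=
    ((LinearMap.ker π).liftQ ℓ hℓ).comp
      (π.quotKerEquivRange.symm : LinearMap.range π →ₗ[Γ(X, W₁)] _)
  have hgbar : ∀ c, gbar ⟨π c, ⟨c, rfl⟩⟩ = ℓ c := by
    intro c
    show ((LinearMap.ker π).liftQ ℓ hℓ) (π.quotKerEquivRange.symm ⟨π c, ⟨c, rfl⟩⟩) = ℓ c
    rw [LinearMap.quotKerEquivRange_symm_apply_image]
    rfl
  obtain ⟨G, hG⟩ := (Module.Baer.of_injective hJ₁) 𝔟 gbar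
  have hkey : ∀ α : Fs,
      (X.presheaf.map (homOfLE hW₂W₁).op (a₁ α) : Γ(X, X.basicOpen h)) • G 1 = t₂ α := by
    intro α
    have hπ : π (Pi.single α 1) = a₁ α := by
      simp only [π]
      rw [Fintype.linearCombination_apply_single, one_smul]
    have hℓ1 : ℓ (Pi.single α 1) = t₂ α := by
      simp only [ℓ]
      rw [Fintype.linearCombination_apply_single, one_smul]
    have hmem : a₁ α ∈ 𝔟 := ⟨Pi.single α 1, hπ⟩
    have h5 : G (a₁ α) = gbar ⟨a₁ α, hmem⟩ := hG (a₁ α) hmem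
    have h6 : G (a₁ α) = a₁ α • G 1 := by
      rw [← G.map_smul, smul_eq_mul, mul_one]
    have h7 : gbar ⟨a₁ α, hmem⟩ = t₂ α := by
      have h8 := hgbar (Pi.single α 1)
      rw [hℓ1] at h8
      refine Eq.trans ?_ h8
      congr 1
      exact Subtype.ext hπ.symm
    rw [← hsm, ← h6, h5, h7]
  have hxW₂ : x ∈ X.basicOpen h := hxD
  refine ⟨I.presheaf.germ (X.basicOpen h) x hxW₂ (G 1), ?_⟩
  have hgen : ∀ α : Fs, α.1 • I.presheaf.germ (X.basicOpen h) x hxW₂ (G 1) =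
      g ⟨α.1, hmemFs α⟩ := by
    intro α
    have e1 : X.presheaf.germ (X.basicOpen h) x hxW₂
        (X.presheaf.map (homOfLE hW₂W₁).op (a₁ α)) = α.1 :=
      (TopCat.Presheaf.germ_res_apply X.presheaf (homOfLE hW₂W₁) x hxW₂ (a₁ α)).trans (ha₁ α)
    have e2 : I.presheaf.germ (X.basicOpen h) x hxW₂ (t₂ α) = g ⟨α.1, hmemFs α⟩ :=
      (TopCat.Presheaf.germ_res_apply I.presheaf (homOfLE hW₂W₁) x hxW₂ (t₁ α)).trans (ht₁ α)
    calc α.1 • I.presheaf.germ (X.basicOpen h) x hxW₂ (G 1)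
        = X.presheaf.germ (X.basicOpen h) x hxW₂ (X.presheaf.map (homOfLE hW₂W₁).op (a₁ α)) •
            I.presheaf.germ (X.basicOpen h) x hxW₂ (G 1) := by rw [e1]
      _ = I.presheaf.germ (X.basicOpen h) x hxW₂
            ((X.presheaf.map (homOfLE hW₂W₁).op (a₁ α) : Γ(X, X.basicOpen h)) • G 1) :=
          (germ_smul x I (X.basicOpen h) hxW₂ _ _).symm
      _ = I.presheaf.germ (X.basicOpen h) x hxW₂ (t₂ α) := by rw [hkey]
      _ = g ⟨α.1, hmemFs α⟩ := e2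
  intro a' ha'
  have hspan : a' ∈ Submodule.span (X.presheaf.stalk x) (Fs : Set (X.presheaf.stalk x)) := by
    have h9 := ha'
    rw [← hFs] at h9
    exact h9
  revert ha'
  refine Submodule.span_induction (p := fun a' _ => ∀ ha' : a' ∈ 𝔞,
    a' • I.presheaf.germ (X.basicOpen h) x hxW₂ (G 1) = g ⟨a', ha'⟩) ?_ ?_ ?_ ?_ hspan
  · intro α hα ha'
    exact hgen ⟨α, hα⟩
  · intro ha'
    rw [zero_smul]
    exact (map_zero g).symm
  · intro y z hy hz ihy ihz ha'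
    have hy' : y ∈ 𝔞 := by rw [← hFs]; exact hy
    have hz' : z ∈ 𝔞 := by rw [← hFs]; exact hz
    rw [add_smul, ihy hy', ihz hz', ← map_add]
    rfl
  · intro r y hy ihy ha'
    have hy' : y ∈ 𝔞 := by rw [← hFs]; exact hy
    rw [smul_assoc, ihy hy', ← map_smul]
    rfl

end Groth.Agent.Lead.InjShI
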