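import Mathlib
import Groth.Prelude.Def_Wider
import Groth.Agent.Lead.InjHull
import Groth.Agent.S0301

/-!
# Lead: algebra for injective quasi-coherent sheaves

* `injective_of_isLocalization`: transport of injectivity along a localization
* `hull_powerTorsion`, `hull_smul_bijective`: the injective hull of `κ(𝔭)` over a Noetherian ring
* `injective_of_local`: injectivity of a module over a Noetherian ring is local
-/

set_option autoImplicit false
universe u

namespace Groth.Agent.Lead.InjShJ

open Groth.Agent.Lead.InjHullLib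

/-- transport of injectivity along a localization `A → B` and a bijective `A`-linear map `E → N`
to a `B`-module. -/
theorem injective_of_isLocalization {A B : Type u} [CommRing A] [CommRing B] [Algebra A B]
    (S : Submonoid A) [IsLocalization S B] {E N : Type u} [AddCommGroup E] [Module A E]
    [AddCommGroup N] [Module A N] [Module B N] [IsScalarTower A B N]
    (e : E →ₗ[A] N) (he : Function.Bijective e) [hE : Module.Injective A E] :
    Module.Injective B N := by
  apply Module.Baer.injective
  intro J g
  let J' : Ideal A := J.comap (algebraMap A B)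
  let e' := LinearEquiv.ofBijective e he
  let g' : J' →ₗ[A] E :=
    { toFun := fun a => e'.symm (g ⟨algebraMap A B a.1, a.2⟩)
      map_add' := fun a b => by
        rw [← map_add]
        congr 1
        rw [← map_add]
        congr 1
        apply Subtype.ext
        simp
      map_smul' := fun r a => by
        rw [RingHom.id_apply, ← map_smul]
        congr 1
        have : (⟨algebraMap A B (r • a).1, (r • a).2⟩ : J) =
            algebraMap A B r • ⟨algebraMap A B a.1, a.2⟩ := by
          apply Subtype.ext
          simp [Algebra.smul_def]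
        rw [this, map_smul, algebraMap_smul] }
  obtain ⟨h', hh'⟩ := Module.Baer.of_injective hE J' g'
  refine ⟨LinearMap.toSpanSingleton B N (e (h' 1)), ?_⟩
  intro r hr
  rw [LinearMap.toSpanSingleton_apply]
  obtain ⟨⟨a, s⟩, has⟩ := IsLocalization.surj S r
  have haJ : algebraMap A B a ∈ J := by
    rw [← has]
    exact J.mul_mem_right _ hr
  have h1 : g ⟨algebraMap A B a, haJ⟩ = algebraMap A B s.1 • g ⟨r, hr⟩ := by
    rw [← map_smul]
    congr 1
    apply Subtype.ext
    show algebraMap A B a = algebraMap A B s.1 * r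
    rw [← has, mul_comm]
  have h2 : g ⟨algebraMap A B a, haJ⟩ = e (g' ⟨a, haJ⟩) := by
    show _ = e (e'.symm _)
    exact (e'.apply_symm_apply _).symm
  have h3 : e (g' ⟨a, haJ⟩) = algebraMap A B s.1 • (r • e (h' 1)) := by
    rw [← hh' a haJ]
    have : h' a = a • h' 1 := by
      rw [← map_smul, smul_eq_mul, mul_one]
    rw [this, map_smul, ← algebraMap_smul B a, ← has, mul_comm, mul_smul]
  have hu : IsUnit (algebraMap A B s.1) := IsLocalization.map_units B s
  have h4 : algebraMap A B s.1 • g ⟨r, hr⟩ = algebraMap A B s.1 • (r • e (h' 1)) := by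
    rw [← h1, h2, h3]
  exact (hu.smul_left_cancel.1 h4).symm

section Hull

variable {R : Type u} [CommRing R] [IsNoetherianRing R] (p : Ideal R) [p.IsPrime]
  {E : Type u} [AddCommGroup E] [Module R E] (g : p.ResidueField →ₗ[R] E)

include g in
/-- every element of the injective hull of `κ(𝔭)` is killed by a power of `𝔭` -/
theorem hull_powerTorsion (hg : InjHull.IsInjectiveHull g) (e : E) :
    ∃ n : ℕ, ∀ a ∈ p ^ n, a • e = 0 := by
  classical
  have hEinj := hg.isInjective
  let tors : ℕ →o Submodule R E :=
    ⟨fun n => Submodule.torsionBySet R E ((p ^ n : Ideal R) : Set R), by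
      intro m n hmn x hx
      rw [Submodule.mem_torsionBySet_iff] at hx ⊢
      intro ⟨a, ha⟩
      exact hx ⟨a, Ideal.pow_le_pow_right hmn ha⟩⟩
  have hmemT : ∀ x : E, x ∈ (⨆ n : ℕ, Submodule.torsionBySet R E ((p ^ n : Ideal R) : Set R)) ↔
      ∃ n, x ∈ tors n := fun x => Submodule.mem_iSup_of_chain tors x
  have hTinj : Module.Injective R
      ↥(⨆ n : ℕ, Submodule.torsionBySet R E ((p ^ n : Ideal R) : Set R)) :=
    Groth.Agent.S0301.result R E hEinj p
  set T := (⨆ n : ℕ, Submodule.torsionBySet R E ((p ^ n : Ideal R) : Set R)) with hT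
  have hrange : LinearMap.range g ≤ T := by
    rintro _ ⟨x, rfl⟩
    rw [hmemT]
    refine ⟨1, ?_⟩
    change _ ∈ Submodule.torsionBySet R E _
    rw [Submodule.mem_torsionBySet_iff]
    rintro ⟨a, ha⟩
    rw [pow_one] at ha
    change a • g x = 0
    rw [← map_smul]
    have : a • x = 0 := by
      rw [Algebra.smul_def]
      have : algebraMap R p.ResidueField a = 0 := by
        rwa [Ideal.algebraMap_residueField_eq_zero]
      rw [this, zero_mul]
    rw [this, map_zero]
  obtain ⟨C, hC⟩ := exists_isCompl_range T.subtype Subtype.val_injective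
  rw [Submodule.range_subtype] at hC
  have hCbot : C = ⊥ := by
    by_contra hne
    apply hg.essential C hne
    rw [eq_bot_iff]
    exact le_trans (inf_le_inf_left C hrange) (le_of_eq (by rw [inf_comm]; exact hC.inf_eq_bot))
  have hTtop : T = ⊤ := by
    have := hC.sup_eq_top
    rwa [hCbot, sup_bot_eq] at this
  have he : e ∈ T := by rw [hTtop]; trivial
  obtain ⟨n, hn⟩ := (hmemT e).1 he
  refine ⟨n, fun a ha => ?_⟩
  change e ∈ Submodule.torsionBySet R E _ at hn
  rw [Submodule.mem_torsionBySet_iff] at hn
  exact hn ⟨a, ha⟩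

omit [IsNoetherianRing R] in
include g in
/-- elements outside `𝔭` act bijectively on the injective hull of `κ(𝔭)` -/
theorem hull_smul_bijective (hg : InjHull.IsInjectiveHull g) (s : R) (hs : s ∉ p) :
    Function.Bijective (fun e : E => s • e) := by
  haveI := hg.isInjective
  let μ : E →ₗ[R] E := LinearMap.lsmul R E s
  have hs0 : algebraMap R p.ResidueField s ≠ 0 := by
    rwa [Ne, Ideal.algebraMap_residueField_eq_zero]
  have hinj : Function.Injective μ := by
    apply injective_of_essential hg.essential μ
    intro x y hxy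
    have h1 : g (s • x) = g (s • y) := by
      rw [map_smul, map_smul]; exact hxy
    have h2 := hg.injective h1
    rw [Algebra.smul_def, Algebra.smul_def] at h2
    exact mul_left_cancel₀ hs0 h2
  refine ⟨hinj, ?_⟩
  obtain ⟨C, hC⟩ := exists_isCompl_range μ hinj
  have hrange : LinearMap.range g ≤ LinearMap.range μ := by
    rintro _ ⟨x, rfl⟩
    refine ⟨g ((algebraMap R p.ResidueField s)⁻¹ * x), ?_⟩
    show s • g _ = g x
    rw [← map_smul, Algebra.smul_def, ← mul_assoc, mul_inv_cancel₀ hs0, one_mul]
  have hCbot : C = ⊥ := by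
    by_contra hne
    apply hg.essential C hne
    rw [eq_bot_iff]
    exact le_trans (inf_le_inf_left C hrange) (le_of_eq (by rw [inf_comm]; exact hC.inf_eq_bot))
  have htop : LinearMap.range μ = ⊤ := by
    have := hC.sup_eq_top
    rwa [hCbot, sup_bot_eq] at this
  exact LinearMap.range_eq_top.1 htop

end Hull

section LocalGlobal

variable {R : Type u} [CommRing R] [IsNoetherianRing R] {M : Type u} [AddCommGroup M] [Module R M]

/-- the local step of the local-global principle for injectivity -/
theorem exists_smul_eq (I : Ideal R) (g : I →ₗ[R] M) (S : Submonoid R)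
    (A : Type u) [CommRing A] [Algebra R A] [IsLocalization S A]
    (N : Type u) [AddCommGroup N] [Module R N] [Module A N] [IsScalarTower R A N]
    (f : M →ₗ[R] N) [IsLocalizedModule S f] [hN : Module.Injective A N] :
    ∃ (t : S) (m : M), ∀ a : I, t.1 • g a = a.1 • m := by
  let J : Ideal A := I.localized' A S (Algebra.linearMap R A)
  let τ : I →ₗ[R] J := I.toLocalized' A S (Algebra.linearMap R A)
  let gJ : J →ₗ[A] N := IsLocalizedModule.mapExtendScalars S τ f A g
  obtain ⟨h, hh⟩ := Module.Baer.of_injective hN J gJ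
  have hτ : ∀ a : I, (τ a : A) = algebraMap R A a.1 := fun a => rfl
  have h1 : ∀ a : I, f (g a) = a.1 • h 1 := by
    intro a
    have h2 : gJ (τ a) = f (g a) := by
      show IsLocalizedModule.map S τ f g (τ a) = f (g a)
      exact IsLocalizedModule.map_apply S τ f g a
    rw [← h2, ← hh (τ a).1 (τ a).2, hτ, ← algebraMap_smul A a.1 (h 1), ← map_smul, smul_eq_mul,
      mul_one]
  obtain ⟨⟨m, s⟩, hms⟩ := IsLocalizedModule.surj S f (h 1)
  -- compare `s • g` and `a ↦ a • m`
  let g₁ : I →ₗ[R] M := s.1 • g
  let g₂ : I →ₗ[R] M := (LinearMap.toSpanSingleton R M m) ∘ₗ I.subtype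
  have hcomp : f.comp g₁ = f.comp g₂ := by
    ext a
    show f (s.1 • g a) = f (a.1 • m)
    rw [map_smul, map_smul, h1 a, ← hms, smul_comm]
    rfl
  obtain ⟨t, ht⟩ := Module.Finite.exists_smul_of_comp_eq_of_isLocalizedModule S f g₁ g₂ hcomp
  refine ⟨t * s, t.1 • m, fun a => ?_⟩
  have := LinearMap.congr_fun ht a
  show (t.1 * s.1) • g a = a.1 • t.1 • m
  rw [mul_smul, smul_comm a.1 t.1 m]
  exact this

/-- **injectivity over a Noetherian ring is local** -/
theorem injective_of_local
    (h : ∀ p : PrimeSpectrum R, ∃ (A : Type u) (_ : CommRing A) (_ : Algebra R A)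
      (_ : IsLocalization.AtPrime A p.asIdeal) (N : Type u) (_ : AddCommGroup N) (_ : Module R N)
      (_ : Module A N) (_ : IsScalarTower R A N) (f : M →ₗ[R] N)
      (_ : IsLocalizedModule p.asIdeal.primeCompl f), Module.Injective A N) :
    Module.Injective R M := by
  apply Module.Baer.injective
  intro I g
  let C : Ideal R :=
    { carrier := {r | ∃ m : M, ∀ a : I, r • g a = a.1 • m}
      add_mem' := by
        rintro r r' ⟨m, hm⟩ ⟨m', hm'⟩
        exact ⟨m + m', fun a => by rw [add_smul, hm, hm', smul_add]⟩
      zero_mem' := ⟨0, fun a => by rw [zero_smul, smul_zero]⟩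
      smul_mem' := by
        rintro c r ⟨m, hm⟩
        exact ⟨c • m, fun a => by rw [smul_eq_mul, mul_smul, hm, smul_comm]⟩ }
  have hC : C = ⊤ := by
    by_contra hne
    obtain ⟨P, hP, hCP⟩ := Ideal.exists_le_maximal C hne
    haveI := hP.isPrime
    obtain ⟨A, _, _, _, N, _, _, _, _, f, _, hN⟩ := h ⟨P, inferInstance⟩
    obtain ⟨t, m, htm⟩ := exists_smul_eq I g P.primeCompl A N f
    exact t.2 (hCP ⟨m, htm⟩)
  have h1 : (1 : R) ∈ C := by rw [hC]; trivial
  obtain ⟨m, hm⟩ := h1
  refine ⟨LinearMap.toSpanSingleton R M m, fun a ha => ?_⟩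
  rw [LinearMap.toSpanSingleton_apply, ← hm ⟨a, ha⟩, one_smul]

end LocalGlobal

end Groth.Agent.Lead.InjShJ
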