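import Mathlib
import Groth.Agent.Helper9.SkyMod5
import Groth.Agent.Lead.InjShJ

/-!
# Lead: `tilde E` is injective when `E` is an injective module "concentrated at a prime"
-/

set_option autoImplicit false
universe u
open CategoryTheory CategoryTheory.Limits AlgebraicGeometry Opposite TopologicalSpace

namespace Groth.Agent.Lead.InjShK

open Groth.Agent.Helper9.SkyMod1 Groth.Agent.Helper9.SkyMod2 Groth.Agent.Helper9.SkyMod4

/-- an isomorphism of modules may be checked on sections over a basis -/
theorem isIso_of_basis {X : Scheme.{u}} {M N : X.Modules} (φ : M ⟶ N) {ι : Type*}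
    (B : ι → X.Opens) (hB : Opens.IsBasis (Set.range B))
    (h : ∀ i, Function.Bijective (φ.app (B i))) : IsIso φ := by
  let F : TopCat.Sheaf Ab X := ⟨M.presheaf, M.isSheaf⟩
  let G : TopCat.Sheaf Ab X := ⟨N.presheaf, N.isSheaf⟩
  let α : F ⟶ G := ⟨Scheme.Modules.Hom.mapPresheaf φ⟩
  have hα : IsIso α := TopCat.Sheaf.isIso_iff_isIso_basis hB (fun i => by
    show IsIso (φ.app (B i))
    rw [ConcreteCategory.isIso_iff_bijective]
    exact h i)
  have h2 : IsIso (Scheme.Modules.Hom.mapPresheaf φ) :=
    Functor.map_isIso (TopCat.Sheaf.forget _ _) α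
  exact (isIso_iff_of_reflects_iso φ (Scheme.Modules.toPresheaf X)).1 h2

/-- a localization map is bijective when the submonoid already acts bijectively -/
theorem bijective_of_isLocalizedModule {R M N : Type*} [CommRing R] [AddCommGroup M] [Module R M]
    [AddCommGroup N] [Module R N] (S : Submonoid R) (f : M →ₗ[R] N) [IsLocalizedModule S f]
    (h : ∀ s ∈ S, Function.Bijective (fun m : M => s • m)) : Function.Bijective f := by
  constructor
  · rw [injective_iff_map_eq_zero]
    intro m hm
    obtain ⟨s, hs⟩ := (IsLocalizedModule.eq_zero_iff S f).1 hm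
    apply (h s.1 s.2).1
    show s.1 • m = s.1 • 0
    rw [smul_zero]
    exact hs
  · intro n
    obtain ⟨⟨m, s⟩, hms⟩ := IsLocalizedModule.surj S f n
    obtain ⟨m', hm'⟩ := (h s.1 s.2).2 m
    refine ⟨m', ?_⟩
    have hu := IsLocalizedModule.map_units f s
    rw [Module.End.isUnit_iff] at hu
    apply hu.1
    show s.1 • f m' = s.1 • n
    rw [← map_smul]
    have : s.1 • m' = m := hm'
    rw [this]
    exact hms.symm

section Spec

variable {R : CommRingCat.{u}} (E : ModuleCat.{u} R) (x : Spec R)

noncomputable instance algStalk : Algebra R ((Spec R).presheaf.stalk x) :=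
  inferInstanceAs (Algebra R ((structurePresheafInCommRingCat R).stalk x))

instance locStalk : IsLocalization.AtPrime ((Spec R).presheaf.stalk x) x.asIdeal :=
  inferInstanceAs
    (IsLocalization.AtPrime ((structurePresheafInCommRingCat R).stalk x) x.asIdeal)

instance towerStalk :
    IsScalarTower R ((Spec R).presheaf.stalk x) ((tilde E).presheaf.stalk x) :=
  inferInstanceAs (IsScalarTower R ((structurePresheafInCommRingCat R).stalk x)
    ↑(TopCat.Presheaf.stalk (moduleStructurePresheaf R E).presheaf x))

theorem toStalk_bijective (h1 : ∀ s ∉ x.asIdeal, Function.Bijective (fun e : E => s • e)) :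
    Function.Bijective (tilde.toStalk E x).hom :=
  bijective_of_isLocalizedModule x.asIdeal.primeCompl (tilde.toStalk E x).hom
    (fun s hs => h1 s hs)

theorem stalk_injective (hE : Module.Injective R E)
    (h1 : ∀ s ∉ x.asIdeal, Function.Bijective (fun e : E => s • e)) :
    Module.Injective ((Spec R).presheaf.stalk x) ((tilde E).presheaf.stalk x) :=
  Groth.Agent.Lead.InjShJ.injective_of_isLocalization x.asIdeal.primeCompl
    (tilde.toStalk E x).hom (toStalk_bijective E x h1)

theorem germ_toOpen (U : (Spec R).Opens) (hx : x ∈ U) (m : E) :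
    (tilde E).presheaf.germ U x hx ((tilde.toOpen E U).hom m) = (tilde.toStalk E x).hom m := by
  have h := TopCat.Presheaf.germ_res_apply (tilde E).presheaf (homOfLE (le_top : U ≤ ⊤)) x hx
    ((tilde.toOpen E ⊤).hom m)
  exact h.trans rfl

theorem pow_smul_bijective {f : R} (hf : Function.Bijective (fun e : E => f • e)) (k : ℕ) :
    Function.Bijective (fun e : E => f ^ k • e) := by
  induction k with
  | zero =>
    simp only [pow_zero, one_smul]
    exact Function.bijective_id
  | succ k ih =>
    have : (fun e : E => f ^ (k + 1) • e) = (fun e : E => f • e) ∘ (fun e : E => f ^ k • e) := by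
      funext e
      show f ^ (k + 1) • e = f • (f ^ k • e)
      rw [pow_succ', mul_smul]
    rw [this]
    exact hf.comp ih

theorem toOpen_bijective {f : R} (hf : Function.Bijective (fun e : E => f • e)) :
    Function.Bijective (tilde.toOpen E (PrimeSpectrum.basicOpen f)).hom := by
  apply bijective_of_isLocalizedModule (Submonoid.powers f)
  rintro s ⟨k, rfl⟩
  exact pow_smul_bijective E hf k

theorem germ_bijective {f : R} (hx : x ∈ PrimeSpectrum.basicOpen f)
    (h1 : ∀ s ∉ x.asIdeal, Function.Bijective (fun e : E => s • e)) :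
    Function.Bijective ((tilde E).presheaf.germ (PrimeSpectrum.basicOpen f) x hx) := by
  have hf : Function.Bijective (fun e : E => f • e) := h1 f hx
  have h2 := toOpen_bijective E hf
  have h3 := toStalk_bijective E x h1
  have h4 : (tilde.toStalk E x).hom =
      ((tilde E).presheaf.germ (PrimeSpectrum.basicOpen f) x hx) ∘
        (tilde.toOpen E (PrimeSpectrum.basicOpen f)).hom := by
    funext m
    exact (germ_toOpen E x _ hx m).symm
  rw [h4] at h3
  exact (Function.Bijective.of_comp_iff _ h2).1 h3

theorem subsingleton_sections {f : R} (h2 : ∀ e : E, ∃ n : ℕ, f ^ n • e = 0) :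
    Subsingleton Γ(tilde E, PrimeSpectrum.basicOpen f) := by
  refine ⟨fun a b => ?_⟩
  suffices h : ∀ t : Γ(tilde E, PrimeSpectrum.basicOpen f), t = 0 by rw [h a, h b]
  intro t
  obtain ⟨⟨m, s⟩, hms⟩ := IsLocalizedModule.surj (Submonoid.powers f)
    (tilde.toOpen E (PrimeSpectrum.basicOpen f)).hom t
  obtain ⟨n, hn⟩ := h2 m
  have hm0 : (tilde.toOpen E (PrimeSpectrum.basicOpen f)).hom m = 0 := by
    have hu := IsLocalizedModule.map_units (tilde.toOpen E (PrimeSpectrum.basicOpen f)).hom
      (⟨f ^ n, n, rfl⟩ : Submonoid.powers f)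
    rw [Module.End.isUnit_iff] at hu
    apply hu.1
    show (f ^ n) • ((tilde.toOpen E (PrimeSpectrum.basicOpen f)).hom m) =
      (f ^ n) • (0 : Γ(tilde E, PrimeSpectrum.basicOpen f))
    rw [smul_zero, ← map_smul, hn, map_zero]
    rfl
  have hu := IsLocalizedModule.map_units (tilde.toOpen E (PrimeSpectrum.basicOpen f)).hom s
  rw [Module.End.isUnit_iff] at hu
  apply hu.1
  show s.1 • t = s.1 • (0 : Γ(tilde E, PrimeSpectrum.basicOpen f))
  rw [smul_zero]
  exact hms.trans hm0

/-- the canonical map from `tilde E` to the skyscraper at `x` with value the stalk -/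
noncomputable def toSkyStalk : tilde E ⟶ sky x ((St x).obj (tilde E)) :=
  toSky x (tilde E) ((St x).obj (tilde E)) (𝟙 _)

theorem toSkyStalk_apply (U : (Spec R).Opens) (s : Γ(tilde E, U)) (h : PLift (x ∈ U)) :
    ((toSkyStalk E x).app U s : PLift (x ∈ U) → ((St x).obj (tilde E))) h =
      (tilde E).presheaf.germ U x h.down s := rfl

theorem isIso_toSkyStalk
    (h1 : ∀ s ∉ x.asIdeal, Function.Bijective (fun e : E => s • e))
    (h2 : ∀ f ∈ x.asIdeal, ∀ e : E, ∃ n : ℕ, f ^ n • e = 0) : IsIso (toSkyStalk E x) := by
  apply isIso_of_basis (toSkyStalk E x) (fun f : R => (PrimeSpectrum.basicOpen f : (Spec R).Opens))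
    PrimeSpectrum.isBasis_basic_opens
  intro f
  by_cases hx : x ∈ PrimeSpectrum.basicOpen f
  · have hg := germ_bijective E x hx h1
    constructor
    · intro s s' hss
      apply hg.1
      have := congrFun (show ((toSkyStalk E x).app _ s : PLift (x ∈ PrimeSpectrum.basicOpen f) →
        ((St x).obj (tilde E))) = (toSkyStalk E x).app _ s' from hss) ⟨hx⟩
      exact this
    · intro φ
      obtain ⟨s, hs⟩ := hg.2 ((φ : PLift (x ∈ PrimeSpectrum.basicOpen f) →
        ((St x).obj (tilde E))) ⟨hx⟩)
      refine ⟨s, ?_⟩
      show ((toSkyStalk E x).app _ s : PLift (x ∈ PrimeSpectrum.basicOpen f) →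
        ((St x).obj (tilde E))) = φ
      funext h
      rw [toSkyStalk_apply]
      exact hs
  · have hf : f ∈ x.asIdeal := by
      by_contra hne
      exact hx hne
    haveI := subsingleton_sections E (h2 f hf)
    constructor
    · intro s s' _
      exact Subsingleton.elim _ _
    · intro φ
      refine ⟨0, ?_⟩
      show ((toSkyStalk E x).app _ 0 : PLift (x ∈ PrimeSpectrum.basicOpen f) →
        ((St x).obj (tilde E))) = φ
      funext h
      exact (hx h.down).elim

/-- **`tilde E` is an injective `O`-module** when `E` is an injective `R`-module on which the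
elements outside a prime `x` act bijectively and those of `x` act locally nilpotently. -/
theorem injective_tilde (hE : Module.Injective R E)
    (h1 : ∀ s ∉ x.asIdeal, Function.Bijective (fun e : E => s • e))
    (h2 : ∀ f ∈ x.asIdeal, ∀ e : E, ∃ n : ℕ, f ^ n • e = 0) : Injective (tilde E) := by
  haveI hN : Module.Injective ((Spec R).presheaf.stalk x) ((tilde E).presheaf.stalk x) :=
    stalk_injective E x hE h1
  haveI : Injective ((St x).obj (tilde E)) :=
    Module.injective_object_of_injective_module (R := (Spec R).presheaf.stalk x)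
      (M := (tilde E).presheaf.stalk x)
  haveI : Injective ((skyFunctor x).obj ((St x).obj (tilde E))) :=
    Injective.injective_of_adjoint (adj x) _
  haveI := isIso_toSkyStalk E x h1 h2
  exact Injective.of_iso (asIso (toSkyStalk E x)).symm
    (inferInstanceAs (Injective ((skyFunctor x).obj ((St x).obj (tilde E)))))

end Spec

end Groth.Agent.Lead.InjShK
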