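import Mathlib
import Groth.Agent.Lead.InjHull3

/-! # Indecomposable injective modules -/

set_option autoImplicit false
universe u

namespace Groth.Agent.Lead.InjHullLib

variable {R : Type u} [CommRing R]

theorem injective_of_maximal_essIn {I : Type u} [AddCommGroup I] [Module R I]
    [Module.Injective R I] {M' E : Submodule R I} (hME : M' ≤ E)
    (hE : Maximal (fun E' => EssIn M' E') E) : Module.Injective R E := by
  apply injective_of_no_essential_extension
  intro E' hEE' hess
  have : EssIn M' E' := by
    refine ⟨hME.trans hEE', fun N hN hN0 => ?_⟩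
    have h1 := hess N hN hN0
    have h2 := hE.prop.2 (N ⊓ E) inf_le_right h1
    intro hbot
    apply h2
    rw [eq_bot_iff, ← hbot]
    exact inf_le_inf_right _ inf_le_left
  exact le_antisymm (hE.le_of_ge this hEE') hEE'

/-- In an indecomposable injective module, every nonzero submodule is essential. -/
theorem inf_ne_bot_of_indecomposable {E : Type u} [AddCommGroup E] [Module R E]
    (hE : InjHull.IsIndecomposable R E) [Module.Injective R E] (N N' : Submodule R E)
    (hN : N ≠ ⊥) (hN' : N' ≠ ⊥) : N ⊓ N' ≠ ⊥ := by
  obtain ⟨H, hNH, hH⟩ := exists_maximal_essIn N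
  have hHinj : Module.Injective R H := injective_of_maximal_essIn hNH hH
  obtain ⟨C, hC⟩ := exists_isCompl_range H.subtype H.injective_subtype
  rw [Submodule.range_subtype] at hC
  have hHtop : H = ⊤ := by
    rcases hE.2 H C hC with h | h
    · exfalso
      apply hN
      rw [eq_bot_iff, ← h]
      exact hNH
    · have := hC.sup_eq_top
      rwa [h, sup_bot_eq] at this
  have := hH.prop.2 N' (hHtop ▸ le_top) hN'
  rwa [inf_comm] at this

end Groth.Agent.Lead.InjHullLib
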