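import Mathlib
import Groth.Agent.Lead.InjShK
import Groth.Agent.Lead.InjShG
import Groth.Agent.Lead.InjShC
import Groth.Agent.Lead.InjShI
import Groth.Agent.Lead.FlatLib1
import Groth.Agent.Helper4.HZshQc
import Groth.Agent.S0306
import Groth.Agent.S0307
import Groth.Prelude.Def_Coh

/-!
# Lead: a quasi-coherent module on a locally Noetherian scheme is injective iff its stalks are
-/

set_option autoImplicit false
universe u
open CategoryTheory CategoryTheory.Limits AlgebraicGeometry Opposite TopologicalSpace

namespace Groth.Agent.Lead.InjShM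

open Groth.Agent.Helper9.SkyMod4

/-- injectivity may be checked on charts (open immersions covering `X`) -/
theorem injective_of_charts {X : Scheme.{u}} (F : X.Modules)
    (hF : ∀ x : X, ∃ (Y : Scheme.{u}) (j : Y ⟶ X) (_ : IsOpenImmersion j),
      x ∈ Set.range j ∧ Injective ((Scheme.Modules.restrictFunctor j).obj F)) :
    Injective F := by
  apply Groth.Agent.Lead.InjShC.injective_of_locally_injective
  intro x
  obtain ⟨Y, j, _, hx, hj⟩ := hF x
  refine ⟨j.opensRange, hx, ?_⟩
  haveI := hj
  have h1 := Groth.Agent.Helper4.HZshQc.injective_restrict j.isoOpensRange.inv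
    ((Scheme.Modules.restrictFunctor j).obj F)
  have e : (Scheme.Modules.restrictFunctor j.opensRange.ι).obj F ≅
      (Scheme.Modules.restrictFunctor j.isoOpensRange.inv).obj
        ((Scheme.Modules.restrictFunctor j).obj F) :=
    (Scheme.Modules.restrictFunctorCongr (j.isoOpensRange_inv_comp).symm).app F ≪≫
      (Scheme.Modules.restrictFunctorComp j.isoOpensRange.inv j).app F
  exact Injective.of_iso e.symm h1

/-- `tilde M` is injective for an injective module over a Noetherian ring (Matlis) -/
theorem injective_tilde_of_injective (R : CommRingCat.{u}) [IsNoetherianRing R]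
    (M : ModuleCat.{u} R) (hM : Module.Injective R M) : Injective (tilde M) := by
  classical
  obtain ⟨ι, E', hint, hE'⟩ := Groth.Agent.S0307.result R M hM
  have hinj : ∀ i, Injective (tilde (ModuleCat.of R (E' i))) := by
    intro i
    obtain ⟨p, hp, g, hg⟩ := Groth.Agent.S0306.result R (E' i) (hE' i).1 (hE' i).2
    apply Groth.Agent.Lead.InjShK.injective_tilde (ModuleCat.of R (E' i)) (⟨p, hp⟩ : Spec R)
      (hE' i).2
    · intro s hs
      exact Groth.Agent.Lead.InjShJ.hull_smul_bijective p g hg s hs
    · intro f hf e
      obtain ⟨n, hn⟩ := Groth.Agent.Lead.InjShJ.hull_powerTorsion p g hg e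
      exact ⟨n, hn _ (Ideal.pow_mem_pow hf n)⟩
  let Z : ι → ModuleCat.{u} R := fun i => ModuleCat.of R (E' i)
  let iso1 : ∐ Z ≅ ModuleCat.of R (DirectSum ι (fun i => E' i)) := ModuleCat.coprodIsoDirectSum Z
  let iso2 : ModuleCat.of R (DirectSum ι (fun i => E' i)) ≅ M :=
    (LinearEquiv.ofBijective (DirectSum.coeLinearMap E') hint).toModuleIso
  let iso3 : (tilde.functor R).obj (∐ Z) ≅ ∐ (fun i => (tilde.functor R).obj (Z i)) :=
    PreservesCoproduct.iso (tilde.functor R) Z
  have h4 : Injective (∐ (fun i => (tilde.functor R).obj (Z i))) :=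
    Groth.Agent.Lead.InjShG.main (fun i => (tilde.functor R).obj (Z i)) (fun i => hinj i)
  have e : tilde M ≅ ∐ (fun i => (tilde.functor R).obj (Z i)) :=
    (tilde.functor R).mapIso (iso2.symm ≪≫ iso1.symm) ≪≫ iso3
  exact Injective.of_iso e.symm h4

/-- injectivity of stalks is invariant under isomorphism -/
theorem stalk_injective_of_iso {X : Scheme.{u}} {F G : X.Modules} (e : F ≅ G) (x : X)
    (h : Module.Injective (X.presheaf.stalk x) (F.presheaf.stalk x)) :
    Module.Injective (X.presheaf.stalk x) (G.presheaf.stalk x) := by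
  haveI := h
  haveI : Injective ((St x).obj F) :=
    Module.injective_object_of_injective_module (R := X.presheaf.stalk x)
      (M := F.presheaf.stalk x)
  haveI : Injective (ModuleCat.of (X.presheaf.stalk x) (G.presheaf.stalk x)) :=
    Injective.of_iso ((St x).mapIso e) (inferInstanceAs (Injective ((St x).obj F)))
  exact Module.injective_module_of_injective_object (X.presheaf.stalk x) (G.presheaf.stalk x)

/-- the affine case -/
theorem injective_of_stalks_spec (R : CommRingCat.{u}) [IsNoetherianRing R]
    (G : (Spec R).Modules) [G.IsQuasicoherent]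
    (h : ∀ x : Spec R, Module.Injective ((Spec R).presheaf.stalk x) (G.presheaf.stalk x)) :
    Injective G := by
  haveI : IsIso G.fromTildeΓ := Scheme.Modules.isIso_fromTildeΓ_of_isQuasicoherent G
  let e : tilde ((modulesSpecToSheaf.obj G).presheaf.obj (.op ⊤)) ≅ G := asIso G.fromTildeΓ
  set M : ModuleCat.{u} R := (modulesSpecToSheaf.obj G).presheaf.obj (.op ⊤) with hMdef
  have h' : ∀ x : Spec R, Module.Injective ((Spec R).presheaf.stalk x)
      ((tilde M).presheaf.stalk x) := fun x => stalk_injective_of_iso e.symm x (h x)
  have hM : Module.Injective R M := by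
    apply Groth.Agent.Lead.InjShJ.injective_of_local
    intro p
    exact ⟨(Spec R).presheaf.stalk p, inferInstance, Groth.Agent.Lead.InjShK.algStalk p,
      Groth.Agent.Lead.InjShK.locStalk p, (tilde M).presheaf.stalk p, inferInstance,
      inferInstance, inferInstance, Groth.Agent.Lead.InjShK.towerStalk M p,
      (tilde.toStalk M p).hom, inferInstance, h' p⟩
  exact Injective.of_iso e (injective_tilde_of_injective R M hM)

/-- stalks of a restriction along an open immersion -/
theorem stalk_injective_restrict {X Z : Scheme.{u}} (j : Z ⟶ X) [IsOpenImmersion j]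
    (F : X.Modules) (z : Z)
    (h : Module.Injective (X.presheaf.stalk (j z)) (F.presheaf.stalk (j z))) :
    Module.Injective (Z.presheaf.stalk z)
      (((Scheme.Modules.restrictFunctor j).obj F).presheaf.stalk z) := by
  haveI := h
  let σ : X.presheaf.stalk (j z) ≃+* Z.presheaf.stalk z :=
    (asIso (j.stalkMap z)).commRingCatIsoToRingEquiv
  let hh : ((Scheme.Modules.restrictFunctor j).obj F).presheaf.stalk z ≃+
      F.presheaf.stalk (j z) :=
    AddEquiv.ofBijective (Groth.Agent.Lead.FlatLib.rsHom j F z)
      (Groth.Agent.Lead.FlatLib.rsHom_bijective j F z)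
  have hsm : ∀ (r : X.presheaf.stalk (j z)) (n : F.presheaf.stalk (j z)),
      hh.symm (r • n) = σ r • hh.symm n := by
    intro r n
    apply hh.injective
    rw [AddEquiv.apply_symm_apply]
    have := Groth.Agent.Lead.FlatLib.rsHom_smul j F z r (hh.symm n)
    change hh (_ • hh.symm n) = r • hh (hh.symm n) at this
    rw [AddEquiv.apply_symm_apply] at this
    exact this.symm
  letI : RingHomInvPair (RingHomClass.toRingHom σ) (RingHomClass.toRingHom σ.symm) :=
    RingHomInvPair.of_ringEquiv σ
  letI : RingHomInvPair (RingHomClass.toRingHom σ.symm) (RingHomClass.toRingHom σ) :=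
    RingHomInvPair.symm _ _
  let e₂ : F.presheaf.stalk (j z) ≃ₛₗ[RingHomClass.toRingHom σ]
      ((Scheme.Modules.restrictFunctor j).obj F).presheaf.stalk z :=
    { toFun := hh.symm
      map_add' := map_add hh.symm
      map_smul' := hsm
      invFun := hh
      left_inv := hh.apply_symm_apply
      right_inv := hh.symm_apply_apply }
  exact Module.Injective.of_ringEquiv σ e₂

/-- **a quasi-coherent module on a locally Noetherian scheme is injective iff its stalks are** -/
theorem main {X : Scheme.{u}} [IsLocallyNoetherian X]
    (F : X.Modules) (hF : Coh.IsQCoh F) :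
    Injective F ↔ ∀ x : X, Module.Injective (X.presheaf.stalk x) (F.presheaf.stalk x) := by
  constructor
  · intro hI x
    haveI := hI
    exact Groth.Agent.Lead.InjShI.stalk_injective F x
  · intro h
    haveI : F.IsQuasicoherent := hF
    apply injective_of_charts
    intro x
    obtain ⟨U, hU, hxU, -⟩ := Opens.isBasis_iff_nbhd.1 X.isBasis_affineOpens
      (show x ∈ (⊤ : X.Opens) from trivial)
    haveI : IsNoetherianRing Γ(X, U) := IsLocallyNoetherian.component_noetherian ⟨U, hU⟩
    refine ⟨Spec Γ(X, U), hU.fromSpec, inferInstance, ?_, ?_⟩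
    · rw [hU.range_fromSpec]
      exact hxU
    · haveI : ((Scheme.Modules.restrictFunctor hU.fromSpec).obj F).IsQuasicoherent :=
        Scheme.Modules.isQuasicoherent_restrictFunctor hU.fromSpec F
      apply injective_of_stalks_spec Γ(X, U)
      intro y
      exact stalk_injective_restrict hU.fromSpec F y (h _)

end Groth.Agent.Lead.InjShM
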