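import Mathlib
import Groth.Prelude.Def_Coh
import Groth.Prelude.Def_ClSub2
import Groth.Prelude.Def_RefHull
import Groth.Agent.S0019
import Groth.Agent.Helper1.SerreFin1
import Groth.Agent.Helper4.TensorInv
import Groth.Agent.Helper4.EpiStalk
import Groth.Agent.Lead.QuotSeq

set_option autoImplicit false
universe u
open CategoryTheory CategoryTheory.Limits AlgebraicGeometry TopologicalSpace Opposite

namespace Groth.Agent.Lead.InjShO

variable {X : Scheme.{u}} [IsLocallyNoetherian X] (x : X) (𝔞 : Ideal (X.presheaf.stalk x))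

/-- `Spec (O_{X,x}/𝔞) ⟶ X`. -/
noncomputable def fQ : Spec (CommRingCat.of (X.presheaf.stalk x ⧸ 𝔞)) ⟶ X :=
  Spec.map (CommRingCat.ofHom (Ideal.Quotient.mk 𝔞)) ≫ X.fromSpecStalk x

instance : IsNoetherianRing (CommRingCat.of (X.presheaf.stalk x ⧸ 𝔞)) :=
  inferInstanceAs (IsNoetherianRing (X.presheaf.stalk x ⧸ 𝔞))

instance : QuasiCompact (fQ x 𝔞) := quasiCompact_of_noetherianSpace_source _

/-- the scheme-theoretic image ideal of `Spec (O_{X,x}/𝔞) ⟶ X`. -/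
noncomputable def J : X.IdealSheafData := (fQ x 𝔞).ker

theorem preimage_eq_top (U : X.Opens) (hx : x ∈ U) : (fQ x 𝔞) ⁻¹ᵁ U = ⊤ := by
  rw [eq_top_iff]
  intro z _
  show (fQ x 𝔞) z ∈ U
  have h1 : (fQ x 𝔞) z ∈ Set.range (X.fromSpecStalk x) := by
    rw [fQ, Scheme.Hom.comp_apply]
    exact ⟨_, rfl⟩
  rw [Scheme.range_fromSpecStalk] at h1
  exact (h1 : _ ⤳ x).mem_open U.2 hx

theorem app_eq_zero_iff (U : X.Opens) (hx : x ∈ U) (b : Γ(X, U)) :
    (fQ x 𝔞).app U b = 0 ↔ X.presheaf.germ U x hx b ∈ 𝔞 := by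
  have h2 : (Spec.map (CommRingCat.ofHom (Ideal.Quotient.mk 𝔞))).app (X.fromSpecStalk x ⁻¹ᵁ U)
        ((X.fromSpecStalk x).app U b) =
      (Spec (CommRingCat.of (X.presheaf.stalk x ⧸ 𝔞))).presheaf.map
        (homOfLE (le_top : (Spec.map (CommRingCat.ofHom (Ideal.Quotient.mk 𝔞))) ⁻¹ᵁ
          (X.fromSpecStalk x ⁻¹ᵁ U) ≤ ⊤)).op
        ((Scheme.ΓSpecIso (CommRingCat.of (X.presheaf.stalk x ⧸ 𝔞))).inv
          ((Ideal.Quotient.mk 𝔞) (X.presheaf.germ U x hx b))) := by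
    rw [Scheme.fromSpecStalk_app hx]
    have h := Scheme.ΓSpecIso_inv_naturality (CommRingCat.ofHom (Ideal.Quotient.mk 𝔞))
    have h3 := congr($h (X.presheaf.germ U x hx b))
    have h4 := congr($(Scheme.Hom.naturality (Spec.map (CommRingCat.ofHom (Ideal.Quotient.mk 𝔞)))
      (homOfLE (le_top : X.fromSpecStalk x ⁻¹ᵁ U ≤ ⊤)).op)
      ((Scheme.ΓSpecIso (X.presheaf.stalk x)).inv (X.presheaf.germ U x hx b)))
    simp only [CommRingCat.hom_comp, RingHom.comp_apply] at h3 h4 ⊢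
    erw [h4, ← h3]
    rfl
  change (Spec.map (CommRingCat.ofHom (Ideal.Quotient.mk 𝔞))).app (X.fromSpecStalk x ⁻¹ᵁ U)
        ((X.fromSpecStalk x).app U b) = 0 ↔ _
  rw [h2]
  have hinj : Function.Injective
      ((Spec (CommRingCat.of (X.presheaf.stalk x ⧸ 𝔞))).presheaf.map
        (homOfLE (le_top : (fQ x 𝔞) ⁻¹ᵁ U ≤ ⊤)).op) := by
    have hiso : IsIso (homOfLE (le_top : (fQ x 𝔞) ⁻¹ᵁ U ≤ ⊤)) := by
      refine ⟨homOfLE (by rw [preimage_eq_top x 𝔞 U hx]), rfl, rfl⟩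
    have : IsIso ((Spec (CommRingCat.of (X.presheaf.stalk x ⧸ 𝔞))).presheaf.map
        (homOfLE (le_top : (fQ x 𝔞) ⁻¹ᵁ U ≤ ⊤)).op) := inferInstance
    exact (ConcreteCategory.bijective_of_isIso _).1
  have hinj2 : Function.Injective
      (Scheme.ΓSpecIso (CommRingCat.of (X.presheaf.stalk x ⧸ 𝔞))).inv :=
    (ConcreteCategory.bijective_of_isIso _).1
  constructor
  · intro h
    have h' := hinj (h.trans (map_zero _).symm)
    have h'' := hinj2 (h'.trans (map_zero _).symm)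
    exact Ideal.Quotient.eq_zero_iff_mem.mp h''
  · intro h
    have h0 : (Ideal.Quotient.mk 𝔞) (X.presheaf.germ U x hx b) = 0 :=
      Ideal.Quotient.eq_zero_iff_mem.mpr h
    rw [h0, map_zero, map_zero]

theorem mem_ideal_iff (U : X.affineOpens) (hx : x ∈ U.1) (b : Γ(X, U.1)) :
    b ∈ (J x 𝔞).ideal U ↔ X.presheaf.germ U.1 x hx b ∈ 𝔞 := by
  rw [J, Scheme.Hom.ker_apply, RingHom.mem_ker]
  exact app_eq_zero_iff x 𝔞 U.1 hx b

open Groth.Agent.Helper1.IdealMod (fn ofFn)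
open Groth.Agent.Lead.LefConn (mod_app_res)

/-- the coherent module `O_X / J`. -/
noncomputable abbrev G : X.Modules := ClSub.quotMod (J x 𝔞)

/-- the quotient map `O_X ⟶ O_X / J`. -/
noncomputable abbrev σ : Coh.structureModule X ⟶ G x 𝔞 := ClSub.toSubscheme (J x 𝔞)

theorem isCoh_G : Coh.IsCoh (G x 𝔞) :=
  Groth.Agent.S0019.result (J x 𝔞).subschemeι _
    (Groth.Agent.Helper1.SerreFin.isCoh_of_isInvertible _
      Groth.Agent.Helper4.TensorInv.isInvertible_structureModule)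

/-- the generator of the stalk `(O_X / J)_x`. -/
noncomputable def γ : (G x 𝔞).presheaf.stalk x :=
  RefHull.stalkMapₗ (σ x 𝔞) x
    ((Coh.structureModule X).presheaf.germ ⊤ x trivial (ofFn (1 : Γ(X, ⊤))))

theorem germ_ofFn_eq (W : X.Opens) (hx : x ∈ W) (b : Γ(X, W)) :
    (Coh.structureModule X).presheaf.germ W x hx (ofFn b) =
      X.presheaf.germ W x hx b •
        (Coh.structureModule X).presheaf.germ ⊤ x trivial (ofFn (1 : Γ(X, ⊤))) := by
  have h1 : (Coh.structureModule X).presheaf.germ ⊤ x trivial (ofFn (1 : Γ(X, ⊤))) =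
      (Coh.structureModule X).presheaf.germ W x hx (ofFn (1 : Γ(X, W))) := by
    rw [← TopCat.Presheaf.germ_res_apply (Coh.structureModule X).presheaf
      (homOfLE (le_top : W ≤ ⊤)) x hx]
    congr 1
    exact map_one (X.presheaf.map (homOfLE (le_top : W ≤ ⊤)).op).hom
  rw [h1, ← Mero.germ_smul]
  congr 1
  exact (mul_one b).symm

theorem smul_γ (W : X.Opens) (hx : x ∈ W) (b : Γ(X, W)) :
    X.presheaf.germ W x hx b • γ x 𝔞 =
      (G x 𝔞).presheaf.germ W x hx ((σ x 𝔞).app W (ofFn b)) := by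
  rw [γ, ← map_smul, ← germ_ofFn_eq, RefHull.stalkMapₗ_germ]

theorem smul_γ_eq_zero_iff (r : X.presheaf.stalk x) : r • γ x 𝔞 = 0 ↔ r ∈ 𝔞 := by
  obtain ⟨U, hxU, b, rfl⟩ := TopCat.Presheaf.exists_germ_eq X.presheaf r
  constructor
  · intro h
    rw [smul_γ] at h
    obtain ⟨V, hxV, iU, _iV, hV⟩ := TopCat.Presheaf.germ_eq (G x 𝔞).presheaf x hxU hxU
      ((σ x 𝔞).app U (ofFn b)) 0 (by rw [h, map_zero])
    rw [map_zero] at hV
    obtain ⟨W, hxW, hle⟩ := Groth.Agent.Lead.QuotSeq.exists_affine_nhd hxV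
    have h2 : (σ x 𝔞).app W.1 (ofFn (X.presheaf.map (homOfLE (hle.trans iU.le)).op b)) = 0 := by
      have h3 := congr((G x 𝔞).presheaf.map (homOfLE hle).op $hV)
      rw [map_zero] at h3
      rw [← h3]
      have h4 := mod_app_res (σ x 𝔞) (hle.trans iU.le) (ofFn b)
      have h5 : (homOfLE (hle.trans iU.le)).op = iU.op ≫ (homOfLE hle).op := rfl
      exact h4.symm.trans (by
        rw [h5, Functor.map_comp]
        rfl)
    rw [Groth.Agent.Lead.QuotSeq.toSub_eq_zero_iff, mem_ideal_iff x 𝔞 W hxW,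
      TopCat.Presheaf.germ_res_apply] at h2
    exact h2
  · intro h
    obtain ⟨W, hxW, hle⟩ := Groth.Agent.Lead.QuotSeq.exists_affine_nhd hxU
    rw [← TopCat.Presheaf.germ_res_apply X.presheaf (homOfLE hle) x hxW] at h ⊢
    rw [smul_γ, (Groth.Agent.Lead.QuotSeq.toSub_eq_zero_iff (J x 𝔞) W _).mpr
      ((mem_ideal_iff x 𝔞 W hxW _).mpr h), map_zero]

theorem exists_smul_γ_eq (g : (G x 𝔞).presheaf.stalk x) : ∃ r : X.presheaf.stalk x, r • γ x 𝔞 = g := by
  haveI : Epi (σ x 𝔞) := Groth.Agent.Lead.QuotSeq.epi_toSubscheme (J x 𝔞)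
  obtain ⟨m, hm⟩ := Groth.Agent.Helper4.EpiStalk.stalkLin_surjective_of_epi (σ x 𝔞) x g
  obtain ⟨U, hxU, s, rfl⟩ := TopCat.Presheaf.exists_germ_eq (Coh.structureModule X).presheaf m
  refine ⟨X.presheaf.germ U x hxU (fn s), ?_⟩
  rw [smul_γ, ← hm]
  exact (RefHull.stalkMapₗ_germ (σ x 𝔞) x hxU s).symm

/-- every element of an `O_{X,x}`-module killed by `𝔞` is the image of the generator `γ` under a
linear map from the stalk `(O_X/J)_x`. -/
theorem exists_lin {M : Type*} [AddCommGroup M] [Module (X.presheaf.stalk x) M] (m : M)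
    (hm : ∀ a ∈ 𝔞, a • m = 0) :
    ∃ l : (G x 𝔞).presheaf.stalk x →ₗ[X.presheaf.stalk x] M, l (γ x 𝔞) = m := by
  let f : X.presheaf.stalk x →ₗ[X.presheaf.stalk x] (G x 𝔞).presheaf.stalk x :=
    LinearMap.toSpanSingleton _ _ (γ x 𝔞)
  have hf : Function.Surjective f := fun g => by
    obtain ⟨r, hr⟩ := exists_smul_γ_eq x 𝔞 g
    exact ⟨r, hr⟩
  let g : X.presheaf.stalk x →ₗ[X.presheaf.stalk x] M := LinearMap.toSpanSingleton _ _ m
  have hle : LinearMap.ker f ≤ LinearMap.ker g := by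
    intro r hr
    rw [LinearMap.mem_ker] at hr ⊢
    exact hm r ((smul_γ_eq_zero_iff x 𝔞 r).mp hr)
  refine ⟨(LinearMap.ker f).liftQ g hle ∘ₗ (f.quotKerEquivOfSurjective hf).symm.toLinearMap, ?_⟩
  have h1 : (f.quotKerEquivOfSurjective hf).symm (γ x 𝔞) = Submodule.Quotient.mk 1 := by
    rw [LinearEquiv.symm_apply_eq, LinearMap.quotKerEquivOfSurjective_apply_mk]
    exact (one_smul _ _).symm
  rw [LinearMap.comp_apply, LinearEquiv.coe_coe, h1, Submodule.liftQ_apply]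
  exact one_smul _ _

end Groth.Agent.Lead.InjShO
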