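import Mathlib
import Groth.Agent.Helper1.PicLoc4
import Groth.Agent.Helper1.QU5
import Groth.Agent.S0020
import Groth.Agent.Lead.PerfLib5

/-!
# FibLiftB: Nakayama along the closed fibre (proper over a local base): a morphism to a
coherent module which is an epimorphism on the closed fibre is an epimorphism
-/

set_option autoImplicit false
set_option linter.style.haveILetI false
universe u
open CategoryTheory CategoryTheory.Limits AlgebraicGeometry TopologicalSpace Opposite TensorProduct

namespace Groth.Agent.Lead.FibLift

open Scheme.Modules Groth.Agent.Helper1.Form Groth.Agent.Helper1.PicLoc Groth.Agent.Helper4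

/-- pointwise Nakayama: a finite type module whose pullback along `j` vanishes has zero stalks
along the image of `j` -/
theorem subsingleton_stalk_of_isZero_pullback {X Y : Scheme.{u}} (C : X.Modules)
    [C.IsQuasicoherent] (hC : SheafOfModules.IsFiniteType (R := X.ringCatSheaf) C) (j : Y ⟶ X)
    (h : IsZero ((Scheme.Modules.pullback j).obj C)) (z : Y) :
    Subsingleton (C.presheaf.stalk (j z)) := by
  letI alg : Algebra (X.presheaf.stalk (j z)) (Y.presheaf.stalk z) :=
    (j.stalkMap z).hom.toAlgebra
  obtain ⟨E⟩ := Groth.Agent.Lead.StalkPull.nonempty_stalk_pullback_equiv j C z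
  haveI : Subsingleton (((Scheme.Modules.pullback j).obj C).presheaf.stalk z) :=
    Groth.Agent.Helper4.SuppLib.subsingleton_stalk_of_isZero _ h z
  haveI : Subsingleton ((Y.presheaf.stalk z) ⊗[X.presheaf.stalk (j z)]
      (C.presheaf.stalk (j z))) := E.symm.toEquiv.subsingleton
  haveI : IsLocalHom (algebraMap (X.presheaf.stalk (j z)) (Y.presheaf.stalk z)) :=
    inferInstanceAs (IsLocalHom (j.stalkMap z).hom)
  haveI : Module.Finite (X.presheaf.stalk (j z)) (C.presheaf.stalk (j z)) :=
    Groth.Agent.Helper4.FinLocFree2.finite_stalk C hC (j z)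
  exact Groth.Agent.Helper2.ATate.subsingleton_of_subsingleton_tensor
    (X.presheaf.stalk (j z)) (Y.presheaf.stalk z) (C.presheaf.stalk (j z)) inferInstance

section Main

variable (A : Type u) [CommRing A] [IsLocalRing A]
  (X : Scheme.{u}) [X.Over (Spec (CommRingCat.of A))]
  [IsProper (X ↘ Spec (CommRingCat.of A))]
  {X₀ : Scheme.{u}} {i : X₀ ⟶ X}
  {f₀ : X₀ ⟶ Spec (CommRingCat.of (A ⧸ IsLocalRing.maximalIdeal A))}
  (hsq : IsPullback i f₀ (X ↘ Spec (CommRingCat.of A))
    (Spec.map (CommRingCat.ofHom (Ideal.Quotient.mk (IsLocalRing.maximalIdeal A)))))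

include hsq in
/-- a finite type module whose stalks along the closed fibre vanish is zero -/
theorem isZero_of_subsingleton_stalk (C : X.Modules) [C.IsQuasicoherent]
    (hC : SheafOfModules.IsFiniteType (R := X.ringCatSheaf) C)
    (h : ∀ z : X₀, Subsingleton (C.presheaf.stalk (i z))) : IsZero C := by
  apply Groth.Agent.Helper1.Dev.isZero_of_forall_subsingleton
  by_contra hcon
  rw [not_forall] at hcon
  obtain ⟨x, hx⟩ := hcon
  have hD : IsClosed (CohB1.support C) := Groth.Agent.S0020.result X C hC
  have hne : (CohB1.support C).Nonempty := ⟨x, hx⟩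
  obtain ⟨y, hyD, hy⟩ := Groth.Agent.Helper1.HensCouple.exists_mem_of_isClosed A
    (IsLocalRing.maximalIdeal A) (IsLocalRing.maximalIdeal_le_jacobson ⊥)
    (X ↘ Spec (CommRingCat.of A))
    (MorphismProperty.universally_le (P := topologically @IsClosedMap) _
      (IsProper.toUniversallyClosed (f := X ↘ Spec (CommRingCat.of A))).universally_isClosedMap)
    _ hD hne
  have hy2 : y ∈ Set.range i := by
    rw [range_of_isPullback hsq, Groth.Agent.Helper1.HensCouple.range_specMap_mk]
    exact hy
  obtain ⟨y₀, rfl⟩ := hy2
  exact hyD (h y₀)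

include hsq in
/-- a finite type module vanishing on the closed fibre is zero -/
theorem isZero_of_isZero_pullback (C : X.Modules) [C.IsQuasicoherent]
    (hC : SheafOfModules.IsFiniteType (R := X.ringCatSheaf) C)
    (h : IsZero ((Scheme.Modules.pullback i).obj C)) : IsZero C :=
  isZero_of_subsingleton_stalk A X hsq C hC
    (fun y₀ => subsingleton_stalk_of_isZero_pullback C hC i h y₀)

include hsq in
/-- **Nakayama along the closed fibre** -/
theorem epi_of_epi_pullback {M N : X.Modules} [M.IsQuasicoherent] [N.IsQuasicoherent]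
    (hN : SheafOfModules.IsFiniteType (R := X.ringCatSheaf) N) (β : M ⟶ N)
    (h : Epi ((Scheme.Modules.pullback i).map β)) : Epi β := by
  haveI hq : (cokernel β).IsQuasicoherent :=
    Groth.Agent.Helper4.QcohLimits.isQuasicoherent_cokernel β
  have hepi : Epi (cokernel.π β) := coequalizer.π_epi
  have hft : SheafOfModules.IsFiniteType (R := X.ringCatSheaf) (cokernel β) :=
    @Groth.Agent.Helper4.QcohEpi.isFiniteType_of_epi _ _ _ (cokernel.π β) hepi _ hq hN
  have hz : IsZero (cokernel β) := by
    apply isZero_of_isZero_pullback A X hsq (cokernel β) hft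
    haveI := h
    haveI : PreservesColimitsOfSize.{0, 0} (Scheme.Modules.pullback i) :=
      (Scheme.Modules.pullbackPushforwardAdjunction i).leftAdjoint_preservesColimits
    have e : (Scheme.Modules.pullback i).obj (cokernel β) ≅
        cokernel ((Scheme.Modules.pullback i).map β) :=
      PreservesCokernel.iso (Scheme.Modules.pullback i) β
    exact IsZero.of_iso (isZero_cokernel_of_epi _) e
  exact Preadditive.epi_of_isZero_cokernel β hz

end Main

end Groth.Agent.Lead.FibLift
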