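import Mathlib
import Groth.Agent.Lead.LiftPow1

/-!
Lifting powers of functions along square-zero thickenings: the Čech argument.
-/

set_option autoImplicit false
open CategoryTheory AlgebraicGeometry TopologicalSpace Opposite
universe u

namespace Groth.Agent.Lead.LiftPow

section Wrappers
variable {X : Scheme.{u}}

theorem exists_eq_pow_mul (U : X.Opens) (hU : IsAffineOpen U) (f : Γ(X, U))
    (x : Γ(X, X.basicOpen f)) :
    ∃ (n : ℕ) (y : Γ(X, U)), res (X.basicOpen_le f) y = (res (X.basicOpen_le f) f) ^ n * x :=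
  exists_eq_pow_mul_of_isAffineOpen X U hU f x

theorem exists_pow_mul_eq_zero {U : X.Opens} (hU : IsCompact U.1) (x f : Γ(X, U))
    (H : res (X.basicOpen_le f) x = 0) : ∃ n : ℕ, f ^ n * x = 0 :=
  exists_pow_mul_eq_zero_of_res_basicOpen_eq_zero_of_isCompact X hU x f H

theorem exists_pow_mul_eq_zero' {U O : X.Opens} (hU : IsCompact U.1) (x f : Γ(X, U))
    (hO : O = X.basicOpen f) (hOU : O ≤ U)
    (H : res hOU x = 0) : ∃ n : ℕ, f ^ n * x = 0 := by
  subst hO
  exact exists_pow_mul_eq_zero hU x f H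

end Wrappers


section Main
variable {Z X : Scheme.{u}} (i : Z ⟶ X) [IsClosedImmersion i]

/-- the restriction of a global function on `Z` to the preimage of an open of `X` -/
noncomputable abbrev gR (g : Γ(Z, ⊤)) (U : X.Opens) : Γ(Z, i ⁻¹ᵁ U) := res le_top g

omit [IsClosedImmersion i] in
theorem gR_res (g : Γ(Z, ⊤)) {U V : X.Opens} (h' : i ⁻¹ᵁ U ≤ i ⁻¹ᵁ V) :
    res h' (gR i g V) = gR i g U := res_res _ _ _

set_option maxHeartbeats 1600000 in
theorem exists_lift_pow [CompactSpace X] [QuasiSeparatedSpace X] (hs : Function.Surjective i)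
    (hsq : ∀ U : X.Opens, ∀ a ∈ J i U, ∀ b ∈ J i U, a * b = 0)
    (g : Γ(Z, ⊤)) (W : X.Opens) (hW : IsAffineOpen W) (hWg : i ⁻¹ᵁ W = Z.basicOpen g) :
    ∃ (M : ℕ) (r : Γ(X, ⊤)), 0 < M ∧ i.appTop.hom r = g ^ M := by
  classical
  -- a finite affine cover
  obtain ⟨s, hscov⟩ := isCompact_univ.elim_finite_subcover
    (fun V : X.affineOpens => (V.1 : Set X)) (fun V => V.1.isOpen) (by
      intro x _
      obtain ⟨_, ⟨V, hV : IsAffineOpen V, rfl⟩, hxV, -⟩ :=
        X.isBasis_affineOpens.exists_subset_of_mem_open (Set.mem_univ x) isOpen_univ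
      exact Set.mem_iUnion.2 ⟨⟨V, hV⟩, hxV⟩)
  let V : s → X.Opens := fun k => k.1.1
  have hV : ∀ k, IsAffineOpen (V k) := fun k => k.1.2
  have hcover : (⊤ : X.Opens) ≤ iSup V := by
    intro x _
    obtain ⟨U, hU, hxU⟩ := Set.mem_iUnion₂.1 (hscov (Set.mem_univ x))
    exact Opens.mem_iSup.2 ⟨⟨U, hU⟩, hxU⟩
  -- local lifts
  have hlift : ∀ k, ∃ f : Γ(X, V k), (i.app (V k)).hom f = gR i g (V k) :=
    fun k => i.app_surjective (V k) (hV k) _
  choose f hf using hlift
  obtain ⟨h, hh⟩ : ∃ h : Γ(X, W), (i.app W).hom h = gR i g W := i.app_surjective W hW _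
  -- basic opens
  have hbo : ∀ k, X.basicOpen (f k) = V k ⊓ W := by
    intro k
    apply preimage_injective i hs
    rw [Scheme.preimage_basicOpen]
    change Z.basicOpen ((i.app (V k)).hom (f k)) = _
    rw [hf k]
    change Z.basicOpen (Z.presheaf.map (homOfLE le_top).op g) = _
    rw [Scheme.basicOpen_res, ← hWg]
    rfl
  have hboV : ∀ k, X.basicOpen (f k) ≤ V k := fun k => X.basicOpen_le _
  have hboW : ∀ k, X.basicOpen (f k) ≤ W := fun k => by rw [hbo k]; exact inf_le_right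
  -- the difference on the basic open
  obtain ⟨b, hbdef⟩ : ∃ b : ∀ k, Γ(X, X.basicOpen (f k)),
      ∀ k, b k = res (hboV k) (f k) - res (hboW k) h := ⟨_, fun _ => rfl⟩
  have hb : ∀ k, b k ∈ J i (X.basicOpen (f k)) := by
    intro k
    rw [hbdef k, RingHom.mem_ker, map_sub, app_res, app_res, hf k, hh, gR_res, gR_res, sub_self]
  -- step 5
  have step5 : ∀ k, ∃ (n : ℕ) (a : Γ(X, V k)), a ∈ J i (V k) ∧
      res (hboV k) a = (res (hboV k) (f k)) ^ n * b k := by
    intro k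
    obtain ⟨n, y, hy⟩ := exists_eq_pow_mul (V k) (hV k) (f k) (b k)
    have hO : i ⁻¹ᵁ X.basicOpen (f k) = Z.basicOpen ((i.app (V k)).hom (f k)) :=
      Scheme.preimage_basicOpen i (f k)
    have hz : res (i.preimage_mono (hboV k)) ((i.app (V k)).hom y) = 0 := by
      rw [← app_res i (hboV k), hy, map_mul, (RingHom.mem_ker).1 (hb k), mul_zero]
    obtain ⟨n', hn'⟩ := exists_pow_mul_eq_zero' (X := Z) ((hV k).preimage i).isCompact
      ((i.app (V k)).hom y) ((i.app (V k)).hom (f k)) hO (i.preimage_mono (hboV k)) hz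
    refine ⟨n' + n, (f k) ^ n' * y, ?_, ?_⟩
    · rw [RingHom.mem_ker, map_mul, map_pow]
      exact hn'
    · rw [map_mul, map_pow, hy, pow_add, mul_assoc]
  choose n a ha1 ha2 using step5
  let N : ℕ := Finset.univ.sup n
  have hnN : ∀ k, n k ≤ N := fun k => Finset.le_sup (Finset.mem_univ k)
  obtain ⟨a', ha'1, ha'2⟩ : ∃ a' : ∀ k, Γ(X, V k), (∀ k, a' k ∈ J i (V k)) ∧
      ∀ k, res (hboV k) (a' k) = (res (hboV k) (f k)) ^ N * b k := by
    refine ⟨fun k => (f k) ^ (N - n k) * a k, fun k => (J i (V k)).mul_mem_left _ (ha1 k), ?_⟩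
    intro k
    change res (hboV k) ((f k) ^ (N - n k) * a k) = _
    rw [map_mul, map_pow, ha2 k, ← mul_assoc, ← pow_add, Nat.sub_add_cancel (hnN k)]
  -- step 6/7
  have hcompact : ∀ k l, IsCompact ((V k ⊓ V l : X.Opens) : Set X) := fun k l =>
    QuasiSeparatedSpace.inter_isCompact _ _ (V k).2 (hV k).isCompact (V l).2 (hV l).isCompact
  have step7 : ∀ k l, ∃ n' : ℕ,
      (res (inf_le_left : V k ⊓ V l ≤ V k) (f k)) ^ n' *
        (res (inf_le_left : V k ⊓ V l ≤ V k) (a' k) - res (inf_le_right : V k ⊓ V l ≤ V l) (a' l) -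
          (res (inf_le_left : V k ⊓ V l ≤ V k) (f k)) ^ N *
            (res (inf_le_left : V k ⊓ V l ≤ V k) (f k) -
              res (inf_le_right : V k ⊓ V l ≤ V l) (f l))) = 0 := by
    intro k l
    set x := res (inf_le_left : V k ⊓ V l ≤ V k) (f k) with hx
    set y := res (inf_le_right : V k ⊓ V l ≤ V l) (f l) with hy
    have hO : (V k ⊓ V l) ⊓ X.basicOpen (f k) = X.basicOpen x := (Scheme.basicOpen_res _ _ _).symm
    have hOkl : (V k ⊓ V l) ⊓ X.basicOpen (f k) ≤ V k ⊓ V l := inf_le_left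
    have hOk : (V k ⊓ V l) ⊓ X.basicOpen (f k) ≤ X.basicOpen (f k) := inf_le_right
    have hOl : (V k ⊓ V l) ⊓ X.basicOpen (f k) ≤ X.basicOpen (f l) := by
      rw [hbo k, hbo l]
      exact le_inf (inf_le_left.trans inf_le_right) (inf_le_right.trans inf_le_right)
    have hOW : (V k ⊓ V l) ⊓ X.basicOpen (f k) ≤ W := hOk.trans (hboW k)
    refine exists_pow_mul_eq_zero' (hcompact k l) _ x hO hOkl ?_
    set O := (V k ⊓ V l) ⊓ X.basicOpen (f k) with hOdef
    -- restrictions to O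
    set x' := res (hOk.trans (hboV k)) (f k) with hx'
    set y' := res (hOl.trans (hboV l)) (f l) with hy'
    set η := res hOW h with hη
    have e1 : res hOkl x = x' := res_res _ _ _
    have e2 : res hOkl y = y' := res_res _ _ _
    have e3 : res hOkl (res (inf_le_left : V k ⊓ V l ≤ V k) (a' k)) = x' ^ N * (x' - η) := by
      rw [res_res, ← res_res hOk (hboV k), ha'2 k, map_mul, map_pow, res_res, hbdef k,
        map_sub, res_res, res_res]
    have e4 : res hOkl (res (inf_le_right : V k ⊓ V l ≤ V l) (a' l)) = y' ^ N * (y' - η) := by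
      rw [res_res, ← res_res hOl (hboV l), ha'2 l, map_mul, map_pow, res_res, hbdef l,
        map_sub, res_res, res_res]
    rw [map_sub, map_sub, map_mul, map_pow, map_sub, e1, e2, e3, e4]
    refine lemmaB (J i O) (hsq O) ?_ ?_ N
    · rw [RingHom.mem_ker, map_sub, app_res, app_res, hf k, hh, gR_res, gR_res, sub_self]
    · rw [RingHom.mem_ker, map_sub, app_res, app_res, hf l, hh, gR_res, gR_res, sub_self]
  choose n' hn' using step7
  let N' : ℕ := Finset.univ.sup fun kl : s × s => n' kl.1 kl.2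
  have hnN' : ∀ k l, n' k l ≤ N' := fun k l =>
    Finset.le_sup (f := fun kl : s × s => n' kl.1 kl.2) (Finset.mem_univ (k, l))
  -- the corrected powers
  let M : ℕ := N + N' + 1
  obtain ⟨r, hrdef⟩ : ∃ r : ∀ k, Γ(X, V k),
      ∀ k, r k = (f k) ^ M - ((M : ℕ) : Γ(X, V k)) * ((f k) ^ N' * a' k) := ⟨_, fun _ => rfl⟩
  have hcompat : TopCat.Presheaf.IsCompatible X.presheaf V r := by
    intro k l
    change res (inf_le_left : V k ⊓ V l ≤ V k) (r k) = res (inf_le_right : V k ⊓ V l ≤ V l) (r l)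
    rw [hrdef k, hrdef l, map_sub, map_sub, map_mul, map_mul, map_mul, map_mul, map_pow, map_pow, map_pow, map_pow,
      map_natCast, map_natCast]
    refine lemmaA (J i (V k ⊓ V l)) (hsq _) ?_ (res_mem_J i _ (ha'1 l)) N N' ?_
    · rw [RingHom.mem_ker, map_sub, app_res, app_res, hf k, hf l, gR_res, gR_res, sub_self]
    · have := hn' k l
      rw [← Nat.sub_add_cancel (hnN' k l), pow_add, mul_assoc, this, mul_zero]
  obtain ⟨r0, hr0, -⟩ := TopCat.Sheaf.existsUnique_gluing' X.sheaf V ⊤ (fun k => homOfLE le_top)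
    hcover r hcompat
  refine ⟨M, r0, Nat.succ_pos _, ?_⟩
  -- check on the cover of Z
  refine TopCat.Sheaf.eq_of_locally_eq' Z.sheaf (fun k => i ⁻¹ᵁ V k) ⊤ (fun k => homOfLE le_top)
    ?_ _ _ ?_
  · intro z _
    obtain ⟨k, hk⟩ := Opens.mem_iSup.1 (hcover (Set.mem_univ (i z)))
    exact Opens.mem_iSup.2 ⟨k, hk⟩
  · intro k
    change res (le_top : i ⁻¹ᵁ V k ≤ ⊤) ((i.app ⊤).hom r0) = res (le_top : i ⁻¹ᵁ V k ≤ ⊤) (g ^ M)
    have h1 : res (le_top : i ⁻¹ᵁ V k ≤ ⊤) ((i.app ⊤).hom r0) =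
        (i.app (V k)).hom (res (le_top : V k ≤ ⊤) r0) := (app_res i le_top r0).symm
    have h2 : res (le_top : V k ≤ ⊤) r0 = r k := hr0 k
    rw [h1, h2]
    rw [hrdef k, map_sub, map_mul, map_mul, (RingHom.mem_ker).1 (ha'1 k), mul_zero, mul_zero, sub_zero,
      map_pow, hf k, map_pow]

end Main

end Groth.Agent.Lead.LiftPow
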