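import Mathlib
import Groth.Agent.Lead.LiftPow2
import Groth.Agent.Lead.Thick4

/-!
Quasi-affineness passes to thickenings.
-/

set_option autoImplicit false
open CategoryTheory AlgebraicGeometry TopologicalSpace Opposite
universe u

namespace Groth.Agent.Lead.LiftPow
open Groth.Agent.Lead.Thick

section SqZero
variable {Z Y : Scheme.{u}} (i : Z ⟶ Y) [IsClosedImmersion i]

theorem isHomeomorph_of_surjective (hs : Function.Surjective i) : IsHomeomorph i :=
  isHomeomorph_iff_isEmbedding_surjective.mpr ⟨i.isEmbedding, hs⟩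

theorem compactSpace_of_surjective (hs : Function.Surjective i) [CompactSpace Z] :
    CompactSpace Y := by
  constructor
  rw [← Set.range_eq_univ.mpr hs]
  exact isCompact_range i.continuous

theorem quasiSeparatedSpace_of_surjective (hs : Function.Surjective i) [QuasiSeparatedSpace Z] :
    QuasiSeparatedSpace Y :=
  (quasiSeparatedSpace_congr (isHomeomorph_of_surjective i hs).homeomorph).1 inferInstance

/-- an open of the thickening whose trace on `Z` is affine is affine -/
theorem isAffineOpen_of_preimage (hs : Function.Surjective i) (W : Y.Opens)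
    (hW : IsAffineOpen (i ⁻¹ᵁ W)) : IsAffineOpen W := by
  have : IsAffine (i ⁻¹ᵁ W : Scheme.{u}) := hW
  have hsurj : Surjective i := ⟨hs⟩
  have h2 : Surjective (i ∣_ W) := IsZariskiLocalAtTarget.restrict (P := @Surjective) hsurj W
  exact isAffine_of_thickening (i ∣_ W) h2.surj

theorem isQuasiAffine_of_sqZero (hs : Function.Surjective i)
    (hsq : ∀ U : Y.Opens, ∀ a ∈ J i U, ∀ b ∈ J i U, a * b = 0) [Z.IsQuasiAffine] :
    Y.IsQuasiAffine := by
  have : CompactSpace Y := compactSpace_of_surjective i hs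
  have : QuasiSeparatedSpace Y := quasiSeparatedSpace_of_surjective i hs
  refine .of_forall_exists_mem_basicOpen _ fun y => ?_
  obtain ⟨z, rfl⟩ := hs y
  obtain ⟨_, ⟨_, ⟨g, hg, rfl⟩, rfl⟩, hzg, -⟩ :=
    (Scheme.IsQuasiAffine.isBasis_basicOpen Z).exists_subset_of_mem_open (Set.mem_univ z) isOpen_univ
  have hh := isHomeomorph_of_surjective i hs
  let W : Y.Opens := ⟨i '' (Z.basicOpen g), hh.isOpenMap _ (Z.basicOpen g).2⟩
  have hWg : i ⁻¹ᵁ W = Z.basicOpen g := by
    ext x
    change i x ∈ i '' (Z.basicOpen g) ↔ _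
    exact hh.injective.mem_set_image
  have hW : IsAffineOpen W := isAffineOpen_of_preimage i hs W (by rw [hWg]; exact hg)
  obtain ⟨M, r, hM, hr⟩ := exists_lift_pow i hs hsq g W hW hWg
  have hrW : Y.basicOpen r = W := by
    apply preimage_injective i hs
    rw [Scheme.preimage_basicOpen]
    change Z.basicOpen (i.appTop.hom r) = _
    rw [hr, Scheme.basicOpen_pow _ _ hM, hWg]
  refine ⟨r, ?_, ?_⟩
  · rw [hrW]; exact hW
  · rw [hrW]
    exact ⟨z, hzg, rfl⟩

end SqZero

end Groth.Agent.Lead.LiftPow
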