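import Mathlib
import Groth.Agent.Lead.LiftPow3

/-!
Quasi-affineness passes to nilpotent thickenings, and to arbitrary thickenings.
-/

set_option autoImplicit false
open CategoryTheory AlgebraicGeometry TopologicalSpace Opposite
universe u

namespace Groth.Agent.Lead.LiftPow
open Groth.Agent.Lead.Thick

section Local
variable {Z Y : Scheme.{u}} (i : Z ⟶ Y)

/-- square-zero is local -/
theorem sq_zero_of_local (U : Y.Opens)
    (h : ∀ y ∈ U, ∃ O : Y.Opens, O ≤ U ∧ y ∈ O ∧ ∀ a ∈ J i O, ∀ b ∈ J i O, a * b = 0) :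
    ∀ a ∈ J i U, ∀ b ∈ J i U, a * b = 0 := by
  intro a ha b hb
  choose O hOU hyO hO using h
  refine TopCat.Sheaf.eq_of_locally_eq' Y.sheaf (fun y : U => O y.1 y.2) U
    (fun y => homOfLE (hOU y.1 y.2)) ?_ _ _ ?_
  · intro y hy
    exact Opens.mem_iSup.2 ⟨⟨y, hy⟩, hyO y hy⟩
  · intro y
    change res (hOU y.1 y.2) (a * b) = res (hOU y.1 y.2) 0
    rw [map_mul, map_zero]
    exact hO y.1 y.2 _ (res_mem_J i _ ha) _ (res_mem_J i _ hb)

end Local

section Nilp
variable {X : Scheme.{u}}

theorem subschemeι_surjective_of_pow_eq_bot (J : X.IdealSheafData) (n : ℕ) (hn : J ^ n = ⊥) :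
    Function.Surjective J.subschemeι := by
  intro x
  have hx : x ∈ Set.range J.subschemeι := by
    rw [Scheme.IdealSheafData.range_subschemeι]
    obtain ⟨_, ⟨U, hU : IsAffineOpen U, rfl⟩, hxU, -⟩ :=
      X.isBasis_affineOpens.exists_subset_of_mem_open (Set.mem_univ x) isOpen_univ
    change x ∈ J.support
    rw [Scheme.IdealSheafData.mem_support_iff_of_mem (U := ⟨U, hU⟩) hxU, Scheme.mem_zeroLocus_iff]
    intro f hf
    have h1 : f ^ (n + 1) = 0 := by
      have h2 : f ^ n ∈ (J.ideal ⟨U, hU⟩) ^ n := Ideal.pow_mem_pow hf n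
      have h3 : (J.ideal ⟨U, hU⟩) ^ n = ⊥ := congrArg (fun K : X.IdealSheafData => K.ideal ⟨U, hU⟩) hn
      rw [h3, Ideal.mem_bot] at h2
      rw [pow_succ, h2, zero_mul]
    rw [← Scheme.basicOpen_pow _ f (Nat.succ_pos n), h1, Scheme.basicOpen_zero]
    exact fun h => h
  exact hx

theorem isQuasiAffine_of_pow_eq_bot : ∀ (n : ℕ) (X : Scheme.{u}) (J : X.IdealSheafData),
    J ^ n = ⊥ → J.subscheme.IsQuasiAffine → X.IsQuasiAffine := by
  intro n
  induction n using Nat.strong_induction_on with
  | _ n ih =>
    intro X J hn hJ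
    by_cases hn1 : n ≤ 1
    · -- then `J = ⊥`
      have hJbot : J = ⊥ := by
        have : J ^ 1 = ⊥ := by
          rw [← Nat.sub_add_cancel hn1, pow_add, hn]
          apply Scheme.IdealSheafData.ext
          funext U
          change (J.ideal U) ^ (1 - n) * (⊥ : Ideal _) = ⊥
          exact Ideal.mul_bot _
        rwa [pow_one] at this
      subst hJbot
      exact Scheme.IsQuasiAffine.of_isAffineHom (inv (Scheme.IdealSheafData.subschemeι (⊥ : X.IdealSheafData)))
    · push Not at hn1
      let K : X.IdealSheafData := J * J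
      have hKJ : K ≤ J := by
        intro U
        change J.ideal U * J.ideal U ≤ J.ideal U
        exact Ideal.mul_le_left
      let m := (n + 1) / 2
      have hm : m < n := by omega
      have hKm : K ^ m = ⊥ := by
        apply Scheme.IdealSheafData.ext
        funext U
        change (J.ideal U * J.ideal U) ^ m = ⊥
        have h3 : (J.ideal U) ^ n = ⊥ := congrArg (fun K : X.IdealSheafData => K.ideal U) hn
        rw [← pow_two, ← pow_mul, eq_bot_iff, ← h3]
        exact Ideal.pow_le_pow_right (by omega)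
      refine ih m hm X K hKm ?_
      -- `J.subscheme ⟶ K.subscheme` is a square-zero thickening
      let ι := Scheme.IdealSheafData.inclusion hKJ
      have hι : ι ≫ K.subschemeι = J.subschemeι := Scheme.IdealSheafData.inclusion_subschemeι hKJ
      have hJs := subschemeι_surjective_of_pow_eq_bot J n hn
      have hKs := subschemeι_surjective_of_pow_eq_bot K m hKm
      have : IsClosedImmersion (ι ≫ K.subschemeι) := by rw [hι]; infer_instance
      have : IsClosedImmersion ι := IsClosedImmersion.of_comp ι K.subschemeι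
      have hιs : Function.Surjective ι := by
        intro y
        obtain ⟨z, hz⟩ := hJs (K.subschemeι y)
        refine ⟨z, K.subschemeι.isEmbedding.injective ?_⟩
        rw [← hz, ← hι]
        rfl
      have hKh := isHomeomorph_of_surjective K.subschemeι hKs
      refine @isQuasiAffine_of_sqZero _ _ ι _ hιs ?_ hJ
      intro U
      apply sq_zero_of_local
      intro y hy
      -- an affine open of `X` inside the image of `U`
      have hUo : IsOpen (K.subschemeι '' (U : Set K.subscheme)) := hKh.isOpenMap _ U.2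
      obtain ⟨_, ⟨U', hU' : IsAffineOpen U', rfl⟩, hyU', hU'U⟩ :=
        X.isBasis_affineOpens.exists_subset_of_mem_open (Set.mem_image_of_mem _ hy) hUo
      refine ⟨K.subschemeι ⁻¹ᵁ U', ?_, hyU', ?_⟩
      · intro w hw
        obtain ⟨w', hw', e⟩ := hU'U hw
        rwa [← K.subschemeι.isEmbedding.injective e]
      · intro a ha b hb
        obtain ⟨a', rfl⟩ := K.subschemeι_app_surjective ⟨U', hU'⟩ a
        obtain ⟨b', rfl⟩ := K.subschemeι_app_surjective ⟨U', hU'⟩ b
        have key : ∀ c : Γ(X, U'), (K.subschemeι.app U').hom c ∈ _root_.Groth.Agent.Lead.LiftPow.J ι (K.subschemeι ⁻¹ᵁ U') →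
            c ∈ J.ideal ⟨U', hU'⟩ := by
          intro c hc
          rw [← Scheme.IdealSheafData.ker_subschemeι_app J ⟨U', hU'⟩, RingHom.mem_ker]
          have e1 := Scheme.Hom.congr_app hι.symm U'
          rw [e1, Scheme.Hom.comp_app]
          rw [RingHom.mem_ker] at hc
          change (J.subscheme.presheaf.map _).hom ((ι.app _).hom ((K.subschemeι.app U').hom c)) = 0
          rw [hc, map_zero]
        have ha' := key a' ha
        have hb' := key b' hb
        have hab : a' * b' ∈ K.ideal ⟨U', hU'⟩ := Ideal.mul_mem_mul ha' hb'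
        rw [← Scheme.IdealSheafData.ker_subschemeι_app K ⟨U', hU'⟩, RingHom.mem_ker] at hab
        change (K.subschemeι.app U').hom a' * (K.subschemeι.app U').hom b' = 0
        rw [← map_mul]
        exact hab

end Nilp

end Groth.Agent.Lead.LiftPow

namespace Groth.Agent.Lead.LiftPow
open Groth.Agent.Lead.Thick

/-- **a thickening of a quasi-affine scheme is quasi-affine** -/
theorem isQuasiAffine_of_thickening {Z X : Scheme.{u}} (t : Z ⟶ X) [IsClosedImmersion t]
    (ht : Function.Surjective t) [Z.IsQuasiAffine] : X.IsQuasiAffine := by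
  haveI : CompactSpace X := compactSpace_of_surjective t ht
  haveI : QuasiSeparatedSpace X := quasiSeparatedSpace_of_surjective t ht
  haveI : ∀ J : (Idx t)ᵒᵖ, CompactSpace ((D t).obj J) := fun J =>
    show CompactSpace J.unop.1.subscheme from
      QuasiCompact.compactSpace_of_compactSpace J.unop.1.subschemeι
  haveI : ∀ J : (Idx t)ᵒᵖ, QuasiSeparatedSpace ((D t).obj J) := fun J =>
    show QuasiSeparatedSpace J.unop.1.subscheme from
      quasiSeparatedSpace_of_quasiSeparated J.unop.1.subschemeι
  haveI : (cone t).pt.IsQuasiAffine := inferInstanceAs (Z.IsQuasiAffine)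
  obtain ⟨J, hJ⟩ := Scheme.exists_isQuasiAffine_of_isLimit (D t) (cone t) (isLimitCone t)
  have hJ' : J.unop.1.subscheme.IsQuasiAffine := hJ
  obtain ⟨n, hn⟩ := exists_pow_eq_bot t ht J.unop.1 J.unop.2.1 J.unop.2.2
  exact isQuasiAffine_of_pow_eq_bot n X J.unop.1 hn hJ'

end Groth.Agent.Lead.LiftPow
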