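import Mathlib
import Groth.Prelude.Def_MoreMor

/-!
# Helper lemmas on thickenings (surjective closed immersions)
-/

namespace Groth.Agent.Lead

open AlgebraicGeometry CategoryTheory Limits MorphismProperty

universe u

set_option backward.isDefEq.respectTransparency.types false in
lemma universallyOpen_of_comp_surjective {X Y Z : Scheme.{u}} (f : X ⟶ Y) (g : Y ⟶ Z)
    [UniversallyOpen (f ≫ g)] [Surjective f] : UniversallyOpen g := by
  constructor
  intro X' Y' i₁ i₂ f' H
  have := UniversallyOpen.universally_isOpenMap _ _ _
    ((IsPullback.of_hasPullback i₁ f).paste_horiz H)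
  exact IsOpenMap.of_comp (Scheme.Hom.continuous _)
    (MorphismProperty.pullback_fst (P := @Surjective) _ _ ‹_›).1 this

set_option backward.isDefEq.respectTransparency.types false in
lemma universallyInjective_of_comp_surjective {X Y Z : Scheme.{u}} (f : X ⟶ Y) (g : Y ⟶ Z)
    [UniversallyInjective (f ≫ g)] [Surjective f] : UniversallyInjective g := by
  constructor
  intro X' Y' i₁ i₂ f' H
  have h1 := UniversallyInjective.universally_injective _ _ _
    ((IsPullback.of_hasPullback i₁ f).paste_horiz H)
  have h2 : Function.Surjective (pullback.fst i₁ f) :=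
    (MorphismProperty.pullback_fst (P := @Surjective) _ _ ‹_›).1
  intro a b hab
  obtain ⟨a, rfl⟩ := h2 a
  obtain ⟨b, rfl⟩ := h2 b
  have : (pullback.fst i₁ f ≫ f') a = (pullback.fst i₁ f ≫ f') b := by
    simpa using hab
  rw [h1 this]

lemma quasiCompact_of_comp_surjective {X Y Z : Scheme.{u}} (f : X ⟶ Y) (g : Y ⟶ Z)
    [QuasiCompact (f ≫ g)] [Surjective f] : QuasiCompact g := by
  constructor
  intro U hU hU'
  have h := QuasiCompact.isCompact_preimage (f := f ≫ g) U hU hU'
  have : g ⁻¹' U = f '' ((f ≫ g) ⁻¹' U) := by
    ext y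
    constructor
    · intro hy
      obtain ⟨x, rfl⟩ := f.surjective y
      exact ⟨x, by simpa using hy, rfl⟩
    · rintro ⟨x, hx, rfl⟩
      simpa using hx
  rw [this]
  exact h.image f.continuous

/-- A surjective closed immersion is universally open (it is a universal homeomorphism). -/
lemma universallyOpen_of_isThickening {X X' : Scheme.{u}} {i : X ⟶ X'}
    (h : MoreMor.IsThickening i) : UniversallyOpen i := by
  obtain ⟨h1, h2⟩ := h
  rw [UniversallyOpen.eq]
  intro Y Y' i₁ i₂ f' hf
  have hf1 : IsClosedImmersion f' := MorphismProperty.of_isPullback hf.flip h1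
  have hf2 : Surjective f' := MorphismProperty.of_isPullback hf.flip h2
  have : IsHomeomorph f' :=
    isHomeomorph_iff_isEmbedding_surjective.mpr
      ⟨f'.isClosedEmbedding.isEmbedding, hf2.1⟩
  exact this.isOpenMap

lemma quasiSeparated_of_comp_thickening {X Y Z : Scheme.{u}} (f : X ⟶ Y) (g : Y ⟶ Z)
    [QuasiSeparated (f ≫ g)] [IsClosedImmersion f] [Surjective f] : QuasiSeparated g := by
  constructor
  have h1 : f ≫ pullback.diagonal g = pullback.diagonal (f ≫ g) ≫
      pullback.map (f ≫ g) (f ≫ g) g g f f (𝟙 _) (by simp) (by simp) := by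
    apply pullback.hom_ext
    · simp only [Category.assoc, pullback.diagonal_fst, Category.comp_id, pullback.lift_fst]
      rw [pullback.diagonal_fst_assoc]
    · simp only [Category.assoc, pullback.diagonal_snd, Category.comp_id, pullback.lift_snd]
      rw [pullback.diagonal_snd_assoc]
  have h2 : QuasiCompact (pullback.map (f ≫ g) (f ≫ g) g g f f (𝟙 _) (by simp) (by simp)) := by
    have : IsClosedImmersion
        (pullback.map (f ≫ g) (f ≫ g) g g f f (𝟙 _) (by simp) (by simp)) :=
      MorphismProperty.pullbackMap (P := @IsClosedImmersion) ‹_› ‹_› rfl rfl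
    infer_instance
  have h3 : QuasiCompact (f ≫ pullback.diagonal g) := by
    rw [h1]; infer_instance
  exact quasiCompact_of_comp_surjective f _

end Groth.Agent.Lead
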