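import Mathlib
import Groth.Agent.Lead.Thickening
import Groth.Agent.S1315

set_option autoImplicit false
open CategoryTheory AlgebraicGeometry Limits
universe u

namespace Groth.Agent.Lead.EtThick

/-- two morphisms into an unramified `S`-scheme agreeing after precomposition with a surjective
morphism agree -/
theorem hom_ext_of_surjective {Y₀ Y X S : Scheme.{u}} (j : Y₀ ⟶ Y) [Surjective j] (f : X ⟶ S)
    [LocallyOfFiniteType f] [FormallyUnramified f] (a b : Y ⟶ X) (h1 : j ≫ a = j ≫ b)
    (h2 : a ≫ f = b ≫ f) : a = b := by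
  let ab : Y ⟶ pullback f f := pullback.lift a b h2
  have hab1 : ab ≫ pullback.fst f f = a := pullback.lift_fst _ _ _
  have hab2 : ab ≫ pullback.snd f f = b := pullback.lift_snd _ _ _
  let e : pullback (pullback.diagonal f) ab ⟶ Y := pullback.snd (pullback.diagonal f) ab
  haveI : IsOpenImmersion e := inferInstance
  have hsurj : Surjective e := by
    constructor
    intro y
    obtain ⟨y₀, rfl⟩ := j.surjective y
    let k : Y₀ ⟶ pullback (pullback.diagonal f) ab := pullback.lift (j ≫ a) j (by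
      apply pullback.hom_ext
      · rw [Category.assoc, Category.assoc, pullback.diagonal_fst, Category.assoc, hab1,
          Category.comp_id]
      · rw [Category.assoc, Category.assoc, pullback.diagonal_snd, Category.assoc, hab2,
          Category.comp_id, h1])
    have hk : k ≫ e = j := pullback.lift_snd _ _ _
    refine ⟨k y₀, ?_⟩
    rw [← Scheme.Hom.comp_apply, hk]
  haveI : IsIso e := (isIso_iff_isOpenImmersion_and_surjective e).mpr ⟨inferInstance, hsurj⟩
  have c : pullback.fst (pullback.diagonal f) ab ≫ pullback.diagonal f = e ≫ ab :=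
    pullback.condition
  have c1 : pullback.fst (pullback.diagonal f) ab = e ≫ a := by
    have := congrArg (· ≫ pullback.fst f f) c
    simp only [Category.assoc, pullback.diagonal_fst, Category.comp_id, hab1] at this
    exact this
  have c2 : pullback.fst (pullback.diagonal f) ab = e ≫ b := by
    have := congrArg (· ≫ pullback.snd f f) c
    simp only [Category.assoc, pullback.diagonal_snd, Category.comp_id, hab2] at this
    exact this
  exact (cancel_epi e).mp (c1.symm.trans c2)

/-- a section of an unramified morphism is an open immersion -/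
theorem isOpenImmersion_of_section {Y P : Scheme.{u}} (σ : Y ⟶ P) (q : P ⟶ Y)
    [LocallyOfFiniteType q] [FormallyUnramified q] (h : σ ≫ q = 𝟙 Y) : IsOpenImmersion σ := by
  haveI : MorphismProperty.HasOfPostcompProperty @IsOpenImmersion
      (@LocallyOfFiniteType ⊓ @FormallyUnramified) := by
    rw [MorphismProperty.hasOfPostcompProperty_iff_le_diagonal]
    intro X Y f ⟨hft, hfu⟩
    exact inferInstanceAs <| IsOpenImmersion (pullback.diagonal f)
  refine MorphismProperty.of_postcomp (W := @IsOpenImmersion)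
    (W' := @LocallyOfFiniteType ⊓ @FormallyUnramified) σ q ⟨‹_›, ‹_›⟩ ?_
  rw [h]
  exact inferInstanceAs (IsOpenImmersion (𝟙 Y))

/-- an étale morphism whose base change along a thickening is an isomorphism is an isomorphism -/
theorem isIso_of_isPullback {U₀ U Y₀ Y : Scheme.{u}} (jU : U₀ ⟶ U) (p₀ : U₀ ⟶ Y₀) (p : U ⟶ Y)
    (j : Y₀ ⟶ Y) (hc : IsPullback jU p₀ p j) [IsIso p₀] [Etale p] [IsClosedImmersion j]
    [Surjective j] : IsIso p := by
  haveI : Surjective jU := MorphismProperty.of_isPullback (P := @Surjective) hc.flip inferInstance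
  haveI : Surjective p := by
    constructor
    intro y
    obtain ⟨y₀, rfl⟩ := j.surjective y
    obtain ⟨u₀, rfl⟩ := p₀.surjective y₀
    refine ⟨jU u₀, ?_⟩
    rw [← Scheme.Hom.comp_apply, ← Scheme.Hom.comp_apply, hc.w]
  haveI : UniversallyInjective (jU ≫ p) := by rw [hc.w]; infer_instance
  haveI : UniversallyInjective p := Groth.Agent.Lead.universallyInjective_of_comp_surjective jU p
  haveI : Mono p := Groth.Agent.S1315.mono_of_formallyUnramified p
  haveI : IsOpenImmersion p := IsOpenImmersion.of_flat_of_mono p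
  exact (isIso_iff_isOpenImmersion_and_surjective p).mpr ⟨inferInstance, inferInstance⟩

/-- lifting morphisms into an étale scheme along a thickening of the base -/
theorem exists_lift {S₀ S X Y : Scheme.{u}} (i : S₀ ⟶ S) [IsClosedImmersion i] [Surjective i]
    (f : X ⟶ S) [Etale f] (g : Y ⟶ S) (a₀ : pullback g i ⟶ X)
    (h : a₀ ≫ f = pullback.snd g i ≫ i) :
    ∃ a : Y ⟶ X, a ≫ f = g ∧ pullback.fst g i ≫ a = a₀ := by
  let j : pullback g i ⟶ Y := pullback.fst g i
  haveI : IsClosedImmersion j := inferInstanceAs (IsClosedImmersion (pullback.fst g i))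
  haveI : Surjective j := inferInstanceAs (Surjective (pullback.fst g i))
  let p₁ : pullback g f ⟶ Y := pullback.fst g f
  let p₂ : pullback g f ⟶ X := pullback.snd g f
  haveI : Etale p₁ := inferInstanceAs (Etale (pullback.fst g f))
  have hj : j ≫ g = a₀ ≫ f := by rw [h]; exact pullback.condition
  let γ₀ : pullback g i ⟶ pullback g f := pullback.lift j a₀ hj
  have hγ1 : γ₀ ≫ p₁ = j := pullback.lift_fst _ _ _
  have hγ2 : γ₀ ≫ p₂ = a₀ := pullback.lift_snd _ _ _
  let jP : pullback p₁ j ⟶ pullback g f := pullback.fst p₁ j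
  let q : pullback p₁ j ⟶ pullback g i := pullback.snd p₁ j
  haveI : Etale q := inferInstanceAs (Etale (pullback.snd p₁ j))
  haveI : IsClosedImmersion jP := inferInstanceAs (IsClosedImmersion (pullback.fst p₁ j))
  haveI : Surjective jP := inferInstanceAs (Surjective (pullback.fst p₁ j))
  let σ₀ : pullback g i ⟶ pullback p₁ j :=
    pullback.lift γ₀ (𝟙 _) (by rw [hγ1, Category.id_comp])
  have hσq : σ₀ ≫ q = 𝟙 _ := pullback.lift_snd _ _ _
  have hσj : σ₀ ≫ jP = γ₀ := pullback.lift_fst _ _ _
  haveI : IsOpenImmersion σ₀ := isOpenImmersion_of_section σ₀ q hσq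
  have hhomeo : IsHomeomorph jP :=
    isHomeomorph_iff_isEmbedding_surjective.mpr ⟨jP.isClosedEmbedding.isEmbedding, jP.surjective⟩
  let U : (pullback g f).Opens :=
    ⟨jP '' (Set.range σ₀), hhomeo.isOpenMap _ σ₀.isOpenEmbedding.isOpen_range⟩
  have hpre : jP ⁻¹ᵁ U = σ₀.opensRange := by
    ext y
    simp only [U, TopologicalSpace.Opens.map_coe, TopologicalSpace.Opens.coe_mk, Set.mem_preimage,
      SetLike.mem_coe]
    constructor
    · rintro ⟨z, hz, hzy⟩
      rw [← hhomeo.injective hzy]; exact hz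
    · intro hy; exact ⟨y, hy, rfl⟩
  have hrange : Set.range γ₀ ⊆ Set.range U.ι := by
    rw [Scheme.Opens.range_ι]
    rintro _ ⟨y, rfl⟩
    exact ⟨σ₀ y, ⟨y, rfl⟩, by rw [← Scheme.Hom.comp_apply, hσj]⟩
  let γ₀' : pullback g i ⟶ U := IsOpenImmersion.lift U.ι γ₀ hrange
  have hγ' : γ₀' ≫ U.ι = γ₀ := IsOpenImmersion.lift_fac _ _ _
  have sq1 : IsPullback γ₀' σ₀ U.ι jP :=
    IsOpenImmersion.isPullback γ₀' σ₀ U.ι jP (by rw [hσj, hγ'])
      (by rw [Scheme.Opens.opensRange_ι]; exact hpre)
  have sq2 : IsPullback jP q p₁ j := IsPullback.of_hasPullback p₁ j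
  have sq : IsPullback γ₀' (σ₀ ≫ q) (U.ι ≫ p₁) j := sq1.paste_vert sq2
  rw [hσq] at sq
  haveI : Etale (U.ι ≫ p₁) := inferInstance
  haveI : IsIso (U.ι ≫ p₁) := isIso_of_isPullback γ₀' (𝟙 _) (U.ι ≫ p₁) j sq
  refine ⟨inv (U.ι ≫ p₁) ≫ U.ι ≫ p₂, ?_, ?_⟩
  · have hc : p₂ ≫ f = p₁ ≫ g := pullback.condition.symm
    rw [Category.assoc, Category.assoc, hc, ← Category.assoc U.ι, IsIso.inv_hom_id_assoc]
  · have hjj : j = γ₀' ≫ (U.ι ≫ p₁) := by rw [← Category.assoc, hγ', hγ1]
    show j ≫ _ = _
    rw [hjj, Category.assoc, IsIso.hom_inv_id_assoc, ← Category.assoc, hγ', hγ2]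

end Groth.Agent.Lead.EtThick
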