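import Mathlib
import Groth.Agent.Helper4.NApx37

/-!
# The Čech `H¹` of the two standard charts of the blow-up of an ideal `(x, y)`: algebra

Every element of `R(I)_{(xT·yT)}` is a sum of an element coming from `R(I)_{(xT)}` and one coming
from `R(I)_{(yT)}`.
-/

set_option autoImplicit false
set_option linter.style.haveILetI false
universe u

namespace Groth.Agent.Lead.BlH1A

open HomogeneousLocalization Polynomial Groth.Agent.Helper4.NApx37
open scoped Pointwise

variable {A : Type u} [CommRing A] {I : Ideal A}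

theorem mem_pair_pow (x y : A) (m : ℕ) : ∀ s : A, s ∈ ({x, y} : Set A) ^ m →
    ∃ i j : ℕ, i + j = m ∧ s = x ^ i * y ^ j := by
  induction m with
  | zero =>
    intro s hs
    rw [pow_zero] at hs
    refine ⟨0, 0, rfl, ?_⟩
    rw [Set.mem_one.mp hs]; simp
  | succ m ih =>
    intro s hs
    rw [pow_succ, Set.mem_mul] at hs
    obtain ⟨u, hu, v, hv, rfl⟩ := hs
    obtain ⟨i, j, hij, rfl⟩ := ih u hu
    rcases (Set.mem_insert_iff.mp hv) with hv | hv
    · refine ⟨i + 1, j, by omega, ?_⟩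
      rw [hv]; ring
    · refine ⟨i, j + 1, by omega, ?_⟩
      rw [Set.mem_singleton_iff.mp hv]; ring

theorem span_pair_pow (x y : A) (m : ℕ) :
    (Ideal.span ({x, y} : Set A)) ^ m = Ideal.span (({x, y} : Set A) ^ m) := by
  induction m with
  | zero =>
    rw [pow_zero, pow_zero, Ideal.one_eq_top, ← Set.singleton_one, Ideal.span_singleton_one]
  | succ m ih => rw [pow_succ, pow_succ, ih, Ideal.span_mul_span']

theorem monomial_congr {n m : ℕ} {c d : A} (h1 : n = m) (h2 : c = d) :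
    (monomial n c : A[X]) = monomial m d := by subst h1; subst h2; rfl

theorem mk_eq_mk' {f : reesAlgebra I} {d d' : ℕ} (hf : f ∈ 𝒜 A I d) (hf' : f ∈ 𝒜 A I d')
    (n m : ℕ) (a b : reesAlgebra I) (ha : a ∈ 𝒜 A I (n • d)) (hb : b ∈ 𝒜 A I (m • d'))
    (h : f ^ m * a = f ^ n * b) :
    Away.mk (𝒜 A I) hf n a ha = Away.mk (𝒜 A I) hf' m b hb := by
  apply val_injective
  rw [Away.val_mk, Away.val_mk, Localization.mk_eq_mk_iff, Localization.r_iff_exists]
  refine ⟨1, ?_⟩
  simp only [OneMemClass.coe_one, one_mul]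
  exact h

section

variable (x y : A) (hx : x ∈ I) (hy : y ∈ I)

theorem hfg : t x hx * t y hy ∈ 𝒜 A I 2 :=
  (SetLike.mul_mem_graded (t_mem x hx) (t_mem y hy) : _ ∈ 𝒜 A I (1 + 1))

/-- `R(I)_{(xT)} → R(I)_{(xT·yT)}` -/
noncomputable def φ₁ : Away (𝒜 A I) (t x hx) →+* Away (𝒜 A I) (t x hx * t y hy) :=
  awayMap (𝒜 A I) (t_mem y hy) rfl

/-- `R(I)_{(yT)} → R(I)_{(xT·yT)}` -/
noncomputable def φ₂ : Away (𝒜 A I) (t y hy) →+* Away (𝒜 A I) (t x hx * t y hy) :=
  awayMap (𝒜 A I) (t_mem x hx) (mul_comm _ _)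

/-- the fraction `c T^{2n} / (xT·yT)^n` -/
noncomputable def Z (n : ℕ) (c : A) (hc : c ∈ I ^ (n • 2)) : Away (𝒜 A I) (t x hx * t y hy) :=
  Away.mk (𝒜 A I) (hfg x y hx hy) n (mono (n • 2) c hc) (mono_mem _ _ _)

theorem Z_zero (n : ℕ) (h : (0 : A) ∈ I ^ (n • 2)) : Z x y hx hy n 0 h = 0 := by
  apply val_injective
  rw [Z, Away.val_mk, val_zero, (mono_eq_zero_iff _ _ _).mpr rfl, Localization.mk_zero]

theorem Z_add (n : ℕ) (c d : A) (hc : c ∈ I ^ (n • 2)) (hd : d ∈ I ^ (n • 2))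
    (hcd : c + d ∈ I ^ (n • 2)) :
    Z x y hx hy n (c + d) hcd = Z x y hx hy n c hc + Z x y hx hy n d hd := by
  apply val_injective
  rw [val_add, Z, Z, Z, Away.val_mk, Away.val_mk, Away.val_mk, Localization.add_mk_self]
  congr 1
  apply Subtype.ext
  rw [Subalgebra.coe_add, coe_mono, coe_mono, coe_mono, map_add]

theorem Z_case_x (j k : ℕ) (r : A)
    (hc : r * (x ^ (j + k + k) * y ^ j) ∈ I ^ ((j + k) • 2)) (hk : r * x ^ k ∈ I ^ k) :
    Z x y hx hy (j + k) (r * (x ^ (j + k + k) * y ^ j)) hc =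
      φ₂ x y hx hy (Away.mk (𝒜 A I) (t_mem y hy) k (mono k (r * x ^ k) hk)
        (by simpa using mono_mem k _ hk)) := by
  unfold φ₂ Z
  rw [awayMap_mk]
  apply mk_eq_mk'
  apply Subtype.ext
  simp only [Subalgebra.coe_mul, Subalgebra.coe_pow, coe_mono, t]
  simp only [monomial_mul_monomial, monomial_pow]
  apply monomial_congr
  · simp only [smul_eq_mul]; ring
  · ring

theorem Z_case_y (i k : ℕ) (r : A)
    (hc : r * (x ^ i * y ^ (i + k + k)) ∈ I ^ ((i + k) • 2)) (hk : r * y ^ k ∈ I ^ k) :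
    Z x y hx hy (i + k) (r * (x ^ i * y ^ (i + k + k))) hc =
      φ₁ x y hx hy (Away.mk (𝒜 A I) (t_mem x hx) k (mono k (r * y ^ k) hk)
        (by simpa using mono_mem k _ hk)) := by
  unfold φ₁ Z
  rw [awayMap_mk]
  apply mk_eq_mk'
  apply Subtype.ext
  simp only [Subalgebra.coe_mul, Subalgebra.coe_pow, coe_mono, t]
  simp only [monomial_mul_monomial, monomial_pow]
  apply monomial_congr
  · simp only [smul_eq_mul]; ring
  · ring

/-- decomposable elements -/
def Dec (z : Away (𝒜 A I) (t x hx * t y hy)) : Prop :=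
  ∃ (a : Away (𝒜 A I) (t x hx)) (b : Away (𝒜 A I) (t y hy)),
    z = φ₁ x y hx hy a + φ₂ x y hx hy b

variable {x y hx hy} in
theorem Dec_add {z w : Away (𝒜 A I) (t x hx * t y hy)} (hz : Dec x y hx hy z)
    (hw : Dec x y hx hy w) : Dec x y hx hy (z + w) := by
  obtain ⟨a, b, rfl⟩ := hz
  obtain ⟨a', b', rfl⟩ := hw
  exact ⟨a + a', b + b', by rw [map_add, map_add]; abel⟩

theorem Dec_zero : Dec x y hx hy 0 :=
  ⟨0, 0, by
    rw [map_zero, map_zero]
    exact (add_zero (0 : Away (𝒜 A I) (t x hx * t y hy))).symm⟩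

theorem Dec_Z (hI : I = Ideal.span {x, y}) (n : ℕ) (c : A) (hc : c ∈ I ^ (n • 2)) :
    Dec x y hx hy (Z x y hx hy n c hc) := by
  have hS : I ^ (n • 2) = Ideal.span (({x, y} : Set A) ^ (n • 2)) := by
    rw [← span_pair_pow, ← hI]
  have key : ∀ (c : A) (_ : c ∈ Submodule.span A (({x, y} : Set A) ^ (n • 2))),
      ∀ (r c' : A) (hc' : c' ∈ I ^ (n • 2)), c' = r * c →
        Dec x y hx hy (Z x y hx hy n c' hc') := by
    intro c h
    induction h using Submodule.span_induction with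
    | mem s hs =>
      intro r c' hc' hcc
      obtain ⟨i, j, hij, rfl⟩ := mem_pair_pow x y _ s hs
      subst hcc
      simp only [smul_eq_mul] at hij
      rcases le_total n i with h | h
      · obtain ⟨k, rfl⟩ := Nat.exists_eq_add_of_le h
        obtain rfl : n = j + k := by omega
        have hk : r * x ^ k ∈ I ^ k := Ideal.mul_mem_left _ _ (Ideal.pow_mem_pow hx k)
        have h0 : φ₁ x y hx hy 0 = 0 := map_zero _
        exact ⟨0, _, by
          rw [h0]
          exact (Z_case_x x y hx hy j k r hc' hk).trans (zero_add (φ₂ x y hx hy _)).symm⟩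
      · obtain ⟨k, rfl⟩ := Nat.exists_eq_add_of_le h
        obtain rfl : j = i + k + k := by omega
        have hk : r * y ^ k ∈ I ^ k := Ideal.mul_mem_left _ _ (Ideal.pow_mem_pow hy k)
        have h0 : φ₂ x y hx hy 0 = 0 := map_zero _
        exact ⟨_, 0, by
          rw [h0]
          exact (Z_case_y x y hx hy i k r hc' hk).trans (add_zero (φ₁ x y hx hy _)).symm⟩
    | zero =>
      intro r c' hc' hcc
      have h0 : c' = 0 := by rw [hcc, mul_zero]
      subst h0
      rw [Z_zero]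
      exact Dec_zero x y hx hy
    | add c d hc hd ihc ihd =>
      intro r c' hc' hcc
      have h1 : r * c ∈ I ^ (n • 2) := by
        rw [hS]; exact Ideal.mul_mem_left _ _ hc
      have h2 : r * d ∈ I ^ (n • 2) := by
        rw [hS]; exact Ideal.mul_mem_left _ _ hd
      have h3 : c' = r * c + r * d := by rw [hcc, mul_add]
      subst h3
      rw [Z_add x y hx hy n _ _ h1 h2]
      exact Dec_add (ihc r _ h1 rfl) (ihd r _ h2 rfl)
    | smul a c hc ih =>
      intro r c' hc' hcc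
      exact ih (r * a) c' hc' (by rw [hcc, smul_eq_mul, mul_assoc])
  have hc2 : c ∈ Submodule.span A (({x, y} : Set A) ^ (n • 2)) := by
    have := hc
    rw [hS] at this
    exact this
  exact key c hc2 1 c hc (one_mul c).symm

/-- every element of `R(I)_{(xT·yT)}` is a sum of elements coming from the two charts -/
theorem exists_decomp (hI : I = Ideal.span {x, y}) (z : Away (𝒜 A I) (t x hx * t y hy)) :
    ∃ (a : Away (𝒜 A I) (t x hx)) (b : Away (𝒜 A I) (t y hy)),
      z = φ₁ x y hx hy a + φ₂ x y hx hy b := by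
  obtain ⟨n, a, ha, rfl⟩ := Away.mk_surjective (𝒜 A I) (hfg x y hx hy) z
  obtain ⟨c, hc, rfl⟩ : ∃ c, ∃ hc : c ∈ I ^ (n • 2), a = mono (n • 2) c hc :=
    ⟨_, coeff_mem _, eq_mono ha⟩
  exact Dec_Z x y hx hy hI n c hc

end

end Groth.Agent.Lead.BlH1A
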