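import Mathlib
import Groth.Agent.Lead.Thick2
import Groth.Agent.Helper1.ColimCoh
import Groth.Agent.Helper1.MVTop6
import Groth.Agent.Helper3.SheafModLib

set_option autoImplicit false
set_option linter.style.haveILetI false
open CategoryTheory AlgebraicGeometry Limits Opposite TopologicalSpace
universe u
open Coherent

namespace Groth.Agent.Lead.StratB
open Groth.Agent.Helper1 Groth.Agent.Helper1.SerreCrit

variable {X : Scheme.{u}}

theorem subsingleton_HH_of_iso {A B : X.Modules} (e : A ≅ B) (p : ℕ)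
    (h : Subsingleton (Coh.HH X A p)) : Subsingleton (Coh.HH X B p) := by
  have key : ∀ x : Coh.HH X B p, x = 0 := by
    intro x
    have h1 : (show Abelian.Ext _ ((toAbF X).obj B) p from x) =
        ((show Abelian.Ext _ ((toAbF X).obj B) p from x).comp
          (Abelian.Ext.mk₀ ((toAbF X).map e.inv)) (add_zero p)).comp
          (Abelian.Ext.mk₀ ((toAbF X).map e.hom)) (add_zero p) := by
      rw [Abelian.Ext.comp_assoc_of_third_deg_zero, Abelian.Ext.mk₀_comp_mk₀, ← CategoryTheory.Functor.map_comp,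
        e.inv_hom_id, CategoryTheory.Functor.map_id, Abelian.Ext.comp_mk₀_id]
    have h0 : (show Abelian.Ext _ ((toAbF X).obj B) p from x).comp
          (Abelian.Ext.mk₀ ((toAbF X).map e.inv)) (add_zero p) = 0 :=
      @Subsingleton.elim _ h _ _
    rw [h0, Abelian.Ext.zero_comp] at h1
    exact h1
  exact ⟨fun a b => by rw [key a, key b]⟩

/-- in a short exact sequence `0 → A → B → C → 0`, `H^n(C) = 0` and `H^{n+1}(B) = 0` imply
`H^{n+1}(A) = 0` -/
theorem subsingleton_HH_left (S : ShortComplex X.Modules) (hS : S.ShortExact) (n : ℕ)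
    (h3 : Subsingleton (Coh.HH X S.X₃ n)) (h2 : Subsingleton (Coh.HH X S.X₂ (n + 1))) :
    Subsingleton (Coh.HH X S.X₁ (n + 1)) := by
  have hS' : (S.map (toAbF X)).ShortExact := hS.map_of_exact (toAbF X)
  have key : ∀ x : Coh.HH X S.X₁ (n + 1), x = 0 := by
    intro x
    obtain ⟨x₃, hx₃⟩ := Abelian.Ext.covariant_sequence_exact₁ _ hS'
      (show Abelian.Ext _ (S.map (toAbF X)).X₁ (n + 1) from x)
      (@Subsingleton.elim _ h2 _ _) rfl
    have h0 : x₃ = 0 := @Subsingleton.elim _ h3 _ _
    rw [h0, Abelian.Ext.zero_comp] at hx₃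
    exact hx₃.symm
  exact ⟨fun a b => by rw [key a, key b]⟩

/-- cohomology of a filtered colimit vanishes if every structure map factors through an acyclic
object (qcqs schemes) -/
theorem subsingleton_HH_of_colimit [CompactSpace X] [QuasiSeparatedSpace X]
    {J : Type u} [SmallCategory J] [IsFiltered J] (D : J ⥤ X.Modules) (c : Cocone D)
    (hc : IsColimit c) (p : ℕ)
    (h : ∀ j, ∃ (Q : X.Modules) (a : D.obj j ⟶ Q) (b : Q ⟶ c.pt), a ≫ b = c.ι.app j ∧
      Subsingleton (Coh.HH X Q p)) :
    Subsingleton (Coh.HH X c.pt p) := by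
  let Φ : CohTop.Ab X ⥤ AddCommGrpCat.{u} :=
    (Sheaf.cohomologyPresheafFunctor (Opens.grothendieckTopology X) p).flip.obj (op ⊤)
  have hΦ : PreservesColimitsOfShape J Φ := by
    obtain ⟨α, _, _, _, G, _⟩ := IsFiltered.exists_directed J
    have hqs : IsQuasiSeparated (((⊤ : Opens X) : Set X)) := by
      rw [Opens.coe_top]
      exact isQuasiSeparated_univ_iff.2 inferInstance
    have hα : PreservesColimitsOfShape α Φ :=
      Groth.Agent.Helper1.ColimCoh.preservesColimitsOfShape_cohomology (ι := α) (⊤ : Opens X)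
        (by rw [Opens.coe_top]; exact isCompact_univ) hqs p
    exact Functor.Final.preservesColimitsOfShape_of_final G _
  have hT : PreservesColimitsOfShape J (toAbF X) := by
    haveI := Groth.Agent.Helper3.SheafModLib.toSheaf_preservesColimits X.ringCatSheaf
    exact inferInstanceAs (PreservesColimitsOfShape J (SheafOfModules.toSheaf X.ringCatSheaf))
  have hcol : IsColimit ((toAbF X ⋙ Φ).mapCocone c) := isColimitOfPreserves (toAbF X ⋙ Φ) hc
  have hsub : ∀ Q : X.Modules, Subsingleton (Coh.HH X Q p) →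
      Subsingleton (Φ.obj ((toAbF X).obj Q)) := by
    intro Q hQ
    exact @Equiv.subsingleton _ _
      (Groth.Agent.Helper1.MVTop.globEquiv ((toAbF X).obj Q) p).symm.toEquiv hQ
  have key : ∀ x : Φ.obj ((toAbF X).obj c.pt), x = 0 := by
    intro x
    obtain ⟨j, y, hy⟩ := Concrete.isColimit_exists_rep (D ⋙ toAbF X ⋙ Φ) hcol x
    obtain ⟨Q, a, b, hab, hQ⟩ := h j
    have hQ' := hsub Q hQ
    have h1 : ((toAbF X ⋙ Φ).mapCocone c).ι.app j =
        Φ.map ((toAbF X).map a) ≫ Φ.map ((toAbF X).map b) := by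
      show Φ.map ((toAbF X).map (c.ι.app j)) = _
      rw [← hab, CategoryTheory.Functor.map_comp, CategoryTheory.Functor.map_comp]
    rw [h1] at hy
    have h2 : (Φ.map ((toAbF X).map a)) y = 0 := Subsingleton.elim _ _
    rw [← hy]
    show (Φ.map ((toAbF X).map b)) ((Φ.map ((toAbF X).map a)) y) = 0
    rw [h2, map_zero]
  have hfin : Subsingleton (Φ.obj ((toAbF X).obj c.pt)) := ⟨fun a b => by rw [key a, key b]⟩
  exact @Equiv.subsingleton _ _
    (Groth.Agent.Helper1.MVTop.globEquiv ((toAbF X).obj c.pt) p).toEquiv hfin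

end Groth.Agent.Lead.StratB
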