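import Mathlib
import Groth.Agent.Lead.BlH1A
import Groth.Agent.Helper4.SN147
import Groth.Agent.Helper1.MVTop8
import Groth.Agent.Lead.StratB
import Groth.Agent.Lead.GlobGen
import Groth.Agent.Helper4.QcohLimits
import Groth.Agent.Helper1.DualSh3
import Groth.Prelude.Def_Curv2

/-!
# `H¹` of globally generated quasi-coherent modules on the blow-up of an ideal `(x, y)` vanishes
(S1624)
-/

set_option autoImplicit false
set_option linter.style.haveILetI false
set_option linter.unusedSectionVars false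
universe u

open CategoryTheory CategoryTheory.Limits AlgebraicGeometry TopologicalSpace Opposite

namespace Groth.Agent.Lead.BlH1B

open Groth.Agent.Helper4.NApx37 Groth.Agent.Helper4.NApx38 Groth.Agent.Helper4.NApx41
open Groth.Agent.Lead.BlH1A Groth.Agent.Helper1.MVTop Groth.Agent.Helper1
  Groth.Agent.Helper1.SerreCrit

section algebra

variable {A : Type u} [CommRing A] {I : Ideal A} (x y : A) (hx : x ∈ I) (hy : y ∈ I)

/-- sections of the structure sheaf of `Proj R(I)` over `D₊(xT) ∩ D₊(yT)` are sums of restrictions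
of sections over the two charts -/
theorem proj_sections_decomp (hI : I = Ideal.span {x, y}) (W : (Proj (𝒜 A I)).Opens)
    (hW : W = Proj.basicOpen (𝒜 A I) (t x hx * t y hy))
    (h₀ : W ≤ Proj.basicOpen (𝒜 A I) (t x hx)) (h₁ : W ≤ Proj.basicOpen (𝒜 A I) (t y hy))
    (s : Γ(Proj (𝒜 A I), W)) :
    ∃ (a : Γ(Proj (𝒜 A I), Proj.basicOpen (𝒜 A I) (t x hx)))
      (b : Γ(Proj (𝒜 A I), Proj.basicOpen (𝒜 A I) (t y hy))),
      s = (Proj (𝒜 A I)).presheaf.map (homOfLE h₀).op a +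
        (Proj (𝒜 A I)).presheaf.map (homOfLE h₁).op b := by
  subst hW
  let i := Proj.basicOpenIsoAway (𝒜 A I) (t x hx * t y hy) (hfg x y hx hy) (by norm_num)
  obtain ⟨z, rfl⟩ : ∃ z, Proj.awayToSection (𝒜 A I) (t x hx * t y hy) z = s :=
    ⟨i.inv s, congr($(i.inv_hom_id) s)⟩
  obtain ⟨a', b', hz⟩ := exists_decomp x y hx hy hI z
  refine ⟨Proj.awayToSection (𝒜 A I) (t x hx) a', Proj.awayToSection (𝒜 A I) (t y hy) b', ?_⟩
  have e1 := congr($(Proj.awayMap_awayToSection (𝒜 A I) (t_mem y hy)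
    (rfl : t x hx * t y hy = t x hx * t y hy)) a')
  have e2 := congr($(Proj.awayMap_awayToSection (𝒜 A I) (t_mem x hx)
    (mul_comm _ _ : t x hx * t y hy = t y hy * t x hx)) b')
  rw [hz, map_add]
  exact congrArg₂ (· + ·) e1 e2

end algebra

/-- transport of a decomposition of sections along an isomorphism of schemes -/
theorem sections_decomp_of_iso {X P : Scheme.{u}} (f : X ⟶ P) [IsIso f] (W V₀ V₁ : P.Opens)
    (h₀ : W ≤ V₀) (h₁ : W ≤ V₁)
    (H : ∀ s : Γ(P, W), ∃ (a : Γ(P, V₀)) (b : Γ(P, V₁)),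
      s = P.presheaf.map (homOfLE h₀).op a + P.presheaf.map (homOfLE h₁).op b)
    (h₀' : f ⁻¹ᵁ W ≤ f ⁻¹ᵁ V₀) (h₁' : f ⁻¹ᵁ W ≤ f ⁻¹ᵁ V₁)
    (s : Γ(X, f ⁻¹ᵁ W)) :
    ∃ (a : Γ(X, f ⁻¹ᵁ V₀)) (b : Γ(X, f ⁻¹ᵁ V₁)),
      s = X.presheaf.map (homOfLE h₀').op a + X.presheaf.map (homOfLE h₁').op b := by
  obtain ⟨s', rfl⟩ : ∃ s', f.app W s' = s :=
    ⟨inv (f.app W) s, congr($(IsIso.inv_hom_id (f.app W)) s)⟩
  obtain ⟨a, b, hs⟩ := H s'
  refine ⟨f.app V₀ a, f.app V₁ b, ?_⟩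
  have n0 := congr($(f.naturality (homOfLE h₀).op) a)
  have n1 := congr($(f.naturality (homOfLE h₁).op) b)
  rw [hs, map_add]
  exact congrArg₂ (· + ·) n0 n1

/-- `H¹` of a quasi-coherent module on a separated scheme covered by two affine opens vanishes as
soon as every section over the intersection is a sum of restrictions -/
theorem subsingleton_HH_one_of_two_affines (X : Scheme.{u}) [X.IsSeparated] (M : X.Modules)
    [M.IsQuasicoherent] (U₀ U₁ : X.Opens) (h₀ : IsAffineOpen U₀) (h₁ : IsAffineOpen U₁)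
    (hcov : U₁ ⊔ U₀ = ⊤)
    (hdec : ∀ s : (Coh.toAb M).obj.obj (op (U₁ ⊓ U₀)),
      ∃ (a : (Coh.toAb M).obj.obj (op U₀)) (b : (Coh.toAb M).obj.obj (op U₁)),
        s = (Coh.toAb M).obj.map (homOfLE (inf_le_right : U₁ ⊓ U₀ ≤ U₀)).op a +
            (Coh.toAb M).obj.map (homOfLE (inf_le_left : U₁ ⊓ U₀ ≤ U₁)).op b) :
    Subsingleton (Coh.HH X M 1) := by
  have hA := acyc_isAffineOpen X M
  have hcov' : Scup U₀ [U₁] = ⊤ := hcov
  have hL : ∀ U ∈ [U₁], IsAffineOpen U := by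
    intro U hU
    rw [List.mem_singleton] at hU
    subst hU
    exact h₁
  have hsurj := topMap_surjective U₀ [U₁] hcov' hA h₀ hL
  suffices h : ∀ z : Coh.HH X M 1, z = 0 from ⟨fun z w => by rw [h z, h w]⟩
  intro z
  obtain ⟨s, rfl⟩ := hsurj z
  obtain ⟨a, b, hs⟩ := hdec s
  have e1 := topMap_face U₀ [U₁] hcov' hA h₀ hL (by simp) U₀ (by simp [faces])
    (inf_le_right : U₁ ⊓ U₀ ≤ U₀) a
  have e2 := topMap_face U₀ [U₁] hcov' hA h₀ hL (by simp) (U₁ ⊓ ⊤) (by simp [faces])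
    (inf_le_inf le_rfl le_top : U₁ ⊓ U₀ ≤ U₁ ⊓ ⊤)
    ((Coh.toAb M).obj.map (homOfLE (inf_le_left : U₁ ⊓ ⊤ ≤ U₁)).op b)
  have hb : (Coh.toAb M).obj.map (homOfLE (inf_le_left : U₁ ⊓ U₀ ≤ U₁)).op b =
      (Coh.toAb M).obj.map (homOfLE (inf_le_inf le_rfl le_top : U₁ ⊓ U₀ ≤ U₁ ⊓ ⊤)).op
        ((Coh.toAb M).obj.map (homOfLE (inf_le_left : U₁ ⊓ ⊤ ≤ U₁)).op b) :=
    congr($((Coh.toAb M).obj.map_comp (homOfLE (inf_le_left : U₁ ⊓ ⊤ ≤ U₁)).op
      (homOfLE (inf_le_inf le_rfl le_top : U₁ ⊓ U₀ ≤ U₁ ⊓ ⊤)).op) b)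
  have hsum := map_add (topMap (Coh.toAb M) U₀ [U₁] hcov')
    ((Coh.toAb M).obj.map (homOfLE (inf_le_right : U₁ ⊓ U₀ ≤ U₀)).op a)
    ((Coh.toAb M).obj.map (homOfLE (inf_le_inf le_rfl le_top : U₁ ⊓ U₀ ≤ U₁ ⊓ ⊤)).op
        ((Coh.toAb M).obj.map (homOfLE (inf_le_left : U₁ ⊓ ⊤ ≤ U₁)).op b))
  rw [hs, hb]
  exact hsum.trans ((congrArg₂ (· + ·) e1 e2).trans (add_zero _))

/-- in a short exact sequence `0 → A → B → C → 0`, `H^n(B) = 0` and `H^{n+1}(A) = 0` imply
`H^n(C) = 0` -/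
theorem subsingleton_HH_right {X : Scheme.{u}} (S : ShortComplex X.Modules) (hS : S.ShortExact)
    (n : ℕ) (h2 : Subsingleton (Coh.HH X S.X₂ n)) (h1 : Subsingleton (Coh.HH X S.X₁ (n + 1))) :
    Subsingleton (Coh.HH X S.X₃ n) := by
  have hS' : (S.map (toAbF X)).ShortExact := hS.map_of_exact (toAbF X)
  have key : ∀ x : Coh.HH X S.X₃ n, x = 0 := by
    intro x
    obtain ⟨x₂, hx₂⟩ := Abelian.Ext.covariant_sequence_exact₃ _ hS'
      (show Abelian.Ext _ (S.map (toAbF X)).X₃ n from x) rfl (@Subsingleton.elim _ h1 _ _)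
    have h0 : x₂ = 0 := @Subsingleton.elim _ h2 _ _
    rw [h0, Abelian.Ext.zero_comp] at hx₂
    exact hx₂.symm
  exact ⟨fun a b => by rw [key a, key b]⟩

/-- the cohomology of a coproduct vanishes when that of the summands does -/
theorem subsingleton_HH_sigma {X : Scheme.{u}} [CompactSpace X] [QuasiSeparatedSpace X] (q : ℕ)
    {J : Type u} (E : J → X.Modules) (h : ∀ j, Subsingleton (Coh.HH X (E j) q)) :
    Subsingleton (Coh.HH X (∐ E) q) := by
  have h1 := Groth.Agent.Helper1.DualSh.closure_eq_top q E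
  have h2 : AddSubgroup.closure {x : Coh.HH X (∐ E) q | ∃ (j : J) (y : Coh.HH X (E j) q),
      x = Sheaf.H.map ((SheafOfModules.toSheaf X.ringCatSheaf).map (Sigma.ι E j)) q y} = ⊥ := by
    rw [AddSubgroup.closure_eq_bot_iff]
    rintro x ⟨j, y, rfl⟩
    haveI := h j
    rw [Subsingleton.elim y 0, map_zero]
    rfl
  rw [h2] at h1
  refine ⟨fun a b => ?_⟩
  have ha : a ∈ (⊥ : AddSubgroup (Coh.HH X (∐ E) q)) := h1 ▸ AddSubgroup.mem_top a
  have hb : b ∈ (⊥ : AddSubgroup (Coh.HH X (∐ E) q)) := h1 ▸ AddSubgroup.mem_top b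
  rw [AddSubgroup.mem_bot] at ha hb
  rw [ha, hb]

/-- the structure sheaf is quasi-coherent -/
theorem isQuasicoherent_unit (X : Scheme.{u}) : (Coh.structureModule X).IsQuasicoherent := by
  haveI : (SheafOfModules.free PUnit.{u + 1} : X.Modules).IsQuasicoherent :=
    Groth.Agent.Lead.GlobGen.isQuasicoherent_free PUnit.{u + 1}
  exact Groth.Agent.Helper4.QcohLimits.isQuasicoherent_of_iso
    (hF := Groth.Agent.Lead.GlobGen.isQuasicoherent_free PUnit.{u + 1})
    (coproductUniqueIso (fun _ : PUnit.{u + 1} => SheafOfModules.unit X.ringCatSheaf))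

section blowup

variable {A : Type u} [CommRing A]

/-- the blow-up of `(x, y)` is separated and quasi-compact -/
theorem blowup_two_geometry (I : Ideal A) (x y : A) (hI : I = Ideal.span {x, y})
    (X : Scheme.{u}) (b : X ⟶ Spec (CommRingCat.of A))
    (hb : BlowUp.IsBlowUp b (Curv2.idealSheaf A I)) :
    ∃ (hx : x ∈ I) (hy : y ∈ I) (e : X ≅ Proj (𝒜 A I)), X.IsSeparated ∧ CompactSpace X ∧
      IsAffineOpen (e.hom ⁻¹ᵁ Proj.basicOpen (𝒜 A I) (t x hx)) ∧
      IsAffineOpen (e.hom ⁻¹ᵁ Proj.basicOpen (𝒜 A I) (t y hy)) ∧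
      e.hom ⁻¹ᵁ Proj.basicOpen (𝒜 A I) (t y hy) ⊔ e.hom ⁻¹ᵁ Proj.basicOpen (𝒜 A I) (t x hx) = ⊤ := by
  have hx : x ∈ I := by rw [hI]; exact Ideal.subset_span (by simp)
  have hy : y ∈ I := by rw [hI]; exact Ideal.subset_span (by simp)
  obtain ⟨e, -⟩ := Groth.Agent.Helper4.NApx27.isBlowUp_unique _ b (bb A I) hb isBlowUp_proj
  have hsep : X.IsSeparated := by
    have : IsSeparated (terminal.from X) := by
      have h : terminal.from X = e.hom ≫ terminal.from (Proj (𝒜 A I)) := Subsingleton.elim _ _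
      rw [h]
      infer_instance
    exact ⟨this⟩
  have ha0 : IsAffineOpen (e.hom ⁻¹ᵁ Proj.basicOpen (𝒜 A I) (t x hx)) :=
    (Proj.isAffineOpen_basicOpen (𝒜 A I) (t x hx) (t_mem x hx) one_pos).preimage_of_isIso e.hom
  have ha1 : IsAffineOpen (e.hom ⁻¹ᵁ Proj.basicOpen (𝒜 A I) (t y hy)) :=
    (Proj.isAffineOpen_basicOpen (𝒜 A I) (t y hy) (t_mem y hy) one_pos).preimage_of_isIso e.hom
  have hcov : e.hom ⁻¹ᵁ Proj.basicOpen (𝒜 A I) (t y hy) ⊔
      e.hom ⁻¹ᵁ Proj.basicOpen (𝒜 A I) (t x hx) = ⊤ := by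
    rw [eq_top_iff]
    intro z _
    have hz : e.hom z ∈ (⊤ : (Proj (𝒜 A I)).Opens) := trivial
    rw [← Groth.Agent.Helper4.SN.basicOpen_sup_eq_top I x y hx hy hI] at hz
    rcases hz with hz | hz
    · exact Or.inr hz
    · exact Or.inl hz
  refine ⟨hx, hy, e, hsep, ?_, ha0, ha1, hcov⟩
  constructor
  have hc : ((e.hom ⁻¹ᵁ Proj.basicOpen (𝒜 A I) (t y hy) ⊔
      e.hom ⁻¹ᵁ Proj.basicOpen (𝒜 A I) (t x hx) : X.Opens) : Set X) = Set.univ := by
    rw [hcov]; rfl
  rw [← hc]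
  exact ha1.isCompact.union ha0.isCompact

/-- `H¹(X, O_X) = 0` for the blow-up `X` of an ideal generated by two elements -/
theorem subsingleton_HH_one_structure_blowup (I : Ideal A) (x y : A) (hI : I = Ideal.span {x, y})
    (X : Scheme.{u}) (b : X ⟶ Spec (CommRingCat.of A))
    (hb : BlowUp.IsBlowUp b (Curv2.idealSheaf A I)) :
    Subsingleton (Coh.HH X (Coh.structureModule X) 1) := by
  obtain ⟨hx, hy, e, hsep, -, ha0, ha1, hcov⟩ := blowup_two_geometry I x y hI X b hb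
  haveI := hsep
  haveI : (Coh.structureModule X).IsQuasicoherent := isQuasicoherent_unit X
  refine subsingleton_HH_one_of_two_affines X _ _ _ ha0 ha1 hcov ?_
  intro s
  have hW : Proj.basicOpen (𝒜 A I) (t y hy) ⊓ Proj.basicOpen (𝒜 A I) (t x hx) =
      Proj.basicOpen (𝒜 A I) (t x hx * t y hy) := by
    rw [Proj.basicOpen_mul, inf_comm]
  obtain ⟨a, b', h⟩ := sections_decomp_of_iso e.hom
    (Proj.basicOpen (𝒜 A I) (t y hy) ⊓ Proj.basicOpen (𝒜 A I) (t x hx))
    (Proj.basicOpen (𝒜 A I) (t x hx)) (Proj.basicOpen (𝒜 A I) (t y hy)) inf_le_right inf_le_left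
    (fun s' => proj_sections_decomp x y hx hy hI _ hW inf_le_right inf_le_left s')
    (e.hom.preimage_mono inf_le_right) (e.hom.preimage_mono inf_le_left) s
  exact ⟨a, b', h⟩

/-- `H¹` of a globally generated quasi-coherent module on the blow-up of an ideal generated by
two elements vanishes -/
theorem subsingleton_HH_one_blowup_two (I : Ideal A) (x y : A) (hI : I = Ideal.span {x, y})
    (X : Scheme.{u}) (b : X ⟶ Spec (CommRingCat.of A))
    (hb : BlowUp.IsBlowUp b (Curv2.idealSheaf A I))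
    (F : X.Modules) (hF : Coh.IsQCoh F) (hgg : Curv2.IsGloballyGenerated F) :
    Subsingleton (Coh.HH X F 1) := by
  obtain ⟨ι, p, hp⟩ := hgg
  obtain ⟨hx, hy, e, hsep, hcpt, -, -, -⟩ := blowup_two_geometry I x y hI X b hb
  haveI := hsep
  haveI := hcpt
  haveI : F.IsQuasicoherent := hF
  haveI : (SheafOfModules.free ι : X.Modules).IsQuasicoherent :=
    Groth.Agent.Lead.GlobGen.isQuasicoherent_free ι
  haveI hKq : (kernel p).IsQuasicoherent := Groth.Agent.Helper4.QcohLimits.isQuasicoherent_kernel p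
  have hO := subsingleton_HH_one_structure_blowup I x y hI X b hb
  have hfree : Subsingleton (Coh.HH X (SheafOfModules.free ι : X.Modules) 1) :=
    subsingleton_HH_sigma 1 (fun _ : ι => Coh.structureModule X) (fun _ => hO)
  have hK : Subsingleton (Coh.HH X (kernel p) 2) :=
    Groth.Agent.Helper4.SN.subsingleton_HH_blowup_two I x y hI X b hb _ hKq 2 le_rfl
  let S : ShortComplex X.Modules := ShortComplex.mk (kernel.ι p) p (kernel.condition p)
  have hS : S.ShortExact :=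
    { exact := ShortComplex.exact_of_f_is_kernel _ (kernelIsKernel p)
      mono_f := inferInstanceAs (Mono (kernel.ι p))
      epi_g := hp }
  exact subsingleton_HH_right S hS 1 hfree hK

/-- S1624 -/
theorem main1624 [IsRegularLocalRing A] (hA : ringKrullDim A = 2)
    (X : Scheme.{u}) (b : X ⟶ Spec (CommRingCat.of A))
    (hb : BlowUp.IsBlowUp b (Curv2.idealSheaf A (IsLocalRing.maximalIdeal A)))
    (F : X.Modules) (hF : Coh.IsQCoh F) (hgg : Curv2.IsGloballyGenerated F) :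
    Subsingleton (Coh.HH X F 1) := by
  have hfg : (IsLocalRing.maximalIdeal A).FG := (isNoetherianRing_iff_ideal_fg A).mp inferInstance _
  obtain ⟨s, hs, hspan⟩ := Submodule.FG.exists_span_finset_card_eq_spanFinrank hfg
  have h2 : s.card = 2 := by
    have h := IsRegularLocalRing.spanFinrank_maximalIdeal (R := A)
    rw [hA] at h
    have : ((IsLocalRing.maximalIdeal A).spanFinrank : WithBot ℕ∞) = 2 := h
    rw [hs]
    exact_mod_cast this
  classical
  obtain ⟨x, y, -, hxy⟩ := Finset.card_eq_two.mp h2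
  refine subsingleton_HH_one_blowup_two _ x y ?_ X b hb F hF hgg
  rw [← hspan, hxy]
  simp [Ideal.span]

end blowup

end Groth.Agent.Lead.BlH1B
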