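import Groth.Agent.S9189
import Groth.Agent.S9190
import Groth.Agent.Lead.ChowQ
import Groth.Agent.Helper6.HProj
import Mathlib

set_option autoImplicit false
universe u
open CategoryTheory AlgebraicGeometry Limits Opposite

namespace Groth.Agent.Lead.PropDesc

open Groth.Agent.Lead.ChowQ

theorem rebase {I : Type u} [SmallCategory I] {D : I ⥤ Scheme.{u}} {c : Cone D} {i₀ i : I}
    (φ : i ⟶ i₀) {X₀ Y₀ X Y Xi Yi : Scheme.{u}} {f₀ : X₀ ⟶ Y₀} {g₀ : Y₀ ⟶ D.obj i₀} {f : X ⟶ Y}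
    {g : Y ⟶ c.pt} {qY : Y ⟶ Y₀} {qX : X ⟶ X₀} (hY : IsPullback qY g g₀ (c.π.app i₀))
    (hX : IsPullback qX f f₀ qY) {fi : Xi ⟶ Yi} {gi : Yi ⟶ D.obj i} {pY : Yi ⟶ Y₀} {pX : Xi ⟶ X₀}
    (h1 : IsPullback pY gi g₀ (D.map φ)) (h2 : IsPullback pX fi f₀ pY) :
    ∃ (qY' : Y ⟶ Yi) (qX' : X ⟶ Xi), IsPullback qY' g gi (c.π.app i) ∧ IsPullback qX' f fi qY' ∧
      qY' ≫ pY = qY ∧ qX' ≫ pX = qX := by
  have w1 : qY ≫ g₀ = (g ≫ c.π.app i) ≫ D.map φ := by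
    rw [hY.w, Category.assoc, c.w]
  let qY' : Y ⟶ Yi := h1.lift qY (g ≫ c.π.app i) w1
  have e1 : qY' ≫ pY = qY := h1.lift_fst _ _ _
  have e2 : qY' ≫ gi = g ≫ c.π.app i := h1.lift_snd _ _ _
  have s1 : IsPullback (qY' ≫ pY) g g₀ (c.π.app i ≫ D.map φ) := by
    rw [e1, c.w]; exact hY
  have hY' : IsPullback qY' g gi (c.π.app i) := IsPullback.of_right s1 e2 h1
  have w2 : qX ≫ f₀ = (f ≫ qY') ≫ pY := by
    rw [hX.w, Category.assoc, e1]
  let qX' : X ⟶ Xi := h2.lift qX (f ≫ qY') w2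
  have e3 : qX' ≫ pX = qX := h2.lift_fst _ _ _
  have e4 : qX' ≫ fi = f ≫ qY' := h2.lift_snd _ _ _
  have s2 : IsPullback (qX' ≫ pX) f f₀ (qY' ≫ pY) := by
    rw [e3, e1]; exact hX
  exact ⟨qY', qX', hY', IsPullback.of_right s2 e4 h2, e1, e3⟩


theorem isProper_descends
    (hChow : ∀ {X S : Scheme.{u}} (f : X ⟶ S) [CompactSpace S] [QuasiSeparatedSpace S]
      [IsSeparated f] [LocallyOfFiniteType f] [QuasiCompact f],
      ∃ (n : ℕ) (X' : Scheme.{u}) (π : X' ⟶ X) (j : X' ⟶ CohB1.ProjSpaceOver n S),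
        IsImmersion j ∧ j ≫ CohB1.ProjSpaceOver.toBase n S = π ≫ f ∧ IsProper π ∧ Surjective π)
    {I : Type u} [SmallCategory I] [IsCofiltered I]
    (D : I ⥤ Scheme.{u}) (c : Limits.Cone D) (hc : Limits.IsLimit c)
    [∀ (i j : I) (f : i ⟶ j), IsAffineHom (D.map f)] (i₀ : I) [CompactSpace (D.obj i₀)]
    [QuasiSeparatedSpace (D.obj i₀)] {X₀ Y₀ : Scheme.{u}} (f₀ : X₀ ⟶ Y₀) (g₀ : Y₀ ⟶ D.obj i₀)
    [CompactSpace X₀] [QuasiSeparatedSpace X₀] [CompactSpace Y₀] [QuasiSeparatedSpace Y₀]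
    {X Y : Scheme.{u}} (f : X ⟶ Y) (g : Y ⟶ c.pt) (qY : Y ⟶ Y₀) (qX : X ⟶ X₀)
    (hY : IsPullback qY g g₀ (c.π.app i₀)) (hX : IsPullback qX f f₀ qY)
    [LocallyOfFiniteType f₀] [IsProper f] :
    ∃ (i : I) (φ : i ⟶ i₀) (Xi Yi : Scheme.{u}) (fi : Xi ⟶ Yi) (gi : Yi ⟶ D.obj i) (pY : Yi ⟶ Y₀)
      (pX : Xi ⟶ X₀), IsPullback pY gi g₀ (D.map φ) ∧ IsPullback pX fi f₀ pY ∧ IsProper fi := by
  -- Step 1: separatedness at a stage
  obtain ⟨i₁, φ₁, X₁, Y₁, f₁, g₁, pY₁, pX₁, h1, h2, hsep⟩ :=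
    Groth.Agent.S9190.result D c hc i₀ f₀ g₀ f g qY qX hY hX
  obtain ⟨qY₁, qX₁, hY₁, hX₁, -, -⟩ := rebase φ₁ hY hX h1 h2
  haveI : CompactSpace (D.obj i₁) := QuasiCompact.compactSpace_of_compactSpace (D.map φ₁)
  haveI : QuasiSeparatedSpace (D.obj i₁) := quasiSeparatedSpace_of_quasiSeparated (D.map φ₁)
  haveI : IsAffineHom pY₁ :=
    MorphismProperty.of_isPullback (P := @IsAffineHom) h1.flip inferInstance
  haveI : CompactSpace Y₁ := QuasiCompact.compactSpace_of_compactSpace pY₁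
  haveI : QuasiSeparatedSpace Y₁ := quasiSeparatedSpace_of_quasiSeparated pY₁
  haveI : IsAffineHom pX₁ :=
    MorphismProperty.of_isPullback (P := @IsAffineHom) h2.flip inferInstance
  haveI : CompactSpace X₁ := QuasiCompact.compactSpace_of_compactSpace pX₁
  haveI : QuasiSeparatedSpace X₁ := quasiSeparatedSpace_of_quasiSeparated pX₁
  haveI : LocallyOfFiniteType f₁ :=
    MorphismProperty.of_isPullback (P := @LocallyOfFiniteType) h2 inferInstance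
  haveI : QuasiCompact f₁ := inferInstance
  -- Step 2: Chow
  obtain ⟨n, X₁', π₁, j₁, hj₁, hcomm, hπ₁, hπ₁s⟩ := hChow f₁
  haveI hPB₁ : IsProper (CohB1.ProjSpaceOver.toBase n Y₁) :=
    Groth.Agent.Helper6.HProj.isProper_toBase n Y₁
  haveI hPB : IsProper (CohB1.ProjSpaceOver.toBase n Y) :=
    Groth.Agent.Helper6.HProj.isProper_toBase n Y
  haveI : CompactSpace X₁' := QuasiCompact.compactSpace_of_compactSpace π₁
  haveI : QuasiSeparatedSpace X₁' := quasiSeparatedSpace_of_quasiSeparated π₁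
  haveI : CompactSpace (CohB1.ProjSpaceOver n Y₁) :=
    QuasiCompact.compactSpace_of_compactSpace (CohB1.ProjSpaceOver.toBase n Y₁)
  haveI : QuasiSeparatedSpace (CohB1.ProjSpaceOver n Y₁) :=
    quasiSeparatedSpace_of_quasiSeparated (CohB1.ProjSpaceOver.toBase n Y₁)
  haveI : LocallyOfFiniteType j₁ := inferInstance
  -- Step 3: the limit level
  have hB := isPullback_projSpaceOver n qY₁
  have hY' : IsPullback (FGA.projMap n qY₁) (CohB1.ProjSpaceOver.toBase n Y ≫ g)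
      (CohB1.ProjSpaceOver.toBase n Y₁ ≫ g₁) (c.π.app i₁) := hB.paste_vert hY₁
  have hA : IsPullback (pullback.fst j₁ (FGA.projMap n qY₁)) (pullback.snd j₁ (FGA.projMap n qY₁))
      j₁ (FGA.projMap n qY₁) := IsPullback.of_hasPullback _ _
  have hAB : IsPullback (pullback.fst j₁ (FGA.projMap n qY₁))
      (pullback.snd j₁ (FGA.projMap n qY₁) ≫ CohB1.ProjSpaceOver.toBase n Y)
      (j₁ ≫ CohB1.ProjSpaceOver.toBase n Y₁) qY₁ := hA.paste_vert hB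
  rw [hcomm] at hAB
  let r : pullback j₁ (FGA.projMap n qY₁) ⟶ X :=
    hX₁.lift (pullback.fst j₁ (FGA.projMap n qY₁) ≫ π₁)
      (pullback.snd j₁ (FGA.projMap n qY₁) ≫ CohB1.ProjSpaceOver.toBase n Y)
      (by rw [Category.assoc]; exact hAB.w)
  have hr1 : r ≫ qX₁ = pullback.fst j₁ (FGA.projMap n qY₁) ≫ π₁ := hX₁.lift_fst _ _ _
  have hr2 : r ≫ f = pullback.snd j₁ (FGA.projMap n qY₁) ≫ CohB1.ProjSpaceOver.toBase n Y :=
    hX₁.lift_snd _ _ _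
  have sR : IsPullback (pullback.fst j₁ (FGA.projMap n qY₁)) (r ≫ f) (π₁ ≫ f₁) qY₁ := by
    rw [hr2]; exact hAB
  have hR : IsPullback (pullback.fst j₁ (FGA.projMap n qY₁)) r π₁ qX₁ :=
    IsPullback.of_bot sR hr1.symm hX₁
  haveI : IsProper r := MorphismProperty.of_isPullback (P := @IsProper) hR hπ₁
  haveI : IsProper (pullback.snd j₁ (FGA.projMap n qY₁) ≫ CohB1.ProjSpaceOver.toBase n Y) := by
    rw [← hr2]; infer_instance
  haveI : IsProper (pullback.snd j₁ (FGA.projMap n qY₁)) :=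
    IsProper.of_comp _ (CohB1.ProjSpaceOver.toBase n Y)
  haveI : IsImmersion (pullback.snd j₁ (FGA.projMap n qY₁)) :=
    MorphismProperty.of_isPullback (P := @IsImmersion) hA hj₁
  haveI : IsClosedImmersion (pullback.snd j₁ (FGA.projMap n qY₁)) :=
    IsClosedImmersion.of_isPreimmersion _
      (pullback.snd j₁ (FGA.projMap n qY₁)).isClosedMap.isClosed_range
  -- Step 4: descend the closed immersion
  obtain ⟨i₂, φ₂, X₂', P₂, f₂', g₂', pP₂, pX₂', k1, k2, hcl⟩ :=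
    Groth.Agent.S9189.result D c hc i₁ j₁ (CohB1.ProjSpaceOver.toBase n Y₁ ≫ g₁)
      (pullback.snd j₁ (FGA.projMap n qY₁)) (CohB1.ProjSpaceOver.toBase n Y ≫ g)
      (FGA.projMap n qY₁) (pullback.fst j₁ (FGA.projMap n qY₁)) hY' hA
  -- Step 5: the stage `i₂`
  have tY : IsPullback (pullback.fst g₁ (D.map φ₂)) (pullback.snd g₁ (D.map φ₂)) g₁ (D.map φ₂) :=
    IsPullback.of_hasPullback _ _
  have tX : IsPullback (pullback.fst f₁ (pullback.fst g₁ (D.map φ₂)))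
      (pullback.snd f₁ (pullback.fst g₁ (D.map φ₂))) f₁ (pullback.fst g₁ (D.map φ₂)) :=
    IsPullback.of_hasPullback _ _
  let u : P₂ ⟶ pullback g₁ (D.map φ₂) :=
    pullback.lift (pP₂ ≫ CohB1.ProjSpaceOver.toBase n Y₁) g₂' (by
      rw [Category.assoc]; exact k1.w)
  have hu1 : u ≫ pullback.fst g₁ (D.map φ₂) = pP₂ ≫ CohB1.ProjSpaceOver.toBase n Y₁ :=
    pullback.lift_fst _ _ _
  have hu2 : u ≫ pullback.snd g₁ (D.map φ₂) = g₂' := pullback.lift_snd _ _ _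
  have sU : IsPullback pP₂ (u ≫ pullback.snd g₁ (D.map φ₂))
      (CohB1.ProjSpaceOver.toBase n Y₁ ≫ g₁) (D.map φ₂) := by
    rw [hu2]; exact k1
  have hU : IsPullback pP₂ u (CohB1.ProjSpaceOver.toBase n Y₁) (pullback.fst g₁ (D.map φ₂)) :=
    IsPullback.of_bot sU hu1.symm tY
  haveI : IsProper u := MorphismProperty.of_isPullback (P := @IsProper) hU hPB₁
  have sV0 : IsPullback pX₂' (f₂' ≫ u) (j₁ ≫ CohB1.ProjSpaceOver.toBase n Y₁)
      (pullback.fst g₁ (D.map φ₂)) := k2.paste_vert hU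
  rw [hcomm] at sV0
  let v : X₂' ⟶ pullback f₁ (pullback.fst g₁ (D.map φ₂)) :=
    pullback.lift (pX₂' ≫ π₁) (f₂' ≫ u) (by rw [Category.assoc]; exact sV0.w)
  have hv1 : v ≫ pullback.fst f₁ (pullback.fst g₁ (D.map φ₂)) = pX₂' ≫ π₁ :=
    pullback.lift_fst _ _ _
  have hv2 : v ≫ pullback.snd f₁ (pullback.fst g₁ (D.map φ₂)) = f₂' ≫ u :=
    pullback.lift_snd _ _ _
  have sV : IsPullback pX₂' (v ≫ pullback.snd f₁ (pullback.fst g₁ (D.map φ₂))) (π₁ ≫ f₁)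
      (pullback.fst g₁ (D.map φ₂)) := by
    rw [hv2]; exact sV0
  have hV : IsPullback pX₂' v π₁ (pullback.fst f₁ (pullback.fst g₁ (D.map φ₂))) :=
    IsPullback.of_bot sV hv1.symm tX
  haveI : Surjective v := MorphismProperty.of_isPullback (P := @Surjective) hV hπ₁s
  haveI : IsClosedImmersion f₂' := hcl
  haveI : UniversallyClosed (v ≫ pullback.snd f₁ (pullback.fst g₁ (D.map φ₂))) := by
    rw [hv2]; infer_instance
  haveI : UniversallyClosed (pullback.snd f₁ (pullback.fst g₁ (D.map φ₂))) :=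
    UniversallyClosed.of_comp_surjective v _
  haveI : IsSeparated f₁ := hsep
  have hprop : IsProper (pullback.snd f₁ (pullback.fst g₁ (D.map φ₂))) := {}
  refine ⟨i₂, φ₂ ≫ φ₁, _, _, pullback.snd f₁ (pullback.fst g₁ (D.map φ₂)),
    pullback.snd g₁ (D.map φ₂), pullback.fst g₁ (D.map φ₂) ≫ pY₁,
    pullback.fst f₁ (pullback.fst g₁ (D.map φ₂)) ≫ pX₁, ?_, tX.paste_horiz h2, hprop⟩
  rw [D.map_comp]
  exact tY.paste_horiz h1

end Groth.Agent.Lead.PropDesc
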