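import Mathlib
import Groth.Prelude.Def_TorSh
import Groth.Prelude.Def_Coh
import Groth.Agent.Lead.TFQuotA
import Groth.Agent.Helper4.QcohGlue
import Groth.Agent.Helper4.QcohLimits
import Groth.Agent.Helper4.StalkDict
import Groth.Agent.Helper4.StalkExact
import Groth.Agent.Helper4.AssDict
import Groth.Agent.Helper4.EpiStalk

/-!
# The sheaf of rational functions of an integral scheme (S4356, S4350)
-/

set_option autoImplicit false
universe u
open CategoryTheory CategoryTheory.Limits AlgebraicGeometry TopologicalSpace Opposite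

namespace Groth.Agent.Lead.RatSh

open Groth.Agent.Helper4
open Groth.Agent.Helper4.StalkDict (stalkLin)

variable (X : Scheme.{u}) [IsIntegral X]

/-- the function field -/
noncomputable abbrev KK : CommRingCat.{u} := X.presheaf.stalk (genericPoint X)

/-- the canonical morphism from the spectrum of the function field -/
noncomputable abbrev xi : Spec (KK X) ⟶ X := X.fromSpecStalk (genericPoint X)

/-- the sheaf of rational functions -/
noncomputable abbrev ratMod : X.Modules :=
  (Scheme.Modules.pushforward (xi X)).obj (Coh.structureModule (Spec (KK X)))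

variable {X}

theorem generic_mem {U : X.Opens} (x : X) (hx : x ∈ U) : genericPoint X ∈ U :=
  ((genericPoint_spec X).mem_open_set_iff U.isOpen).mpr ⟨x, Set.mem_univ x, hx⟩

theorem preimage_eq_top {U : X.Opens} (hη : genericPoint X ∈ U) : xi X ⁻¹ᵁ U = ⊤ := by
  rw [eq_top_iff]
  intro p _
  have h1 : xi X p ∈ Set.range (xi X) := ⟨p, rfl⟩
  rw [Scheme.range_fromSpecStalk] at h1
  exact (h1 : xi X p ⤳ genericPoint X).mem_open U.isOpen hη

/-- the ring homomorphism `K → Γ(Spec K, ξ⁻¹ U)` -/
noncomputable def kap (U : X.Opens) : KK X →+* Γ(Spec (KK X), xi X ⁻¹ᵁ U) :=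
  ((Scheme.ΓSpecIso (KK X)).inv ≫
    (Spec (KK X)).presheaf.map (homOfLE (le_top : xi X ⁻¹ᵁ U ≤ ⊤)).op).hom

theorem kap_bijective {U : X.Opens} (hη : genericPoint X ∈ U) : Function.Bijective (kap U) := by
  have h : ∀ W : (Spec (KK X)).Opens, W = ⊤ → Function.Bijective
      (((Scheme.ΓSpecIso (KK X)).inv ≫
        (Spec (KK X)).presheaf.map (homOfLE (le_top : W ≤ ⊤)).op).hom) := by
    rintro _ rfl
    have : (homOfLE (le_top : (⊤ : (Spec (KK X)).Opens) ≤ ⊤)) = 𝟙 _ := Subsingleton.elim _ _
    rw [this, op_id, CategoryTheory.Functor.map_id, Category.comp_id]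
    exact (ConcreteCategory.isIso_iff_bijective _).mp inferInstance
  exact h _ (preimage_eq_top hη)

theorem xi_app {U : X.Opens} (hη : genericPoint X ∈ U) (a : Γ(X, U)) :
    (xi X).app U a = kap U (X.presheaf.germ U (genericPoint X) hη a) := by
  rw [Scheme.fromSpecStalk_app hη]
  rfl

theorem kap_res {U V : X.Opens} (h : V ≤ U) (c : KK X) :
    (Spec (KK X)).presheaf.map (homOfLE ((xi X).preimage_mono h)).op (kap U c) = kap V c := by
  unfold kap
  rw [← CommRingCat.comp_apply, Category.assoc, ← Functor.map_comp]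
  rfl

/-- sections of the sheaf of rational functions, seen as functions on `Spec K` -/
def toFn {U : X.Opens} (t : Γ(ratMod X, U)) : Γ(Spec (KK X), xi X ⁻¹ᵁ U) := t

/-- functions on `Spec K` seen as sections of the sheaf of rational functions -/
def ofFn' {U : X.Opens} (t : Γ(Spec (KK X), xi X ⁻¹ᵁ U)) : Γ(ratMod X, U) := t

theorem smul_eq {U : X.Opens} (a : Γ(X, U)) (t : Γ(ratMod X, U)) :
    a • t = ofFn' ((xi X).app U a * toFn t) := rfl

theorem res_eq {U V : X.Opens} (h : V ≤ U) (t : Γ(ratMod X, U)) :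
    (ratMod X).presheaf.map (homOfLE h).op t =
      ofFn' ((Spec (KK X)).presheaf.map (homOfLE ((xi X).preimage_mono h)).op (toFn t)) := rfl

theorem exists_kap {U : X.Opens} (hη : genericPoint X ∈ U) (t : Γ(ratMod X, U)) :
    ∃ c : KK X, t = ofFn' (kap U c) := by
  obtain ⟨c, hc⟩ := (kap_bijective hη).2 (toFn t)
  exact ⟨c, hc.symm⟩

theorem smul_kap {U : X.Opens} (hη : genericPoint X ∈ U) (a : Γ(X, U)) (c : KK X) :
    a • (ofFn' (kap U c) : Γ(ratMod X, U)) =
      ofFn' (kap U (X.presheaf.germ U (genericPoint X) hη a * c)) := by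
  rw [smul_eq, xi_app hη, map_mul]
  rfl

theorem res_kap {U V : X.Opens} (h : V ≤ U) (c : KK X) :
    (ratMod X).presheaf.map (homOfLE h).op (ofFn' (kap U c)) = ofFn' (kap V c) := by
  rw [res_eq]
  exact congrArg ofFn' (kap_res h c)

theorem kap_eq_zero {U : X.Opens} (hη : genericPoint X ∈ U) (c : KK X)
    (h : (ofFn' (kap U c) : Γ(ratMod X, U)) = 0) : c = 0 := by
  apply (kap_bijective hη).1
  rw [map_zero]
  exact h

/-- the germ at `x` of the section `kap U c` vanishes only if `c = 0` -/
theorem germ_kap_eq_zero {U : X.Opens} (x : X) (hx : x ∈ U) (c : KK X)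
    (h : (ratMod X).presheaf.germ U x hx (ofFn' (kap U c)) = 0) : c = 0 := by
  obtain ⟨W, hW, hxW, h0⟩ := (Groth.Agent.Lead.TFQuot.germ_eq_zero_iff (ratMod X) x hx _).mp h
  rw [res_kap] at h0
  exact kap_eq_zero (generic_mem x hxW) c h0

/-- the sheaf of rational functions is torsion-free -/
theorem isTorsionFree_ratMod : TorSh.IsTorsionFree (ratMod X) := by
  intro x
  refine ⟨fun r hr m₁ m₂ h12 => ?_⟩
  have hsub : r • (m₁ - m₂) = 0 := by
    rw [smul_sub]
    exact sub_eq_zero.mpr h12
  suffices h : m₁ - m₂ = 0 from sub_eq_zero.mp h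
  obtain ⟨U, hxU, r₀, t, hr₀, ht⟩ := StalkDict.exists_common (ratMod X) x r (m₁ - m₂)
  have hη := generic_mem x hxU
  obtain ⟨c, hc⟩ := exists_kap hη t
  rw [← ht, hc]
  rw [← hr₀, ← ht, hc, ← StalkDict.germ_smul, smul_kap hη] at hsub
  have h1 := germ_kap_eq_zero x hxU _ hsub
  have hr0 : X.presheaf.germ U (genericPoint X) hη r₀ ≠ 0 := by
    intro h0
    have : r₀ = 0 := germ_injective_of_isIntegral X (genericPoint X) hη (h0.trans (map_zero _).symm)
    apply hr.ne_zero
    rw [← hr₀, this, map_zero]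
  have hc0 : c = 0 := (mul_eq_zero.mp h1).resolve_left hr0
  rw [hc0, map_zero]
  exact map_zero _

variable (X) in
/-- the generator of the generic stalk -/
noncomputable def gen : (ratMod X).presheaf.stalk (genericPoint X) :=
  (ratMod X).presheaf.germ ⊤ (genericPoint X) trivial (ofFn' (kap ⊤ 1))

theorem germ_kap {U : X.Opens} (hη : genericPoint X ∈ U) (c₀ : Γ(X, U)) :
    (ratMod X).presheaf.germ U (genericPoint X) hη
        (ofFn' (kap U (X.presheaf.germ U (genericPoint X) hη c₀))) =
      X.presheaf.germ U (genericPoint X) hη c₀ • gen X := by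
  have h1 : gen X = (ratMod X).presheaf.germ U (genericPoint X) hη (ofFn' (kap U 1)) := by
    unfold gen
    rw [← TopCat.Presheaf.germ_res_apply (ratMod X).presheaf (homOfLE (le_top : U ≤ ⊤)) _ hη,
      res_kap]
  rw [h1, ← StalkDict.germ_smul, smul_kap hη, mul_one]

theorem smul_gen_surjective (m : (ratMod X).presheaf.stalk (genericPoint X)) :
    ∃ c : KK X, c • gen X = m := by
  obtain ⟨U, hη, t, rfl⟩ := TopCat.Presheaf.exists_germ_eq (ratMod X).presheaf m
  obtain ⟨c, rfl⟩ := exists_kap hη t
  obtain ⟨V, hηV, c₀, rfl⟩ := TopCat.Presheaf.exists_germ_eq X.presheaf c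
  refine ⟨X.presheaf.germ V _ hηV c₀, ?_⟩
  have hW : genericPoint X ∈ U ⊓ V := ⟨hη, hηV⟩
  have e1 : X.presheaf.germ V _ hηV c₀ = X.presheaf.germ (U ⊓ V) _ hW
      (X.presheaf.map (homOfLE (inf_le_right : U ⊓ V ≤ V)).op c₀) :=
    (TopCat.Presheaf.germ_res_apply X.presheaf (homOfLE (inf_le_right : U ⊓ V ≤ V)) _ hW c₀).symm
  rw [← TopCat.Presheaf.germ_res_apply (ratMod X).presheaf (homOfLE (inf_le_left : U ⊓ V ≤ U)) _
    hW, res_kap, e1, germ_kap hW]

theorem smul_gen_injective (c : KK X) (h : c • gen X = 0) : c = 0 := by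
  obtain ⟨V, hηV, c₀, rfl⟩ := TopCat.Presheaf.exists_germ_eq X.presheaf c
  rw [← germ_kap hηV] at h
  exact germ_kap_eq_zero _ hηV _ h

variable (X) in
/-- the generic stalk of the sheaf of rational functions is the function field -/
noncomputable def genEquiv : KK X ≃ₗ[KK X] (ratMod X).presheaf.stalk (genericPoint X) :=
  LinearEquiv.ofBijective (LinearMap.toSpanSingleton (KK X) _ (gen X))
    ⟨by
      rw [← LinearMap.ker_eq_bot, LinearMap.ker_eq_bot']
      intro c hc
      exact smul_gen_injective c hc,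
     fun m => smul_gen_surjective m⟩

theorem finrank_ratMod :
    Module.finrank (KK X) ((ratMod X).presheaf.stalk (genericPoint X)) = 1 := by
  rw [← (genEquiv X).finrank_eq]
  exact Module.finrank_self (KK X)

/-- a torsion-free quasi-coherent module: a section over an affine open with zero generic germ
is zero -/
theorem section_eq_zero_of_generic (G : X.Modules) [G.IsQuasicoherent]
    (hG : TorSh.IsTorsionFree G) {U : X.Opens} (hU : IsAffineOpen U)
    (hη : genericPoint X ∈ U) (s : Γ(G, U))
    (h0 : G.presheaf.germ U (genericPoint X) hη s = 0) : s = 0 := by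
  rw [AssDict.germ_eq_zero_iff hU G _ hη s, SetLike.not_le_iff_exists] at h0
  obtain ⟨a, ha, hap⟩ := h0
  rw [Submodule.mem_colon_singleton, Submodule.mem_bot] at ha
  have ha0 : a ≠ 0 := by
    rintro rfl
    exact hap (Ideal.zero_mem _)
  apply AssDict.section_eq_zero_of_germ
  intro x hx
  have h1 : X.presheaf.germ U x hx a • G.presheaf.germ U x hx s = 0 := by
    rw [← StalkDict.germ_smul, ha, map_zero]
  have h2 : X.presheaf.germ U x hx a ≠ 0 := by
    intro h
    exact ha0 (germ_injective_of_isIntegral X x hx (h.trans (map_zero _).symm))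
  haveI := hG x
  have h3 : IsSMulRegular (G.presheaf.stalk x) (X.presheaf.germ U x hx a) :=
    Module.IsTorsionFree.isSMulRegular (IsRegular.of_ne_zero h2)
  apply h3
  change X.presheaf.germ U x hx a • G.presheaf.germ U x hx s = X.presheaf.germ U x hx a • 0
  rw [smul_zero]
  exact h1

/-- a quasi-coherent torsion-free module with zero generic stalk is zero -/
theorem isZero_of_generic_stalk (G : X.Modules) [G.IsQuasicoherent]
    (hG : TorSh.IsTorsionFree G)
    (h0 : Subsingleton (G.presheaf.stalk (genericPoint X))) : IsZero G := by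
  apply AssDict.isZero_of_subsingleton_stalks
  intro x
  refine ⟨fun m₁ m₂ => ?_⟩
  suffices h : ∀ m : G.presheaf.stalk x, m = 0 by rw [h m₁, h m₂]
  intro m
  obtain ⟨V, hxV, s, rfl⟩ := TopCat.Presheaf.exists_germ_eq G.presheaf m
  obtain ⟨_, ⟨U, hU : IsAffineOpen U, rfl⟩, hxU, hUV⟩ :=
    X.isBasis_affineOpens.exists_subset_of_mem_open hxV V.isOpen
  have hUV' : U ≤ V := hUV
  rw [← TopCat.Presheaf.germ_res_apply G.presheaf (homOfLE hUV') x hxU s]
  have h1 : G.presheaf.map (homOfLE hUV').op s = 0 :=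
    section_eq_zero_of_generic G hG hU (generic_mem x hxU) _ (Subsingleton.elim _ _)
  exact (congrArg _ h1).trans (map_zero _)

theorem isTorsionFree_of_mono (G : X.Modules) (i : G ⟶ ratMod X) [Mono i] :
    TorSh.IsTorsionFree G := by
  intro x
  haveI := isTorsionFree_ratMod (X := X) x
  exact Function.Injective.moduleIsTorsionFree (stalkLin i x)
    (StalkExact.stalkLin_injective i x) (fun r m => map_smul _ r m)

/-- S4356 -/
theorem s4356 (G : X.Modules) [hq : Coh.IsQCoh G] (i : G ⟶ ratMod X) [Mono i]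
    (hG : ¬ IsZero G) :
    TorSh.IsTorsionFree G ∧
      Module.finrank (KK X) (G.presheaf.stalk (genericPoint X)) = 1 := by
  haveI : G.IsQuasicoherent := hq
  have htf := isTorsionFree_of_mono G i
  refine ⟨htf, ?_⟩
  have hinj := StalkExact.stalkLin_injective i (genericPoint X)
  haveI : Module.Finite (KK X) ((ratMod X).presheaf.stalk (genericPoint X)) :=
    Module.finite_of_finrank_pos (by rw [finrank_ratMod]; exact one_pos)
  haveI : Module.Finite (KK X) (G.presheaf.stalk (genericPoint X)) :=
    Module.Finite.of_injective (stalkLin i (genericPoint X)) hinj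
  have hle : Module.finrank (KK X) (G.presheaf.stalk (genericPoint X)) ≤ 1 := by
    rw [← finrank_ratMod (X := X)]
    exact LinearMap.finrank_le_finrank_of_injective hinj
  haveI : Nontrivial (G.presheaf.stalk (genericPoint X)) := by
    rw [← not_subsingleton_iff_nontrivial]
    intro hs
    exact hG (isZero_of_generic_stalk G htf hs)
  have hpos : 0 < Module.finrank (KK X) (G.presheaf.stalk (genericPoint X)) :=
    Module.finrank_pos
  omega

end Groth.Agent.Lead.RatSh
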