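import Mathlib
import Groth.Agent.Lead.SchDescent
universe u
open CategoryTheory Limits MorphismProperty AlgebraicGeometry

namespace Groth.Agent.Lead.SchDescent2
open Groth.Agent.Lead.SchDescent

lemma appLE_top_top {X Y : Scheme.{u}} (f : X ⟶ Y) (e : (⊤ : X.Opens) ≤ f ⁻¹ᵁ ⊤) :
    f.appLE ⊤ ⊤ e = f.appTop := by
  exact Scheme.Hom.appLE_eq_app f (U := ⊤)

set_option backward.isDefEq.respectTransparency.types false in
/-- Key lemma: affineness descends along a flat surjective morphism of affine schemes, for qcqs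
source. -/
theorem isAffine_of_isPullback {X Y' S₀ T : Scheme.{u}} {f : T ⟶ S₀} {g' : Y' ⟶ X} {iX : X ⟶ S₀}
    {iY : Y' ⟶ T} (H : IsPullback g' iY iX f) [IsAffine S₀] [IsAffine T] [IsAffine Y']
    [Flat f] [Surjective f] [CompactSpace X] [QuasiSeparatedSpace X] : IsAffine X := by
  have hiso : IsIso (pushoutSection H (US := ⊤) (UT := ⊤) (UX := ⊤) (UY := ⊤)
      (by simp) (by simp) (by simp)) := by
    apply isIso_pushoutSection_of_isQuasiSeparated_of_flat_right
    · exact isAffineOpen_top S₀
    · exact isAffineOpen_top T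
    · exact isCompact_univ
    · exact isQuasiSeparated_univ
  have hpo := (isIso_pushoutSection_iff H _ _ _).mp hiso
  simp only [appLE_top_top] at hpo
  -- the right square
  have t : IsPullback (Spec.map iY.appTop) (Spec.map g'.appTop) (Spec.map f.appTop)
      (Spec.map iX.appTop) := by
    have := hpo.op.map Scheme.Spec
    exact this
  -- the outer rectangle
  have s0 : IsPullback g' (iY ≫ T.toSpecΓ) (iX ≫ S₀.toSpecΓ) (Spec.map f.appTop) := by
    refine IsPullback.of_iso H (Iso.refl _) (Iso.refl _) (asIso T.toSpecΓ) (asIso S₀.toSpecΓ)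
      (by simp) (by simp) (by simp) ?_
    simp [Scheme.toSpecΓ_naturality]
  have s1 : IsPullback (Y'.toSpecΓ ≫ Spec.map iY.appTop) g' (Spec.map f.appTop)
      (X.toSpecΓ ≫ Spec.map iX.appTop) := by
    rw [← Scheme.toSpecΓ_naturality, ← Scheme.toSpecΓ_naturality]
    exact s0.flip
  have left := IsPullback.of_right s1 (Scheme.toSpecΓ_naturality g').symm t
  -- `Spec.map g'.appTop` is fpqc
  have hQf : (@Surjective ⊓ @Flat ⊓ @QuasiCompact : MorphismProperty Scheme.{u})
      (Spec.map f.appTop) := by
    have e : CategoryTheory.Arrow.mk f ≅ CategoryTheory.Arrow.mk (Spec.map f.appTop) :=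
      CategoryTheory.Arrow.isoMk T.isoSpec S₀.isoSpec
        (by simp [Scheme.isoSpec, Scheme.toSpecΓ_naturality])
    rw [← (@Surjective ⊓ @Flat ⊓ @QuasiCompact : MorphismProperty Scheme.{u}).arrow_mk_iso_iff e]
    exact ⟨⟨inferInstance, inferInstance⟩, inferInstance⟩
  have hQ : (@Surjective ⊓ @Flat ⊓ @QuasiCompact : MorphismProperty Scheme.{u})
      (Spec.map g'.appTop) :=
    (@Surjective ⊓ @Flat ⊓ @QuasiCompact : MorphismProperty Scheme.{u}).of_isPullback t hQf
  have : (isomorphisms Scheme.{u}) X.toSpecΓ :=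
    of_isPullback_of_descendsAlong (P := isomorphisms Scheme.{u})
      (Q := (@Surjective ⊓ @Flat ⊓ @QuasiCompact : MorphismProperty Scheme.{u})) left hQ
      (inferInstanceAs (IsIso Y'.toSpecΓ))
  exact ⟨this⟩

set_option backward.isDefEq.respectTransparency.types false in
instance descendsAlong_isAffineHom_fpqc :
    DescendsAlong @IsAffineHom (@Surjective ⊓ @Flat ⊓ @QuasiCompact : MorphismProperty Scheme.{u}) := by
  refine IsZariskiLocalAtTarget.descendsAlong_inf_quasiCompact _ _ ?_ ?_
  · rw [inf_comm]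
    exact inf_le_inf le_rfl (IsLocalIso.le_of_isZariskiLocalAtSource _)
  intro R S Y φ g ⟨hs, hfl⟩ hfst
  have : Surjective (Spec.map φ) := hs
  have : Flat (Spec.map φ) := hfl
  have : IsAffineHom (pullback.fst (Spec.map φ) g) := hfst
  have hQ : (@Surjective ⊓ @Flat ⊓ @QuasiCompact : MorphismProperty Scheme.{u}) (Spec.map φ) :=
    ⟨⟨hs, hfl⟩, inferInstance⟩
  have hqc : QuasiCompact g :=
    of_pullback_fst_of_descendsAlong (P := @QuasiCompact)
      (Q := (@Surjective ⊓ @Flat ⊓ @QuasiCompact : MorphismProperty Scheme.{u})) hQ inferInstance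
  have hqs : QuasiSeparated g :=
    of_pullback_fst_of_descendsAlong (P := @QuasiSeparated)
      (Q := (@Surjective ⊓ @Flat ⊓ @QuasiCompact : MorphismProperty Scheme.{u})) hQ inferInstance
  rw [HasAffineProperty.iff_of_isAffine (P := @QuasiCompact)] at hqc
  rw [HasAffineProperty.iff_of_isAffine (P := @QuasiSeparated)] at hqs
  rw [HasAffineProperty.iff_of_isAffine (P := @IsAffineHom)]
  have : IsAffine (pullback (Spec.map φ) g) := isAffine_of_isAffineHom (pullback.fst (Spec.map φ) g)
  exact isAffine_of_isPullback (IsPullback.of_hasPullback (Spec.map φ) g).flip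

instance descendsAlong_isIntegralHom_fpqc :
    DescendsAlong @IsIntegralHom (@Surjective ⊓ @Flat ⊓ @QuasiCompact : MorphismProperty Scheme.{u}) := by
  rw [IsIntegralHom.eq_universallyClosed_inf_isAffineHom]
  infer_instance

instance descendsAlong_isFinite_fpqc :
    DescendsAlong @IsFinite (@Surjective ⊓ @Flat ⊓ @QuasiCompact : MorphismProperty Scheme.{u}) := by
  rw [IsFinite.eq_inf]
  infer_instance

end Groth.Agent.Lead.SchDescent2
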