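import Mathlib

/-!
# Quasi-finite morphisms, part A: the core commutative algebra

For a finite ring map `A → C` and a closed subset `V(J) ⊆ Spec C` whose image contains a nonempty
basic open of `Spec A`, the closed subset `V(J)` has nonempty interior.  Hence finite ring maps send
closed nowhere dense subsets to (closed) nowhere dense subsets.
-/

set_option autoImplicit false
universe u

namespace Groth.Agent.Lead.QFin

open PrimeSpectrum

section MinPrime
variable {C : Type*} [CommRing C]

theorem mem_of_isNilpotent {x : C} (hx : IsNilpotent x) (q : Ideal C) [hq : q.IsPrime] : x ∈ q := by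
  obtain ⟨n, hn⟩ := hx
  exact hq.mem_of_pow_mem n (hn ▸ q.zero_mem)

/-- If `q` is a prime containing no strictly smaller prime and `j ∈ q`, then some `s ∉ q` makes
`s * j` nilpotent. -/
theorem exists_isNilpotent_mul (q : Ideal C) [q.IsPrime]
    (hmin : ∀ q' : Ideal C, q'.IsPrime → q' ≤ q → q' = q) {j : C} (hj : j ∈ q) :
    ∃ s : C, s ∉ q ∧ IsNilpotent (s * j) := by
  by_contra hcon
  push Not at hcon
  let S : Submonoid C := q.primeCompl ⊔ Submonoid.powers j
  have hdisj : Disjoint ((⊥ : Ideal C) : Set C) (S : Set C) := by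
    rw [Set.disjoint_left]
    intro x hx hxS
    have hx0 : x = 0 := hx
    rw [SetLike.mem_coe, Submonoid.mem_sup] at hxS
    obtain ⟨t, ht, z, hz, htz⟩ := hxS
    obtain ⟨n, rfl⟩ := hz
    apply hcon t ht
    refine ⟨n + 1, ?_⟩
    have : (t * j) ^ (n + 1) = (t * j ^ n) * (t ^ n * j) := by ring
    rw [this, htz, hx0, zero_mul]
  obtain ⟨q', hq', -, hq'S⟩ := Ideal.exists_le_prime_disjoint ⊥ S hdisj
  have hle : q' ≤ q := by
    intro x hx
    by_contra hxq
    exact Set.disjoint_left.mp hq'S hx (SetLike.mem_coe.mpr (Submonoid.mem_sup_left hxq))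
  have hqq := hmin q' hq' hle
  rw [hqq] at hq'S
  exact Set.disjoint_left.mp hq'S hj
    (SetLike.mem_coe.mpr (Submonoid.mem_sup_right (Submonoid.mem_powers j)))

end MinPrime

section Integral
variable {A C : Type*} [CommRing A] [CommRing C] [Algebra A C]

/-- In an integral extension, a prime lying over a minimal prime contains no strictly smaller
prime. -/
theorem eq_of_le_of_comap_minimal [Algebra.IsIntegral A C] (q : Ideal C) [q.IsPrime]
    (hp : q.comap (algebraMap A C) ∈ minimalPrimes A) (q' : Ideal C) (hq' : q'.IsPrime)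
    (hle : q' ≤ q) : q' = q := by
  by_contra hne
  have hlt : q' < q := lt_of_le_of_ne hle hne
  obtain ⟨x, hxq, hxq'⟩ := SetLike.exists_of_lt hlt
  have h1 := Ideal.comap_lt_comap_of_integral_mem_sdiff (R := A) hle ⟨hxq, hxq'⟩
    (Algebra.IsIntegral.isIntegral (R := A) x)
  have h2 : q.comap (algebraMap A C) ≤ q'.comap (algebraMap A C) :=
    hp.2 ⟨Ideal.IsPrime.comap _, bot_le⟩ h1.le
  exact absurd h1 (not_lt_of_ge h2)

end Integral

section Core
variable {A C : Type*} [CommRing A] [CommRing C] [Algebra A C]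

/-- `s` generates `C ⧸ J` as an `A`-module after inverting the non-nilpotent multiple `g` of `a`. -/
def Gen (J : Ideal C) (a : A) (s : Finset C) (g : A) : Prop :=
  ¬ IsNilpotent g ∧ a ∣ g ∧
    ∀ x : C, ∃ k : ℕ, g ^ k • x ∈ Submodule.span A (s : Set C) ⊔ J.restrictScalars A

theorem Gen.erase [DecidableEq C] {J : Ideal C} {a : A} {s : Finset C} {g : A} (h : Gen J a s g)
    (d : C → A) (hd : ∑ c ∈ s, d c • c ∈ J) (c0 : C) (hc0 : c0 ∈ s)
    (hn : ¬ IsNilpotent (g * d c0)) : Gen J a (s.erase c0) (g * d c0) := by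
  refine ⟨hn, h.2.1.mul_right _, fun x => ?_⟩
  obtain ⟨k, hk⟩ := h.2.2 x
  refine ⟨k + 1, ?_⟩
  set M := Submodule.span A ((s.erase c0 : Finset C) : Set C) ⊔ J.restrictScalars A with hM
  have h1 : d c0 • c0 ∈ M := by
    have : d c0 • c0 = (∑ c ∈ s, d c • c) - ∑ c ∈ s.erase c0, d c • c := by
      rw [← Finset.add_sum_erase s _ hc0]; abel
    rw [this]
    refine M.sub_mem (Submodule.mem_sup_right (show _ ∈ J.restrictScalars A from hd))
      (Submodule.mem_sup_left ?_)
    exact Submodule.sum_mem _ fun c hc => Submodule.smul_mem _ _ (Submodule.subset_span hc)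
  have h3 : ∀ y1 ∈ Submodule.span A (s : Set C), d c0 • y1 ∈ M := by
    intro y1 hy1
    induction hy1 using Submodule.span_induction with
    | mem c hc =>
      by_cases hcc : c = c0
      · subst hcc; exact h1
      · exact Submodule.mem_sup_left (Submodule.smul_mem _ _
          (Submodule.subset_span (Finset.mem_coe.mpr (Finset.mem_erase.mpr ⟨hcc, hc⟩))))
    | zero => simp
    | add u v _ _ hu hv => rw [smul_add]; exact M.add_mem hu hv
    | smul r u _ hu => rw [smul_comm]; exact M.smul_mem _ hu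
  have h2 : ∀ y ∈ Submodule.span A (s : Set C) ⊔ J.restrictScalars A, d c0 • y ∈ M := by
    intro y hy
    obtain ⟨y1, hy1, y2, hy2, rfl⟩ := Submodule.mem_sup.mp hy
    rw [smul_add]
    exact M.add_mem (h3 y1 hy1) (Submodule.mem_sup_right (Submodule.smul_mem _ _ hy2))
  have : (g * d c0) ^ (k + 1) • x = (g * d c0 ^ k) • (d c0 • (g ^ k • x)) := by
    rw [smul_smul, smul_smul]; congr 1; ring
  rw [this]
  exact M.smul_mem _ (h2 _ hk)

theorem Gen.exists_uniform [Module.Finite A C] {J : Ideal C} {a : A} {s : Finset C} {g : A}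
    (h : Gen J a s g) :
    ∃ K : ℕ, ∀ x : C, g ^ K • x ∈ Submodule.span A (s : Set C) ⊔ J.restrictScalars A := by
  classical
  obtain ⟨E, hE⟩ := (Module.Finite.fg_top : (⊤ : Submodule A C).FG)
  choose k hk using h.2.2
  refine ⟨E.sup k, fun x => ?_⟩
  have hx : x ∈ Submodule.span A (E : Set C) := hE ▸ Submodule.mem_top
  induction hx using Submodule.span_induction with
  | mem e he =>
    have hle : k e ≤ E.sup k := Finset.le_sup (f := k) he
    have : g ^ (E.sup k) • e = g ^ (E.sup k - k e) • (g ^ k e • e) := by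
      rw [smul_smul, ← pow_add, Nat.sub_add_cancel hle]
    rw [this]
    exact Submodule.smul_mem _ _ (hk e)
  | zero => simp
  | add u v _ _ hu hv => rw [smul_add]; exact Submodule.add_mem _ hu hv
  | smul r u _ hu => rw [smul_comm]; exact Submodule.smul_mem _ _ hu

/-- **Core lemma.**  Let `A → C` be finite, `J` an ideal of `C`, `a ∈ A` non-nilpotent, and suppose
every minimal prime of `A` not containing `a` is the contraction of a prime containing `J`.  Then
`V(J)` contains a nonempty basic open of `Spec C`. -/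
theorem core [Module.Finite A C] (J : Ideal C) (a : A) (ha : ¬ IsNilpotent a)
    (hsurj : ∀ p : Ideal A, p ∈ minimalPrimes A → a ∉ p →
      ∃ q : Ideal C, q.IsPrime ∧ J ≤ q ∧ q.comap (algebraMap A C) = p) :
    ∃ s : C, ¬ IsNilpotent s ∧ ∀ q : Ideal C, q.IsPrime → s ∉ q → J ≤ q := by
  classical
  obtain ⟨E, hE⟩ := (Module.Finite.fg_top : (⊤ : Submodule A C).FG)
  have h0 : ∃ n, ∃ (s : Finset C) (g : A), s.card = n ∧ Gen J a s g :=
    ⟨E.card, E, a, rfl, ha, dvd_rfl, fun x => ⟨0, by rw [hE]; simp⟩⟩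
  obtain ⟨s, g, hcard, hgen⟩ := Nat.find_spec h0
  have hmin : ∀ (s' : Finset C) (g' : A), Gen J a s' g' → Nat.find h0 ≤ s'.card :=
    fun s' g' h' => Nat.find_min' h0 ⟨s', g', rfl, h'⟩
  have hrel : ∀ d : C → A, ∑ c ∈ s, d c • c ∈ J → ∀ c0 ∈ s, IsNilpotent (g * d c0) := by
    intro d hd c0 hc0
    by_contra hn
    have h1 := hmin _ _ (hgen.erase d hd c0 hc0 hn)
    rw [Finset.card_erase_of_mem hc0, ← hcard] at h1
    have h2 : 0 < s.card := Finset.card_pos.mpr ⟨c0, hc0⟩
    omega
  obtain ⟨K, hK⟩ := hgen.exists_uniform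
  choose y hy j hj hyj using fun e => Submodule.mem_sup.mp (hK e)
  let J0 : Submodule A C := Submodule.span A (j '' (E : Set C))
  have hJ0 : ∀ x : C, g ^ K • x ∈ Submodule.span A (s : Set C) ⊔ J0 := by
    intro x
    have hx : x ∈ Submodule.span A (E : Set C) := hE ▸ Submodule.mem_top
    induction hx using Submodule.span_induction with
    | mem e he =>
      rw [← hyj e]
      exact Submodule.add_mem _ (Submodule.mem_sup_left (hy e))
        (Submodule.mem_sup_right (Submodule.subset_span ⟨e, he, rfl⟩))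
    | zero => simp
    | add u v _ _ hu hv => rw [smul_add]; exact Submodule.add_mem _ hu hv
    | smul r u _ hu => rw [smul_comm]; exact Submodule.smul_mem _ _ hu
  have hJ0J : J0 ≤ J.restrictScalars A :=
    Submodule.span_le.mpr (by rintro _ ⟨e, -, rfl⟩; exact hj e)
  have hstar : ∀ q' : Ideal C, q'.IsPrime → algebraMap A C g ∉ q' → (∀ e ∈ E, j e ∈ q') →
      J ≤ q' := by
    intro q' hq' hg hje x hx
    obtain ⟨y1, hy1, j1, hj1, h1⟩ := Submodule.mem_sup.mp (hJ0 x)
    have hy1J : y1 ∈ J := by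
      have : y1 = g ^ K • x - j1 := eq_sub_of_add_eq h1
      rw [this]
      exact J.sub_mem (Submodule.smul_of_tower_mem J _ hx) (hJ0J hj1)
    obtain ⟨d, -, hd⟩ := Submodule.mem_span_finset.mp hy1
    have hnil := hrel d (hd ▸ hy1J)
    have hgy : g • y1 ∈ q' := by
      rw [← hd, Finset.smul_sum]
      refine q'.sum_mem fun c hc => ?_
      rw [smul_smul, Algebra.smul_def]
      exact q'.mul_mem_right _ (mem_of_isNilpotent ((hnil c hc).map (algebraMap A C)) q')
    have hgj : g • j1 ∈ q' := by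
      have hle : J0 ≤ q'.restrictScalars A :=
        Submodule.span_le.mpr (by rintro _ ⟨e, he, rfl⟩; exact hje e he)
      exact Submodule.smul_of_tower_mem q' _ (hle hj1)
    have hsum : algebraMap A C g ^ (K + 1) * x ∈ q' := by
      have : algebraMap A C g ^ (K + 1) * x = g • y1 + g • j1 := by
        rw [← smul_add, h1, smul_smul, ← pow_succ', Algebra.smul_def, map_pow]
      rw [this]
      exact q'.add_mem hgy hgj
    rcases hq'.mem_or_mem hsum with h | h
    · exact absurd (hq'.mem_of_pow_mem _ h) hg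
    · exact h
  obtain ⟨p0, hp0, hgp0⟩ : ∃ p0 : Ideal A, p0.IsPrime ∧ g ∉ p0 := by
    by_contra hcon
    push Not at hcon
    exact hgen.1 (nilpotent_iff_mem_prime.mpr hcon)
  obtain ⟨p, hp, hpp0⟩ := Ideal.exists_minimalPrimes_le (I := ⊥) (J := p0) bot_le
  have hgp : g ∉ p := fun h => hgp0 (hpp0 h)
  have hap : a ∉ p := by
    intro h
    obtain ⟨b, hb⟩ := hgen.2.1
    exact hgp (hb ▸ p.mul_mem_right b h)
  obtain ⟨q, hq, hJq, hqp⟩ := hsurj p hp hap
  have hqmin := eq_of_le_of_comap_minimal (A := A) q (hqp ▸ hp)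
  have hs : ∀ e : C, ∃ t : C, t ∉ q ∧ IsNilpotent (t * j e) :=
    fun e => exists_isNilpotent_mul q hqmin (hJq (hj e))
  choose t ht htn using hs
  refine ⟨algebraMap A C g * ∏ e ∈ E, t e, ?_, ?_⟩
  · intro hnil
    rcases hq.mem_or_mem (mem_of_isNilpotent hnil q) with h | h
    · exact hgp (hqp ▸ Ideal.mem_comap.mpr h)
    · rw [hq.prod_mem_iff] at h
      obtain ⟨e, -, h⟩ := h
      exact ht e h
  · intro q' hq' hsq'
    refine hstar q' hq' (fun h => hsq' (q'.mul_mem_right _ h)) fun e he => ?_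
    have h1 : t e ∉ q' := by
      intro h
      obtain ⟨b, hb⟩ := Finset.dvd_prod_of_mem t he
      exact hsq' (q'.mul_mem_left _ (hb ▸ q'.mul_mem_right b h))
    exact (hq'.mem_or_mem (mem_of_isNilpotent (htn e) q')).resolve_left h1

end Core

section Topo
variable {A C : Type*} [CommRing A] [CommRing C] [Algebra A C]

theorem interior_nonempty_of_basicOpen_subset_image [Module.Finite A C]
    (T : Set (PrimeSpectrum C)) (hT : IsClosed T) (a : A) (ha : ¬ IsNilpotent a)
    (hsub : (PrimeSpectrum.basicOpen a : Set (PrimeSpectrum A)) ⊆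
      PrimeSpectrum.comap (algebraMap A C) '' T) :
    (interior T).Nonempty := by
  obtain ⟨J, rfl⟩ : ∃ J : Ideal C, T = zeroLocus (J : Set C) :=
    ⟨vanishingIdeal T, by rw [zeroLocus_vanishingIdeal_eq_closure, hT.closure_eq]⟩
  obtain ⟨s, hs, hsJ⟩ := core J a ha (fun p hp hap => by
    have hp' : p.IsPrime := hp.1.1
    obtain ⟨q, hqT, hq⟩ := hsub (show (⟨p, hp'⟩ : PrimeSpectrum A) ∈
      (PrimeSpectrum.basicOpen a : Set (PrimeSpectrum A)) from hap)
    exact ⟨q.asIdeal, q.isPrime, (mem_zeroLocus _ _).mp hqT, congrArg PrimeSpectrum.asIdeal hq⟩)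
  have hne : ∃ q : PrimeSpectrum C, s ∉ q.asIdeal := by
    by_contra hcon
    push Not at hcon
    exact hs (nilpotent_iff_mem_prime.mpr fun q hq => hcon ⟨q, hq⟩)
  obtain ⟨q, hq⟩ := hne
  refine ⟨q, mem_interior.mpr ⟨(PrimeSpectrum.basicOpen s : Set (PrimeSpectrum C)), ?_,
    (PrimeSpectrum.basicOpen s).isOpen, hq⟩⟩
  intro q' hq'
  exact (mem_zeroLocus _ _).mpr (hsJ q'.asIdeal q'.isPrime hq')

/-- A finite ring map sends closed nowhere dense subsets of the spectrum to nowhere dense
subsets. -/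
theorem isNowhereDense_image_comap [Module.Finite A C] (T : Set (PrimeSpectrum C))
    (hT : IsClosed T) (hT' : IsNowhereDense T) :
    IsNowhereDense (PrimeSpectrum.comap (algebraMap A C) '' T) := by
  have hcl : IsClosed (PrimeSpectrum.comap (algebraMap A C) '' T) :=
    PrimeSpectrum.isClosedMap_comap_of_isIntegral _ (algebraMap_isIntegral_iff.mpr inferInstance)
      T hT
  rw [hcl.isNowhereDense_iff]
  by_contra hne
  obtain ⟨x, hx⟩ := Set.nonempty_iff_ne_empty.mpr hne
  obtain ⟨_, ⟨a, rfl⟩, hxa, hasub⟩ :=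
    PrimeSpectrum.isTopologicalBasis_basic_opens.exists_subset_of_mem_open hx isOpen_interior
  have ha : ¬ IsNilpotent a := fun h => hxa (mem_of_isNilpotent h x.asIdeal)
  have := interior_nonempty_of_basicOpen_subset_image T hT a ha
    (hasub.trans interior_subset)
  rw [hT.isNowhereDense_iff.mp hT'] at this
  exact Set.not_nonempty_empty this

end Topo

end Groth.Agent.Lead.QFin
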