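import Mathlib
import Groth.Agent.Lead.QFinA

/-!
# Quasi-finite morphisms, part C: a quasi-finite algebra of finite type is finite over a dense open
(ring level, via the algebraic form of Zariski's main theorem)
-/

set_option autoImplicit false
universe u

open PrimeSpectrum

namespace Groth.Agent.Lead.QFin

section ZMT
variable {A B : Type u} [CommRing A] [CommRing B] [Algebra A B]

theorem fg_finset_sup {ι : Type*} (t : Finset ι) (S : ι → Subalgebra A B)
    (h : ∀ i ∈ t, (S i).toSubmodule.FG) : (t.sup S).toSubmodule.FG := by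
  classical
  induction t using Finset.induction_on with
  | empty => simpa using Subalgebra.fg_bot_toSubmodule
  | insert i t hi ih =>
    rw [Finset.sup_insert, ← Subalgebra.mul_toSubmodule]
    exact (h i (Finset.mem_insert_self i t)).mul
      (ih fun k hk => h k (Finset.mem_insert_of_mem hk))

/-- Global form of the algebraic Zariski main theorem: a quasi-finite algebra of finite type contains
a finite subalgebra `C` and finitely many `ρ ∈ C` such that the `D(ρ)` cover `Spec B` and
`B_ρ = C_ρ`. -/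
theorem exists_finite_subalgebra [Algebra.FiniteType A B] [Algebra.QuasiFinite A B] :
    ∃ (C : Subalgebra A B) (r : Finset B), C.toSubmodule.FG ∧ (∀ ρ ∈ r, ρ ∈ C) ∧
      (∀ Q : Ideal B, Q.IsPrime → ∃ ρ ∈ r, ρ ∉ Q) ∧
      ∀ ρ ∈ r, ∀ b : B, ∃ N : ℕ, ρ ^ N * b ∈ C := by
  classical
  have key : ∀ Q : PrimeSpectrum B, ∃ S' : Subalgebra A B, S'.toSubmodule.FG ∧
      ∃ ρ : B, ρ ∈ S' ∧ ρ ∉ Q.asIdeal ∧ ∀ b : B, ∃ N : ℕ, ρ ^ N * b ∈ S' := by
    intro Q
    obtain ⟨S', hS', r, hr, hbij⟩ :=
      Algebra.QuasiFiniteAt.exists_fg_and_exists_notMem_and_awayMap_bijective (R := A) Q.asIdeal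
    refine ⟨S', hS', r.1, r.2, hr, fun b => ?_⟩
    obtain ⟨c, m, hc⟩ := Localization.awayMap_surjective_iff.mp hbij.2 b
    refine ⟨m, ?_⟩
    have : r.1 ^ m * b = c.1 := hc.symm
    rw [this]
    exact c.2
  choose S' hS' ρ hρS hρQ hρb using key
  have htop : Ideal.span (Set.range ρ) = ⊤ := by
    by_contra h
    obtain ⟨M, hM, hle⟩ := Ideal.exists_le_maximal _ h
    exact hρQ ⟨M, hM.isPrime⟩ (hle (Ideal.subset_span ⟨_, rfl⟩))
  obtain ⟨t, ht, htt⟩ := (Ideal.span_eq_top_iff_finite _).mp htop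
  have hQof : ∀ x : t, ∃ Q, ρ Q = x.1 := fun x => ht x.2
  choose Qof hQof using hQof
  refine ⟨t.attach.sup fun x => S' (Qof x), t, fg_finset_sup _ _ fun x _ => hS' _, ?_, ?_, ?_⟩
  · intro x hx
    have hle : S' (Qof ⟨x, hx⟩) ≤ t.attach.sup fun x => S' (Qof x) :=
      Finset.le_sup (f := fun x => S' (Qof x)) (Finset.mem_attach t ⟨x, hx⟩)
    have := hρS (Qof ⟨x, hx⟩)
    rw [hQof ⟨x, hx⟩] at this
    exact hle this
  · intro Q hQ
    by_contra hcon
    push Not at hcon
    have : Ideal.span (t : Set B) ≤ Q := Ideal.span_le.mpr fun x hx => hcon x hx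
    rw [htt] at this
    exact hQ.ne_top (top_le_iff.mp this)
  · intro x hx b
    have hle : S' (Qof ⟨x, hx⟩) ≤ t.attach.sup fun x => S' (Qof x) :=
      Finset.le_sup (f := fun x => S' (Qof x)) (Finset.mem_attach t ⟨x, hx⟩)
    obtain ⟨N, hN⟩ := hρb (Qof ⟨x, hx⟩) b
    rw [hQof ⟨x, hx⟩] at hN
    exact ⟨N, hle hN⟩

end ZMT

section Dense
variable {A B : Type u} [CommRing A] [CommRing B] [Algebra A B]

/-- A quasi-finite algebra of finite type contains a finite subalgebra `C` such that, away from a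
closed nowhere dense subset `Z` of `Spec A`, `B` and `C` agree. -/
theorem exists_nowhereDense_finite_away [Algebra.FiniteType A B] [Algebra.QuasiFinite A B] :
    ∃ (C : Subalgebra A B) (Z : Set (PrimeSpectrum A)), C.toSubmodule.FG ∧ IsClosed Z ∧
      IsNowhereDense Z ∧
      ∀ a : A, (∀ p ∈ Z, a ∈ p.asIdeal) → ∀ b : B, ∃ n : ℕ, a ^ n • b ∈ C := by
  classical
  obtain ⟨C, r, hC, hrC, hcov, hloc⟩ := exists_finite_subalgebra (A := A) (B := B)
  have : Module.Finite A C := ⟨(Submodule.fg_top _).mpr hC⟩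
  let r' : Set C := {c | (c : B) ∈ r}
  let F : Set (PrimeSpectrum C) := zeroLocus r'
  have hFcl : IsClosed F := isClosed_zeroLocus r'
  have hFnd : IsNowhereDense F := by
    rw [hFcl.isNowhereDense_iff]
    by_contra hne
    obtain ⟨q, hq⟩ := Set.nonempty_iff_ne_empty.mpr hne
    obtain ⟨_, ⟨h, rfl⟩, hqh, hsub⟩ :=
      PrimeSpectrum.isTopologicalBasis_basic_opens.exists_subset_of_mem_open hq isOpen_interior
    have hnil : ¬ IsNilpotent (h : B) := by
      rintro ⟨n, hn⟩
      have : IsNilpotent h := ⟨n, Subtype.ext (by simpa using hn)⟩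
      exact hqh (mem_of_isNilpotent this q.asIdeal)
    obtain ⟨Q, hQ, hhQ⟩ : ∃ Q : Ideal B, Q.IsPrime ∧ (h : B) ∉ Q := by
      by_contra hcon
      push Not at hcon
      exact hnil (nilpotent_iff_mem_prime.mpr hcon)
    obtain ⟨ρ, hρ, hρQ⟩ := hcov Q hQ
    let q1 : PrimeSpectrum C := ⟨Q.comap C.val.toRingHom, Ideal.IsPrime.comap _⟩
    have hq1 : q1 ∈ (PrimeSpectrum.basicOpen h : Set (PrimeSpectrum C)) := hhQ
    have hq1F : q1 ∈ F := interior_subset (hsub hq1)
    have : (⟨ρ, hrC ρ hρ⟩ : C) ∈ q1.asIdeal := (mem_zeroLocus _ _).mp hq1F hρ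
    exact hρQ this
  refine ⟨C, PrimeSpectrum.comap (algebraMap A C) '' F, hC,
    PrimeSpectrum.isClosedMap_comap_of_isIntegral _ (algebraMap_isIntegral_iff.mpr inferInstance)
      F hFcl, isNowhereDense_image_comap F hFcl hFnd, fun a ha b => ?_⟩
  let cI : Ideal C :=
    { carrier := {c | (c : B) * b ∈ C}
      add_mem' := fun {x y} hx hy => by
        change ((x + y : C) : B) * b ∈ C
        rw [Subalgebra.coe_add, add_mul]; exact C.add_mem hx hy
      zero_mem' := by
        change ((0 : C) : B) * b ∈ C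
        rw [Subalgebra.coe_zero, zero_mul]; exact C.zero_mem
      smul_mem' := fun c {x} hx => by
        change ((c • x : C) : B) * b ∈ C
        rw [smul_eq_mul, Subalgebra.coe_mul, mul_assoc]; exact C.mul_mem c.2 hx }
  have hrad : algebraMap A C a ∈ cI.radical := by
    rw [Ideal.radical_eq_sInf, Ideal.mem_sInf]
    rintro q' ⟨hle, hq'⟩
    have hq'F : (⟨q', hq'⟩ : PrimeSpectrum C) ∈ F := by
      rw [mem_zeroLocus]
      intro c hc
      obtain ⟨N, hN⟩ := hloc c.1 hc b
      have : c ^ N ∈ cI := by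
        change ((c ^ N : C) : B) * b ∈ C
        rw [Subalgebra.coe_pow]; exact hN
      exact hq'.mem_of_pow_mem N (hle this)
    exact ha _ ⟨⟨q', hq'⟩, hq'F, rfl⟩
  obtain ⟨n, hn⟩ := hrad
  refine ⟨n, ?_⟩
  have h1 : ((algebraMap A C a ^ n : C) : B) * b ∈ C := hn
  rw [Algebra.smul_def, map_pow]
  simpa using h1

end Dense

section Loc

/-- If `B` agrees with a finite subalgebra `C` after inverting `a`, then `B_a` is finite over
`A_a`. -/
theorem finite_of_isLocalization_away {A B : Type*} [CommRing A] [CommRing B] [Algebra A B]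
    (C : Subalgebra A B) (hC : C.toSubmodule.FG) (a : A)
    (h : ∀ b : B, ∃ n : ℕ, a ^ n • b ∈ C)
    (A' B' : Type*) [CommRing A'] [CommRing B'] [Algebra A A'] [Algebra B B'] [Algebra A' B']
    [Algebra A B'] [IsScalarTower A A' B'] [IsScalarTower A B B']
    [IsLocalization.Away a A'] [IsLocalization.Away (algebraMap A B a) B'] :
    Module.Finite A' B' := by
  classical
  obtain ⟨G, hG⟩ := hC
  refine ⟨⟨G.image (algebraMap B B'), ?_⟩⟩
  rw [eq_top_iff]
  rintro z -
  obtain ⟨n, b, hz⟩ := IsLocalization.Away.surj (algebraMap A B a) z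
  obtain ⟨m, hm⟩ := h b
  have hu : IsUnit (algebraMap A A' a) := IsLocalization.Away.algebraMap_isUnit a
  obtain ⟨u, hu⟩ := hu
  have hua : algebraMap A' B' (u : A') = algebraMap B B' (algebraMap A B a) := by
    rw [hu, ← IsScalarTower.algebraMap_apply, ← IsScalarTower.algebraMap_apply]
  set S := Submodule.span A' ((G.image (algebraMap B B') : Finset B') : Set B') with hS
  have hc : algebraMap B B' (a ^ m • b) ∈ S := by
    have h1 : a ^ m • b ∈ Submodule.span A (G : Set B) := by rw [hG]; exact hm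
    have h2 : Submodule.span A (G : Set B) ≤
        (S.restrictScalars A).comap (IsScalarTower.toAlgHom A B B').toLinearMap := by
      rw [Submodule.span_le]
      intro x hx
      exact Submodule.subset_span (Finset.mem_coe.mpr (Finset.mem_image_of_mem _ hx))
    exact h2 h1
  have hz' : z = ((u⁻¹ : A'ˣ) : A') ^ (m + n) • algebraMap B B' (a ^ m • b) := by
    have h3 : algebraMap B B' (a ^ m • b) = ((u : A') ^ (m + n)) • z := by
      rw [Algebra.smul_def, Algebra.smul_def, map_mul, map_pow, map_pow, map_pow, hua, ← hz,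
        pow_add]
      ring
    rw [h3, smul_smul, ← mul_pow, Units.inv_mul, one_pow, one_smul]
  rw [hz']
  exact S.smul_mem _ hc

end Loc

end Groth.Agent.Lead.QFin
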