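import Mathlib
import Groth.Agent.Lead.QFinC

/-!
# Quasi-finite morphisms, part D: the finite locus, and the affine base case
-/

set_option autoImplicit false
set_option linter.style.haveILetI false
universe u

open AlgebraicGeometry CategoryTheory TopologicalSpace

namespace Groth.Agent.Lead.QFin

variable {Y X : Scheme.{u}}

/-- The largest open of the target over which `f` is finite. -/
noncomputable def finLocus (f : Y ⟶ X) : X.Opens := sSup {V | IsFinite (f ∣_ V)}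

theorem le_finLocus (f : Y ⟶ X) {V : X.Opens} (h : IsFinite (f ∣_ V)) : V ≤ finLocus f :=
  le_sSup h

theorem isFinite_restrict_of_eq (f : Y ⟶ X) {V V' : X.Opens} (e : V = V')
    (h : IsFinite (f ∣_ V)) : IsFinite (f ∣_ V') := e ▸ h

theorem isFinite_restrict_of_le (f : Y ⟶ X) {V V' : X.Opens} (hle : V' ≤ V)
    (h : IsFinite (f ∣_ V)) : IsFinite (f ∣_ V') := by
  have h1 : IsFinite (f ∣_ V ∣_ (V.ι ⁻¹ᵁ V')) := inferInstance
  have h2 : IsFinite (f ∣_ (V.ι ''ᵁ (V.ι ⁻¹ᵁ V'))) :=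
    (MorphismProperty.arrow_mk_iso_iff @IsFinite (morphismRestrictRestrict f V (V.ι ⁻¹ᵁ V'))).mp h1
  refine isFinite_restrict_of_eq f ?_ h2
  rw [Scheme.Hom.image_preimage_eq_opensRange_inf, Scheme.Opens.opensRange_ι]
  exact inf_eq_right.mpr hle

theorem isFinite_restrict_image (f : Y ⟶ X) (V : X.Opens) (W : V.toScheme.Opens)
    (h : IsFinite (f ∣_ V ∣_ W)) : IsFinite (f ∣_ (V.ι ''ᵁ W)) :=
  (MorphismProperty.arrow_mk_iso_iff @IsFinite (morphismRestrictRestrict f V W)).mp h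

theorem isFinite_finLocus (f : Y ⟶ X) : IsFinite (f ∣_ finLocus f) := by
  rw [IsZariskiLocalAtTarget.iff_of_iSup_eq_top (P := @IsFinite)
    (fun V : {V : X.Opens // IsFinite (f ∣_ V)} => (finLocus f).ι ⁻¹ᵁ V.1)]
  · intro V
    refine (MorphismProperty.arrow_mk_iso_iff @IsFinite
      (morphismRestrictRestrict f (finLocus f) _)).mpr ?_
    refine isFinite_restrict_of_eq f ?_ V.2
    rw [Scheme.Hom.image_preimage_eq_opensRange_inf, Scheme.Opens.opensRange_ι]
    exact (inf_eq_right.mpr (le_finLocus f V.2)).symm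
  · rw [eq_top_iff]
    rintro x -
    have hx : x.1 ∈ finLocus f := x.2
    obtain ⟨V, hV, hxV⟩ := Opens.mem_sSup.mp hx
    exact Opens.mem_iSup.mpr ⟨⟨V, hV⟩, hxV⟩

theorem isFinite_restrict_of_le_finLocus (f : Y ⟶ X) {V : X.Opens} (h : V ≤ finLocus f) :
    IsFinite (f ∣_ V) :=
  isFinite_restrict_of_le f h (isFinite_finLocus f)

section Affine

theorem finite_awayMap {A B : Type*} [CommRing A] [CommRing B] (φ : A →+* B) (a : A)
    (h : letI := φ.toAlgebra
      ∃ C : Subalgebra A B, C.toSubmodule.FG ∧ ∀ b : B, ∃ n : ℕ, a ^ n • b ∈ C)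
    (A' B' : Type*) [CommRing A'] [CommRing B'] [Algebra A A'] [Algebra B B']
    [IsLocalization.Away a A'] [IsLocalization.Away (φ a) B'] :
    (IsLocalization.Away.map A' B' φ a).Finite := by
  let _ := φ.toAlgebra
  obtain ⟨C, hC, hfin⟩ := h
  set ψ := IsLocalization.Away.map A' B' φ a with hψ
  letI := ψ.toAlgebra
  letI : Algebra A B' := (ψ.comp (algebraMap A A')).toAlgebra
  haveI : IsScalarTower A A' B' := IsScalarTower.of_algebraMap_eq' rfl
  haveI : IsScalarTower A B B' := IsScalarTower.of_algebraMap_eq' (by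
    change ψ.comp (algebraMap A A') = (algebraMap B B').comp φ
    rw [hψ, IsLocalization.Away.map, IsLocalization.map_comp])
  haveI : IsLocalization.Away (algebraMap A B a) B' := ‹IsLocalization.Away (φ a) B'›
  exact finite_of_isLocalization_away C hC a hfin A' B'

theorem isFinite_restrict_basicOpen (f : Y ⟶ X) [IsAffine Y] [IsAffine X] (a : Γ(X, ⊤))
    (h : letI := (f.appLE ⊤ ⊤ le_top).hom.toAlgebra
      ∃ C : Subalgebra Γ(X, ⊤) Γ(Y, ⊤), C.toSubmodule.FG ∧ ∀ b : Γ(Y, ⊤), ∃ n : ℕ, a ^ n • b ∈ C) :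
    IsFinite (f ∣_ X.basicOpen a) := by
  have hXa : IsAffineOpen (X.basicOpen a) := (isAffineOpen_top X).basicOpen a
  have hYa : IsAffineOpen (f ⁻¹ᵁ X.basicOpen a) := by
    rw [Scheme.preimage_basicOpen]
    exact (isAffineOpen_top Y).basicOpen _
  haveI : IsAffine (X.basicOpen a).toScheme := hXa
  rw [HasAffineProperty.iff_of_isAffine (P := @IsFinite)]
  refine ⟨hYa, ?_⟩
  rw [Scheme.Hom.appTop, morphismRestrict_app']
  have e1 : (X.basicOpen a).ι ''ᵁ ⊤ = X.basicOpen a := Scheme.Opens.ι_image_top _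
  have e2 : (f ⁻¹ᵁ X.basicOpen a).ι ''ᵁ ((f ∣_ X.basicOpen a) ⁻¹ᵁ ⊤) =
      Y.basicOpen (f.appLE ⊤ ⊤ le_top a) := by
    rw [Scheme.Hom.preimage_top, Scheme.Opens.ι_image_top, Scheme.preimage_basicOpen]
    congr 1
    rw [Scheme.Hom.app_eq_appLE]
    rfl
  have key : (f.appLE (X.basicOpen a) (Y.basicOpen (f.appLE ⊤ ⊤ le_top a))
      (e2.symm.le.trans ((f ⁻¹ᵁ X.basicOpen a).ι_image_le _))).hom.Finite := by
    rw [IsAffineOpen.appLE_eq_away_map f (isAffineOpen_top X) (isAffineOpen_top Y) le_top a]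
    letI := (isAffineOpen_top X).isLocalization_basicOpen a
    letI := (isAffineOpen_top Y).isLocalization_basicOpen (f.appLE ⊤ ⊤ le_top a)
    exact finite_awayMap (f.appLE ⊤ ⊤ le_top).hom a h _ _
  exact (Scheme.Hom.appLE_congr f _ e1 e2 (fun g => g.hom.Finite)).mpr key

/-- **Base case.**  A locally quasi-finite morphism, locally of finite type, between affine
schemes is finite over a dense open of the target. -/
theorem dense_finLocus_of_isAffine (f : Y ⟶ X) [IsAffine Y] [IsAffine X] [LocallyQuasiFinite f]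
    [LocallyOfFiniteType f] : Dense (finLocus f : Set X) := by
  have hqf : (f.appLE ⊤ ⊤ le_top).hom.QuasiFinite :=
    LocallyQuasiFinite.quasiFinite_appLE (isAffineOpen_top X) (isAffineOpen_top Y) le_top
  have hft : (f.appLE ⊤ ⊤ le_top).hom.FiniteType :=
    HasRingHomProperty.appLE @LocallyOfFiniteType f inferInstance ⟨⊤, isAffineOpen_top X⟩
      ⟨⊤, isAffineOpen_top Y⟩ le_top
  letI := (f.appLE ⊤ ⊤ le_top).hom.toAlgebra
  haveI : Algebra.QuasiFinite Γ(X, ⊤) Γ(Y, ⊤) := hqf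
  haveI : Algebra.FiniteType Γ(X, ⊤) Γ(Y, ⊤) := hft
  obtain ⟨C, Z, hC, hZcl, hZnd, hfin⟩ :=
    exists_nowhereDense_finite_away (A := Γ(X, ⊤)) (B := Γ(Y, ⊤))
  have hZd : Dense Zᶜ := (isClosed_isNowhereDense_iff_compl.mp ⟨hZcl, hZnd⟩).2
  let e := (isAffineOpen_top X).fromSpec
  rw [dense_iff_inter_open]
  rintro N hN ⟨x, hxN⟩
  have hx : x ∈ Set.range e := by
    rw [(isAffineOpen_top X).range_fromSpec]; trivial
  obtain ⟨p, rfl⟩ := hx
  have hN' : IsOpen (e ⁻¹' N) := hN.preimage e.continuous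
  obtain ⟨p', hp'N, hp'Z⟩ := hZd.inter_open_nonempty _ hN' ⟨p, hxN⟩
  obtain ⟨_, ⟨a, rfl⟩, hp'a, hasub⟩ :=
    PrimeSpectrum.isTopologicalBasis_basic_opens.exists_subset_of_mem_open
      (show p' ∈ e ⁻¹' N ∩ Zᶜ from ⟨hp'N, hp'Z⟩) (hN'.inter hZcl.isOpen_compl)
  refine ⟨e p', hp'N, ?_⟩
  have hfa : IsFinite (f ∣_ X.basicOpen a) := by
    refine isFinite_restrict_basicOpen f a ⟨C, hC, hfin a fun q hq => ?_⟩
    by_contra hqa
    exact (hasub hqa).2 hq
  refine le_finLocus f hfa ?_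
  have : p' ∈ e ⁻¹ᵁ X.basicOpen a := by
    rw [(isAffineOpen_top X).fromSpec_preimage_basicOpen]
    exact hp'a
  exact this

end Affine

end Groth.Agent.Lead.QFin
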