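import Mathlib
import Groth.Prelude.Def_Coh
import Groth.Prelude.Def_Cyc
import Groth.Agent.Lead.PushStalk
import Groth.Agent.Helper4.FinLocFree6

/-!
# Lengths of stalks of `i_* O_Z` for a closed immersion (S1899)
-/

set_option autoImplicit false
universe u
open CategoryTheory CategoryTheory.Limits AlgebraicGeometry TopologicalSpace

namespace Groth.Agent.Lead.PushLen

/-- length is invariant under a semilinear additive equivalence along a surjective ring map. -/
theorem length_eq_of_semilinear (R R' : Type u) [CommRing R] [CommRing R'] (π : R →+* R')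
    (hπ : Function.Surjective π) (N N' : Type u) [AddCommGroup N] [Module R N] [AddCommGroup N']
    [Module R' N'] (h : N ≃+ N') (hh : ∀ (r : R) (n : N), h (r • n) = π r • h n) :
    Module.length R N = Module.length R' N' := by
  letI : Algebra R R' := π.toAlgebra
  letI : Module R N' := Module.compHom N' π
  haveI : IsScalarTower R R' N' := IsScalarTower.of_algebraMap_smul (fun r m => rfl)
  have h1 : Module.length R N' = Module.length R' N' := Module.length_eq_of_surjective hπ
  let e : N ≃ₗ[R] N' := { h with map_smul' := fun r n => hh r n }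
  rw [← h1]
  exact e.length_eq

open Groth.Agent.Helper4.FinLocFree Groth.Agent.Helper4.FinLocFree2 in
/-- the stalk of the structure module has the length of the local ring. -/
theorem length_stalk_structureModule (Z : Scheme.{u}) (z : Z) :
    Module.length (Z.presheaf.stalk z) ((Coh.structureModule Z).presheaf.stalk z) =
      Module.length (Z.presheaf.stalk z) (Z.presheaf.stalk z) := by
  have hfree : IsFreeAlong (Coh.structureModule Z) (⊤ : Z.Opens).ι 1 :=
    ⟨Scheme.Modules.restrictUnitIso (⊤ : Z.Opens).ι ≪≫
      (coproductUniqueIso (fun _ : Fin 1 =>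
        Coh.structureModule ((⊤ : Z.Opens) : Scheme.{u}))).symm⟩
  haveI : (Coh.structureModule Z).IsQuasicoherent :=
    Groth.Agent.Helper4.FinLocFree4.isQuasicoherent_of_isFinLocFree _
      Groth.Agent.Helper4.FinLocFree6.isFinLocFree_unit
  obtain ⟨b⟩ := nonempty_basis_stalk_of_isFreeAlong (Coh.structureModule Z) hfree z trivial
  exact (b.equivFun ≪≫ₗ LinearEquiv.funUnique (Fin 1) _ _).length_eq

open Groth.Agent.Lead.PushStalk in
/-- **S1899** -/
theorem subschemeFun_eq_sheafFun (X Z : Scheme.{u}) (δ : X → ℤ) (i : Z ⟶ X) [IsClosedImmersion i]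
    (k : ℤ) :
    Cyc.subschemeFun δ k i =
      Cyc.sheafFun δ k ((Scheme.Modules.pushforward i).obj (Coh.structureModule Z)) := by
  funext x
  unfold Cyc.subschemeFun Cyc.sheafFun
  split_ifs with hk
  · by_cases hx : x ∈ Set.range i.base
    · obtain ⟨z₀, rfl⟩ := hx
      have hset : {z : Z | i z = i z₀} = {z₀} := by
        ext z
        simp only [Set.mem_setOf_eq, Set.mem_singleton_iff]
        exact ⟨fun h => i.isEmbedding.injective h, fun h => by rw [h]⟩
      rw [hset, finsum_mem_singleton]
      have h1 := length_eq_of_semilinear (X.presheaf.stalk (i z₀)) (Z.presheaf.stalk z₀)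
        (i.stalkMap z₀).hom (i.stalkMap_surjective z₀)
        (((Scheme.Modules.pushforward i).obj (Coh.structureModule Z)).presheaf.stalk (i z₀))
        ((Coh.structureModule Z).presheaf.stalk z₀)
        (AddEquiv.ofBijective (psHom i (Coh.structureModule Z) z₀)
          (psHom_bijective i (Coh.structureModule Z) i.isEmbedding.isInducing z₀))
        (fun r n => psHom_smul i (Coh.structureModule Z) z₀ r n)
      rw [h1, length_stalk_structureModule]
    · have hempty : {z : Z | i z = x} = ∅ := by
        ext z
        simp only [Set.mem_setOf_eq, Set.mem_empty_iff_false, iff_false]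
        exact fun h => hx ⟨z, h⟩
      rw [hempty, finsum_mem_empty]
      haveI := subsingleton_stalk_of_notMem_range i (Coh.structureModule Z)
        i.isClosedEmbedding.isClosed_range x hx
      rw [Module.length_eq_zero]
      rfl
  · rfl

end Groth.Agent.Lead.PushLen
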