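import Groth.Agent.Lead.IdMapI
import Groth.Prelude.Def_OmegaPn
import Mathlib

/-!
# Lead: the symmetry of the infinitesimal neighbourhoods of the diagonal
-/

set_option autoImplicit false
open CategoryTheory CategoryTheory.Limits AlgebraicGeometry Opposite TopologicalSpace
universe u

namespace Groth.Agent.Lead.PPSymA

variable {X S : Scheme.{u}} (f : X ⟶ S) (n : ℕ)

/-- the symmetry of `X ×_S X` -/
noncomputable abbrev sw : pullback f f ⟶ pullback f f := (pullbackSymmetry f f).hom

theorem sw_fst : sw f ≫ pullback.fst f f = pullback.snd f f := pullbackSymmetry_hom_comp_fst f f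
theorem sw_snd : sw f ≫ pullback.snd f f = pullback.fst f f := pullbackSymmetry_hom_comp_snd f f

theorem sw_sw : sw f ≫ sw f = 𝟙 _ := by
  apply pullback.hom_ext
  · rw [Category.assoc, sw_fst, sw_snd, Category.id_comp]
  · rw [Category.assoc, sw_snd, sw_fst, Category.id_comp]

theorem diag_sw : pullback.diagonal f ≫ sw f = pullback.diagonal f := by
  apply pullback.hom_ext
  · rw [Category.assoc, sw_fst, pullback.diagonal_snd, pullback.diagonal_fst]
  · rw [Category.assoc, sw_snd, pullback.diagonal_snd, pullback.diagonal_fst]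

theorem sw_apply_apply (p : ↥(pullback f f)) : sw f (sw f p) = p := by
  rw [← Scheme.Hom.comp_apply, sw_sw]
  rfl

theorem sw_preimage_range :
    (sw f) ⁻¹' (Set.range (pullback.diagonal f)) = Set.range (pullback.diagonal f) := by
  ext p
  constructor
  · rintro ⟨x, hx⟩
    refine ⟨x, ?_⟩
    have : sw f (pullback.diagonal f x) = sw f (sw f p) := congrArg _ hx
    rw [sw_apply_apply, ← Scheme.Hom.comp_apply, diag_sw] at this
    exact this
  · rintro ⟨x, rfl⟩
    refine ⟨x, ?_⟩
    rw [← Scheme.Hom.comp_apply, diag_sw]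

theorem sw_mem_coborderRange (p : ↥(pullback f f))
    (hp : p ∈ (pullback.diagonal f).coborderRange) :
    sw f p ∈ (pullback.diagonal f).coborderRange := by
  have hopen : IsOpenMap (sw f) := (Scheme.homeoOfIso (pullbackSymmetry f f)).isOpenMap
  have h1 := coborder_preimage hopen (sw f).continuous (Set.range (pullback.diagonal f))
  rw [sw_preimage_range] at h1
  have h2 : p ∈ coborder (Set.range (pullback.diagonal f)) := hp
  have h3 : sw f (sw f p) ∈ coborder (Set.range (pullback.diagonal f)) := by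
    rw [sw_apply_apply]; exact h2
  have h4 : sw f p ∈ (sw f) ⁻¹' coborder (Set.range (pullback.diagonal f)) := h3
  rw [← h1] at h4
  exact h4

/-- the symmetry restricted to the coborder of the diagonal -/
noncomputable def swC : ((pullback.diagonal f).coborderRange : Scheme.{u}) ⟶
    ((pullback.diagonal f).coborderRange : Scheme.{u}) :=
  IsOpenImmersion.lift (pullback.diagonal f).coborderRange.ι
    ((pullback.diagonal f).coborderRange.ι ≫ sw f) (by
      rintro _ ⟨c, rfl⟩
      rw [Scheme.Opens.range_ι]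
      have hc : (pullback.diagonal f).coborderRange.ι c ∈ (pullback.diagonal f).coborderRange := by
        have := Set.mem_range_self (f := (pullback.diagonal f).coborderRange.ι) c
        rw [Scheme.Opens.range_ι] at this
        exact this
      exact sw_mem_coborderRange f _ hc)

theorem swC_ι : swC f ≫ (pullback.diagonal f).coborderRange.ι =
    (pullback.diagonal f).coborderRange.ι ≫ sw f :=
  IsOpenImmersion.lift_fac _ _ _

theorem swC_swC : swC f ≫ swC f = 𝟙 _ := by
  rw [← cancel_mono (pullback.diagonal f).coborderRange.ι, Category.assoc, swC_ι,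
    reassoc_of% swC_ι, sw_sw, Category.comp_id, Category.id_comp]

instance : IsIso (swC f) := ⟨swC f, swC_swC f, swC_swC f⟩

theorem diagCl_swC : PrinPart.diagCl f ≫ swC f = PrinPart.diagCl f := by
  rw [← cancel_mono (pullback.diagonal f).coborderRange.ι, Category.assoc, swC_ι,
    Scheme.Hom.liftCoborder_ι_assoc, diag_sw, Scheme.Hom.liftCoborder_ι]

theorem le_map :
    (PrinPart.diagCl f).ker ^ (n + 1) ≤ ((PrinPart.diagCl f).ker ^ (n + 1)).map (swC f) := by
  have hK : (PrinPart.diagCl f).ker.map (swC f) = (PrinPart.diagCl f).ker := by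
    rw [Scheme.IdealSheafData.map_ker, diagCl_swC]
  rw [Scheme.IdealSheafData.le_def]
  intro U
  rw [Scheme.IdealSheafData.ideal_map_of_isAffineHom]
  have h1 : ((PrinPart.diagCl f).ker ^ (n + 1)).ideal U =
      ((PrinPart.diagCl f).ker.ideal U) ^ (n + 1) := rfl
  have h2 : ((PrinPart.diagCl f).ker ^ (n + 1)).ideal ⟨swC f ⁻¹ᵁ U.1, U.2.preimage (swC f)⟩ =
      ((PrinPart.diagCl f).ker.ideal ⟨swC f ⁻¹ᵁ U.1, U.2.preimage (swC f)⟩) ^ (n + 1) := rfl
  rw [h1, h2]
  refine le_trans ?_ (Ideal.le_comap_pow _ _)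
  apply Ideal.pow_right_mono
  conv_lhs => rw [← hK]
  rw [Scheme.IdealSheafData.ideal_map_of_isAffineHom]

/-- the symmetry of `X^{(n)}_Δ` -/
noncomputable def sigma : PrinPart.nbhd f n ⟶ PrinPart.nbhd f n :=
  Scheme.IdealSheafData.subschemeMap _ _ (swC f) (le_map f n)

theorem sigma_ι : sigma f n ≫ PrinPart.infNbhdι (PrinPart.diagCl f) n =
    PrinPart.infNbhdι (PrinPart.diagCl f) n ≫ swC f :=
  Scheme.IdealSheafData.subschemeMap_subschemeι _ _ _ _

theorem sigma_nbhdι : sigma f n ≫ PrinPart.nbhdι f n = PrinPart.nbhdι f n ≫ sw f := by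
  unfold PrinPart.nbhdι
  rw [reassoc_of% sigma_ι, swC_ι, Category.assoc]

instance : Mono (PrinPart.nbhdι f n) := by
  unfold PrinPart.nbhdι
  infer_instance

/-- **S5969** -/
theorem main : ∃ σ : PrinPart.nbhd f n ⟶ PrinPart.nbhd f n,
    σ ≫ PrinPart.nbhdι f n = PrinPart.nbhdι f n ≫ (pullbackSymmetry f f).hom ∧
    σ ≫ σ = 𝟙 (PrinPart.nbhd f n) ∧
    σ ≫ PrinPart.pr1 f n = PrinPart.pr2 f n ∧ σ ≫ PrinPart.pr2 f n = PrinPart.pr1 f n ∧
    PrinPart.toNbhd f n ≫ σ = PrinPart.toNbhd f n := by
  refine ⟨sigma f n, sigma_nbhdι f n, ?_, ?_, ?_, ?_⟩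
  · rw [← cancel_mono (PrinPart.nbhdι f n), Category.assoc, sigma_nbhdι,
      reassoc_of% sigma_nbhdι, sw_sw, Category.comp_id, Category.id_comp]
  · unfold PrinPart.pr1 PrinPart.pr2
    rw [reassoc_of% sigma_nbhdι, sw_fst]
  · unfold PrinPart.pr1 PrinPart.pr2
    rw [reassoc_of% sigma_nbhdι, sw_snd]
  · rw [← cancel_mono (PrinPart.nbhdι f n), Category.assoc, sigma_nbhdι,
      PrinPart.toNbhd_ι_assoc, diag_sw, PrinPart.toNbhd_ι]

end Groth.Agent.Lead.PPSymA
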