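import Groth.Agent.Lead.PPChartF
import Groth.Agent.Lead.OmegaUnivA
import Mathlib

/-!
# Lead: `P^n_{X/S}` is generated by the image of `d^n`
-/

set_option autoImplicit false
open CategoryTheory CategoryTheory.Limits AlgebraicGeometry Opposite TopologicalSpace TensorProduct
universe u

namespace Groth.Agent.Lead.PPGenA
open Groth.Agent.Lead.PPChartA Groth.Agent.Lead.PPChartB Groth.Agent.Lead.PPChartF

section Span
variable {X S : Scheme.{u}} (f : X ⟶ S) (n : ℕ)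
variable {U : X.Opens} (hU : IsAffineOpen U) {V : S.Opens} (hV : IsAffineOpen V) (e : U ≤ f ⁻¹ᵁ V)

include hU hV e in
theorem span_dn :
    Submodule.span Γ(X, U) (Set.range (PrinPart.dn f n U)) = ⊤ := by
  letI := (f.appLE V U e).hom.toAlgebra
  obtain ⟨θ, hθ₁, hθ₂⟩ := exists_chart f n hU hV e
  rw [eq_top_iff]
  intro m _
  have key : ∀ x : Γ(X, U) ⊗[Γ(S, V)] Γ(X, U), ∃ m' ∈ Submodule.span Γ(X, U)
      (Set.range (PrinPart.dn f n U)), Phi f n U m' = θ (Ideal.Quotient.mk _ x) := by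
    intro x
    induction x using TensorProduct.induction_on with
    | zero => exact ⟨0, Submodule.zero_mem _, by rw [map_zero, map_zero, map_zero]⟩
    | add x y hx hy =>
      obtain ⟨m₁, h₁, h₁'⟩ := hx
      obtain ⟨m₂, h₂, h₂'⟩ := hy
      exact ⟨m₁ + m₂, Submodule.add_mem _ h₁ h₂, by rw [map_add, h₁', h₂', map_add, map_add]⟩
    | tmul s s' =>
      refine ⟨s • PrinPart.dn f n U s', Submodule.smul_mem _ _ (Submodule.subset_span ⟨s', rfl⟩), ?_⟩
      rw [Phi_smul, Phi_dn]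
      have h1 : (Ideal.Quotient.mk (KaehlerDifferential.ideal Γ(S, V) Γ(X, U) ^ (n + 1)))
          (s ⊗ₜ[Γ(S, V)] s') =
          algebraMap Γ(X, U) (PP16.P n Γ(S, V) Γ(X, U)) s * PP16.dn n Γ(S, V) Γ(X, U) s' := by
        change _ = Ideal.Quotient.mk _ (s ⊗ₜ[Γ(S, V)] 1) * Ideal.Quotient.mk _ (1 ⊗ₜ[Γ(S, V)] s')
        rw [← map_mul, Algebra.TensorProduct.tmul_mul_tmul, mul_one, one_mul]
      rw [h1, map_mul, hθ₁, hθ₂]
  obtain ⟨p, hp⟩ := θ.surjective (Phi f n U m)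
  obtain ⟨x, rfl⟩ := Ideal.Quotient.mk_surjective p
  obtain ⟨m', hm', hm''⟩ := key x
  have : m = m' := (Phi_bijective f n U).injective (hp.symm.trans hm''.symm)
  rw [this]
  exact hm'

end Span

section HomExt
variable {X S : Scheme.{u}} (f : X ⟶ S) (n : ℕ)

/-- **`P^n_{X/S}` is generated by `d^n`**: maps out of it are determined on the `d^n s`
for sections `s` over the affine opens lying over an affine open of `S` -/
theorem hom_ext_dn_basis {G : X.Modules} (a b : PrinPart.P f n ⟶ G)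
    (h : ∀ (i : OmegaUnivA.Idx f) (s : Γ(X, OmegaUnivA.B f i)),
      a.app (OmegaUnivA.B f i) (PrinPart.dn f n _ s) =
        b.app (OmegaUnivA.B f i) (PrinPart.dn f n _ s)) : a = b := by
  apply OmegaUnivA.hom_ext_of_basis f
  intro i
  apply AddCommGrpCat.hom_ext
  apply AddMonoidHom.ext
  intro m
  have hm : m ∈ Submodule.span Γ(X, OmegaUnivA.B f i)
      (Set.range (PrinPart.dn f n (OmegaUnivA.B f i))) := by
    rw [span_dn f n i.1.1.2 i.1.2.2 i.2]; trivial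
  induction hm using Submodule.span_induction with
  | mem x hx =>
    obtain ⟨s, rfl⟩ := hx
    exact h i s
  | zero => rw [map_zero, map_zero]
  | add x y _ _ hx hy => rw [map_add, map_add, hx, hy]
  | smul r x _ hx =>
    change a.app _ (r • x) = b.app _ (r • x)
    rw [Scheme.Modules.Hom.app_smul, Scheme.Modules.Hom.app_smul]
    exact congrArg (r • ·) hx

theorem hom_ext_dn {G : X.Modules} (a b : PrinPart.P f n ⟶ G)
    (h : ∀ (U : X.Opens) (s : Γ(X, U)),
      a.app U (PrinPart.dn f n U s) = b.app U (PrinPart.dn f n U s)) : a = b :=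
  hom_ext_dn_basis f n a b (fun _ s => h _ s)

theorem dn_map {U V : X.Opens} (e : V ≤ U) (s : Γ(X, U)) :
    PrinPart.dn f n V (X.presheaf.map (homOfLE e).op s) =
      (PrinPart.P f n).presheaf.map (homOfLE e).op (PrinPart.dn f n U s) :=
  PrinPart.dP_map f n (Coh.structureModule X) e (OmegaSh.strSect X U s)

/-- local version -/
theorem hom_ext_dn_local {G : X.Modules} (a b : PrinPart.P f n ⟶ G)
    (h : ∀ (x : X) (U₀ : X.Opens), x ∈ U₀ → ∃ U : X.Opens, U ≤ U₀ ∧ x ∈ U ∧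
      ∀ s : Γ(X, U), a.app U (PrinPart.dn f n U s) = b.app U (PrinPart.dn f n U s)) : a = b := by
  apply hom_ext_dn f n
  intro U' s
  choose W hW1 hW2 hW3 using fun x : U' => h x.1 U' x.2
  apply Groth.Agent.Helper1.BasisHom.section_ext_of_cover G U' W hW1
  · intro x hx
    exact Opens.mem_iSup.mpr ⟨⟨x, hx⟩, hW2 ⟨x, hx⟩⟩
  · intro k
    rw [← app_res', ← app_res', ← dn_map]
    exact hW3 k _

end HomExt

section Epi

/-- **S5981** -/
theorem epi_of_comp {X Y Z : Scheme.{u}} (f : X ⟶ Y) (g : Y ⟶ Z) (n : ℕ)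
    (φ : (Scheme.Modules.pullback (𝟙 X)).obj (PrinPart.P (f ≫ g) n) ⟶ PrinPart.P f n)
    (hφ : PrinPart.IsPMap (f ≫ g) f (𝟙 X) n φ) : Epi φ := by
  constructor
  intro G a b hab
  apply hom_ext_dn f n
  intro U s
  have h1 := hφ U s
  have h2 : PrinPart.dn f n ((𝟙 X) ⁻¹ᵁ U) ((𝟙 X :).app U s) = PrinPart.dn f n U s := rfl
  rw [← h2, ← h1]
  have h3 : ∀ (c c' : (Scheme.Modules.pullback (𝟙 X)).obj (PrinPart.P (f ≫ g) n) ⟶ G) (_ : c = c')
      (W : X.Opens) (y), c.app W y = c'.app W y := by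
    rintro c _ rfl W y; rfl
  exact h3 _ _ hab ((𝟙 X) ⁻¹ᵁ U) _

/-- **S5977** -/
theorem epi_of_isClosedImmersion {X Y Z : Scheme.{u}} (f : Y ⟶ Z) (j : X ⟶ Y)
    [IsClosedImmersion j] (n : ℕ)
    (φ : (Scheme.Modules.pullback j).obj (PrinPart.P f n) ⟶ PrinPart.P (j ≫ f) n)
    (hφ : PrinPart.IsPMap f (j ≫ f) j n φ) : Epi φ := by
  constructor
  intro G a b hab
  apply hom_ext_dn_local (j ≫ f) n
  intro x U₀ hx
  obtain ⟨O, hO, hOU₀⟩ := j.isEmbedding.isInducing.isOpen_iff.mp U₀.isOpen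
  have hxO : j x ∈ O := by
    have : x ∈ j ⁻¹' O := by rw [hOU₀]; exact hx
    exact this
  obtain ⟨_, ⟨U, hU : IsAffineOpen U, rfl⟩, hxU, hUO⟩ :=
    Y.isBasis_affineOpens.exists_subset_of_mem_open hxO hO
  have hUU₀ : j ⁻¹ᵁ U ≤ U₀ := by
    intro y hy
    have : y ∈ j ⁻¹' O := hUO hy
    rw [hOU₀] at this
    exact this
  refine ⟨j ⁻¹ᵁ U, hUU₀, hxU, fun s => ?_⟩
  obtain ⟨t, rfl⟩ := (isClosedImmersion_iff_isAffineHom.mp (inferInstance : IsClosedImmersion j)).2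
    U hU s
  rw [← hφ U t]
  have h3 : ∀ (c c' : (Scheme.Modules.pullback j).obj (PrinPart.P f n) ⟶ G) (_ : c = c')
      (W : X.Opens) (y), c.app W y = c'.app W y := by
    rintro c _ rfl W y; rfl
  exact h3 _ _ hab (j ⁻¹ᵁ U) _

end Epi

end Groth.Agent.Lead.PPGenA
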