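import Groth.Agent.Lead.ParaDesc
import Groth.Prelude.Def_PicGrp

set_option autoImplicit false
open CategoryTheory CategoryTheory.Limits AlgebraicGeometry Opposite TopologicalSpace
universe u

namespace Groth.Agent.Lead.ClLib
open Scheme.Modules

variable {Y Y' Y'' : Scheme.{u}}

theorem pullCl_cl (g : Y' ⟶ Y) (L : Y.Modules) :
    PicF.pullCl g (PicF.cl L) = PicF.cl ((Scheme.Modules.pullback g).obj L) := rfl

theorem pullCl_comp (g : Y'' ⟶ Y') (h : Y' ⟶ Y) (c : PicF.Cl Y) :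
    PicF.pullCl (g ≫ h) c = PicF.pullCl g (PicF.pullCl h c) := by
  induction c using Quot.ind with
  | mk L => exact (PicGrp.cl_eq_cl_iff _ _).mpr ⟨((pullbackComp g h).app L).symm⟩

theorem pullCl_structure (g : Y' ⟶ Y) :
    PicF.pullCl g (PicF.cl (Coh.structureModule Y)) = PicF.cl (Coh.structureModule Y') :=
  (PicGrp.cl_eq_cl_iff _ _).mpr ⟨Groth.Agent.Helper8.TildeBC.pullbackUnitIso g⟩

theorem pullCl_congr {g g' : Y' ⟶ Y} (h : g = g') (c : PicF.Cl Y) :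
    PicF.pullCl g c = PicF.pullCl g' c := by rw [h]

theorem cl_restrict (U : Y.Opens) (L : Y.Modules) :
    PicF.cl (L.restrict U.ι) = PicF.pullCl U.ι (PicF.cl L) :=
  (PicGrp.cl_eq_cl_iff _ _).mpr ⟨(restrictFunctorIsoPullback U.ι).app L⟩

theorem isInvertible_iff (L : Y.Modules) :
    PicF.IsInvertible L ↔ ∀ y : Y, ∃ U : Y.Opens, y ∈ U ∧
      PicF.pullCl U.ι (PicF.cl L) = PicF.cl (Coh.structureModule (U : Scheme.{u})) := by
  constructor
  · intro h y
    obtain ⟨U, hy, ⟨e⟩⟩ := h y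
    exact ⟨U, hy, by rw [← cl_restrict]; exact (PicGrp.cl_eq_cl_iff _ _).mpr ⟨e⟩⟩
  · intro h y
    obtain ⟨U, hy, e⟩ := h y
    rw [← cl_restrict] at e
    exact ⟨U, hy, (PicGrp.cl_eq_cl_iff _ _).mp e⟩

end Groth.Agent.Lead.ClLib
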