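import Mathlib
import Groth.Prelude.Def_MeroDiv
import Groth.Prelude.Def_Pic
import Groth.Agent.Lead.MeroN

/-!
# Refined form of `L ≅ O_X(D)` for a regular meromorphic section
-/

set_option autoImplicit false
set_option linter.style.haveILetI false
set_option linter.unusedSectionVars false

universe u

open CategoryTheory CategoryTheory.Limits AlgebraicGeometry TopologicalSpace Opposite IsLocalRing

namespace Groth.Agent.Lead.MeroS

open Mero Groth.Agent.Lead.MeroB Groth.Agent.Lead.MeroD Groth.Agent.Lead.MeroE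
  Groth.Agent.Lead.MeroM Groth.Agent.Lead.MeroN

variable {X : Scheme.{u}} {L : X.Modules} {s : Γ(merMod L, ⊤)}

theorem divModι_app_val (D : Divisor X) (W : X.Opens) (t : Γ(divMod D, W)) (z : W) :
    (show Γ(kmod X, W) from (divModι D).app W t).1 z = t.1 z := rfl

/-- refined version: the divisor is the divisor of `s`, and the isomorphism divides by `s` -/
theorem exists_iso_divMod' (hL : PicF.IsInvertible L) (hs : IsRegularMero L s) :
    ∃ (D : Mero.Divisor X) (e : L ≅ Mero.divMod D),
      (∀ (y : X) (g : (KStalk X y)ˣ), IsCoeff L s y g → D.1 y = QuotientGroup.mk g) ∧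
      (∀ (W : X.Opens) (m : Γ(L, W)) (z : W),
        (show Γ(kmod X, W) from (divModι D).app W (e.hom.app W m)).1 z • sval L s z.1 =
          LocalizedModule.mk (L.presheaf.germ W z.1 z.2 m) 1) := by
  have hf := exists_localForm hL hs
  have hc : ∀ y : X, ∃ g, IsCoeff L s y g := by
    intro y
    obtain ⟨V, hyV, ⟨F⟩⟩ := hf y
    exact ⟨_, F.isCoeff ⟨y, hyV⟩⟩
  haveI := isIso_phi hc hf
  refine ⟨divOf hc hf, asIso (phi hc hf), fun y g hg => divFun_eq hc y g hg, fun W m z => ?_⟩
  change (phiFun hc hf W m).1 z • sval L s z.1 = _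
  rw [phiFun_val]
  exact coef_smul hc z.1 _

end Groth.Agent.Lead.MeroS
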