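import Mathlib
import Groth.Prelude.Def_MeroDiv
import Groth.Prelude.Def_Pic
import Groth.Prelude.Def_PicF2
import Groth.Prelude.Def_SecTwist
import Groth.Agent.Lead.MeroS
import Groth.Agent.Lead.MeroT

/-!
# The divisor of a nonzero section of an invertible module on an integral scheme
-/

set_option autoImplicit false
set_option linter.style.haveILetI false
set_option linter.unusedSectionVars false

universe u

open CategoryTheory CategoryTheory.Limits AlgebraicGeometry TopologicalSpace Opposite IsLocalRing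

namespace Groth.Agent.Lead.MeroU

open Mero Groth.Agent.Lead.MeroB Groth.Agent.Lead.MeroD Groth.Agent.Lead.MeroE
  Groth.Agent.Lead.MeroM Groth.Agent.Lead.MeroN Groth.Agent.Lead.MeroS Groth.Agent.Lead.MeroT
  Groth.Agent.Lead.LocLift

variable {X : Scheme.{u}} {L : X.Modules} {s : Coh.structureModule X ⟶ L}

theorem sec_top_eq : sec L s ⊤ = s.app ⊤ (1 : Γ(X, ⊤)) := rfl

/-- on an integral scheme a nonzero section of an invertible module has nonzero germs -/
theorem sgerm_ne_zero [IsIntegral X] (hL : PicF.IsInvertible L) (hs : s ≠ 0) (y : X) :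
    sgerm L s y ≠ 0 := by
  intro h0
  apply hs
  -- the section vanishes near `y`
  have h1 : L.presheaf.germ ⊤ y (Opens.mem_top y) (sec L s ⊤) =
      L.presheaf.germ ⊤ y (Opens.mem_top y) 0 := by
    rw [map_zero]; exact h0
  obtain ⟨V, hyV, i₁, i₂, h2⟩ := TopCat.Presheaf.germ_eq L.presheaf y _ _ _ _ h1
  rw [map_zero, sec_res] at h2
  -- hence everywhere
  have hall : ∀ z : X, sgerm L s z = 0 := by
    intro z
    obtain ⟨U, hzU, e, he⟩ := exists_isLocalBasis L hL z
    obtain ⟨r, hr, -⟩ := he U le_rfl (sec L s U)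
    have e0 : L.presheaf.map (homOfLE (le_refl U)).op e = e := by
      change L.presheaf.map (𝟙 _) e = e
      rw [L.presheaf.map_id]; rfl
    rw [e0] at hr
    have hne : Nonempty (U ⊓ V : X.Opens) := by
      have := nonempty_preirreducible_inter U.isOpen V.isOpen ⟨z, hzU⟩ ⟨y, hyV⟩
      obtain ⟨w, hw⟩ := this
      exact ⟨⟨w, hw⟩⟩
    have h3 : X.presheaf.map (homOfLE (inf_le_left : U ⊓ V ≤ U)).op r = 0 := by
      obtain ⟨r₀, -, hu⟩ := he (U ⊓ V) inf_le_left 0
      have hA : (0 : Γ(L, U ⊓ V)) = X.presheaf.map (homOfLE (inf_le_left : U ⊓ V ≤ U)).op r •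
          L.presheaf.map (homOfLE (inf_le_left : U ⊓ V ≤ U)).op e := by
        rw [← Scheme.Modules.map_smul, ← hr, sec_res,
          ← sec_res L s (homOfLE (inf_le_right : U ⊓ V ≤ V)), h2, map_zero]
      have hB : (0 : Γ(L, U ⊓ V)) = (0 : Γ(X, U ⊓ V)) •
          L.presheaf.map (homOfLE (inf_le_left : U ⊓ V ≤ U)).op e := (zero_smul _ _).symm
      exact (hu _ hA).trans (hu 0 hB).symm
    have h4 : r = 0 := by
      apply map_injective_of_isIntegral X (homOfLE (inf_le_left : U ⊓ V ≤ U))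
      rw [h3, map_zero]
    rw [← germ_sec L s U z hzU, hr, h4, zero_smul, map_zero]
  have h5 : sec L s ⊤ = 0 := by
    apply section_ext_germ
    intro z hz
    rw [map_zero]
    exact hall z
  apply hom_unit_ext
  rw [← sec_top_eq, h5]
  rfl

theorem isRegSec_of_isIntegral [IsIntegral X] (hL : PicF.IsInvertible L) (hs : s ≠ 0) :
    IsRegSec L s := by
  intro y β hβ
  obtain ⟨U, hyU, e, he⟩ := exists_isLocalBasis L hL y
  obtain ⟨ρ, hρ⟩ := (he.germ y hyU).1 (sgerm L s y)
  have hρ0 : ρ ≠ 0 := by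
    intro h
    apply sgerm_ne_zero hL hs y
    rw [hρ, h, zero_smul]
  rw [hρ, ← mul_smul] at hβ
  have h1 := (he.germ y hyU).2 _ hβ
  rcases mul_eq_zero.mp h1 with h | h
  · exact h
  · exact (hρ0 h).elim

/-- the meromorphic section defined by `s` -/
noncomputable def merOf (L : X.Modules) (s : Coh.structureModule X ⟶ L) : Γ(merMod L, ⊤) :=
  toMerFun L ⊤ (sec L s ⊤)

theorem merOf_val (y : X) : sval L (merOf L s) y = LocalizedModule.mk (sgerm L s y) 1 := rfl

theorem isRegularMero_merOf (hreg : IsRegSec L s) : IsRegularMero L (merOf L s) := by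
  intro y q hq
  change q • sval L (merOf L s) y = 0 at hq
  rw [merOf_val] at hq
  induction q using Localization.induction_on with
  | H p =>
    obtain ⟨α, β⟩ := p
    rw [LocalizedModule.mk_smul_mk, mul_one, ← LocalizedModule.zero_mk β,
      LocalizedModule.mk_eq] at hq
    obtain ⟨c, hc⟩ := hq
    rw [smul_zero, smul_zero] at hc
    have h1 : ((c : X.presheaf.stalk y) * (β : X.presheaf.stalk y) * α) • sgerm L s y = 0 := by
      rw [mul_smul, mul_smul]; exact hc
    have h2 := hreg y _ h1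
    have h3 : α = 0 := by
      have hcβ : (c : X.presheaf.stalk y) * (β : X.presheaf.stalk y) ∈
          nonZeroDivisors (X.presheaf.stalk y) :=
        mul_mem (regStalk_le_nonZeroDivisors y c.2) (regStalk_le_nonZeroDivisors y β.2)
      exact (mul_left_mem_nonZeroDivisors_eq_zero_iff hcβ).mp h2
    rw [h3, Localization.mk_zero]

/-- local data: an affine open around `x`, a basis of `L` on it, and the coefficient of `s` -/
theorem exists_local_data [IsIntegral X] (hL : PicF.IsInvertible L) (hs : s ≠ 0) (x : X) :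
    ∃ (U : X.affineOpens) (_ : x ∈ (U : X.Opens)) (e : Γ(L, U.1)) (_ : IsLocalBasis L U.1 e)
      (f : Γ(X, U.1)) (_ : f ∈ regSub X U.1), sec L s U.1 = f • e := by
  obtain ⟨U₁, hx₁, e₁, he₁⟩ := exists_isLocalBasis L hL x
  obtain ⟨U, hUaff, hxU, hUU₁⟩ := (Opens.isBasis_iff_nbhd.mp X.isBasis_affineOpens) hx₁
  obtain ⟨e, he_def⟩ : ∃ e, e = L.presheaf.map (homOfLE (show U ≤ U₁ from hUU₁)).op e₁ := ⟨_, rfl⟩
  have he : IsLocalBasis L U e := by rw [he_def]; exact he₁.res hUU₁
  obtain ⟨f, hf, -⟩ := he U le_rfl (sec L s U)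
  have e0 : L.presheaf.map (homOfLE (le_refl U)).op e = e := by
    change L.presheaf.map (𝟙 _) e = e
    rw [L.presheaf.map_id]; rfl
  rw [e0] at hf
  refine ⟨⟨U, hUaff⟩, hxU, e, he, f, ?_, hf⟩
  intro z
  rw [mem_nonZeroDivisors_iff_ne_zero]
  intro h0
  apply sgerm_ne_zero hL hs z.1
  rw [← germ_sec L s U z.1 z.2, hf, Mero.germ_smul, h0, zero_smul]

theorem s19456 [IsIntegral X] (hL : PicF.IsInvertible L) (hs : s ≠ 0) :
    ∃ D : Mero.Divisor X, Mero.IsDivOfIdeal D (PicF2.zeroScheme L s) ∧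
      ∃ e : L ≅ Mero.divMod D,
        (Mero.divModι D).app ⊤ (e.hom.app ⊤ (SecTwist.val s ⊤)) = 1 := by
  have hreg := isRegSec_of_isIntegral hL hs
  have hmero := isRegularMero_merOf hreg
  obtain ⟨D, e, hD, hφ⟩ := exists_iso_divMod' hL hmero
  refine ⟨D, ?_, e, ?_⟩
  · intro x
    obtain ⟨U, hxU, ε, hε, f, hf, hsec⟩ := exists_local_data hL hs x
    refine ⟨U, hxU, f, hf, ideal_zeroScheme_eq hL hreg U ε hε f hsec, fun y => ?_⟩
    apply hD y.1
    refine ⟨L.presheaf.germ U.1 y.1 y.2 ε, hε.germ y.1 y.2, ?_⟩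
    rw [merOf_val, IsUnit.unit_spec]
    change _ = algebraMap (X.presheaf.stalk y.1) (KStalk X y.1) (X.presheaf.germ U.1 y.1 y.2 f) • _
    rw [algebraMap_smul_mk, ← Mero.germ_smul, ← hsec, germ_sec]
  · apply kmod_ext
    intro z
    have h1 := hφ ⊤ (sec L s ⊤) z
    obtain ⟨v, hv_def⟩ : ∃ v, v = (show Γ(kmod X, ⊤) from
      (divModι D).app ⊤ (e.hom.app ⊤ (sec L s ⊤))).1 z := ⟨_, rfl⟩
    rw [← hv_def] at h1
    have h2 : LocalizedModule.mk (L.presheaf.germ ⊤ z.1 z.2 (sec L s ⊤)) 1 =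
        sval L (merOf L s) z.1 := rfl
    rw [h2] at h1
    have h3 : (v - 1) • sval L (merOf L s) z.1 = 0 := by
      rw [sub_smul, h1, one_smul, sub_self]
    have h4 := hmero z.1 _ h3
    have h5 : v = 1 := sub_eq_zero.mp h4
    rw [hv_def] at h5
    exact h5

end Groth.Agent.Lead.MeroU
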