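import Mathlib
import Groth.Prelude.Def_MeroDiv
import Groth.Prelude.Def_Pic
import Groth.Prelude.Def_PicF2
import Groth.Prelude.Def_SecTwist
import Groth.Agent.Lead.MeroU

/-!
# A section of `O_X(D)` with zero scheme `D`, for `D` effective on an integral scheme
-/

set_option autoImplicit false
set_option linter.style.haveILetI false
set_option linter.unusedSectionVars false

universe u

open CategoryTheory CategoryTheory.Limits AlgebraicGeometry TopologicalSpace Opposite IsLocalRing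

namespace Groth.Agent.Lead.MeroV

open Mero Groth.Agent.Lead.MeroB Groth.Agent.Lead.MeroD Groth.Agent.Lead.MeroE
  Groth.Agent.Lead.MeroM Groth.Agent.Lead.MeroN Groth.Agent.Lead.MeroS Groth.Agent.Lead.MeroT
  Groth.Agent.Lead.MeroU Groth.Agent.Lead.LocLift

variable {X : Scheme.{u}}

/-- an effective divisor is locally the class of a regular function -/
theorem exists_local_eq {D : Divisor X} (hD : IsEffective D) (x : X) :
    ∃ (W : X.Opens) (_ : IsAffineOpen W) (_ : x ∈ W) (f : Γ(X, W)) (hf : f ∈ regSub X W),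
      ∀ y : W, D.1 y.1 = QuotientGroup.mk
        (IsLocalization.map_units (KStalk X y.1) (regGerm y ⟨f, hf⟩)).unit := by
  obtain ⟨V, hxV, ⟨R⟩⟩ := exists_localRep D x
  obtain ⟨c, hc⟩ := (R.effectiveAt_iff ⟨x, hxV⟩).mp (hD x)
  obtain ⟨V₁, hx₁, c₁, rfl⟩ := TopCat.Presheaf.exists_germ_eq X.presheaf c
  have hx₂ : x ∈ V ⊓ V₁ := ⟨hxV, hx₁⟩
  have h1 : X.presheaf.germ (V ⊓ V₁) x hx₂ (X.presheaf.map (homOfLE inf_le_left).op R.a) =
      X.presheaf.germ (V ⊓ V₁) x hx₂ (X.presheaf.map (homOfLE inf_le_left).op R.b *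
        X.presheaf.map (homOfLE inf_le_right).op c₁) := by
    rw [map_mul, TopCat.Presheaf.germ_res_apply, TopCat.Presheaf.germ_res_apply,
      TopCat.Presheaf.germ_res_apply]
    exact hc
  obtain ⟨W₀, hxW₀, i₁, i₂, h2⟩ := TopCat.Presheaf.germ_eq X.presheaf x hx₂ hx₂ _ _ h1
  obtain ⟨W, hWaff, hxW, hWW₀⟩ := Opens.isBasis_iff_nbhd.mp X.isBasis_affineOpens hxW₀
  have hWV : W ≤ V := hWW₀.trans (i₁.le.trans inf_le_left)
  have hWV₁ : W ≤ V₁ := hWW₀.trans (i₁.le.trans inf_le_right)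
  have key : ∀ z : W, X.presheaf.germ V z.1 (hWV z.2) R.a =
      X.presheaf.germ V z.1 (hWV z.2) R.b * X.presheaf.germ V₁ z.1 (hWV₁ z.2) c₁ := by
    intro z
    have h3 := congrArg (X.presheaf.germ W₀ z.1 (hWW₀ z.2)) h2
    rw [TopCat.Presheaf.germ_res_apply, TopCat.Presheaf.germ_res_apply,
      TopCat.Presheaf.germ_res_apply, map_mul, TopCat.Presheaf.germ_res_apply,
      TopCat.Presheaf.germ_res_apply] at h3
    exact h3
  refine ⟨W, hWaff, hxW, X.presheaf.map (homOfLE hWV₁).op c₁, ?_, ?_⟩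
  · intro z
    have h4 := R.ha ⟨z.1, hWV z.2⟩
    simp only at h4
    rw [key z] at h4
    change X.presheaf.germ W z.1 z.2 (X.presheaf.map (homOfLE hWV₁).op c₁) ∈ _
    rw [TopCat.Presheaf.germ_res_apply]
    exact (mul_mem_nonZeroDivisors.1 h4).2
  · intro y
    rw [R.hD ⟨y.1, hWV y.2⟩]
    congr 1
    apply Units.ext
    rw [IsUnit.unit_spec]
    change (R.g ⟨y.1, hWV y.2⟩ : KStalk X y.1) = algebraMap _ (KStalk X y.1)
      (X.presheaf.germ W y.1 y.2 (X.presheaf.map (homOfLE hWV₁).op c₁))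
    rw [TopCat.Presheaf.germ_res_apply]
    apply (R.isUnit_b ⟨y.1, hWV y.2⟩).mul_right_cancel
    rw [R.hg ⟨y.1, hWV y.2⟩, key y, map_mul, mul_comm]

section Inv

variable {D : Divisor X} {W : X.Opens} (f : Γ(X, W)) (hf : f ∈ regSub X W)
  (hDW : ∀ y : W, D.1 y.1 = QuotientGroup.mk
    (IsLocalization.map_units (KStalk X y.1) (regGerm y ⟨f, hf⟩)).unit)

include hDW in
theorem divCond_iff (y : W) (t : KStalk X y.1) : DivCond D y.1 t ↔
    t * algebraMap _ (KStalk X y.1) (X.presheaf.germ W y.1 y.2 f) ∈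
      (algebraMap (X.presheaf.stalk y.1) (KStalk X y.1)).range := by
  constructor
  · intro h
    have h1 := h _ (hDW y)
    rw [IsUnit.unit_spec] at h1
    exact h1
  · intro h g hg
    obtain ⟨φ, hφ_def⟩ : ∃ φ : (KStalk X y.1)ˣ,
      φ = (IsLocalization.map_units (KStalk X y.1) (regGerm y ⟨f, hf⟩)).unit := ⟨_, rfl⟩
    have hφv : (φ : KStalk X y.1) =
        algebraMap _ (KStalk X y.1) (X.presheaf.germ W y.1 y.2 f) := by
      rw [hφ_def, IsUnit.unit_spec]
    rw [hDW y, ← hφ_def] at hg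
    obtain ⟨u, hu⟩ := QuotientGroup.eq.mp hg
    have h1 := congrArg (fun z : (KStalk X y.1)ˣ => (z : KStalk X y.1)) hu
    simp only [Units.val_mul] at h1
    have h2 : algebraMap _ (KStalk X y.1) (u : X.presheaf.stalk y.1) =
        ((φ⁻¹ : (KStalk X y.1)ˣ) : KStalk X y.1) * (g : KStalk X y.1) := h1
    have h3 : (g : KStalk X y.1) = algebraMap _ (KStalk X y.1) (X.presheaf.germ W y.1 y.2 f) *
        algebraMap _ (KStalk X y.1) (u : X.presheaf.stalk y.1) := by
      rw [h2, ← mul_assoc, ← hφv, ← Units.val_mul, mul_inv_cancel, Units.val_one, one_mul]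
    rw [h3, ← mul_assoc]
    exact mul_mem h ⟨_, rfl⟩

/-- the section `1/f` of `O_X(D)` where `D` is the class of `f` -/
noncomputable def invSec : Γ(divMod D, W) :=
  ⟨(invReg ⟨f, hf⟩).1, (invReg ⟨f, hf⟩).2, fun y => (divCond_iff f hf hDW y _).mpr
    ⟨1, (mk_mul_algebraMap y.1 1 (regGerm y ⟨f, hf⟩)).symm⟩⟩

theorem invSec_val (y : W) : (invSec f hf hDW).1 y = LocalizedModule.mk 1 (regGerm y ⟨f, hf⟩) := rfl

theorem invSec_mul (y : W) : (invSec f hf hDW).1 y *
    algebraMap _ (KStalk X y.1) (X.presheaf.germ W y.1 y.2 f) = 1 := by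
  rw [invSec_val]
  exact (mk_mul_algebraMap y.1 1 (regGerm y ⟨f, hf⟩)).trans (map_one _)

theorem smul_val {V : X.Opens} (r : Γ(X, V)) (t : Γ(divMod D, V)) (z : V) :
    (r • t).1 z = algebraMap _ (KStalk X z.1) (X.presheaf.germ V z.1 z.2 r) * t.1 z := by
  change X.presheaf.germ V z.1 z.2 r • t.1 z = _
  rw [Algebra.smul_def]

theorem res_val {V V' : X.Opens} (i : V' ⟶ V) (t : Γ(divMod D, V)) (z : V') :
    ((divMod D).presheaf.map i.op t).1 z = t.1 ⟨z.1, i.le z.2⟩ := rfl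

theorem isLocalBasis_invSec : IsLocalBasis (divMod D) W (invSec f hf hDW) := by
  intro V hV m
  -- the meromorphic function `m * f`
  obtain ⟨mk', hmk⟩ : ∃ mk' : Γ(kmod X, V), ∀ z, mk'.1 z = m.1 z :=
    ⟨(divModι D).app V m, fun z => rfl⟩
  obtain ⟨tk, htk⟩ : ∃ tk : Γ(kmod X, V), tk = mk' *
    toK X V (X.presheaf.map (homOfLE hV).op f) := ⟨_, rfl⟩
  have hval : ∀ z : V, tk.1 z = m.1 z *
      algebraMap _ (KStalk X z.1) (X.presheaf.germ W z.1 (hV z.2) f) := by
    intro z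
    rw [htk, ← hmk z]
    change mk'.1 z * (toK X V (X.presheaf.map (homOfLE hV).op f)).1 z = _
    rw [toK_val, TopCat.Presheaf.germ_res_apply]
  have hreg : ∀ z : V, tk.1 z ∈ (algebraMap (X.presheaf.stalk z.1) (KStalk X z.1)).range := by
    intro z
    rw [hval z]
    exact (divCond_iff f hf hDW ⟨z.1, hV z.2⟩ _).mp (m.2.2 z)
  obtain ⟨r, hr⟩ := exists_eq_toK tk hreg
  have hrval : ∀ z : V, algebraMap _ (KStalk X z.1) (X.presheaf.germ V z.1 z.2 r) =
      m.1 z * algebraMap _ (KStalk X z.1) (X.presheaf.germ W z.1 (hV z.2) f) := by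
    intro z
    rw [← hval z, ← hr, toK_val]
  refine ⟨r, ?_, ?_⟩
  · apply Subtype.ext
    funext z
    rw [smul_val, res_val, hrval z, mul_assoc, mul_comm (algebraMap _ _ _),
      invSec_mul f hf hDW ⟨z.1, hV z.2⟩, mul_one]
  · intro r' hr'
    apply toK_injective
    apply kmod_ext
    intro z
    rw [toK_val, toK_val, hrval z]
    have h1 := congrArg (fun t : Γ(divMod D, V) => t.1 z) hr'
    simp only at h1
    rw [smul_val, res_val] at h1
    rw [h1, mul_assoc, invSec_mul f hf hDW ⟨z.1, hV z.2⟩, mul_one]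

end Inv

/-- local bases are carried along isomorphisms -/
theorem IsLocalBasis.map_iso {M L : X.Modules} (φ : M ≅ L) {W : X.Opens} {ε : Γ(M, W)}
    (h : IsLocalBasis M W ε) : IsLocalBasis L W (φ.hom.app W ε) := by
  intro V hV m
  have hinv : ∀ (V' : X.Opens) (m' : Γ(L, V')), φ.hom.app V' (φ.inv.app V' m') = m' := by
    intro V' m'
    have h3 : φ.inv.app V' ≫ φ.hom.app V' = 𝟙 _ := by
      rw [← Scheme.Modules.Hom.comp_app, Iso.inv_hom_id]; rfl
    exact congrArg (fun k => k.hom m') h3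
  have hinv' : ∀ (V' : X.Opens) (m' : Γ(M, V')), φ.inv.app V' (φ.hom.app V' m') = m' := by
    intro V' m'
    have h3 : φ.hom.app V' ≫ φ.inv.app V' = 𝟙 _ := by
      rw [← Scheme.Modules.Hom.comp_app, Iso.hom_inv_id]; rfl
    exact congrArg (fun k => k.hom m') h3
  obtain ⟨r, hr, hu⟩ := h V hV (φ.inv.app V m)
  refine ⟨r, ?_, ?_⟩
  · have h1 := congrArg (φ.hom.app V) hr
    rw [hinv, Scheme.Modules.Hom.app_smul, Groth.Agent.Lead.MeroL.app_res] at h1
    exact h1
  · intro r' hr'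
    apply hu
    have h1 := congrArg (φ.inv.app V) hr'
    rw [Scheme.Modules.Hom.app_smul, ← Groth.Agent.Lead.MeroL.app_res, hinv'] at h1
    exact h1

section Main

variable {L : X.Modules} {D : Divisor X}

/-- the section `1` of `O_X(D)` for `D` effective -/
noncomputable def oneSec (hD : IsEffective D) : Γ(divMod D, ⊤) :=
  ⟨1, kLoc_one X ⊤, fun y g hg => by
    obtain ⟨a, ha⟩ := hD y.1
    obtain ⟨φ, hφ_def⟩ : ∃ φ : (KStalk X y.1)ˣ,
      φ = (IsLocalization.map_units (KStalk X y.1) a).unit := ⟨_, rfl⟩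
    have hφv : (φ : KStalk X y.1) = algebraMap _ (KStalk X y.1) (a : X.presheaf.stalk y.1) := by
      rw [hφ_def, IsUnit.unit_spec]
    rw [ha, ← hφ_def] at hg
    obtain ⟨u, hu⟩ := QuotientGroup.eq.mp hg
    have h1 := congrArg (fun z : (KStalk X y.1)ˣ => (z : KStalk X y.1)) hu
    simp only [Units.val_mul] at h1
    have h2 : algebraMap _ (KStalk X y.1) (u : X.presheaf.stalk y.1) =
        ((φ⁻¹ : (KStalk X y.1)ˣ) : KStalk X y.1) * (g : KStalk X y.1) := h1
    have h3 : (g : KStalk X y.1) = algebraMap _ (KStalk X y.1) (a : X.presheaf.stalk y.1) *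
        algebraMap _ (KStalk X y.1) (u : X.presheaf.stalk y.1) := by
      rw [h2, ← mul_assoc, ← hφv, ← Units.val_mul, mul_inv_cancel, Units.val_one, one_mul]
    change (1 : KStalk X y.1) * (g : KStalk X y.1) ∈ _
    rw [one_mul, h3, ← map_mul]
    exact ⟨_, rfl⟩⟩

theorem oneSec_val (hD : IsEffective D) (y : (⊤ : X.Opens)) : (oneSec hD).1 y = 1 := rfl

theorem s19458 [IsIntegral X] (hL : PicF.IsInvertible L) (hD : IsEffective D)
    (e : L ≅ divMod D) :
    ∃ s : Coh.structureModule X ⟶ L, s ≠ 0 ∧ IsDivOfIdeal D (PicF2.zeroScheme L s) := by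
  obtain ⟨t, ht_def⟩ : ∃ t : Γ(L, ⊤), t = e.inv.app ⊤ (oneSec hD) := ⟨_, rfl⟩
  have hsec_top : sec L (homOfTop L t) ⊤ = t := by
    rw [sec_top_eq, homOfTop_app_one]
  have hinv : ∀ (V' : X.Opens) (m' : Γ(divMod D, V')), e.hom.app V' (e.inv.app V' m') = m' := by
    intro V' m'
    have h3 : e.inv.app V' ≫ e.hom.app V' = 𝟙 _ := by
      rw [← Scheme.Modules.Hom.comp_app, Iso.inv_hom_id]; rfl
    exact congrArg (fun k => k.hom m') h3
  have hs : homOfTop L t ≠ 0 := by
    intro h0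
    have h1 : sec L (homOfTop L t) ⊤ = 0 := by
      rw [h0, sec_top_eq]; rfl
    rw [hsec_top, ht_def] at h1
    have h2 := congrArg (e.hom.app ⊤) h1
    rw [hinv, map_zero] at h2
    obtain ⟨x⟩ : Nonempty X := inferInstance
    have h3 := congrArg (fun τ : Γ(divMod D, ⊤) => τ.1 ⟨x, Opens.mem_top x⟩) h2
    exact one_ne_zero (α := KStalk X x) h3
  refine ⟨homOfTop L t, hs, ?_⟩
  have hreg := isRegSec_of_isIntegral hL hs
  intro x
  obtain ⟨W, hWaff, hxW, f, hf, hDW⟩ := exists_local_eq hD x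
  obtain ⟨ε, hε_def⟩ : ∃ ε : Γ(L, W), ε = e.symm.hom.app W (invSec f hf hDW) := ⟨_, rfl⟩
  have hε : IsLocalBasis L W ε := by
    rw [hε_def]
    exact IsLocalBasis.map_iso e.symm (isLocalBasis_invSec f hf hDW)
  have hsecW : sec L (homOfTop L t) W = f • ε := by
    rw [← sec_res L (homOfTop L t) (homOfLE (le_top : W ≤ ⊤)), hsec_top, ht_def, hε_def]
    change L.presheaf.map (homOfLE (le_top : W ≤ ⊤)).op (e.inv.app ⊤ (oneSec hD)) =
      f • e.inv.app W (invSec f hf hDW)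
    rw [← Groth.Agent.Lead.MeroL.app_res, ← Scheme.Modules.Hom.app_smul]
    congr 1
    apply Subtype.ext
    funext z
    rw [res_val, smul_val, mul_comm, invSec_mul f hf hDW z]
    rfl
  exact ⟨⟨W, hWaff⟩, hxW, f, hf, ideal_zeroScheme_eq hL hreg ⟨W, hWaff⟩ ε hε f hsecW, hDW⟩

end Main

end Groth.Agent.Lead.MeroV
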