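import Mathlib
import Groth.Prelude.Def_MeroDiv
import Groth.Prelude.Def_Pic
import Groth.Prelude.Def_PicF2
import Groth.Prelude.Def_SecTwist
import Groth.Agent.Helper4.TensorAssoc
import Groth.Agent.Lead.MeroV

/-!
# Tensor products of invertible modules: local bases, zero schemes of products of sections
-/

set_option autoImplicit false
set_option linter.style.haveILetI false
set_option linter.unusedSectionVars false

universe u

open CategoryTheory CategoryTheory.Limits AlgebraicGeometry TopologicalSpace Opposite IsLocalRing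
  TensorProduct

namespace Groth.Agent.Lead.MeroW

open Mero Groth.Agent.Lead.MeroB Groth.Agent.Lead.MeroD Groth.Agent.Lead.MeroE
  Groth.Agent.Lead.MeroM Groth.Agent.Lead.MeroN Groth.Agent.Lead.MeroS Groth.Agent.Lead.MeroT
  Groth.Agent.Lead.MeroU Groth.Agent.Lead.MeroV Groth.Agent.Lead.LocLift
  Groth.Agent.Helper4.TensorLift Groth.Agent.Helper4.TensorAssoc Groth.Agent.Helper4.TensorInv

theorem bijective_toSpanSingleton {R P : Type*} [CommRing R] [AddCommGroup P] [Module R P] (e : P)
    (h : ∀ p : P, ∃! r : R, p = r • e) : Function.Bijective (LinearMap.toSpanSingleton R P e) := by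
  constructor
  · intro a b hab
    obtain ⟨r, -, hu⟩ := h (a • e)
    exact (hu a rfl).trans (hu b hab).symm
  · intro p
    obtain ⟨r, hr, -⟩ := h p
    exact ⟨r, hr.symm⟩

/-- the tensor product of two free modules of rank one is free on the tensor of the bases -/
theorem tensor_basis {R M N : Type*} [CommRing R] [AddCommGroup M] [Module R M] [AddCommGroup N]
    [Module R N] (e₁ : M) (e₂ : N) (h₁ : ∀ m : M, ∃! r : R, m = r • e₁)
    (h₂ : ∀ n : N, ∃! r : R, n = r • e₂) (x : M ⊗[R] N) :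
    ∃! r : R, x = r • (e₁ ⊗ₜ[R] e₂) := by
  let f₁ : R ≃ₗ[R] M := LinearEquiv.ofBijective (LinearMap.toSpanSingleton R M e₁) (bijective_toSpanSingleton e₁ h₁)
  let f₂ : R ≃ₗ[R] N := LinearEquiv.ofBijective (LinearMap.toSpanSingleton R N e₂) (bijective_toSpanSingleton e₂ h₂)
  have hf₁ : f₁.symm e₁ = 1 := by
    rw [LinearEquiv.symm_apply_eq]
    change e₁ = (1 : R) • e₁
    rw [one_smul]
  have hf₂ : f₂.symm e₂ = 1 := by
    rw [LinearEquiv.symm_apply_eq]
    change e₂ = (1 : R) • e₂
    rw [one_smul]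
  let ψ : M ⊗[R] N ≃ₗ[R] R := (TensorProduct.congr f₁.symm f₂.symm).trans (TensorProduct.lid R R)
  have hψ : ψ (e₁ ⊗ₜ[R] e₂) = 1 := by
    change TensorProduct.lid R R (TensorProduct.congr f₁.symm f₂.symm (e₁ ⊗ₜ[R] e₂)) = 1
    rw [TensorProduct.congr_tmul, hf₁, hf₂, TensorProduct.lid_tmul, smul_eq_mul, mul_one]
  refine ⟨ψ x, ?_, ?_⟩
  · apply ψ.injective
    rw [map_smul, hψ, smul_eq_mul, mul_one]
  · intro r hr
    rw [hr, map_smul, hψ, smul_eq_mul, mul_one]

variable {X : Scheme.{u}}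

theorem isLocalBasis_tmul (A B : X.Modules) (U : X.Opens)
    (ε : B.restrict U.ι ≅ Coh.structureModule (U : Scheme.{u}))
    (e₁ : Γ(A, U)) (e₂ : Γ(B, U)) (h₁ : IsLocalBasis A U e₁) (h₂ : IsLocalBasis B U e₂) :
    IsLocalBasis (CohB1.tensorMod A B) U (SecTwist.tmul A B U e₁ e₂) := by
  intro V hV m
  obtain ⟨x, rfl⟩ := (tt_bijective_of_le A B U ε hV).2 m
  have hres : (CohB1.tensorMod A B).presheaf.map (homOfLE hV).op (SecTwist.tmul A B U e₁ e₂) =
      SecTwist.tmul A B V (A.presheaf.map (homOfLE hV).op e₁)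
        (B.presheaf.map (homOfLE hV).op e₂) :=
    SecTwist.map_tmul A B (homOfLE hV) e₁ e₂
  rw [hres]
  have key : ∃! r : Γ(X, V), x = (r : RR X V) • pure A B V (A.presheaf.map (homOfLE hV).op e₁)
      (B.presheaf.map (homOfLE hV).op e₂) :=
    tensor_basis (R := RR X V) (M := SS A V) (N := SS B V)
      (A.presheaf.map (homOfLE hV).op e₁) (B.presheaf.map (homOfLE hV).op e₂) (h₁ V hV) (h₂ V hV) x
  obtain ⟨r, hr, hu⟩ := key
  refine ⟨r, ?_, ?_⟩
  · show tt A B V x = r • SecTwist.tmul A B V (A.presheaf.map (homOfLE hV).op e₁)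
      (B.presheaf.map (homOfLE hV).op e₂)
    rw [tmul_eq']
    exact (congrArg (tt A B V) hr).trans (tt_smul A B V r _)
  · intro r' hr'
    apply hu
    apply (tt_bijective_of_le A B U ε hV).1
    have hr'' : tt A B V x = r' • SecTwist.tmul A B V (A.presheaf.map (homOfLE hV).op e₁)
      (B.presheaf.map (homOfLE hV).op e₂) := hr'
    rw [tmul_eq'] at hr''
    exact hr''.trans (tt_smul A B V r' _).symm

/-- the coefficient of a nonzero section with respect to a local basis is regular -/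
theorem exists_coeff [IsIntegral X] {L : X.Modules} {s : Coh.structureModule X ⟶ L}
    (hL : PicF.IsInvertible L) (hs : s ≠ 0) (U : X.Opens) (e : Γ(L, U)) (he : IsLocalBasis L U e) :
    ∃ (f : Γ(X, U)) (_ : f ∈ regSub X U), sec L s U = f • e := by
  obtain ⟨f, hf, -⟩ := he U le_rfl (sec L s U)
  have e0 : L.presheaf.map (homOfLE (le_refl U)).op e = e := by
    change L.presheaf.map (𝟙 _) e = e
    rw [L.presheaf.map_id]; rfl
  rw [e0] at hf
  refine ⟨f, ?_, hf⟩
  intro z
  rw [mem_nonZeroDivisors_iff_ne_zero]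
  intro h0
  apply sgerm_ne_zero hL hs z.1
  rw [← germ_sec L s U z.1 z.2, hf, Mero.germ_smul, h0, zero_smul]

end Groth.Agent.Lead.MeroW
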