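import Mathlib
import Groth.Prelude.Def_MeroDiv
import Groth.Prelude.Def_Pic
import Groth.Prelude.Def_PicF2
import Groth.Prelude.Def_SecTwist
import Groth.Agent.Lead.MeroW
import Groth.Agent.Lead.MeroF

/-!
# `O_X(D) ⊗ O_X(E) ≅ O_X(D · E)`
-/

set_option autoImplicit false
set_option linter.style.haveILetI false
set_option linter.unusedSectionVars false

universe u

open CategoryTheory CategoryTheory.Limits AlgebraicGeometry TopologicalSpace Opposite IsLocalRing
  TensorProduct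

namespace Groth.Agent.Lead.MeroY

open Mero Groth.Agent.Lead.MeroB Groth.Agent.Lead.MeroD Groth.Agent.Lead.MeroE
  Groth.Agent.Lead.MeroM Groth.Agent.Lead.MeroN Groth.Agent.Lead.MeroS Groth.Agent.Lead.MeroT
  Groth.Agent.Lead.MeroU Groth.Agent.Lead.MeroV Groth.Agent.Lead.MeroW Groth.Agent.Lead.LocLift
  Groth.Agent.Helper4.TensorLift Groth.Agent.Helper4.TensorAssoc Groth.Agent.Helper4.TensorInv

variable {X : Scheme.{u}}

/-! ### General facts on local bases -/

theorem app_bijective_of_basis {M N : X.Modules} (φ : M ⟶ N) {U : X.Opens} {e : Γ(M, U)}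
    (he : IsLocalBasis M U e) (he' : IsLocalBasis N U (φ.app U e)) {V : X.Opens} (hV : V ≤ U) :
    Function.Bijective (φ.app V) := by
  have hres : φ.app V (M.presheaf.map (homOfLE hV).op e) =
      N.presheaf.map (homOfLE hV).op (φ.app U e) :=
    Groth.Agent.Lead.MeroL.app_res φ (homOfLE hV) e
  have key : ∀ (m : Γ(M, V)) (r : Γ(X, V)), m = r • M.presheaf.map (homOfLE hV).op e →
      φ.app V m = r • N.presheaf.map (homOfLE hV).op (φ.app U e) := by
    intro m r hr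
    rw [hr, Scheme.Modules.Hom.app_smul, hres]
  constructor
  · intro m m' h
    obtain ⟨r, hr, -⟩ := he V hV m
    obtain ⟨r', hr', -⟩ := he V hV m'
    obtain ⟨r₀, -, hu⟩ := he' V hV (φ.app V m)
    have h1 : r = r₀ := hu r (key m r hr)
    have h2 : r' = r₀ := hu r' (by rw [h]; exact key m' r' hr')
    rw [hr, hr', h1, h2]
  · intro n
    obtain ⟨r, hr, -⟩ := he' V hV n
    exact ⟨r • M.presheaf.map (homOfLE hV).op e, (key _ r rfl).trans hr.symm⟩

theorem isIso_of_locally_bijective {M N : X.Modules} (φ : M ⟶ N)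
    (h : ∀ x : X, ∃ (U : X.Opens) (_ : x ∈ U), ∀ V : X.Opens, V ≤ U →
      Function.Bijective (φ.app V)) : IsIso φ := by
  apply Groth.Agent.Lead.HomShL.isIso_of_app_bijective
  intro W
  have hinj : ∀ W : X.Opens, Function.Injective (φ.app W) := by
    intro W m m' hmm
    apply section_ext_germ
    intro z hz
    obtain ⟨U, hzU, hU⟩ := h z
    have hzV : z ∈ W ⊓ U := ⟨hz, hzU⟩
    have h1 : φ.app (W ⊓ U) (M.presheaf.map (homOfLE (inf_le_left : W ⊓ U ≤ W)).op m) =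
        φ.app (W ⊓ U) (M.presheaf.map (homOfLE (inf_le_left : W ⊓ U ≤ W)).op m') := by
      rw [Groth.Agent.Lead.MeroL.app_res, Groth.Agent.Lead.MeroL.app_res, hmm]
    have h2 := (hU (W ⊓ U) inf_le_right).1 h1
    rw [← TopCat.Presheaf.germ_res_apply M.presheaf (homOfLE (inf_le_left : W ⊓ U ≤ W)) z hzV m,
      h2, TopCat.Presheaf.germ_res_apply]
  refine ⟨hinj W, ?_⟩
  intro n
  have hloc : ∀ z : W, ∃ (V : X.Opens) (_ : z.1 ∈ V) (hVW : V ≤ W) (m : Γ(M, V)),
      φ.app V m = N.presheaf.map (homOfLE hVW).op n := by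
    intro z
    obtain ⟨U, hzU, hU⟩ := h z.1
    obtain ⟨m, hm⟩ := (hU (W ⊓ U) inf_le_right).2
      (N.presheaf.map (homOfLE (inf_le_left : W ⊓ U ≤ W)).op n)
    exact ⟨W ⊓ U, ⟨z.2, hzU⟩, inf_le_left, m, hm⟩
  choose V hzV hVW sf hsf using hloc
  have hcompat : TopCat.Presheaf.IsCompatible M.presheaf V sf := by
    intro i j
    apply hinj
    rw [Groth.Agent.Lead.MeroL.app_res, Groth.Agent.Lead.MeroL.app_res, hsf i, hsf j,
      ← ConcreteCategory.comp_apply, ← Functor.map_comp,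
      ← ConcreteCategory.comp_apply, ← Functor.map_comp]
    rfl
  have hcover : W ≤ iSup V := by
    intro y hy
    exact Opens.mem_iSup.mpr ⟨⟨y, hy⟩, hzV ⟨y, hy⟩⟩
  obtain ⟨m, hm, -⟩ := TopCat.Sheaf.existsUnique_gluing'
    (⟨M.presheaf, M.isSheaf⟩ : TopCat.Sheaf Ab X) V W
    (fun i => homOfLE (hVW i)) hcover sf hcompat
  refine ⟨m, ?_⟩
  apply section_ext_germ
  intro z hz
  have h1 : M.presheaf.map (homOfLE (hVW ⟨z, hz⟩)).op m = sf ⟨z, hz⟩ := hm ⟨z, hz⟩
  rw [← TopCat.Presheaf.germ_res_apply N.presheaf (homOfLE (hVW ⟨z, hz⟩)) z (hzV ⟨z, hz⟩),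
    ← Groth.Agent.Lead.MeroL.app_res, h1, hsf,
    TopCat.Presheaf.germ_res_apply]

/-! ### Restriction of units of `K_X` -/

/-- restriction of a unit of `K_X` -/
noncomputable def resUnit {U V : X.Opens} (h : V ≤ U) (F : (Γ(kmod X, U))ˣ) : (Γ(kmod X, V))ˣ :=
  Units.map ((kring X).obj.map (homOfLE h).op).hom.toMonoidHom F

theorem resUnit_val {U V : X.Opens} (h : V ≤ U) (F : (Γ(kmod X, U))ˣ) (y : V) :
    ((resUnit h F : (Γ(kmod X, V))ˣ) : Γ(kmod X, V)).1 y =
      (F : Γ(kmod X, U)).1 ⟨y.1, h y.2⟩ := rfl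

theorem germOf_resUnit {U V : X.Opens} (h : V ≤ U) (F : (Γ(kmod X, U))ˣ) (y : V) :
    germOf (resUnit h F) y = germOf F ⟨y.1, h y.2⟩ := congrArg _ (Units.ext rfl)

/-! ### The local basis `F⁻¹` of `O_X(D)` where `D` is the class of `F` -/

section Unit

variable {D : Divisor X} {W : X.Opens} (F : (Γ(kmod X, W))ˣ)
  (hDW : ∀ y : W, D.1 y.1 = germOf F y)

theorem unit_inv_mul (y : W) : ((F⁻¹ : (Γ(kmod X, W))ˣ) : Γ(kmod X, W)).1 y *
    (F : Γ(kmod X, W)).1 y = 1 := by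
  have := congrArg (fun t : Γ(kmod X, W) => t.1 y) (Units.inv_mul F)
  exact this

include hDW in
theorem divCond_iff_unit (y : W) (t : KStalk X y.1) : DivCond D y.1 t ↔
    t * (F : Γ(kmod X, W)).1 y ∈ (algebraMap (X.presheaf.stalk y.1) (KStalk X y.1)).range := by
  constructor
  · intro h
    exact h (Units.map (evalK X W y).toMonoidHom F) (hDW y)
  · intro h g hg
    obtain ⟨φ, hφ_def⟩ : ∃ φ : (KStalk X y.1)ˣ, φ = Units.map (evalK X W y).toMonoidHom F :=
      ⟨_, rfl⟩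
    have hφv : (φ : KStalk X y.1) = (F : Γ(kmod X, W)).1 y := by rw [hφ_def]; rfl
    have hD' : D.1 y.1 = QuotientGroup.mk φ := by rw [hφ_def]; exact hDW y
    rw [hD'] at hg
    obtain ⟨u, hu⟩ := QuotientGroup.eq.mp hg
    have h1 := congrArg (fun z : (KStalk X y.1)ˣ => (z : KStalk X y.1)) hu
    simp only [Units.val_mul] at h1
    have h2 : algebraMap _ (KStalk X y.1) (u : X.presheaf.stalk y.1) =
        ((φ⁻¹ : (KStalk X y.1)ˣ) : KStalk X y.1) * (g : KStalk X y.1) := h1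
    have h3 : (g : KStalk X y.1) = (F : Γ(kmod X, W)).1 y *
        algebraMap _ (KStalk X y.1) (u : X.presheaf.stalk y.1) := by
      rw [h2, ← mul_assoc, ← hφv, ← Units.val_mul, mul_inv_cancel, Units.val_one, one_mul]
    rw [h3, ← mul_assoc]
    exact mul_mem h ⟨_, rfl⟩

/-- the section `F⁻¹` of `O_X(D)` where `D` is the class of `F` -/
noncomputable def invSecU : Γ(divMod D, W) :=
  ⟨((F⁻¹ : (Γ(kmod X, W))ˣ) : Γ(kmod X, W)).1, ((F⁻¹ : (Γ(kmod X, W))ˣ) : Γ(kmod X, W)).2,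
    fun y => Groth.Agent.Helper2.MeroDiv1.divCond_inv D F y (hDW y)⟩

theorem invSecU_val (y : W) : (invSecU F hDW).1 y =
    ((F⁻¹ : (Γ(kmod X, W))ˣ) : Γ(kmod X, W)).1 y := rfl

theorem isLocalBasis_invSecU : IsLocalBasis (divMod D) W (invSecU F hDW) := by
  intro V hV m
  obtain ⟨mk', hmk⟩ : ∃ mk' : Γ(kmod X, V), ∀ z, mk'.1 z = m.1 z :=
    ⟨(divModι D).app V m, fun z => rfl⟩
  obtain ⟨tk, htk⟩ : ∃ tk : Γ(kmod X, V), tk = mk' *
    ((resUnit hV F : (Γ(kmod X, V))ˣ) : Γ(kmod X, V)) := ⟨_, rfl⟩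
  have hval : ∀ z : V, tk.1 z = m.1 z * (F : Γ(kmod X, W)).1 ⟨z.1, hV z.2⟩ := by
    intro z
    rw [htk, ← hmk z]
    rfl
  have hreg : ∀ z : V, tk.1 z ∈ (algebraMap (X.presheaf.stalk z.1) (KStalk X z.1)).range := by
    intro z
    rw [hval z]
    exact (divCond_iff_unit F hDW ⟨z.1, hV z.2⟩ _).mp (m.2.2 z)
  obtain ⟨r, hr⟩ := exists_eq_toK tk hreg
  have hrval : ∀ z : V, algebraMap _ (KStalk X z.1) (X.presheaf.germ V z.1 z.2 r) =
      m.1 z * (F : Γ(kmod X, W)).1 ⟨z.1, hV z.2⟩ := by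
    intro z
    rw [← hval z, ← hr, toK_val]
  refine ⟨r, ?_, ?_⟩
  · apply Subtype.ext
    funext z
    rw [smul_val, res_val, hrval z, invSecU_val, mul_assoc, mul_comm ((F : Γ(kmod X, W)).1 _),
      unit_inv_mul F ⟨z.1, hV z.2⟩, mul_one]
  · intro r' hr'
    apply toK_injective
    apply kmod_ext
    intro z
    rw [toK_val, toK_val, hrval z]
    have h1 := congrArg (fun t : Γ(divMod D, V) => t.1 z) hr'
    simp only at h1
    rw [smul_val, res_val, invSecU_val] at h1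
    rw [h1, mul_assoc, unit_inv_mul F ⟨z.1, hV z.2⟩, mul_one]

end Unit

/-! ### The multiplication map -/

theorem divCond_mul (D E : Divisor X) (x : X) {t t' : KStalk X x} (h : DivCond D x t)
    (h' : DivCond E x t') : DivCond (D * E) x (t * t') := by
  intro g hg
  obtain ⟨g₁, hg₁⟩ := QuotientGroup.mk_surjective (D.1 x)
  obtain ⟨g₂, hg₂⟩ := QuotientGroup.mk_surjective (E.1 x)
  have h0 : (D * E).1 x = D.1 x * E.1 x := rfl
  rw [h0, ← hg₁, ← hg₂, ← QuotientGroup.mk_mul] at hg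
  obtain ⟨u, hu⟩ := QuotientGroup.eq.mp hg
  have h1 := congrArg (fun z : (KStalk X x)ˣ => (z : KStalk X x)) hu
  simp only [Units.val_mul] at h1
  have h2 : algebraMap _ (KStalk X x) (u : X.presheaf.stalk x) =
      (((g₁ * g₂)⁻¹ : (KStalk X x)ˣ) : KStalk X x) * (g : KStalk X x) := h1
  have h3 : (g : KStalk X x) = (g₁ : KStalk X x) * (g₂ : KStalk X x) *
      algebraMap _ (KStalk X x) (u : X.presheaf.stalk x) := by
    rw [h2, ← mul_assoc, ← Units.val_mul, ← Units.val_mul, mul_inv_cancel, Units.val_one, one_mul]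
  have h4 : t * t' * (g : KStalk X x) = (t * (g₁ : KStalk X x)) * (t' * (g₂ : KStalk X x)) *
      algebraMap _ (KStalk X x) (u : X.presheaf.stalk x) := by
    rw [h3]; ring
  rw [h4]
  exact mul_mem (mul_mem (h g₁ hg₁.symm) (h' g₂ hg₂.symm)) ⟨_, rfl⟩

/-- multiplication `O_X(D) × O_X(E) → O_X(D · E)` -/
noncomputable def mulBil (D E : Divisor X) : Bil (divMod D) (divMod E) (divMod (D * E)) where
  f V t t' := ⟨fun z => t.1 z * t'.1 z, kLoc_mul X V t.1 t'.1 t.2.1 t'.2.1,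
    fun z => divCond_mul D E z.1 (t.2.2 z) (t'.2.2 z)⟩
  add_left V m m' n := Subtype.ext (funext fun z => add_mul _ _ _)
  add_right V m n n' := Subtype.ext (funext fun z => mul_add _ _ _)
  smul_left V r m n := Subtype.ext (funext fun z => by
    change (X.presheaf.germ V z.1 z.2 r • m.1 z) * n.1 z =
      X.presheaf.germ V z.1 z.2 r • (m.1 z * n.1 z)
    rw [smul_mul_assoc])
  smul_right V r m n := Subtype.ext (funext fun z => by
    change m.1 z * (X.presheaf.germ V z.1 z.2 r • n.1 z) =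
      X.presheaf.germ V z.1 z.2 r • (m.1 z * n.1 z)
    rw [mul_smul_comm])
  map i m n := rfl

theorem mulBil_val (D E : Divisor X) (V : X.Opens) (t : Γ(divMod D, V)) (t' : Γ(divMod E, V))
    (z : V) : ((mulBil D E).f V t t').1 z = t.1 z * t'.1 z := rfl

theorem s19455 (D E : Mero.Divisor X) :
    ∃ μ : CohB1.tensorMod (Mero.divMod D) (Mero.divMod E) ⟶ Mero.divMod (D * E),
      (∀ (U : X.Opens) (t : Γ(Mero.divMod D, U)) (t' : Γ(Mero.divMod E, U)),
        (Mero.divModι (D * E)).app U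
            (μ.app U (SecTwist.tmul (Mero.divMod D) (Mero.divMod E) U t t')) =
          (Mero.divModι D).app U t * (Mero.divModι E).app U t') ∧
      IsIso μ := by
  refine ⟨(mulBil D E).lift, fun U t t' => ?_, ?_⟩
  · rw [Bil.lift_tmul]
    rfl
  · apply isIso_of_locally_bijective
    intro x
    obtain ⟨U₁, hx₁, F₁, hF₁⟩ := D.2 x
    obtain ⟨U₂, hx₂, G₁, hG₁⟩ := E.2 x
    obtain ⟨T, hxT, hT⟩ := Groth.Agent.Lead.MeroF.s5096 X E x
    obtain ⟨U, hU_def⟩ : ∃ U : X.Opens, U = U₁ ⊓ U₂ ⊓ T := ⟨_, rfl⟩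
    have hxU : x ∈ U := by rw [hU_def]; exact ⟨⟨hx₁, hx₂⟩, hxT⟩
    have hUU₁ : U ≤ U₁ := by rw [hU_def]; exact inf_le_left.trans inf_le_left
    have hUU₂ : U ≤ U₂ := by rw [hU_def]; exact inf_le_left.trans inf_le_right
    have hUT : U ≤ T := by rw [hU_def]; exact inf_le_right
    obtain ⟨ε⟩ : IsTrivAlong (divMod E) U.ι := IsTrivAlong.of_le hUT hT
    obtain ⟨F, hF_def⟩ : ∃ F, F = resUnit hUU₁ F₁ := ⟨_, rfl⟩
    obtain ⟨G, hG_def⟩ : ∃ G, G = resUnit hUU₂ G₁ := ⟨_, rfl⟩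
    have hF : ∀ y : U, D.1 y.1 = germOf F y := by
      intro y
      rw [hF_def, germOf_resUnit]
      exact hF₁ ⟨y.1, hUU₁ y.2⟩
    have hG : ∀ y : U, E.1 y.1 = germOf G y := by
      intro y
      rw [hG_def, germOf_resUnit]
      exact hG₁ ⟨y.1, hUU₂ y.2⟩
    have hFG : ∀ y : U, (D * E).1 y.1 = germOf (F * G) y := by
      intro y
      change D.1 y.1 * E.1 y.1 = _
      rw [hF y, hG y, germOf, germOf, germOf, map_mul, QuotientGroup.mk_mul]
    have he₁ := isLocalBasis_invSecU F hF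
    have he₂ := isLocalBasis_invSecU G hG
    have he₁₂ := isLocalBasis_invSecU (F * G) hFG
    have he := isLocalBasis_tmul (divMod D) (divMod E) U ε _ _ he₁ he₂
    have hμ : (mulBil D E).lift.app U
        (SecTwist.tmul (divMod D) (divMod E) U (invSecU F hF) (invSecU G hG)) =
        invSecU (F * G) hFG := by
      rw [Bil.lift_tmul]
      apply Subtype.ext
      funext z
      rw [mulBil_val, invSecU_val, invSecU_val, invSecU_val, mul_inv]
      rfl
    refine ⟨U, hxU, fun V hV => app_bijective_of_basis _ he ?_ hV⟩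
    rw [hμ]
    exact he₁₂

end Groth.Agent.Lead.MeroY
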