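import Groth.Agent.Lead.FittSheafD
import Groth.Agent.Lead.FittSheafE
import Mathlib

/-!
# Lead: the flattening stratum of a finite type quasi-coherent module via Fitting ideals
-/

set_option autoImplicit false
open CategoryTheory CategoryTheory.Limits AlgebraicGeometry Opposite TopologicalSpace
universe u

namespace Groth.Agent.Lead.FittStrat
open Groth.Agent.Helper4 Groth.Agent.Lead

variable {X : Scheme.{u}} (F : X.Modules)

theorem sheafIdeal_mono {k k' : ℕ} (h : k ≤ k') :
    Fitt.sheafIdeal F k ≤ Fitt.sheafIdeal F k' := by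
  apply Scheme.IdealSheafData.ofIdeals_mono
  intro U
  apply Ideal.span_mono
  rintro d ⟨n, x, a, hx, ha, rfl⟩
  exact ⟨n, x, a, hx, fun i hi => ha i (by omega), rfl⟩

/-- a morphism factors through the closed subscheme of `I` iff the pulled back ideal is zero -/
theorem exists_lift_iff {T : Scheme.{u}} (I : X.IdealSheafData) (f : T ⟶ X) :
    (∃ g : T ⟶ I.subscheme, g ≫ I.subschemeι = f) ↔ I.comap f = ⊥ := by
  rw [eq_bot_iff, ← Scheme.IdealSheafData.le_map_iff_comap_le, Scheme.IdealSheafData.map_bot]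
  constructor
  · rintro ⟨g, rfl⟩
    rw [← Scheme.IdealSheafData.map_ker]
    calc I = (⊥ : I.subscheme.IdealSheafData).map I.subschemeι := by
            rw [Scheme.IdealSheafData.map_bot, Scheme.IdealSheafData.ker_subschemeι]
      _ ≤ g.ker.map I.subschemeι := Scheme.IdealSheafData.map_mono _ bot_le
  · intro h
    exact ⟨f.toImage ≫ Scheme.IdealSheafData.inclusion h, by
      rw [Category.assoc, Scheme.IdealSheafData.inclusion_subschemeι]
      exact f.toImage_imageι⟩

theorem comap_iSup {T : Scheme.{u}} (f : T ⟶ X) {ι : Type*} (I : ι → X.IdealSheafData) :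
    (⨆ i, I i).comap f = ⨆ i, (I i).comap f :=
  (Scheme.IdealSheafData.map_gc f).l_iSup

/-- pulling back an ideal along a morphism landing in the complement of its support gives `⊤` -/
theorem comap_eq_top_iff {T : Scheme.{u}} (K : X.IdealSheafData) (f : T ⟶ X) :
    K.comap f = ⊤ ↔ ∀ t : T, f t ∉ (K.support : Set X) := by
  rw [← Scheme.IdealSheafData.support_eq_bot_iff, Scheme.IdealSheafData.support_comap]
  rw [← SetLike.coe_set_eq]
  simp only [Closeds.coe_preimage, Closeds.coe_bot, Set.eq_empty_iff_forall_notMem,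
    Set.mem_preimage]

theorem main [F.IsQuasicoherent]
    (hft : SheafOfModules.IsFiniteType (R := X.ringCatSheaf) F) (r : ℕ) :
    ∃ (Z : Scheme.{u}) (i : Z ⟶ X), IsImmersion i ∧ ∀ (T : Scheme.{u}) (f : T ⟶ X),
      (∃ g : T ⟶ Z, g ≫ i = f) ↔
        FlatMod.IsFinLocFreeOfRank r ((Scheme.Modules.pullback f).obj F) := by
  let K := Fitt.sheafIdeal F r
  let J : X.IdealSheafData := ⨆ k : Fin r, Fitt.sheafIdeal F k
  let U : X.Opens := K.support.compl
  let J' := J.comap U.ι
  have hU : ∀ x : X, x ∈ U ↔ x ∉ (K.support : Set X) := fun x => Iff.rfl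
  refine ⟨J'.subscheme, J'.subschemeι ≫ U.ι, inferInstance, fun T f => ?_⟩
  haveI hqc : ((Scheme.Modules.pullback f).obj F).IsQuasicoherent :=
    StalkPull.isQuasicoherent_pullbackObj f F
  have hft' := LimPres.isFT_pullback f F hft
  rw [FittSheafD.main _ hft' r]
  simp_rw [← FittSheafE.comap_sheafIdeal f F hft]
  have hJ : ∀ (h : T ⟶ X), J.comap h = ⊥ ↔ ∀ k, k < r → (Fitt.sheafIdeal F k).comap h = ⊥ := by
    intro h
    rw [comap_iSup, iSup_eq_bot]
    exact ⟨fun H k hk => H ⟨k, hk⟩, fun H k => H k k.2⟩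
  constructor
  · rintro ⟨g, rfl⟩
    refine ⟨?_, ?_⟩
    · rw [← hJ, ← Category.assoc, Scheme.IdealSheafData.comap_comp]
      exact (exists_lift_iff J' _).mp ⟨g, rfl⟩
    · intro k hk
      rw [eq_top_iff]
      refine le_trans ?_ (Scheme.IdealSheafData.comap_mono _ (sheafIdeal_mono F hk))
      rw [top_le_iff, comap_eq_top_iff]
      intro t
      rw [← hU]
      have : (g ≫ J'.subschemeι ≫ U.ι) t = U.ι ((g ≫ J'.subschemeι) t) := by
        rw [← Category.assoc]; rfl
      rw [this]
      exact ((g ≫ J'.subschemeι) t).2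
  · rintro ⟨h1, h2⟩
    have hr : ∀ t : T, f t ∈ U := by
      intro t
      rw [hU]
      exact (comap_eq_top_iff K f).mp (h2 r le_rfl) t
    have hrange : Set.range f ⊆ Set.range U.ι := by
      rintro _ ⟨t, rfl⟩
      rw [Scheme.Opens.range_ι]
      exact hr t
    let f' : T ⟶ U := IsOpenImmersion.lift U.ι f hrange
    have hf' : f' ≫ U.ι = f := IsOpenImmersion.lift_fac U.ι f hrange
    have h3 : J'.comap f' = ⊥ := by
      rw [← Scheme.IdealSheafData.comap_comp, hf', hJ]
      exact h1
    obtain ⟨g, hg⟩ := (exists_lift_iff J' f').mpr h3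
    exact ⟨g, by rw [← Category.assoc, hg, hf']⟩

end Groth.Agent.Lead.FittStrat
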