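import Mathlib
open CategoryTheory Limits AlgebraicGeometry

namespace Groth.Agent.Lead.IdealFG
universe u
variable {X Y : Scheme.{u}}

/-- kernel of a surjective finitely presented ring hom is fg -/
theorem ker_fg_of_fp {A B : Type u} [CommRing A] [CommRing B] (φ : A →+* B)
    (h1 : φ.FinitePresentation) (h2 : Function.Surjective φ) : (RingHom.ker φ).FG := by
  algebraize [φ]
  have : Algebra.FinitePresentation A B := h1
  exact Algebra.FinitePresentation.ker_fG_of_surjective (Algebra.ofId A B) h2

/-- for an affine morphism, lfp gives finite presentation of sections over affine opens -/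
theorem finitePresentation_app (f : X ⟶ Y) [IsAffineHom f] [LocallyOfFinitePresentation f]
    (U : Y.affineOpens) : (f.app U).hom.FinitePresentation := by
  rw [Scheme.Hom.app_eq_appLE]
  exact HasRingHomProperty.appLE @LocallyOfFinitePresentation f inferInstance U
    ⟨f ⁻¹ᵁ U, U.2.preimage f⟩ _

/-- the kernel of a closed immersion locally of finite presentation is of finite type -/
theorem ker_fg (f : X ⟶ Y) [IsClosedImmersion f] [LocallyOfFinitePresentation f]
    (U : Y.affineOpens) : (f.ker.ideal U).FG := by
  rw [Scheme.Hom.ker_apply]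
  exact ker_fg_of_fp _ (finitePresentation_app f U) (f.app_surjective U U.2)

/-- converse: an affine morphism with finitely presented sections is lfp -/
theorem lfp_of_app (f : X ⟶ Y) [IsAffineHom f]
    (H : ∀ U : Y.affineOpens, (f.app U).hom.FinitePresentation) :
    LocallyOfFinitePresentation f := by
  rw [IsZariskiLocalAtTarget.iff_of_iSup_eq_top (P := @LocallyOfFinitePresentation)
    (fun U : Y.affineOpens ↦ (U : Y.Opens)) (iSup_affineOpens_eq_top Y)]
  intro U
  have : IsAffine (U : Y.Opens) := U.2
  have : IsAffine (f ⁻¹ᵁ (U : Y.Opens)) := U.2.preimage f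
  rw [HasRingHomProperty.iff_of_isAffine (P := @LocallyOfFinitePresentation),
    morphismRestrict_appTop]
  have key : ∀ V : Y.Opens, V = U → (f.app V).hom.FinitePresentation := by
    rintro _ rfl; exact H U
  exact (RingHom.finitePresentation_respectsIso.cancel_right_isIso
    (f.app ((U : Y.Opens).ι ''ᵁ ⊤)) _).mpr (key _ (Scheme.Opens.ι_image_top _))

/-- the closed subscheme of an ideal sheaf of finite type is lfp -/
theorem lfp_subschemeι (J : X.IdealSheafData) (hJ : ∀ U : X.affineOpens, (J.ideal U).FG) :
    LocallyOfFinitePresentation J.subschemeι := by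
  apply lfp_of_app
  intro U
  refine RingHom.FinitePresentation.of_surjective _ (J.subschemeι_app_surjective U) ?_
  rw [J.ker_subschemeι_app U]
  exact hJ U

/-- the pullback ideal sheaf of the kernel of a closed immersion, computed by a pullback square -/
theorem comap_ker_of_isPullback {X' Y' : Scheme.{u}} {g : X' ⟶ X} {f' : X' ⟶ Y'} {f : X ⟶ Y}
    {π : Y' ⟶ Y} (sq : IsPullback g f' f π) [IsClosedImmersion f] :
    f.ker.comap π = f'.ker := by
  rw [← Scheme.IdealSheafData.ker_fst_of_isClosedImmersion,
    ← Scheme.Hom.ker_comp_of_isIso sq.flip.isoPullback.hom, IsPullback.isoPullback_hom_fst]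

end Groth.Agent.Lead.IdealFG
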