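import Mathlib

set_option autoImplicit false
set_option backward.isDefEq.respectTransparency false
set_option backward.isDefEq.respectTransparency.types false
open CategoryTheory CategoryTheory.Limits AlgebraicGeometry Opposite TopologicalSpace
universe u

namespace Groth.Agent.Lead.OmegaCnA

variable {X Y : Scheme.{u}}

/-- local structure of an immersion: small affine opens of the target whose preimage is affine
and on which the comorphism is surjective. -/
theorem exists_affine_immersion (j : X ⟶ Y) [IsImmersion j] (x : X) (T : X.Opens) (hx : x ∈ T)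
    (G : Y.Opens) (hG : j x ∈ G) :
    ∃ U : Y.Opens, IsAffineOpen U ∧ j x ∈ U ∧ U ≤ G ∧ IsAffineOpen (j ⁻¹ᵁ U) ∧ j ⁻¹ᵁ U ≤ T ∧
      Function.Surjective (j.app U) := by
  obtain ⟨T', hT', hTT'⟩ := j.isEmbedding.isInducing.isOpen_iff.mp T.2
  have hxc : j x ∈ j.coborderRange := subset_coborder ⟨x, rfl⟩
  have hxT' : j x ∈ (⟨T', hT'⟩ : Y.Opens) := by
    change x ∈ j ⁻¹' T'
    rw [hTT']; exact hx
  have hmem : j x ∈ G ⊓ ⟨T', hT'⟩ ⊓ j.coborderRange := ⟨⟨hG, hxT'⟩, hxc⟩
  obtain ⟨_, ⟨U, hU : IsAffineOpen U, rfl⟩, hxU, hUG⟩ :=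
    Y.isBasis_affineOpens.exists_subset_of_mem_open
      (show j x ∈ ((G ⊓ ⟨T', hT'⟩ ⊓ j.coborderRange : Y.Opens) : Set Y) from hmem)
      (G ⊓ ⟨T', hT'⟩ ⊓ j.coborderRange).isOpen
  have hUc : U ≤ j.coborderRange := fun y hy => (hUG hy).2
  have hU₁ : IsAffineOpen (j.coborderRange.ι ⁻¹ᵁ U) :=
    hU.preimage_of_isOpenImmersion _ (by rw [Scheme.Opens.opensRange_ι]; exact hUc)
  have himg : j.coborderRange.ι ''ᵁ (j.coborderRange.ι ⁻¹ᵁ U) = U := by
    rw [Scheme.Hom.image_preimage_eq_opensRange_inf, Scheme.Opens.opensRange_ι]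
    exact inf_eq_right.mpr hUc
  have hpre : j.liftCoborder ⁻¹ᵁ (j.coborderRange.ι ⁻¹ᵁ U) = j ⁻¹ᵁ U := by
    rw [Scheme.Hom.liftCoborder_preimage, himg]
  refine ⟨U, hU, hxU, fun y hy => (hUG hy).1.1, ?_, ?_, ?_⟩
  · rw [← hpre]
    exact hU₁.preimage j.liftCoborder
  · intro y hy
    have : j y ∈ T' := (hUG hy).1.2
    have h2 : y ∈ j ⁻¹' T' := this
    rw [hTT'] at h2
    exact h2
  · have h1 := j.liftCoborder.app_surjective _ hU₁
    rw [liftCoborder_app] at h1
    have h2 : Function.Surjective (j.app (j.coborderRange.ι ''ᵁ (j.coborderRange.ι ⁻¹ᵁ U))) := by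
      intro t
      obtain ⟨s, hs⟩ := h1 (X.presheaf.map (eqToHom
        (j.liftCoborder_preimage (j.coborderRange.ι ⁻¹ᵁ U))).op t)
      refine ⟨s, ?_⟩
      have hinj : Function.Injective (X.presheaf.map (eqToHom
        (j.liftCoborder_preimage (j.coborderRange.ι ⁻¹ᵁ U))).op) :=
        ((ConcreteCategory.isIso_iff_bijective _).mp inferInstance).1
      apply hinj
      rw [← hs]
      rfl
    have h3 : ∀ (V : Y.Opens), V = U → Function.Surjective (j.app V) →
        Function.Surjective (j.app U) := by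
      rintro V rfl h
      exact h
    exact h3 _ himg h2

end Groth.Agent.Lead.OmegaCnA
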