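import Groth.Agent.Lead.FEtLift
import Mathlib

/-!
# Lead: a formally smooth morphism (infinitesimal lifting property) induces formally smooth
ring maps on affine pairs
-/

set_option autoImplicit false
open CategoryTheory CategoryTheory.Limits AlgebraicGeometry Opposite TopologicalSpace
universe u

namespace Groth.Agent.Lead.FSmAppLE
open Groth.Agent.Lead.FEtLift

theorem formallySmooth_appLE {X Y : Scheme.{u}} (f : X ⟶ Y) (hf : MoreMor.IsFormallySmoothHom f)
    (U : X.Opens) (V : Y.Opens) (hU : IsAffineOpen U) (hV : IsAffineOpen V) (hUV : U ≤ f ⁻¹ᵁ V) :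
    letI := (f.appLE V U hUV).hom.toAlgebra
    Algebra.FormallySmooth Γ(Y, V) Γ(X, U) := by
  letI := (f.appLE V U hUV).hom.toAlgebra
  rw [Algebra.FormallySmooth.iff_comp_surjective]
  intro B _ _ I hI
  have halg : algebraMap Γ(Y, V) Γ(X, U) = (f.appLE V U hUV).hom := rfl
  intro gbar
  have hcomm : (gbar : Γ(X, U) →+* B ⧸ I).comp (f.appLE V U hUV).hom =
      (Ideal.Quotient.mk I).comp (algebraMap Γ(Y, V) B) := by
    ext x
    simp [← halg]
  obtain ⟨l, hl1, hl2⟩ := hf B I hI _ _
    (square_comm f U V hU hV hUV B I (algebraMap Γ(Y, V) B) gbar hcomm)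
  obtain ⟨g, hg1, hg2, -⟩ := exists_lift_of_exists f U V hU hV hUV B I hI _ _ l hl1 hl2
  refine ⟨{ g with commutes' := fun r => ?_ }, ?_⟩
  · have := congrArg (fun h => h r) hg2
    simpa [halg] using this
  · ext x
    exact congrArg (fun h => h x) hg1

end Groth.Agent.Lead.FSmAppLE
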