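import Groth.Agent.Helper7.Fitt5
import Groth.Agent.Helper4.SecDict
import Groth.Agent.Helper4.StalkDict
import Groth.Prelude.Def_Fitting
import Groth.Prelude.Def_CohB1
import Mathlib

/-!
# Lead: the Fitting ideal sheaf of a finite type quasi-coherent module has the expected
sections on affine opens.
-/

set_option autoImplicit false
open CategoryTheory AlgebraicGeometry Opposite TopologicalSpace
universe u

namespace Groth.Agent.Lead.FittSheafA
open Scheme.Modules Groth.Agent.Helper4 Groth.Agent.Helper4.StalkDict Groth.Agent.Helper7.FittLib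

variable {X : Scheme.{u}} (F : X.Modules)

section Loc
variable {U : X.Opens} (hU : IsAffineOpen U) (f : Γ(X, U))

/-- the restriction ring hom to the basic open -/
noncomputable abbrev resRing : Γ(X, U) →+* Γ(X, X.basicOpen f) :=
  (X.presheaf.map (homOfLE <| X.basicOpen_le f).op).hom

/-- the `Γ(X,U)`-module structure on `Γ(F, U_f)` -/
@[reducible] noncomputable def modInst : Module Γ(X, U) Γ(F, X.basicOpen f) :=
  Module.compHom _ (resRing f)

/-- the algebra structure -/
@[reducible] noncomputable def algInst : Algebra Γ(X, U) Γ(X, X.basicOpen f) :=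
  (resRing f).toAlgebra

theorem towerInst :
    letI := modInst F f
    letI := algInst f
    IsScalarTower Γ(X, U) Γ(X, X.basicOpen f) Γ(F, X.basicOpen f) := by
  letI := modInst F f
  letI := algInst f
  refine ⟨fun a b m => ?_⟩
  change (resRing f a * b) • m = resRing f a • (b • m)
  rw [mul_smul]

/-- restriction as a linear map -/
noncomputable def resLin :
    letI := modInst F f
    Γ(F, U) →ₗ[Γ(X, U)] Γ(F, X.basicOpen f) :=
  letI := modInst F f
  { toFun := fun m => F.presheaf.map (homOfLE <| X.basicOpen_le f).op m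
    map_add' := fun a b => map_add _ a b
    map_smul' := fun a m => by
      rw [Scheme.Modules.map_smul]
      rfl }

include hU in
theorem isLocalizedModule_resLin [F.IsQuasicoherent] :
    letI := modInst F f
    IsLocalizedModule (Submonoid.powers f) (resLin F f) := by
  letI := modInst F f
  have hunit : IsUnit (X.presheaf.map (homOfLE <| X.basicOpen_le f).op f) :=
    RingedSpace.isUnit_res_basicOpen _ f
  refine ⟨?_, ?_, ?_⟩
  · rintro ⟨_, n, rfl⟩
    rw [Module.End.isUnit_iff]
    have hu : IsUnit (resRing f (f ^ n)) := by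
      rw [map_pow]; exact hunit.pow n
    obtain ⟨v, hv⟩ := hu
    constructor
    · intro a b hab
      have hab' : resRing f (f ^ n) • a = resRing f (f ^ n) • b := hab
      rw [← hv] at hab'
      have := congrArg (fun z => (↑v⁻¹ : Γ(X, X.basicOpen f)) • z) hab'
      simpa [smul_smul] using this
    · intro b
      refine ⟨(↑v⁻¹ : Γ(X, X.basicOpen f)) • b, ?_⟩
      change resRing f (f ^ n) • ((↑v⁻¹ : Γ(X, X.basicOpen f)) • b) = b
      rw [← hv, smul_smul]
      simp
  · intro t
    obtain ⟨n, m, hnm⟩ := exists_pow_smul_eq_res hU F f t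
    exact ⟨⟨m, ⟨_, n, rfl⟩⟩, hnm⟩
  · intro m₁ m₂ h
    have h0 : F.presheaf.map (homOfLE <| X.basicOpen_le f).op (m₁ - m₂) = 0 := by
      rw [map_sub]
      exact sub_eq_zero.mpr h
    obtain ⟨n, hn⟩ := exists_pow_smul_eq_zero hU F f (m₁ - m₂) h0
    refine ⟨⟨_, n, rfl⟩, ?_⟩
    rw [smul_sub, sub_eq_zero] at hn
    exact hn

include hU in
/-- Fitting ideals commute with restriction to a basic open. -/
theorem map_fitt [F.IsQuasicoherent] [Module.Finite Γ(X, U) Γ(F, U)] (r : ℕ) :
    (Fitt.ideal Γ(X, U) Γ(F, U) r).map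
        (X.presheaf.map (homOfLE <| X.basicOpen_le f).op).hom =
      Fitt.ideal Γ(X, X.basicOpen f) Γ(F, X.basicOpen f) r := by
  letI := modInst F f
  letI := algInst f
  haveI := towerInst F f
  haveI := isLocalizedModule_resLin F hU f
  haveI : IsLocalization (Submonoid.powers f) Γ(X, X.basicOpen f) :=
    hU.isLocalization_basicOpen f
  have hbc : IsBaseChange Γ(X, X.basicOpen f) (resLin F f) :=
    IsLocalizedModule.isBaseChange (Submonoid.powers f) Γ(X, X.basicOpen f) (resLin F f)
  exact (fitt_isBaseChange Γ(X, X.basicOpen f) (resLin F f) hbc r).symm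

end Loc

/-- the Fitting ideal sheaf, with explicit sections -/
noncomputable def fittIdeal [F.IsQuasicoherent]
    (hft : SheafOfModules.IsFiniteType (R := X.ringCatSheaf) F) (r : ℕ) : X.IdealSheafData where
  ideal U := Fitt.ideal Γ(X, U.1) Γ(F, U.1) r
  map_ideal_basicOpen U f := by
    haveI := SecDict.finite_sections U.2 F inferInstance hft
    exact map_fitt F U.2 f r

theorem sheafIdeal_eq [F.IsQuasicoherent]
    (hft : SheafOfModules.IsFiniteType (R := X.ringCatSheaf) F) (r : ℕ) :
    Fitt.sheafIdeal F r = fittIdeal F hft r := by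
  apply le_antisymm
  · rw [Scheme.IdealSheafData.le_def]
    intro U
    exact Scheme.IdealSheafData.ideal_ofIdeals_le _ U
  · unfold Fitt.sheafIdeal
    rw [Scheme.IdealSheafData.le_ofIdeals_iff]
    intro U
    exact le_rfl

/-- the sections of the Fitting ideal sheaf on an affine open -/
theorem ideal_sheafIdeal [F.IsQuasicoherent]
    (hft : SheafOfModules.IsFiniteType (R := X.ringCatSheaf) F) (r : ℕ) (U : X.affineOpens) :
    (Fitt.sheafIdeal F r).ideal U = Fitt.ideal Γ(X, U.1) Γ(F, U.1) r := by
  rw [sheafIdeal_eq F hft r]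
  rfl

end Groth.Agent.Lead.FittSheafA
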