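import Groth.Agent.Lead.OmegaSecB
import Groth.Agent.Lead.FittSheafA
import Groth.Agent.Helper9.IdealComap
import Mathlib

/-!
# Lead: the Fitting ideals of the sheaf of differentials commute with base change
-/

set_option autoImplicit false
open CategoryTheory CategoryTheory.Limits AlgebraicGeometry Opposite TopologicalSpace TensorProduct
universe u

namespace Groth.Agent.Lead.OmegaSecE
open Scheme.Modules Groth.Agent.Helper4 Groth.Agent.Helper7.FittLib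

theorem fitt_kaehler_baseChange (R S A B : Type u) [CommRing R] [CommRing S] [CommRing A]
    [CommRing B] [Algebra R S] [Algebra R A] [Algebra S B] [Algebra A B] [Algebra R B]
    [IsScalarTower R S B] [IsScalarTower R A B] [Algebra.IsPushout R S A B]
    [Algebra.FiniteType R A] (k : ℕ) :
    Fitt.ideal B Ω[B⁄S] k = (Fitt.ideal A Ω[A⁄R] k).map (algebraMap A B) := by
  rw [← fitt_congr (KaehlerDifferential.tensorKaehlerEquiv R S A B) k, fitt_baseChange]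

variable {X S S' : Scheme.{u}} (f : X ⟶ S) (g : S' ⟶ S)

section Pair
variable {U : X.Opens} (hU : IsAffineOpen U) {V : S.Opens} (hV : IsAffineOpen V)
  {V' : S'.Opens} (hV' : IsAffineOpen V') (e₁ : U ≤ f ⁻¹ᵁ V) (e₂ : V' ≤ g ⁻¹ᵁ V)

include hU hV hV' e₁ e₂ in
theorem isAffineOpen_inf :
    IsAffineOpen (pullback.fst f g ⁻¹ᵁ U ⊓ pullback.snd f g ⁻¹ᵁ V') := by
  have H : IsPullback (pullback.fst f g) (pullback.snd f g) f g := IsPullback.of_hasPullback f g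
  haveI : IsAffine (V : Scheme.{u}) := hV
  haveI : IsAffine (U : Scheme.{u}) := hU
  haveI : IsAffine (V' : Scheme.{u}) := hV'
  exact .of_isIso (Scheme.Hom.isPullback_resLE H e₂ e₁ rfl).isoPullback.hom

include hU hV hV' in
theorem isPushout_inf :
    IsPushout (f.appLE V U e₁) (g.appLE V V' e₂)
      ((pullback.fst f g).appLE U (pullback.fst f g ⁻¹ᵁ U ⊓ pullback.snd f g ⁻¹ᵁ V') inf_le_left)
      ((pullback.snd f g).appLE V' (pullback.fst f g ⁻¹ᵁ U ⊓ pullback.snd f g ⁻¹ᵁ V')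
        inf_le_right) := by
  have H : IsPullback (pullback.fst f g) (pullback.snd f g) f g := IsPullback.of_hasPullback f g
  haveI := isIso_pushoutSection_of_isAffineOpen H e₂ e₁ rfl hV hV' hU
  exact (isIso_pushoutSection_iff H e₂ e₁ rfl).mp inferInstance

include hU hV hV' e₁ e₂ in
theorem fitt_eq [QuasiSeparated f] [LocallyOfFiniteType f] (i : ℕ)
    (hU' : IsAffineOpen (pullback.fst f g ⁻¹ᵁ U ⊓ pullback.snd f g ⁻¹ᵁ V')) :
    Fitt.ideal Γ(pullback f g, pullback.fst f g ⁻¹ᵁ U ⊓ pullback.snd f g ⁻¹ᵁ V')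
        Γ(Omega.sheaf (pullback.snd f g), pullback.fst f g ⁻¹ᵁ U ⊓ pullback.snd f g ⁻¹ᵁ V') i =
      (Fitt.ideal Γ(X, U) Γ(Omega.sheaf f, U) i).map
        ((pullback.fst f g).appLE U (pullback.fst f g ⁻¹ᵁ U ⊓ pullback.snd f g ⁻¹ᵁ V')
          inf_le_left).hom := by
  letI algRA := (f.appLE V U e₁).hom.toAlgebra
  letI algRS := (g.appLE V V' e₂).hom.toAlgebra
  letI algAB := ((pullback.fst f g).appLE U (pullback.fst f g ⁻¹ᵁ U ⊓ pullback.snd f g ⁻¹ᵁ V')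
    inf_le_left).hom.toAlgebra
  letI algSB := ((pullback.snd f g).appLE V' (pullback.fst f g ⁻¹ᵁ U ⊓ pullback.snd f g ⁻¹ᵁ V')
    inf_le_right).hom.toAlgebra
  letI algRB : Algebra Γ(S, V) Γ(pullback f g, pullback.fst f g ⁻¹ᵁ U ⊓ pullback.snd f g ⁻¹ᵁ V') :=
    (((pullback.fst f g).appLE U (pullback.fst f g ⁻¹ᵁ U ⊓ pullback.snd f g ⁻¹ᵁ V')
      inf_le_left).hom.comp (f.appLE V U e₁).hom).toAlgebra
  have hpush := isPushout_inf f g hU hV hV' e₁ e₂
  haveI t1 : IsScalarTower Γ(S, V) Γ(X, U)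
      Γ(pullback f g, pullback.fst f g ⁻¹ᵁ U ⊓ pullback.snd f g ⁻¹ᵁ V') :=
    IsScalarTower.of_algebraMap_eq' rfl
  haveI t2 : IsScalarTower Γ(S, V) Γ(S', V')
      Γ(pullback f g, pullback.fst f g ⁻¹ᵁ U ⊓ pullback.snd f g ⁻¹ᵁ V') := by
    apply IsScalarTower.of_algebraMap_eq'
    have := congrArg CommRingCat.Hom.hom hpush.w
    exact this
  haveI hP : Algebra.IsPushout Γ(S, V) Γ(S', V') Γ(X, U)
      Γ(pullback f g, pullback.fst f g ⁻¹ᵁ U ⊓ pullback.snd f g ⁻¹ᵁ V') := by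
    have h1 : Algebra.IsPushout Γ(S, V) Γ(X, U) Γ(S', V')
        Γ(pullback f g, pullback.fst f g ⁻¹ᵁ U ⊓ pullback.snd f g ⁻¹ᵁ V') :=
      CommRingCat.isPushout_iff_isPushout.mp hpush
    exact h1.symm
  haveI : Algebra.FiniteType Γ(S, V) Γ(X, U) := f.finiteType_appLE hV hU e₁
  obtain ⟨ε, -⟩ := OmegaSecA.exists_sectionsEquiv f hU hV e₁
  obtain ⟨ε', -⟩ := OmegaSecA.exists_sectionsEquiv (pullback.snd f g) hU' hV' inf_le_right
  rw [fitt_congr ε' i,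
    fitt_kaehler_baseChange Γ(S, V) Γ(S', V') Γ(X, U)
      Γ(pullback f g, pullback.fst f g ⁻¹ᵁ U ⊓ pullback.snd f g ⁻¹ᵁ V') i, ← fitt_congr ε i]
  rfl

end Pair

theorem main [QuasiSeparated f] [LocallyOfFiniteType f] (i : ℕ) :
    (Fitt.sheafIdeal (Omega.sheaf f) i).comap (pullback.fst f g) =
      Fitt.sheafIdeal (Omega.sheaf (pullback.snd f g)) i := by
  have hft := OmegaSecB.isFiniteType_omega f
  have hft' := OmegaSecB.isFiniteType_omega (pullback.snd f g)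
  let ι := {p : X.affineOpens × S.affineOpens × S'.affineOpens //
    p.1.1 ≤ f ⁻¹ᵁ p.2.1.1 ∧ p.2.2.1 ≤ g ⁻¹ᵁ p.2.1.1}
  let W : ι → (pullback f g).affineOpens := fun p =>
    ⟨pullback.fst f g ⁻¹ᵁ p.1.1.1 ⊓ pullback.snd f g ⁻¹ᵁ p.1.2.2.1,
      isAffineOpen_inf f g p.1.1.2 p.1.2.1.2 p.1.2.2.2 p.2.1 p.2.2⟩
  apply Scheme.IdealSheafData.ext_of_iSup_eq_top W
  · rw [eq_top_iff]
    intro z _
    obtain ⟨_, ⟨V, hV : IsAffineOpen V, rfl⟩, hzV, -⟩ :=
      S.isBasis_affineOpens.exists_subset_of_mem_open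
        (Set.mem_univ (f (pullback.fst f g z))) isOpen_univ
    obtain ⟨_, ⟨U, hU : IsAffineOpen U, rfl⟩, hzU, hUV⟩ :=
      X.isBasis_affineOpens.exists_subset_of_mem_open
        (show pullback.fst f g z ∈ ((f ⁻¹ᵁ V : X.Opens) : Set X) from hzV) (f ⁻¹ᵁ V).isOpen
    have hz2 : g (pullback.snd f g z) ∈ V := by
      have : g (pullback.snd f g z) = f (pullback.fst f g z) := by
        rw [← Scheme.Hom.comp_apply, ← Scheme.Hom.comp_apply, pullback.condition]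
      rw [this]
      exact hzV
    obtain ⟨_, ⟨V', hV' : IsAffineOpen V', rfl⟩, hzV', hV'V⟩ :=
      S'.isBasis_affineOpens.exists_subset_of_mem_open
        (show pullback.snd f g z ∈ ((g ⁻¹ᵁ V : S'.Opens) : Set S') from hz2) (g ⁻¹ᵁ V).isOpen
    rw [Opens.mem_iSup]
    exact ⟨⟨(⟨U, hU⟩, ⟨V, hV⟩, ⟨V', hV'⟩), hUV, hV'V⟩, hzU, hzV'⟩
  · rintro ⟨⟨U, V, V'⟩, e₁, e₂⟩
    change ((Fitt.sheafIdeal (Omega.sheaf f) i).comap (pullback.fst f g)).ideal
        (W ⟨(U, V, V'), e₁, e₂⟩) =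
      (Fitt.sheafIdeal (Omega.sheaf (pullback.snd f g)) i).ideal (W ⟨(U, V, V'), e₁, e₂⟩)
    rw [Groth.Agent.Helper9.IdealComap.ideal_comap (pullback.fst f g) _ U
        (W ⟨(U, V, V'), e₁, e₂⟩) inf_le_left,
      FittSheafA.ideal_sheafIdeal _ hft i U, FittSheafA.ideal_sheafIdeal _ hft' i _]
    exact (fitt_eq f g U.2 V.2 V'.2 e₁ e₂ i (W ⟨(U, V, V'), e₁, e₂⟩).2).symm

end Groth.Agent.Lead.OmegaSecE
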