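import Groth.Agent.Lead.OmegaSeqB
import Groth.Agent.Lead.FSmAppLE
import Groth.Agent.Lead.OmegaSecE
import Groth.Agent.Helper4.QcohLocal
import Groth.Agent.Helper4.FinLocFree
import Mathlib

/-!
# Lead: the canonical map `h^*Ω → Ω'` on affine pieces; injectivity for formally smooth maps,
bijectivity for cartesian squares
-/

set_option autoImplicit false
set_option backward.isDefEq.respectTransparency false
set_option backward.isDefEq.respectTransparency.types false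
open CategoryTheory CategoryTheory.Limits AlgebraicGeometry Opposite TopologicalSpace TensorProduct
universe u

namespace Groth.Agent.Lead.OmegaSeqC
open Scheme.Modules OmegaSh Groth.Agent.Helper4 Groth.Agent.Lead.BCMap

section Square
variable {X S X' S' : Scheme.{u}} {f : X ⟶ S} {f' : X' ⟶ S'} (h : X' ⟶ X)
  {Ω : X.Modules} (d : Der f Ω) {Ω' : X'.Modules} (d' : Der f' Ω')
  (c : (Scheme.Modules.pullback h).obj Ω ⟶ Ω') (hc : IsDiffCompat h d d' c)

include hc in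
theorem c_pbSec {U : X.Opens} {U' : X'.Opens} (e : U' ≤ h ⁻¹ᵁ U) (s : Γ(X, U)) :
    c.app U' (pbSec h Ω U U' e (d.app U s)) = d'.app U' (h.appLE U U' e s) := by
  have h1 := congr($(c.mapPresheaf.naturality (homOfLE e).op) (pullSect h Ω U (d.app U s)))
  refine h1.trans ?_
  change Ω'.presheaf.map (homOfLE e).op (c.app (h ⁻¹ᵁ U) (pullSect h Ω U (d.app U s))) = _
  rw [hc U s]
  exact (DerA.der_map d' (homOfLE e) _).symm

include hc in
/-- the canonical map on an affine pair `U' → U`: a base change map `ρ` out of the sections of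
`Ω` with `c (ρ (d s)) = d' (h♯ s)`. -/
theorem exists_rho [Ω.IsQuasicoherent] {U : X.Opens} {U' : X'.Opens} (hU : IsAffineOpen U)
    (hU' : IsAffineOpen U') (e : U' ≤ h ⁻¹ᵁ U) :
    letI := (h.appLE U U' e).hom.toAlgebra
    letI : Module Γ(X, U) Γ((Scheme.Modules.pullback h).obj Ω, U') :=
      Module.compHom _ (h.appLE U U' e).hom
    haveI : IsScalarTower Γ(X, U) Γ(X', U') Γ((Scheme.Modules.pullback h).obj Ω, U') :=
      IsScalarTower.of_compHom _ _ _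
    ∃ ρ : Γ(Ω, U) →ₗ[Γ(X, U)] Γ((Scheme.Modules.pullback h).obj Ω, U'),
      IsBaseChange Γ(X', U') ρ ∧
        ∀ s : Γ(X, U), c.app U' (ρ (d.app U s)) = d'.app U' (h.appLE U U' e s) := by
  letI := (h.appLE U U' e).hom.toAlgebra
  letI : Module Γ(X, U) Γ((Scheme.Modules.pullback h).obj Ω, U') :=
    Module.compHom _ (h.appLE U U' e).hom
  haveI : IsScalarTower Γ(X, U) Γ(X', U') Γ((Scheme.Modules.pullback h).obj Ω, U') :=
    IsScalarTower.of_compHom _ _ _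
  obtain ⟨ρ, hρ, hb⟩ := exists_isBaseChange_pbSec h Ω hU hU' e
  refine ⟨ρ, hb, fun s => ?_⟩
  rw [hρ]
  exact c_pbSec h d d' c hc e s

end Square

section Algebra

/-- for `C` formally smooth over `B`, `C ⊗_B Ω[B/A] → Ω[C/A]` is injective. -/
theorem mapBaseChange_injective (A B C : Type u) [CommRing A] [CommRing B] [CommRing C]
    [Algebra A B] [Algebra B C] [Algebra A C] [IsScalarTower A B C]
    [Algebra.FormallySmooth B C] :
    Function.Injective (KaehlerDifferential.mapBaseChange A B C) := by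
  rw [injective_iff_map_eq_zero]
  intro x hx
  obtain ⟨y, rfl⟩ := (Algebra.H1Cotangent.exact_δ_mapBaseChange A B C x).mp hx
  rw [Subsingleton.elim y 0, map_zero]

/-- comparing a linear map out of a base change with a linear map out of the tensor product:
it suffices to compare on a spanning set -/
theorem comp_equiv_eq {B B' M N P : Type u} [CommRing B] [CommRing B'] [Algebra B B']
    [AddCommGroup M] [Module B M] [AddCommGroup N] [Module B N] [Module B' N]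
    [IsScalarTower B B' N] [AddCommGroup P] [Module B' P]
    (ρ : M →ₗ[B] N) (hb : IsBaseChange B' ρ) (L : N →ₗ[B'] P) (T : B' ⊗[B] M →ₗ[B'] P)
    (G : Set M) (hG : Submodule.span B G = ⊤)
    (h : ∀ m ∈ G, L (ρ m) = T (1 ⊗ₜ m)) (z : B' ⊗[B] M) : L (hb.equiv z) = T z := by
  have h' : ∀ m, L (ρ m) = T (1 ⊗ₜ m) := by
    intro m
    have hm : m ∈ Submodule.span B G := by rw [hG]; trivial
    induction hm using Submodule.span_induction with
    | mem x hx => exact h x hx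
    | zero => simp
    | add x y _ _ hx hy => rw [map_add, map_add, hx, hy, TensorProduct.tmul_add, map_add]
    | smul b x _ hx =>
      have e1 : (1 : B') ⊗ₜ[B] (b • x) = (algebraMap B B' b) • ((1 : B') ⊗ₜ[B] x) := by
        rw [TensorProduct.smul_tmul', smul_eq_mul, mul_one, ← TensorProduct.smul_tmul,
          Algebra.smul_def, mul_one]
      rw [_root_.map_smul, ← algebraMap_smul B' b (ρ x), _root_.map_smul, hx, e1, _root_.map_smul]
  induction z using TensorProduct.induction_on with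
  | zero => simp
  | add x y hx hy => rw [map_add, map_add, hx, hy, map_add]
  | tmul b m =>
    rw [IsBaseChange.equiv_tmul, _root_.map_smul, h']
    rw [← _root_.map_smul, TensorProduct.smul_tmul', smul_eq_mul, mul_one]

theorem injective_of_comp_equiv {B B' M N P : Type u} [CommRing B] [CommRing B'] [Algebra B B']
    [AddCommGroup M] [Module B M] [AddCommGroup N] [Module B N] [Module B' N]
    [IsScalarTower B B' N] [AddCommGroup P] [Module B' P]
    (ρ : M →ₗ[B] N) (hb : IsBaseChange B' ρ) (L : N →ₗ[B'] P) (T : B' ⊗[B] M →ₗ[B'] P)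
    (G : Set M) (hG : Submodule.span B G = ⊤)
    (h : ∀ m ∈ G, L (ρ m) = T (1 ⊗ₜ m)) (hT : Function.Injective T) : Function.Injective L := by
  intro a b hab
  obtain ⟨a, rfl⟩ := hb.equiv.surjective a
  obtain ⟨b, rfl⟩ := hb.equiv.surjective b
  rw [comp_equiv_eq ρ hb L T G hG h, comp_equiv_eq ρ hb L T G hG h] at hab
  rw [hT hab]

theorem surjective_of_comp_equiv {B B' M N P : Type u} [CommRing B] [CommRing B'] [Algebra B B']
    [AddCommGroup M] [Module B M] [AddCommGroup N] [Module B N] [Module B' N]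
    [IsScalarTower B B' N] [AddCommGroup P] [Module B' P]
    (ρ : M →ₗ[B] N) (hb : IsBaseChange B' ρ) (L : N →ₗ[B'] P) (T : B' ⊗[B] M →ₗ[B'] P)
    (G : Set M) (hG : Submodule.span B G = ⊤)
    (h : ∀ m ∈ G, L (ρ m) = T (1 ⊗ₜ m)) (hT : Function.Surjective T) : Function.Surjective L := by
  intro p
  obtain ⟨z, rfl⟩ := hT p
  exact ⟨hb.equiv z, comp_equiv_eq ρ hb L T G hG h z⟩

end Algebra

section Smooth
variable {X Y S : Scheme.{u}} (g : Y ⟶ S) (f : X ⟶ Y)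
  {ΩY : Y.Modules} (dY : Der g ΩY) (hY : IsUniversal dY)
  {ΩX : X.Modules} (dX : Der (f ≫ g) ΩX) (hX : IsUniversal dX)
  (c : (Scheme.Modules.pullback f).obj ΩY ⟶ ΩX) (hc : IsDiffCompat f dY dX c)

include hc hY hX in
/-- S5016 -/
theorem mono_of_formallySmooth (hf : MoreMor.IsFormallySmoothHom f) : Mono c := by
  haveI := OmegaLocB.isQuasicoherent_of_isUniversal g dY hY
  haveI := OmegaLocB.isQuasicoherent_of_isUniversal (f ≫ g) dX hX
  haveI := StalkPull.isQuasicoherent_pullbackObj f ΩY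
  apply QcohLocal.mono_of_app_injective_of_affine_cover
  intro x
  obtain ⟨U, V, W, hU, hV, hW, hxU, -, hUV, hVW⟩ :=
    OmegaSeqA.exists_affine_triple f g x ⊤ trivial
  refine ⟨U, hU, hxU, ?_⟩
  have hUW : U ≤ (f ≫ g) ⁻¹ᵁ W := fun y hy => hVW (hUV hy)
  letI algAB := (g.appLE W V hVW).hom.toAlgebra
  letI algBC := (f.appLE V U hUV).hom.toAlgebra
  letI algAC := ((f ≫ g).appLE W U hUW).hom.toAlgebra
  haveI : IsScalarTower Γ(S, W) Γ(Y, V) Γ(X, U) := IsScalarTower.of_algebraMap_eq' (by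
    change ((f ≫ g).appLE W U hUW).hom = (f.appLE V U hUV).hom.comp (g.appLE W V hVW).hom
    rw [← CommRingCat.hom_comp, Scheme.Hom.appLE_comp_appLE])
  obtain ⟨εX, hεX⟩ := OmegaLocC.exists_sectionsEquiv (f ≫ g) dX hX hU hW hUW
  obtain ⟨εY, hεY⟩ := OmegaLocC.exists_sectionsEquiv g dY hY hV hW hVW
  letI : Module Γ(Y, V) Γ((Scheme.Modules.pullback f).obj ΩY, U) :=
    Module.compHom _ (f.appLE V U hUV).hom
  haveI : IsScalarTower Γ(Y, V) Γ(X, U) Γ((Scheme.Modules.pullback f).obj ΩY, U) :=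
    IsScalarTower.of_compHom _ _ _
  obtain ⟨ρ, hb, hρ⟩ := exists_rho f dY dX c hc hV hU hUV
  haveI : Algebra.FormallySmooth Γ(Y, V) Γ(X, U) :=
    FSmAppLE.formallySmooth_appLE f hf U V hU hV hUV
  have hb' : IsBaseChange Γ(X, U) (ρ ∘ₗ εY.symm.toLinearMap) :=
    IsBaseChange.comp_equiv εY.symm ρ hb
  let L : Γ((Scheme.Modules.pullback f).obj ΩY, U) →ₗ[Γ(X, U)] Ω[Γ(X, U)⁄Γ(S, W)] :=
    εX.toLinearMap ∘ₗ OmegaSeqA.appLin c U
  have hinj := injective_of_comp_equiv (ρ ∘ₗ εY.symm.toLinearMap) hb' L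
    (KaehlerDifferential.mapBaseChange Γ(S, W) Γ(Y, V) Γ(X, U))
    (Set.range (KaehlerDifferential.D Γ(S, W) Γ(Y, V)))
    (KaehlerDifferential.span_range_derivation _ _) (by
      rintro _ ⟨s, rfl⟩
      change εX (c.app U (ρ (εY.symm (KaehlerDifferential.D Γ(S, W) Γ(Y, V) s)))) = _
      rw [← hεY s, LinearEquiv.symm_apply_apply, hρ, hεX,
        KaehlerDifferential.mapBaseChange_tmul, one_smul, hεY, KaehlerDifferential.map_D]
      rfl)
    (mapBaseChange_injective _ _ _)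
  intro a b hab
  exact hinj (by change εX (c.app U a) = εX (c.app U b); rw [hab])

end Smooth

section BaseChange
variable {X S X' S' : Scheme.{u}} (f : X ⟶ S) (g : S' ⟶ S) (g' : X' ⟶ X) (f' : X' ⟶ S')
  (hsq : IsPullback g' f' f g)

section Pair
variable {U : X.Opens} (hU : IsAffineOpen U) {V : S.Opens} (hV : IsAffineOpen V)
  {V' : S'.Opens} (hV' : IsAffineOpen V') (e₁ : U ≤ f ⁻¹ᵁ V) (e₂ : V' ≤ g ⁻¹ᵁ V)

include hsq hU hV hV' e₁ e₂ in
theorem isAffineOpen_inf : IsAffineOpen (g' ⁻¹ᵁ U ⊓ f' ⁻¹ᵁ V') := by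
  haveI : IsAffine (V : Scheme.{u}) := hV
  haveI : IsAffine (U : Scheme.{u}) := hU
  haveI : IsAffine (V' : Scheme.{u}) := hV'
  exact .of_isIso (Scheme.Hom.isPullback_resLE hsq e₂ e₁ rfl).isoPullback.hom

include hsq hU hV hV' in
theorem isPushout_inf :
    IsPushout (f.appLE V U e₁) (g.appLE V V' e₂)
      (g'.appLE U (g' ⁻¹ᵁ U ⊓ f' ⁻¹ᵁ V') inf_le_left)
      (f'.appLE V' (g' ⁻¹ᵁ U ⊓ f' ⁻¹ᵁ V') inf_le_right) := by
  haveI := isIso_pushoutSection_of_isAffineOpen hsq e₂ e₁ rfl hV hV' hU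
  exact (isIso_pushoutSection_iff hsq e₂ e₁ rfl).mp inferInstance

end Pair

variable {Ω : X.Modules} (d : Der f Ω) (hd : IsUniversal d)
  {Ω' : X'.Modules} (d' : Der f' Ω') (hd' : IsUniversal d')
  (c : (Scheme.Modules.pullback g').obj Ω ⟶ Ω') (hc : IsDiffCompat g' d d' c)

include hsq hd hd' hc in
/-- S9386 -/
theorem isIso_of_isPullback : IsIso c := by
  haveI := OmegaLocB.isQuasicoherent_of_isUniversal f d hd
  haveI := OmegaLocB.isQuasicoherent_of_isUniversal f' d' hd'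
  haveI := StalkPull.isQuasicoherent_pullbackObj g' Ω
  apply QcohLocal.isIso_of_app_bijective_of_affine_cover
  intro x'
  obtain ⟨U, V, hU, hV, hxU, e₁⟩ := OmegaSecB.exists_affine_pair f (g' x')
  have hz2 : g (f' x') ∈ V := by
    have : g (f' x') = f (g' x') := by
      rw [← Scheme.Hom.comp_apply, ← Scheme.Hom.comp_apply, hsq.w]
    rw [this]
    exact e₁ hxU
  obtain ⟨_, ⟨V', hV' : IsAffineOpen V', rfl⟩, hzV', e₂⟩ :=
    S'.isBasis_affineOpens.exists_subset_of_mem_open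
      (show f' x' ∈ ((g ⁻¹ᵁ V : S'.Opens) : Set S') from hz2) (g ⁻¹ᵁ V).isOpen
  have hU' := isAffineOpen_inf f g g' f' hsq hU hV hV' e₁ e₂
  refine ⟨g' ⁻¹ᵁ U ⊓ f' ⁻¹ᵁ V', hU', ⟨hxU, hzV'⟩, ?_⟩
  letI algRA := (f.appLE V U e₁).hom.toAlgebra
  letI algRS := (g.appLE V V' e₂).hom.toAlgebra
  letI algAB := (g'.appLE U (g' ⁻¹ᵁ U ⊓ f' ⁻¹ᵁ V') inf_le_left).hom.toAlgebra
  letI algSB := (f'.appLE V' (g' ⁻¹ᵁ U ⊓ f' ⁻¹ᵁ V') inf_le_right).hom.toAlgebra
  letI algRB : Algebra Γ(S, V) Γ(X', g' ⁻¹ᵁ U ⊓ f' ⁻¹ᵁ V') :=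
    ((g'.appLE U (g' ⁻¹ᵁ U ⊓ f' ⁻¹ᵁ V') inf_le_left).hom.comp (f.appLE V U e₁).hom).toAlgebra
  have hpush := isPushout_inf f g g' f' hsq hU hV hV' e₁ e₂
  haveI t1 : IsScalarTower Γ(S, V) Γ(X, U) Γ(X', g' ⁻¹ᵁ U ⊓ f' ⁻¹ᵁ V') :=
    IsScalarTower.of_algebraMap_eq' rfl
  haveI t2 : IsScalarTower Γ(S, V) Γ(S', V') Γ(X', g' ⁻¹ᵁ U ⊓ f' ⁻¹ᵁ V') := by
    apply IsScalarTower.of_algebraMap_eq'
    have := congrArg CommRingCat.Hom.hom hpush.w
    exact this
  haveI hP : Algebra.IsPushout Γ(S, V) Γ(S', V') Γ(X, U) Γ(X', g' ⁻¹ᵁ U ⊓ f' ⁻¹ᵁ V') := by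
    have h1 : Algebra.IsPushout Γ(S, V) Γ(X, U) Γ(S', V') Γ(X', g' ⁻¹ᵁ U ⊓ f' ⁻¹ᵁ V') :=
      CommRingCat.isPushout_iff_isPushout.mp hpush
    exact h1.symm
  obtain ⟨ε, hε⟩ := OmegaLocC.exists_sectionsEquiv f d hd hU hV e₁
  obtain ⟨ε', hε'⟩ := OmegaLocC.exists_sectionsEquiv f' d' hd' hU' hV' inf_le_right
  letI : Module Γ(X, U) Γ((Scheme.Modules.pullback g').obj Ω, g' ⁻¹ᵁ U ⊓ f' ⁻¹ᵁ V') :=
    Module.compHom _ (g'.appLE U (g' ⁻¹ᵁ U ⊓ f' ⁻¹ᵁ V') inf_le_left).hom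
  haveI : IsScalarTower Γ(X, U) Γ(X', g' ⁻¹ᵁ U ⊓ f' ⁻¹ᵁ V')
      Γ((Scheme.Modules.pullback g').obj Ω, g' ⁻¹ᵁ U ⊓ f' ⁻¹ᵁ V') :=
    IsScalarTower.of_compHom _ _ _
  obtain ⟨ρ, hb, hρ⟩ := exists_rho g' d d' c hc hU hU' inf_le_left
  have hb' : IsBaseChange Γ(X', g' ⁻¹ᵁ U ⊓ f' ⁻¹ᵁ V') (ρ ∘ₗ ε.symm.toLinearMap) :=
    IsBaseChange.comp_equiv ε.symm ρ hb
  let L : Γ((Scheme.Modules.pullback g').obj Ω, g' ⁻¹ᵁ U ⊓ f' ⁻¹ᵁ V') →ₗ[Γ(X', g' ⁻¹ᵁ U ⊓ f' ⁻¹ᵁ V')]
      Ω[Γ(X', g' ⁻¹ᵁ U ⊓ f' ⁻¹ᵁ V')⁄Γ(S', V')] :=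
    ε'.toLinearMap ∘ₗ OmegaSeqA.appLin c (g' ⁻¹ᵁ U ⊓ f' ⁻¹ᵁ V')
  have key : ∀ m ∈ Set.range (KaehlerDifferential.D Γ(S, V) Γ(X, U)),
      L ((ρ ∘ₗ ε.symm.toLinearMap) m) =
        (KaehlerDifferential.tensorKaehlerEquiv Γ(S, V) Γ(S', V') Γ(X, U)
          Γ(X', g' ⁻¹ᵁ U ⊓ f' ⁻¹ᵁ V')).toLinearMap (1 ⊗ₜ m) := by
    rintro _ ⟨s, rfl⟩
    change ε' (c.app _ (ρ (ε.symm (KaehlerDifferential.D Γ(S, V) Γ(X, U) s)))) = _
    rw [← hε s, LinearEquiv.symm_apply_apply, hρ, hε', LinearEquiv.coe_coe, hε,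
      KaehlerDifferential.tensorKaehlerEquiv_tmul_D, one_smul]
    rfl
  have hinj := injective_of_comp_equiv (ρ ∘ₗ ε.symm.toLinearMap) hb' L _
    (Set.range (KaehlerDifferential.D Γ(S, V) Γ(X, U)))
    (KaehlerDifferential.span_range_derivation _ _) key
    (KaehlerDifferential.tensorKaehlerEquiv Γ(S, V) Γ(S', V') Γ(X, U)
      Γ(X', g' ⁻¹ᵁ U ⊓ f' ⁻¹ᵁ V')).injective
  have hsurj := surjective_of_comp_equiv (ρ ∘ₗ ε.symm.toLinearMap) hb' L _
    (Set.range (KaehlerDifferential.D Γ(S, V) Γ(X, U)))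
    (KaehlerDifferential.span_range_derivation _ _) key
    (KaehlerDifferential.tensorKaehlerEquiv Γ(S, V) Γ(S', V') Γ(X, U)
      Γ(X', g' ⁻¹ᵁ U ⊓ f' ⁻¹ᵁ V')).surjective
  constructor
  · intro a b hab
    exact hinj (by change ε' (c.app _ a) = ε' (c.app _ b); rw [hab])
  · intro t
    obtain ⟨r, hr⟩ := hsurj (ε' t)
    exact ⟨r, ε'.injective hr⟩

end BaseChange

section LocFree
variable {X Y : Scheme.{u}} (f : X ⟶ Y)
open Groth.Agent.Helper4.StalkDict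

/-- S5018 -/
theorem isFinLocFree_of_formallySmooth (hf : MoreMor.IsFormallySmoothHom f)
    [LocallyOfFiniteType f] {Ω' : X.Modules} (d : Der f Ω') (hd : IsUniversal d) :
    FlatMod.IsFinLocFree Ω' := by
  haveI := OmegaLocB.isQuasicoherent_of_isUniversal f d hd
  intro x
  obtain ⟨U, V, hU, hV, hxU, hUV⟩ := OmegaSecB.exists_affine_pair f x
  letI := (f.appLE V U hUV).hom.toAlgebra
  obtain ⟨ε, -⟩ := OmegaLocC.exists_sectionsEquiv f d hd hU hV hUV
  haveI : Algebra.FormallySmooth Γ(Y, V) Γ(X, U) :=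
    FSmAppLE.formallySmooth_appLE f hf U V hU hV hUV
  haveI : Algebra.FiniteType Γ(Y, V) Γ(X, U) := f.finiteType_appLE hV hU hUV
  haveI : Module.Projective Γ(X, U) Γ(Ω', U) := Module.Projective.of_equiv ε.symm
  haveI : Module.Finite Γ(X, U) Γ(Ω', U) := Module.Finite.equiv ε.symm
  have hfp : Module.FinitePresentation Γ(X, U) Γ(Ω', U) :=
    Module.finitePresentation_of_projective _ _
  have hfree : Module.Free (X.presheaf.stalk x) (Ω'.presheaf.stalk x) := by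
    letI := sectionModStalk Ω' x hxU
    letI := X.presheaf.algebra_section_stalk ⟨x, hxU⟩
    haveI := hU.isLocalization_stalk ⟨x, hxU⟩
    haveI := isLocalizedModule_germ hU Ω' x hxU
    haveI : IsScalarTower Γ(X, U) (X.presheaf.stalk x) (Ω'.presheaf.stalk x) :=
      IsScalarTower.of_algebraMap_smul (fun r m => rfl)
    haveI : Module.Projective (X.presheaf.stalk x) (Ω'.presheaf.stalk x) :=
      Module.projective_of_isLocalizedModule (hU.primeIdealOf ⟨x, hxU⟩).asIdeal.primeCompl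
        (germLin Ω' x hxU)
    haveI : Module.Finite (X.presheaf.stalk x) (Ω'.presheaf.stalk x) :=
      Module.Finite.of_isLocalizedModule (hU.primeIdealOf ⟨x, hxU⟩).asIdeal.primeCompl
        (germLin Ω' x hxU)
    exact Module.free_of_flat_of_isLocalRing
  obtain ⟨V', n, hxV', hV'⟩ :=
    FinLocFree.exists_isFreeAlong_of_fp_of_free_stalk Ω' hU x hxU hfp hfree
  exact ⟨V', n, hxV', hV'⟩

end LocFree

end Groth.Agent.Lead.OmegaSeqC
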