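import Groth.Agent.Lead.OmegaSeqB
import Groth.Agent.Lead.OmegaSeqC
import Groth.Agent.Lead.IdealModDict
import Groth.Agent.Lead.LocalLift
import Groth.Agent.Lead.OmegaCnA
import Mathlib

set_option autoImplicit false
set_option backward.isDefEq.respectTransparency false
set_option backward.isDefEq.respectTransparency.types false
open CategoryTheory CategoryTheory.Limits AlgebraicGeometry Opposite TopologicalSpace TensorProduct
universe u

namespace Groth.Agent.Lead.OmegaCnB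

open Scheme.Modules OmegaSh Groth.Agent.Helper4 Groth.Agent.Lead.BCMap

/-- maps out of a pullback are determined by their values on pulled-back sections -/
theorem pullback_hom_ext' {X' X : Scheme.{u}} (h : X' ⟶ X) {M : X.Modules} {F : X'.Modules}
    (a b : (Scheme.Modules.pullback h).obj M ⟶ F)
    (hab : ∀ (U : X.Opens) (m : Γ(M, U)),
      a.app (h ⁻¹ᵁ U) (pullSect h M U m) = b.app (h ⁻¹ᵁ U) (pullSect h M U m)) : a = b := by
  apply ((pullbackPushforwardAdjunction h).homEquiv _ _).injective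
  apply Scheme.Modules.hom_ext
  intro U
  apply AddCommGrpCat.hom_ext
  apply AddMonoidHom.ext
  intro m
  have h1 : ((pullbackPushforwardAdjunction h).homEquiv _ _ a).app U m =
      a.app (h ⁻¹ᵁ U) (pullSect h M U m) := by
    rw [Adjunction.homEquiv_unit]; rfl
  have h2 : ((pullbackPushforwardAdjunction h).homEquiv _ _ b).app U m =
      b.app (h ⁻¹ᵁ U) (pullSect h M U m) := by
    rw [Adjunction.homEquiv_unit]; rfl
  exact h1.trans ((hab U m).trans h2.symm)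


theorem pbSec_self {X' X : Scheme.{u}} (h : X' ⟶ X) (M : X.Modules) (U : X.Opens) (m : Γ(M, U)) :
    pbSec h M U (h ⁻¹ᵁ U) le_rfl m = pullSect h M U m := by
  rw [pbSec_apply]
  erw [CategoryTheory.Functor.map_id]
  rfl

section Conormal
variable {X Y Z : Scheme.{u}} (f : Y ⟶ Z) (j : X ⟶ Y) [IsImmersion j] [QuasiCompact j]
  {ΩY : Y.Modules} (dY : Der f ΩY) (hY : IsUniversal dY)
  {ΩX : X.Modules} (dX : Der (j ≫ f) ΩX) (hX : IsUniversal dX)
  (φ : Omega.conormal j ⟶ (Scheme.Modules.pullback j).obj ΩY) (hφ : IsConormalDiff j dY φ)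
  (c : (Scheme.Modules.pullback j).obj ΩY ⟶ ΩX) (hc : IsDiffCompat j dY dX c)

omit [IsImmersion j] in
/-- sections of the ideal of `j` over an affine open are killed by `j♯` -/
theorem app_idealSect {U : Y.Opens} (hU : IsAffineOpen U) (σ : Γ(ClSub.idealMod j.ker, U)) :
    j.app U (idealSect j.ker U σ) = 0 := by
  have h1 : idealSect j.ker U σ ∈ j.ker.ideal ⟨U, hU⟩ :=
    (IdealModDict.exists_section_iff j.ker ⟨U, hU⟩ _).mp ⟨σ, rfl⟩
  rw [Scheme.Hom.ker_apply] at h1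
  exact h1

omit [IsImmersion j] in
theorem exists_idealSect {U : Y.Opens} (hU : IsAffineOpen U) (s : Γ(Y, U))
    (hs : j.app U s = 0) : ∃ σ : Γ(ClSub.idealMod j.ker, U), idealSect j.ker U σ = s := by
  have h1 : s ∈ j.ker.ideal ⟨U, hU⟩ := by
    rw [Scheme.Hom.ker_apply]
    exact hs
  obtain ⟨σ, hσ⟩ := (IdealModDict.exists_section_iff j.ker ⟨U, hU⟩ s).mpr h1
  exact ⟨σ, hσ⟩

include hφ hc in
theorem comp_zero : φ ≫ c = 0 := by
  haveI : (Omega.conormal j).IsQuasicoherent :=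
    StalkPull.isQuasicoherent_pullbackObj j (ClSub.idealMod j.ker)
  apply QcohLocal.eq_zero_of_app_eq_zero_of_affine_cover
  intro x
  obtain ⟨U, hU, hxU, -, hU', -, -⟩ := OmegaCnA.exists_affine_immersion j x ⊤ trivial ⊤ trivial
  refine ⟨j ⁻¹ᵁ U, hU', hxU, ?_⟩
  intro m
  have hm := OmegaSeqB.span_pbSec j (ClSub.idealMod j.ker) hU' hU le_rfl Set.univ
    (by rw [Submodule.span_univ]) m
  induction hm using Submodule.span_induction with
  | mem y hy =>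
    obtain ⟨σ, -, rfl⟩ := hy
    rw [pbSec_self]
    change c.app (j ⁻¹ᵁ U) (φ.app (j ⁻¹ᵁ U) (conormalSect j U σ)) = 0
    rw [hφ U σ, hc U, app_idealSect j hU σ, map_zero]
  | zero => rw [map_zero]
  | add a b _ _ ha hb => rw [map_add, ha, hb, add_zero]
  | smul r a _ ha => rw [Scheme.Modules.Hom.app_smul, ha, smul_zero]

include hφ hc hY hX in
theorem exact (w : φ ≫ c = 0) : (ShortComplex.mk φ c w).Exact := by
  haveI := OmegaLocB.isQuasicoherent_of_isUniversal f dY hY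
  apply Groth.Agent.Lead.LocalLift.exact_of_local_lift
  intro T t ht x hx
  obtain ⟨V, W, hV, hW, hxV, hVW⟩ := OmegaSecB.exists_affine_pair f (j x)
  obtain ⟨U, hU, hxU, hUV, hU', hU'T, hsurj⟩ := OmegaCnA.exists_affine_immersion j x T hx V hxV
  refine ⟨j ⁻¹ᵁ U, hU'T, hxU, ?_⟩
  have hUW : U ≤ f ⁻¹ᵁ W := fun y hy => hVW (hUV hy)
  have hU'W : j ⁻¹ᵁ U ≤ (j ≫ f) ⁻¹ᵁ W := fun y hy => hUW hy
  have e : j ⁻¹ᵁ U ≤ j ⁻¹ᵁ U := le_rfl
  letI algAB := (f.appLE W U hUW).hom.toAlgebra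
  letI algBC := (j.appLE U (j ⁻¹ᵁ U) e).hom.toAlgebra
  letI algAC := ((j ≫ f).appLE W (j ⁻¹ᵁ U) hU'W).hom.toAlgebra
  haveI : IsScalarTower Γ(Z, W) Γ(Y, U) Γ(X, j ⁻¹ᵁ U) := IsScalarTower.of_algebraMap_eq' (by
    change ((j ≫ f).appLE W (j ⁻¹ᵁ U) hU'W).hom =
      (j.appLE U (j ⁻¹ᵁ U) e).hom.comp (f.appLE W U hUW).hom
    rw [← CommRingCat.hom_comp, Scheme.Hom.appLE_comp_appLE])
  have happ : ∀ s : Γ(Y, U), j.appLE U (j ⁻¹ᵁ U) e s = j.app U s := by
    intro s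
    rw [Scheme.Hom.appLE]
    erw [CategoryTheory.Functor.map_id]
    rfl
  have hsurj' : Function.Surjective (algebraMap Γ(Y, U) Γ(X, j ⁻¹ᵁ U)) := by
    intro t
    obtain ⟨s, hs⟩ := hsurj t
    exact ⟨s, (happ s).trans hs⟩
  obtain ⟨εX, hεX⟩ := OmegaLocC.exists_sectionsEquiv (j ≫ f) dX hX hU' hW hU'W
  obtain ⟨εY, hεY⟩ := OmegaLocC.exists_sectionsEquiv f dY hY hU hW hUW
  letI : Module Γ(Y, U) Γ((Scheme.Modules.pullback j).obj ΩY, j ⁻¹ᵁ U) :=
    Module.compHom _ (j.appLE U (j ⁻¹ᵁ U) e).hom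
  haveI : IsScalarTower Γ(Y, U) Γ(X, j ⁻¹ᵁ U) Γ((Scheme.Modules.pullback j).obj ΩY, j ⁻¹ᵁ U) :=
    IsScalarTower.of_compHom _ _ _
  obtain ⟨ρ, hρ, hb⟩ := exists_isBaseChange_pbSec j ΩY hU hU' e
  have hb' : IsBaseChange Γ(X, j ⁻¹ᵁ U) (ρ ∘ₗ εY.symm.toLinearMap) :=
    IsBaseChange.comp_equiv εY.symm ρ hb
  let L : Γ((Scheme.Modules.pullback j).obj ΩY, j ⁻¹ᵁ U) →ₗ[Γ(X, j ⁻¹ᵁ U)]
      Ω[Γ(X, j ⁻¹ᵁ U)⁄Γ(Z, W)] := εX.toLinearMap ∘ₗ OmegaSeqA.appLin c (j ⁻¹ᵁ U)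
  have hL := OmegaSeqC.comp_equiv_eq (ρ ∘ₗ εY.symm.toLinearMap) hb' L
    (KaehlerDifferential.mapBaseChange Γ(Z, W) Γ(Y, U) Γ(X, j ⁻¹ᵁ U))
    (Set.range (KaehlerDifferential.D Γ(Z, W) Γ(Y, U)))
    (KaehlerDifferential.span_range_derivation _ _) (by
      rintro _ ⟨s, rfl⟩
      change εX (c.app (j ⁻¹ᵁ U) (ρ (εY.symm (KaehlerDifferential.D Γ(Z, W) Γ(Y, U) s)))) = _
      rw [← hεY s, LinearEquiv.symm_apply_apply, hρ, OmegaSeqC.c_pbSec j dY dX c hc e s, hεX,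
        KaehlerDifferential.mapBaseChange_tmul, one_smul, hεY, KaehlerDifferential.map_D]
      rfl)
  set t' := ((Scheme.Modules.pullback j).obj ΩY).presheaf.map (homOfLE hU'T).op t with ht'
  have hct' : c.app (j ⁻¹ᵁ U) t' = 0 := by
    have h1 := congr($(c.mapPresheaf.naturality (homOfLE hU'T).op) t)
    refine h1.trans ?_
    change ΩX.presheaf.map (homOfLE hU'T).op (c.app T t) = 0
    have ht0 : c.app T t = 0 := ht
    rw [ht0, map_zero]
  have hz : KaehlerDifferential.mapBaseChange Γ(Z, W) Γ(Y, U) Γ(X, j ⁻¹ᵁ U)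
      (hb'.equiv.symm t') = 0 := by
    rw [← hL, LinearEquiv.apply_symm_apply]
    change εX (c.app (j ⁻¹ᵁ U) t') = 0
    rw [hct', map_zero]
  obtain ⟨y, hy⟩ := (KaehlerDifferential.exact_kerCotangentToTensor_mapBaseChange
    Γ(Z, W) Γ(Y, U) Γ(X, j ⁻¹ᵁ U) hsurj' _).mp hz
  obtain ⟨⟨s, hs⟩, rfl⟩ := Ideal.toCotangent_surjective _ y
  rw [KaehlerDifferential.kerCotangentToTensor_toCotangent] at hy
  have hs0 : j.app U s = 0 := by
    rw [← happ]
    exact hs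
  obtain ⟨σ, hσ⟩ := exists_idealSect j hU s hs0
  refine ⟨conormalSect j U σ, ?_⟩
  change φ.app (j ⁻¹ᵁ U) (conormalSect j U σ) = t'
  rw [hφ U σ, hσ, ← pbSec_self, ← hρ]
  have h5 : t' = hb'.equiv (hb'.equiv.symm t') := (LinearEquiv.apply_symm_apply _ _).symm
  rw [h5, ← hy, IsBaseChange.equiv_tmul, one_smul]
  change _ = ρ (εY.symm _)
  rw [← hεY, LinearEquiv.symm_apply_apply]

include hφ hc hY hX in
/-- S5976 -/
theorem main : Epi c ∧ imageSubobject φ = kernelSubobject c := by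
  refine ⟨(OmegaSeqB.main f j dY hY dX hX c hc).mp inferInstance, ?_⟩
  have w := comp_zero f j dY dX φ hφ c hc
  exact (ShortComplex.exact_iff_image_eq_kernel _).mp (exact f j dY hY dX hX φ hφ c hc w)

end Conormal

end Groth.Agent.Lead.OmegaCnB
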