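import Groth.Agent.Lead.OmegaLocA
import Groth.Agent.Lead.OmegaUnivA
import Groth.Agent.Lead.OmegaSecD
import Groth.Agent.Helper4.QcohGlue
import Groth.Agent.Helper4.FTGlue
import Groth.Agent.Helper4.FPGlue
import Mathlib

/-!
# Lead: an abstract sheaf of differentials (receptacle of a universal derivation) is, on affine
pairs, the frozen `Omega.sheaf`; quasi-coherence and finiteness
-/

set_option autoImplicit false
set_option backward.isDefEq.respectTransparency false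
set_option backward.isDefEq.respectTransparency.types false
open CategoryTheory CategoryTheory.Limits AlgebraicGeometry Opposite TopologicalSpace
universe u

namespace Groth.Agent.Lead.OmegaLocB
open Scheme.Modules OmegaSh Groth.Agent.Helper4

variable {X Y : Scheme.{u}}

theorem postcomp_id {f : X ⟶ Y} {Ω : X.Modules} (d : Der f Ω) :
    d.postcomp (𝟙 Ω : Ω ⟶ Ω).val = d := by
  rw [DerA.postcomp_eq_iff]
  intro U s
  rfl

theorem postcomp_comp {f : X ⟶ Y} {Ω₁ Ω₂ Ω₃ : X.Modules} (d : Der f Ω₁) (α : Ω₁ ⟶ Ω₂)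
    (β : Ω₂ ⟶ Ω₃) : (d.postcomp α.val).postcomp β.val = d.postcomp (α ≫ β).val := by
  rw [DerA.postcomp_eq_iff]
  intro U s
  rfl

/-- two universal derivations are uniquely isomorphic -/
theorem exists_iso_of_isUniversal {f : X ⟶ Y} {Ω₁ Ω₂ : X.Modules} (d₁ : Der f Ω₁)
    (d₂ : Der f Ω₂) (h₁ : IsUniversal d₁) (h₂ : IsUniversal d₂) :
    ∃ φ : Ω₁ ≅ Ω₂, d₁.postcomp φ.hom.val = d₂ := by
  obtain ⟨α, hα, -⟩ := h₁ _ d₂
  obtain ⟨β, hβ, -⟩ := h₂ _ d₁
  change d₁.postcomp α.val = d₂ at hα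
  change d₂.postcomp β.val = d₁ at hβ
  refine ⟨⟨α, β, ?_, ?_⟩, hα⟩
  · obtain ⟨γ, -, hγ⟩ := h₁ _ d₁
    have e1 : α ≫ β = γ := hγ _ (by
      change d₁.postcomp (α ≫ β).val = d₁
      rw [← postcomp_comp, hα, hβ])
    have e2 : 𝟙 Ω₁ = γ := hγ _ (postcomp_id d₁)
    rw [e1, e2]
  · obtain ⟨γ, -, hγ⟩ := h₂ _ d₂
    have e1 : β ≫ α = γ := hγ _ (by
      change d₂.postcomp (β ≫ α).val = d₂
      rw [← postcomp_comp, hβ, hα])
    have e2 : 𝟙 Ω₂ = γ := hγ _ (postcomp_id d₂)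
    rw [e1, e2]

variable (f : X ⟶ Y) {U : X.Opens} {V : Y.Opens} (e : U ≤ f ⁻¹ᵁ V)

theorem quasiSeparated_resLE (hU : IsAffineOpen U) (hV : IsAffineOpen V) :
    QuasiSeparated (f.resLE V U e) := by
  haveI : IsAffine (U : Scheme.{u}) := hU
  haveI : IsAffine (V : Scheme.{u}) := hV
  infer_instance

/-- on an affine pair, an abstract sheaf of differentials is the frozen one -/
theorem exists_iso_restrict (hU : IsAffineOpen U) (hV : IsAffineOpen V) {Ω' : X.Modules}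
    (d : Der f Ω') (hd : IsUniversal d) :
    haveI := quasiSeparated_resLE f e hU hV
    ∃ φ : Ω'.restrict U.ι ≅ Omega.sheaf (f.resLE V U e),
      (OmegaLocA.restrictDer f e d).postcomp φ.hom.val = dOmega (f.resLE V U e) := by
  haveI := quasiSeparated_resLE f e hU hV
  exact exists_iso_of_isUniversal _ _ (OmegaLocA.isUniversal_restrictDer f e d hd)
    (OmegaUnivA.isUniversal (f.resLE V U e))

/-- an abstract sheaf of differentials is quasi-coherent -/
theorem isQuasicoherent_of_isUniversal {Ω' : X.Modules} (d : Der f Ω') (hd : IsUniversal d) :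
    Ω'.IsQuasicoherent := by
  apply QcohGlue.isQuasicoherent_of_affine_cover
  intro x
  obtain ⟨U, V, hU, hV, hxU, hUV⟩ := OmegaSecB.exists_affine_pair f x
  refine ⟨U, hU, hxU, ?_⟩
  obtain ⟨φ, -⟩ := exists_iso_restrict f hUV hU hV d hd
  haveI := quasiSeparated_resLE f hUV hU hV
  have hcomp : hU.isoSpec.inv ≫ U.ι = hU.fromSpec := rfl
  let iso : Ω'.restrict hU.fromSpec ≅
      (Omega.sheaf (f.resLE V U hUV)).restrict hU.isoSpec.inv :=
    (restrictFunctorCongr hcomp.symm).app Ω' ≪≫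
      (restrictFunctorComp hU.isoSpec.inv U.ι).app Ω' ≪≫
      (restrictFunctor hU.isoSpec.inv).mapIso φ
  have hq : ((Omega.sheaf (f.resLE V U hUV)).restrict hU.isoSpec.inv).IsQuasicoherent :=
    inferInstance
  exact (SheafOfModules.isQuasicoherent.{u} (Spec Γ(X, U)).ringCatSheaf).prop_of_iso iso.symm hq

/-- the sections of an isomorphism, as a linear equivalence -/
noncomputable def appEquiv {M N : X.Modules} (φ : M ≅ N) (W : X.Opens) :
    Γ(M, W) ≃ₗ[Γ(X, W)] Γ(N, W) where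
  toFun := φ.hom.app W
  invFun := φ.inv.app W
  map_add' := map_add _
  map_smul' r m := Scheme.Modules.Hom.app_smul φ.hom r m
  left_inv m := by
    change (φ.hom ≫ φ.inv).app W m = m
    rw [Iso.hom_inv_id]; rfl
  right_inv m := by
    change (φ.inv ≫ φ.hom).app W m = m
    rw [Iso.inv_hom_id]; rfl

/-- the global sections of `M|_U` are the sections of `M` over (the image of) `U` -/
noncomputable def restrictTopEquiv (M : X.Modules) (U : X.Opens) :
    letI : Module Γ(U, ⊤) Γ(M, U.ι ''ᵁ ⊤) :=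
      inferInstanceAs (Module Γ(X, U.ι ''ᵁ ⊤) Γ(M, U.ι ''ᵁ ⊤))
    Γ(M.restrict U.ι, ⊤) ≃ₗ[Γ(U, ⊤)] Γ(M, U.ι ''ᵁ ⊤) :=
  letI : Module Γ(U, ⊤) Γ(M, U.ι ''ᵁ ⊤) :=
    inferInstanceAs (Module Γ(X, U.ι ''ᵁ ⊤) Γ(M, U.ι ''ᵁ ⊤))
  { toFun := fun m => m
    invFun := fun m => m
    map_add' := fun _ _ => rfl
    map_smul' := fun a m => OmegaLocA.restrict_smul M ⊤ a m
    left_inv := fun _ => rfl
    right_inv := fun _ => rfl }

theorem finite_image_top {M : X.Modules} {U : X.Opens} {N : (U : Scheme.{u}).Modules}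
    (φ : M.restrict U.ι ≅ N) (h : Module.Finite Γ(U, ⊤) Γ(N, ⊤)) :
    Module.Finite Γ(X, U.ι ''ᵁ ⊤) Γ(M, U.ι ''ᵁ ⊤) := by
  letI : Module Γ(U, ⊤) Γ(M, U.ι ''ᵁ ⊤) :=
    inferInstanceAs (Module Γ(X, U.ι ''ᵁ ⊤) Γ(M, U.ι ''ᵁ ⊤))
  have h2 : Module.Finite Γ(U, ⊤) Γ(M, U.ι ''ᵁ ⊤) :=
    Module.Finite.equiv (R := Γ(U, ⊤)) ((appEquiv φ ⊤).symm.trans (restrictTopEquiv M U))
  exact h2

theorem finitePresentation_image_top {M : X.Modules} {U : X.Opens}
    {N : (U : Scheme.{u}).Modules}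
    (φ : M.restrict U.ι ≅ N) (h : Module.FinitePresentation Γ(U, ⊤) Γ(N, ⊤)) :
    Module.FinitePresentation Γ(X, U.ι ''ᵁ ⊤) Γ(M, U.ι ''ᵁ ⊤) := by
  letI : Module Γ(U, ⊤) Γ(M, U.ι ''ᵁ ⊤) :=
    inferInstanceAs (Module Γ(X, U.ι ''ᵁ ⊤) Γ(M, U.ι ''ᵁ ⊤))
  have h2 : Module.FinitePresentation Γ(U, ⊤) Γ(M, U.ι ''ᵁ ⊤) :=
    Module.FinitePresentation.of_equiv (R := Γ(U, ⊤))
      ((appEquiv φ ⊤).symm.trans (restrictTopEquiv M U))
  exact h2

/-- S9387 -/
theorem isFT_of_isUniversal [LocallyOfFiniteType f] {Ω' : X.Modules} (d : Der f Ω')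
    (hd : IsUniversal d) : CohB1.IsFT Ω' := by
  haveI := isQuasicoherent_of_isUniversal f d hd
  apply FTGlue.isFiniteType_of_finite_sections
  intro x
  obtain ⟨U, V, hU, hV, hxU, hUV⟩ := OmegaSecB.exists_affine_pair f x
  refine ⟨U.ι ''ᵁ ⊤, by rw [U.ι_image_top]; exact hU, by rw [U.ι_image_top]; exact hxU, ?_⟩
  obtain ⟨φ, -⟩ := exists_iso_restrict f hUV hU hV d hd
  haveI := quasiSeparated_resLE f hUV hU hV
  haveI : IsAffine (U : Scheme.{u}) := hU
  apply finite_image_top φ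
  exact SecDict.finite_sections (isAffineOpen_top _) _ inferInstance
    (OmegaSecB.isFiniteType_omega (f.resLE V U hUV))

/-- S9388 -/
theorem isFP_of_isUniversal [LocallyOfFinitePresentation f] {Ω' : X.Modules} (d : Der f Ω')
    (hd : IsUniversal d) : CohB1.IsFP Ω' := by
  haveI := isQuasicoherent_of_isUniversal f d hd
  apply FPGlue.isFinitePresentation_of_fp_sections
  intro x
  obtain ⟨U, V, hU, hV, hxU, hUV⟩ := OmegaSecB.exists_affine_pair f x
  refine ⟨U.ι ''ᵁ ⊤, by rw [U.ι_image_top]; exact hU, by rw [U.ι_image_top]; exact hxU, ?_⟩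
  obtain ⟨φ, -⟩ := exists_iso_restrict f hUV hU hV d hd
  haveI := quasiSeparated_resLE f hUV hU hV
  haveI : IsAffine (U : Scheme.{u}) := hU
  apply finitePresentation_image_top φ
  exact FPGlue.fp_sections _ (OmegaSecB.isFinitePresentation_omega (f.resLE V U hUV))
    (isAffineOpen_top _)

theorem isZero_of_restrict {M : X.Modules}
    (h : ∀ x : X, ∃ (U : X.Opens) (V : Y.Opens) (_ : IsAffineOpen U) (_ : IsAffineOpen V)
      (_ : x ∈ U) (_ : U ≤ f ⁻¹ᵁ V), IsZero (M.restrict U.ι)) : IsZero M := by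
  rw [IsZero.iff_id_eq_zero]
  apply Scheme.Modules.hom_ext
  intro W
  apply AddCommGrpCat.hom_ext
  apply AddMonoidHom.ext
  intro m
  choose U V hU hV hxU hUV hz using h
  apply Groth.Agent.Helper1.BasisHom.section_ext_of_cover M W (fun k : W => U k.1 ⊓ W)
    (fun k => inf_le_right) (fun x hx => Opens.mem_iSup.mpr ⟨⟨x, hx⟩, hxU x, hx⟩)
  intro k
  have h1 : Subsingleton Γ(M, (U k.1).ι ''ᵁ ((U k.1).ι ⁻¹ᵁ W)) :=
    OmegaSecD.subsingleton_sections_of_isZero _ (hz k.1) ((U k.1).ι ⁻¹ᵁ W)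
  have h2 : (U k.1).ι ''ᵁ ((U k.1).ι ⁻¹ᵁ W) = U k.1 ⊓ W := by
    rw [Scheme.Hom.image_preimage_eq_opensRange_inf, Scheme.Opens.opensRange_ι]
  rw [h2] at h1
  exact Subsingleton.elim _ _

/-- S5937 -/
theorem formallyUnramified_iff_isZero {Ω' : X.Modules} (d : Der f Ω') (hd : IsUniversal d) :
    FormallyUnramified f ↔ IsZero Ω' := by
  constructor
  · intro h
    apply isZero_of_restrict f
    intro x
    obtain ⟨U, V, hU, hV, hxU, hUV⟩ := OmegaSecB.exists_affine_pair f x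
    refine ⟨U, V, hU, hV, hxU, hUV, ?_⟩
    obtain ⟨φ, -⟩ := exists_iso_restrict f hUV hU hV d hd
    haveI := quasiSeparated_resLE f hUV hU hV
    have h1 : FormallyUnramified (f.resLE V U hUV) := IsZariskiLocalAtSource.resLE hUV h
    exact ((OmegaSecD.main (f.resLE V U hUV)).mp h1).of_iso φ
  · intro h
    haveI : MorphismProperty.RespectsRight @FormallyUnramified @IsOpenImmersion :=
      ⟨fun i hi g hg => MorphismProperty.comp_mem _ _ _ hg inferInstance⟩
    rw [IsZariskiLocalAtSource.iff_exists_resLE (P := @FormallyUnramified)]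
    intro x
    obtain ⟨U, V, hU, hV, hxU, hUV⟩ := OmegaSecB.exists_affine_pair f x
    refine ⟨V, U, hxU, hUV, ?_⟩
    obtain ⟨φ, -⟩ := exists_iso_restrict f hUV hU hV d hd
    haveI := quasiSeparated_resLE f hUV hU hV
    rw [OmegaSecD.main]
    refine IsZero.of_iso ?_ φ.symm
    rw [IsZero.iff_id_eq_zero]
    apply Scheme.Modules.hom_ext
    intro W
    apply AddCommGrpCat.hom_ext
    apply AddMonoidHom.ext
    intro m
    haveI : Subsingleton Γ(Ω', U.ι ''ᵁ W) := OmegaSecD.subsingleton_sections_of_isZero _ h _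
    exact Subsingleton.elim (α := Γ(Ω', U.ι ''ᵁ W)) _ _

end Groth.Agent.Lead.OmegaLocB
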