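import Mathlib

/-! Lifting étale algebras along a quotient map `R → R/I`. -/

namespace Groth.Agent.Lead.EtaleLift

open TensorProduct MvPolynomial

universe u

section iso

variable {R : Type u} [CommRing R] (I : Ideal R) {Sb : Type u} [CommRing Sb]
  [Algebra (R ⧸ I) Sb] [Algebra R Sb] [IsScalarTower R (R ⧸ I) Sb]
  {ι σ : Type*} (P : Algebra.Presentation (R ⧸ I) Sb ι σ) (r : σ → MvPolynomial ι R)

theorem aeval_eq (p : MvPolynomial ι R) :
    MvPolynomial.aeval P.val (MvPolynomial.map (Ideal.Quotient.mk I) p) =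
      MvPolynomial.aeval (R := R) P.val p :=
  MvPolynomial.aeval_map_algebraMap (R ⧸ I) P.val p

/-- The canonical map `R[X]/(r) → Sb`. -/
noncomputable def phi1 (hr : ∀ j, MvPolynomial.map (Ideal.Quotient.mk I) (r j) = P.relation j) :
    (MvPolynomial ι R ⧸ Ideal.span (Set.range r)) →ₐ[R] Sb :=
  Ideal.Quotient.liftₐ _ (MvPolynomial.aeval (R := R) P.val) (by
    have hle : Ideal.span (Set.range r) ≤
        RingHom.ker (MvPolynomial.aeval (R := R) P.val : MvPolynomial ι R →ₐ[R] Sb) := by
      rw [Ideal.span_le]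
      rintro _ ⟨j, rfl⟩
      simp only [SetLike.mem_coe, RingHom.mem_ker]
      rw [← aeval_eq I P (r j), hr j, P.aeval_val_relation]
    intro a ha
    exact hle ha)

theorem phi1_mk (hr : ∀ j, MvPolynomial.map (Ideal.Quotient.mk I) (r j) = P.relation j)
    (p : MvPolynomial ι R) :
    phi1 I P r hr (Ideal.Quotient.mk _ p) = MvPolynomial.aeval (R := R) P.val p := rfl

theorem nonempty_iso (hr : ∀ j, MvPolynomial.map (Ideal.Quotient.mk I) (r j) = P.relation j)
    (Δ : MvPolynomial ι R ⧸ Ideal.span (Set.range r)) (hΔ : IsUnit (phi1 I P r hr Δ)) :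
    Nonempty (((R ⧸ I) ⊗[R] Localization.Away Δ) ≃ₐ[R ⧸ I] Sb) := by
  classical
  let S₁ := MvPolynomial ι R ⧸ Ideal.span (Set.range r)
  let S := Localization.Away Δ
  -- φ_S
  have hunits : ∀ y : Submonoid.powers Δ, IsUnit (phi1 I P r hr y) := by
    rintro ⟨_, n, rfl⟩
    rw [map_pow]
    exact hΔ.pow n
  let φS : S →ₐ[R] Sb := IsLocalization.liftAlgHom (M := Submonoid.powers Δ) hunits
  have hφS : ∀ x : S₁, φS (algebraMap S₁ S x) = phi1 I P r hr x := fun x => by
    simp only [φS, IsLocalization.coe_liftAlgHom]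
    exact IsLocalization.lift_eq _ _
  let φ : (R ⧸ I) ⊗[R] S →ₐ[R ⧸ I] Sb :=
    Algebra.TensorProduct.lift (Algebra.ofId (R ⧸ I) Sb) φS (fun _ _ => Commute.all _ _)
  -- ψ₀
  let ψ₀ : MvPolynomial ι (R ⧸ I) →ₐ[R ⧸ I] (R ⧸ I) ⊗[R] S :=
    MvPolynomial.aeval (fun i => (1 : R ⧸ I) ⊗ₜ[R] algebraMap S₁ S (Ideal.Quotient.mk _ (X i)))
  have key₀ : ∀ p : MvPolynomial ι R, ψ₀ (MvPolynomial.map (Ideal.Quotient.mk I) p) =
      (1 : R ⧸ I) ⊗ₜ[R] algebraMap S₁ S (Ideal.Quotient.mk _ p) := by
    intro p
    induction p using MvPolynomial.induction_on with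
    | C a =>
      simp only [MvPolynomial.map_C, ψ₀, MvPolynomial.aeval_C]
      rw [Algebra.TensorProduct.algebraMap_apply, Algebra.algebraMap_self, RingHom.id_apply]
      have : (Ideal.Quotient.mk (Ideal.span (Set.range r))) (C a) = algebraMap R S₁ a := rfl
      rw [this, ← IsScalarTower.algebraMap_apply R S₁ S, Algebra.algebraMap_eq_smul_one a,
        TensorProduct.tmul_smul, TensorProduct.smul_tmul']
      congr 1
      rw [Algebra.smul_def, mul_one]
      rfl
    | add p q hp hq =>
      rw [map_add, map_add, hp, hq, map_add, map_add, TensorProduct.tmul_add]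
    | mul_X p i hp =>
      rw [map_mul, map_mul, hp, map_mul, map_mul, MvPolynomial.map_X]
      simp only [ψ₀, MvPolynomial.aeval_X]
      rw [Algebra.TensorProduct.tmul_mul_tmul, one_mul]
  have hψ₀ : ∀ p ∈ P.ker, ψ₀ p = 0 := by
    have hle : P.ker ≤ RingHom.ker ψ₀ := by
      rw [← P.span_range_relation_eq_ker, Ideal.span_le]
      rintro _ ⟨j, rfl⟩
      simp only [SetLike.mem_coe, RingHom.mem_ker]
      rw [← hr j, key₀]
      have : (Ideal.Quotient.mk (Ideal.span (Set.range r))) (r j) = 0 :=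
        Ideal.Quotient.eq_zero_iff_mem.mpr (Ideal.subset_span ⟨j, rfl⟩)
      rw [this, map_zero, TensorProduct.tmul_zero]
    intro p hp
    exact hle hp
  let ψ' : P.Quotient →ₐ[R ⧸ I] (R ⧸ I) ⊗[R] S := Ideal.Quotient.liftₐ P.ker ψ₀ hψ₀
  let ψ : Sb →ₐ[R ⧸ I] (R ⧸ I) ⊗[R] S :=
    ψ'.comp (AlgEquiv.restrictScalars (R ⧸ I) P.quotientEquiv.symm).toAlgHom
  have hψ : ∀ p : P.Ring, ψ (algebraMap P.Ring Sb p) = ψ₀ p := by
    intro p
    have : P.quotientEquiv.symm (algebraMap P.Ring Sb p) = Ideal.Quotient.mk _ p := by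
      rw [AlgEquiv.symm_apply_eq]
      rfl
    show ψ' (P.quotientEquiv.symm (algebraMap P.Ring Sb p)) = ψ₀ p
    rw [this]
    rfl
  -- φ ∘ ψ = id
  have h1 : φ.comp ψ = AlgHom.id (R ⧸ I) Sb := by
    apply AlgHom.ext
    intro s
    obtain ⟨p, rfl⟩ := P.algebraMap_surjective s
    rw [AlgHom.comp_apply, hψ, AlgHom.id_apply]
    have : φ.comp ψ₀ = (IsScalarTower.toAlgHom (R ⧸ I) P.Ring Sb) := by
      apply MvPolynomial.algHom_ext
      intro i
      simp only [AlgHom.comp_apply, ψ₀, MvPolynomial.aeval_X, φ,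
        Algebra.TensorProduct.lift_tmul, map_one, one_mul, hφS, phi1_mk,
        IsScalarTower.toAlgHom_apply]
      rw [Algebra.Generators.algebraMap_apply]
      simp
    exact AlgHom.congr_fun this p
  -- ψ ∘ φ = id
  have h2 : ψ.comp φ = AlgHom.id (R ⧸ I) ((R ⧸ I) ⊗[R] S) := by
    apply Algebra.TensorProduct.ext'
    intro a s
    have hs : ψ (φS s) = (1 : R ⧸ I) ⊗ₜ[R] s := by
      have hring : (ψ.toRingHom.comp φS.toRingHom) =
          (Algebra.TensorProduct.includeRight (R := R) (A := R ⧸ I) (B := S)).toRingHom := by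
        apply IsLocalization.ringHom_ext (Submonoid.powers Δ)
        apply RingHom.ext
        intro x
        obtain ⟨p, rfl⟩ := Ideal.Quotient.mk_surjective x
        show ψ (φS (algebraMap S₁ S (Ideal.Quotient.mk _ p))) =
          (1 : R ⧸ I) ⊗ₜ[R] algebraMap S₁ S (Ideal.Quotient.mk _ p)
        rw [hφS, phi1_mk, ← aeval_eq I P p, ← Algebra.Generators.algebraMap_apply, hψ, key₀]
      exact RingHom.congr_fun hring s
    simp only [AlgHom.comp_apply, φ, Algebra.TensorProduct.lift_tmul, AlgHom.id_apply]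
    rw [map_mul, hs, Algebra.ofId_apply, AlgHom.commutes, Algebra.TensorProduct.algebraMap_apply,
      Algebra.algebraMap_self, RingHom.id_apply, Algebra.TensorProduct.tmul_mul_tmul, mul_one,
      one_mul]
  exact ⟨AlgEquiv.ofAlgHom φ ψ h1 h2⟩

end iso


theorem exists_etale_lift (R : Type u) [CommRing R] (I : Ideal R) (Sb : Type u)
    [CommRing Sb] [Algebra (R ⧸ I) Sb] [Algebra.Etale (R ⧸ I) Sb] :
    ∃ (S : Type u) (_ : CommRing S) (_ : Algebra R S), Algebra.Etale R S ∧
      Nonempty (((R ⧸ I) ⊗[R] S) ≃ₐ[R ⧸ I] Sb) := by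
  classical
  letI : Algebra R Sb := ((algebraMap (R ⧸ I) Sb).comp (Ideal.Quotient.mk I)).toAlgebra
  haveI : IsScalarTower R (R ⧸ I) Sb := IsScalarTower.of_algebraMap_eq fun _ => rfl
  obtain ⟨ι, σ, _, _, P, hP⟩ :=
    (Algebra.Etale.iff_isStandardSmoothOfRelativeDimension_zero.mp
      (inferInstance : Algebra.Etale (R ⧸ I) Sb)).out
  have hsurj : Function.Surjective (MvPolynomial.map (σ := ι) (Ideal.Quotient.mk I)) :=
    MvPolynomial.map_surjective _ Ideal.Quotient.mk_surjective
  choose r hr using fun j : σ => hsurj (P.relation j)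
  cases nonempty_fintype σ
  let Q₁ : Algebra.PreSubmersivePresentation R
      (MvPolynomial ι R ⧸ Ideal.span (Set.range r)) ι σ :=
    Algebra.PreSubmersivePresentation.naive P.map P.map_inj
  let Δ₁ : MvPolynomial ι R ⧸ Ideal.span (Set.range r) := Q₁.jacobian
  let Q₂ : Algebra.SubmersivePresentation (MvPolynomial ι R ⧸ Ideal.span (Set.range r))
      (Localization.Away Δ₁) Unit Unit :=
    Algebra.SubmersivePresentation.localizationAway (Localization.Away Δ₁) Δ₁
  let Q : Algebra.SubmersivePresentation R (Localization.Away Δ₁) (Unit ⊕ ι) (Unit ⊕ σ) :=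
    { toPreSubmersivePresentation := Q₂.toPreSubmersivePresentation.comp Q₁
      jacobian_isUnit := by
        rw [Algebra.PreSubmersivePresentation.comp_jacobian_eq_jacobian_smul_jacobian,
          Algebra.smul_def]
        refine IsUnit.mul ?_ Q₂.jacobian_isUnit
        exact IsLocalization.map_units _ (⟨Δ₁, 1, by simp⟩ : Submonoid.powers Δ₁) }
  have hdim : Q.dimension = 0 := by
    have h1 : (Q₂.toPreSubmersivePresentation.comp Q₁).dimension =
        Q₂.toPreSubmersivePresentation.dimension + Q₁.dimension :=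
      Algebra.PreSubmersivePresentation.dimension_comp_eq_dimension_add_dimension _ _
    have h2 : Q₂.toPreSubmersivePresentation.dimension = 0 :=
      Algebra.Presentation.localizationAway_dimension_zero Δ₁
    have h3 : Q₁.dimension = 0 := hP
    show (Q₂.toPreSubmersivePresentation.comp Q₁).dimension = 0
    rw [h1, h2, h3]
  haveI : Algebra.IsStandardSmoothOfRelativeDimension 0 R (Localization.Away Δ₁) :=
    Q.isStandardSmoothOfRelativeDimension hdim
  refine ⟨Localization.Away Δ₁, inferInstance, inferInstance,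
    Algebra.Etale.iff_isStandardSmoothOfRelativeDimension_zero.mpr inferInstance, ?_⟩
  refine nonempty_iso I P.toPresentation r hr Δ₁ ?_
  -- the image of the jacobian is the jacobian of `P`
  have : phi1 I P.toPresentation r hr Δ₁ = P.jacobian := by
    show phi1 I P.toPresentation r hr Q₁.jacobian = P.jacobian
    rw [Algebra.PreSubmersivePresentation.jacobian_eq_jacobiMatrix_det,
      Algebra.PreSubmersivePresentation.jacobian_eq_jacobiMatrix_det]
    have h1 : algebraMap Q₁.Ring (MvPolynomial ι R ⧸ Ideal.span (Set.range r))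
        Q₁.jacobiMatrix.det = Ideal.Quotient.mk _ Q₁.jacobiMatrix.det := rfl
    rw [h1, phi1_mk, ← aeval_eq I P.toPresentation, Algebra.Generators.algebraMap_apply]
    congr 1
    rw [RingHom.map_det]
    congr 1
    ext i j : 1
    simp only [RingHom.mapMatrix_apply, Matrix.map_apply,
      Algebra.PreSubmersivePresentation.jacobiMatrix_apply]
    rw [← hr j, MvPolynomial.pderiv_map]
    rfl
  rw [this]
  exact P.jacobian_isUnit


/-- Quotient form with explicit surjection: an étale `P/I`-algebra `B` lifts to an étale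
`P`-algebra `S` with a surjection `ψ : S → B` of `P`-algebras whose kernel is `I S`. -/
theorem exists_etale_lift_quot (P : Type u) [CommRing P] (I : Ideal P) (B : Type u) [CommRing B]
    [Algebra (P ⧸ I) B] [Algebra.Etale (P ⧸ I) B] [Algebra P B] [IsScalarTower P (P ⧸ I) B] :
    ∃ (S : Type u) (_ : CommRing S) (_ : Algebra P S) (ψ : S →ₐ[P] B), Algebra.Etale P S ∧
      Function.Surjective ψ ∧ RingHom.ker ψ.toRingHom = I.map (algebraMap P S) := by
  classical
  obtain ⟨S, _, _, hS, ⟨e⟩⟩ := exists_etale_lift P I B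
  let ψ : S →ₐ[P] B := (e.toAlgHom.restrictScalars P).comp
    (Algebra.TensorProduct.includeRight (R := P) (A := P ⧸ I) (B := S))
  have hψapply : ∀ s : S, ψ s = e ((1 : P ⧸ I) ⊗ₜ[P] s) := fun s => rfl
  refine ⟨S, inferInstance, inferInstance, ψ, hS, ?_, ?_⟩
  · intro b
    obtain ⟨z, rfl⟩ := e.surjective b
    have hz : ∃ s : S, z = (1 : P ⧸ I) ⊗ₜ[P] s := by
      induction z using TensorProduct.induction_on with
      | zero => exact ⟨0, (TensorProduct.tmul_zero _ _).symm⟩
      | tmul a s =>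
        obtain ⟨p, rfl⟩ := Ideal.Quotient.mk_surjective a
        refine ⟨p • s, ?_⟩
        rw [TensorProduct.tmul_smul, TensorProduct.smul_tmul', Algebra.smul_def, mul_one]
        rfl
      | add z₁ z₂ h₁ h₂ =>
        obtain ⟨s₁, rfl⟩ := h₁
        obtain ⟨s₂, rfl⟩ := h₂
        exact ⟨s₁ + s₂, (TensorProduct.tmul_add _ _ _).symm⟩
    obtain ⟨s, rfl⟩ := hz
    exact ⟨s, rfl⟩
  · apply le_antisymm
    · intro s hs
      have h0 : ψ s = 0 := hs
      rw [hψapply] at h0
      have h1 : (1 : P ⧸ I) ⊗ₜ[P] s = 0 := by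
        rw [← map_zero e] at h0
        exact e.injective h0
      have h2 := congrArg (TensorProduct.quotTensorEquivQuotSMul S I) h1
      rw [map_zero, ← map_one (Ideal.Quotient.mk I),
        TensorProduct.quotTensorEquivQuotSMul_mk_tmul, one_smul,
        Submodule.Quotient.mk_eq_zero, Ideal.smul_top_eq_map] at h2
      exact h2
    · rw [Ideal.map_le_iff_le_comap]
      intro x hx
      rw [Ideal.mem_comap]
      show ψ (algebraMap P S x) = 0
      rw [AlgHom.commutes, IsScalarTower.algebraMap_apply P (P ⧸ I) B]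
      have : algebraMap P (P ⧸ I) x = 0 := Ideal.Quotient.eq_zero_iff_mem.mpr hx
      rw [this, map_zero]

/-- Surjection form: if `P → A` is surjective and `B` is étale over `A`, then there is an étale
`P`-algebra `S` with a surjection `ψ : S → B` of `P`-algebras whose kernel is `ker(P → A) S`. -/
theorem exists_etale_lift' (P A B : Type u) [CommRing P] [CommRing A] [CommRing B] [Algebra P A]
    [Algebra A B] [Algebra P B] [IsScalarTower P A B]
    (hsurj : Function.Surjective (algebraMap P A)) [Algebra.Etale A B] :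
    ∃ (S : Type u) (_ : CommRing S) (_ : Algebra P S) (ψ : S →ₐ[P] B), Algebra.Etale P S ∧
      Function.Surjective ψ ∧
      RingHom.ker ψ.toRingHom = (RingHom.ker (algebraMap P A)).map (algebraMap P S) := by
  classical
  set I : Ideal P := RingHom.ker (algebraMap P A) with hI
  let eA : (P ⧸ I) ≃+* A := RingHom.quotientKerEquivOfSurjective hsurj
  have heA : ∀ p : P, eA (Ideal.Quotient.mk I p) = algebraMap P A p := fun p => rfl
  letI : Algebra (P ⧸ I) B := ((algebraMap A B).comp (eA : (P ⧸ I) →+* A)).toAlgebra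
  have hmap : algebraMap (P ⧸ I) B = (algebraMap A B).comp (eA : (P ⧸ I) →+* A) := rfl
  have hst : ∀ p : P, algebraMap P B p = algebraMap (P ⧸ I) B (algebraMap P (P ⧸ I) p) :=
    fun p => by
      show algebraMap P B p = algebraMap A B (eA (Ideal.Quotient.mk I p))
      rw [heA, ← IsScalarTower.algebraMap_apply P A B]
  haveI : IsScalarTower P (P ⧸ I) B := IsScalarTower.of_algebraMap_eq hst
  haveI : Algebra.Etale (P ⧸ I) B := by
    rw [← RingHom.etale_algebraMap, hmap]
    have h1 : (algebraMap A B).Etale := RingHom.etale_algebraMap.mpr inferInstance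
    exact RingHom.Etale.respectsIso.2 _ eA h1
  exact exists_etale_lift_quot P I B

end Groth.Agent.Lead.EtaleLift
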