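import Mathlib

set_option autoImplicit false
open TensorProduct

namespace Groth.Agent.Lead.AlgClosedTensor

variable {k : Type*} [Field k] [IsAlgClosed k]

/-- Nullstellensatz: a nonzero element of a reduced finite type algebra over an algebraically
closed field is nonzero at some `k`-point. -/
theorem exists_algHom_ne_zero (A : Type*) [CommRing A] [Algebra k A] [Algebra.FiniteType k A]
    [IsReduced A] (a : A) (ha : a ≠ 0) : ∃ ψ : A →ₐ[k] k, ψ a ≠ 0 := by
  have hJ : IsJacobsonRing A := isJacobsonRing_of_finiteType (A := k)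
  have hbot : (⊥ : Ideal A).jacobson = ⊥ := hJ.out' ⊥ (by
    rw [← Ideal.radical_eq_iff]
    exact (nilradical_eq_zero A))
  have ha' : a ∉ (⊥ : Ideal A).jacobson := by rw [hbot]; simpa using ha
  rw [Ideal.jacobson, Submodule.mem_sInf] at ha'
  push Not at ha'
  obtain ⟨m, ⟨-, hm⟩, ham⟩ := ha'
  have hm' : Ideal.IsMaximal (m : Ideal A) := hm
  let _ : Field (A ⧸ m) := Ideal.Quotient.field m
  have hft : Algebra.FiniteType k (A ⧸ m) :=
    Algebra.FiniteType.of_surjective (Ideal.Quotient.mkₐ k m) (Ideal.Quotient.mkₐ_surjective k m)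
  have hfin : Module.Finite k (A ⧸ m) := finite_of_finite_type_of_isJacobsonRing k (A ⧸ m)
  have hint : Algebra.IsIntegral k (A ⧸ m) := inferInstance
  have hbij : Function.Bijective (algebraMap k (A ⧸ m)) :=
    IsAlgClosed.algebraMap_bijective_of_isIntegral
  let e : k ≃ₐ[k] (A ⧸ m) := AlgEquiv.ofBijective (Algebra.ofId k (A ⧸ m)) hbij
  refine ⟨(e.symm : (A ⧸ m) →ₐ[k] k).comp (Ideal.Quotient.mkₐ k m), ?_⟩
  intro h0
  apply ham
  rw [← Ideal.Quotient.eq_zero_iff_mem]
  have : e.symm (Ideal.Quotient.mk m a) = 0 := h0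
  exact (map_eq_zero_iff e.symm e.symm.injective).mp this

/-- the tensor product of two field extensions of an algebraically closed field has no zero
divisors -/
theorem noZeroDivisors_tensor (K L : Type*) [Field K] [Field L] [Algebra k K] [Algebra k L] :
    NoZeroDivisors (K ⊗[k] L) := by
  classical
  constructor
  intro x y hxy
  by_contra hne
  push Not at hne
  obtain ⟨hx, hy⟩ := hne
  let bL := Module.Basis.ofVectorSpace k L
  let B : Module.Basis _ K (K ⊗[k] L) := Algebra.TensorProduct.basis K bL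
  set c := B.repr x with hcdef
  set d := B.repr y with hddef
  have hc : c ≠ 0 := by
    intro h
    apply hx
    exact B.repr.map_eq_zero_iff.mp h
  have hd : d ≠ 0 := by
    intro h
    apply hy
    exact B.repr.map_eq_zero_iff.mp h
  obtain ⟨i0, hi0⟩ := Finsupp.support_nonempty_iff.mpr hc
  obtain ⟨j0, hj0⟩ := Finsupp.support_nonempty_iff.mpr hd
  let S : Finset K := c.support.image c ∪ d.support.image d
  let A : Subalgebra k K := Algebra.adjoin k (S : Set K)
  have hcA : ∀ i, c i ∈ A := by
    intro i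
    by_cases hi : i ∈ c.support
    · apply Algebra.subset_adjoin
      simp only [S, Finset.coe_union, Finset.coe_image, Set.mem_union, Set.mem_image]
      exact Or.inl ⟨i, hi, rfl⟩
    · rw [Finsupp.notMem_support_iff.mp hi]
      exact zero_mem _
  have hdA : ∀ j, d j ∈ A := by
    intro j
    by_cases hj : j ∈ d.support
    · apply Algebra.subset_adjoin
      simp only [S, Finset.coe_union, Finset.coe_image, Set.mem_union, Set.mem_image]
      exact Or.inr ⟨j, hj, rfl⟩
    · rw [Finsupp.notMem_support_iff.mp hj]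
      exact zero_mem _
  have hfg : Algebra.FiniteType k A :=
    (Subalgebra.fg_iff_finiteType A).mp (Subalgebra.fg_adjoin_finset S)
  let x' : A ⊗[k] L := ∑ i ∈ c.support, (⟨c i, hcA i⟩ : A) ⊗ₜ[k] bL i
  let y' : A ⊗[k] L := ∑ j ∈ d.support, (⟨d j, hdA j⟩ : A) ⊗ₜ[k] bL j
  let ιA : A ⊗[k] L →ₐ[k] K ⊗[k] L := Algebra.TensorProduct.map A.val (AlgHom.id k L)
  have hιx : ιA x' = x := by
    simp only [x', ιA, map_sum, Algebra.TensorProduct.map_tmul, Subalgebra.coe_val,
      AlgHom.coe_id, id_eq]
    conv_rhs => rw [← B.linearCombination_repr x]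
    rw [Finsupp.linearCombination_apply, Finsupp.sum]
    refine Finset.sum_congr rfl fun i _ => ?_
    exact (Algebra.TensorProduct.basis_repr_symm_apply' bL (c i) i).symm
  have hιy : ιA y' = y := by
    simp only [y', ιA, map_sum, Algebra.TensorProduct.map_tmul, Subalgebra.coe_val,
      AlgHom.coe_id, id_eq]
    conv_rhs => rw [← B.linearCombination_repr y]
    rw [Finsupp.linearCombination_apply, Finsupp.sum]
    refine Finset.sum_congr rfl fun j _ => ?_
    exact (Algebra.TensorProduct.basis_repr_symm_apply' bL (d j) j).symm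
  have hιinj : Function.Injective ιA := by
    have h1 : Function.Injective (A.val.toLinearMap.rTensor L) :=
      Module.Flat.rTensor_preserves_injective_linearMap _ Subtype.val_injective
    have h2 : ∀ z, ιA z = (A.val.toLinearMap.rTensor L) z := by
      intro z
      induction z using TensorProduct.induction_on with
      | zero => simp
      | tmul a b => simp [ιA]
      | add z w hz hw => rw [map_add, map_add, hz, hw]
    intro z w hzw
    apply h1
    rw [← h2, ← h2, hzw]
  have hxy' : x' * y' = 0 := hιinj (by rw [map_mul, hιx, hιy, hxy, map_zero])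
  let a : A := ⟨c i0, hcA i0⟩ * ⟨d j0, hdA j0⟩
  have hci0 : c i0 ≠ 0 := Finsupp.mem_support_iff.mp hi0
  have hdj0 : d j0 ≠ 0 := Finsupp.mem_support_iff.mp hj0
  have ha : a ≠ 0 := by
    apply mul_ne_zero
    · intro h; exact hci0 (congrArg Subtype.val h)
    · intro h; exact hdj0 (congrArg Subtype.val h)
  obtain ⟨ψ, hψ⟩ := exists_algHom_ne_zero (k := k) A a ha
  let Ψ : A ⊗[k] L →ₐ[k] L :=
    Algebra.TensorProduct.productMap ((Algebra.ofId k L).comp ψ) (AlgHom.id k L)
  have hΨx : Ψ x' = ∑ i ∈ c.support, ψ ⟨c i, hcA i⟩ • bL i := by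
    simp only [x', Ψ, map_sum, Algebra.TensorProduct.productMap_apply_tmul, AlgHom.coe_comp,
      Function.comp_apply, AlgHom.coe_id, id_eq, Algebra.ofId_apply, Algebra.smul_def]
  have hΨy : Ψ y' = ∑ j ∈ d.support, ψ ⟨d j, hdA j⟩ • bL j := by
    simp only [y', Ψ, map_sum, Algebra.TensorProduct.productMap_apply_tmul, AlgHom.coe_comp,
      Function.comp_apply, AlgHom.coe_id, id_eq, Algebra.ofId_apply, Algebra.smul_def]
  have h0 : Ψ x' * Ψ y' = 0 := by rw [← map_mul, hxy', map_zero]
  have hψa : ψ a = ψ ⟨c i0, hcA i0⟩ * ψ ⟨d j0, hdA j0⟩ := map_mul ψ _ _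
  rcases mul_eq_zero.mp h0 with h | h
  · rw [hΨx] at h
    have := linearIndependent_iff'.mp bL.linearIndependent c.support
      (fun i => ψ ⟨c i, hcA i⟩) h i0 hi0
    apply hψ
    rw [hψa, this, zero_mul]
  · rw [hΨy] at h
    have := linearIndependent_iff'.mp bL.linearIndependent d.support
      (fun j => ψ ⟨d j, hdA j⟩) h j0 hj0
    apply hψ
    rw [hψa, this, mul_zero]

end Groth.Agent.Lead.AlgClosedTensor
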