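import Mathlib
import Groth.Agent.Lead.AlgClosedTensor

set_option autoImplicit false
universe u
open CategoryTheory CategoryTheory.Limits AlgebraicGeometry TensorProduct

namespace Groth.Agent.Lead.AlgClosedGeom

/-- over an algebraically closed field, `Spec K → Spec k` is geometrically irreducible -/
theorem geometricallyIrreducible_SpecMap (k K : Type u) [Field k] [IsAlgClosed k] [Field K]
    [Algebra k K] :
    GeometricallyIrreducible (Spec.map (CommRingCat.ofHom (algebraMap k K))) := by
  refine ⟨geometrically_iff_of_commRing_of_isClosedUnderIsomorphisms.mpr fun L _ _ ↦ ?_⟩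
  have hnzd : NoZeroDivisors (K ⊗[k] L) :=
    Groth.Agent.Lead.AlgClosedTensor.noZeroDivisors_tensor K L
  have hnt : Nontrivial (K ⊗[k] L) := inferInstance
  have hdom : IsDomain (K ⊗[k] L) := NoZeroDivisors.to_isDomain _
  have h1 : IrreducibleSpace ↥(Spec (CommRingCat.of (K ⊗[k] L))) :=
    inferInstanceAs (IrreducibleSpace (PrimeSpectrum (K ⊗[k] L)))
  exact (pullbackSpecIso k K L).hom.homeomorph.irreducibleSpace_iff.mpr h1

/-- over an algebraically closed field, `Spec K → Spec k` is geometrically connected -/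
theorem geometricallyConnected_SpecMap (k K : Type u) [Field k] [IsAlgClosed k] [Field K]
    [Algebra k K] :
    GeometricallyConnected (Spec.map (CommRingCat.ofHom (algebraMap k K))) := by
  have h := geometricallyIrreducible_SpecMap k K
  refine ⟨fun L _ y Z fst snd hpb => ?_⟩
  have : IrreducibleSpace ↥Z := h.geometrically_irreducibleSpace y fst snd hpb
  infer_instance

theorem universallyOpen_SpecMap (k K : Type u) [Field k] [Field K] [Algebra k K] :
    UniversallyOpen (Spec.map (CommRingCat.ofHom (algebraMap k K))) := inferInstance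

/-- topological lemma: preimage of a connected set under an open map with connected fibres -/
theorem isConnected_preimage_of_isOpenMap {A B : Type*} [TopologicalSpace A] [TopologicalSpace B]
    (p : A → B) (hop : IsOpenMap p) (hfib : ∀ b, IsConnected (p ⁻¹' {b}))
    {Z : Set B} (hZ : IsConnected Z) : IsConnected (p ⁻¹' Z) := by
  constructor
  · obtain ⟨z, hz⟩ := hZ.nonempty
    obtain ⟨a, ha⟩ := (hfib z).nonempty
    exact ⟨a, by rw [Set.mem_preimage, ha]; exact hz⟩
  · intro u v hu hv hsub ⟨a, haZ, hau⟩ ⟨b, hbZ, hbv⟩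
    have hpu : IsOpen (p '' u) := hop u hu
    have hpv : IsOpen (p '' v) := hop v hv
    have hZsub : Z ⊆ p '' u ∪ p '' v := by
      intro z hz
      obtain ⟨c, hc⟩ := (hfib z).nonempty
      have hc' : p c = z := hc
      have hcZ : c ∈ p ⁻¹' Z := by rw [Set.mem_preimage, hc']; exact hz
      rcases hsub hcZ with h | h
      · exact Or.inl ⟨c, h, hc'⟩
      · exact Or.inr ⟨c, h, hc'⟩
    obtain ⟨z, hzZ, ⟨a', ha'u, ha'z⟩, ⟨b', hb'v, hb'z⟩⟩ :=
      hZ.isPreconnected (p '' u) (p '' v) hpu hpv hZsub ⟨p a, haZ, a, hau, rfl⟩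
        ⟨p b, hbZ, b, hbv, rfl⟩
    have hFsub : p ⁻¹' {z} ⊆ u ∪ v := by
      intro c hc
      apply hsub
      have hc' : p c = z := hc
      rw [Set.mem_preimage, hc']
      exact hzZ
    obtain ⟨c, hcF, hcuv⟩ := (hfib z).isPreconnected u v hu hv hFsub ⟨a', ha'z, ha'u⟩
      ⟨b', hb'z, hb'v⟩
    have hc' : p c = z := hcF
    exact ⟨c, by rw [Set.mem_preimage, hc']; exact hzZ, hcuv⟩

end Groth.Agent.Lead.AlgClosedGeom
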