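import Mathlib
import Groth.Prelude.Def_PBC

set_option autoImplicit false
universe u

open CategoryTheory CategoryTheory.Limits
open scoped TensorProduct

namespace Groth.Agent.Lead.IndEtale

/-- Pushing a trivial relation forward along a semilinear map. -/
theorem trivial_of_stage {R M R' M' : Type*} [CommRing R] [AddCommGroup M] [Module R M]
    [CommRing R'] [AddCommGroup M'] [Module R' M'] [Module.Flat R' M']
    (ρ : R' →+* R) (φ : M' →+ M) (hsl : ∀ (r : R') (m : M'), φ (r • m) = ρ r • φ m)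
    {l : ℕ} (f' : Fin l → R') (x' : Fin l → M') (h : ∑ i, f' i • x' i = 0) :
    Module.IsTrivialRelation (fun i => ρ (f' i)) (fun i => φ (x' i)) := by
  obtain ⟨k, a, y, h1, h2⟩ := Module.Flat.isTrivialRelation_of_sum_smul_eq_zero h
  refine ⟨k, fun i j => ρ (a i j), fun j => φ (y j), ?_, ?_⟩
  · intro i
    show φ (x' i) = ∑ j, ρ (a i j) • φ (y j)
    rw [h1 i, map_sum]
    refine Finset.sum_congr rfl (fun j _ => ?_)
    rw [hsl]
  · intro j
    show ∑ i, ρ (f' i) * ρ (a i j) = 0
    have := congrArg ρ (h2 j)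
    rw [map_sum, map_zero] at this
    rw [← this]
    refine Finset.sum_congr rfl (fun i _ => ?_)
    rw [map_mul]

section Generic

variable {J : Type u} [SmallCategory J] [IsFiltered J]
  (X : J → Type u) (Y : Type u) (τ : ∀ {i j : J}, (i ⟶ j) → X i → X j) (ψ : ∀ j, X j → Y)

/-- Finite families lift to a common stage. -/
theorem exists_lift_fin
    (hψ : ∀ {i j : J} (f : i ⟶ j) (x : X i), ψ j (τ f x) = ψ i x)
    (hs : ∀ y : Y, ∃ j x, ψ j x = y) :
    ∀ (l : ℕ) (y : Fin l → Y), ∃ (j : J) (x : Fin l → X j), ∀ i, ψ j (x i) = y i := by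
  intro l
  induction l with
  | zero =>
    intro y
    obtain ⟨j⟩ := IsFiltered.nonempty (C := J)
    exact ⟨j, Fin.elim0, fun i => Fin.elim0 i⟩
  | succ l ih =>
    intro y
    obtain ⟨j₁, x₁, h₁⟩ := ih (fun i => y i.succ)
    obtain ⟨j₂, x₂, h₂⟩ := hs (y 0)
    refine ⟨IsFiltered.max j₁ j₂,
      Fin.cons (τ (IsFiltered.rightToMax j₁ j₂) x₂) (fun i => τ (IsFiltered.leftToMax j₁ j₂) (x₁ i)),
      ?_⟩
    intro i
    refine Fin.cases ?_ (fun i => ?_) i
    · simp only [Fin.cons_zero]
      rw [hψ, h₂]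
    · simp only [Fin.cons_succ]
      rw [hψ, h₁]

end Generic


section Concrete

variable {A B : Type u} [CommRing A] [CommRing B] [Algebra A B]
  {J : Type u} [SmallCategory J] [IsFiltered J]
  (R : J → Type u) [∀ j, CommRing (R j)] [∀ j, Algebra A (R j)]
  (t : ∀ {i j : J}, (i ⟶ j) → (R i →ₐ[A] R j))
  (φ : ∀ j, R j →ₐ[A] B)

include t in
/-- Flatness of the colimit over the base. -/
theorem flat_of_system [∀ j, Module.Flat A (R j)]
    (hφ : ∀ {i j : J} (f : i ⟶ j) (x : R i), φ j (t f x) = φ i x)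
    (hsurj : ∀ b : B, ∃ j y, φ j y = b)
    (hinj : ∀ (i : J) (x y : R i), φ i x = φ i y → ∃ (k : J) (f : i ⟶ k), t f x = t f y) :
    Module.Flat A B := by
  apply Module.Flat.of_forall_isTrivialRelation
  intro l f x hfx
  obtain ⟨j, x', hx'⟩ := exists_lift_fin R B (fun f x => t f x) (fun j x => φ j x) hφ hsurj l x
  have h0 : φ j (∑ i, f i • x' i) = φ j 0 := by
    rw [map_sum, map_zero, ← hfx]
    refine Finset.sum_congr rfl (fun i _ => ?_)
    rw [map_smul, hx']
  obtain ⟨k, g, hg⟩ := hinj j _ _ h0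
  rw [map_sum, map_zero] at hg
  have hrel : ∑ i, f i • (t g (x' i)) = 0 := by
    rw [← hg]
    refine Finset.sum_congr rfl (fun i _ => ?_)
    rw [map_smul]
  have := trivial_of_stage (RingHom.id A) (φ k).toLinearMap.toAddMonoidHom
    (fun r m => by simp) f (fun i => t g (x' i)) hrel
  have hx_eq : x = fun i => (φ k).toLinearMap.toAddMonoidHom (t g (x' i)) := by
    ext i
    show x i = φ k (t g (x' i))
    rw [hφ, hx']
  rw [hx_eq]
  exact this

/-- `lmul'` commutes with algebra maps. -/
theorem lmul'_map {S T : Type u} [CommRing S] [CommRing T] [Algebra A S] [Algebra A T]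
    (g : S →ₐ[A] T) (z : S ⊗[A] S) :
    g (Algebra.TensorProduct.lmul' A z) =
      Algebra.TensorProduct.lmul' A (Algebra.TensorProduct.map g g z) := by
  induction z using TensorProduct.induction_on with
  | zero => simp
  | tmul a b => simp
  | add a b ha hb => simp only [map_add, ha, hb]

include t in
theorem tensor_compat
    (hφ : ∀ {i j : J} (f : i ⟶ j) (x : R i), φ j (t f x) = φ i x)
    {i j : J} (f : i ⟶ j) (z : R i ⊗[A] R i) :
    Algebra.TensorProduct.map (φ j) (φ j) (Algebra.TensorProduct.map (t f) (t f) z) =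
      Algebra.TensorProduct.map (φ i) (φ i) z := by
  have hcomp : (φ j).comp (t f) = φ i := AlgHom.ext (hφ f)
  rw [← AlgHom.comp_apply, ← Algebra.TensorProduct.map_comp, hcomp]

include t in
theorem tensor_surj
    (hφ : ∀ {i j : J} (f : i ⟶ j) (x : R i), φ j (t f x) = φ i x)
    (hsurj : ∀ b : B, ∃ j y, φ j y = b) (z : B ⊗[A] B) :
    ∃ (j : J) (z' : R j ⊗[A] R j), Algebra.TensorProduct.map (φ j) (φ j) z' = z := by
  induction z using TensorProduct.induction_on with
  | zero =>
    obtain ⟨j⟩ := IsFiltered.nonempty (C := J)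
    exact ⟨j, 0, by simp⟩
  | tmul b b' =>
    obtain ⟨j₁, y₁, h₁⟩ := hsurj b
    obtain ⟨j₂, y₂, h₂⟩ := hsurj b'
    refine ⟨IsFiltered.max j₁ j₂, t (IsFiltered.leftToMax j₁ j₂) y₁ ⊗ₜ t (IsFiltered.rightToMax j₁ j₂) y₂, ?_⟩
    rw [Algebra.TensorProduct.map_tmul, hφ, hφ, h₁, h₂]
  | add z₁ z₂ ih₁ ih₂ =>
    obtain ⟨j₁, y₁, h₁⟩ := ih₁
    obtain ⟨j₂, y₂, h₂⟩ := ih₂
    refine ⟨IsFiltered.max j₁ j₂,
      Algebra.TensorProduct.map (t (IsFiltered.leftToMax j₁ j₂)) (t (IsFiltered.leftToMax j₁ j₂)) y₁ +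
      Algebra.TensorProduct.map (t (IsFiltered.rightToMax j₁ j₂)) (t (IsFiltered.rightToMax j₁ j₂)) y₂,
      ?_⟩
    rw [map_add, tensor_compat R t φ hφ, tensor_compat R t φ hφ, h₁, h₂]

include t in
/-- Flatness of the diagonal of the colimit. -/
theorem flat_lmul'_of_system
    (hflat : ∀ j, (Algebra.TensorProduct.lmul' A (S := R j)).Flat)
    (hφ : ∀ {i j : J} (f : i ⟶ j) (x : R i), φ j (t f x) = φ i x)
    (hsurj : ∀ b : B, ∃ j y, φ j y = b)
    (hinj : ∀ (i : J) (x y : R i), φ i x = φ i y → ∃ (k : J) (f : i ⟶ k), t f x = t f y) :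
    (Algebra.TensorProduct.lmul' A (S := B)).Flat := by
  letI algB : Algebra (B ⊗[A] B) B := (Algebra.TensorProduct.lmul' A (S := B)).toRingHom.toAlgebra
  show Module.Flat (B ⊗[A] B) B
  apply Module.Flat.of_forall_isTrivialRelation
  intro l f x hfx
  have hsm : ∀ (r : B ⊗[A] B) (m : B), r • m = Algebra.TensorProduct.lmul' A r * m := by
    intro r m
    rw [Algebra.smul_def]
    rfl
  simp only [hsm] at hfx
  -- lift the x's and the f's
  obtain ⟨j₁, x₁, hx₁⟩ := exists_lift_fin R B (fun f x => t f x) (fun j x => φ j x) hφ hsurj l x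
  obtain ⟨j₂, f₂, hf₂⟩ := exists_lift_fin (fun j => R j ⊗[A] R j) (B ⊗[A] B)
    (fun f z => Algebra.TensorProduct.map (t f) (t f) z)
    (fun j z => Algebra.TensorProduct.map (φ j) (φ j) z)
    (fun f z => tensor_compat R t φ hφ f z) (tensor_surj R t φ hφ hsurj) l f
  -- common stage
  set j := IsFiltered.max j₁ j₂ with hj
  set x' : Fin l → R j := fun i => t (IsFiltered.leftToMax j₁ j₂) (x₁ i) with hx'
  set f' : Fin l → R j ⊗[A] R j := fun i =>
    Algebra.TensorProduct.map (t (IsFiltered.rightToMax j₁ j₂)) (t (IsFiltered.rightToMax j₁ j₂)) (f₂ i)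
    with hf'
  have hx'φ : ∀ i, φ j (x' i) = x i := fun i => by rw [hx', hφ, hx₁]
  have hf'φ : ∀ i, Algebra.TensorProduct.map (φ j) (φ j) (f' i) = f i := fun i => by
    rw [hf', tensor_compat R t φ hφ, hf₂]
  have h0 : φ j (∑ i, Algebra.TensorProduct.lmul' A (f' i) * x' i) = φ j 0 := by
    rw [map_sum, map_zero, ← hfx]
    refine Finset.sum_congr rfl (fun i _ => ?_)
    rw [map_mul, lmul'_map, hf'φ, hx'φ]
  obtain ⟨k, g, hg⟩ := hinj j _ _ h0
  rw [map_sum, map_zero] at hg
  set x'' : Fin l → R k := fun i => t g (x' i) with hx''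
  set f'' : Fin l → R k ⊗[A] R k := fun i => Algebra.TensorProduct.map (t g) (t g) (f' i) with hf''
  letI algk : Algebra (R k ⊗[A] R k) (R k) :=
    (Algebra.TensorProduct.lmul' A (S := R k)).toRingHom.toAlgebra
  haveI : Module.Flat (R k ⊗[A] R k) (R k) := hflat k
  have hsmk : ∀ (r : R k ⊗[A] R k) (m : R k), r • m = Algebra.TensorProduct.lmul' A r * m := by
    intro r m
    rw [Algebra.smul_def]
    rfl
  have hrel : ∑ i, f'' i • x'' i = 0 := by
    simp only [hsmk]
    rw [← hg]
    refine Finset.sum_congr rfl (fun i _ => ?_)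
    rw [map_mul, lmul'_map]
  have := trivial_of_stage (Algebra.TensorProduct.map (φ k) (φ k)).toRingHom
    (φ k).toLinearMap.toAddMonoidHom
    (fun r m => by
      show φ k (r • m) = (Algebra.TensorProduct.map (φ k) (φ k) r) • φ k m
      rw [hsmk, hsm, map_mul, lmul'_map]) f'' x'' hrel
  have hx_eq : x = fun i => (φ k).toLinearMap.toAddMonoidHom (x'' i) := by
    ext i
    show x i = φ k (t g (x' i))
    rw [hφ, hx'φ]
  have hf_eq : f = fun i => (Algebra.TensorProduct.map (φ k) (φ k)).toRingHom (f'' i) := by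
    ext i
    show f i = Algebra.TensorProduct.map (φ k) (φ k) (Algebra.TensorProduct.map (t g) (t g) (f' i))
    rw [tensor_compat R t φ hφ, hf'φ]
  rw [hx_eq, hf_eq]
  exact this

end Concrete


section Extract

variable {A B : Type u} [CommRing A] [CommRing B] [Algebra A B]

theorem weaklyEtale_of_isIndEtale (h : EtPBC.IsIndEtale A B) : Algebra.WeaklyEtale A B := by
  obtain ⟨J, hJ, hJf, D, c, hc, hD, ⟨e⟩⟩ := h
  letI alg : ∀ j, Algebra A (D.obj j).right := fun j => (D.obj j).hom.hom.toAlgebra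
  -- the forgetful functor to types
  let G : Under (CommRingCat.of A) ⥤ Type u := Under.forget _ ⋙ forget CommRingCat
  haveI : PreservesColimitsOfShape J (Under.forget (CommRingCat.of A)) :=
    PreservesFilteredColimitsOfSize.preserves_filtered_colimits J
  haveI : PreservesColimitsOfShape J (forget CommRingCat.{u}) :=
    PreservesFilteredColimitsOfSize.preserves_filtered_colimits J
  have hG : IsColimit (G.mapCocone c) := isColimitOfPreserves G hc
  -- transition maps
  let t : ∀ {i j : J}, (i ⟶ j) → ((D.obj i).right →ₐ[A] (D.obj j).right) := fun {i j} f =>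
    { (D.map f).right.hom with
      commutes' := fun a => by
        have := Under.w (D.map f)
        exact congrArg (fun g => g.hom a) this }
  -- maps to B
  let φ : ∀ j, (D.obj j).right →ₐ[A] B := fun j =>
    { ((c.ι.app j).right ≫ e.hom.right).hom with
      commutes' := fun a => by
        have h1 := Under.w (c.ι.app j)
        have h2 := Under.w e.hom
        have h3 : (D.obj j).hom ≫ ((c.ι.app j).right ≫ e.hom.right) =
            CommRingCat.ofHom (algebraMap A B) := by
          rw [← Category.assoc]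
          erw [h1, h2]
          rfl
        exact congrArg (fun g => g.hom a) h3 }
  have hφ : ∀ {i j : J} (f : i ⟶ j) (x : (D.obj i).right), φ j (t f x) = φ i x := by
    intro i j f x
    have := c.w f
    have h' : (D.map f).right ≫ (c.ι.app j).right = (c.ι.app i).right := by
      rw [← Under.comp_right, this]
    show (e.hom.right.hom) ((c.ι.app j).right.hom ((D.map f).right.hom x)) =
      (e.hom.right.hom) ((c.ι.app i).right.hom x)
    rw [← h']
    rfl
  have hsurj : ∀ b : B, ∃ j y, φ j y = b := by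
    intro b
    obtain ⟨j, y, hy⟩ := Types.jointly_surjective_of_isColimit hG (e.inv.right.hom b)
    refine ⟨j, y, ?_⟩
    show e.hom.right.hom ((c.ι.app j).right.hom y) = b
    have : (c.ι.app j).right.hom y = e.inv.right.hom b := hy
    rw [this]
    have h4 : e.inv.right ≫ e.hom.right = 𝟙 _ := by
      rw [← Under.comp_right, e.inv_hom_id]
      rfl
    exact congrArg (fun g => g.hom b) h4
  have hinj : ∀ (i : J) (x y : (D.obj i).right), φ i x = φ i y →
      ∃ (k : J) (f : i ⟶ k), t f x = t f y := by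
    intro i x y hxy
    have hxy' : (c.ι.app i).right.hom x = (c.ι.app i).right.hom y := by
      have h4 : e.hom.right ≫ e.inv.right = 𝟙 _ := by
        rw [← Under.comp_right, e.hom_inv_id]
        rfl
      have h5 : ∀ z, e.inv.right.hom (e.hom.right.hom z) = z := fun z =>
        congrArg (fun g => g.hom z) h4
      have := congrArg (e.inv.right.hom) hxy
      simpa [φ, h5] using this
    have hxy'' : (G.mapCocone c).ι.app i x = (G.mapCocone c).ι.app i y := hxy'
    obtain ⟨k, f, g, hfg⟩ := (Types.FilteredColimit.isColimit_eq_iff _ hG).mp hxy''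
    refine ⟨IsFiltered.coeq f g, f ≫ IsFiltered.coeqHom f g, ?_⟩
    have hfg' : (D.map f).right.hom x = (D.map g).right.hom y := hfg
    show (D.map (f ≫ IsFiltered.coeqHom f g)).right.hom x =
      (D.map (f ≫ IsFiltered.coeqHom f g)).right.hom y
    conv_rhs => rw [IsFiltered.coeq_condition f g]
    rw [D.map_comp, D.map_comp]
    show (D.map (IsFiltered.coeqHom f g)).right.hom ((D.map f).right.hom x) =
      (D.map (IsFiltered.coeqHom f g)).right.hom ((D.map g).right.hom y)
    rw [hfg']
  haveI het : ∀ j, Algebra.Etale A (D.obj j).right := hD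
  haveI hfl : ∀ j, Module.Flat A (D.obj j).right := fun j => inferInstance
  refine ⟨flat_of_system (fun j => (D.obj j).right) t φ hφ hsurj hinj, ?_⟩
  exact flat_lmul'_of_system (fun j => (D.obj j).right) t φ
    (fun j => Algebra.WeaklyEtale.flat_lmul' A (D.obj j).right) hφ hsurj hinj

end Extract

end Groth.Agent.Lead.IndEtale
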