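import Mathlib

/-! # Weakly étale algebras over a field: von Neumann regularity and integrality -/

set_option autoImplicit false
universe u

open TensorProduct

namespace Groth.Agent.Lead.WEField

/-- Von Neumann regular rings. -/
def VNR (R : Type u) [CommRing R] : Prop := ∀ x : R, ∃ r : R, x = x * x * r

theorem VNR.of_surjective {R S : Type u} [CommRing R] [CommRing S] (f : R →+* S)
    (hf : Function.Surjective f) (h : VNR R) : VNR S := by
  intro y
  obtain ⟨x, rfl⟩ := hf y
  obtain ⟨r, hr⟩ := h x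
  exact ⟨f r, by rw [← map_mul, ← map_mul, ← hr]⟩

theorem VNR.isReduced {R : Type u} [CommRing R] (h : VNR R) : IsReduced R := by
  refine ⟨fun x ⟨n, hn⟩ => ?_⟩
  obtain ⟨r, hr⟩ := h x
  -- x = x^2 r, so x = x^(k+1) r^k for all k
  have key : ∀ k : ℕ, x = x ^ (k + 1) * r ^ k := by
    intro k
    induction k with
    | zero => simp
    | succ k ih =>
      calc x = x ^ (k + 1) * r ^ k := ih
        _ = x ^ k * x * r ^ k := by rw [pow_succ]
        _ = x ^ k * (x * x * r) * r ^ k := by rw [← hr]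
        _ = x ^ (k + 1 + 1) * r ^ (k + 1) := by ring
  have := key n
  rw [pow_succ, hn, zero_mul, zero_mul] at this
  exact this

/-- In a von Neumann regular ring every ideal is pure. -/
theorem VNR.pure {R : Type u} [CommRing R] (h : VNR R) (I : Ideal R) : I.Pure := by
  apply Ideal.Pure.of_inf_eq_mul
  intro J _
  refine le_antisymm ?_ Ideal.mul_le_inf
  rintro x ⟨hxI, hxJ⟩
  obtain ⟨r, hr⟩ := h x
  rw [hr, mul_assoc]
  exact Ideal.mul_mem_mul hxI (J.mul_mem_right _ hxJ)

/-- A surjective ring hom out of a von Neumann regular ring is flat. -/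
theorem VNR.flat_of_surjective {R S : Type u} [CommRing R] [CommRing S] (f : R →+* S)
    (hf : Function.Surjective f) (h : VNR R) : f.Flat := by
  algebraize [f]
  have hpure : (RingHom.ker (Algebra.ofId R S)).Pure := h.pure _
  have hsurj : Function.Surjective (Algebra.ofId R S) := hf
  have e : (R ⧸ RingHom.ker (Algebra.ofId R S)) ≃ₐ[R] S :=
    Ideal.quotientKerAlgEquivOfSurjective hsurj
  show Module.Flat R S
  exact Module.Flat.of_linearEquiv e.toLinearEquiv.symm

section pure

variable {K B : Type u} [Field K] [CommRing B] [Algebra K B]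

/-- A separability-type element for `b`: `μ e = 1` and `(b ⊗ 1 - 1 ⊗ b) e = 0`. -/
theorem exists_sep_elem (hflat : (Algebra.TensorProduct.lmul' K (S := B)).toRingHom.Flat) (b : B) :
    ∃ e : B ⊗[K] B, Algebra.TensorProduct.lmul' K e = 1 ∧
      (b ⊗ₜ[K] (1 : B) - (1 : B) ⊗ₜ[K] b) * e = 0 := by
  let F := (Algebra.TensorProduct.lmul' K (S := B)).toRingHom
  have hF : Function.Surjective F := fun x ↦ ⟨x ⊗ₜ 1, by simp [F]⟩
  let _ : Algebra (B ⊗[K] B) B := F.toAlgebra
  have hfl : Module.Flat (B ⊗[K] B) B := hflat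
  have hsurj : Function.Surjective (Algebra.ofId (B ⊗[K] B) B) := hF
  have e' : ((B ⊗[K] B) ⧸ RingHom.ker (Algebra.ofId (B ⊗[K] B) B)) ≃ₐ[B ⊗[K] B] B :=
    Ideal.quotientKerAlgEquivOfSurjective hsurj
  have hpure : (RingHom.ker (Algebra.ofId (B ⊗[K] B) B)).Pure :=
    Module.Flat.of_linearEquiv e'.toLinearEquiv
  have hx : (b ⊗ₜ[K] (1 : B) - (1 : B) ⊗ₜ[K] b) ∈ RingHom.ker (Algebra.ofId (B ⊗[K] B) B) := by
    rw [RingHom.mem_ker]
    show F _ = 0
    simp [F]
  obtain ⟨y, hy, hxy⟩ := Ideal.exists_eq_mul_of_pure hx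
  refine ⟨1 - y, ?_, ?_⟩
  · have hy0 : F y = 0 := hy
    have : Algebra.TensorProduct.lmul' K y = 0 := hy0
    rw [map_sub, map_one, this, sub_zero]
  · rw [mul_sub, mul_one, ← hxy, sub_self]

/-- A `K`-algebra with flat diagonal over a field is von Neumann regular. -/
theorem vnr_of_flat_lmul' (hflat : (Algebra.TensorProduct.lmul' K (S := B)).toRingHom.Flat) :
    VNR B := by
  classical
  intro b
  obtain ⟨e, he1, he2⟩ := exists_sep_elem hflat b
  let D := B ⧸ Ideal.span {b}
  let π : B →ₐ[K] D := Ideal.Quotient.mkₐ K (Ideal.span {b})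
  have hπb : π b = 0 := by
    show Ideal.Quotient.mk _ b = 0
    rw [Ideal.Quotient.eq_zero_iff_mem]
    exact Ideal.mem_span_singleton_self b
  let ψ : B ⊗[K] B →ₐ[K] B ⊗[K] D := Algebra.TensorProduct.map (AlgHom.id K B) π
  let m : B ⊗[K] D →ₐ[K] D := Algebra.TensorProduct.productMap π (AlgHom.id K D)
  have hmψ : m.comp ψ = π.comp (Algebra.TensorProduct.lmul' K) := by
    ext x <;> simp [m, ψ]
  have h1 : m (ψ e) = 1 := by
    have := AlgHom.congr_fun hmψ e
    rw [AlgHom.comp_apply, AlgHom.comp_apply, he1, map_one] at this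
    exact this
  have h2 : (b ⊗ₜ[K] (1 : D)) * ψ e = 0 := by
    have := congrArg ψ he2
    rw [map_mul, map_zero, map_sub] at this
    simp only [ψ, Algebra.TensorProduct.map_tmul, AlgHom.id_apply, map_one, hπb,
      TensorProduct.tmul_zero, sub_zero] at this
    exact this
  let d := Module.Free.chooseBasis K D
  let 𝔟 := Algebra.TensorProduct.basis B d
  let w := 𝔟.repr (ψ e)
  have h3 : ∀ i, b * w i = 0 := by
    intro i
    have hsm : ∀ z : B ⊗[K] D, b • z = (b ⊗ₜ[K] (1 : D)) * z := by
      intro z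
      induction z with
      | zero => simp
      | tmul x y => rw [TensorProduct.smul_tmul', Algebra.TensorProduct.tmul_mul_tmul, one_mul,
          smul_eq_mul]
      | add x y hx hy => rw [smul_add, mul_add, hx, hy]
    have h4 : b • ψ e = 0 := by
      rw [hsm]
      exact h2
    have := congrArg (fun z => 𝔟.repr z i) h4
    simpa [w] using this
  -- expand ψ e in the basis
  have h5 : ψ e = ∑ i ∈ w.support, w i • 𝔟 i := by
    conv_lhs => rw [← 𝔟.linearCombination_repr (ψ e)]
    rfl
  have hπsurj : Function.Surjective π := Ideal.Quotient.mk_surjective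
  choose d' hd' using fun i => hπsurj (d i)
  have h6 : π (∑ i ∈ w.support, w i * d' i) = 1 := by
    rw [← h1, h5, map_sum, map_sum]
    refine Finset.sum_congr rfl fun i _ => ?_
    rw [Algebra.TensorProduct.basis_repr_symm_apply', map_mul, hd']
    simp [m]
  have h7 : (1 : B) - ∑ i ∈ w.support, w i * d' i ∈ Ideal.span {b} := by
    rw [← Ideal.Quotient.eq_zero_iff_mem, map_sub, map_one]
    have : Ideal.Quotient.mk (Ideal.span {b}) (∑ i ∈ w.support, w i * d' i) = 1 := h6
    rw [this, sub_self]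
  obtain ⟨r, hr⟩ := Ideal.mem_span_singleton'.mp h7
  refine ⟨r, ?_⟩
  have h8 : b * ∑ i ∈ w.support, w i * d' i = 0 := by
    rw [Finset.mul_sum]
    refine Finset.sum_eq_zero fun i _ => ?_
    rw [← mul_assoc, h3, zero_mul]
  calc b = b * (1 - ∑ i ∈ w.support, w i * d' i) + b * ∑ i ∈ w.support, w i * d' i := by ring
    _ = b * (r * b) + 0 := by rw [hr, h8]
    _ = b * b * r := by ring

end pure

end Groth.Agent.Lead.WEField
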