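import Mathlib
import Groth.Agent.Lead.WEField

/-! # Weakly étale algebras over a field: integrality -/

set_option autoImplicit false
universe u

open TensorProduct

namespace Groth.Agent.Lead.WEField

/-- Determinant trick: if `x` stabilises a finitely generated faithful submodule then `x` is
integral. -/
theorem isIntegral_of_mul_mem_submodule_of_faithful {R A : Type u} [CommRing R] [CommRing A]
    [Algebra R A] (N : Submodule R A) (hN' : N.FG)
    (hfaith : ∀ s : A, (∀ n ∈ N, s * n = 0) → s = 0) (x : A) (hx : ∀ n ∈ N, x * n ∈ N) :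
    IsIntegral R x := by
  let A' : Subalgebra R A :=
    { carrier := { x | ∀ n ∈ N, x * n ∈ N }
      mul_mem' := fun {a b} ha hb n hn => by rw [mul_assoc]; exact ha _ (hb _ hn)
      one_mem' := fun n hn => by rw [one_mul]; exact hn
      add_mem' := fun {a b} ha hb n hn => by rw [add_mul]; exact N.add_mem (ha _ hn) (hb _ hn)
      zero_mem' := fun n _hn => by rw [zero_mul]; exact N.zero_mem
      algebraMap_mem' := fun r n hn => by rw [← Algebra.smul_def]; exact N.smul_mem r hn }
  let f : A' →ₐ[R] Module.End R N :=
    AlgHom.ofLinearMap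
      { toFun := fun x => (LinearMap.mulLeft R (x : A)).restrict x.prop
        map_add' := by intro x y; ext; simp [add_mul]
        map_smul' := by intro r s; ext; simp }
      (by ext; simp)
      (by intro x y; ext; simp)
  have hinj : Function.Injective f := by
    rw [injective_iff_map_eq_zero]
    intro s hs
    apply Subtype.ext
    apply hfaith
    intro n hn
    exact congr_arg Subtype.val (LinearMap.congr_fun hs ⟨n, hn⟩)
  have : Module.Finite R N := by rwa [Module.Finite.iff_fg]
  have h1 : IsIntegral R (f ⟨x, hx⟩) := Algebra.IsIntegral.isIntegral _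
  have h2 : IsIntegral R (⟨x, hx⟩ : A') :=
    (@isIntegral_algHom_iff R _ A' (Module.End R N) _ _ _ _ f hinj ⟨x, hx⟩).mp h1
  exact h2.map A'.val

section pure

variable {K B : Type u} [Field K] [CommRing B] [Algebra K B]

/-- A `K`-algebra with flat diagonal over a field is integral over `K`. -/
theorem isIntegral_of_flat_lmul'
    (hflat : (Algebra.TensorProduct.lmul' K (S := B)).toRingHom.Flat) (b : B) :
    IsIntegral K b := by
  classical
  obtain ⟨e, he1, he2⟩ := exists_sep_elem hflat b
  let β := Module.Free.chooseBasis K B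
  let 𝔟 := Algebra.TensorProduct.basis B β
  let u := 𝔟.repr e
  let W : Submodule K B := Submodule.span K (u '' (u.support : Set _))
  have hWfg : W.FG := Submodule.fg_span (Set.Finite.image _ u.support.finite_toSet)
  have he : e = ∑ i ∈ u.support, u i ⊗ₜ[K] β i := by
    conv_lhs => rw [← 𝔟.linearCombination_repr e]
    rw [Finsupp.linearCombination_apply, Finsupp.sum]
    refine Finset.sum_congr rfl fun i _ => ?_
    exact Algebra.TensorProduct.basis_repr_symm_apply' β (u i) i
  have heq : (b ⊗ₜ[K] (1 : B)) * e = ((1 : B) ⊗ₜ[K] b) * e := by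
    rw [← sub_eq_zero, ← sub_mul]; exact he2
  have hsm : ∀ z : B ⊗[K] B, b • z = (b ⊗ₜ[K] (1 : B)) * z := by
    intro z
    induction z with
    | zero => simp
    | tmul x y => rw [TensorProduct.smul_tmul', Algebra.TensorProduct.tmul_mul_tmul, one_mul,
        smul_eq_mul]
    | add x y hx hy => rw [smul_add, mul_add, hx, hy]
  have hcoord1 : ∀ j, 𝔟.repr ((b ⊗ₜ[K] (1 : B)) * e) j = b * u j := by
    intro j
    rw [← hsm, map_smul, Finsupp.smul_apply, smul_eq_mul]
  have hcoord2 : ∀ j, 𝔟.repr (((1 : B) ⊗ₜ[K] b) * e) j ∈ W := by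
    intro j
    rw [he, Finset.mul_sum, map_sum, Finsupp.finsetSum_apply]
    refine W.sum_mem fun i hi => ?_
    rw [Algebra.TensorProduct.tmul_mul_tmul, one_mul, Algebra.TensorProduct.basis_repr_tmul]
    simp only [Finsupp.smul_apply, Finsupp.mapRange_apply, smul_eq_mul]
    rw [mul_comm, ← Algebra.smul_def]
    exact W.smul_mem _ (Submodule.subset_span ⟨i, hi, rfl⟩)
  have hstab : ∀ n ∈ W, b * n ∈ W := by
    intro n hn
    induction hn using Submodule.span_induction with
    | mem x hx =>
      obtain ⟨j, _, rfl⟩ := hx
      rw [← hcoord1, heq]; exact hcoord2 j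
    | zero => simp
    | add x y _ _ hx hy => rw [mul_add]; exact W.add_mem hx hy
    | smul c x _ hx => rw [mul_smul_comm]; exact W.smul_mem c hx
  have hfaith : ∀ s : B, (∀ n ∈ W, s * n = 0) → s = 0 := by
    intro s hs
    have h1 : (1 : B) = ∑ i ∈ u.support, u i * β i := by
      rw [← he1, he, map_sum]
      refine Finset.sum_congr rfl fun i _ => ?_
      simp
    calc s = s * 1 := (mul_one s).symm
      _ = ∑ i ∈ u.support, s * u i * β i := by
        rw [h1, Finset.mul_sum]
        refine Finset.sum_congr rfl fun i _ => ?_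
        rw [mul_assoc]
      _ = 0 := by
        refine Finset.sum_eq_zero fun i hi => ?_
        rw [hs _ (Submodule.subset_span ⟨i, hi, rfl⟩), zero_mul]
  exact isIntegral_of_mul_mem_submodule_of_faithful W hWfg hfaith b hstab

end pure

end Groth.Agent.Lead.WEField
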