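import Mathlib
import Groth.Agent.Lead.WEField2

/-! # Weakly étale algebras over a field: subalgebras and quotients -/

set_option autoImplicit false
universe u

open TensorProduct Polynomial

namespace Groth.Agent.Lead.WEField

/-- In a reduced algebra over a field, an integral element `t` satisfies `t = t² r`. -/
theorem exists_eq_sq_mul_of_isIntegral {K T : Type u} [Field K] [CommRing T] [Algebra K T]
    [IsReduced T] (t : T) (ht : IsIntegral K t) : ∃ r : T, t = t * t * r := by
  obtain ⟨p, hpm, hp⟩ := ht
  have hp' : aeval t p = 0 := by rwa [aeval_def]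
  have hp0 : p ≠ 0 := hpm.ne_zero
  obtain ⟨q, hq, hXq⟩ := exists_eq_pow_rootMultiplicity_mul_and_not_dvd p hp0 0
  rw [C_0, sub_zero] at hq hXq
  set k := p.rootMultiplicity 0
  have hc : q.coeff 0 ≠ 0 := fun h => hXq (X_dvd_iff.mpr h)
  set c := q.coeff 0
  have hqd : q = divX q * X + C c := (divX_mul_X_add q).symm
  set s := aeval t (divX q)
  have h1 : t ^ k * (s * t + algebraMap K T c) = 0 := by
    have : aeval t p = t ^ k * aeval t q := by rw [hq, map_mul, map_pow, aeval_X]
    rw [← hp', this]
    congr 1
    rw [hqd]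
    simp [s]
  let r : T := -(algebraMap K T c⁻¹) * s
  have hcc : algebraMap K T c⁻¹ * algebraMap K T c = 1 := by
    rw [← map_mul, inv_mul_cancel₀ hc, map_one]
  have h2 : t ^ k * (1 - t * r) = 0 := by
    have : (1 - t * r) = algebraMap K T c⁻¹ * (s * t + algebraMap K T c) := by
      rw [mul_add, hcc]
      simp only [r]
      ring
    rw [this, mul_left_comm, h1, mul_zero]
  have h3 : IsNilpotent (t * (1 - t * r)) := by
    refine ⟨k + 1, ?_⟩
    rw [mul_pow, pow_succ (1 - t * r), pow_succ' t]
    calc t * t ^ k * ((1 - t * r) ^ k * (1 - t * r))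
        = t * (1 - t * r) ^ k * (t ^ k * (1 - t * r)) := by ring
      _ = 0 := by rw [h2, mul_zero]
  have h4 : t * (1 - t * r) = 0 := h3.eq_zero
  refine ⟨r, ?_⟩
  have : t * (1 - t * r) = t - t * t * r := by ring
  rw [this, sub_eq_zero] at h4
  exact h4

/-- A `K`-algebra that injects into a von Neumann regular integral `K`-algebra is von Neumann
regular. -/
theorem VNR.of_injective_algHom {K T C : Type u} [Field K] [CommRing T] [Algebra K T]
    [CommRing C] [Algebra K C] (φ : T →ₐ[K] C) (hφ : Function.Injective φ) (hC : VNR C)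
    (hint : ∀ c : C, IsIntegral K c) : VNR T := by
  have hCred : IsReduced C := hC.isReduced
  have : IsReduced T := by
    refine ⟨fun x hx => ?_⟩
    apply hφ
    rw [map_zero]
    exact (hx.map φ).eq_zero
  intro t
  exact exists_eq_sq_mul_of_isIntegral t ((isIntegral_algHom_iff φ hφ).mp (hint (φ t)))

section main

variable (K B : Type u) [Field K] [CommRing B] [Algebra K B]

theorem flat_lmul'_tensor [Algebra.WeaklyEtale K B] :
    (Algebra.TensorProduct.lmul' K (S := B ⊗[K] B)).toRingHom.Flat := by
  have h1 : Algebra.WeaklyEtale B (B ⊗[K] B) := inferInstance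
  have h2 : Algebra.WeaklyEtale K (B ⊗[K] B) := Algebra.WeaklyEtale.trans K B (B ⊗[K] B)
  exact Algebra.WeaklyEtale.flat_lmul' K (B ⊗[K] B)

/-- `B ⊗ B` is von Neumann regular when `B` is weakly étale over a field. -/
theorem vnr_tensor [Algebra.WeaklyEtale K B] : VNR (B ⊗[K] B) :=
  vnr_of_flat_lmul' (flat_lmul'_tensor K B)

theorem isIntegral_tensor [Algebra.WeaklyEtale K B] (c : B ⊗[K] B) : IsIntegral K c :=
  isIntegral_of_flat_lmul' (flat_lmul'_tensor K B) c

/-- If `T ⊗ T` is von Neumann regular then `T` is weakly étale over the field `K`. -/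
theorem weaklyEtale_of_vnr_tensor (T : Type u) [CommRing T] [Algebra K T]
    (h : VNR (T ⊗[K] T)) : Algebra.WeaklyEtale K T where
  flat := inferInstance
  flat_lmul' := by
    apply VNR.flat_of_surjective _ _ h
    intro x
    exact ⟨x ⊗ₜ 1, by simp⟩

theorem weaklyEtale_subalgebra [Algebra.WeaklyEtale K B] (S : Subalgebra K B) :
    Algebra.WeaklyEtale K S := by
  apply weaklyEtale_of_vnr_tensor
  refine VNR.of_injective_algHom (Algebra.TensorProduct.map S.val S.val) ?_ (vnr_tensor K B)
    (isIntegral_tensor K B)
  have : Function.Injective (TensorProduct.map S.val.toLinearMap S.val.toLinearMap) :=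
    TensorProduct.map_injective_of_flat_flat _ _ Subtype.val_injective Subtype.val_injective
  exact this

theorem weaklyEtale_quotient [Algebra.WeaklyEtale K B] (I : Ideal B) :
    Algebra.WeaklyEtale K (B ⧸ I) := by
  apply weaklyEtale_of_vnr_tensor
  refine VNR.of_surjective
    (Algebra.TensorProduct.map (Ideal.Quotient.mkₐ K I) (Ideal.Quotient.mkₐ K I)).toRingHom ?_
    (vnr_tensor K B)
  have : Function.Surjective (TensorProduct.map (Ideal.Quotient.mkₐ K I).toLinearMap
      (Ideal.Quotient.mkₐ K I).toLinearMap) :=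
    TensorProduct.map_surjective Ideal.Quotient.mk_surjective Ideal.Quotient.mk_surjective
  exact this

end main

end Groth.Agent.Lead.WEField
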