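import Mathlib
import Groth.Agent.Lead.WEField3

/-! # Suprema of weakly étale subalgebras over a field -/

set_option autoImplicit false
universe u

open TensorProduct

namespace Groth.Agent.Lead.WEField

variable (K : Type u) [Field K] {A : Type u} [CommRing A] [Algebra K A]

/-- Surjective algebra maps from a weakly étale `K`-algebra have weakly étale target. -/
theorem weaklyEtale_of_surjective {T C : Type u} [CommRing T] [Algebra K T] [CommRing C]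
    [Algebra K C] [Algebra.WeaklyEtale K T] (φ : T →ₐ[K] C) (hφ : Function.Surjective φ) :
    Algebra.WeaklyEtale K C := by
  apply weaklyEtale_of_vnr_tensor
  refine VNR.of_surjective (Algebra.TensorProduct.map φ φ).toRingHom ?_ (vnr_tensor K T)
  have : Function.Surjective (TensorProduct.map φ.toLinearMap φ.toLinearMap) :=
    TensorProduct.map_surjective hφ hφ
  exact this

theorem weaklyEtale_sup (S₁ S₂ : Subalgebra K A) [Algebra.WeaklyEtale K S₁]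
    [Algebra.WeaklyEtale K S₂] : Algebra.WeaklyEtale K ↥(S₁ ⊔ S₂) := by
  have h1 : Algebra.WeaklyEtale S₁ (S₁ ⊗[K] S₂) := inferInstance
  have h2 : Algebra.WeaklyEtale K (S₁ ⊗[K] S₂) := Algebra.WeaklyEtale.trans K S₁ (S₁ ⊗[K] S₂)
  let φ : S₁ ⊗[K] S₂ →ₐ[K] A := Algebra.TensorProduct.productMap S₁.val S₂.val
  have hrange : φ.range = S₁ ⊔ S₂ := by
    rw [Algebra.TensorProduct.productMap_range, Subalgebra.range_val, Subalgebra.range_val]
  let φ' : S₁ ⊗[K] S₂ →ₐ[K] ↥(S₁ ⊔ S₂) :=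
    φ.codRestrict (S₁ ⊔ S₂) (fun x => hrange ▸ AlgHom.mem_range_self φ x)
  have hsurj : Function.Surjective φ' := by
    rintro ⟨y, hy⟩
    rw [← hrange] at hy
    obtain ⟨x, rfl⟩ := hy
    exact ⟨x, rfl⟩
  exact weaklyEtale_of_surjective K φ' hsurj

theorem weaklyEtale_bot : Algebra.WeaklyEtale K ↥(⊥ : Subalgebra K A) := by
  have : Algebra.WeaklyEtale K K := inferInstance
  refine weaklyEtale_of_surjective K (Algebra.ofId K ↥(⊥ : Subalgebra K A)) ?_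
  rintro ⟨y, hy⟩
  obtain ⟨c, rfl⟩ := Algebra.mem_bot.mp hy
  exact ⟨c, rfl⟩

/-- The map `S ⊗ S → T ⊗ T` for `S ≤ T`. -/
noncomputable def tmap {S T : Subalgebra K A} (h : S ≤ T) : S ⊗[K] S →ₐ[K] T ⊗[K] T :=
  Algebra.TensorProduct.map (Subalgebra.inclusion h) (Subalgebra.inclusion h)

theorem tmap_comp {S T U : Subalgebra K A} (h₁ : S ≤ T) (h₂ : T ≤ U) :
    (tmap K h₂).comp (tmap K h₁) = tmap K (h₁.trans h₂) := by
  ext <;> rfl

theorem weaklyEtale_sSup_all :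
    Algebra.WeaklyEtale K ↥(sSup {S : Subalgebra K A | Algebra.WeaklyEtale K S}) := by
  set 𝒮 := {S : Subalgebra K A | Algebra.WeaklyEtale K S} with h𝒮
  set M := sSup 𝒮 with hM
  have hle : ∀ S ∈ 𝒮, S ≤ M := fun S hS => le_sSup hS
  -- membership in M
  have hmem : ∀ a ∈ M, ∃ S ∈ 𝒮, a ∈ S := by
    intro a ha
    have hne : Nonempty 𝒮 := ⟨⟨⊥, weaklyEtale_bot K⟩⟩
    have hdir : Directed (· ≤ ·) (fun S : 𝒮 => (S : Subalgebra K A)) := by
      rintro ⟨S₁, hS₁⟩ ⟨S₂, hS₂⟩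
      have : Algebra.WeaklyEtale K S₁ := hS₁
      have : Algebra.WeaklyEtale K S₂ := hS₂
      exact ⟨⟨S₁ ⊔ S₂, weaklyEtale_sup K S₁ S₂⟩, le_sup_left, le_sup_right⟩
    have h1 : (M : Set A) = ⋃ S : 𝒮, ((S : Subalgebra K A) : Set A) := by
      rw [hM, sSup_eq_iSup']
      exact Subalgebra.coe_iSup_of_directed hdir
    have h2 : a ∈ (M : Set A) := ha
    rw [h1, Set.mem_iUnion] at h2
    obtain ⟨⟨S, hS⟩, haS⟩ := h2
    exact ⟨S, hS, haS⟩
  have key : ∀ x : M ⊗[K] M, ∃ (S : Subalgebra K A) (hS : S ∈ 𝒮),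
      x ∈ (tmap K (hle S hS)).range := by
    intro x
    induction x with
    | zero => exact ⟨⊥, weaklyEtale_bot K, Subalgebra.zero_mem _⟩
    | tmul a b =>
      obtain ⟨Sa, hSa, ha⟩ := hmem a a.2
      obtain ⟨Sb, hSb, hb⟩ := hmem b b.2
      have : Algebra.WeaklyEtale K Sa := hSa
      have : Algebra.WeaklyEtale K Sb := hSb
      refine ⟨Sa ⊔ Sb, weaklyEtale_sup K Sa Sb, ?_⟩
      refine ⟨(⟨a, (le_sup_left : Sa ≤ Sa ⊔ Sb) ha⟩ : ↥(Sa ⊔ Sb)) ⊗ₜ[K]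
        (⟨b, (le_sup_right : Sb ≤ Sa ⊔ Sb) hb⟩ : ↥(Sa ⊔ Sb)), ?_⟩
      rfl
    | add x y hx hy =>
      obtain ⟨S₁, hS₁, x₁, rfl⟩ := hx
      obtain ⟨S₂, hS₂, y₂, rfl⟩ := hy
      have : Algebra.WeaklyEtale K S₁ := hS₁
      have : Algebra.WeaklyEtale K S₂ := hS₂
      have hS : S₁ ⊔ S₂ ∈ 𝒮 := weaklyEtale_sup K S₁ S₂
      refine ⟨S₁ ⊔ S₂, hS, ?_⟩
      refine Subalgebra.add_mem _ ?_ ?_
      · refine ⟨tmap K (le_sup_left : S₁ ≤ S₁ ⊔ S₂) x₁, ?_⟩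
        exact AlgHom.congr_fun (tmap_comp K le_sup_left (hle _ hS)) x₁
      · refine ⟨tmap K (le_sup_right : S₂ ≤ S₁ ⊔ S₂) y₂, ?_⟩
        exact AlgHom.congr_fun (tmap_comp K le_sup_right (hle _ hS)) y₂
  apply weaklyEtale_of_vnr_tensor
  intro x
  obtain ⟨S, hS, x', hx'⟩ := key x
  have hx'' : tmap K (hle S hS) x' = x := hx'
  have : Algebra.WeaklyEtale K S := hS
  obtain ⟨r, hr⟩ := vnr_tensor K S x'
  refine ⟨tmap K (hle S hS) r, ?_⟩
  rw [← hx'', ← map_mul, ← map_mul, ← hr]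

end Groth.Agent.Lead.WEField
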