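import Mathlib.AlgebraicGeometry.Morphisms.WeaklyEtale
import Mathlib.AlgebraicGeometry.Morphisms.FormallyUnramified
import Mathlib.AlgebraicGeometry.Morphisms.Etale
import Mathlib.RingTheory.Ideal.Pure

set_option autoImplicit false
universe u

open CategoryTheory CategoryTheory.Limits AlgebraicGeometry TensorProduct

namespace Groth.Agent.Lead

/-- A weakly étale algebra is formally unramified. -/
theorem formallyUnramified_of_weaklyEtale (R S : Type u) [CommRing R] [CommRing S] [Algebra R S]
    (hflat : (Algebra.TensorProduct.lmul' R (S := S)).toRingHom.Flat) :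
    Algebra.FormallyUnramified R S := by
  let F := (Algebra.TensorProduct.lmul' R (S := S)).toRingHom
  have hF : Function.Surjective F := fun x ↦ ⟨.mk _ _ _ x 1, by simp [F]⟩
  letI : Algebra (S ⊗[R] S) S := F.toAlgebra
  have hfl : Module.Flat (S ⊗[R] S) S := hflat
  have hsurj : Function.Surjective (Algebra.ofId (S ⊗[R] S) S) := hF
  have hker : RingHom.ker (Algebra.ofId (S ⊗[R] S) S) = KaehlerDifferential.ideal R S := rfl
  have e : ((S ⊗[R] S) ⧸ RingHom.ker (Algebra.ofId (S ⊗[R] S) S)) ≃ₐ[S ⊗[R] S] S :=
    Ideal.quotientKerAlgEquivOfSurjective hsurj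
  have hpure : (KaehlerDifferential.ideal R S).Pure := by
    rw [← hker]
    exact Module.Flat.of_linearEquiv e.toLinearEquiv
  have hidem : IsIdempotentElem (KaehlerDifferential.ideal R S) :=
    Ideal.isIdempotentElem_of_pure _
  exact ⟨(Ideal.cotangent_subsingleton_iff _).mpr hidem⟩

/-- A weakly étale morphism of schemes is formally unramified. -/
theorem formallyUnramified_of_weaklyEtale_scheme {X Y : Scheme.{u}} (f : X ⟶ Y) [WeaklyEtale f] :
    FormallyUnramified f := by
  wlog hY : ∃ R, Y = Spec R
  · rw [IsZariskiLocalAtTarget.iff_of_openCover (P := @FormallyUnramified) Y.affineCover]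
    intro i
    have inst : WeaklyEtale (pullback.snd f (Y.affineCover.f i)) := inferInstance
    exact this (pullback.snd _ _) ⟨_, rfl⟩
  obtain ⟨R, rfl⟩ := hY
  wlog hX : ∃ S, X = Spec S generalizing X
  · rw [IsZariskiLocalAtSource.iff_of_openCover (P := @FormallyUnramified) X.affineCover]
    intro i
    have inst : WeaklyEtale (X.affineCover.f i ≫ f) := inferInstance
    exact this (_ ≫ _) ⟨_, rfl⟩
  obtain ⟨S, rfl⟩ := hX
  obtain ⟨φ, rfl : Spec.map φ = f⟩ := Spec.homEquiv.symm.surjective f
  rw [HasRingHomProperty.Spec_iff (P := @FormallyUnramified)]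
  algebraize [φ.hom]
  let F := (Algebra.TensorProduct.lmul' R (S := S)).toRingHom
  have hdiag : Flat (pullback.diagonal (Spec.map φ)) := inferInstance
  have : Flat (Spec.map (CommRingCat.ofHom F)) := by
    rwa [← MorphismProperty.cancel_right_of_respectsIso (P := @Flat) _
      (pullbackSpecIso R S S).inv, ← AlgebraicGeometry.diagonal_SpecMap R S]
  have hFflat : F.Flat := (HasRingHomProperty.Spec_iff (P := @Flat)).mp this
  exact formallyUnramified_of_weaklyEtale R S hFflat

end Groth.Agent.Lead
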