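import Mathlib
import Groth.Agent.Lead.FD8

/-!
# FD9: finite type descends along faithfully flat finitely presented ring maps
-/

set_option autoImplicit false
universe u
open TensorProduct

namespace Groth.Agent.Lead.FD9

section range

variable {R₀ : Type u} [CommRing R₀] (B₀ : Type u) [CommRing B₀] [Algebra R₀ B₀]
  (A : Type u) [CommRing A] [Algebra R₀ A]

/-- the comparison map `C ⊗ B₀ → A ⊗ B₀` -/
noncomputable abbrev gC (C : Subalgebra R₀ A) : C ⊗[R₀] B₀ →ₐ[R₀] A ⊗[R₀] B₀ :=
  Algebra.TensorProduct.map C.val (AlgHom.id R₀ B₀)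

lemma exists_finset_mem_range (z : A ⊗[R₀] B₀) :
    ∃ T : Finset A, ∀ C : Subalgebra R₀ A, (↑T : Set A) ⊆ C → z ∈ (gC B₀ A C).range := by
  classical
  induction z using TensorProduct.induction_on with
  | zero => exact ⟨∅, fun C _ => zero_mem _⟩
  | tmul a β =>
    refine ⟨{a}, fun C hC => ?_⟩
    rw [Finset.coe_singleton, Set.singleton_subset_iff] at hC
    exact ⟨(⟨a, hC⟩ : C) ⊗ₜ β, by simp⟩
  | add x y hx hy =>
    obtain ⟨T, hT⟩ := hx; obtain ⟨T', hT'⟩ := hy
    refine ⟨T ∪ T', fun C hC => ?_⟩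
    rw [Finset.coe_union, Set.union_subset_iff] at hC
    exact add_mem (hT C hC.1) (hT' C hC.2)

/-- if `gC` is surjective and `C ⊗ B₀` is faithfully flat over `C` then `C = A`. -/
lemma eq_top_of_surjective (C : Subalgebra R₀ A) [Module.FaithfullyFlat C (C ⊗[R₀] B₀)]
    (hg : Function.Surjective (gC B₀ A C)) : C = ⊤ := by
  let ψ : (C ⊗[R₀] B₀) ⊗[C] A ≃ₐ[C] A ⊗[R₀] B₀ :=
    (Algebra.TensorProduct.comm C (C ⊗[R₀] B₀) A).trans
      ((Algebra.TensorProduct.cancelBaseChange R₀ C A A B₀).restrictScalars C)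
  have hψ : ∀ d : C ⊗[R₀] B₀, ψ (d ⊗ₜ 1) = gC B₀ A C d := by
    intro d
    induction d using TensorProduct.induction_on with
    | zero => simp
    | add x y hx hy => rw [add_tmul, map_add, map_add, hx, hy]
    | tmul c β =>
      simp only [ψ, AlgEquiv.trans_apply, Algebra.TensorProduct.comm_tmul]
      show Algebra.TensorProduct.cancelBaseChange R₀ C A A B₀ (1 ⊗ₜ (c ⊗ₜ β)) = _
      rw [Algebra.TensorProduct.cancelBaseChange_tmul]
      simp [Algebra.smul_def]
  have h2 : Function.Surjective (algebraMap C A) := by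
    refine Module.FaithfullyFlat.surjective_of_tensorProduct (R := C) (S := C ⊗[R₀] B₀)
      (T := A) ?_
    intro y
    obtain ⟨d, hd⟩ := hg (ψ y)
    refine ⟨d, ψ.injective ?_⟩
    rw [← hd, ← hψ]
    rfl
  rw [eq_top_iff]
  intro a _
  obtain ⟨c, hc⟩ := h2 a
  rw [← hc]
  exact c.2

end range

/-- **Finite type descends along faithfully flat finitely presented maps.** -/
theorem finiteType_of_faithfullyFlat {R A B : Type u} [CommRing R] [CommRing A] [CommRing B]
    [Algebra R A] [Algebra A B] [Algebra R B] [IsScalarTower R A B] [Algebra.FiniteType R B]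
    [Module.FaithfullyFlat A B] [Algebra.FinitePresentation A B] : Algebra.FiniteType R A := by
  classical
  let P := Algebra.Presentation.ofFinitePresentation A B
  haveI : IsNoetherianRing P.Core := Algebra.FiniteType.isNoetherianRing ℤ P.Core
  let e := P.tensorModelOfHasCoeffsEquiv P.Core
  haveI : Module.FaithfullyFlat A (A ⊗[P.Core] P.ModelOfHasCoeffs P.Core) :=
    Module.FaithfullyFlat.of_linearEquiv A B e.toLinearEquiv
  obtain ⟨T, hT⟩ := FD8.exists_finset_faithfullyFlat (R₀ := P.Core) (P.ModelOfHasCoeffs P.Core) A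
  obtain ⟨G, hG⟩ := (Algebra.FiniteType.out : (⊤ : Subalgebra R B).FG)
  choose T₁ hT₁ using fun b : B =>
    exists_finset_mem_range (R₀ := P.Core) (P.ModelOfHasCoeffs P.Core) A (e.symm b)
  have hSfin : ((↑T : Set A) ∪ ↑(G.biUnion T₁) ∪ P.coeffs).Finite :=
    ((Finset.finite_toSet _).union (Finset.finite_toSet _)).union P.finite_coeffs
  set CR : Subalgebra R A := Algebra.adjoin R ((↑T : Set A) ∪ ↑(G.biUnion T₁) ∪ P.coeffs) with hCR
  have hcore : ∀ r : P.Core, algebraMap P.Core A r ∈ CR := by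
    intro r
    have h1 : P.core ≤ CR.restrictScalars ℤ := by
      refine Algebra.adjoin_le ?_
      intro x hx
      exact Algebra.subset_adjoin (Or.inr hx)
    exact h1 r.2
  let C : Subalgebra P.Core A := { CR.toSubsemiring with algebraMap_mem' := hcore }
  have hCmem : ∀ a : A, a ∈ C ↔ a ∈ CR := fun a => Iff.rfl
  have hCT : (↑T : Set A) ⊆ C := fun x hx =>
    (hCmem x).mpr (Algebra.subset_adjoin (Or.inl (Or.inl hx)))
  have hCT₁ : ∀ b ∈ G, (↑(T₁ b) : Set A) ⊆ C := fun b hb x hx =>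
    (hCmem x).mpr (Algebra.subset_adjoin (Or.inl (Or.inr
      (Finset.mem_coe.mpr (Finset.mem_biUnion.mpr ⟨b, hb, hx⟩)))))
  haveI := hT C hCT
  have hrange : ∀ b : B, e.symm b ∈ (gC (P.ModelOfHasCoeffs P.Core) A C).range := by
    intro b
    have hb : b ∈ Algebra.adjoin R (↑G : Set B) := by rw [hG]; trivial
    induction hb using Algebra.adjoin_induction with
    | mem x hx => exact hT₁ x C (hCT₁ x hx)
    | algebraMap r =>
      refine ⟨(⟨algebraMap R A r, (hCmem _).mpr (Subalgebra.algebraMap_mem CR r)⟩ : C) ⊗ₜ 1, ?_⟩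
      rw [IsScalarTower.algebraMap_apply R A B, AlgEquiv.commutes]
      simp [Algebra.TensorProduct.algebraMap_apply]
    | add x y _ _ hx hy => rw [map_add]; exact add_mem hx hy
    | mul x y _ _ hx hy => rw [map_mul]; exact mul_mem hx hy
  have hg : Function.Surjective (gC (P.ModelOfHasCoeffs P.Core) A C) := by
    intro z
    obtain ⟨d, hd⟩ := hrange (e z)
    exact ⟨d, hd.trans (e.symm_apply_apply z)⟩
  have htop := eq_top_of_surjective _ A C hg
  have hCRtop : CR = ⊤ := by
    rw [eq_top_iff]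
    intro a _
    have : a ∈ C := htop ▸ (Algebra.mem_top : a ∈ (⊤ : Subalgebra P.Core A))
    exact (hCmem a).mp this
  exact ⟨hCRtop ▸ ⟨hSfin.toFinset, by rw [Set.Finite.coe_toFinset]⟩⟩

end Groth.Agent.Lead.FD9
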