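import Mathlib
open TensorProduct

namespace Groth.Agent.Lead.ModDict
universe u v

section algebra
variable {A : Type*} [CommRing A] {B : Type*} [CommRing B] [Algebra A B]
  {J : Type*} (Bj : J → Type*) [∀ j, CommRing (Bj j)] [∀ j, Algebra A (Bj j)]
  (p : ∀ j, Bj j →ₐ[A] B) (T : ∀ j j', (Bj j →ₐ[A] Bj j') → Prop)

/-- an elementary description of `B` as a filtered colimit of the `A`-algebras `Bj j` -/
structure IsStageSystem : Prop where
  compat : ∀ {j j'} (t : Bj j →ₐ[A] Bj j'), T j j' t → (p j').comp t = p j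
  comp : ∀ {j j' j''} (t : Bj j →ₐ[A] Bj j') (t' : Bj j' →ₐ[A] Bj j''),
    T j j' t → T j' j'' t' → T j j'' (t'.comp t)
  lift : ∀ j (b : B), ∃ j' t, T j j' t ∧ b ∈ Set.range (p j')
  kill : ∀ j (b : Bj j), p j b = 0 → ∃ j' t, T j j' t ∧ t b = 0

variable {Bj p T} (h : IsStageSystem Bj p T)
include h

theorem IsStageSystem.lift_fin : ∀ (n : ℕ) (b : Fin n → B) (j : J),
    ∃ j' t, T j j' t ∧ ∀ k, b k ∈ Set.range (p j') := by
  intro n
  induction n with
  | zero =>
    intro b j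
    obtain ⟨j', t, ht, -⟩ := h.lift j 0
    exact ⟨j', t, ht, fun k => k.elim0⟩
  | succ n ih =>
    intro b j
    obtain ⟨j₁, t₁, ht₁, h₁⟩ := ih (fun k => b k.succ) j
    obtain ⟨j₂, t₂, ht₂, h₂⟩ := h.lift j₁ (b 0)
    refine ⟨j₂, t₂.comp t₁, h.comp _ _ ht₁ ht₂, ?_⟩
    intro k
    refine Fin.cases h₂ (fun k => ?_) k
    obtain ⟨x, hx⟩ := h₁ k
    refine ⟨t₂ x, ?_⟩
    rw [← hx, ← h.compat t₂ ht₂]
    rfl

theorem IsStageSystem.kill_fin : ∀ (n : ℕ) (j : J) (b : Fin n → Bj j), (∀ k, p j (b k) = 0) →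
    ∃ j' t, T j j' t ∧ ∀ k, t (b k) = 0 := by
  intro n
  induction n with
  | zero =>
    intro j b _
    obtain ⟨j', t, ht, -⟩ := h.lift j 0
    exact ⟨j', t, ht, fun k => k.elim0⟩
  | succ n ih =>
    intro j b hb
    obtain ⟨j₁, t₁, ht₁, h₁⟩ := ih j (fun k => b k.succ) (fun k => hb _)
    obtain ⟨j₂, t₂, ht₂, h₂⟩ := h.kill j₁ (t₁ (b 0)) (by
      rw [← AlgHom.comp_apply, h.compat t₁ ht₁]
      exact hb 0)
    refine ⟨j₂, t₂.comp t₁, h.comp _ _ ht₁ ht₂, ?_⟩
    intro k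
    refine Fin.cases h₂ (fun k => ?_) k
    change t₂ (t₁ (b k.succ)) = 0
    rw [h₁ k, map_zero]

omit h in
theorem exists_sum_tmul {N : Type*} [AddCommGroup N] [Module A N] {n : ℕ} (y : Fin n → N)
    (hy : Submodule.span A (Set.range y) = ⊤) {C : Type*} [CommRing C] [Algebra A C]
    (z : N ⊗[A] C) : ∃ b : Fin n → C, z = ∑ l, y l ⊗ₜ[A] b l := by
  induction z using TensorProduct.induction_on with
  | zero => exact ⟨0, by simp⟩
  | tmul x c =>
    obtain ⟨a, rfl⟩ := (Submodule.mem_span_range_iff_exists_fun A).mp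
      (hy ▸ Submodule.mem_top : x ∈ Submodule.span A (Set.range y))
    refine ⟨fun l => a l • c, ?_⟩
    rw [TensorProduct.sum_tmul]
    refine Finset.sum_congr rfl fun l _ => ?_
    rw [TensorProduct.smul_tmul]
  | add z₁ z₂ h₁ h₂ =>
    obtain ⟨b₁, rfl⟩ := h₁
    obtain ⟨b₂, rfl⟩ := h₂
    refine ⟨b₁ + b₂, ?_⟩
    rw [← Finset.sum_add_distrib]
    refine Finset.sum_congr rfl fun l _ => ?_
    rw [Pi.add_apply, TensorProduct.tmul_add]

variable {N : Type*} [AddCommGroup N] [Module A N]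

theorem lTensor_eq_zero_stage_of_finite [Module.Finite A N] (j : J) (z : N ⊗[A] Bj j)
    (hz : (p j).toLinearMap.lTensor N z = 0) :
    ∃ j' t, T j j' t ∧ t.toLinearMap.lTensor N z = 0 := by
  obtain ⟨n, y, hy⟩ := Module.Finite.exists_fin (R := A) (M := N)
  obtain ⟨b, rfl⟩ := exists_sum_tmul y hy z
  have hz' : ∑ l, y l ⊗ₜ[A] (p j (b l)) = 0 := by simpa using hz
  obtain ⟨k, a, d, h1, h2⟩ := vanishesTrivially_of_sum_tmul_eq_zero A hy hz'
  obtain ⟨j₁, t₁, ht₁, hd⟩ := h.lift_fin k d j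
  choose d' hd' using hd
  obtain ⟨j₂, t₂, ht₂, hk⟩ := h.kill_fin n j₁ (fun l => t₁ (b l) - ∑ κ, a l κ • d' κ) (by
    intro l
    have h1l : p j (b l) = ∑ κ, a l κ • d κ := h1 l
    rw [map_sub, map_sum, ← AlgHom.comp_apply, h.compat t₁ ht₁, h1l, sub_eq_zero]
    refine Finset.sum_congr rfl fun κ _ => ?_
    rw [map_smul, hd'])
  refine ⟨j₂, t₂.comp t₁, h.comp _ _ ht₁ ht₂, ?_⟩
  rw [map_sum]
  simp only [LinearMap.lTensor_tmul]
  apply sum_tmul_eq_zero_of_vanishesTrivially A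
  refine ⟨k, a, fun κ => t₂ (d' κ), ?_, h2⟩
  intro l
  have := hk l
  rw [map_sub, sub_eq_zero] at this
  change t₂ (t₁ (b l)) = _
  rw [this, map_sum]
  refine Finset.sum_congr rfl fun κ _ => ?_
  rw [map_smul]

theorem lTensor_eq_zero_stage (j : J) (z : N ⊗[A] Bj j)
    (hz : (p j).toLinearMap.lTensor N z = 0) :
    ∃ j' t, T j j' t ∧ t.toLinearMap.lTensor N z = 0 := by
  obtain ⟨N₀, hN₀, z₀, rfl⟩ := Submodule.exists_fg_le_eq_rTensor_subtype z
  have h0 : N₀.subtype.rTensor B ((p j).toLinearMap.lTensor N₀ z₀) = N₀.subtype.rTensor B 0 := by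
    rw [map_zero, ← hz, ← LinearMap.comp_apply, ← LinearMap.comp_apply,
      LinearMap.rTensor_comp_lTensor, LinearMap.lTensor_comp_rTensor]
  obtain ⟨N₁, hN₁, hle, h1⟩ := hN₀.exists_rTensor_fg_inclusion_eq h0
  haveI : Module.Finite A N₁ := Module.Finite.iff_fg.mpr hN₁
  obtain ⟨j', t, ht, hz1⟩ := lTensor_eq_zero_stage_of_finite h (N := N₁) j
    ((N₀.inclusion hle).rTensor _ z₀) (by
      rw [← LinearMap.comp_apply, LinearMap.lTensor_comp_rTensor,
        ← LinearMap.rTensor_comp_lTensor, LinearMap.comp_apply, h1, map_zero])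
  refine ⟨j', t, ht, ?_⟩
  have e : N₀.subtype = N₁.subtype ∘ₗ N₀.inclusion hle := rfl
  rw [e, LinearMap.rTensor_comp, LinearMap.comp_apply,
    ← LinearMap.comp_apply (t.toLinearMap.lTensor N), LinearMap.lTensor_comp_rTensor,
    ← LinearMap.rTensor_comp_lTensor, LinearMap.comp_apply, hz1, map_zero]

theorem lTensor_eq_zero_stage_fin : ∀ (n : ℕ) (j : J) (z : Fin n → N ⊗[A] Bj j),
    (∀ k, (p j).toLinearMap.lTensor N (z k) = 0) →
    ∃ j' t, T j j' t ∧ ∀ k, t.toLinearMap.lTensor N (z k) = 0 := by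
  intro n
  induction n with
  | zero =>
    intro j z _
    obtain ⟨j', t, ht, -⟩ := h.lift j 0
    exact ⟨j', t, ht, fun k => k.elim0⟩
  | succ n ih =>
    intro j z hz
    obtain ⟨j₁, t₁, ht₁, h₁⟩ := ih j (fun k => z k.succ) (fun k => hz _)
    obtain ⟨j₂, t₂, ht₂, h₂⟩ := lTensor_eq_zero_stage h j₁ (t₁.toLinearMap.lTensor N (z 0)) (by
      rw [← LinearMap.comp_apply, ← LinearMap.lTensor_comp, ← AlgHom.comp_toLinearMap,
        h.compat t₁ ht₁]
      exact hz 0)
    refine ⟨j₂, t₂.comp t₁, h.comp _ _ ht₁ ht₂, ?_⟩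
    intro k
    rw [AlgHom.comp_toLinearMap, LinearMap.lTensor_comp, LinearMap.comp_apply]
    refine Fin.cases h₂ (fun k => ?_) k
    rw [h₁ k, map_zero]

/-- if the base change to `B` of a linear map out of a finite module vanishes, then so do the base
changes to all sufficiently late stages -/
theorem baseChange_eq_zero_stage {M : Type*} [AddCommGroup M] [Module A M] [Module.Finite A M]
    (m : M →ₗ[A] N) (hm : ∀ x : M, (m x) ⊗ₜ[A] (1 : B) = 0) (j : J) :
    ∃ j' t, T j j' t ∧ ∀ j'' t', T j' j'' t' → ∀ x : M, (m x) ⊗ₜ[A] (1 : Bj j'') = 0 := by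
  obtain ⟨n, x, hx⟩ := Module.Finite.exists_fin (R := A) (M := M)
  obtain ⟨j', t, ht, hz⟩ := lTensor_eq_zero_stage_fin h n j (fun k => m (x k) ⊗ₜ[A] (1 : Bj j))
    (fun k => by
      rw [LinearMap.lTensor_tmul]
      change m (x k) ⊗ₜ[A] (p j 1) = 0
      rw [map_one]
      exact hm _)
  refine ⟨j', t, ht, fun j'' t' _ => ?_⟩
  have key : ((TensorProduct.mk A N (Bj j'')).flip 1) ∘ₗ m = 0 := by
    apply LinearMap.ext_on_range hx
    intro k
    have := congrArg (t'.toLinearMap.lTensor N) (hz k)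
    rw [map_zero, ← LinearMap.comp_apply, ← LinearMap.lTensor_comp, LinearMap.lTensor_tmul] at this
    change m (x k) ⊗ₜ[A] (t' (t 1)) = 0 at this
    rw [map_one, map_one] at this
    exact this
  intro y
  exact congr($key y)

end algebra

section bridge
open ChangeOfRings

set_option backward.isDefEq.respectTransparency false in
theorem extendScalars_map_eq_zero_iff {R S : Type u} [CommRing R] [CommRing S] (f : R →+* S)
    {M M' : ModuleCat.{u} R} (g : M ⟶ M') :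
    (ModuleCat.extendScalars f).map g = 0 ↔
      ∀ x : M, @TensorProduct.tmul R _ M' S _ _ _ f.toAlgebra.toModule (g x) (1 : S) = 0 := by
  letI := f.toAlgebra
  constructor
  · intro h x
    have h1 : ((ModuleCat.extendScalars f).map g).hom
      ((1 : S) ⊗ₜ[R, f] x) = 0 := by rw [h]; rfl
    have h2 : ((1 : S) ⊗ₜ[R] (g x) : S ⊗[R] M') = 0 := h1
    have := congrArg (TensorProduct.comm R S M') h2
    exact this.trans (map_zero _)
  · intro h
    apply ModuleCat.ExtendScalars.hom_ext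
    intro x
    change ((1 : S) ⊗ₜ[R] (g x) : S ⊗[R] M') = 0
    have := congrArg (TensorProduct.comm R M' S) (h x)
    exact this.trans (map_zero _)

end bridge

end Groth.Agent.Lead.ModDict
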