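import Groth.Agent.Lead.ModDict1
open CategoryTheory Limits AlgebraicGeometry

namespace Groth.Agent.Lead.ModDict
universe u
open Scheme.Modules Groth.Agent.Helper8.TildeBC

section square
variable {X Y : Scheme.{u}} (f : X ⟶ Y) {U : Y.Opens} (hU : IsAffineOpen U) {V : X.Opens}
  (hV : IsAffineOpen V) (e : V ≤ f ⁻¹ᵁ U)
  {F G : Y.Modules} [F.IsQuasicoherent] [G.IsQuasicoherent] (δ : F ⟶ G)

/-- the counit iso for the restriction of a quasi-coherent module to an affine open -/
noncomputable def tildeIso (F : Y.Modules) [F.IsQuasicoherent] :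
    (tilde.functor Γ(Y, U)).obj ((secF hU).obj F) ≅ (resF hU).obj F := by
  have e := asIso (fromTildeΓ ((resF hU).obj F))
  exact e

theorem tildeIso_hom (F : Y.Modules) [F.IsQuasicoherent] :
    (tildeIso hU F).hom = fromTildeΓNatTrans.app ((resF hU).obj F) := rfl

/-- a morphism of quasi-coherent modules restricted to an affine open is `tilde` of the map on
sections -/
noncomputable def arrowIsoTilde :
    Arrow.mk ((tilde.functor Γ(Y, U)).map ((secF hU).map δ)) ≅ Arrow.mk ((resF hU).map δ) :=
  Arrow.isoMk (tildeIso hU F) (tildeIso hU G) (by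
    rw [tildeIso_hom, tildeIso_hom]
    exact (fromTildeΓNatTrans.naturality ((resF hU).map δ)).symm)

/-- the pullback of `δ` restricted to an affine open `V` over `U` is `tilde` of the base change of
the map on sections over `U` -/
noncomputable def arrowIsoPullback :
    Arrow.mk ((resF hV).map ((Scheme.Modules.pullback f).map δ)) ≅
      Arrow.mk ((tilde.functor Γ(X, V)).map
        ((ModuleCat.extendScalars.{u, u, u} (f.appLE U V e).hom).map ((secF hU).map δ))) :=
  arrowIsoOfNatIso (Θ f hU hV e) δ ≪≫
    (Scheme.Modules.pullback (Spec.map (f.appLE U V e))).mapArrow.mapIso (arrowIsoTilde hU δ).symm ≪≫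
    arrowIsoOfNatIso (tildePullbackIso (f.appLE U V e)) ((secF hU).map δ)

end square

end Groth.Agent.Lead.ModDict
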