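import Groth.Agent.Lead.ModDict7
open TensorProduct

namespace Groth.Agent.Lead.ModDict
universe u

section algebra
variable {A : Type*} [CommRing A] {B : Type*} [CommRing B] [Algebra A B]
  {J : Type*} {Bj : J → Type*} [∀ j, CommRing (Bj j)] [∀ j, Algebra A (Bj j)]
  {p : ∀ j, Bj j →ₐ[A] B} {T : ∀ j j', (Bj j →ₐ[A] Bj j') → Prop} (h : IsStageSystem Bj p T)
include h
variable {M N : Type*} [AddCommGroup M] [Module A M] [AddCommGroup N] [Module A N]

/-- if the base change to `B` of a surjective linear map from a finite module onto a finitely
presented module is bijective, then so are the base changes to all sufficiently late stages -/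
theorem rTensor_bijective_stage [Module.Finite A M] [Module.FinitePresentation A N]
    (m : M →ₗ[A] N) (hsurj : Function.Surjective m)
    (hm : Function.Injective (m.rTensor B)) (j : J) :
    ∃ j' t, T j j' t ∧ ∀ j'' t', T j' j'' t' → Function.Bijective (m.rTensor (Bj j'')) := by
  have hK : (LinearMap.ker m).FG := Module.FinitePresentation.fg_ker m hsurj
  haveI : Module.Finite A (LinearMap.ker m) := Module.Finite.iff_fg.mpr hK
  have hex : Function.Exact (LinearMap.ker m).subtype m := LinearMap.exact_subtype_ker_map m
  have h0 : ∀ x : LinearMap.ker m, ((LinearMap.ker m).subtype x) ⊗ₜ[A] (1 : B) = 0 := by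
    intro x
    apply hm
    rw [LinearMap.rTensor_tmul, map_zero]
    have : m ((LinearMap.ker m).subtype x) = 0 := x.2
    rw [this, zero_tmul]
  obtain ⟨j', t, ht, H⟩ := baseChange_eq_zero_stage h (LinearMap.ker m).subtype h0 j
  refine ⟨j', t, ht, fun j'' t' ht' => ⟨?_, LinearMap.rTensor_surjective _ hsurj⟩⟩
  have hz : (LinearMap.ker m).subtype.rTensor (Bj j'') = 0 := by
    apply TensorProduct.ext'
    intro x c
    rw [LinearMap.rTensor_tmul, LinearMap.zero_apply]
    have := congrArg ((LinearMap.mulLeft A c).lTensor M) (H j'' t' ht' x)
    rw [map_zero, LinearMap.lTensor_tmul, LinearMap.mulLeft_apply, mul_one] at this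
    exact this
  have hex' := rTensor_exact (Bj j'') hex hsurj
  rw [injective_iff_map_eq_zero]
  intro w hw
  obtain ⟨v, rfl⟩ := (hex' w).mp hw
  rw [hz, LinearMap.zero_apply]

end algebra

section bridge
open ChangeOfRings CategoryTheory

set_option backward.isDefEq.respectTransparency false in
theorem extendScalars_map_isIso_iff {R S : Type u} [CommRing R] [CommRing S] (f : R →+* S)
    {M M' : ModuleCat.{u} R} (g : M ⟶ M') :
    IsIso ((ModuleCat.extendScalars f).map g) ↔
      letI := f.toAlgebra
      Function.Bijective (g.hom.rTensor S) := by
  letI := f.toAlgebra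
  rw [ConcreteCategory.isIso_iff_bijective]
  have key : ∀ z : S ⊗[R] M, (TensorProduct.comm R S M') (g.hom.lTensor S z) =
      g.hom.rTensor S (TensorProduct.comm R S M z) := by
    intro z
    induction z using TensorProduct.induction_on with
    | zero => simp
    | tmul s x => simp
    | add z₁ z₂ h₁ h₂ => simp only [map_add, h₁, h₂]
  constructor
  · intro hb
    have hb' : Function.Bijective (fun z : S ⊗[R] M => g.hom.lTensor S z) := hb
    have e1 : (g.hom.rTensor S : M ⊗[R] S → M' ⊗[R] S) =
        (TensorProduct.comm R S M') ∘ (fun z : S ⊗[R] M => g.hom.lTensor S z) ∘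
          (TensorProduct.comm R S M).symm := by
      funext z
      simp only [Function.comp_apply, key, LinearEquiv.apply_symm_apply]
    rw [e1]
    exact (TensorProduct.comm R S M').bijective.comp
      (hb'.comp (TensorProduct.comm R S M).symm.bijective)
  · intro hb
    have e2 : (fun z : S ⊗[R] M => g.hom.lTensor S z) =
        (TensorProduct.comm R S M').symm ∘ (g.hom.rTensor S) ∘ (TensorProduct.comm R S M) := by
      funext z
      simp only [Function.comp_apply, ← key, LinearEquiv.symm_apply_apply]
    have hb' : Function.Bijective (fun z : S ⊗[R] M => g.hom.lTensor S z) := by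
      rw [e2]
      exact (TensorProduct.comm R S M').symm.bijective.comp
        (hb.comp (TensorProduct.comm R S M).bijective)
    exact hb'

theorem finite_extendScalars {R S : Type u} [CommRing R] [CommRing S] (f : R →+* S)
    (M : ModuleCat.{u} R) [Module.Finite R M] :
    Module.Finite S ((ModuleCat.extendScalars f).obj M) := by
  letI := f.toAlgebra
  exact (inferInstance : Module.Finite S (S ⊗[R] M))

set_option backward.isDefEq.respectTransparency false in
theorem fp_extendScalars {R S : Type u} [CommRing R] [CommRing S] (f : R →+* S)
    (M : ModuleCat.{u} R) [Module.FinitePresentation R M] :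
    Module.FinitePresentation S ((ModuleCat.extendScalars f).obj M) := by
  letI := f.toAlgebra
  exact (inferInstance : Module.FinitePresentation S (S ⊗[R] M))

end bridge

end Groth.Agent.Lead.ModDict
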