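import Groth.Agent.Lead.ModDict9
import Groth.Agent.Lead.ModDict10
import Groth.Agent.Helper4.FPTilde
open CategoryTheory Limits AlgebraicGeometry TensorProduct

namespace Groth.Agent.Lead.ModDict
universe u
open Scheme.Modules

section fp

theorem isFinitePresentation_of_iso {X : Scheme.{u}} {M N : X.Modules} (e : M ≅ N)
    (hM : SheafOfModules.IsFinitePresentation (R := X.ringCatSheaf) M) :
    SheafOfModules.IsFinitePresentation (R := X.ringCatSheaf) N := by
  obtain ⟨σ, hσ⟩ := SheafOfModules.IsFinitePresentation.exists_quasicoherentData M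
  let τ : SheafOfModules.QuasicoherentData.{u} (R := X.ringCatSheaf) N :=
    { I := σ.I
      X := σ.X
      coversTop := σ.coversTop
      presentation := fun i => (σ.presentation i).ofIsIso
        ((SheafOfModules.overFunctor X.ringCatSheaf (σ.X i)).map e.hom) }
  have : τ.IsFinitePresentation := by
    refine SheafOfModules.QuasicoherentData.IsFinitePresentation.mk (q := τ) (fun i => ?_)
    have := SheafOfModules.QuasicoherentData.IsFinitePresentation.isFinite_presentation (q := σ) i
    change ((σ.presentation i).ofIsIso _).IsFinite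
    infer_instance
  exact SheafOfModules.IsFinitePresentation.mk (M := N) ⟨τ, this⟩

variable {Y : Scheme.{u}} {U : Y.Opens} (hU : IsAffineOpen U)

theorem fp_secF (G : Y.Modules) [G.IsQuasicoherent]
    (hG : SheafOfModules.IsFinitePresentation (R := Y.ringCatSheaf) G) :
    Module.FinitePresentation Γ(Y, U) ((secF hU).obj G) := by
  have h1 := Groth.Agent.Helper4.FTRestrict.isFP_restrict hU.fromSpec G hG
  have h2 : SheafOfModules.IsFinitePresentation (R := (Spec Γ(Y, U)).ringCatSheaf)
      ((resF hU).obj G) := h1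
  have h3 : SheafOfModules.IsFinitePresentation (R := (Spec Γ(Y, U)).ringCatSheaf)
      ((tilde.functor Γ(Y, U)).obj ((secF hU).obj G)) :=
    isFinitePresentation_of_iso (tildeIso hU G).symm h2
  exact Groth.Agent.Helper4.FPTilde.finitePresentation_of_isFP_tilde Γ(Y, U) _ h3

end fp

section comp
variable {X Y Z : Scheme.{u}} (f : X ⟶ Y) (g : Y ⟶ Z) {U : Z.Opens} (hU : IsAffineOpen U)
  (hW : IsAffineOpen (f ⁻¹ᵁ (g ⁻¹ᵁ U)))
  {F G : Z.Modules} [F.IsQuasicoherent] [G.IsQuasicoherent] (δ : F ⟶ G)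

theorem tilde_map_isIso_iff {R : CommRingCat.{u}} {M N : ModuleCat.{u} R} (x : M ⟶ N) :
    IsIso ((tilde.functor R).map x) ↔ IsIso x :=
  ⟨fun _ => isIso_of_fully_faithful (tilde.functor R) x, fun _ => inferInstance⟩

theorem extendScalars_congr_isIso {R S : Type u} [CommRing R] [CommRing S] {φ ψ : R →+* S}
    (h : φ = ψ) {M N : ModuleCat.{u} R} (m : M ⟶ N) :
    IsIso ((ModuleCat.extendScalars.{u, u, u} φ).map m) ↔
      IsIso ((ModuleCat.extendScalars.{u, u, u} ψ).map m) := by
  subst h; rfl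

theorem resF_pullback₂_isIso_iff :
    IsIso ((resF hW).map ((Scheme.Modules.pullback f).map
      ((Scheme.Modules.pullback g).map δ))) ↔
      IsIso ((ModuleCat.extendScalars.{u, u, u} (f.app (g ⁻¹ᵁ U)).hom).map
        ((ModuleCat.extendScalars.{u, u, u} (g.app U).hom).map ((secF hU).map δ))) := by
  have e1 := isIso_iff_of_arrowIso
    (arrowIsoOfNatIso (Functor.isoWhiskerRight (pullbackComp f g) (resF hW)) δ)
  have e2 := isIso_iff_of_arrowIso (arrowIsoPullback (f ≫ g) hU hW le_rfl δ)
  have e4 : ((f ≫ g).appLE U (f ⁻¹ᵁ (g ⁻¹ᵁ U)) le_rfl).hom =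
      (f.app (g ⁻¹ᵁ U)).hom.comp (g.app U).hom := by
    rw [← CommRingCat.hom_comp, ← Scheme.Hom.comp_app, Scheme.Hom.app_eq_appLE]
    rfl
  have e5 := isIso_iff_of_arrowIso (arrowIsoOfNatIso
    (ModuleCat.extendScalarsComp.{u, u} (g.app U).hom (f.app (g ⁻¹ᵁ U)).hom) ((secF hU).map δ))
  change IsIso (((Scheme.Modules.pullback g ⋙ Scheme.Modules.pullback f) ⋙ resF hW).map δ) ↔ _
  rw [e1]
  change IsIso ((resF hW).map ((Scheme.Modules.pullback (f ≫ g)).map δ)) ↔ _
  rw [e2, tilde_map_isIso_iff, extendScalars_congr_isIso e4, e5]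
  rfl

end comp

end Groth.Agent.Lead.ModDict
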