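import Groth.Agent.Lead.ModDict12
import Groth.Agent.Helper4.QcohLimits
open CategoryTheory Limits AlgebraicGeometry TensorProduct

namespace Groth.Agent.Lead.ModDict
universe u
open Scheme.Modules

section factor
variable {C E : Type*} [Category C] [Abelian C] [Category E] [Abelian E] (P : C ⥤ E)
  [P.Additive] [PreservesFiniteColimits P] {F G₁ G₂ : C} (p₁ : F ⟶ G₁) [Epi p₁] (p₂ : F ⟶ G₂)

/-- factoring through the image under a right exact functor of an epimorphism -/
theorem exists_factor_iff :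
    (∃ k : P.obj G₁ ⟶ P.obj G₂, P.map p₁ ≫ k = P.map p₂) ↔ P.map (kernel.ι p₁ ≫ p₂) = 0 := by
  constructor
  · rintro ⟨k, hk⟩
    rw [P.map_comp, ← hk, ← Category.assoc, ← P.map_comp, kernel.condition, P.map_zero, zero_comp]
  · intro h
    have hcok : IsColimit (CokernelCofork.ofπ p₁ (kernel.condition p₁)) :=
      Abelian.epiIsCokernelOfKernel _ (limit.isLimit _)
    have hcok' := CokernelCofork.mapIsColimit _ hcok P
    rw [P.map_comp] at h
    refine ⟨hcok'.desc (CokernelCofork.ofπ (P.map p₂) h), ?_⟩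
    exact hcok'.fac (CokernelCofork.ofπ (P.map p₂) h) WalkingParallelPair.one

end factor

section kernel
variable {Y : Scheme.{u}} {U : Y.Opens} (hU : IsAffineOpen U) {F G : Y.Modules}
  [F.IsQuasicoherent] [G.IsQuasicoherent] (p : F ⟶ G)

noncomputable instance : PreservesFiniteLimits (secF hU) := by
  haveI : (moduleSpecΓFunctor (R := Γ(Y, U))).IsRightAdjoint :=
    (tilde.adjunction (R := Γ(Y, U))).isRightAdjoint
  haveI : PreservesFiniteLimits (moduleSpecΓFunctor (R := Γ(Y, U))) := inferInstance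
  haveI : PreservesFiniteLimits (resF hU) := inferInstance
  exact comp_preservesFiniteLimits _ _

theorem secF_map_surjective [Epi p] : Function.Surjective ((secF hU).map p).hom := by
  have h1 : Epi ((resF hU).map p) := inferInstance
  rw [← epi_iff_of_arrowIso (arrowIsoTilde hU p), tilde_map_epi_iff] at h1
  exact (ModuleCat.epi_iff_surjective _).mp h1

theorem finite_secF_kernel [Epi p]
    (hF : SheafOfModules.IsFiniteType (R := Y.ringCatSheaf) F)
    (hG : SheafOfModules.IsFinitePresentation (R := Y.ringCatSheaf) G) :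
    Module.Finite Γ(Y, U) ((secF hU).obj (kernel p)) := by
  haveI := finite_secF hU F hF
  haveI := fp_secF hU G hG
  let S : ShortComplex Y.Modules := ShortComplex.mk (kernel.ι p) p (kernel.condition p)
  have hS : S.Exact := S.exact_of_f_is_kernel (kernelIsKernel p)
  have hS' : (S.map (secF hU)).Exact :=
    hS.map_of_mono_of_preservesKernel (secF hU) (inferInstanceAs (Mono (kernel.ι p))) inferInstance
  have hrange := hS'.moduleCat_range_eq_ker
  have hinj : Function.Injective ((secF hU).map (kernel.ι p)).hom := by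
    haveI : Mono ((secF hU).map (kernel.ι p)) := inferInstance
    exact (ModuleCat.mono_iff_injective _).mp this
  have hker : (LinearMap.ker ((secF hU).map p).hom).FG :=
    Module.FinitePresentation.fg_ker _ (secF_map_surjective hU p)
  have hfin : Module.Finite Γ(Y, U) (LinearMap.range ((secF hU).map (kernel.ι p)).hom) := by
    rw [Module.Finite.iff_fg]
    have : LinearMap.range ((secF hU).map (kernel.ι p)).hom =
        LinearMap.ker ((secF hU).map p).hom := hrange
    rw [this]
    exact hker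
  exact Module.Finite.equiv (LinearEquiv.ofInjective _ hinj).symm

end kernel

section limit
variable {I : Type u} [SmallCategory I] [IsCofiltered I] (D : I ⥤ Scheme.{u}) (c : Cone D)
  (hc : IsLimit c) [∀ {i j : I} (f : i ⟶ j), IsAffineHom (D.map f)] (i₀ : I)
  {F G : (D.obj i₀).Modules} [F.IsQuasicoherent] [G.IsQuasicoherent]
  (hfin : ∀ {U : (D.obj i₀).Opens} (hU : IsAffineOpen U),
    Module.Finite Γ(D.obj i₀, U) ((secF hU).obj F)) (δ : F ⟶ G)

include hc hfin in
theorem local_eq_zero_stage' (hδ : (Scheme.Modules.pullback (c.π.app i₀)).map δ = 0)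
    {U : (D.obj i₀).Opens} (hU : IsAffineOpen U) :
    ∃ j : Over i₀, ∀ (j' : Over i₀) (_ : j' ⟶ j),
      (resF (hU.preimage (D.map j'.hom))).map
        ((Scheme.Modules.pullback (D.map j'.hom)).map δ) = 0 := by
  haveI := isAffineHom_π_app D c hc i₀
  haveI := hfin hU
  have h1 : (resF (hU.preimage (c.π.app i₀))).map
      ((Scheme.Modules.pullback (c.π.app i₀)).map δ) = 0 := by
    rw [hδ, Functor.map_zero]
  rw [resF_pullback_eq_zero_iff] at h1
  obtain ⟨j, hj⟩ := extendScalars_eq_zero_stage D c hc i₀ hU _ h1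
  refine ⟨j, fun j' g => ?_⟩
  rw [resF_pullback_eq_zero_iff]
  exact hj j' g

include hc hfin in
theorem eq_zero_stage' [CompactSpace (D.obj i₀)]
    (hδ : (Scheme.Modules.pullback (c.π.app i₀)).map δ = 0) :
    ∃ (j : I) (φ : j ⟶ i₀), (Scheme.Modules.pullback (D.map φ)).map δ = 0 := by
  classical
  have hx : ∀ x : D.obj i₀, ∃ (U : (D.obj i₀).Opens), IsAffineOpen U ∧ x ∈ U := by
    intro x
    obtain ⟨_, ⟨U, hU : IsAffineOpen U, rfl⟩, hxU, -⟩ :=
      (D.obj i₀).isBasis_affineOpens.exists_subset_of_mem_open (Set.mem_univ x) isOpen_univ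
    exact ⟨U, hU, hxU⟩
  choose U hU hxU using hx
  obtain ⟨t, ht⟩ := CompactSpace.elim_nhds_subcover (fun x => (U x : Set (D.obj i₀)))
    (fun x ↦ (U x).2.mem_nhds (hxU x))
  choose j hj using fun x => local_eq_zero_stage' D c hc i₀ hfin δ hδ (hU x)
  obtain ⟨S, hS⟩ := IsCofiltered.inf_objs_exists (t.image j)
  refine ⟨S.left, S.hom, ?_⟩
  refine eq_zero_of_restrict _ (ι := t) (fun x => Spec Γ(D.obj S.left, D.map S.hom ⁻¹ᵁ U x.1))
    (fun x => ((hU x.1).preimage (D.map S.hom)).fromSpec) ?_ ?_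
  · intro y
    obtain ⟨x, hxt, hyx⟩ := Set.mem_iUnion₂.mp (ht.ge (Set.mem_univ ((D.map S.hom).base y)))
    refine ⟨⟨x, hxt⟩, ?_⟩
    rw [IsAffineOpen.range_fromSpec]
    exact hyx
  · intro x
    exact hj x.1 S (hS (Finset.mem_image_of_mem _ x.2)).some

include hc hfin in
theorem eq_zero_iff_eventually' [CompactSpace (D.obj i₀)] :
    (Scheme.Modules.pullback (c.π.app i₀)).map δ = 0 ↔
      ∃ (j : I) (φ : j ⟶ i₀), (Scheme.Modules.pullback (D.map φ)).map δ = 0 := by
  constructor
  · exact eq_zero_stage' D c hc i₀ hfin δ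
  · rintro ⟨j, φ, h⟩
    have := map_eq_of_natIso (pullbackπIso D c i₀ φ) (x := δ) (y := 0) (by
      change (Scheme.Modules.pullback (c.π.app j)).map ((Scheme.Modules.pullback (D.map φ)).map δ)
        = (Scheme.Modules.pullback (c.π.app j)).map ((Scheme.Modules.pullback (D.map φ)).map 0)
      rw [h, Functor.map_zero, Functor.map_zero, Functor.map_zero])
    rw [this, Functor.map_zero]

end limit

section quotient
variable {I : Type u} [SmallCategory I] [IsCofiltered I] (D : I ⥤ Scheme.{u}) (c : Cone D)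
  (hc : IsLimit c) [∀ {i j : I} (f : i ⟶ j), IsAffineHom (D.map f)] (i₀ : I)
  {F G₁ G₂ : (D.obj i₀).Modules} [F.IsQuasicoherent] [G₁.IsQuasicoherent] [G₂.IsQuasicoherent]
  (hF : SheafOfModules.IsFiniteType (R := (D.obj i₀).ringCatSheaf) F)
  (hG₁ : SheafOfModules.IsFinitePresentation (R := (D.obj i₀).ringCatSheaf) G₁)
  (p₁ : F ⟶ G₁) (p₂ : F ⟶ G₂) [Epi p₁]

instance {X Y : Scheme.{u}} (f : X ⟶ Y) : PreservesFiniteColimits (Scheme.Modules.pullback f) := by
  haveI : PreservesColimitsOfSize.{0, 0} (Scheme.Modules.pullback f) :=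
    (pullbackPushforwardAdjunction f).leftAdjoint_preservesColimits
  exact PreservesColimitsOfSize.preservesFiniteColimits _

include hc hF hG₁ in
theorem factor_iff_eventually [CompactSpace (D.obj i₀)] :
    (∃ k : (Scheme.Modules.pullback (c.π.app i₀)).obj G₁ ⟶
        (Scheme.Modules.pullback (c.π.app i₀)).obj G₂,
        (Scheme.Modules.pullback (c.π.app i₀)).map p₁ ≫ k =
          (Scheme.Modules.pullback (c.π.app i₀)).map p₂) ↔
      ∃ (j : I) (φ : j ⟶ i₀) (k : (Scheme.Modules.pullback (D.map φ)).obj G₁ ⟶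
        (Scheme.Modules.pullback (D.map φ)).obj G₂),
        (Scheme.Modules.pullback (D.map φ)).map p₁ ≫ k =
          (Scheme.Modules.pullback (D.map φ)).map p₂ := by
  haveI : (kernel p₁).IsQuasicoherent := Groth.Agent.Helper4.QcohLimits.isQuasicoherent_kernel p₁
  rw [exists_factor_iff, eq_zero_iff_eventually' D c hc i₀
    (fun hU => finite_secF_kernel hU p₁ hF hG₁) (kernel.ι p₁ ≫ p₂)]
  constructor
  · rintro ⟨j, φ, h⟩
    exact ⟨j, φ, (exists_factor_iff _ p₁ p₂).mpr h⟩
  · rintro ⟨j, φ, k, hk⟩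
    exact ⟨j, φ, (exists_factor_iff _ p₁ p₂).mp ⟨k, hk⟩⟩

end quotient

end Groth.Agent.Lead.ModDict
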