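import Mathlib
import Groth.Agent.Lead.IndEtale
import Groth.Agent.Helper1.HensFE

set_option autoImplicit false
universe u
open CategoryTheory CategoryTheory.Limits AlgebraicGeometry TopologicalSpace
open scoped TensorProduct

/-! # Weakly etale: localizations, Spec, strict henselizations -/

namespace Groth.Agent.Lead.WESpec

/-- A localization is an epimorphism of rings. -/
theorem isEpi_of_isLocalization {C : Type*} [CommRing C] (M : Submonoid C) (B : Type*) [CommRing B]
    [Algebra C B] [IsLocalization M B] : Algebra.IsEpi C B := by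
  refine (Algebra.isEpi_iff_forall_one_tmul_eq C B).mpr fun b => ?_
  obtain ⟨c, s, rfl⟩ := IsLocalization.exists_mk'_eq M b
  have hu : IsUnit (algebraMap C B (s : C)) := IsLocalization.map_units B s
  obtain ⟨v, hv⟩ := hu.exists_right_inv
  have hb : IsLocalization.mk' B c s = algebraMap C B c * v := by
    rw [IsLocalization.mk'_eq_iff_eq_mul, mul_assoc, mul_comm v, hv, mul_one]
  have h1 : (1 : B) = (s : C) • v := by rw [Algebra.smul_def, hv]
  have h2 : (s : C) • IsLocalization.mk' B c s = algebraMap C B c := by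
    rw [Algebra.smul_def, mul_comm, IsLocalization.mk'_spec]
  calc (1 : B) ⊗ₜ[C] IsLocalization.mk' B c s
      = ((s : C) • v) ⊗ₜ[C] IsLocalization.mk' B c s := by rw [← h1]
    _ = v ⊗ₜ[C] ((s : C) • IsLocalization.mk' B c s) := by rw [TensorProduct.smul_tmul]
    _ = v ⊗ₜ[C] (c • (1 : B)) := by rw [h2, Algebra.algebraMap_eq_smul_one]
    _ = (c • v) ⊗ₜ[C] (1 : B) := by rw [TensorProduct.smul_tmul]
    _ = IsLocalization.mk' B c s ⊗ₜ[C] 1 := by rw [hb, Algebra.smul_def]

/-- A localization is weakly etale. -/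
theorem weaklyEtale_of_isLocalization {C : Type*} [CommRing C] (M : Submonoid C) (B : Type*)
    [CommRing B] [Algebra C B] [IsLocalization M B] : Algebra.WeaklyEtale C B := by
  have hflat : Module.Flat C B := IsLocalization.flat B M
  refine ⟨hflat, ?_⟩
  have hepi := isEpi_of_isLocalization M B
  apply RingHom.Flat.of_bijective
  constructor
  · intro x y hxy
    apply hepi.injective_lift_mul
    have h : ∀ z : B ⊗[C] B, TensorProduct.lift (LinearMap.mul C B) z =
        Algebra.TensorProduct.lmul' C z := by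
      intro z
      induction z using TensorProduct.induction_on with
      | zero => simp
      | tmul a b => simp
      | add a b ha hb => simp only [map_add, ha, hb]
    rw [h, h]
    exact hxy
  · intro b
    exact ⟨b ⊗ₜ 1, by simp⟩


/-- `Spec` of a weakly etale algebra map is a weakly etale morphism. -/
theorem weaklyEtale_specMap (R S : Type u) [CommRing R] [CommRing S] [Algebra R S]
    [Algebra.WeaklyEtale R S] :
    WeaklyEtale (Spec.map (CommRingCat.ofHom (algebraMap R S))) := by
  have h1 : Flat (Spec.map (CommRingCat.ofHom (algebraMap R S))) := by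
    rw [Flat.SpecMap_iff]
    exact RingHom.flat_algebraMap_iff.2 (inferInstance : Module.Flat R S)
  refine ⟨h1, ?_⟩
  rw [diagonal_SpecMap]
  have h2 : Flat (Spec.map (CommRingCat.ofHom
      (Algebra.TensorProduct.lmul' R : S ⊗[R] S →ₐ[R] S).toRingHom)) := by
    rw [Flat.SpecMap_iff]
    exact Algebra.WeaklyEtale.flat_lmul' R S
  infer_instance

/-- The canonical morphism `Spec 𝒪_{X,x} ⟶ X` is flat. -/
theorem flat_fromSpecStalk (X : Scheme.{u}) (x : X) : Flat (X.fromSpecStalk x) := by
  obtain ⟨_, ⟨U, hU, rfl⟩, hxU, -⟩ := (X.isBasis_affineOpens).exists_subset_of_mem_open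
    (Set.mem_univ x) isOpen_univ
  rw [← hU.fromSpecStalk_eq_fromSpecStalk hxU]
  unfold IsAffineOpen.fromSpecStalk
  have : Flat (Spec.map (X.presheaf.germ U x hxU)) := by
    rw [Flat.SpecMap_iff]
    have := hU.isLocalization_stalk ⟨x, hxU⟩
    letI := (X.presheaf.germ U x hxU).hom.toAlgebra
    exact IsLocalization.flat (X.presheaf.stalk x) (hU.primeIdealOf ⟨x, hxU⟩).asIdeal.primeCompl
  infer_instance

/-- The canonical morphism `Spec 𝒪_{X,x} ⟶ X` is weakly etale. -/
theorem weaklyEtale_fromSpecStalk (X : Scheme.{u}) (x : X) : WeaklyEtale (X.fromSpecStalk x) := by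
  have := flat_fromSpecStalk X x
  refine ⟨inferInstance, ?_⟩
  infer_instance


open Groth.Agent.Helper1.Hens

/-- the local ring of a pointed etale algebra is weakly etale over the base -/
theorem weaklyEtale_L {A : Type u} [CommRing A] {Ω : Type u} [Field Ω] [Algebra A Ω]
    (i : Idx A Ω) : Algebra.WeaklyEtale A i.L := by
  have h1 : Algebra.WeaklyEtale A i.C := inferInstance
  have h2 : Algebra.WeaklyEtale i.C i.L := weaklyEtale_of_isLocalization (pt i.γ).primeCompl i.L
  exact Algebra.WeaklyEtale.trans A i.C i.L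

/-- Any algebra isomorphic to `Hens A Ω` is weakly etale over `A`. -/
theorem weaklyEtale_of_equiv_hens {A : Type u} [CommRing A] {Ω : Type u} [Field Ω] [Algebra A Ω]
    (S : Type u) [CommRing S] [Algebra A S] (e : S ≃ₐ[A] Hens A Ω) : Algebra.WeaklyEtale A S := by
  have hJ : IsFiltered (Idx A Ω) := inferInstance
  let φ : ∀ j : Idx A Ω, j.L →ₐ[A] S := fun j => e.symm.toAlgHom.comp (Hens.ofAlg j)
  let t : ∀ {i j : Idx A Ω}, (i ⟶ j) → (i.L →ₐ[A] j.L) := fun f => Idx.trans (leOfHom f)
  have hφ : ∀ {i j : Idx A Ω} (f : i ⟶ j) (x : i.L), φ j (t f x) = φ i x := by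
    intro i j f x
    show e.symm (Hens.of j (Idx.trans (leOfHom f) x)) = e.symm (Hens.of i x)
    rw [Hens.of_trans]
  have hsurj : ∀ b : S, ∃ j y, φ j y = b := by
    intro b
    obtain ⟨j, y, hy⟩ := Hens.exists_of (e b)
    refine ⟨j, y, ?_⟩
    show e.symm (Hens.of j y) = b
    rw [hy, e.symm_apply_apply]
  have hinj : ∀ (i : Idx A Ω) (x y : i.L), φ i x = φ i y →
      ∃ (k : Idx A Ω) (f : i ⟶ k), t f x = t f y := by
    intro i x y hxy
    have h1 : Hens.of i x = Hens.of i y := e.symm.injective hxy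
    have h2 : Hens.of i (x - y) = 0 := by rw [map_sub, h1, sub_self]
    obtain ⟨k, hik, hk⟩ := Hens.of_eq_zero h2
    refine ⟨k, homOfLE hik, ?_⟩
    show Idx.trans _ x = Idx.trans _ y
    rw [map_sub, sub_eq_zero] at hk
    exact hk
  have hflat : ∀ j : Idx A Ω, Module.Flat A j.L := fun j => inferInstance
  refine ⟨?_, ?_⟩
  · exact Groth.Agent.Lead.IndEtale.flat_of_system (fun j : Idx A Ω => j.L) t φ hφ hsurj hinj
  · exact Groth.Agent.Lead.IndEtale.flat_lmul'_of_system (fun j : Idx A Ω => j.L) t φ
      (fun j => (weaklyEtale_L j).flat_lmul') hφ hsurj hinj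

end Groth.Agent.Lead.WESpec
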