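import Mathlib
import Groth.Agent.Helper2.NilpCrit
import Groth.Agent.Lead.ThickBC2
import Groth.Prelude.Def_MoreMor

set_option autoImplicit false
open CategoryTheory AlgebraicGeometry Limits
open scoped TensorProduct
universe u

namespace Groth.Agent.Lead.Deform

section algebra

theorem rTensor_injective_congr {S M : Type u} [CommRing S] [AddCommGroup M] [Module S M]
    {I I' : Ideal S} (h : I = I')
    (hI : Function.Injective (LinearMap.rTensor M I.subtype)) :
    Function.Injective (LinearMap.rTensor M I'.subtype) := by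
  subst h; exact hI

/-- the reduction of `β` modulo `K` is flat, phrased with literal quotients -/
theorem flat_quotient_of_flat {B' C' B C : Type u} [CommRing B'] [CommRing C'] [CommRing B]
    [CommRing C] [Algebra B' C'] (φ : B →+* C) (πB : B' →+* B) (πC : C' →+* C)
    (hcomm : φ.comp πB = πC.comp (algebraMap B' C')) (hπB : Function.Surjective πB)
    (hπC : Function.Surjective πC) (K : Ideal B') (hK : RingHom.ker πB = K)
    (hL : RingHom.ker πC = K.map (algebraMap B' C')) (hφ : φ.Flat) :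
    Module.Flat (B' ⧸ K) (C' ⧸ K.map (algebraMap B' C')) := by
  let e₁ : (B' ⧸ K) ≃+* B :=
    (Ideal.quotEquivOfEq hK.symm).trans (RingHom.quotientKerEquivOfSurjective hπB)
  let e₃ : (C' ⧸ K.map (algebraMap B' C')) ≃+* C :=
    (Ideal.quotEquivOfEq hL.symm).trans (RingHom.quotientKerEquivOfSurjective hπC)
  have hcomp : algebraMap (B' ⧸ K) (C' ⧸ K.map (algebraMap B' C')) =
      (e₃.symm.toRingHom.comp φ).comp e₁.toRingHom := by
    apply Ideal.Quotient.ringHom_ext
    ext b
    simp only [RingHom.coe_comp, Function.comp_apply]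
    have h1 : e₁.toRingHom (Ideal.Quotient.mk K b) = πB b := rfl
    rw [h1]
    have h2 : φ (πB b) = πC (algebraMap B' C' b) := congrArg (fun ψ => ψ b) hcomm
    rw [h2]
    have h3 : e₃ (Ideal.Quotient.mk _ (algebraMap B' C' b)) = πC (algebraMap B' C' b) := rfl
    rw [← h3]
    have h4 : e₃.symm.toRingHom (e₃ (Ideal.Quotient.mk _ (algebraMap B' C' b))) =
        Ideal.Quotient.mk _ (algebraMap B' C' b) := e₃.symm_apply_apply _
    rw [h4]
    rfl
  rw [← RingHom.flat_algebraMap_iff, hcomp]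
  exact (RingHom.Flat.of_bijective (f := e₁.toRingHom) e₁.bijective).comp
    (hφ.comp (RingHom.Flat.of_bijective (f := e₃.symm.toRingHom) e₃.symm.bijective))


/-- nilpotent fibre criterion for flatness -/
theorem flat_of_nilpotent_fibre {A' B' C' B C : Type u} [CommRing A'] [CommRing B'] [CommRing C']
    [CommRing B] [CommRing C] (α : A' →+* B') (β : B' →+* C') (φ : B →+* C) (πB : B' →+* B)
    (πC : C' →+* C) (hcomm : φ.comp πB = πC.comp β) (hπB : Function.Surjective πB)
    (hπC : Function.Surjective πC) (J : Ideal A') (hJ : IsNilpotent J)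
    (hK : RingHom.ker πB = J.map α) (hL : RingHom.ker πC = (RingHom.ker πB).map β)
    (hflat : (β.comp α).Flat) (hφ : φ.Flat) : β.Flat := by
  algebraize [α, β, β.comp α]
  let Kb : Ideal B' := J.map (algebraMap A' B')
  have hnil : IsNilpotent Kb := by
    obtain ⟨n, hn⟩ := hJ
    refine ⟨n, ?_⟩
    show (J.map (algebraMap A' B')) ^ n = 0
    rw [← Ideal.map_pow, hn, Ideal.zero_eq_bot, Ideal.map_bot]
    rfl
  have h1 : ∀ j : ℕ, Function.Injective (LinearMap.rTensor C' (Kb ^ j).subtype) := by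
    intro j
    have := Groth.Agent.Helper2.FibreCrit.rTensor_map_injective (R := A') (S := B') (M := C') (J ^ j)
    exact rTensor_injective_congr (Ideal.map_pow _ _ _) this
  have hq : Module.Flat (B' ⧸ Kb) (C' ⧸ Kb.map (algebraMap B' C')) :=
    flat_quotient_of_flat φ πB πC hcomm hπB hπC Kb hK (by rw [hL, hK]; rfl) hφ
  haveI : Module.Flat (B' ⧸ Kb) ((B' ⧸ Kb) ⊗[B'] C') :=
    Module.Flat.of_linearEquiv
      (Algebra.TensorProduct.quotIdealMapEquivQuotTensor C' Kb).symm.toLinearEquiv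
  exact Groth.Agent.Helper2.NilpCrit.flat_of_nilpotent Kb hnil h1

end algebra


section schemes

theorem flat_stableSource : RingHom.StableUnderCompositionWithLocalizationAwaySource
    (fun {R S : Type u} [CommRing R] [CommRing S] (f : R →+* S) => f.Flat) := by
  intro R S T _ _ _ _ r _ f hf
  exact RingHom.Flat.comp (RingHom.Flat.holdsForLocalizationAway S r) hf

/-- a finite order thickening has (uniformly) nilpotent kernels on affine opens -/
theorem nilpotent_ker {S S' : Scheme.{u}} (iS : S ⟶ S')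
    (hS : MoreMor.IsFiniteOrderThickening iS) :
    ∃ n : ℕ, ∀ V' : S'.affineOpens, (RingHom.ker (iS.app V'.1).hom) ^ n = ⊥ := by
  obtain ⟨⟨hci, -⟩, n, hn⟩ := hS
  haveI := hci
  refine ⟨n, fun V' => ?_⟩
  rw [← Scheme.Hom.ker_apply]
  have h1 := congrArg (fun I : S'.IdealSheafData => I.ideal V') hn
  simp only [Scheme.IdealSheafData.ideal_pow, Pi.pow_apply] at h1
  exact h1

variable {X X' Y Y' S S' : Scheme.{u}} (iX : X ⟶ X') (iY : Y ⟶ Y') (iS : S ⟶ S')
  (f : X ⟶ Y) (f' : X' ⟶ Y') (g : Y ⟶ S) (g' : Y' ⟶ S')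

theorem isPullback_top (hcX : IsPullback iX (f ≫ g) (f' ≫ g') iS) (hcY : IsPullback iY g g' iS)
    (w : iX ≫ f' = f ≫ iY) : IsPullback iX f f' iY :=
  IsPullback.of_bot hcX w hcY

/-- deforming flatness along a finite order thickening of the base -/
theorem flat_of_deform (hS : MoreMor.IsFiniteOrderThickening iS)
    (hcX : IsPullback iX (f ≫ g) (f' ≫ g') iS) (hcY : IsPullback iY g g' iS)
    (w : iX ≫ f' = f ≫ iY) [Flat (f' ≫ g')] [Flat f] : Flat f' := by
  haveI := hS.1.1
  have hXY : IsPullback iX f f' iY := isPullback_top iX iY iS f f' g g' hcX hcY w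
  haveI : IsClosedImmersion iY := ThickBC.isClosedImmersion_of_isPullback hcY
  haveI : IsClosedImmersion iX := ThickBC.isClosedImmersion_of_isPullback hXY
  obtain ⟨n, hn⟩ := nilpotent_ker iS hS
  rw [HasRingHomProperty.iff_exists_appLE (P := @Flat) flat_stableSource]
  intro x'
  obtain ⟨W', hW', hxW', -⟩ :=
    exists_isAffineOpen_mem_and_subset (x := g' (f' x')) (U := ⊤) trivial
  obtain ⟨V', hV', hxV', hVW⟩ :=
    exists_isAffineOpen_mem_and_subset (x := f' x') (U := g' ⁻¹ᵁ W') hxW'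
  obtain ⟨U', hU', hxU', hUV⟩ :=
    exists_isAffineOpen_mem_and_subset (x := x') (U := f' ⁻¹ᵁ V') hxV'
  refine ⟨⟨V', hV'⟩, ⟨U', hU'⟩, hxU', hUV, ?_⟩
  obtain ⟨a1, a2, a3, a4⟩ := ThickBC.square_facts hcY ⟨W', hW'⟩ ⟨V', hV'⟩ hVW
  obtain ⟨b1, b2, b3, b4⟩ := ThickBC.square_facts hXY ⟨V', hV'⟩ ⟨U', hU'⟩ hUV
  have hφ : (f.appLE (iY ⁻¹ᵁ V') (iX ⁻¹ᵁ U') (ThickBC.preimage_le hXY V' U' hUV)).hom.Flat :=
    HasRingHomProperty.appLE @Flat f inferInstance ⟨_, hV'.preimage iY⟩
      ⟨_, hU'.preimage iX⟩ _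
  have hcomp : ((f'.appLE V' U' hUV).hom.comp (g'.appLE W' V' hVW).hom).Flat := by
    rw [← CommRingCat.hom_comp, Scheme.Hom.appLE_comp_appLE]
    exact HasRingHomProperty.appLE @Flat (f' ≫ g') inferInstance ⟨W', hW'⟩ ⟨U', hU'⟩ _
  exact flat_of_nilpotent_fibre (g'.appLE W' V' hVW).hom (f'.appLE V' U' hUV).hom _
    (iY.app V').hom (iX.app U').hom b1 b2 b3 (RingHom.ker (iS.app W').hom)
    ⟨n, by rw [hn ⟨W', hW'⟩]; rfl⟩ a4 b4 hcomp hφ

end schemes

end Groth.Agent.Lead.Deform
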