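import Mathlib
import Groth.Agent.Lead.Deform
import Groth.Agent.S1311
import Groth.Agent.S3862
import Groth.Agent.Lead.Thickening

set_option autoImplicit false
open CategoryTheory AlgebraicGeometry Limits
universe u

namespace Groth.Agent.Lead.Deform

variable {X X' Y Y' S S' : Scheme.{u}} (iX : X ⟶ X') (iY : Y ⟶ Y') (iS : S ⟶ S')
  (f : X ⟶ Y) (f' : X' ⟶ Y') (g : Y ⟶ S) (g' : Y' ⟶ S')

/-- base change of a finite order thickening is a finite order thickening -/
theorem finiteOrder_of_isPullback (hS : MoreMor.IsFiniteOrderThickening iS)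
    (hcY : IsPullback iY g g' iS) : MoreMor.IsFiniteOrderThickening iY := by
  haveI := hS.1.1
  haveI := hS.1.2
  haveI : IsClosedImmersion iY := ThickBC.isClosedImmersion_of_isPullback hcY
  haveI : Surjective iY := MorphismProperty.of_isPullback (P := @Surjective) hcY.flip inferInstance
  refine ⟨⟨inferInstance, inferInstance⟩, ?_⟩
  obtain ⟨n, hn⟩ := hS.2
  refine ⟨n + 1, ?_⟩
  rw [ThickBC.ker_eq_comap hcY, ← Groth.Agent.S3862.comap_pow_succ, pow_succ, hn, zero_mul]
  simp

theorem isIso_of_deform (hS : MoreMor.IsFiniteOrderThickening iS)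
    (hcX : IsPullback iX (f ≫ g) (f' ≫ g') iS) (hcY : IsPullback iY g g' iS)
    (w : iX ≫ f' = f ≫ iY) [Flat (f' ≫ g')] [IsIso f] : IsIso f' := by
  have hXY : IsPullback iX f f' iY := isPullback_top iX iY iS f f' g g' hcX hcY w
  have hY := finiteOrder_of_isPullback iY iS g g' hS hcY
  haveI := hY.1.1
  haveI := hY.1.2
  haveI : Flat f' := flat_of_deform iX iY iS f f' g g' hS hcX hcY w
  haveI : Mono f' := (Groth.Agent.S1311.result iX iY f f' hY hXY).mp inferInstance
  haveI : Surjective iX := MorphismProperty.of_isPullback (P := @Surjective) hXY.flip inferInstance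
  haveI : Surjective f' := by
    constructor
    intro y'
    obtain ⟨y, rfl⟩ := iY.surjective y'
    obtain ⟨x, rfl⟩ := f.surjective y
    refine ⟨iX x, ?_⟩
    rw [← Scheme.Hom.comp_apply, ← Scheme.Hom.comp_apply, w]
  haveI : QuasiCompact f' := by
    haveI : QuasiCompact (iX ≫ f') := by rw [w]; infer_instance
    exact Groth.Agent.Lead.quasiCompact_of_comp_surjective iX f'
  exact Flat.isIso_of_surjective_of_mono f'

theorem isOpenImmersion_of_deform (hS : MoreMor.IsFiniteOrderThickening iS)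
    (hcX : IsPullback iX (f ≫ g) (f' ≫ g') iS) (hcY : IsPullback iY g g' iS)
    (w : iX ≫ f' = f ≫ iY) [Flat (f' ≫ g')] [IsOpenImmersion f] : IsOpenImmersion f' := by
  have hXY : IsPullback iX f f' iY := isPullback_top iX iY iS f f' g g' hcX hcY w
  have hY := finiteOrder_of_isPullback iY iS g g' hS hcY
  haveI := hY.1.1
  haveI := hY.1.2
  haveI : Surjective iX := MorphismProperty.of_isPullback (P := @Surjective) hXY.flip inferInstance
  have hhomeo : IsHomeomorph iY :=
    isHomeomorph_iff_isEmbedding_surjective.mpr ⟨iY.isClosedEmbedding.isEmbedding, iY.surjective⟩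
  let U : Y.Opens := f.opensRange
  let U' : Y'.Opens := ⟨iY '' (U : Set Y), hhomeo.isOpenMap _ U.2⟩
  have hUU' : iY ⁻¹ᵁ U' = U := by
    ext y
    simp only [U', TopologicalSpace.Opens.map_coe, TopologicalSpace.Opens.coe_mk, Set.mem_preimage,
      SetLike.mem_coe]
    constructor
    · rintro ⟨z, hz, hzy⟩
      rw [← hhomeo.injective hzy]; exact hz
    · intro hy; exact ⟨y, hy, rfl⟩
  have hrange' : Set.range f' ⊆ Set.range U'.ι := by
    rw [Scheme.Opens.range_ι]
    rintro _ ⟨x', rfl⟩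
    obtain ⟨x, rfl⟩ := iX.surjective x'
    have : f' (iX x) = iY (f x) := by
      rw [← Scheme.Hom.comp_apply, ← Scheme.Hom.comp_apply, w]
    rw [this]
    exact ⟨f x, ⟨x, rfl⟩, rfl⟩
  let h' : X' ⟶ U' := IsOpenImmersion.lift U'.ι f' hrange'
  have hh' : h' ≫ U'.ι = f' := IsOpenImmersion.lift_fac _ _ _
  have hrange : Set.range f = Set.range (iY ⁻¹ᵁ U').ι := by
    rw [Scheme.Opens.range_ι, hUU']; rfl
  let fU : X ⟶ (iY ⁻¹ᵁ U') := (IsOpenImmersion.isoOfRangeEq f (iY ⁻¹ᵁ U').ι hrange).hom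
  have hfU : fU ≫ (iY ⁻¹ᵁ U').ι = f := IsOpenImmersion.isoOfRangeEq_hom_fac _ _ _
  haveI : IsIso fU := by dsimp only [fU]; infer_instance
  have hbot : IsPullback (iY ∣_ U') (iY ⁻¹ᵁ U').ι U'.ι iY := (isPullback_morphismRestrict iY U').flip.flip
  have hcY' : IsPullback (iY ∣_ U') ((iY ⁻¹ᵁ U').ι ≫ g) (U'.ι ≫ g') iS := hbot.paste_vert hcY
  have hcX' : IsPullback iX (fU ≫ ((iY ⁻¹ᵁ U').ι ≫ g)) (h' ≫ (U'.ι ≫ g')) iS := by
    rw [← Category.assoc, ← Category.assoc, hfU, hh']; exact hcX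
  have w' : iX ≫ h' = fU ≫ (iY ∣_ U') := by
    rw [← cancel_mono U'.ι, Category.assoc, Category.assoc, hh', morphismRestrict_ι,
      ← Category.assoc, hfU]
    exact w
  haveI : Flat (h' ≫ (U'.ι ≫ g')) := by
    rw [← Category.assoc, hh']; infer_instance
  haveI : IsIso h' := isIso_of_deform iX (iY ∣_ U') iS fU h' ((iY ⁻¹ᵁ U').ι ≫ g) (U'.ι ≫ g')
    hS hcX' hcY' w'
  rw [← hh']
  infer_instance

end Groth.Agent.Lead.Deform
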