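import Mathlib
import Groth.Agent.Lead.Deform2

set_option autoImplicit false
open CategoryTheory AlgebraicGeometry Limits
universe u

namespace Groth.Agent.Lead.Deform

section algebra

/-- nilpotent Nakayama for ideals: `I ≤ N ⊔ 𝔍 * I` with `𝔍` nilpotent gives `I ≤ N`. -/
theorem le_of_le_sup_mul {P : Type*} [CommRing P] (𝔍 I N : Ideal P) (n : ℕ) (h𝔍 : 𝔍 ^ n = ⊥)
    (h : I ≤ N ⊔ 𝔍 * I) : I ≤ N := by
  have key : ∀ k : ℕ, I ≤ N ⊔ 𝔍 ^ k * I := by
    intro k
    induction k with
    | zero => simp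
    | succ k ih =>
      refine h.trans (sup_le le_sup_left ?_)
      refine (Ideal.mul_mono_right ih).trans ?_
      rw [Ideal.mul_sup]
      refine sup_le (Ideal.mul_le_right.trans le_sup_left) ?_
      rw [← mul_assoc, ← pow_succ']
      exact le_sup_right
  have := key n
  rw [h𝔍] at this
  simpa using this

theorem finitePresentation_of_nilpotent {A' B' C' B C : Type u} [CommRing A'] [CommRing B']
    [CommRing C'] [CommRing B] [CommRing C] (α : A' →+* B') (β : B' →+* C') (φ : B →+* C)
    (πB : B' →+* B) (πC : C' →+* C) (hcomm : φ.comp πB = πC.comp β)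
    (hπB : Function.Surjective πB) (hπC : Function.Surjective πC) (J : Ideal A') (n : ℕ)
    (hJ : J ^ n = ⊥) (hK : RingHom.ker πB = J.map α)
    (hL : RingHom.ker πC = (RingHom.ker πB).map β)
    (hflat : (β.comp α).Flat) (hφ : φ.FinitePresentation) : β.FinitePresentation := by
  have hnil : (RingHom.ker πB) ^ n = ⊥ := by
    rw [hK, ← Ideal.map_pow, hJ, Ideal.map_bot]
  have hft : β.FiniteType :=
    ThickBC.finiteType_of_nilpotent β φ πB πC hcomm hπB hπC n hnil hL (RingHom.FiniteType.of_finitePresentation hφ)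
  algebraize [α, β, β.comp α]
  obtain ⟨m, q', hq'⟩ := Algebra.FiniteType.iff_quotient_mvPolynomial''.mp
    ‹Algebra.FiniteType B' C'›
  letI : Algebra B C := φ.toAlgebra
  haveI : Algebra.FinitePresentation B C := hφ
  let ρ : MvPolynomial (Fin m) B' →+* MvPolynomial (Fin m) B := MvPolynomial.map πB
  have hρ : Function.Surjective ρ := MvPolynomial.map_surjective πB hπB
  let q : MvPolynomial (Fin m) B →ₐ[B] C := MvPolynomial.aeval (fun i => πC (q' (MvPolynomial.X i)))
  have hqρ : q.toRingHom.comp ρ = πC.comp q'.toRingHom := by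
    apply MvPolynomial.ringHom_ext
    · intro b
      simp only [RingHom.coe_comp, Function.comp_apply, ρ, MvPolynomial.map_C, q]
      have h1 : (MvPolynomial.aeval (fun i => πC (q' (MvPolynomial.X i))) :
          MvPolynomial (Fin m) B →ₐ[B] C).toRingHom (MvPolynomial.C (πB b)) = φ (πB b) := by
        simp [RingHom.algebraMap_toAlgebra]
      rw [h1]
      have h2 : q'.toRingHom (MvPolynomial.C b) = β b := by
        rw [← MvPolynomial.algebraMap_eq]
        exact (q'.commutes b).trans (by simp [RingHom.algebraMap_toAlgebra])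
      rw [h2]
      exact congrArg (fun ψ => ψ b) hcomm
    · intro i
      simp [ρ, q]
  have hq : Function.Surjective q := by
    intro c
    obtain ⟨c', rfl⟩ := hπC c
    obtain ⟨p', rfl⟩ := hq' c'
    exact ⟨ρ p', congrArg (fun ψ => ψ p') hqρ⟩
  have hkerq : (RingHom.ker q.toRingHom).FG :=
    Algebra.FinitePresentation.ker_fG_of_surjective q hq
  have hqρ' : ∀ p, q (ρ p) = πC (q' p) := fun p => congrArg (fun ψ => ψ p) hqρ
  let 𝔍 : Ideal (MvPolynomial (Fin m) B') := J.map (algebraMap A' (MvPolynomial (Fin m) B'))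
  let I' : Ideal (MvPolynomial (Fin m) B') := RingHom.ker q'.toRingHom
  have halg : algebraMap A' (MvPolynomial (Fin m) B') = (MvPolynomial.C).comp α := by
    ext a
    simp [MvPolynomial.algebraMap_apply, RingHom.algebraMap_toAlgebra]
  have hkerρ : RingHom.ker ρ = 𝔍 := by
    show RingHom.ker (MvPolynomial.map πB) = _
    rw [MvPolynomial.ker_map, hK, Ideal.map_map]
    show _ = J.map (algebraMap A' (MvPolynomial (Fin m) B'))
    rw [halg]
  have h𝔍n : 𝔍 ^ n = ⊥ := by
    show (J.map (algebraMap A' (MvPolynomial (Fin m) B'))) ^ n = ⊥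
    rw [← Ideal.map_pow, hJ, Ideal.map_bot]
  have hq'C : ∀ b, q' (MvPolynomial.C b) = β b := by
    intro b
    rw [← MvPolynomial.algebraMap_eq]
    exact (q'.commutes b).trans (by simp [RingHom.algebraMap_toAlgebra])
  have hkerπC : RingHom.ker πC = 𝔍.map q'.toRingHom := by
    show _ = (J.map (algebraMap A' (MvPolynomial (Fin m) B'))).map q'.toRingHom
    rw [hL, hK, Ideal.map_map, Ideal.map_map, halg]
    congr 1
    ext a
    simp [hq'C]
  have hlift : ∀ t ∈ RingHom.ker q.toRingHom, ∃ x ∈ I', ρ x = t := by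
    intro t ht
    obtain ⟨p, rfl⟩ := hρ t
    have h0 : πC (q' p) = 0 := by rw [← hqρ']; exact ht
    have h1 : q'.toRingHom p ∈ 𝔍.map q'.toRingHom := by rw [← hkerπC]; exact h0
    obtain ⟨r, hr, hrq⟩ := (Ideal.mem_map_iff_of_surjective q'.toRingHom hq').mp h1
    refine ⟨p - r, ?_, ?_⟩
    · show q'.toRingHom (p - r) = 0
      rw [map_sub, hrq, sub_self]
    · have : ρ r = 0 := by
        have : r ∈ RingHom.ker ρ := by rw [hkerρ]; exact hr
        exact this
      rw [map_sub, this, sub_zero]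
  obtain ⟨s, hs⟩ := hkerq
  have hs' : ∀ t ∈ s, ∃ x ∈ I', ρ x = t := fun t ht => hlift t (hs ▸ Ideal.subset_span ht)
  choose! ℓ hℓ1 hℓ2 using hs'
  let N : Ideal (MvPolynomial (Fin m) B') := Ideal.span (ℓ '' (s : Set (MvPolynomial (Fin m) B)))
  have hNI : N ≤ I' := Ideal.span_le.mpr (by rintro _ ⟨t, ht, rfl⟩; exact hℓ1 t ht)
  have hNmap : N.map ρ = RingHom.ker q.toRingHom := by
    rw [Ideal.map_span, ← hs]
    congr 1
    ext t
    constructor
    · rintro ⟨_, ⟨t', ht', rfl⟩, rfl⟩
      rw [hℓ2 t' ht']; exact ht'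
    · intro ht
      exact ⟨ℓ t, ⟨t, ht, rfl⟩, hℓ2 t ht⟩
  have hflatkey : I' ⊓ 𝔍 ≤ 𝔍 * I' := by
    haveI : Module.Flat A' C' := hflat
    let ℓ' : MvPolynomial (Fin m) B' →ₗ[A'] C' := q'.toLinearMap.restrictScalars A'
    have hsurj : Function.Surjective ℓ' := hq'
    have key := LinearMap.ker_inf_smul_top_eq_smul_of_flat J ℓ' hsurj
    intro x hx
    have hx1 : x ∈ LinearMap.ker ℓ' := hx.1
    have hx2 : x ∈ J • (⊤ : Submodule A' (MvPolynomial (Fin m) B')) := by
      rw [Ideal.smul_top_eq_map]; exact hx.2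
    have hx3 : x ∈ J • LinearMap.ker ℓ' := key ▸ ⟨hx1, hx2⟩
    refine Submodule.smul_induction_on hx3 ?_ ?_
    · intro r hr m hm
      rw [Algebra.smul_def]
      exact Ideal.mul_mem_mul (Ideal.mem_map_of_mem _ hr) hm
    · intro a b ha hb; exact add_mem ha hb
  have hmain : I' ≤ N ⊔ 𝔍 * I' := by
    intro x hx
    have h1 : ρ x ∈ RingHom.ker q.toRingHom := by
      show q (ρ x) = 0
      rw [hqρ']
      have : q' x = 0 := hx
      rw [this, map_zero]
    rw [← hNmap] at h1
    obtain ⟨y, hy, hyx⟩ := (Ideal.mem_map_iff_of_surjective ρ hρ).mp h1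
    have h2 : x - y ∈ I' ⊓ 𝔍 :=
      ⟨sub_mem hx (hNI hy), by
        rw [← hkerρ]
        show ρ (x - y) = 0
        rw [map_sub, hyx, sub_self]⟩
    have : x = y + (x - y) := by ring
    rw [this]
    exact Submodule.add_mem_sup hy (hflatkey h2)
  have hI'N : I' = N := le_antisymm (le_of_le_sup_mul 𝔍 I' N n h𝔍n hmain) hNI
  have hfg : I'.FG := by
    rw [hI'N]
    classical
    exact ⟨s.image ℓ, by simp [N]⟩
  exact Algebra.FinitePresentation.of_surjective hq' hfg

theorem formallySmooth_of_nilpotent_aux (n : ℕ) : ∀ {R S R' S' : Type u} [CommRing R] [CommRing S]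
    [CommRing R'] [CommRing S']
    (f : R →+* S) (_ : f.Flat) (qR : R →+* R') (qS : S →+* S') (g : R' →+* S')
    (_ : Function.Surjective qR) (_ : Function.Surjective qS)
    (_ : qS.comp f = g.comp qR)
    (_ : (RingHom.ker qR) ^ n = ⊥) (_ : RingHom.ker qS = (RingHom.ker qR).map f)
    (_ : g.FormallySmooth), f.FormallySmooth := by
  induction n with
  | zero =>
    intro R S R' S' _ _ _ _ f flat qR qS g surjR surjS comm hn eqmap smoothq
    refine RingHom.FormallySmooth.of_flat_of_ker_eq_map_of_square_zero f flat qR qS g surjR surjS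
      comm ?_ eqmap smoothq
    have h : (⊤ : Ideal R) = ⊥ := by simpa using hn
    exact le_bot_iff.mp (h ▸ le_top)
  | succ n ih =>
    intro R S R' S' _ _ _ _ f flat qR qS g surjR surjS comm hn eqmap smoothq
    rcases Nat.eq_zero_or_pos n with rfl | hpos
    · refine RingHom.FormallySmooth.of_flat_of_ker_eq_map_of_square_zero f flat qR qS g surjR
        surjS comm ?_ eqmap smoothq
      rw [zero_add, pow_one] at hn
      rw [hn]; simp
    · algebraize [f]
      let I : Ideal R := (RingHom.ker qR) ^ n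
      have hIK : I ≤ RingHom.ker qR := Ideal.pow_le_self (by omega)
      let g₁ : (R ⧸ I) →+* (S ⧸ I.map (algebraMap R S)) := algebraMap _ _
      have hg₁flat : g₁.Flat := by
        rw [RingHom.flat_algebraMap_iff]
        exact Module.Flat.of_linearEquiv
          (Algebra.TensorProduct.quotIdealMapEquivQuotTensor S I).toLinearEquiv
      have hISK : I.map (algebraMap R S) ≤ RingHom.ker qS := by
        rw [eqmap]; exact Ideal.map_mono hIK
      let qR' : (R ⧸ I) →+* R' := Ideal.Quotient.lift I qR (fun a ha => hIK ha)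
      let qS' : (S ⧸ I.map (algebraMap R S)) →+* S' :=
        Ideal.Quotient.lift (I.map (algebraMap R S)) qS (fun a ha => hISK ha)
      have surjR' : Function.Surjective qR' :=
        Ideal.Quotient.lift_surjective_of_surjective _ _ surjR
      have surjS' : Function.Surjective qS' :=
        Ideal.Quotient.lift_surjective_of_surjective _ _ surjS
      have hsq : (Ideal.Quotient.mk (I.map (algebraMap R S))).comp f =
          g₁.comp (Ideal.Quotient.mk I) := by
        ext r; rfl
      have comm' : qS'.comp g₁ = g.comp qR' := by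
        apply Ideal.Quotient.ringHom_ext
        ext r
        exact congrArg (fun ψ => ψ r) comm
      have hkerR' : RingHom.ker qR' = (RingHom.ker qR).map (Ideal.Quotient.mk I) :=
        Ideal.ker_quotient_lift _ _
      have hkerS' : RingHom.ker qS' =
          (RingHom.ker qS).map (Ideal.Quotient.mk (I.map (algebraMap R S))) :=
        Ideal.ker_quotient_lift _ _
      have hn' : (RingHom.ker qR') ^ n = ⊥ := by
        rw [hkerR', ← Ideal.map_pow]
        exact Ideal.map_quotient_self I
      have eqmap' : RingHom.ker qS' = (RingHom.ker qR').map g₁ := by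
        rw [hkerS', hkerR', eqmap, Ideal.map_map, Ideal.map_map, hsq]
      have h1 := ih g₁ hg₁flat qR' qS' g surjR' surjS' comm' hn' eqmap' smoothq
      refine RingHom.FormallySmooth.of_flat_of_ker_eq_map_of_square_zero f flat
        (Ideal.Quotient.mk I) (Ideal.Quotient.mk (I.map (algebraMap R S))) g₁
        Ideal.Quotient.mk_surjective Ideal.Quotient.mk_surjective hsq ?_ ?_ h1
      · rw [Ideal.mk_ker]
        show ((RingHom.ker qR) ^ n) ^ 2 = ⊥
        rw [← pow_mul]
        exact le_bot_iff.mp (hn ▸ Ideal.pow_le_pow_right (by omega))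
      · rw [Ideal.mk_ker, Ideal.mk_ker]
        rfl

theorem smooth_of_nilpotent {A' B' C' B C : Type u} [CommRing A'] [CommRing B']
    [CommRing C'] [CommRing B] [CommRing C] (α : A' →+* B') (β : B' →+* C') (φ : B →+* C)
    (πB : B' →+* B) (πC : C' →+* C) (hcomm : φ.comp πB = πC.comp β)
    (hπB : Function.Surjective πB) (hπC : Function.Surjective πC) (J : Ideal A') (n : ℕ)
    (hJ : J ^ n = ⊥) (hK : RingHom.ker πB = J.map α)
    (hL : RingHom.ker πC = (RingHom.ker πB).map β)
    (hflat : (β.comp α).Flat) (hφ : φ.Smooth) : β.Smooth := by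
  have hnil : (RingHom.ker πB) ^ n = ⊥ := by
    rw [hK, ← Ideal.map_pow, hJ, Ideal.map_bot]
  have hβflat : β.Flat :=
    flat_of_nilpotent_fibre α β φ πB πC hcomm hπB hπC J ⟨n, hJ⟩ hK hL hflat hφ.flat
  rw [RingHom.smooth_def]
  exact ⟨formallySmooth_of_nilpotent_aux n β hβflat πB πC φ hπB hπC hcomm.symm hnil hL
      hφ.formallySmooth,
    finitePresentation_of_nilpotent α β φ πB πC hcomm hπB hπC J n hJ hK hL hflat
      hφ.finitePresentation⟩

end algebra

section schemes

theorem finitePresentation_stableSource : RingHom.StableUnderCompositionWithLocalizationAwaySource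
    (fun {R S : Type u} [CommRing R] [CommRing S] (f : R →+* S) => f.FinitePresentation) :=
  (RingHom.finitePresentation_stableUnderComposition.stableUnderCompositionWithLocalizationAway
    RingHom.finitePresentation_holdsForLocalizationAway).1

variable {X X' Y Y' S S' : Scheme.{u}} (iX : X ⟶ X') (iY : Y ⟶ Y') (iS : S ⟶ S')
  (f : X ⟶ Y) (f' : X' ⟶ Y') (g : Y ⟶ S) (g' : Y' ⟶ S')

/-- deforming local finite presentation along a finite order thickening of the base -/
theorem lfp_of_deform (hS : MoreMor.IsFiniteOrderThickening iS)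
    (hcX : IsPullback iX (f ≫ g) (f' ≫ g') iS) (hcY : IsPullback iY g g' iS)
    (w : iX ≫ f' = f ≫ iY) [Flat (f' ≫ g')] [LocallyOfFinitePresentation f] :
    LocallyOfFinitePresentation f' := by
  haveI := hS.1.1
  have hXY : IsPullback iX f f' iY := isPullback_top iX iY iS f f' g g' hcX hcY w
  haveI : IsClosedImmersion iY := ThickBC.isClosedImmersion_of_isPullback hcY
  haveI : IsClosedImmersion iX := ThickBC.isClosedImmersion_of_isPullback hXY
  obtain ⟨n, hn⟩ := nilpotent_ker iS hS
  rw [HasRingHomProperty.iff_exists_appLE (P := @LocallyOfFinitePresentation)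
    finitePresentation_stableSource]
  intro x'
  obtain ⟨W', hW', hxW', -⟩ :=
    exists_isAffineOpen_mem_and_subset (x := g' (f' x')) (U := ⊤) trivial
  obtain ⟨V', hV', hxV', hVW⟩ :=
    exists_isAffineOpen_mem_and_subset (x := f' x') (U := g' ⁻¹ᵁ W') hxW'
  obtain ⟨U', hU', hxU', hUV⟩ :=
    exists_isAffineOpen_mem_and_subset (x := x') (U := f' ⁻¹ᵁ V') hxV'
  refine ⟨⟨V', hV'⟩, ⟨U', hU'⟩, hxU', hUV, ?_⟩
  obtain ⟨a1, a2, a3, a4⟩ := ThickBC.square_facts hcY ⟨W', hW'⟩ ⟨V', hV'⟩ hVW
  obtain ⟨b1, b2, b3, b4⟩ := ThickBC.square_facts hXY ⟨V', hV'⟩ ⟨U', hU'⟩ hUV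
  have hφ : (f.appLE (iY ⁻¹ᵁ V') (iX ⁻¹ᵁ U')
      (ThickBC.preimage_le hXY V' U' hUV)).hom.FinitePresentation :=
    HasRingHomProperty.appLE @LocallyOfFinitePresentation f inferInstance ⟨_, hV'.preimage iY⟩
      ⟨_, hU'.preimage iX⟩ _
  have hcomp : ((f'.appLE V' U' hUV).hom.comp (g'.appLE W' V' hVW).hom).Flat := by
    rw [← CommRingCat.hom_comp, Scheme.Hom.appLE_comp_appLE]
    exact HasRingHomProperty.appLE @Flat (f' ≫ g') inferInstance ⟨W', hW'⟩ ⟨U', hU'⟩ _
  exact finitePresentation_of_nilpotent (g'.appLE W' V' hVW).hom (f'.appLE V' U' hUV).hom _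
    (iY.app V').hom (iX.app U').hom b1 b2 b3 (RingHom.ker (iS.app W').hom) n
    (hn ⟨W', hW'⟩) a4 b4 hcomp hφ

theorem smooth_stableSource : RingHom.StableUnderCompositionWithLocalizationAwaySource
    (fun {R S : Type u} [CommRing R] [CommRing S] (f : R →+* S) => f.Smooth) :=
  (RingHom.Smooth.stableUnderComposition.stableUnderCompositionWithLocalizationAway
    RingHom.Smooth.holdsForLocalizationAway).1

/-- deforming smoothness along a finite order thickening of the base -/
theorem smooth_of_deform (hS : MoreMor.IsFiniteOrderThickening iS)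
    (hcX : IsPullback iX (f ≫ g) (f' ≫ g') iS) (hcY : IsPullback iY g g' iS)
    (w : iX ≫ f' = f ≫ iY) [Flat (f' ≫ g')] [Smooth f] :
    Smooth f' := by
  haveI := hS.1.1
  have hXY : IsPullback iX f f' iY := isPullback_top iX iY iS f f' g g' hcX hcY w
  haveI : IsClosedImmersion iY := ThickBC.isClosedImmersion_of_isPullback hcY
  haveI : IsClosedImmersion iX := ThickBC.isClosedImmersion_of_isPullback hXY
  obtain ⟨n, hn⟩ := nilpotent_ker iS hS
  rw [HasRingHomProperty.iff_exists_appLE (P := @Smooth) smooth_stableSource]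
  intro x'
  obtain ⟨W', hW', hxW', -⟩ :=
    exists_isAffineOpen_mem_and_subset (x := g' (f' x')) (U := ⊤) trivial
  obtain ⟨V', hV', hxV', hVW⟩ :=
    exists_isAffineOpen_mem_and_subset (x := f' x') (U := g' ⁻¹ᵁ W') hxW'
  obtain ⟨U', hU', hxU', hUV⟩ :=
    exists_isAffineOpen_mem_and_subset (x := x') (U := f' ⁻¹ᵁ V') hxV'
  refine ⟨⟨V', hV'⟩, ⟨U', hU'⟩, hxU', hUV, ?_⟩
  obtain ⟨a1, a2, a3, a4⟩ := ThickBC.square_facts hcY ⟨W', hW'⟩ ⟨V', hV'⟩ hVW
  obtain ⟨b1, b2, b3, b4⟩ := ThickBC.square_facts hXY ⟨V', hV'⟩ ⟨U', hU'⟩ hUV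
  have hφ : (f.appLE (iY ⁻¹ᵁ V') (iX ⁻¹ᵁ U')
      (ThickBC.preimage_le hXY V' U' hUV)).hom.Smooth :=
    HasRingHomProperty.appLE @Smooth f inferInstance ⟨_, hV'.preimage iY⟩
      ⟨_, hU'.preimage iX⟩ _
  have hcomp : ((f'.appLE V' U' hUV).hom.comp (g'.appLE W' V' hVW).hom).Flat := by
    rw [← CommRingCat.hom_comp, Scheme.Hom.appLE_comp_appLE]
    exact HasRingHomProperty.appLE @Flat (f' ≫ g') inferInstance ⟨W', hW'⟩ ⟨U', hU'⟩ _
  exact smooth_of_nilpotent (g'.appLE W' V' hVW).hom (f'.appLE V' U' hUV).hom _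
    (iY.app V').hom (iX.app U').hom b1 b2 b3 (RingHom.ker (iS.app W').hom) n
    (hn ⟨W', hW'⟩) a4 b4 hcomp hφ

/-- deforming étaleness along a finite order thickening of the base -/
theorem etale_of_deform (hS : MoreMor.IsFiniteOrderThickening iS)
    (hcX : IsPullback iX (f ≫ g) (f' ≫ g') iS) (hcY : IsPullback iY g g' iS)
    (w : iX ≫ f' = f ≫ iY) [Flat (f' ≫ g')] [Etale f] : Etale f' := by
  have hXY : IsPullback iX f f' iY := isPullback_top iX iY iS f f' g g' hcX hcY w
  have hY := finiteOrder_of_isPullback iY iS g g' hS hcY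
  haveI : Flat f' := flat_of_deform iX iY iS f f' g g' hS hcX hcY w
  haveI : LocallyOfFinitePresentation f' := lfp_of_deform iX iY iS f f' g g' hS hcX hcY w
  haveI : FormallyUnramified f' :=
    (Groth.Agent.S1310.result iX iY f f' hY hXY).mp inferInstance
  exact Etale.of_formallyUnramified_of_flat f'

end schemes

end Groth.Agent.Lead.Deform
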