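import Mathlib
import Groth.Agent.Lead.FD19
import Groth.Agent.Lead.Deform
import Groth.Agent.Helper4.FiniteColim

/-!
# FD20: fibrewise criterion of flatness modulo a locally nilpotent ideal (finite presentation)
-/

set_option autoImplicit false
universe u
open TensorProduct

namespace Groth.Agent.Lead.FD20

/-- A finitely generated ideal contained in an extended ideal `I.map f` is contained in the
extension of a finitely generated subideal of `I`. -/
lemma exists_fg_le_of_le_map {R S : Type*} [CommRing R] [CommRing S] (f : R →+* S) (I : Ideal R)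
    (J : Ideal S) (hJ : J.FG) (hle : J ≤ I.map f) :
    ∃ I' : Ideal R, I' ≤ I ∧ I'.FG ∧ J ≤ I'.map f := by
  classical
  revert hle
  refine Submodule.fg_induction (R := S) (M := S) (motive := fun (J : Ideal S) _ => J ≤ I.map f →
    ∃ I' : Ideal R, I' ≤ I ∧ I'.FG ∧ J ≤ I'.map f) ?_ ?_ J hJ
  · intro x hx
    have hx' : x ∈ Submodule.span S (f '' (I : Set R)) := hx (Submodule.mem_span_singleton_self x)
    obtain ⟨T, hT, hxT⟩ := Submodule.mem_span_finite_of_mem_span hx'
    obtain ⟨u, hu, rfl⟩ := Finset.subset_set_image_iff.mp hT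
    refine ⟨Ideal.span (u : Set R), Ideal.span_le.mpr hu, ⟨u, rfl⟩, ?_⟩
    rw [Ideal.map_span, Submodule.span_singleton_le_iff_mem]
    simpa using hxT
  · intro J₁ J₂ _ _ h₁ h₂ hle
    obtain ⟨I₁, h1a, h1b, h1c⟩ := h₁ (le_sup_left.trans hle)
    obtain ⟨I₂, h2a, h2b, h2c⟩ := h₂ (le_sup_right.trans hle)
    refine ⟨I₁ ⊔ I₂, sup_le h1a h2a, Submodule.FG.sup h1b h2b, ?_⟩
    rw [Ideal.map_sup]
    exact sup_le_sup h1c h2c

/-- Fibrewise criterion of flatness modulo a locally nilpotent ideal, finitely presented case. -/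
theorem flat_of_nil_fibre {R S S' M : Type u} [CommRing R] [CommRing S] [CommRing S']
    [Algebra R S] [Algebra S S'] [Algebra R S'] [IsScalarTower R S S']
    [Algebra.FiniteType R S] [Algebra.FinitePresentation R S'] (I : Ideal R)
    (hI : ∀ a ∈ I, IsNilpotent a)
    [AddCommGroup M] [Module S' M] [Module S M] [Module R M] [IsScalarTower S S' M]
    [IsScalarTower R S M] [Module.FinitePresentation S' M] [Module.Flat R M]
    (h : Module.Flat (S ⧸ I.map (algebraMap R S)) ((S ⧸ I.map (algebraMap R S)) ⊗[S] M)) :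
    Module.Flat S M := by
  classical
  haveI : Algebra.FinitePresentation S S' :=
    Algebra.FinitePresentation.of_restrict_scalars_finitePresentation R S S'
  let f : S →ₐ[S] S ⧸ I.map (algebraMap R S) := Ideal.Quotient.mkₐ S (I.map (algebraMap R S))
  have hf : Function.Surjective f := Ideal.Quotient.mkₐ_surjective S _
  have hcolim := Helper4.FiniteColim.isDirectedColimitRing (A := S) f (⊥ : Ideal S) hf
    Submodule.fg_bot bot_le
  obtain ⟨J, hJ⟩ := (FD19.flat_colimit_baseChange_iff_exists_stage (A₀ := S)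
    (fun J : Helper4.FiniteColim.Idx f ⊥ => S ⧸ J.1)
    (fun i j h => Ideal.Quotient.factorₐ S (show i.1 ≤ j.1 from h))
    (S ⧸ I.map (algebraMap R S)) hcolim (B₀ := S') M).mp h
  have hJK : J.1 ≤ I.map (algebraMap R S) := by
    intro x hx
    have h2 : x ∈ RingHom.ker f := J.2.2.2 hx
    rw [RingHom.mem_ker] at h2
    exact Ideal.Quotient.eq_zero_iff_mem.mp h2
  obtain ⟨I', hI'le, hI'fg, hJI'⟩ := exists_fg_le_of_le_map (algebraMap R S) I J.1 J.2.1 hJK
  have hnil : IsNilpotent (I'.map (algebraMap R S)) := by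
    have h1 : IsNilpotent I' :=
      (Ideal.FG.isNilpotent_iff_le_nilradical hI'fg).mpr (fun a ha => hI a (hI'le ha))
    obtain ⟨n, hn⟩ := h1
    refine ⟨n, ?_⟩
    rw [← Ideal.map_pow, hn, Ideal.zero_eq_bot, Ideal.map_bot]
    rfl
  letI : Algebra (S ⧸ J.1) (S ⧸ I'.map (algebraMap R S)) :=
    (Ideal.Quotient.factor hJI').toAlgebra
  haveI : IsScalarTower S (S ⧸ J.1) (S ⧸ I'.map (algebraMap R S)) :=
    IsScalarTower.of_algebraMap_eq (fun _ => rfl)
  haveI := hJ
  haveI : Module.Flat (S ⧸ I'.map (algebraMap R S)) ((S ⧸ I'.map (algebraMap R S)) ⊗[S] M) :=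
    FD19.flat_of_algHom (A₀ := S) (C := S ⧸ J.1) (D := S ⧸ I'.map (algebraMap R S)) (M₀ := M)
  have h1 : ∀ j : ℕ, Function.Injective
      (LinearMap.rTensor M ((I'.map (algebraMap R S)) ^ j).subtype) := by
    intro j
    have := Helper2.FibreCrit.rTensor_map_injective (R := R) (S := S) (M := M) (I' ^ j)
    exact Deform.rTensor_injective_congr (Ideal.map_pow _ _ _) this
  exact Helper2.NilpCrit.flat_of_nilpotent _ hnil h1

end Groth.Agent.Lead.FD20
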