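import Mathlib
import Groth.Agent.Lead.Deform3
import Groth.Agent.Lead.FD20
import Groth.Agent.Helper2.LfpComp
import Groth.Agent.S1315
import Groth.Prelude.Def_MoreMor

/-!
# Deformation along arbitrary (nil) thickenings, finitely presented case
-/

set_option autoImplicit false
open CategoryTheory AlgebraicGeometry Limits
open scoped TensorProduct
universe u

namespace Groth.Agent.Lead.Deform4

open Groth.Agent.Lead.Deform

section algebra

/-- the reduction of `β` modulo `K` is `φ` up to isomorphisms -/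
theorem quotient_hom_eq {B' C' B C : Type u} [CommRing B'] [CommRing C'] [CommRing B]
    [CommRing C] [Algebra B' C'] (φ : B →+* C) (πB : B' →+* B) (πC : C' →+* C)
    (hcomm : φ.comp πB = πC.comp (algebraMap B' C')) (hπB : Function.Surjective πB)
    (hπC : Function.Surjective πC) (K : Ideal B') (hK : RingHom.ker πB = K)
    (hL : RingHom.ker πC = K.map (algebraMap B' C')) :
    ∃ (e₁ : (B' ⧸ K) ≃+* B) (e₃ : (C' ⧸ K.map (algebraMap B' C')) ≃+* C),
      algebraMap (B' ⧸ K) (C' ⧸ K.map (algebraMap B' C')) =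
        (e₃.symm.toRingHom.comp φ).comp e₁.toRingHom := by
  let e₁ : (B' ⧸ K) ≃+* B :=
    (Ideal.quotEquivOfEq hK.symm).trans (RingHom.quotientKerEquivOfSurjective hπB)
  let e₃ : (C' ⧸ K.map (algebraMap B' C')) ≃+* C :=
    (Ideal.quotEquivOfEq hL.symm).trans (RingHom.quotientKerEquivOfSurjective hπC)
  refine ⟨e₁, e₃, ?_⟩
  apply Ideal.Quotient.ringHom_ext
  ext b
  simp only [RingHom.coe_comp, Function.comp_apply]
  have h1 : e₁.toRingHom (Ideal.Quotient.mk K b) = πB b := rfl
  rw [h1]
  have h2 : φ (πB b) = πC (algebraMap B' C' b) := congrArg (fun ψ => ψ b) hcomm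
  rw [h2]
  have h3 : e₃ (Ideal.Quotient.mk _ (algebraMap B' C' b)) = πC (algebraMap B' C' b) := rfl
  rw [← h3]
  have h4 : e₃.symm.toRingHom (e₃ (Ideal.Quotient.mk _ (algebraMap B' C' b))) =
      Ideal.Quotient.mk _ (algebraMap B' C' b) := e₃.symm_apply_apply _
  rw [h4]
  rfl

/-- nil fibre criterion for flatness, finitely presented case, homomorphism form -/
theorem flat_of_nil_fibre_hom {A' B' C' B C : Type u} [CommRing A'] [CommRing B'] [CommRing C']
    [CommRing B] [CommRing C] (α : A' →+* B') (β : B' →+* C') (φ : B →+* C) (πB : B' →+* B)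
    (πC : C' →+* C) (hcomm : φ.comp πB = πC.comp β) (hπB : Function.Surjective πB)
    (hπC : Function.Surjective πC) (J : Ideal A') (hJ : ∀ a ∈ J, IsNilpotent a)
    (hK : RingHom.ker πB = J.map α) (hL : RingHom.ker πC = (RingHom.ker πB).map β)
    (hα : α.FiniteType) (hfp : (β.comp α).FinitePresentation)
    (hflat : (β.comp α).Flat) (hφ : φ.Flat) : β.Flat := by
  algebraize [α, β, β.comp α]
  let Kb : Ideal B' := J.map (algebraMap A' B')
  have hq : Module.Flat (B' ⧸ Kb) (C' ⧸ Kb.map (algebraMap B' C')) :=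
    flat_quotient_of_flat φ πB πC hcomm hπB hπC Kb hK (by rw [hL, hK]; rfl) hφ
  have h2 : Module.Flat (B' ⧸ Kb) ((B' ⧸ Kb) ⊗[B'] C') :=
    Module.Flat.of_linearEquiv
      (Algebra.TensorProduct.quotIdealMapEquivQuotTensor C' Kb).symm.toLinearEquiv
  exact FD20.flat_of_nil_fibre (R := A') (S := B') (S' := C') (M := C') J hJ h2

/-- flat + finitely presented + smooth modulo a nil ideal implies smooth -/
theorem smooth_of_nil_quotient {A S : Type u} [CommRing A] [CommRing S] [Algebra A S]
    [Module.Flat A S] [Algebra.FinitePresentation A S] (K : Ideal A) (hK : K ≤ nilradical A)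
    [Algebra.FormallySmooth (A ⧸ K) (S ⧸ K.map (algebraMap A S))] : Algebra.Smooth A S := by
  apply Algebra.Smooth.of_formallySmooth_fiber
  intro p hp
  have hKp : K ≤ p := hK.trans (nilradical_le_prime p)
  letI : Algebra (A ⧸ K) p.ResidueField :=
    (Ideal.Quotient.lift K (algebraMap A p.ResidueField) (fun a ha => by
      rw [Ideal.algebraMap_residueField_eq_zero]; exact hKp ha)).toAlgebra
  haveI : IsScalarTower A (A ⧸ K) p.ResidueField := IsScalarTower.of_algebraMap_eq (fun _ => rfl)
  haveI : Algebra.FormallySmooth (A ⧸ K) ((A ⧸ K) ⊗[A] S) :=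
    .of_equiv (Algebra.TensorProduct.quotIdealMapEquivQuotTensor S K)
  haveI : Algebra.FormallySmooth p.ResidueField (p.ResidueField ⊗[A ⧸ K] ((A ⧸ K) ⊗[A] S)) :=
    inferInstance
  exact .of_equiv
    (Algebra.TensorProduct.cancelBaseChange A (A ⧸ K) p.ResidueField p.ResidueField S)

/-- nil fibre criterion for smoothness, homomorphism form -/
theorem smooth_of_nil_fibre_hom {B' C' B C : Type u} [CommRing B'] [CommRing C']
    [CommRing B] [CommRing C] (β : B' →+* C') (φ : B →+* C) (πB : B' →+* B)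
    (πC : C' →+* C) (hcomm : φ.comp πB = πC.comp β) (hπB : Function.Surjective πB)
    (hπC : Function.Surjective πC) (hnil : RingHom.ker πB ≤ nilradical B')
    (hL : RingHom.ker πC = (RingHom.ker πB).map β)
    (hflat : β.Flat) (hfp : β.FinitePresentation) (hφ : φ.Smooth) : β.Smooth := by
  algebraize [β]
  obtain ⟨e₁, e₃, he⟩ := quotient_hom_eq φ πB πC hcomm hπB hπC (RingHom.ker πB) rfl hL
  have h1 : (algebraMap (B' ⧸ RingHom.ker πB)
      (C' ⧸ (RingHom.ker πB).map (algebraMap B' C'))).FormallySmooth := by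
    rw [he]
    exact (RingHom.FormallySmooth.of_bijective (f := e₁.toRingHom) e₁.bijective).comp
      (hφ.formallySmooth.comp
        (RingHom.FormallySmooth.of_bijective (f := e₃.symm.toRingHom) e₃.symm.bijective))
  rw [RingHom.formallySmooth_algebraMap] at h1
  haveI := h1
  have := smooth_of_nil_quotient (A := B') (S := C') (RingHom.ker πB) hnil
  exact RingHom.smooth_algebraMap.mpr this

end algebra

section schemes

variable {X X' Y Y' S S' : Scheme.{u}} (iX : X ⟶ X') (iY : Y ⟶ Y') (iS : S ⟶ S')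
  (f : X ⟶ Y) (f' : X' ⟶ Y') (g : Y ⟶ S) (g' : Y' ⟶ S')

/-- base change of a thickening is a thickening -/
theorem thickening_of_isPullback (hS : MoreMor.IsThickening iS)
    (hcY : IsPullback iY g g' iS) : MoreMor.IsThickening iY := by
  haveI := hS.1
  haveI := hS.2
  haveI : IsClosedImmersion iY := ThickBC.isClosedImmersion_of_isPullback hcY
  haveI : Surjective iY := MorphismProperty.of_isPullback (P := @Surjective) hcY.flip inferInstance
  exact ⟨inferInstance, inferInstance⟩

/-- `f'` is locally of finite presentation -/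
theorem lfp_top [LocallyOfFinitePresentation (f' ≫ g')] [LocallyOfFiniteType g'] :
    LocallyOfFinitePresentation f' :=
  Groth.Agent.Helper2.LfpComp.locallyOfFinitePresentation_of_comp f' g' inferInstance inferInstance

/-- deforming flatness along an arbitrary thickening of the base, finitely presented case -/
theorem flat_of_deform (hS : MoreMor.IsThickening iS)
    (hcX : IsPullback iX (f ≫ g) (f' ≫ g') iS) (hcY : IsPullback iY g g' iS)
    (w : iX ≫ f' = f ≫ iY) [Flat (f' ≫ g')] [LocallyOfFinitePresentation (f' ≫ g')]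
    [LocallyOfFiniteType g'] [Flat f] : Flat f' := by
  haveI := hS.1
  haveI := hS.2
  have hXY : IsPullback iX f f' iY := isPullback_top iX iY iS f f' g g' hcX hcY w
  haveI : IsClosedImmersion iY := ThickBC.isClosedImmersion_of_isPullback hcY
  haveI : IsClosedImmersion iX := ThickBC.isClosedImmersion_of_isPullback hXY
  rw [HasRingHomProperty.iff_exists_appLE (P := @Flat) flat_stableSource]
  intro x'
  obtain ⟨W', hW', hxW', -⟩ :=
    exists_isAffineOpen_mem_and_subset (x := g' (f' x')) (U := ⊤) trivial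
  obtain ⟨V', hV', hxV', hVW⟩ :=
    exists_isAffineOpen_mem_and_subset (x := f' x') (U := g' ⁻¹ᵁ W') hxW'
  obtain ⟨U', hU', hxU', hUV⟩ :=
    exists_isAffineOpen_mem_and_subset (x := x') (U := f' ⁻¹ᵁ V') hxV'
  refine ⟨⟨V', hV'⟩, ⟨U', hU'⟩, hxU', hUV, ?_⟩
  obtain ⟨a1, a2, a3, a4⟩ := ThickBC.square_facts hcY ⟨W', hW'⟩ ⟨V', hV'⟩ hVW
  obtain ⟨b1, b2, b3, b4⟩ := ThickBC.square_facts hXY ⟨V', hV'⟩ ⟨U', hU'⟩ hUV
  have hφ : (f.appLE (iY ⁻¹ᵁ V') (iX ⁻¹ᵁ U') (ThickBC.preimage_le hXY V' U' hUV)).hom.Flat :=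
    HasRingHomProperty.appLE @Flat f inferInstance ⟨_, hV'.preimage iY⟩
      ⟨_, hU'.preimage iX⟩ _
  have hcomp : ((f'.appLE V' U' hUV).hom.comp (g'.appLE W' V' hVW).hom).Flat := by
    rw [← CommRingCat.hom_comp, Scheme.Hom.appLE_comp_appLE]
    exact HasRingHomProperty.appLE @Flat (f' ≫ g') inferInstance ⟨W', hW'⟩ ⟨U', hU'⟩ _
  have hcompfp : ((f'.appLE V' U' hUV).hom.comp (g'.appLE W' V' hVW).hom).FinitePresentation := by
    rw [← CommRingCat.hom_comp, Scheme.Hom.appLE_comp_appLE]
    exact HasRingHomProperty.appLE @LocallyOfFinitePresentation (f' ≫ g') inferInstance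
      ⟨W', hW'⟩ ⟨U', hU'⟩ _
  have hα : (g'.appLE W' V' hVW).hom.FiniteType :=
    HasRingHomProperty.appLE @LocallyOfFiniteType g' inferInstance ⟨W', hW'⟩ ⟨V', hV'⟩ _
  have hnil : ∀ a ∈ RingHom.ker (iS.app W').hom, IsNilpotent a := fun a ha =>
    mem_nilradical.mp (ThickBC.ker_le_nilradical iS ⟨W', hW'⟩ ha)
  exact flat_of_nil_fibre_hom (g'.appLE W' V' hVW).hom (f'.appLE V' U' hUV).hom _
    (iY.app V').hom (iX.app U').hom b1 b2 b3 (RingHom.ker (iS.app W').hom)
    hnil a4 b4 hα hcompfp hcomp hφ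

theorem flat_iff (hS : MoreMor.IsThickening iS)
    (hcX : IsPullback iX (f ≫ g) (f' ≫ g') iS) (hcY : IsPullback iY g g' iS)
    (w : iX ≫ f' = f ≫ iY) [Flat (f' ≫ g')] [LocallyOfFinitePresentation (f' ≫ g')]
    [LocallyOfFiniteType g'] : Flat f ↔ Flat f' := by
  have hXY : IsPullback iX f f' iY := isPullback_top iX iY iS f f' g g' hcX hcY w
  constructor
  · intro h
    exact flat_of_deform iX iY iS f f' g g' hS hcX hcY w
  · intro h
    exact MorphismProperty.of_isPullback (P := @Flat) hXY h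

/-- deforming smoothness along an arbitrary thickening of the base, finitely presented case -/
theorem smooth_of_deform (hS : MoreMor.IsThickening iS)
    (hcX : IsPullback iX (f ≫ g) (f' ≫ g') iS) (hcY : IsPullback iY g g' iS)
    (w : iX ≫ f' = f ≫ iY) [Flat (f' ≫ g')] [LocallyOfFinitePresentation (f' ≫ g')]
    [LocallyOfFiniteType g'] [Smooth f] : Smooth f' := by
  have hXY : IsPullback iX f f' iY := isPullback_top iX iY iS f f' g g' hcX hcY w
  have hY := thickening_of_isPullback iY iS g g' hS hcY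
  haveI := hY.1
  haveI := hY.2
  haveI : IsClosedImmersion iX := ThickBC.isClosedImmersion_of_isPullback hXY
  haveI : Flat f' := flat_of_deform iX iY iS f f' g g' hS hcX hcY w
  haveI : LocallyOfFinitePresentation f' := lfp_top f' g'
  rw [HasRingHomProperty.iff_exists_appLE (P := @Smooth) smooth_stableSource]
  intro x'
  obtain ⟨V', hV', hxV', -⟩ :=
    exists_isAffineOpen_mem_and_subset (x := f' x') (U := ⊤) trivial
  obtain ⟨U', hU', hxU', hUV⟩ :=
    exists_isAffineOpen_mem_and_subset (x := x') (U := f' ⁻¹ᵁ V') hxV'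
  refine ⟨⟨V', hV'⟩, ⟨U', hU'⟩, hxU', hUV, ?_⟩
  obtain ⟨b1, b2, b3, b4⟩ := ThickBC.square_facts hXY ⟨V', hV'⟩ ⟨U', hU'⟩ hUV
  have hφ : (f.appLE (iY ⁻¹ᵁ V') (iX ⁻¹ᵁ U')
      (ThickBC.preimage_le hXY V' U' hUV)).hom.Smooth :=
    HasRingHomProperty.appLE @Smooth f inferInstance ⟨_, hV'.preimage iY⟩
      ⟨_, hU'.preimage iX⟩ _
  have hfl : (f'.appLE V' U' hUV).hom.Flat :=
    HasRingHomProperty.appLE @Flat f' inferInstance ⟨V', hV'⟩ ⟨U', hU'⟩ _
  have hfp : (f'.appLE V' U' hUV).hom.FinitePresentation :=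
    HasRingHomProperty.appLE @LocallyOfFinitePresentation f' inferInstance ⟨V', hV'⟩ ⟨U', hU'⟩ _
  exact smooth_of_nil_fibre_hom (f'.appLE V' U' hUV).hom _
    (iY.app V').hom (iX.app U').hom b1 b2 b3 (ThickBC.ker_le_nilradical iY ⟨V', hV'⟩) b4
    hfl hfp hφ

theorem smooth_iff (hS : MoreMor.IsThickening iS)
    (hcX : IsPullback iX (f ≫ g) (f' ≫ g') iS) (hcY : IsPullback iY g g' iS)
    (w : iX ≫ f' = f ≫ iY) [Flat (f' ≫ g')] [LocallyOfFinitePresentation (f' ≫ g')]
    [LocallyOfFiniteType g'] : Smooth f ↔ Smooth f' := by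
  have hXY : IsPullback iX f f' iY := isPullback_top iX iY iS f f' g g' hcX hcY w
  constructor
  · intro h
    exact smooth_of_deform iX iY iS f f' g g' hS hcX hcY w
  · intro h
    exact MorphismProperty.of_isPullback (P := @Smooth) hXY h

/-- deforming monomorphisms -/
theorem mono_of_deform (hS : MoreMor.IsThickening iS)
    (hcX : IsPullback iX (f ≫ g) (f' ≫ g') iS) (hcY : IsPullback iY g g' iS)
    (w : iX ≫ f' = f ≫ iY) [LocallyOfFinitePresentation (f' ≫ g')]
    [LocallyOfFiniteType g'] [Mono f] : Mono f' := by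
  have hXY : IsPullback iX f f' iY := isPullback_top iX iY iS f f' g g' hcX hcY w
  have hY := thickening_of_isPullback iY iS g g' hS hcY
  haveI : LocallyOfFinitePresentation f' := lfp_top f' g'
  haveI : LocallyOfFiniteType f := MorphismProperty.of_isPullback (P := @LocallyOfFiniteType) hXY
    inferInstance
  exact (Groth.Agent.S1315.result iX iY f f' hY hXY).mp inferInstance

/-- deforming open immersions -/
theorem isOpenImmersion_of_deform (hS : MoreMor.IsThickening iS)
    (hcX : IsPullback iX (f ≫ g) (f' ≫ g') iS) (hcY : IsPullback iY g g' iS)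
    (w : iX ≫ f' = f ≫ iY) [Flat (f' ≫ g')] [LocallyOfFinitePresentation (f' ≫ g')]
    [LocallyOfFiniteType g'] [IsOpenImmersion f] : IsOpenImmersion f' := by
  haveI : LocallyOfFinitePresentation f' := lfp_top f' g'
  haveI : Flat f' := flat_of_deform iX iY iS f f' g g' hS hcX hcY w
  haveI : Mono f' := mono_of_deform iX iY iS f f' g g' hS hcX hcY w
  exact IsOpenImmersion.of_flat_of_mono f'

theorem isOpenImmersion_iff (hS : MoreMor.IsThickening iS)
    (hcX : IsPullback iX (f ≫ g) (f' ≫ g') iS) (hcY : IsPullback iY g g' iS)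
    (w : iX ≫ f' = f ≫ iY) [Flat (f' ≫ g')] [LocallyOfFinitePresentation (f' ≫ g')]
    [LocallyOfFiniteType g'] : IsOpenImmersion f ↔ IsOpenImmersion f' := by
  have hXY : IsPullback iX f f' iY := isPullback_top iX iY iS f f' g g' hcX hcY w
  constructor
  · intro h
    exact isOpenImmersion_of_deform iX iY iS f f' g g' hS hcX hcY w
  · intro h
    exact MorphismProperty.of_isPullback (P := @IsOpenImmersion) hXY h

/-- deforming isomorphisms -/
theorem isIso_of_deform (hS : MoreMor.IsThickening iS)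
    (hcX : IsPullback iX (f ≫ g) (f' ≫ g') iS) (hcY : IsPullback iY g g' iS)
    (w : iX ≫ f' = f ≫ iY) [Flat (f' ≫ g')] [LocallyOfFinitePresentation (f' ≫ g')]
    [LocallyOfFiniteType g'] [IsIso f] : IsIso f' := by
  have hXY : IsPullback iX f f' iY := isPullback_top iX iY iS f f' g g' hcX hcY w
  have hY := thickening_of_isPullback iY iS g g' hS hcY
  haveI := hY.1
  haveI := hY.2
  haveI : IsOpenImmersion f' := isOpenImmersion_of_deform iX iY iS f f' g g' hS hcX hcY w
  haveI : Surjective iX := MorphismProperty.of_isPullback (P := @Surjective) hXY.flip inferInstance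
  have hsurj : Function.Surjective f' := by
    intro y'
    obtain ⟨y, rfl⟩ := iY.surjective y'
    obtain ⟨x, rfl⟩ := f.surjective y
    refine ⟨iX x, ?_⟩
    rw [← Scheme.Hom.comp_apply, ← Scheme.Hom.comp_apply, w]
  haveI : Epi f'.base := (TopCat.epi_iff_surjective _).mpr hsurj
  exact IsOpenImmersion.isIso f'

theorem isIso_iff (hS : MoreMor.IsThickening iS)
    (hcX : IsPullback iX (f ≫ g) (f' ≫ g') iS) (hcY : IsPullback iY g g' iS)
    (w : iX ≫ f' = f ≫ iY) [Flat (f' ≫ g')] [LocallyOfFinitePresentation (f' ≫ g')]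
    [LocallyOfFiniteType g'] : IsIso f ↔ IsIso f' := by
  have hXY : IsPullback iX f f' iY := isPullback_top iX iY iS f f' g g' hcX hcY w
  constructor
  · intro h
    exact isIso_of_deform iX iY iS f f' g g' hS hcX hcY w
  · intro h
    exact MorphismProperty.of_isPullback (P := MorphismProperty.isomorphisms Scheme) hXY h

/-- deforming étaleness -/
theorem etale_of_deform (hS : MoreMor.IsThickening iS)
    (hcX : IsPullback iX (f ≫ g) (f' ≫ g') iS) (hcY : IsPullback iY g g' iS)
    (w : iX ≫ f' = f ≫ iY) [Flat (f' ≫ g')] [LocallyOfFinitePresentation (f' ≫ g')]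
    [LocallyOfFiniteType g'] [Etale f] : Etale f' := by
  have hXY : IsPullback iX f f' iY := isPullback_top iX iY iS f f' g g' hcX hcY w
  have hY := thickening_of_isPullback iY iS g g' hS hcY
  haveI : LocallyOfFinitePresentation f' := lfp_top f' g'
  haveI : Flat f' := flat_of_deform iX iY iS f f' g g' hS hcX hcY w
  haveI : FormallyUnramified f' :=
    (Groth.Agent.S1314.result iX iY f f' hY hXY).mp inferInstance
  exact Etale.of_formallyUnramified_of_flat f'

theorem etale_iff (hS : MoreMor.IsThickening iS)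
    (hcX : IsPullback iX (f ≫ g) (f' ≫ g') iS) (hcY : IsPullback iY g g' iS)
    (w : iX ≫ f' = f ≫ iY) [Flat (f' ≫ g')] [LocallyOfFinitePresentation (f' ≫ g')]
    [LocallyOfFiniteType g'] : Etale f ↔ Etale f' := by
  have hXY : IsPullback iX f f' iY := isPullback_top iX iY iS f f' g g' hcX hcY w
  constructor
  · intro h
    exact etale_of_deform iX iY iS f f' g g' hS hcX hcY w
  · intro h
    exact MorphismProperty.of_isPullback (P := @Etale) hXY h

end schemes

end Groth.Agent.Lead.Deform4
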