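import Mathlib
open CategoryTheory Limits AlgebraicGeometry

namespace Groth.Agent.Lead.LimFrame
universe u
variable {I : Type u} [SmallCategory I] (D : I ⥤ Scheme.{u}) (c : Cone D) (i₀ : I)
  {X₀ Y₀ : Scheme.{u}} (f₀ : X₀ ⟶ Y₀) (g₀ : Y₀ ⟶ D.obj i₀)

/-- the canonical model of the base change of `f₀` to the limit -/
noncomputable abbrev limMap : pullback f₀ (pullback.snd (c.π.app i₀) g₀) ⟶ pullback (c.π.app i₀) g₀ :=
  pullback.snd f₀ (pullback.snd (c.π.app i₀) g₀)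

/-- the canonical model of the base change of `f₀` to a stage -/
noncomputable abbrev stageMap (j : Over i₀) :
    pullback f₀ (pullback.snd (D.map j.hom) g₀) ⟶ pullback (D.map j.hom) g₀ :=
  pullback.snd f₀ (pullback.snd (D.map j.hom) g₀)

variable {D c i₀ f₀ g₀}

theorem frame_in (P : MorphismProperty Scheme.{u}) [P.RespectsIso]
    {X Y : Scheme.{u}} {f : X ⟶ Y} {g : Y ⟶ c.pt} {qY : Y ⟶ Y₀} {qX : X ⟶ X₀}
    (hY : IsPullback qY g g₀ (c.π.app i₀)) (hX : IsPullback qX f f₀ qY) (hf : P f) :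
    P (limMap D c i₀ f₀ g₀) := by
  let eY := hY.flip.isoPullback
  have hsnd : eY.hom ≫ pullback.snd (c.π.app i₀) g₀ = qY := hY.flip.isoPullback_hom_snd
  have hX' : IsPullback qX (f ≫ eY.hom) f₀ (pullback.snd (c.π.app i₀) g₀) := by
    have h4 : IsPullback qX f f₀ (eY.hom ≫ pullback.snd (c.π.app i₀) g₀) := by rw [hsnd]; exact hX
    exact IsPullback.of_iso h4 (Iso.refl _) (Iso.refl _) eY (Iso.refl _) (by simp) (by simp)
      (by simp) (by simp)
  let eX := hX'.isoPullback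
  have h5 : eX.hom ≫ pullback.snd f₀ (pullback.snd (c.π.app i₀) g₀) = f ≫ eY.hom :=
    hX'.isoPullback_hom_snd
  have h6 : limMap D c i₀ f₀ g₀ = eX.inv ≫ f ≫ eY.hom := by
    rw [← h5, Iso.inv_hom_id_assoc]
  rw [h6, P.cancel_left_of_respectsIso, P.cancel_right_of_respectsIso]
  exact hf

theorem frame_out (P : MorphismProperty Scheme.{u}) (j : Over i₀)
    (h : P (stageMap D i₀ f₀ g₀ j)) :
    ∃ (i : I) (φ : i ⟶ i₀) (Xi Yi : Scheme.{u}) (fi : Xi ⟶ Yi) (gi : Yi ⟶ D.obj i) (pY : Yi ⟶ Y₀)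
      (pX : Xi ⟶ X₀), IsPullback pY gi g₀ (D.map φ) ∧ IsPullback pX fi f₀ pY ∧ P fi :=
  ⟨j.left, j.hom, _, _, stageMap D i₀ f₀ g₀ j, pullback.fst (D.map j.hom) g₀,
    pullback.snd (D.map j.hom) g₀, pullback.fst f₀ (pullback.snd (D.map j.hom) g₀),
    (IsPullback.of_hasPullback _ _).flip, IsPullback.of_hasPullback _ _, h⟩

end Groth.Agent.Lead.LimFrame
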