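import Groth.Agent.Lead.LimDiag
import Groth.Agent.Lead.LimFrame
import Groth.Agent.Lead.LimPullback
open CategoryTheory Limits AlgebraicGeometry

namespace Groth.Agent.Lead.LimBC
open Groth.Agent.Lead.LimDiag Groth.Agent.Lead.LimFrame Groth.Agent.Lead.LimPullback
universe u

section Cat
variable {C : Type*} [Category C] [HasPullbacks C]

/-- iterated base change -/
theorem prop_snd_snd_iff (P : MorphismProperty C) [P.RespectsIso] {X₀ Y₀ V W : C} (f₀ : X₀ ⟶ Y₀)
    (v : V ⟶ Y₀) (w : W ⟶ V) :
    P (pullback.snd (pullback.snd f₀ v) w) ↔ P (pullback.snd f₀ (w ≫ v)) := by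
  have e : pullback.snd (pullback.snd f₀ v) w =
      (pullbackLeftPullbackSndIso f₀ v w).hom ≫ pullback.snd f₀ (w ≫ v) := by simp
  rw [e, P.cancel_left_of_respectsIso]

/-- transfer along a map of test objects -/
theorem prop_snd_of_fac (P : MorphismProperty C) [P.IsStableUnderBaseChange] {X₀ Y₀ M M' : C}
    (f₀ : X₀ ⟶ Y₀) (m : M ⟶ Y₀) (m' : M' ⟶ Y₀) (t : M' ⟶ M) (ht : t ≫ m = m')
    (h : P (pullback.snd f₀ m)) : P (pullback.snd f₀ m') :=
  prop_snd_comp P f₀ m t m' ht h

end Cat

variable {I : Type u} [SmallCategory I] {D : I ⥤ Scheme.{u}} {c : Cone D} {i₀ : I}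
  {X₀ Y₀ : Scheme.{u}} {f₀ : X₀ ⟶ Y₀} {g₀ : Y₀ ⟶ D.obj i₀}

set_option backward.isDefEq.respectTransparency false in
/-- a property stable under base change persists to later stages -/
theorem stage_of_hom (P : MorphismProperty Scheme.{u}) [P.IsStableUnderBaseChange]
    {j k : Over i₀} (φ : k ⟶ j) (h : P (stageMap D i₀ f₀ g₀ j)) : P (stageMap D i₀ f₀ g₀ k) :=
  prop_snd_of_fac P f₀ _ _ ((pbDiag D i₀ g₀).map φ) (by simp [pbDiag]) h

set_option backward.isDefEq.respectTransparency false in
/-- a property stable under base change passes from a stage to the limit -/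
theorem lim_of_stage (P : MorphismProperty Scheme.{u}) [P.IsStableUnderBaseChange]
    (j : Over i₀) (h : P (stageMap D i₀ f₀ g₀ j)) : P (LimFrame.limMap D c i₀ f₀ g₀) :=
  prop_snd_of_fac P f₀ _ _ ((pbCone D c i₀ g₀).π.app j) (by simp [pbCone]) h

variable (j : Over i₀)

set_option backward.isDefEq.respectTransparency false in
/-- (R1) rebasing the limit map to a later stage -/
theorem rebase_in (P : MorphismProperty Scheme.{u}) [P.IsStableUnderBaseChange]
    (h : P (LimFrame.limMap D c i₀ f₀ g₀)) :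
    P (LimFrame.limMap D c j.left (stageMap D i₀ f₀ g₀ j) (pullback.fst (D.map j.hom) g₀)) := by
  refine (prop_snd_snd_iff P f₀ (pullback.snd (D.map j.hom) g₀)
    (pullback.snd (c.π.app j.left) (pullback.fst (D.map j.hom) g₀))).mpr ?_
  refine prop_snd_of_fac P f₀ _ _
    (pullback.lift (pullback.fst _ _)
      (pullback.snd _ (pullback.fst (D.map j.hom) g₀) ≫ pullback.snd (D.map j.hom) g₀) ?_) ?_ h
  · rw [Category.assoc, ← pullback.condition, ← pullback.condition_assoc, c.w]
  · simp

set_option backward.isDefEq.respectTransparency false in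
/-- (R2) un-rebasing a stage map -/
theorem rebase_out (P : MorphismProperty Scheme.{u}) [P.IsStableUnderBaseChange]
    (k : Over j.left)
    (h : P (stageMap D j.left (stageMap D i₀ f₀ g₀ j) (pullback.fst (D.map j.hom) g₀) k)) :
    P (stageMap D i₀ f₀ g₀ (Over.mk (k.hom ≫ j.hom))) := by
  have h := (prop_snd_snd_iff P f₀ (pullback.snd (D.map j.hom) g₀)
    (pullback.snd (D.map k.hom) (pullback.fst (D.map j.hom) g₀))).mp h
  refine prop_snd_of_fac P f₀ _ _
    (pullback.lift (pullback.fst _ _)
      (pullback.lift (pullback.fst _ _ ≫ D.map k.hom) (pullback.snd _ _) ?_) ?_) ?_ h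
  · rw [Category.assoc, ← pullback.condition]
    simp
  · simp
  · simp

end Groth.Agent.Lead.LimBC
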