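import Groth.Agent.Lead.LimRed
open CategoryTheory Limits AlgebraicGeometry

namespace Groth.Agent.Lead.LimSrc
open Groth.Agent.Lead.LimFrame Groth.Agent.Lead.LimPullback Groth.Agent.Lead.LimBC
  Groth.Agent.Lead.LimHom Groth.Agent.Lead.LimRed
universe u

section Generic
variable {B S' X₀ Y₀ U V M : Scheme.{u}}

set_option backward.isDefEq.respectTransparency false in
/-- (T) shrinking the target to an open subscheme -/
theorem prop_snd_target_iff (P : MorphismProperty Scheme.{u}) [P.IsStableUnderBaseChange]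
    [P.IsMultiplicative] [IsZariskiLocalAtSource P] (p : S' ⟶ B) (g₀ : Y₀ ⟶ B)
    (v : V ⟶ Y₀) [IsOpenImmersion v] (f' : X₀ ⟶ V) (m : X₀ ⟶ Y₀) (hm : m = f' ≫ v) :
    P (pullback.snd m (pullback.snd p g₀)) ↔ P (pullback.snd f' (pullback.snd p (v ≫ g₀))) := by
  subst hm
  let s := pullback.snd p g₀
  let s' := pullback.snd p (v ≫ g₀)
  let a : pullback p (v ≫ g₀) ⟶ pullback p g₀ :=
    pullback.lift (pullback.fst _ _) (s' ≫ v) (by rw [pullback.condition, Category.assoc])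
  have hA : IsPullback a s' s v := by
    refine IsPullback.of_right ?_ (by simp [a, s]) (IsPullback.of_hasPullback p g₀)
    have e : a ≫ pullback.fst p g₀ = pullback.fst p (v ≫ g₀) := by simp [a]
    rw [e]
    exact IsPullback.of_hasPullback p (v ≫ g₀)
  have ha : IsOpenImmersion a := MorphismProperty.of_isPullback (P := @IsOpenImmersion) hA.flip
    inferInstance
  have h1 : IsPullback (pullback.fst f' s') (pullback.snd f' s' ≫ a) (f' ≫ v) s :=
    ((IsPullback.of_hasPullback f' s').flip.paste_horiz hA).flip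
  let e := h1.isoPullback
  have he : e.hom ≫ pullback.snd (f' ≫ v) s = pullback.snd f' s' ≫ a := h1.isoPullback_hom_snd
  have h2 : P (pullback.snd (f' ≫ v) s) ↔ P (pullback.snd f' s' ≫ a) := by
    rw [← he, P.cancel_left_of_respectsIso]
  rw [h2]
  constructor
  · intro h
    exact P.of_postcomp (W' := @IsOpenImmersion) _ a ha h
  · intro h
    exact P.comp_mem _ _ h (IsZariskiLocalAtSource.of_isOpenImmersion a)

set_option backward.isDefEq.respectTransparency false in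
/-- (S) precomposing with an open immersion on the source -/
theorem prop_snd_source (P : MorphismProperty Scheme.{u})
    [IsZariskiLocalAtSource P] (f₀ : X₀ ⟶ Y₀) (u : U ⟶ X₀) [IsOpenImmersion u] (m : M ⟶ Y₀)
    (h : P (pullback.snd f₀ m)) : P (pullback.snd (u ≫ f₀) m) := by
  have e : pullback.snd (u ≫ f₀) m = (pullbackRightPullbackFstIso f₀ m u).inv ≫
      pullback.snd u (pullback.fst f₀ m) ≫ pullback.snd f₀ m := by simp
  rw [e, P.cancel_left_of_respectsIso]
  exact IsZariskiLocalAtSource.comp h _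

set_option backward.isDefEq.respectTransparency false in
/-- (S') glueing along an open cover of the source -/
theorem prop_snd_of_openCover (P : MorphismProperty Scheme.{u})
    [IsZariskiLocalAtSource P] (f₀ : X₀ ⟶ Y₀) (𝒰 : X₀.OpenCover) (m : M ⟶ Y₀)
    (h : ∀ r, P (pullback.snd (𝒰.f r ≫ f₀) m)) : P (pullback.snd f₀ m) := by
  refine IsZariskiLocalAtSource.of_openCover (𝒰.pullback₁ (pullback.fst f₀ m)) fun r ↦ ?_
  have e : (𝒰.pullback₁ (pullback.fst f₀ m)).f r ≫ pullback.snd f₀ m =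
      (pullbackSymmetry _ _).hom ≫ (pullbackRightPullbackFstIso f₀ m (𝒰.f r)).hom ≫
        pullback.snd (𝒰.f r ≫ f₀) m := by
    change pullback.fst (pullback.fst f₀ m) (𝒰.f r) ≫ _ = _
    simp
  rw [e, P.cancel_left_of_respectsIso, P.cancel_left_of_respectsIso]
  exact h r

end Generic


variable {I : Type u} [SmallCategory I] [IsCofiltered I] {D : I ⥤ Scheme.{u}} {c : Cone D}
  [∀ {i j : I} (f : i ⟶ j), IsAffineHom (D.map f)] (i₀ : I)
  {X₀ Y₀ : Scheme.{u}} (g₀ : Y₀ ⟶ D.obj i₀) (f₀ : X₀ ⟶ Y₀)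

omit [∀ {i j : I} (f : i ⟶ j), IsAffineHom (D.map f)] in
set_option backward.isDefEq.respectTransparency false in
/-- (ST) for a property local on source and target it suffices to descend `P` for morphisms of
affine opens -/
theorem source_target_reduction (P : MorphismProperty Scheme.{u}) [P.IsStableUnderBaseChange]
    [P.IsMultiplicative] [IsZariskiLocalAtSource P] [CompactSpace X₀]
    (H : ∀ {U V : Scheme.{u}} (u : U ⟶ X₀) (v : V ⟶ Y₀) (f' : U ⟶ V) [IsOpenImmersion u]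
      [IsOpenImmersion v] [IsAffine U] [IsAffine V], u ≫ f₀ = f' ≫ v →
      P (LimFrame.limMap D c i₀ f' (v ≫ g₀)) → ∃ j : Over i₀, P (stageMap D i₀ f' (v ≫ g₀) j))
    (h : P (LimFrame.limMap D c i₀ f₀ g₀)) : ∃ j : Over i₀, P (stageMap D i₀ f₀ g₀ j) := by
  have hcov : ∀ x : X₀, ∃ (V : Y₀.Opens) (U : X₀.Opens), IsAffineOpen V ∧ IsAffineOpen U ∧ x ∈ U ∧
      U ≤ f₀ ⁻¹ᵁ V := by
    intro x
    obtain ⟨_, ⟨V, hV, rfl⟩, hxV, -⟩ := Y₀.isBasis_affineOpens.exists_subset_of_mem_open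
      (Set.mem_univ (f₀ x)) isOpen_univ
    obtain ⟨_, ⟨U, hU, rfl⟩, hxU, hUV⟩ := X₀.isBasis_affineOpens.exists_subset_of_mem_open
      (show x ∈ ((f₀ ⁻¹ᵁ V : X₀.Opens) : Set X₀) from hxV) (f₀ ⁻¹ᵁ V).isOpen
    exact ⟨V, U, hV, hU, hxU, hUV⟩
  choose V U hV hU hxU hUV using hcov
  obtain ⟨t, ht⟩ := CompactSpace.elim_nhds_subcover (fun x ↦ (U x : Set X₀))
    (fun x ↦ (U x).2.mem_nhds (hxU x))
  have hpiece : ∀ x : X₀, ∃ j : Over i₀,
      P (stageMap D i₀ (f₀.resLE (V x) (U x) (hUV x)) ((V x).ι ≫ g₀) j) := by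
    intro x
    have : IsAffine (U x) := hU x
    have : IsAffine (V x) := hV x
    refine H (U x).ι (V x).ι _ (Scheme.Hom.resLE_comp_ι _ _).symm ?_
    refine (prop_snd_target_iff P (c.π.app i₀) g₀ (V x).ι _ ((U x).ι ≫ f₀)
      (Scheme.Hom.resLE_comp_ι _ _).symm).mp ?_
    exact prop_snd_source P f₀ (U x).ι _ h
  choose jx hjx using hpiece
  classical
  obtain ⟨j, hj⟩ := IsCofiltered.inf_objs_exists (t.image jx)
  refine ⟨j, ?_⟩
  let 𝒰 : X₀.OpenCover := X₀.openCoverOfIsOpenCover (fun x : t ↦ U x.1) (by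
    refine eq_top_iff.mpr fun x _ ↦ ?_
    have hx : x ∈ ⋃ y ∈ t, (U y : Set X₀) := ht.ge (Set.mem_univ x)
    obtain ⟨y, hy, hxy⟩ := Set.mem_iUnion₂.mp hx
    exact TopologicalSpace.Opens.mem_iSup.mpr ⟨⟨y, hy⟩, hxy⟩)
  refine prop_snd_of_openCover P f₀ 𝒰 _ fun r ↦ ?_
  have hr : P (stageMap D i₀ (f₀.resLE (V r.1) (U r.1) (hUV r.1)) ((V r.1).ι ≫ g₀) j) :=
    stage_of_hom P (hj (Finset.mem_image_of_mem jx r.2)).some (hjx r.1)
  exact (prop_snd_target_iff P (D.map j.hom) g₀ (V r.1).ι _ ((U r.1).ι ≫ f₀)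
    (Scheme.Hom.resLE_comp_ι _ _).symm).mpr hr

end Groth.Agent.Lead.LimSrc
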