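import Groth.Agent.Lead.LimModelAlg
import Groth.Agent.Lead.LimSrc
import Groth.Agent.Helper2.LfpComp
open CategoryTheory Limits AlgebraicGeometry

namespace Groth.Agent.Lead.LimSmooth
open Groth.Agent.Lead.LimFrame Groth.Agent.Lead.LimPullback Groth.Agent.Lead.LimBC
  Groth.Agent.Lead.LimHom Groth.Agent.Lead.LimRed Groth.Agent.Lead.LimModel Groth.Agent.Lead.LimSrc
universe u
variable {I : Type u} [SmallCategory I] [IsCofiltered I] {D : I ⥤ Scheme.{u}} {c : Cone D}
  (hc : IsLimit c) [∀ {i j : I} (f : i ⟶ j), IsAffineHom (D.map f)] (i₀ : I)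
  {X₀ Y₀ : Scheme.{u}} (g₀ : Y₀ ⟶ D.obj i₀) (f₀ : X₀ ⟶ Y₀)

include hc in
/-- descent for properties local on source and target admitting noetherian models -/
theorem descends_of_compact (P : MorphismProperty Scheme.{u}) [P.IsStableUnderBaseChange]
    [P.IsMultiplicative] [IsZariskiLocalAtSource P] (hP : HasNoethModel P)
    [CompactSpace X₀] [LocallyOfFinitePresentation f₀]
    (h : P (LimFrame.limMap D c i₀ f₀ g₀)) : ∃ j : Over i₀, P (stageMap D i₀ f₀ g₀ j) := by
  refine source_target_reduction i₀ g₀ f₀ P ?_ h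
  intro U V u v f' _ _ _ _ huv h'
  have h1 : LocallyOfFinitePresentation (f' ≫ v) := by rw [← huv]; infer_instance
  have h2 : LocallyOfFinitePresentation f' :=
    Groth.Agent.Helper2.LfpComp.locallyOfFinitePresentation_of_comp f' v h1 inferInstance
  exact descends_of_isAffine hc i₀ (v ≫ g₀) f' P hP h'

instance : MorphismProperty.IsMultiplicative @Smooth.{u} where
  id_mem _ := inferInstance

include hc in
theorem smooth_descends [CompactSpace X₀] [LocallyOfFinitePresentation f₀]
    (h : Smooth (LimFrame.limMap D c i₀ f₀ g₀)) : ∃ j : Over i₀, Smooth (stageMap D i₀ f₀ g₀ j) :=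
  descends_of_compact hc i₀ g₀ f₀ @Smooth hasNoethModel_smooth h

include hc in
theorem etale_descends [CompactSpace X₀] [LocallyOfFinitePresentation f₀]
    (h : Etale (LimFrame.limMap D c i₀ f₀ g₀)) : ∃ j : Over i₀, Etale (stageMap D i₀ f₀ g₀ j) :=
  descends_of_compact hc i₀ g₀ f₀ @Etale hasNoethModel_etale h

end Groth.Agent.Lead.LimSmooth
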