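import Groth.Agent.Lead.LimCompact
import Groth.Agent.Lead.LimDiag
import Groth.Agent.Helper2.LfpComp
open CategoryTheory Limits AlgebraicGeometry

namespace Groth.Agent.Lead.LimUnram
open Groth.Agent.Lead.LimPullback Groth.Agent.Lead.LimFrame Groth.Agent.Lead.LimDiag
universe u
variable {I : Type u} [SmallCategory I] [IsCofiltered I] {D : I ⥤ Scheme.{u}} {c : Cone D}
  (hc : IsLimit c) [∀ {i j : I} (f : i ⟶ j), IsAffineHom (D.map f)] (i₀ : I)
  {X₀ Y₀ : Scheme.{u}} (g₀ : Y₀ ⟶ D.obj i₀) (f₀ : X₀ ⟶ Y₀)

/-- the diagonal of a morphism locally of finite type is locally of finite presentation -/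
theorem locallyOfFinitePresentation_diagonal {X Y : Scheme.{u}} (f : X ⟶ Y)
    [LocallyOfFiniteType f] : LocallyOfFinitePresentation (pullback.diagonal f) := by
  refine Groth.Agent.Helper2.LfpComp.locallyOfFinitePresentation_of_comp (pullback.diagonal f)
    (pullback.fst f f) ?_ inferInstance
  rw [pullback.diagonal_fst]
  infer_instance

include hc in
set_option backward.isDefEq.respectTransparency false in
theorem formallyUnramified_descends [CompactSpace X₀] [QuasiSeparatedSpace X₀] [CompactSpace Y₀]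
    [QuasiSeparatedSpace Y₀] [LocallyOfFiniteType f₀]
    (h : FormallyUnramified (LimFrame.limMap D c i₀ f₀ g₀)) :
    ∃ j : Over i₀, FormallyUnramified (stageMap D i₀ f₀ g₀ j) := by
  have hf₀c : QuasiCompact f₀ := inferInstance
  have hf₀q : QuasiSeparated f₀ := inferInstance
  have hZc : CompactSpace ↥(pullback f₀ f₀) :=
    QuasiCompact.compactSpace_of_compactSpace (pullback.fst f₀ f₀)
  have hZq : QuasiSeparatedSpace ↥(pullback f₀ f₀) :=
    quasiSeparatedSpace_of_quasiSeparated (pullback.fst f₀ f₀)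
  have hΔp : LocallyOfFinitePresentation (pullback.diagonal f₀) :=
    locallyOfFinitePresentation_diagonal f₀
  have hΔc : QuasiCompact (pullback.diagonal f₀) := inferInstance
  have hΔq : QuasiSeparated (pullback.diagonal f₀) := inferInstance
  have hFt : LocallyOfFiniteType (LimFrame.limMap D c i₀ f₀ g₀) :=
    MorphismProperty.pullback_snd _ _ inferInstance
  have hΔ : IsOpenImmersion (pullback.diagonal (LimFrame.limMap D c i₀ f₀ g₀)) := inferInstance
  have h7 : IsOpenImmersion (LimFrame.limMap D c i₀ (pullback.diagonal f₀) (diagBase f₀ g₀)) :=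
    of_diagonal_bc (c.π.app i₀) f₀ g₀ (@IsOpenImmersion) hΔ
  obtain ⟨j, hj⟩ := LimCompact.isOpenImmersion_descends_of_qcqs hc i₀ (diagBase f₀ g₀)
    (pullback.diagonal f₀) h7
  have := diagonal_bc_of (D.map j.hom) f₀ g₀ (@IsOpenImmersion) hj
  exact ⟨j, inferInstance⟩

end Groth.Agent.Lead.LimUnram
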