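import Groth.Agent.Lead.LimExist
import Groth.Agent.Lead.LimSmooth
import Groth.Agent.Lead.LimUnram
open CategoryTheory Limits AlgebraicGeometry

namespace Groth.Agent.Lead.LimExist
open Groth.Agent.Lead.LimPullback Groth.Agent.Lead.LimHom Groth.Agent.Lead.LimIsoDesc
  Groth.Agent.Lead.LimModel Groth.Agent.Lead.LimRed Groth.Agent.Lead.LimFrame
universe u
variable {I : Type u} [SmallCategory I] [IsCofiltered I] {D : I ⥤ Scheme.{u}} {c : Cone D}
  (hc : IsLimit c) [∀ {i j : I} (f : i ⟶ j), IsAffineHom (D.map f)]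

include hc in
set_option backward.isDefEq.respectTransparency false in
/-- existence of models with a property that descends -/
theorem exists_model_prop (P : MorphismProperty Scheme.{u}) [P.RespectsIso]
    (H : ∀ (i₀ : I) {X₀ : Scheme.{u}} (f₀ : X₀ ⟶ D.obj i₀) [LocallyOfFinitePresentation f₀]
      [CompactSpace X₀] [QuasiSeparatedSpace X₀], P (LimFrame.limMap D c i₀ f₀ (𝟙 _)) →
        ∃ j : Over i₀, P (stageMap D i₀ f₀ (𝟙 _) j))
    {X : Scheme.{u}} (f : X ⟶ c.pt) [LocallyOfFinitePresentation f] [CompactSpace X]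
    [QuasiSeparatedSpace X] (hf : P f) :
    ∃ (j : I) (M : Model f j), P M.fi := by
  obtain ⟨j, ⟨M⟩⟩ := exists_model hc f
  have h1 : P (LimFrame.limMap D c j M.fi (𝟙 _)) :=
    (lim_in j (𝟙 _) M.fi P (IsPullback.id_vert (c.π.app j)) M.sq).mp hf
  obtain ⟨⟨kl, ⟨⟨⟩⟩, kh⟩, hk⟩ := H j M.fi h1
  refine ⟨kl, M.rebase (Over.mk kh), ?_⟩
  exact (stage_in j (𝟙 _) M.fi P kh (IsPullback.id_vert (D.map kh))
    (IsPullback.of_hasPullback (D.map kh) M.fi).flip).mpr hk

end Groth.Agent.Lead.LimExist
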