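import Mathlib
open CategoryTheory Limits

namespace Groth.Agent.Lead.PushoutGen
universe u

/-- In a pushout square of commutative rings `A = A₀ ⊗_{B₀} B`, if `A₀` is generated over `B₀` by
a set `s`, then a subring of `A` containing the image of `B` and the image of `s` is everything. -/
theorem subring_eq_top_of_isPushout {B₀ A₀ B A : CommRingCat.{u}} {φ₀ : B₀ ⟶ A₀} {β : B₀ ⟶ B}
    {α : A₀ ⟶ A} {φ : B ⟶ A} (h : IsPushout φ₀ β α φ) (s : Set A₀)
    (hs : ∀ R : Subring A₀, (∀ b, φ₀.hom b ∈ R) → s ⊆ R → R = ⊤)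
    (R' : Subring A) (hφ : ∀ b, φ.hom b ∈ R')
    (hα : ∀ a ∈ s, α.hom a ∈ R') : R' = ⊤ := by
  have hR₀ : R'.comap α.hom = ⊤ := by
    apply hs
    · intro b
      change α.hom (φ₀.hom b) ∈ R'
      have : α.hom (φ₀.hom b) = φ.hom (β.hom b) := by
        have := congr($(h.w).hom b)
        simpa using this
      rw [this]
      exact hφ _
    · intro a ha
      exact hα a ha
  have hαR : ∀ a, α.hom a ∈ R' := fun a ↦ by
    have : a ∈ R'.comap α.hom := by rw [hR₀]; trivial
    exact this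
  let u : A₀ ⟶ CommRingCat.of R' := CommRingCat.ofHom (α.hom.codRestrict R' hαR)
  let v : B ⟶ CommRingCat.of R' := CommRingCat.ofHom (φ.hom.codRestrict R' hφ)
  let ι : CommRingCat.of R' ⟶ A := CommRingCat.ofHom R'.subtype
  have huv : φ₀ ≫ u = β ≫ v := by
    ext b
    have := congr($(h.w).hom b)
    change α.hom (φ₀.hom b) = φ.hom (β.hom b)
    simpa using this
  let d : A ⟶ CommRingCat.of R' := h.desc u v huv
  have hd : d ≫ ι = 𝟙 A := by
    apply h.hom_ext
    · rw [h.inl_desc_assoc]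
      ext a
      simp [u, ι]
    · rw [h.inr_desc_assoc]
      ext b
      rfl
  rw [eq_top_iff]
  intro x _
  have : x = (d ≫ ι).hom x := by rw [hd]; rfl
  rw [this]
  exact (d.hom x).2

/-- integrality version -/
theorem isIntegral_of_isPushout {B₀ A₀ B A : CommRingCat.{u}} {φ₀ : B₀ ⟶ A₀} {β : B₀ ⟶ B}
    {α : A₀ ⟶ A} {φ : B ⟶ A} (h : IsPushout φ₀ β α φ) (s : Set A₀)
    (hs : ∀ R : Subring A₀, (∀ b, φ₀.hom b ∈ R) → s ⊆ R → R = ⊤)
    (hα : ∀ a ∈ s, φ.hom.IsIntegralElem (α.hom a)) : φ.hom.IsIntegral := by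
  letI : Algebra B A := φ.hom.toAlgebra
  let R' : Subring A := (integralClosure B A).toSubring
  have hR' : R' = ⊤ := by
    refine subring_eq_top_of_isPushout h s hs R' ?_ ?_
    · intro b
      exact (integralClosure B A).algebraMap_mem b
    · intro a ha
      exact hα a ha
  intro x
  have : x ∈ R' := by rw [hR']; trivial
  exact this

end Groth.Agent.Lead.PushoutGen
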