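import Groth.Agent.Lead.LimClosed
import Groth.Agent.Lead.PushoutGen2
open CategoryTheory Limits AlgebraicGeometry Topology

namespace Groth.Agent.Lead.LimFinite
open Groth.Agent.Lead.LimPullback Groth.Agent.Lead.LimFrame Groth.Agent.Lead.LimBC
  Groth.Agent.Lead.LimIso Groth.Agent.Lead.LimHom Groth.Agent.Lead.LimClosed
universe u

section Ring
variable {Bj Bj' Binf Aj' Ainf Bl Al : Type*} [CommRing Bj] [CommRing Bj'] [CommRing Binf]
  [CommRing Aj'] [CommRing Ainf] [CommRing Bl] [CommRing Al]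

theorem ring1 (βj' : Bj →+* Bj') (βinf' : Bj' →+* Binf) (βinf : Bj →+* Binf)
    (hβ : βinf'.comp βj' = βinf) (αinf' : Aj' →+* Ainf) (F' : Bj' →+* Aj') (Finf : Binf →+* Ainf)
    (hF : αinf'.comp F' = Finf.comp βinf') (p : Polynomial Bj) (u : Aj')
    (h : Polynomial.eval₂ Finf (αinf' u) (p.map βinf) = 0) :
    αinf' (Polynomial.eval₂ F' u (p.map βj')) = 0 := by
  rw [Polynomial.hom_eval₂, Polynomial.eval₂_map, hF, RingHom.comp_assoc, hβ]
  rwa [Polynomial.eval₂_map] at h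

theorem ring2 (χB : Bj' →+* Bl) (χA : Aj' →+* Al) (F' : Bj' →+* Aj') (Fl : Bl →+* Al)
    (hF : Fl.comp χB = χA.comp F') (q : Polynomial Bj') (hq : q.Monic) (u : Aj')
    (h : χA (Polynomial.eval₂ F' u q) = 0) : Fl.IsIntegralElem (χA u) := by
  refine ⟨q.map χB, hq.map _, ?_⟩
  rw [Polynomial.eval₂_map, hF, ← Polynomial.hom_eval₂]
  exact h

end Ring

variable {I : Type u} [SmallCategory I] [IsCofiltered I] {D : I ⥤ Scheme.{u}} {c : Cone D}
  (hc : IsLimit c) [∀ {i j : I} (f : i ⟶ j), IsAffineHom (D.map f)] (i₀ : I)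
  {X₀ Y₀ : Scheme.{u}} (g₀ : Y₀ ⟶ D.obj i₀) (f₀ : X₀ ⟶ Y₀)

section Lift
variable {J : Type u} [SmallCategory J] [IsCofiltered J] (𝒴 : J ⥤ Scheme.{u}) (cY : Cone 𝒴)
  (hcY : IsLimit cY) [∀ j, IsAffine (𝒴.obj j)]

include hcY in
/-- a polynomial over the sections of an affine limit lifts to a stage -/
theorem exists_mem_lifts (p : Polynomial Γ(cY.pt, ⊤)) :
    ∃ j : J, p ∈ Polynomial.lifts (cY.π.app j).appTop.hom := by
  classical
  choose jn bn hbn using fun n : ℕ ↦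
    exists_appTop_π_eq_of_isAffine_of_isLimit 𝒴 cY hcY (p.coeff n)
  obtain ⟨S, hS⟩ := IsCofiltered.inf_objs_exists (p.support.image jn)
  refine ⟨S, ?_⟩
  rw [Polynomial.lifts_iff_coeff_lifts]
  intro n
  by_cases hn : n ∈ p.support
  · obtain ⟨φ⟩ := hS (Finset.mem_image_of_mem _ hn)
    refine ⟨(𝒴.map φ).appTop.hom (bn n), ?_⟩
    rw [← hbn n]
    change ((𝒴.map φ).appTop ≫ (cY.π.app S).appTop).hom (bn n) = _
    rw [← Scheme.Hom.comp_appTop, cY.w]
  · rw [Polynomial.notMem_support_iff.mp hn]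
    exact ⟨0, map_zero _⟩

end Lift

include hc in
set_option backward.isDefEq.respectTransparency false in
theorem isFinite_bcMap_descends_of_isAffine [IsAffine Y₀] [CompactSpace X₀]
    [QuasiSeparatedSpace X₀] [LocallyOfFiniteType f₀]
    (h : IsFinite (bcMap (c.π.app i₀) f₀ g₀)) :
    ∃ j : Over i₀, IsFinite (bcMap (D.map j.hom) f₀ g₀) := by
  classical
  have hA : ∀ {i j : I} (f : i ⟶ j), IsAffineHom (D.map f) := fun f ↦ inferInstance
  have hπ : IsAffineHom (c.π.app i₀) := isAffineHom_π_app D c hc i₀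
  -- the two systems
  let 𝒳 := pbDiag D i₀ (f₀ ≫ g₀)
  let 𝒴 := pbDiag D i₀ g₀
  let cX := pbCone D c i₀ (f₀ ≫ g₀)
  let cY := pbCone D c i₀ g₀
  have hcX : IsLimit cX := pbConeIsLimit i₀ (f₀ ≫ g₀) hc
  have hcY : IsLimit cY := pbConeIsLimit i₀ g₀ hc
  have hXA : ∀ {j k : Over i₀} (f : j ⟶ k), IsAffineHom (𝒳.map f) :=
    fun f ↦ isAffineHom_pbDiag_map i₀ (f₀ ≫ g₀) f
  have hYA : ∀ {j k : Over i₀} (f : j ⟶ k), IsAffineHom (𝒴.map f) :=
    fun f ↦ isAffineHom_pbDiag_map i₀ g₀ f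
  have hXc : ∀ j : Over i₀, CompactSpace ↥(𝒳.obj j) := fun j ↦ compactSpace_pbDiag D i₀ _ j
  have hXq : ∀ j : Over i₀, QuasiSeparatedSpace ↥(𝒳.obj j) :=
    fun j ↦ quasiSeparatedSpace_pbDiag D i₀ _ j
  have hYaff : ∀ j : Over i₀, IsAffine (𝒴.obj j) := fun j ↦ by
    have := isAffineHom_snd D i₀ g₀ j
    exact isAffine_of_isAffineHom (pullback.snd (D.map j.hom) g₀)
  have hYlim : IsAffine cY.pt := by
    have : IsAffineHom (pullback.snd (c.π.app i₀) g₀) := MorphismProperty.pullback_snd _ _ hπ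
    exact isAffine_of_isAffineHom (pullback.snd (c.π.app i₀) g₀)
  have hXlim : IsAffine cX.pt := by
    have : IsAffineHom (bcMap (c.π.app i₀) f₀ g₀) := inferInstance
    exact isAffine_of_isAffineHom (bcMap (c.π.app i₀) f₀ g₀)
  -- some stage of the X-system is affine
  obtain ⟨j₁, hj₁⟩ := Scheme.exists_isAffine_of_isLimit 𝒳 cX hcX
  have hXaff : ∀ (k : Over i₀) (_ : k ⟶ j₁), IsAffine (𝒳.obj k) := fun k φ ↦
    isAffine_of_isAffineHom (𝒳.map φ)
  -- typed versions of the base change maps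
  let Fm : ∀ j : Over i₀, 𝒳.obj j ⟶ 𝒴.obj j := fun j ↦ bcMap (D.map j.hom) f₀ g₀
  let Fl : cX.pt ⟶ cY.pt := bcMap (c.π.app i₀) f₀ g₀
  have hnat : ∀ {j k : Over i₀} (φ : k ⟶ j), 𝒳.map φ ≫ Fm j = Fm k ≫ 𝒴.map φ :=
    fun φ ↦ bcMap_naturality i₀ g₀ f₀ φ
  have hcone : ∀ j : Over i₀, cX.π.app j ≫ Fm j = Fl ≫ cY.π.app j :=
    fun j ↦ bcMap_cone (c := c) i₀ g₀ f₀ j
  have app2 : ∀ {A B C : Scheme.{u}} (f : A ⟶ B) (g : B ⟶ C) (x : Γ(C, ⊤)),
      f.appTop.hom (g.appTop.hom x) = (f ≫ g).appTop.hom x := by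
    intro A B C f g x; simp
  have comp2 : ∀ {A B C : Scheme.{u}} (f : A ⟶ B) (g : B ⟶ C),
      f.appTop.hom.comp g.appTop.hom = (f ≫ g).appTop.hom := by
    intro A B C f g; rfl
  -- generators
  have hft : (Fm j₁).appTop.hom.FiniteType := by
    have h1 : LocallyOfFiniteType (Fm j₁) := by
      change LocallyOfFiniteType (bcMap (D.map j₁.hom) f₀ g₀)
      rw [show bcMap (D.map j₁.hom) f₀ g₀ = (bcIso (D.map j₁.hom) f₀ g₀).hom ≫
        pullback.snd f₀ (pullback.snd (D.map j₁.hom) g₀) from (bcIso_hom_snd _ _ _).symm]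
      infer_instance
    have := hYaff j₁
    exact HasRingHomProperty.appTop (P := @LocallyOfFiniteType) _ h1
  have hint : Fl.appTop.hom.IsIntegral := by
    have h1 : Fl.appTop.hom.Finite := by
      have : IsFinite Fl := h
      exact ((HasAffineProperty.iff_of_isAffine (P := @IsFinite) (f := Fl)).mp h).2
    exact h1.to_isIntegral
  -- key: each section of the affine stage is eventually integral
  have key : ∀ a : Γ(𝒳.obj j₁, ⊤), ∃ (k : Over i₀) (θ : k ⟶ j₁),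
      ∀ (l : Over i₀) (ψ : l ⟶ k), (Fm l).appTop.hom.IsIntegralElem
        ((𝒳.map (ψ ≫ θ)).appTop.hom a) := by
    intro a
    obtain ⟨p, hpm, hp⟩ := hint ((cX.π.app j₁).appTop.hom a)
    obtain ⟨j, hj⟩ := exists_mem_lifts 𝒴 cY hcY p
    obtain ⟨pj, hpj, -, hpjm⟩ := Polynomial.lifts_and_natDegree_eq_and_monic hj hpm
    obtain ⟨j', ψ₁, ψ₂, -⟩ := IsCofilteredOrEmpty.cone_objs j j₁
    let u : Γ(𝒳.obj j', ⊤) := (𝒳.map ψ₂).appTop.hom a
    let q : Polynomial Γ(𝒴.obj j', ⊤) := pj.map (𝒴.map ψ₁).appTop.hom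
    have hqm : q.Monic := hpjm.map _
    let w : Γ(𝒳.obj j', ⊤) := Polynomial.eval₂ (Fm j').appTop.hom u q
    have hw : (cX.π.app j').appTop.hom w = 0 := by
      refine ring1 (𝒴.map ψ₁).appTop.hom (cY.π.app j').appTop.hom (cY.π.app j).appTop.hom ?_
        (cX.π.app j').appTop.hom (Fm j').appTop.hom Fl.appTop.hom ?_ pj u ?_
      · rw [comp2, cY.w]
      · rw [comp2, comp2, hcone]
      · rw [hpj]
        have e1 : (cX.π.app j').appTop.hom u = (cX.π.app j₁).appTop.hom a := by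
          simp only [u]
          rw [app2, cX.w]
          rfl
        rw [e1]
        exact hp
    obtain ⟨k, θ', hk⟩ := exists_appTop_map_eq_zero_of_isLimit 𝒳 cX hcX w hw
    refine ⟨k, θ' ≫ ψ₂, fun l ψ ↦ ?_⟩
    have e3 : (𝒳.map (ψ ≫ θ' ≫ ψ₂)).appTop.hom a = (𝒳.map (ψ ≫ θ')).appTop.hom u := by
      simp only [u]
      rw [app2, ← Functor.map_comp, Category.assoc]
    rw [e3]
    refine ring2 (𝒴.map (ψ ≫ θ')).appTop.hom (𝒳.map (ψ ≫ θ')).appTop.hom (Fm j').appTop.hom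
      (Fm l).appTop.hom ?_ q hqm u ?_
    · rw [comp2, comp2, hnat]
    · change (𝒳.map (ψ ≫ θ')).appTop.hom w = 0
      rw [Functor.map_comp, ← app2, hk, map_zero]
  -- finitely many generators
  letI alg : Algebra Γ(𝒴.obj j₁, ⊤) Γ(𝒳.obj j₁, ⊤) := (Fm j₁).appTop.hom.toAlgebra
  obtain ⟨s, hs⟩ := hft.out
  choose kk θ hkk using key
  obtain ⟨k, hk⟩ : ∃ k : Over j₁, ∀ a ∈ s, Nonempty (k ⟶ Over.mk (θ a)) := by
    obtain ⟨k, hk⟩ := IsCofiltered.inf_objs_exists (s.image fun a ↦ (Over.mk (θ a) : Over j₁))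
    exact ⟨k, fun a ha ↦ hk (Finset.mem_image_of_mem _ ha)⟩
  refine ⟨k.left, ?_⟩
  have hXk : IsAffine (𝒳.obj k.left) := hXaff k.left k.hom
  have hYk : IsAffine (𝒴.obj k.left) := hYaff k.left
  have hYj : IsAffine (𝒴.obj j₁) := hYaff j₁
  have hpb : IsPullback (𝒳.map k.hom) (Fm k.left) (Fm j₁) (𝒴.map k.hom) :=
    isPullback_bcMap_map i₀ g₀ f₀ k.hom
  have hpo := isPushout_appTop_of_isPullback hpb
  change IsFinite (Fm k.left)
  rw [HasAffineProperty.iff_of_isAffine (P := @IsFinite)]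
  refine ⟨hXk, ?_⟩
  have hint' : (Fm k.left).appTop.hom.IsIntegral := by
    refine PushoutGen.isIntegral_of_isPushout hpo (s : Set Γ(𝒳.obj j₁, ⊤)) ?_ ?_
    · intro R hR hsR
      have h1 : Algebra.adjoin Γ(𝒴.obj j₁, ⊤) (s : Set Γ(𝒳.obj j₁, ⊤)) ≤
          (Subalgebra.mk R.toSubsemiring (fun b ↦ hR b) :
            Subalgebra Γ(𝒴.obj j₁, ⊤) Γ(𝒳.obj j₁, ⊤)) :=
        Algebra.adjoin_le hsR
      rw [hs] at h1
      rw [eq_top_iff]
      intro x _
      exact h1 (Algebra.mem_top)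
    · intro a ha
      obtain ⟨ψ⟩ := hk a ha
      have hw : ψ.left ≫ θ a = k.hom := Over.w ψ
      have := hkk a k.left ψ.left
      rw [hw] at this
      exact this
  have hft' : (Fm k.left).appTop.hom.FiniteType := by
    have h1 : LocallyOfFiniteType (Fm k.left) := by
      change LocallyOfFiniteType (bcMap (D.map k.left.hom) f₀ g₀)
      rw [show bcMap (D.map k.left.hom) f₀ g₀ = (bcIso (D.map k.left.hom) f₀ g₀).hom ≫
        pullback.snd f₀ (pullback.snd (D.map k.left.hom) g₀) from (bcIso_hom_snd _ _ _).symm]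
      infer_instance
    exact HasRingHomProperty.appTop (P := @LocallyOfFiniteType) _ h1
  exact hint'.to_finite hft'

include hc in
set_option backward.isDefEq.respectTransparency false in
theorem isFinite_descends [CompactSpace X₀] [QuasiSeparatedSpace X₀] [CompactSpace Y₀]
    [QuasiSeparatedSpace Y₀] [LocallyOfFiniteType f₀]
    (h : IsFinite (LimFrame.limMap D c i₀ f₀ g₀)) :
    ∃ j : Over i₀, IsFinite (stageMap D i₀ f₀ g₀ j) := by
  classical
  let 𝒱 := Y₀.affineCover.finiteSubcover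
  have h𝒱 : ∀ r, IsAffine (𝒱.X r) := fun r ↦ by
    dsimp [𝒱, Scheme.OpenCover.finiteSubcover]; infer_instance
  have key : ∀ r : 𝒱.I₀, ∃ j : Over i₀,
      IsFinite (stageMap D i₀ (pullback.snd f₀ (𝒱.f r)) (𝒱.f r ≫ g₀) j) := by
    intro r
    have hTc : CompactSpace ↥(pullback f₀ (𝒱.f r)) := inferInstance
    have hTq : QuasiSeparatedSpace ↥(pullback f₀ (𝒱.f r)) :=
      quasiSeparatedSpace_of_quasiSeparated (pullback.fst f₀ (𝒱.f r))
    let w := pullback.snd (c.π.app i₀) (𝒱.f r ≫ g₀)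
    let t : pullback (c.π.app i₀) (𝒱.f r ≫ g₀) ⟶ pullback (c.π.app i₀) g₀ :=
      pullback.lift (pullback.fst _ _) (w ≫ 𝒱.f r) (by
        rw [Category.assoc]; exact pullback.condition)
    have h1 : IsFinite (LimFrame.limMap D c i₀ (pullback.snd f₀ (𝒱.f r)) (𝒱.f r ≫ g₀)) := by
      refine (prop_snd_snd_iff (@IsFinite) f₀ (𝒱.f r) w).mpr ?_
      exact prop_snd_of_fac (@IsFinite) f₀ _ _ t (by simp [t]) h
    have h2 := (prop_bcMap_iff (c.π.app i₀) (pullback.snd f₀ (𝒱.f r)) (𝒱.f r ≫ g₀)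
      (@IsFinite)).mpr h1
    obtain ⟨j, hj⟩ := isFinite_bcMap_descends_of_isAffine hc i₀ (𝒱.f r ≫ g₀)
      (pullback.snd f₀ (𝒱.f r)) h2
    exact ⟨j, (prop_bcMap_iff (D.map j.hom) (pullback.snd f₀ (𝒱.f r)) (𝒱.f r ≫ g₀)
      (@IsFinite)).mp hj⟩
  choose l hl using key
  have : Finite 𝒱.I₀ := inferInstance
  cases nonempty_fintype 𝒱.I₀
  obtain ⟨k, fk⟩ := IsCofiltered.inf_objs_exists (Finset.univ.image l)
  refine ⟨k, ?_⟩
  let qk := pullback.snd (D.map k.hom) g₀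
  let 𝒰 := 𝒱.pullback₁ qk
  rw [IsZariskiLocalAtTarget.iff_of_openCover (P := @IsFinite) 𝒰]
  intro (r : 𝒱.I₀)
  change IsFinite (pullback.snd (pullback.snd f₀ qk) (pullback.fst qk (𝒱.f r)))
  refine (prop_snd_snd_iff (@IsFinite) f₀ qk (pullback.fst qk (𝒱.f r))).mpr ?_
  let u : k ⟶ l r := (fk (Finset.mem_image_of_mem l (Finset.mem_univ r))).some
  have h3 : IsFinite (stageMap D i₀ (pullback.snd f₀ (𝒱.f r)) (𝒱.f r ≫ g₀) k) :=
    stage_of_hom (@IsFinite) u (hl r)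
  have h4 := (prop_snd_snd_iff (@IsFinite) f₀ (𝒱.f r)
    (pullback.snd (D.map k.hom) (𝒱.f r ≫ g₀))).mp h3
  let s : pullback qk (𝒱.f r) ⟶ pullback (D.map k.hom) (𝒱.f r ≫ g₀) :=
    pullback.lift (pullback.fst _ _ ≫ pullback.fst (D.map k.hom) g₀) (pullback.snd _ _) (by
      rw [Category.assoc, pullback.condition, ← Category.assoc, pullback.condition,
        Category.assoc])
  exact prop_snd_of_fac (@IsFinite) f₀ _ _ s (by simp [s, pullback.condition]) h4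

end Groth.Agent.Lead.LimFinite
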