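import Groth.Agent.Lead.LimFrame
import Groth.Agent.Lead.LimCons
import Groth.Agent.Lead.LimHom
import Groth.Agent.Helper2.LfpComp
open CategoryTheory Limits AlgebraicGeometry Topology

namespace Groth.Agent.Lead.LimSurj
open Groth.Agent.Lead.LimPullback Groth.Agent.Lead.ProConsLib Groth.Agent.Lead.LimFrame
  Groth.Agent.Lead.LimHom
universe u
variable {I : Type u} [SmallCategory I] [IsCofiltered I] {D : I ⥤ Scheme.{u}} {c : Cone D}
  (hc : IsLimit c) [∀ {i j : I} (f : i ⟶ j), IsAffineHom (D.map f)] (i₀ : I)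
  {Y₀ : Scheme.{u}} (g₀ : Y₀ ⟶ D.obj i₀)

include hc in
set_option backward.isDefEq.respectTransparency false in
/-- A constructible subset of `Y₀` (qcqs) whose preimage in `Y = Y₀ ×_{S_{i₀}} S` is empty has
empty preimage in some `Y_j`. -/
theorem exists_preimage_eq_empty [CompactSpace Y₀] [QuasiSeparatedSpace Y₀]
    (E : Set Y₀) (hE : IsConstructible E)
    (h : (pullback.snd (c.π.app i₀) g₀).base ⁻¹' E = ∅) :
    ∃ j : Over i₀, (pullback.snd (D.map j.hom) g₀).base ⁻¹' E = ∅ := by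
  have hA : ∀ {j k : Over i₀} (f : j ⟶ k), IsAffineHom ((pbDiag D i₀ g₀).map f) :=
    fun f ↦ isAffineHom_pbDiag_map i₀ g₀ f
  let j₀ : Over i₀ := Over.mk (𝟙 i₀)
  have hC : CompactSpace ↥((pbDiag D i₀ g₀).obj j₀) := compactSpace_pbDiag D i₀ g₀ j₀
  have hQ : QuasiSeparatedSpace ↥((pbDiag D i₀ g₀).obj j₀) := quasiSeparatedSpace_pbDiag D i₀ g₀ j₀
  let E' : Set ↥((pbDiag D i₀ g₀).obj j₀) := (pullback.snd (D.map j₀.hom) g₀).base ⁻¹' E
  have hE' : IsConstructible E' := Scheme.Hom.isConstructible_preimage _ hE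
  obtain ⟨j, φ, hj⟩ := LimCons.exists_preimage_eq_empty (pbConeIsLimit i₀ g₀ hc) j₀ E'
    (pro_of_isConstructible hE') (by
      have e : (pbCone D c i₀ g₀).π.app j₀ ≫ pullback.snd (D.map j₀.hom) g₀
          = pullback.snd (c.π.app i₀) g₀ := by simp [pbCone]
      rw [Set.eq_empty_iff_forall_notMem]
      intro y hy
      have h1 : ((pbCone D c i₀ g₀).π.app j₀ ≫ pullback.snd (D.map j₀.hom) g₀).base y ∈ E := by
        rw [Scheme.Hom.comp_apply]; exact hy
      rw [e] at h1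
      have h2 : y ∈ (pullback.snd (c.π.app i₀) g₀).base ⁻¹' E := h1
      rw [h] at h2
      exact h2)
  refine ⟨j, ?_⟩
  have e2 : (pbDiag D i₀ g₀).map φ ≫ pullback.snd (D.map j₀.hom) g₀
      = pullback.snd (D.map j.hom) g₀ := by simp [pbDiag]
  rw [Set.eq_empty_iff_forall_notMem]
  intro y hy
  have h1 : ((pbDiag D i₀ g₀).map φ).base y ∈ E' := by
    have e3 : (pullback.snd (D.map j₀.hom) g₀).base (((pbDiag D i₀ g₀).map φ).base y)
        = (pullback.snd (D.map j.hom) g₀).base y := by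
      rw [← e2]; rfl
    change (pullback.snd (D.map j₀.hom) g₀).base (((pbDiag D i₀ g₀).map φ).base y) ∈ E
    rw [e3]
    exact hy
  have h2 : y ∈ ((pbDiag D i₀ g₀).map φ).base ⁻¹' E' := h1
  rw [hj] at h2
  exact h2

include hc in
set_option backward.isDefEq.respectTransparency false in
theorem surjective_descends [CompactSpace (D.obj i₀)] [QuasiSeparatedSpace (D.obj i₀)]
    {X₀ : Scheme.{u}} (f₀ : X₀ ⟶ Y₀)
    [LocallyOfFinitePresentation g₀] [QuasiCompact g₀] [QuasiSeparated g₀]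
    [LocallyOfFinitePresentation (f₀ ≫ g₀)] [QuasiCompact (f₀ ≫ g₀)]
    (h : Surjective (limMap D c i₀ f₀ g₀)) :
    ∃ j : Over i₀, Surjective (stageMap D i₀ f₀ g₀ j) := by
  have hY₀c : CompactSpace Y₀ := QuasiCompact.compactSpace_of_compactSpace g₀
  have hY₀q : QuasiSeparatedSpace Y₀ := quasiSeparatedSpace_of_quasiSeparated g₀
  have hf₀ : LocallyOfFinitePresentation f₀ :=
    Groth.Agent.Helper2.LfpComp.locallyOfFinitePresentation_of_comp f₀ g₀ inferInstance
      inferInstance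
  have hf₀c : QuasiCompact f₀ := QuasiCompact.of_comp f₀ g₀
  have hE : IsConstructible (Set.range f₀.base)ᶜ := by
    have := Scheme.Hom.isConstructible_image f₀ (s := Set.univ) IsConstructible.univ
    rw [Set.image_univ] at this
    exact this.compl
  obtain ⟨j, hj⟩ := exists_preimage_eq_empty hc i₀ g₀ _ hE (by
    rw [Set.eq_empty_iff_forall_notMem]
    intro y hy
    apply hy
    obtain ⟨x, rfl⟩ := h.surj y
    refine ⟨(pullback.fst f₀ (pullback.snd (c.π.app i₀) g₀)).base x, ?_⟩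
    rw [← Scheme.Hom.comp_apply, ← Scheme.Hom.comp_apply, pullback.condition])
  refine ⟨j, ⟨fun y ↦ ?_⟩⟩
  have hy : (pullback.snd (D.map j.hom) g₀).base y ∈ Set.range f₀.base := by
    by_contra hcon
    have : y ∈ (pullback.snd (D.map j.hom) g₀).base ⁻¹' (Set.range f₀.base)ᶜ := hcon
    rw [hj] at this
    exact this
  obtain ⟨x, hx⟩ := hy
  obtain ⟨z, -, hz⟩ := Scheme.Pullback.exists_preimage_pullback x y hx
  exact ⟨z, hz⟩

end Groth.Agent.Lead.LimSurj
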