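import Groth.Agent.S0591
import Groth.Agent.Lead.PropDesc
import Groth.Agent.Lead.LimCIStage
import Groth.Agent.Lead.LimPullback
import Mathlib

set_option autoImplicit false
universe u
open CategoryTheory AlgebraicGeometry Limits Opposite

namespace Groth.Agent.Lead.PropStage

open Groth.Agent.Lead.LimPullback Groth.Agent.Lead.PropDesc

/-- descent of a proper finitely presented morphism to a stage. -/
theorem descend_proper_fp
    (hChow : ∀ {X S : Scheme.{u}} (f : X ⟶ S) [CompactSpace S] [QuasiSeparatedSpace S]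
      [IsSeparated f] [LocallyOfFiniteType f] [QuasiCompact f],
      ∃ (n : ℕ) (X' : Scheme.{u}) (π : X' ⟶ X) (j : X' ⟶ CohB1.ProjSpaceOver n S),
        IsImmersion j ∧ j ≫ CohB1.ProjSpaceOver.toBase n S = π ≫ f ∧ IsProper π ∧ Surjective π)
    {I : Type u} [SmallCategory I] [IsCofiltered I]
    (D : I ⥤ Scheme.{u}) (c : Cone D) (hc : IsLimit c)
    [∀ (i j : I) (f : i ⟶ j), IsAffineHom (D.map f)] [∀ i, CompactSpace (D.obj i)]
    [∀ i, QuasiSeparatedSpace (D.obj i)] {Y' : Scheme.{u}} (h' : Y' ⟶ c.pt) [IsProper h']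
    [LocallyOfFinitePresentation h'] :
    ∃ (i' : I) (W : Scheme.{u}) (w : W ⟶ D.obj i') (gW : Y' ⟶ W), IsProper w ∧
      LocallyOfFinitePresentation w ∧ IsPullback gW h' w (c.π.app i') := by
  obtain ⟨i, Xi, fi, g, hfi1, hfi2, hfi3, hsq⟩ := Groth.Agent.S0591.result D c hc Y' h'
  haveI : CompactSpace Xi := QuasiCompact.compactSpace_of_compactSpace fi
  haveI : QuasiSeparatedSpace Xi := quasiSeparatedSpace_of_quasiSeparated fi
  have hY : IsPullback (c.π.app i) (𝟙 c.pt) (𝟙 (D.obj i)) (c.π.app i) := IsPullback.id_vert _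
  haveI : LocallyOfFiniteType fi := inferInstance
  obtain ⟨i', φ, Xi', Yi', fi', gi, pY, pX, h1, h2, hprop⟩ :=
    isProper_descends hChow D c hc i fi (𝟙 (D.obj i)) h' (𝟙 c.pt) (c.π.app i) g hY hsq
  haveI : IsIso gi := h1.isIso_snd_of_isIso
  have hp : IsPullback pX (fi' ≫ gi) (fi ≫ 𝟙 _) (D.map φ) := h2.paste_vert h1
  rw [Category.comp_id] at hp
  have hw : g ≫ fi = (h' ≫ c.π.app i') ≫ D.map φ := by
    rw [hsq.w]; simp
  let gW : Y' ⟶ Xi' := hp.lift g (h' ≫ c.π.app i') hw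
  have hgW1 : gW ≫ pX = g := hp.lift_fst _ _ _
  have hgW2 : gW ≫ fi' ≫ gi = h' ≫ c.π.app i' := hp.lift_snd _ _ _
  have s : IsPullback (gW ≫ pX) h' fi (c.π.app i' ≫ D.map φ) := by
    rw [hgW1, c.w]; exact hsq
  have hsq' : IsPullback gW h' (fi' ≫ gi) (c.π.app i') := IsPullback.of_right s hgW2 hp
  refine ⟨i', Xi', fi' ≫ gi, gW, inferInstance, ?_, hsq'⟩
  exact MorphismProperty.of_isPullback (P := @LocallyOfFinitePresentation) hp hfi1


set_option backward.isDefEq.respectTransparency false in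
theorem eventually_isProper_to_stage
    (hChow : ∀ {X S : Scheme.{u}} (f : X ⟶ S) [CompactSpace S] [QuasiSeparatedSpace S]
      [IsSeparated f] [LocallyOfFiniteType f] [QuasiCompact f],
      ∃ (n : ℕ) (X' : Scheme.{u}) (π : X' ⟶ X) (j : X' ⟶ CohB1.ProjSpaceOver n S),
        IsImmersion j ∧ j ≫ CohB1.ProjSpaceOver.toBase n S = π ≫ f ∧ IsProper π ∧ Surjective π)
    (hEmb : ∀ {Y X : Scheme.{u}} (h : Y ⟶ X) [IsProper h] [CompactSpace X] [QuasiSeparatedSpace X],
      ∃ (Y' : Scheme.{u}) (h' : Y' ⟶ X) (j : Y ⟶ Y'), IsProper h' ∧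
        LocallyOfFinitePresentation h' ∧ IsClosedImmersion j ∧ j ≫ h' = h)
    {I : Type u} [SmallCategory I] [IsCofiltered I] (S : Scheme.{u})
    (D : I ⥤ Scheme.{u}) (t : D ⟶ (Functor.const I).obj S) (c : Cone D) (hc : IsLimit c)
    [∀ (i j : I) (a : i ⟶ j), IsAffineHom (D.map a)]
    [∀ i, CompactSpace (D.obj i)] [∀ i, QuasiSeparatedSpace (D.obj i)] (i₀ : I)
    {Y : Scheme.{u}} (h : Y ⟶ c.pt) [IsProper h]
    [LocallyOfFiniteType (h ≫ c.π.app i₀ ≫ t.app i₀)] :
    ∃ i₁ : I, ∀ (i : I) (_ : i ⟶ i₁), IsProper (h ≫ c.π.app i) := by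
  have hA : ∀ {i j : I} (f : i ⟶ j), IsAffineHom (D.map f) := fun f ↦ inferInstance
  haveI : CompactSpace c.pt := Scheme.compactSpace_of_isLimit D c hc
  haveI : QuasiSeparatedSpace c.pt := by
    haveI : IsAffineHom (c.π.app i₀) := isAffineHom_π_app D c hc i₀
    exact quasiSeparatedSpace_of_quasiSeparated (c.π.app i₀)
  obtain ⟨Y', h', j, hh', hfp, hj, hjh⟩ := hEmb h
  obtain ⟨i', W, w, gW, hw1, hw2, hsq⟩ := descend_proper_fp hChow D c hc h'
  -- the pulled back system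
  let E : Over i' ⥤ Scheme.{u} := pbDiag D i' w
  let cE : Cone E := pbCone D c i' w
  have hcE : IsLimit cE := pbConeIsLimit i' w hc
  have hEA : ∀ {k k' : Over i'} (a : k ⟶ k'), IsAffineHom (E.map a) := fun a ↦
    isAffineHom_pbDiag_map i' w a
  let ι := hsq.flip.isoPullback
  have hι1 : ι.hom ≫ pullback.fst (c.π.app i') w = h' := hsq.flip.isoPullback_hom_fst
  let hY : Y ⟶ cE.pt := j ≫ ι.hom
  haveI : IsClosedImmersion hY := inferInstance
  let m : I := IsCofiltered.min i' i₀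
  let k₀ : Over i' := Over.mk (IsCofiltered.minToLeft i' i₀)
  haveI : CompactSpace (E.obj k₀) :=
    QuasiCompact.compactSpace_of_compactSpace (pullback.fst (D.map k₀.hom) w)
  have e1 : ∀ k : Over i', cE.π.app k ≫ pullback.fst (D.map k.hom) w =
      pullback.fst (c.π.app i') w ≫ c.π.app k.left := fun k ↦ by
    simp [cE, pbCone]
  have e2 : ∀ k : Over i', hY ≫ cE.π.app k ≫ pullback.fst (D.map k.hom) w =
      h ≫ c.π.app k.left := fun k ↦ by
    rw [e1, ← hjh]
    simp only [hY, Category.assoc]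
    rw [← Category.assoc ι.hom, hι1]
  haveI : LocallyOfFiniteType (hY ≫ cE.π.app k₀) := by
    have e3 : ((hY ≫ cE.π.app k₀) ≫ pullback.fst (D.map k₀.hom) w) ≫
        (D.map (IsCofiltered.minToRight i' i₀) ≫ (t.app i₀ : D.obj i₀ ⟶ S)) =
        h ≫ c.π.app i₀ ≫ t.app i₀ := by
      have e3' : (hY ≫ cE.π.app k₀) ≫ pullback.fst (D.map k₀.hom) w = h ≫ c.π.app k₀.left := by
        rw [Category.assoc]; exact e2 k₀
      rw [e3', Category.assoc, ← Category.assoc (c.π.app k₀.left), c.w]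
    haveI : LocallyOfFiniteType (((hY ≫ cE.π.app k₀) ≫ pullback.fst (D.map k₀.hom) w) ≫
        (D.map (IsCofiltered.minToRight i' i₀) ≫ (t.app i₀ : D.obj i₀ ⟶ S))) := by
      rw [e3]; infer_instance
    haveI := locallyOfFiniteType_of_comp ((hY ≫ cE.π.app k₀) ≫ pullback.fst (D.map k₀.hom) w)
      (D.map (IsCofiltered.minToRight i' i₀) ≫ (t.app i₀ : D.obj i₀ ⟶ S))
    exact locallyOfFiniteType_of_comp (hY ≫ cE.π.app k₀) (pullback.fst (D.map k₀.hom) w)
  obtain ⟨k, hk⟩ := @Groth.Agent.Lead.LimCIStage.exists_isClosedImmersion_stage (Over i') _ _ E cE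
    hcE hEA k₀ Y hY inferInstance inferInstance inferInstance
  have hprop : IsProper (h ≫ c.π.app k.left.left) := by
    rw [← e2 k.left, ← Category.assoc]
    infer_instance
  refine ⟨k.left.left, fun i a ↦ ?_⟩
  haveI : IsProper ((h ≫ c.π.app i) ≫ D.map a) := by
    rw [Category.assoc, c.w]; exact hprop
  exact IsProper.of_comp _ (D.map a)

end Groth.Agent.Lead.PropStage
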