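import Groth.Agent.S0594
import Groth.Agent.S9199
import Groth.Agent.Lead.LimCIStage
import Groth.Agent.Lead.LimPullback
import Groth.Agent.Lead.ChowQ
import Groth.Agent.Helper6.HProj
import Mathlib

set_option autoImplicit false
universe u
open CategoryTheory AlgebraicGeometry Limits Opposite

namespace Groth.Agent.Lead.PropLim

open Groth.Agent.Lead.LimPullback

/-- projections from a limit of closed immersions are closed immersions (if locally of finite
type over a stage). -/
theorem isClosedImmersion_π {J : Type u} [SmallCategory J] [IsCofiltered J]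
    (D : J ⥤ Scheme.{u}) (c : Cone D) (hc : IsLimit c)
    [∀ (i j : J) (f : i ⟶ j), IsClosedImmersion (D.map f)] [∀ j, CompactSpace (D.obj j)]
    (j₀ : J) [LocallyOfFiniteType (c.π.app j₀)] : IsClosedImmersion (c.π.app j₀) := by
  have hA : ∀ {i j : J} (f : i ⟶ j), IsAffineHom (D.map f) := fun f ↦ inferInstance
  haveI : LocallyOfFiniteType (𝟙 c.pt ≫ c.π.app j₀) := by rw [Category.id_comp]; infer_instance
  obtain ⟨j, hj⟩ := @Groth.Agent.Lead.LimCIStage.exists_isClosedImmersion_stage J _ _ D c hc hA j₀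
    c.pt (𝟙 c.pt) inferInstance inferInstance inferInstance
  rw [Category.id_comp] at hj
  rw [← c.w j.hom]
  infer_instance


set_option backward.isDefEq.respectTransparency false in
/-- a limit of separated finite type `S`-schemes along closed immersions which is proper over `S`
has a proper stage. -/
theorem exists_isProper_stage
    (hChow : ∀ {X S : Scheme.{u}} (f : X ⟶ S) [CompactSpace S] [QuasiSeparatedSpace S]
      [IsSeparated f] [LocallyOfFiniteType f] [QuasiCompact f],
      ∃ (n : ℕ) (X' : Scheme.{u}) (π : X' ⟶ X) (j : X' ⟶ CohB1.ProjSpaceOver n S),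
        IsImmersion j ∧ j ≫ CohB1.ProjSpaceOver.toBase n S = π ≫ f ∧ IsProper π ∧ Surjective π)
    {J : Type u} [SmallCategory J] [IsCofiltered J]
    (S : Scheme.{u}) [CompactSpace S] [QuasiSeparatedSpace S]
    (D : J ⥤ Scheme.{u}) (t : D ⟶ (Functor.const J).obj S) (c : Cone D) (hc : IsLimit c)
    [∀ (i j : J) (f : i ⟶ j), IsClosedImmersion (D.map f)]
    [∀ j, CompactSpace (D.obj j)] [∀ j, QuasiSeparatedSpace (D.obj j)]
    [∀ j, LocallyOfFiniteType (t.app j)] [∀ j, IsSeparated (t.app j)] (j₀ : J)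
    [IsProper (c.π.app j₀ ≫ t.app j₀)] :
    ∃ (j : J) (_ : j ⟶ j₀), IsProper (t.app j) := by
  let tt : ∀ j, D.obj j ⟶ S := fun j ↦ t.app j
  haveI : ∀ j, LocallyOfFiniteType (tt j) := fun j ↦
    inferInstanceAs (LocallyOfFiniteType (t.app j))
  haveI : ∀ j, IsSeparated (tt j) := fun j ↦ inferInstanceAs (IsSeparated (t.app j))
  haveI : IsProper (c.π.app j₀ ≫ tt j₀) := inferInstanceAs (IsProper (c.π.app j₀ ≫ t.app j₀))
  haveI : QuasiCompact (tt j₀) := inferInstance
  obtain ⟨n, Z, π₀, jP, hjP, hcomm, hπ₀, hπ₀s⟩ := hChow (tt j₀)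
  haveI hPB : IsProper (CohB1.ProjSpaceOver.toBase n S) :=
    Groth.Agent.Helper6.HProj.isProper_toBase n S
  haveI : CompactSpace (CohB1.ProjSpaceOver n S) :=
    QuasiCompact.compactSpace_of_compactSpace (CohB1.ProjSpaceOver.toBase n S)
  haveI : QuasiSeparatedSpace (CohB1.ProjSpaceOver n S) :=
    quasiSeparatedSpace_of_quasiSeparated (CohB1.ProjSpaceOver.toBase n S)
  haveI : CompactSpace Z := QuasiCompact.compactSpace_of_compactSpace π₀
  haveI : QuasiSeparatedSpace Z := quasiSeparatedSpace_of_quasiSeparated π₀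
  -- the projection from the limit is a closed immersion
  haveI : LocallyOfFiniteType (c.π.app j₀) :=
    locallyOfFiniteType_of_comp (c.π.app j₀) (tt j₀)
  haveI hcl₀ : IsClosedImmersion (c.π.app j₀) := isClosedImmersion_π D c hc j₀
  -- the pulled back system
  let E : Over j₀ ⥤ Scheme.{u} := pbDiag D j₀ π₀
  let cE : Cone E := pbCone D c j₀ π₀
  have hcE : IsLimit cE := pbConeIsLimit j₀ π₀ hc
  let tE : E ⟶ (Functor.const (Over j₀)).obj (CohB1.ProjSpaceOver n S) :=
    { app := fun k ↦ pullback.snd (D.map k.hom) π₀ ≫ jP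
      naturality := fun k k' a ↦ by
        simp [E, pbDiag] }
  have hsnd : ∀ k : Over j₀, IsClosedImmersion (pullback.snd (D.map k.hom) π₀) := fun k ↦
    MorphismProperty.pullback_snd _ _ inferInstance
  have hE1 : ∀ (k k' : Over j₀) (a : k ⟶ k'), IsClosedImmersion (E.map a) := by
    intro k k' a
    haveI := hsnd k
    haveI := hsnd k'
    have e : E.map a ≫ pullback.snd (D.map k'.hom) π₀ = pullback.snd (D.map k.hom) π₀ := by
      simp [E, pbDiag]
    haveI : IsClosedImmersion (E.map a ≫ pullback.snd (D.map k'.hom) π₀) := by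
      rw [e]; infer_instance
    exact IsClosedImmersion.of_comp _ (pullback.snd (D.map k'.hom) π₀)
  have hE2 : ∀ k : Over j₀, CompactSpace (E.obj k) := fun k ↦ by
    haveI := hsnd k
    exact QuasiCompact.compactSpace_of_compactSpace (pullback.snd (D.map k.hom) π₀)
  have hE3 : ∀ k : Over j₀, QuasiSeparatedSpace (E.obj k) := fun k ↦ by
    haveI := hsnd k
    exact quasiSeparatedSpace_of_quasiSeparated (pullback.snd (D.map k.hom) π₀)
  have hE4 : ∀ k : Over j₀, LocallyOfFiniteType (tE.app k) := fun k ↦ by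
    haveI := hsnd k
    change LocallyOfFiniteType (pullback.snd (D.map k.hom) π₀ ≫ jP)
    infer_instance
  -- the limit is a closed subscheme of projective space
  let k₀ : Over j₀ := Over.mk (𝟙 j₀)
  have e0 : cE.π.app k₀ ≫ tE.app k₀ = pullback.snd (c.π.app j₀) π₀ ≫ jP := by
    change (pbCone D c j₀ π₀).π.app k₀ ≫ pullback.snd (D.map k₀.hom) π₀ ≫ jP = _
    simp [pbCone]
  haveI : IsClosedImmersion (pullback.snd (c.π.app j₀) π₀) :=
    MorphismProperty.pullback_snd _ _ inferInstance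
  have e1 : (pullback.snd (c.π.app j₀) π₀ ≫ jP) ≫ CohB1.ProjSpaceOver.toBase n S =
      pullback.fst (c.π.app j₀) π₀ ≫ c.π.app j₀ ≫ tt j₀ := by
    rw [Category.assoc, hcomm, ← Category.assoc, ← pullback.condition, Category.assoc]
  haveI : IsProper ((pullback.snd (c.π.app j₀) π₀ ≫ jP) ≫ CohB1.ProjSpaceOver.toBase n S) := by
    rw [e1]; infer_instance
  haveI : IsProper (pullback.snd (c.π.app j₀) π₀ ≫ jP) :=
    IsProper.of_comp _ (CohB1.ProjSpaceOver.toBase n S)
  haveI : IsClosedImmersion (cE.π.app k₀ ≫ tE.app k₀) := by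
    rw [e0]
    exact IsClosedImmersion.of_isPreimmersion _
      (pullback.snd (c.π.app j₀) π₀ ≫ jP).isClosedMap.isClosed_range
  obtain ⟨k, hk⟩ := @Groth.Agent.S0594.result (Over j₀) _ _ (CohB1.ProjSpaceOver n S) _ _ E tE cE hcE
    hE1 hE2 hE3 hE4 k₀ inferInstance
  -- properness of the stage `k`
  have hk' : IsClosedImmersion (pullback.snd (D.map k.hom) π₀ ≫ jP) := hk
  haveI : Surjective (pullback.fst (D.map k.hom) π₀) :=
    MorphismProperty.pullback_fst _ _ hπ₀s
  have hnat : D.map k.hom ≫ tt j₀ = tt k.left :=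
    (t.naturality k.hom).trans (Category.comp_id _)
  have e2 : pullback.fst (D.map k.hom) π₀ ≫ tt k.left =
      (pullback.snd (D.map k.hom) π₀ ≫ jP) ≫ CohB1.ProjSpaceOver.toBase n S := by
    rw [Category.assoc, hcomm, ← hnat, ← Category.assoc, pullback.condition, Category.assoc]
  haveI : UniversallyClosed (pullback.fst (D.map k.hom) π₀ ≫ tt k.left) := by
    rw [e2]; infer_instance
  haveI : UniversallyClosed (tt k.left) :=
    UniversallyClosed.of_comp_surjective (pullback.fst (D.map k.hom) π₀) _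
  have hfin : IsProper (tt k.left) := {}
  exact ⟨k.left, k.hom, hfin⟩


set_option backward.isDefEq.respectTransparency false in
/-- a proper morphism which is a limit of finitely presented schemes along closed immersions
is a limit of proper finitely presented ones. -/
theorem proper_isLimit_of_system
    (hChow : ∀ {X S : Scheme.{u}} (f : X ⟶ S) [CompactSpace S] [QuasiSeparatedSpace S]
      [IsSeparated f] [LocallyOfFiniteType f] [QuasiCompact f],
      ∃ (n : ℕ) (X' : Scheme.{u}) (π : X' ⟶ X) (j : X' ⟶ CohB1.ProjSpaceOver n S),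
        IsImmersion j ∧ j ≫ CohB1.ProjSpaceOver.toBase n S = π ≫ f ∧ IsProper π ∧ Surjective π)
    {X S : Scheme.{u}} (f : X ⟶ S) [IsProper f] [CompactSpace S] [QuasiSeparatedSpace S]
    (I : Type u) [Preorder I] [IsDirected I (fun a b => a ≤ b)] [Nonempty I]
    (D : Iᵒᵖ ⥤ Over S) (c : Cone D) (hc : IsLimit c)
    (h1 : ∀ i, LocallyOfFinitePresentation (D.obj i).hom ∧ QuasiCompact (D.obj i).hom ∧
      QuasiSeparated (D.obj i).hom ∧ CompactSpace (D.obj i).left ∧
      QuasiSeparatedSpace (D.obj i).left)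
    (h2 : ∀ (i j : Iᵒᵖ) (a : i ⟶ j), IsClosedImmersion (D.map a).left)
    (e : c.pt ≅ Over.mk f) :
    ∃ (I' : Type u) (_ : SmallCategory I') (_ : IsCofiltered I') (D' : I' ⥤ Over S)
      (c' : Cone D') (_ : IsLimit c') (_ : c'.pt ≅ Over.mk f),
      (∀ (i j : I') (a : i ⟶ j), IsClosedImmersion (D'.map a).left) ∧
      (∀ i, IsClosedImmersion (c'.π.app i).left ∧ IsProper (D'.obj i).hom ∧
        LocallyOfFinitePresentation (D'.obj i).hom) := by
  haveI : IsDirected I (· ≤ ·) := ‹IsDirected I (fun a b => a ≤ b)›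
  haveI : IsCofiltered Iᵒᵖ := inferInstance
  let D₁ : Iᵒᵖ ⥤ Scheme.{u} := D ⋙ Over.forget S
  let t₁ : D₁ ⟶ (Functor.const Iᵒᵖ).obj S :=
    { app := fun i ↦ (D.obj i).hom
      naturality := fun i j a ↦ by simp [D₁] }
  let c₁ : Cone D₁ := (Over.forget S).mapCone c
  have hc₁ : IsLimit c₁ := isLimitOfPreserves _ hc
  haveI hci : ∀ (i j : Iᵒᵖ) (a : i ⟶ j), IsClosedImmersion (D₁.map a) := fun i j a ↦ h2 i j a
  haveI : ∀ (i j : Iᵒᵖ) (a : i ⟶ j), IsAffineHom (D₁.map a) := fun i j a ↦ inferInstance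
  haveI hcp : ∀ i, CompactSpace (D₁.obj i) := fun i ↦ (h1 i).2.2.2.1
  haveI hqs : ∀ i, QuasiSeparatedSpace (D₁.obj i) := fun i ↦ (h1 i).2.2.2.2
  let tt : ∀ i, D₁.obj i ⟶ S := fun i ↦ (D.obj i).hom
  haveI hlft : ∀ i, LocallyOfFiniteType (tt i) := fun i ↦ by
    haveI := (h1 i).1
    infer_instance
  -- properness of the limit
  have hpt : c.pt.hom = e.hom.left ≫ f := (Over.w e.hom).symm
  haveI : IsIso e.hom.left := inferInstanceAs (IsIso ((Over.forget S).map e.hom))
  haveI hprop : IsProper c.pt.hom := by rw [hpt]; infer_instance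
  have hπ : ∀ i, c₁.π.app i ≫ tt i = c.pt.hom := fun i ↦ Over.w (c.π.app i)
  let i₀ : Iᵒᵖ := (IsCofiltered.nonempty (C := Iᵒᵖ)).some
  haveI : IsSeparated (c₁.π.app i₀ ≫ t₁.app i₀) := by
    change IsSeparated (c₁.π.app i₀ ≫ tt i₀)
    rw [hπ]; infer_instance
  obtain ⟨i₁, hi₁⟩ := Groth.Agent.S9199.result S D₁ t₁ c₁ hc₁ i₀
  -- restrict to `Over i₁`
  let D₂ : Over i₁ ⥤ Scheme.{u} := Over.forget i₁ ⋙ D₁
  let t₂ : D₂ ⟶ (Functor.const (Over i₁)).obj S :=
    { app := fun k ↦ tt k.left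
      naturality := fun k k' a ↦ by
        simp [D₂, D₁, tt] }
  let c₂ : Cone D₂ := c₁.whisker (Over.forget i₁)
  have hc₂ : IsLimit c₂ := (Functor.Initial.isLimitWhiskerEquiv (Over.forget i₁) c₁).symm hc₁
  haveI : ∀ (k k' : Over i₁) (a : k ⟶ k'), IsClosedImmersion (D₂.map a) := fun k k' a ↦
    hci _ _ a.left
  haveI : ∀ k : Over i₁, CompactSpace (D₂.obj k) := fun k ↦ hcp k.left
  haveI : ∀ k : Over i₁, QuasiSeparatedSpace (D₂.obj k) := fun k ↦ hqs k.left
  haveI : ∀ k : Over i₁, LocallyOfFiniteType (t₂.app k) := fun k ↦ hlft k.left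
  haveI : ∀ k : Over i₁, IsSeparated (t₂.app k) := fun k ↦ hi₁ k.left k.hom
  haveI : IsProper (c₂.π.app (Over.mk (𝟙 i₁)) ≫ t₂.app (Over.mk (𝟙 i₁))) := by
    change IsProper (c₁.π.app i₁ ≫ tt i₁)
    rw [hπ]; infer_instance
  obtain ⟨k, -, hk⟩ := exists_isProper_stage hChow S D₂ t₂ c₂ hc₂ (Over.mk (𝟙 i₁))
  have hk' : IsProper (D.obj k.left).hom := hk
  -- projections are closed immersions
  have hclπ : ∀ i, IsClosedImmersion (c₁.π.app i) := fun i ↦ by
    haveI : LocallyOfFiniteType (c₁.π.app i ≫ tt i) := by rw [hπ]; infer_instance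
    haveI : LocallyOfFiniteType (c₁.π.app i) := locallyOfFiniteType_of_comp (c₁.π.app i) (tt i)
    exact isClosedImmersion_π D₁ c₁ hc₁ i
  refine ⟨Over k.left, inferInstance, inferInstance, Over.forget k.left ⋙ D,
    c.whisker (Over.forget k.left),
    (Functor.Initial.isLimitWhiskerEquiv (Over.forget k.left) c).symm hc, e, ?_, ?_⟩
  · intro i j a
    exact h2 _ _ a.left
  · intro i
    refine ⟨hclπ i.left, ?_, (h1 i.left).1⟩
    have e3 : (D.obj i.left).hom = (D.map i.hom).left ≫ (D.obj k.left).hom :=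
      (Over.w (D.map i.hom)).symm
    haveI := h2 _ _ i.hom
    change IsProper (D.obj i.left).hom
    rw [e3]
    infer_instance

end Groth.Agent.Lead.PropLim
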