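import Mathlib
import Groth.Agent.Lead.SchDense
import Groth.Agent.Lead.Hartogs2
import Groth.Agent.Helper4.StalkDict

set_option autoImplicit false
universe u
open CategoryTheory CategoryTheory.Limits AlgebraicGeometry TopologicalSpace Opposite

namespace Groth.Agent.Lead.RatDom

open Groth.Agent.Helper4 Groth.Agent.Helper4.StalkDict

section Algebra

/-- a prime minimal over `I` in a noetherian ring has a basic open neighbourhood in which
`V(I)` is contained in its closure -/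
theorem exists_notMem_of_minimal {R : Type u} [CommRing R] [IsNoetherianRing R] (I : Ideal R)
    (p : Ideal R) (hp : p ∈ I.minimalPrimes) :
    ∃ g : R, g ∉ p ∧ ∀ q : Ideal R, q.IsPrime → I ≤ q → g ∉ q → p ≤ q := by
  classical
  have hfin := Ideal.finite_minimalPrimes_of_isNoetherianRing R I
  haveI : p.IsPrime := hp.1.1
  have hex : ∀ q ∈ I.minimalPrimes, q ≠ p → ∃ g ∈ q, g ∉ p := by
    intro q hq hne
    by_contra hcon
    push_neg at hcon
    have hle : q ≤ p := hcon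
    exact hne (le_antisymm hle (hp.2 hq.1 hle))
  let S := hfin.toFinset.erase p
  have hS : ∀ q ∈ S, q ∈ I.minimalPrimes ∧ q ≠ p := by
    intro q hq
    rw [Finset.mem_erase, Set.Finite.mem_toFinset] at hq
    exact ⟨hq.2, hq.1⟩
  choose! γ hγ1 hγ2 using fun q (hq : q ∈ S) => hex q (hS q hq).1 (hS q hq).2
  refine ⟨∏ q ∈ S, γ q, ?_, ?_⟩
  · intro hmem
    rw [Ideal.IsPrime.prod_mem_iff] at hmem
    obtain ⟨q, hq, hq'⟩ := hmem
    exact hγ2 q hq hq'
  · intro q hq hIq hg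
    obtain ⟨q', hq', hle⟩ := Ideal.exists_minimalPrimes_le hIq
    by_cases hqp : q' = p
    · rw [← hqp]; exact hle
    · exfalso
      apply hg
      have hq'S : q' ∈ S := by
        rw [Finset.mem_erase, Set.Finite.mem_toFinset]
        exact ⟨hqp, hq'⟩
      exact Ideal.prod_mem q hq'S (hle (hγ1 q' hq'S))

end Algebra

section Dict

variable {X : Scheme.{u}} {W : X.Opens} (hW : IsAffineOpen W)

include hW in
theorem specializes_of_primeIdealOf_le (x y : X) (hx : x ∈ W) (hy : y ∈ W)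
    (hle : (hW.primeIdealOf ⟨x, hx⟩).asIdeal ≤ (hW.primeIdealOf ⟨y, hy⟩).asIdeal) : x ⤳ y := by
  rw [specializes_iff_forall_open]
  intro O hO hyO
  obtain ⟨f, hfO, hyf⟩ := hW.exists_basicOpen_le (V := ⟨O, hO⟩) ⟨y, hyO⟩ hy
  apply hfO
  rw [mem_basicOpen_iff_notMem_primeIdealOf hW x hx]
  intro hfp
  have hyf' : y ∈ X.basicOpen f := hyf
  rw [mem_basicOpen_iff_notMem_primeIdealOf hW y hy] at hyf'
  exact hyf' (hle hfp)

include hW in
theorem primeIdealOf_le_of_specializes (x y : X) (hx : x ∈ W) (hy : y ∈ W) (h : x ⤳ y) :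
    (hW.primeIdealOf ⟨x, hx⟩).asIdeal ≤ (hW.primeIdealOf ⟨y, hy⟩).asIdeal := by
  intro f hf
  by_contra hfy
  have hyf : y ∈ X.basicOpen f := (mem_basicOpen_iff_notMem_primeIdealOf hW y hy f).mpr hfy
  have hxf : x ∈ X.basicOpen f := h.mem_open (X.basicOpen f).2 hyf
  exact (mem_basicOpen_iff_notMem_primeIdealOf hW x hx f).mp hxf hf

include hW in
theorem exists_point_of_prime (q : PrimeSpectrum Γ(X, W)) :
    ∃ (x : X) (hx : x ∈ W), hW.primeIdealOf ⟨x, hx⟩ = q := by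
  refine ⟨(hW.isoSpec.inv q).1, (hW.isoSpec.inv q).2, ?_⟩
  change hW.isoSpec.hom (hW.isoSpec.inv q) = q
  rw [← Scheme.Hom.comp_apply, Iso.inv_hom_id]
  rfl

include hW in
theorem ringKrullDim_stalk_eq_height (x : X) (hx : x ∈ W) :
    ringKrullDim (X.presheaf.stalk x) = (hW.primeIdealOf ⟨x, hx⟩).asIdeal.height := by
  letI := X.presheaf.algebra_section_stalk ⟨x, hx⟩
  haveI := hW.isLocalization_stalk ⟨x, hx⟩
  exact IsLocalization.AtPrime.ringKrullDim_eq_height (hW.primeIdealOf ⟨x, hx⟩).asIdeal _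

end Dict

section Nhd

variable {X : Scheme.{u}} [IsLocallyNoetherian X]

omit [IsLocallyNoetherian X] in
theorem minimal_of_max {W : X.Opens} (hW : IsAffineOpen W) (Z : Set X) (hZ : IsClosed Z) (ξ : X)
    (hξW : ξ ∈ W) (hmax : ∀ η : X, η ∈ Z → η ⤳ ξ → η = ξ) (I : Ideal Γ(X, W))
    (hI1 : I ≤ (hW.primeIdealOf ⟨ξ, hξW⟩).asIdeal)
    (hI2 : ∀ f : Γ(X, W), (∀ (η : X) (hη : η ∈ W), η ∈ Z → f ∈ (hW.primeIdealOf ⟨η, hη⟩).asIdeal) →
      f ∈ I) :
    (hW.primeIdealOf ⟨ξ, hξW⟩).asIdeal ∈ I.minimalPrimes := by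
  obtain ⟨q, hq, hqp⟩ := Ideal.exists_minimalPrimes_le hI1
  haveI : q.IsPrime := hq.1.1
  obtain ⟨η, hηW, hη⟩ := exists_point_of_prime hW ⟨q, inferInstance⟩
  have hηq : (hW.primeIdealOf ⟨η, hηW⟩).asIdeal = q := by rw [hη]
  have hηZ : η ∈ Z := by
    by_contra hnZ
    obtain ⟨f, hfO, hηf⟩ := hW.exists_basicOpen_le (V := ⟨Zᶜ, hZ.isOpen_compl⟩) ⟨η, hnZ⟩ hηW
    have hfI : f ∈ I := by
      apply hI2
      intro η' hη'W hη'Z
      by_contra hcon
      have : η' ∈ X.basicOpen f :=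
        (mem_basicOpen_iff_notMem_primeIdealOf hW η' hη'W f).mpr hcon
      exact hfO this hη'Z
    have hfq : f ∈ (hW.primeIdealOf ⟨η, hηW⟩).asIdeal := by
      rw [hηq]
      exact hq.1.2 hfI
    have hηf' : η ∈ X.basicOpen f := hηf
    exact (mem_basicOpen_iff_notMem_primeIdealOf hW η hηW f).mp hηf' hfq
  have hsp : η ⤳ ξ := specializes_of_primeIdealOf_le hW η ξ hηW hξW (by rw [hηq]; exact hqp)
  have hηξ := hmax η hηZ hsp
  subst hηξ
  rw [hηq]
  exact hq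

/-- a point of a closed set `Z` with no proper generization in `Z` has a neighbourhood in which
`Z` is contained in the closure of the point -/
theorem comp_nhd (Z : Set X) (hZ : IsClosed Z) (ξ : X) (hξ : ξ ∈ Z)
    (hmax : ∀ η : X, η ∈ Z → η ⤳ ξ → η = ξ) :
    ∃ V : X.Opens, ξ ∈ V ∧ ∀ η : X, η ∈ V → η ∈ Z → ξ ⤳ η := by
  obtain ⟨_, ⟨W, hW, rfl⟩, hξW, -⟩ :=
    X.isBasis_affineOpens.exists_subset_of_mem_open (Set.mem_univ ξ) isOpen_univ
  haveI : IsNoetherianRing Γ(X, W) := IsLocallyNoetherian.component_noetherian ⟨W, hW⟩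
  obtain ⟨I, hI⟩ : ∃ I : Ideal Γ(X, W), I =
      ⨅ η : {η : X // η ∈ W ∧ η ∈ Z}, (hW.primeIdealOf ⟨η.1, η.2.1⟩).asIdeal := ⟨_, rfl⟩
  have hIle : ∀ (η : X) (hη : η ∈ W), η ∈ Z → I ≤ (hW.primeIdealOf ⟨η, hη⟩).asIdeal := by
    intro η hη hηZ
    rw [hI]
    exact iInf_le (fun η : {η : X // η ∈ W ∧ η ∈ Z} => (hW.primeIdealOf ⟨η.1, η.2.1⟩).asIdeal)
      ⟨η, hη, hηZ⟩
  have hmin := minimal_of_max hW Z hZ ξ hξW hmax I (hIle ξ hξW hξ) (by
    intro f hf
    rw [hI, Ideal.mem_iInf]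
    rintro ⟨η', hη'W, hη'Z⟩
    exact hf η' hη'W hη'Z)
  obtain ⟨g, hgp, hg⟩ := exists_notMem_of_minimal I _ hmin
  refine ⟨X.basicOpen g, (mem_basicOpen_iff_notMem_primeIdealOf hW ξ hξW g).mpr hgp, ?_⟩
  intro η hηg hηZ
  have hηW : η ∈ W := X.basicOpen_le g hηg
  have h1 := hg _ (hW.primeIdealOf ⟨η, hηW⟩).isPrime (hIle η hηW hηZ)
    ((mem_basicOpen_iff_notMem_primeIdealOf hW η hηW g).mp hηg)
  exact specializes_of_primeIdealOf_le hW ξ η hξW hηW h1

omit [IsLocallyNoetherian X] in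
theorem ringKrullDim_stalk_mono {x y : X} (h : x ⤳ y) :
    ringKrullDim (X.presheaf.stalk x) ≤ ringKrullDim (X.presheaf.stalk y) := by
  obtain ⟨_, ⟨W, hW, rfl⟩, hyW, -⟩ :=
    X.isBasis_affineOpens.exists_subset_of_mem_open (Set.mem_univ y) isOpen_univ
  have hxW : x ∈ W := h.mem_open W.2 hyW
  rw [ringKrullDim_stalk_eq_height hW x hxW, ringKrullDim_stalk_eq_height hW y hyW]
  exact_mod_cast Ideal.height_mono (primeIdealOf_le_of_specializes hW x y hxW hyW h)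

/-- a point outside a dense open has positive-dimensional local ring -/
theorem one_le_dim_of_not_mem_dense (D : X.Opens) (hD : Dense (D : Set X)) (ξ : X) (hξ : ξ ∉ D) :
    ringKrullDim (X.presheaf.stalk ξ) ≠ 0 := by
  intro h0
  have hmax : ∀ η : X, η ∈ (Set.univ : Set X) → η ⤳ ξ → η = ξ := by
    intro η _ hsp
    obtain ⟨_, ⟨W, hW, rfl⟩, hξW, -⟩ :=
      X.isBasis_affineOpens.exists_subset_of_mem_open (Set.mem_univ ξ) isOpen_univ
    have hηW : η ∈ W := hsp.mem_open W.2 hξW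
    have hle := primeIdealOf_le_of_specializes hW η ξ hηW hξW hsp
    rw [ringKrullDim_stalk_eq_height hW ξ hξW] at h0
    have h0' : (hW.primeIdealOf ⟨ξ, hξW⟩).asIdeal.height = 0 := by exact_mod_cast h0
    have hmin : (hW.primeIdealOf ⟨ξ, hξW⟩).asIdeal ∈ minimalPrimes Γ(X, W) :=
      Ideal.height_eq_zero_iff.mp h0' 
    have heq : (hW.primeIdealOf ⟨η, hηW⟩).asIdeal = (hW.primeIdealOf ⟨ξ, hξW⟩).asIdeal :=
      le_antisymm hle (hmin.2 ⟨(hW.primeIdealOf ⟨η, hηW⟩).isPrime, bot_le⟩ hle)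
    have h2 : hW.primeIdealOf ⟨η, hηW⟩ = hW.primeIdealOf ⟨ξ, hξW⟩ := PrimeSpectrum.ext heq
    have h3 := congrArg (fun q => hW.fromSpec q) h2
    simp only [IsAffineOpen.fromSpec_primeIdealOf] at h3
    exact h3
  obtain ⟨V, hξV, hV⟩ := comp_nhd (Set.univ : Set X) isClosed_univ ξ trivial hmax
  obtain ⟨η, hηV, hηD⟩ := hD.inter_open_nonempty V V.2 ⟨ξ, hξV⟩
  exact hξ ((hV η hηV trivial).mem_open D.2 hηD)

end Nhd

section Main

/-- S2902 -/
theorem main (X Y : Scheme.{u}) [IsLocallyNoetherian X] [IsReduced X] [IsAffine Y]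
    (hS2 : ∀ x : ↥X, min (2 : WithBot ℕ∞) (ringKrullDim (X.presheaf.stalk x)) ≤
      ((LocCoh.depth (X.presheaf.stalk x) (X.presheaf.stalk x) : ℕ∞) : WithBot ℕ∞))
    (f : X ⤏ Y) (ξ : ↥X) (hξ : ξ ∉ f.domain) (hmax : ∀ η : ↥X, η ∉ f.domain → η ⤳ ξ → η = ξ) :
    ringKrullDim (X.presheaf.stalk ξ) = 1 := by
  by_contra hne
  have h0 : ringKrullDim (X.presheaf.stalk ξ) ≠ 0 :=
    one_le_dim_of_not_mem_dense f.domain f.dense_domain ξ hξ
  have h2 : (2 : WithBot ℕ∞) ≤ ringKrullDim (X.presheaf.stalk ξ) := by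
    have hnb : ringKrullDim (X.presheaf.stalk ξ) ≠ ⊥ := ringKrullDim_ne_bot
    obtain ⟨d, hd⟩ := WithBot.ne_bot_iff_exists.mp hnb
    rw [← hd] at h0 hne ⊢
    have h0' : d ≠ 0 := fun h => h0 (by rw [h]; rfl)
    have h1' : d ≠ 1 := fun h => hne (by rw [h]; rfl)
    have : (2 : ℕ∞) ≤ d := by
      rw [show (2 : ℕ∞) = 1 + 1 by norm_num]
      apply Order.add_one_le_of_lt
      apply lt_of_le_of_ne _ (Ne.symm h1')
      exact Order.one_le_iff_pos.mpr (pos_iff_ne_zero.mpr h0')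
    exact WithBot.coe_le_coe.mpr this
  -- the neighbourhood
  obtain ⟨V, hξV, hV⟩ := comp_nhd ((f.domain : Set X)ᶜ) f.domain.2.isClosed_compl ξ hξ
    (fun η hη hsp => hmax η hη hsp)
  -- depth ≥ 2 at points of V outside the domain
  have hdepthX : ∀ η : X, η ∈ V → η ∉ f.domain →
      (2 : ℕ∞) ≤ LocCoh.depth (X.presheaf.stalk η) (X.presheaf.stalk η) := by
    intro η hηV hηD
    have hsp := hV η hηV hηD
    have hdim : (2 : WithBot ℕ∞) ≤ ringKrullDim (X.presheaf.stalk η) :=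
      h2.trans (ringKrullDim_stalk_mono hsp)
    have := hS2 η
    rw [min_eq_left hdim] at this
    exact WithBot.coe_le_coe.mp this
  -- the partial map
  let D : X.Opens := f.domain
  let P : X.PartialMap Y := f.toPartialMap
  let U₂ : X.Opens := D ⊔ V
  have hDU : D ≤ U₂ := le_sup_left
  let D' : (U₂ : Scheme.{u}).Opens := U₂.ι ⁻¹ᵁ D
  have hdepth : ∀ x : (U₂ : Scheme.{u}), x ∉ D' →
      (2 : ℕ∞) ≤ LocCoh.depth ((U₂ : Scheme.{u}).presheaf.stalk x)
        ((U₂ : Scheme.{u}).presheaf.stalk x) := by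
    intro x hx
    have hxD : x.1 ∉ f.domain := hx
    have hxV : x.1 ∈ V := by
      rcases x.2 with h | h
      · exact absurd h hxD
      · exact h
    have h1 : (2 : ℕ∞) ≤ LocCoh.depth (X.presheaf.stalk (U₂.ι x)) (X.presheaf.stalk (U₂.ι x)) :=
      hdepthX x.1 hxV hxD
    letI : Algebra (X.presheaf.stalk (U₂.ι x)) ((U₂ : Scheme.{u}).presheaf.stalk x) :=
      (U₂.ι.stalkMap x).hom.toAlgebra
    haveI : Module.Flat (X.presheaf.stalk (U₂.ι x)) ((U₂ : Scheme.{u}).presheaf.stalk x) :=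
      (Flat.iff_flat_stalkMap U₂.ι).mp inferInstance x
    haveI : IsLocalHom (algebraMap (X.presheaf.stalk (U₂.ι x))
        ((U₂ : Scheme.{u}).presheaf.stalk x)) :=
      inferInstanceAs (IsLocalHom (U₂.ι.stalkMap x).hom)
    exact Groth.Agent.Lead.SchDense.two_le_depth_of_flat h1
  obtain ⟨g, hg, -⟩ := Hartogs2.main (U₂ : Scheme.{u}) Y D' hdepth
    ((Scheme.Opens.isoOfLE hDU).hom ≫ P.hom)
  have hdense : Dense ((U₂ : X.Opens) : Set X) :=
    f.dense_domain.mono (fun x hx => Or.inl hx)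
  let g₂ : X.PartialMap Y := ⟨U₂, hdense, g⟩
  have hi : X.homOfLE hDU = (Scheme.Opens.isoOfLE hDU).inv ≫ D'.ι := by
    rw [← cancel_mono U₂.ι, Scheme.homOfLE_ι, Category.assoc, Scheme.Opens.isoOfLE_inv_ι]
  have hres : X.homOfLE hDU ≫ g = P.hom := by
    rw [hi, Category.assoc, hg, Iso.inv_hom_id_assoc]
  have heq : g₂.toRationalMap = f := by
    rw [← f.toRationalMap_toPartialMap, Scheme.PartialMap.toRationalMap_eq_iff]
    refine ⟨D, f.dense_domain, hDU, le_rfl, ?_⟩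
    change X.homOfLE hDU ≫ g = X.homOfLE le_rfl ≫ P.hom
    rw [hres, Scheme.homOfLE_rfl, Category.id_comp]
  exact hξ (Scheme.RationalMap.mem_domain.mpr ⟨g₂, Or.inr hξV, heq⟩)

end Main

end Groth.Agent.Lead.RatDom
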