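import Mathlib
import Groth.Agent.Lead.Hartogs

set_option autoImplicit false
universe u
open CategoryTheory CategoryTheory.Limits AlgebraicGeometry TopologicalSpace Opposite

namespace Groth.Agent.Lead.HartogsConv
open Groth.Agent.Helper4 Groth.Agent.Helper4.StalkDict Groth.Agent.Lead.StalkNhd
  Groth.Agent.Lead.Hartogs Groth.Agent.Helper4.QcqsMod Groth.Agent.Lead.ExtFree

variable {X : Scheme.{u}}

section Gens
variable [IsLocallyNoetherian X]

/-- finitely many functions on an affine neighbourhood of `x0`, vanishing at `x0`, whose basic opens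
cover the complement of the closure of `x0`. -/
theorem exists_gens (x0 : X) {V : X.Opens} (hV : IsAffineOpen V) (hx0 : x0 ∈ V) :
    ∃ (n : ℕ) (g : Fin n → Γ(X, V)), (∀ i, x0 ∉ X.basicOpen (g i)) ∧
      ∀ y ∈ V, ¬ (x0 ⤳ y) → ∃ i, y ∈ X.basicOpen (g i) := by
  haveI : IsNoetherianRing Γ(X, V) := IsLocallyNoetherian.component_noetherian ⟨V, hV⟩
  obtain ⟨n, g, hg⟩ := Submodule.fg_iff_exists_fin_generating_family.mp
    (IsNoetherian.noetherian (hV.primeIdealOf ⟨x0, hx0⟩).asIdeal)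
  refine ⟨n, g, ?_, ?_⟩
  · intro i hi
    rw [mem_basicOpen_iff_notMem_primeIdealOf hV x0 hx0] at hi
    apply hi
    rw [← hg]
    exact Submodule.subset_span ⟨i, rfl⟩
  · intro y hy hny
    by_contra hcon
    push_neg at hcon
    apply hny
    rw [specializes_iff_forall_open]
    intro O hO hyO
    obtain ⟨f, hfO, hyf⟩ := hV.exists_basicOpen_le (V := ⟨O, hO⟩) ⟨y, hyO⟩ hy
    apply hfO
    rw [mem_basicOpen_iff_notMem_primeIdealOf hV x0 hx0]
    intro hfp
    have hyf' : y ∈ X.basicOpen f := hyf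
    rw [mem_basicOpen_iff_notMem_primeIdealOf hV y hy] at hyf'
    apply hyf'
    have hle : (hV.primeIdealOf ⟨x0, hx0⟩).asIdeal ≤ (hV.primeIdealOf ⟨y, hy⟩).asIdeal := by
      rw [← hg, Submodule.span_le]
      rintro _ ⟨i, rfl⟩
      have := hcon i
      rw [mem_basicOpen_iff_notMem_primeIdealOf hV y hy, not_not] at this
      exact this
    exact hle hfp

end Gens

section Glue

variable (M : X.Modules)

/-- gluing local quotients `s / α` over a cover of `W ⊓ U` and extending over `W` -/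
theorem glue_div (W U : X.Opens)
    (Hbij : Function.Bijective (M.presheaf.map (homOfLE (inf_le_left : W ⊓ U ≤ W)).op))
    {ι : Type} (D : ι → X.Opens) (hD : ∀ i, D i ≤ W ⊓ U) (hcover : W ⊓ U ≤ ⨆ i, D i)
    (α : Γ(X, W)) (s : Γ(M, W))
    (hreg : ∀ (y : X) (hy : y ∈ W ⊓ U),
      IsSMulRegular (M.presheaf.stalk y) (X.presheaf.germ W y hy.1 α))
    (σ : ∀ i, Γ(M, D i))
    (hσ : ∀ i (y : X) (hy : y ∈ D i),
      X.presheaf.germ W y (hD i hy).1 α • M.presheaf.germ (D i) y hy (σ i) =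
        M.presheaf.germ W y (hD i hy).1 s) :
    ∃ τ : Γ(M, W), α • τ = s := by
  have hcompat : TopCat.Presheaf.IsCompatible M.presheaf D σ := by
    intro i j
    change M.presheaf.map (homOfLE (inf_le_left : D i ⊓ D j ≤ D i)).op (σ i) =
      M.presheaf.map (homOfLE (inf_le_right : D i ⊓ D j ≤ D j)).op (σ j)
    apply section_ext
    intro y hy
    have hyi : y ∈ D i := hy.1
    have hyj : y ∈ D j := hy.2
    apply hreg y (hD i hyi)
    change X.presheaf.germ W y (hD i hyi).1 α • _ = X.presheaf.germ W y (hD i hyi).1 α • _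
    rw [germ_res, germ_res, hσ i y hyi, hσ j y hyj]
  obtain ⟨σ0, hσ0, -⟩ := TopCat.Sheaf.existsUnique_gluing'
    (⟨M.presheaf, M.isSheaf⟩ : TopCat.Sheaf Ab X) D (W ⊓ U) (fun i => homOfLE (hD i)) hcover σ hcompat
  obtain ⟨τ, hτ⟩ := Hbij.2 σ0
  refine ⟨τ, ?_⟩
  apply Hbij.1
  apply section_ext
  intro y hy
  obtain ⟨i, hyi⟩ := Opens.mem_iSup.mp (hcover hy)
  rw [germ_res, germ_res, germ_smul]
  have h1 : M.presheaf.germ W y hy.1 τ = M.presheaf.germ (D i) y hyi (σ i) := by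
    rw [← germ_res M inf_le_left y hy τ, hτ, ← hσ0 i]
    exact (germ_res M (hD i) y hyi σ0).symm
  rw [h1]
  exact hσ i y hyi

end Glue

section Main

variable [IsLocallyNoetherian X] (M : X.Modules) (U : X.Opens)

theorem germ_mem_maximalIdeal {V : X.Opens} (x0 : X) (hx0 : x0 ∈ V) (g : Γ(X, V))
    (hg : x0 ∉ X.basicOpen g) :
    X.presheaf.germ V x0 hx0 g ∈ IsLocalRing.maximalIdeal (X.presheaf.stalk x0) := by
  rw [IsLocalRing.mem_maximalIdeal, mem_nonunits_iff]
  intro hu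
  exact hg ((X.mem_basicOpen g x0 hx0).mpr hu)

theorem mem_iInf_fin {n : ℕ} (W : Fin n → X.Opens) (x0 : X) (h : ∀ i, x0 ∈ W i) : x0 ∈ ⨅ i, W i := by
  change x0 ∈ ((⨅ i, W i : X.Opens) : Set X)
  rw [Opens.coe_iInf]
  exact Set.mem_iInter.mpr h

/-- socle elements vanish -/
theorem socle_zero
    (H : ∀ V : X.Opens, Function.Injective (M.presheaf.map (homOfLE (inf_le_left : V ⊓ U ≤ V)).op))
    (x0 : X) (hx0 : x0 ∉ U) (z : M.presheaf.stalk x0)
    (hz : ∀ r ∈ IsLocalRing.maximalIdeal (X.presheaf.stalk x0), r • z = 0) : z = 0 := by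
  obtain ⟨W1, hxW1, s1, rfl⟩ := TopCat.Presheaf.exists_germ_eq M.presheaf z
  obtain ⟨_, ⟨V, hV, rfl⟩, hxV, hVW1⟩ :=
    X.isBasis_affineOpens.exists_subset_of_mem_open hxW1 W1.2
  have hVW1' : V ≤ W1 := hVW1
  let s : Γ(M, V) := M.presheaf.map (homOfLE hVW1').op s1
  have es : M.presheaf.germ V x0 hxV s = M.presheaf.germ W1 x0 hxW1 s1 :=
    germ_res M hVW1' x0 hxV s1
  rw [← es] at hz ⊢
  obtain ⟨n, g, hg0, hgcov⟩ := exists_gens x0 hV hxV
  have hC : ∀ i, ∃ (Wi : X.Opens) (hWi : Wi ≤ V), x0 ∈ Wi ∧ ∀ (y : X) (hy : y ∈ Wi),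
      X.presheaf.germ V y (hWi hy) (g i) • M.presheaf.germ V y (hWi hy) s = 0 := by
    intro i
    have h0 := hz _ (germ_mem_maximalIdeal x0 hxV (g i) (hg0 i))
    rw [← germ_smul] at h0
    have h0' : M.presheaf.germ V x0 hxV (g i • s) = M.presheaf.germ V x0 hxV 0 := by
      rw [h0, map_zero]
    obtain ⟨W2, hxW2, i1, i2, hW2⟩ := TopCat.Presheaf.germ_eq M.presheaf x0 hxV hxV _ _ h0'
    rw [map_zero] at hW2
    refine ⟨W2, leOfHom i1, hxW2, ?_⟩
    intro y hy
    have h3 := congrArg (M.presheaf.germ W2 y hy) hW2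
    rw [map_zero] at h3
    rw [← germ_smul, ← h3]
    exact (TopCat.Presheaf.germ_res_apply M.presheaf i1 y hy (g i • s)).symm
  choose Wi hWi hxWi hgs using hC
  let W : X.Opens := V ⊓ ⨅ i, Wi i
  have hxW : x0 ∈ W := ⟨hxV, mem_iInf_fin Wi x0 hxWi⟩
  have hWV : W ≤ V := inf_le_left
  have hWWi : ∀ i, W ≤ Wi i := fun i => inf_le_right.trans (iInf_le _ i)
  have hzero : M.presheaf.map (homOfLE hWV).op s = 0 := by
    apply H W
    rw [map_zero]
    apply section_ext
    intro y hy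
    rw [map_zero, germ_res, germ_res]
    have hny : ¬ (x0 ⤳ y) := fun hsp => hx0 (hsp.mem_open U.2 hy.2)
    obtain ⟨i, hyi⟩ := hgcov y (hWV hy.1) hny
    have hu : IsUnit (X.presheaf.germ V y (hWV hy.1) (g i)) :=
      (X.mem_basicOpen (g i) y (hWV hy.1)).mp hyi
    have h4 := hgs i y (hWWi i hy.1)
    have h5 : M.presheaf.germ V y (hWV hy.1) s =
        (↑hu.unit⁻¹ : X.presheaf.stalk y) • (X.presheaf.germ V y (hWV hy.1) (g i) •
          M.presheaf.germ V y (hWV hy.1) s) := by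
      rw [smul_smul, IsUnit.val_inv_mul, one_smul]
    rw [h5, h4, smul_zero]
  rw [← germ_res M hWV x0 hxW s, hzero, map_zero]

/-- relative socle elements are divisible -/
theorem div_of_socle [M.IsQuasicoherent]
    (hFT : SheafOfModules.IsFiniteType (R := X.ringCatSheaf) M)
    (H : ∀ V : X.Opens, Function.Bijective (M.presheaf.map (homOfLE (inf_le_left : V ⊓ U ≤ V)).op))
    (x0 : X) (hx0 : x0 ∉ U) (a : X.presheaf.stalk x0) (ha : IsSMulRegular (M.presheaf.stalk x0) a)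
    (z : M.presheaf.stalk x0)
    (hz : ∀ r ∈ IsLocalRing.maximalIdeal (X.presheaf.stalk x0),
      ∃ w : M.presheaf.stalk x0, r • z = a • w) :
    ∃ w : M.presheaf.stalk x0, z = a • w := by
  obtain ⟨W1, hxW1, α1, s1, rfl, rfl⟩ := exists_common M x0 a z
  obtain ⟨_, ⟨V, hV, rfl⟩, hxV, hVW1⟩ :=
    X.isBasis_affineOpens.exists_subset_of_mem_open hxW1 W1.2
  have hVW1' : V ≤ W1 := hVW1
  let α : Γ(X, V) := X.presheaf.map (homOfLE hVW1').op α1
  let s : Γ(M, V) := M.presheaf.map (homOfLE hVW1').op s1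
  have eα : X.presheaf.germ V x0 hxV α = X.presheaf.germ W1 x0 hxW1 α1 :=
    germ_resO hVW1' x0 hxV α1
  have es : M.presheaf.germ V x0 hxV s = M.presheaf.germ W1 x0 hxW1 s1 :=
    germ_res M hVW1' x0 hxV s1
  rw [← eα] at ha hz ⊢
  rw [← es] at hz ⊢
  clear_value α s
  obtain ⟨n, g, hg0, hgcov⟩ := exists_gens x0 hV hxV
  -- step C: local quotients `g i • s = α • t i`
  have hC : ∀ i, ∃ (Wi : X.Opens) (hWi : Wi ≤ V), x0 ∈ Wi ∧ ∃ t : Γ(M, Wi), ∀ (y : X) (hy : y ∈ Wi),
      X.presheaf.germ V y (hWi hy) (g i) • M.presheaf.germ V y (hWi hy) s =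
        X.presheaf.germ V y (hWi hy) α • M.presheaf.germ Wi y hy t := by
    intro i
    obtain ⟨w, hw⟩ := hz _ (germ_mem_maximalIdeal x0 hxV (g i) (hg0 i))
    obtain ⟨W0, hxW0, t0, rfl⟩ := TopCat.Presheaf.exists_germ_eq M.presheaf w
    have hle1 : V ⊓ W0 ≤ V := inf_le_left
    have hle2 : V ⊓ W0 ≤ W0 := inf_le_right
    let lhs : Γ(M, V ⊓ W0) := M.presheaf.map (homOfLE hle1).op (g i • s)
    let rhs : Γ(M, V ⊓ W0) := X.presheaf.map (homOfLE hle1).op α • M.presheaf.map (homOfLE hle2).op t0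
    have hxVW0 : x0 ∈ V ⊓ W0 := ⟨hxV, hxW0⟩
    have hgerm : M.presheaf.germ (V ⊓ W0) x0 hxVW0 lhs =
        M.presheaf.germ (V ⊓ W0) x0 hxVW0 rhs := by
      simp only [lhs, rhs]
      rw [germ_res, germ_smul, germ_smul, germ_resO, germ_res]
      exact hw
    obtain ⟨W2, hxW2, i1, i2, hW2⟩ :=
      TopCat.Presheaf.germ_eq M.presheaf x0 hxVW0 hxVW0 _ _ hgerm
    refine ⟨W2, (leOfHom i1).trans hle1, hxW2,
      M.presheaf.map (homOfLE ((leOfHom i1).trans hle2)).op t0, ?_⟩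
    intro y hy
    have h3 := congrArg (M.presheaf.germ W2 y hy) hW2
    have e1 : M.presheaf.germ W2 y hy (M.presheaf.map i1.op lhs) =
        M.presheaf.germ (V ⊓ W0) y (leOfHom i1 hy) lhs :=
      TopCat.Presheaf.germ_res_apply M.presheaf i1 y hy lhs
    have e2 : M.presheaf.germ W2 y hy (M.presheaf.map i2.op rhs) =
        M.presheaf.germ (V ⊓ W0) y (leOfHom i1 hy) rhs :=
      TopCat.Presheaf.germ_res_apply M.presheaf i2 y hy rhs
    rw [e1, e2] at h3
    simp only [lhs, rhs] at h3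
    rw [germ_res, germ_smul, germ_smul, germ_resO, germ_res] at h3
    rw [germ_res]
    exact h3
  choose Wi hWi hxWi t ht using hC
  obtain ⟨s', hxs', hs'⟩ := exists_basicOpen_regular M hFT hV α x0 hxV ha
  let W : X.Opens := (V ⊓ X.basicOpen s') ⊓ ⨅ i, Wi i
  have hxW : x0 ∈ W := ⟨⟨hxV, hxs'⟩, mem_iInf_fin Wi x0 hxWi⟩
  have hWV : W ≤ V := inf_le_left.trans inf_le_left
  have hWs' : W ≤ X.basicOpen s' := inf_le_left.trans inf_le_right
  have hWWi : ∀ i, W ≤ Wi i := fun i => inf_le_right.trans (iInf_le _ i)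
  let αW : Γ(X, W) := X.presheaf.map (homOfLE hWV).op α
  let sW : Γ(M, W) := M.presheaf.map (homOfLE hWV).op s
  let D : Fin n → X.Opens := fun i => (W ⊓ U) ⊓ X.basicOpen (g i)
  have hD : ∀ i, D i ≤ W ⊓ U := fun i => inf_le_left
  have hDV : ∀ i, D i ≤ V := fun i => (hD i).trans (inf_le_left.trans hWV)
  have hDWi : ∀ i, D i ≤ Wi i := fun i => (hD i).trans (inf_le_left.trans (hWWi i))
  have hcover : W ⊓ U ≤ ⨆ i, D i := by
    intro y hy
    have hny : ¬ (x0 ⤳ y) := fun hsp => hx0 (hsp.mem_open U.2 hy.2)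
    obtain ⟨i, hyi⟩ := hgcov y (hWV hy.1) hny
    exact Opens.mem_iSup.mpr ⟨i, hy, hyi⟩
  -- the restrictions of `g i` to `D i` are units
  have hunit : ∀ i, IsUnit (X.presheaf.map (homOfLE (hDV i)).op (g i)) := by
    intro i
    apply X.toRingedSpace.isUnit_of_isUnit_germ (D i)
    intro y hy
    have e := germ_resO (hDV i) y hy (g i)
    have hu : IsUnit (X.presheaf.germ V y (hDV i hy) (g i)) :=
      (X.mem_basicOpen (g i) y (hDV i hy)).mp hy.2
    rw [← e] at hu
    exact hu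
  let σ : ∀ i, Γ(M, D i) := fun i =>
    (↑(hunit i).unit⁻¹ : Γ(X, D i)) • M.presheaf.map (homOfLE (hDWi i)).op (t i)
  have hσ : ∀ i (y : X) (hy : y ∈ D i),
      X.presheaf.germ W y (hD i hy).1 αW • M.presheaf.germ (D i) y hy (σ i) =
        M.presheaf.germ W y (hD i hy).1 sW := by
    intro i y hy
    have hyW : y ∈ W := (hD i hy).1
    simp only [σ, αW, sW]
    rw [germ_smul, germ_res, germ_res, germ_resO, smul_comm, ← ht i y (hDWi i hy), smul_smul]
    have e := germ_resO (hDV i) y hy (g i)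
    rw [← e, ← map_mul, IsUnit.val_inv_mul, map_one, one_smul]
  have hreg : ∀ (y : X) (hy : y ∈ W ⊓ U),
      IsSMulRegular (M.presheaf.stalk y) (X.presheaf.germ W y hy.1 αW) := by
    intro y hy
    have e := germ_resO hWV y hy.1 α
    simp only [αW]
    rw [e]
    exact hs' y (hWV hy.1) (hWs' hy.1)
  obtain ⟨τ, hτ⟩ := glue_div M W U (H W) D hD hcover αW sW hreg σ hσ
  refine ⟨M.presheaf.germ W x0 hxW τ, ?_⟩
  rw [← germ_res M hWV x0 hxW s, ← germ_resO hWV x0 hxW α, ← germ_smul]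
  change M.presheaf.germ W x0 hxW sW = M.presheaf.germ W x0 hxW (αW • τ)
  rw [hτ]

open scoped Pointwise in
/-- converse of Hartogs at a point -/
theorem two_le_depth (hM : Coh.IsCoh M)
    (H : ∀ V : X.Opens, Function.Bijective (M.presheaf.map (homOfLE (inf_le_left : V ⊓ U ≤ V)).op))
    (x0 : X) (hx0 : x0 ∉ U) :
    (2 : ℕ∞) ≤ LocCoh.depth (X.presheaf.stalk x0) (M.presheaf.stalk x0) := by
  haveI : M.IsQuasicoherent := hM.1
  haveI : Module.Finite (X.presheaf.stalk x0) (M.presheaf.stalk x0) :=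
    Groth.Agent.Helper4.FinLocFree2.finite_stalk M hM.2 x0
  obtain ⟨a, ham, ha⟩ := Groth.Agent.Helper9.DepthKer.exists_regular_of_socle
    (I := IsLocalRing.maximalIdeal (X.presheaf.stalk x0)) (M.presheaf.stalk x0)
    (fun z hz => socle_zero M U (fun V => (H V).1) x0 hx0 z hz)
  obtain ⟨b, hbm, hb⟩ := Groth.Agent.Helper9.DepthKer.exists_regular_of_socle
    (I := IsLocalRing.maximalIdeal (X.presheaf.stalk x0)) (QuotSMulTop a (M.presheaf.stalk x0))
    (by
      intro zb hzb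
      obtain ⟨z, rfl⟩ := Submodule.Quotient.mk_surjective _ zb
      rw [Submodule.Quotient.mk_eq_zero, Submodule.mem_smul_pointwise_iff_exists]
      obtain ⟨w, hw⟩ := div_of_socle M U hM.2 H x0 hx0 a ha z (fun r hr => by
        have h1 := hzb r hr
        rw [← Submodule.Quotient.mk_smul, Submodule.Quotient.mk_eq_zero,
          Submodule.mem_smul_pointwise_iff_exists] at h1
        obtain ⟨w, -, hw⟩ := h1
        exact ⟨w, hw.symm⟩)
      exact ⟨w, trivial, hw.symm⟩)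
  have h2 := Groth.Agent.Helper9.DepthKer.le_idealDepth_of
    (IsLocalRing.maximalIdeal (X.presheaf.stalk x0)) (M.presheaf.stalk x0) [a, b]
    ((RingTheory.Sequence.isWeaklyRegular_cons_iff _ a [b]).mpr ⟨ha,
      (RingTheory.Sequence.isWeaklyRegular_cons_iff _ b []).mpr
        ⟨hb, RingTheory.Sequence.IsWeaklyRegular.nil _ _⟩⟩)
    (by
      intro r hr
      simp only [List.mem_cons, List.not_mem_nil, or_false] at hr
      rcases hr with rfl | rfl
      · exact ham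
      · exact hbm)
  simpa [LocCoh.depth] using h2

/-- S6039 -/
theorem main (hM : Coh.IsCoh M) :
    (∀ x : X, x ∉ (U : Set X) → (2 : ℕ∞) ≤ LocCoh.depth (X.presheaf.stalk x) (M.presheaf.stalk x)) ↔
      ∀ V : X.Opens, Function.Bijective (M.val.map (homOfLE (inf_le_left : V ⊓ U ≤ V)).op).hom := by
  constructor
  · intro h V
    exact Hartogs.main U M hM h V
  · intro H x hx
    exact two_le_depth M U hM H x hx

end Main

end Groth.Agent.Lead.HartogsConv
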