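import Mathlib
import Groth.Prelude.Def_FEt

/-!
# Equalizers of morphisms of finite étale covers are clopen
-/

set_option autoImplicit false
universe u
open CategoryTheory CategoryTheory.Limits AlgebraicGeometry

namespace Groth.Agent.Lead.FEtEq

set_option backward.isDefEq.respectTransparency false in
/-- equalizer into an unramified target is an open immersion. -/
theorem isOpenImmersion_equalizer_ι_left {S : Scheme.{u}} {X Y : Over S}
    [FormallyUnramified Y.hom] [LocallyOfFiniteType Y.hom]
    (f g : X ⟶ Y) : IsOpenImmersion (equalizer.ι f g).left := by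
  refine MorphismProperty.of_isPullback
    ((Limits.isPullback_equalizer_prod f g).map (Over.forget _)).flip ?_
  rw [← MorphismProperty.cancel_right_of_respectsIso @IsOpenImmersion _
    (Over.prodLeftIsoPullback Y Y).hom]
  convert! (inferInstance : IsOpenImmersion (pullback.diagonal Y.hom))
  ext1 <;> simp [← Over.comp_left]

/-- Key lemma: two morphisms of finite étale covers agreeing after base change along `f` agree on a
clopen subset containing the preimage of the range of `f`; if this clopen is everything they are equal. -/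
theorem exists_clopen {X Y : Scheme.{u}} (f : X ⟶ Y) {Y1 Y2 : FEt.Cat Y} (φ ψ : Y1 ⟶ Y2)
    (h : (FEt.restrict f).map φ = (FEt.restrict f).map ψ) :
    ∃ E : Set Y1.left, IsClopen E ∧ Y1.hom ⁻¹' (Set.range f) ⊆ E ∧ (E = Set.univ → φ = ψ) := by
  have hfin : IsFinite Y2.hom := Y2.prop.1
  have het : Etale Y2.hom := Y2.prop.2
  let X' : Over Y := Over.mk Y1.hom
  let Y' : Over Y := Over.mk Y2.hom
  let φ' : X' ⟶ Y' := Over.homMk φ.left (by simp [X', Y'])
  let ψ' : X' ⟶ Y' := Over.homMk ψ.left (by simp [X', Y'])
  have : IsSeparated Y'.hom := inferInstanceAs (IsSeparated Y2.hom)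
  have : FormallyUnramified Y'.hom := inferInstanceAs (FormallyUnramified Y2.hom)
  have : LocallyOfFiniteType Y'.hom := inferInstanceAs (LocallyOfFiniteType Y2.hom)
  have hcl : IsClosedImmersion (equalizer.ι φ' ψ').left := inferInstance
  have hop : IsOpenImmersion (equalizer.ι φ' ψ').left := isOpenImmersion_equalizer_ι_left φ' ψ'
  refine ⟨Set.range (equalizer.ι φ' ψ').left, ⟨(Scheme.Hom.isClosedEmbedding _).isClosed_range,
    hop.base_open.isOpen_range⟩, ?_, ?_⟩
  · -- the projection from the pullback factors through the equalizer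
    have h1 : pullback.fst Y1.hom f ≫ φ.left = pullback.fst Y1.hom f ≫ ψ.left := by
      have e1 : ((FEt.restrict f).map φ).left ≫ pullback.fst Y2.hom f =
          pullback.fst Y1.hom f ≫ φ.left := by
        simp only [FEt.restrict, MorphismProperty.Over.pullback]
        exact pullback.lift_fst _ _ _
      have e2 : ((FEt.restrict f).map ψ).left ≫ pullback.fst Y2.hom f =
          pullback.fst Y1.hom f ≫ ψ.left := by
        simp only [FEt.restrict, MorphismProperty.Over.pullback]
        exact pullback.lift_fst _ _ _
      rw [← e1, ← e2, h]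
    let W' : Over Y := Over.mk (pullback.fst Y1.hom f ≫ Y1.hom)
    let k : W' ⟶ X' := Over.homMk (pullback.fst Y1.hom f) rfl
    have hk : k ≫ φ' = k ≫ ψ' := by
      ext
      simpa [k, φ', ψ'] using h1
    have h2 : (equalizer.lift k hk).left ≫ (equalizer.ι φ' ψ').left = pullback.fst Y1.hom f := by
      rw [← Over.comp_left, equalizer.lift_ι]
      rfl
    rw [← Scheme.Pullback.range_fst, ← h2]
    rintro _ ⟨w, rfl⟩
    exact ⟨(equalizer.lift k hk).left w, rfl⟩
  · intro hE
    have hiso : IsIso (equalizer.ι φ' ψ').left :=
      isIso_of_isOpenImmersion_of_opensRange_eq_top _ (TopologicalSpace.Opens.ext hE)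
    have hiso'' : IsIso ((Over.forget Y).map (equalizer.ι φ' ψ')) := hiso
    have hiso' : IsIso (equalizer.ι φ' ψ') :=
      isIso_of_reflects_iso (equalizer.ι φ' ψ') (Over.forget Y)
    have hφψ : φ' = ψ' := by
      rw [← cancel_epi (equalizer.ι φ' ψ')]
      exact equalizer.condition φ' ψ'
    have hleft : φ.left = ψ.left := congrArg (fun t => t.left) hφψ
    ext
    exact hleft

end Groth.Agent.Lead.FEtEq
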