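import Mathlib
import Groth.Prelude
import Groth.Agent.Helper9.TorsorTriv
import Groth.Agent.Helper8.TorsorBC

/-!
# Lead: the Néron mapping property passes between a group and its pseudo-torsors
-/

set_option autoImplicit false
set_option linter.style.haveILetI false
set_option linter.unusedSectionVars false
set_option linter.unusedVariables false

open CategoryTheory CategoryTheory.Limits MonoidalCategory CartesianMonoidalCategory MonObj
  AlgebraicGeometry

universe u

namespace Groth.Agent.Lead.NeronTors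

/-- descent of a morphism along an effective epimorphism, in `Over S` -/
theorem exists_desc {S : Scheme.{u}} {A B C : Over S} (p : A ⟶ B) [EffectiveEpi p.left] (v : A ⟶ C)
    (hv : ∀ (T : Over S) (t₁ t₂ : T ⟶ A), t₁ ≫ p = t₂ ≫ p → t₁ ≫ v = t₂ ≫ v) :
    ∃ u : B ⟶ C, p ≫ u = v := by
  have hdesc : ∀ {W : Scheme.{u}} (g₁ g₂ : W ⟶ A.left), g₁ ≫ p.left = g₂ ≫ p.left →
      g₁ ≫ v.left = g₂ ≫ v.left := by
    intro W g₁ g₂ h
    have hA : g₁ ≫ A.hom = g₂ ≫ A.hom := by
      rw [← Over.w p, ← Category.assoc, h, Category.assoc]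
    have := hv (Over.mk (g₁ ≫ A.hom)) (Over.homMk g₁ rfl) (Over.homMk g₂ hA.symm)
      (by ext; exact h)
    exact congrArg CommaMorphism.left this
  have hfac : p.left ≫ EffectiveEpi.desc p.left v.left hdesc = v.left := EffectiveEpi.fac _ _ _
  have hsec : EffectiveEpi.desc p.left v.left hdesc ≫ C.hom = B.hom := by
    rw [← cancel_epi p.left, ← Category.assoc, hfac, Over.w v, Over.w p]
  exact ⟨Over.homMk _ hsec, by ext; exact hfac⟩

section Abstract

variable {S S₀ : Scheme.{u}} (j : S₀ ⟶ S)

/-- pairing of points of restricted objects -/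
noncomputable def liftF {W : Over S₀} {B C : Over S} (x : W ⟶ (Over.pullback j).obj B)
    (y : W ⟶ (Over.pullback j).obj C) : W ⟶ (Over.pullback j).obj (B ⊗ C) :=
  lift x y ≫ Functor.LaxMonoidal.μ (Over.pullback j) B C

theorem comp_liftF {W W' : Over S₀} {B C : Over S} (f : W' ⟶ W)
    (x : W ⟶ (Over.pullback j).obj B) (y : W ⟶ (Over.pullback j).obj C) :
    f ≫ liftF j x y = liftF j (f ≫ x) (f ≫ y) := by
  unfold liftF
  rw [comp_lift_assoc]

theorem liftF_fst {W : Over S₀} {B C : Over S} (x : W ⟶ (Over.pullback j).obj B)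
    (y : W ⟶ (Over.pullback j).obj C) : liftF j x y ≫ (Over.pullback j).map (fst B C) = x := by
  unfold liftF
  rw [Category.assoc, Functor.Monoidal.μ_fst, lift_fst]

theorem liftF_snd {W : Over S₀} {B C : Over S} (x : W ⟶ (Over.pullback j).obj B)
    (y : W ⟶ (Over.pullback j).obj C) : liftF j x y ≫ (Over.pullback j).map (snd B C) = y := by
  unfold liftF
  rw [Category.assoc, Functor.Monoidal.μ_snd, lift_snd]

theorem map_lift {T B C : Over S} (f : T ⟶ B) (g : T ⟶ C) :
    (Over.pullback j).map (lift f g) =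
      liftF j ((Over.pullback j).map f) ((Over.pullback j).map g) := by
  unfold liftF
  rw [Functor.Monoidal.lift_μ]

/-- the mapping property: restriction of morphisms from smooth schemes is bijective -/
def NMP (A : Over S) : Prop :=
  ∀ Z : Over S, Smooth Z.hom → Function.Bijective (fun g : Z ⟶ A => (Over.pullback j).map g)

theorem effectiveEpi_fst (Z N : Over S) [Smooth N.hom] [Surjective N.hom] :
    EffectiveEpi (fst Z N).left := by
  have : (fst Z N).left = pullback.fst Z.hom N.hom := rfl
  rw [this]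
  infer_instance

theorem epi_fst (Z N : Over S) [Smooth N.hom] [Surjective N.hom] : Epi (fst Z N) := by
  haveI := effectiveEpi_fst Z N
  haveI : Epi (fst Z N).left := inferInstance
  exact Over.epi_of_epi_left _

theorem epi_map_fst (Z N : Over S) [Smooth N.hom] [Surjective N.hom] :
    Epi ((Over.pullback j).map (fst Z N)) := by
  have hp := Groth.Agent.Helper8.TorsorBC.isPullback_map j (fst Z N)
  have h0 : (fst Z N).left = pullback.fst Z.hom N.hom := rfl
  haveI : Flat (fst Z N).left := by rw [h0]; infer_instance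
  haveI : Surjective (fst Z N).left := by rw [h0]; infer_instance
  haveI : LocallyOfFinitePresentation (fst Z N).left := by rw [h0]; infer_instance
  haveI : Flat ((Over.pullback j).map (fst Z N)).left :=
    MorphismProperty.of_isPullback (P := @Flat) hp.flip inferInstance
  haveI : Surjective ((Over.pullback j).map (fst Z N)).left :=
    MorphismProperty.of_isPullback (P := @Surjective) hp.flip inferInstance
  haveI : LocallyOfFinitePresentation ((Over.pullback j).map (fst Z N)).left :=
    MorphismProperty.of_isPullback (P := @LocallyOfFinitePresentation) hp.flip inferInstance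
  haveI : Epi ((Over.pullback j).map (fst Z N)).left := inferInstance
  exact Over.epi_of_epi_left _

theorem smooth_tensor (Z N : Over S) [Smooth Z.hom] [Smooth N.hom] : Smooth (Z ⊗ N).hom := by
  rw [Over.tensorObj_hom]
  infer_instance

theorem nmp_transfer (A B N : Over S) [Smooth N.hom] [Surjective N.hom]
    (φ : A ⊗ N ⟶ B) (ψ : B ⊗ N ⟶ A) (h2 : lift ψ (snd B N) ≫ φ = fst B N)
    (hA : NMP j A) : NMP j B := by
  -- injectivity
  have inj : ∀ Z : Over S, Smooth Z.hom →
      Function.Injective (fun g : Z ⟶ B => (Over.pullback j).map g) := by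
    intro Z hZ u v huv
    haveI := hZ
    haveI := smooth_tensor Z N
    haveI := epi_fst Z N
    have huv' : (Over.pullback j).map u = (Over.pullback j).map v := huv
    have h3 : lift (fst Z N ≫ u) (snd Z N) ≫ ψ = lift (fst Z N ≫ v) (snd Z N) ≫ ψ := by
      apply (hA (Z ⊗ N) inferInstance).1
      show (Over.pullback j).map _ = (Over.pullback j).map _
      simp only [Functor.map_comp, map_lift]
      rw [huv']
    have h4 : ∀ w : Z ⟶ B,
        lift (lift (fst Z N ≫ w) (snd Z N) ≫ ψ) (snd Z N) ≫ φ = fst Z N ≫ w := by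
      intro w
      have : lift (lift (fst Z N ≫ w) (snd Z N) ≫ ψ) (snd Z N) =
          lift (fst Z N ≫ w) (snd Z N) ≫ lift ψ (snd B N) := by
        rw [comp_lift, lift_snd]
      rw [this, Category.assoc, h2, lift_fst]
    have h5 : fst Z N ≫ u = fst Z N ≫ v := by rw [← h4 u, ← h4 v, h3]
    exact (cancel_epi (fst Z N)).mp h5
  -- the identity on restricted points
  have hF : ∀ {W : Over S₀} (x : W ⟶ (Over.pullback j).obj B) (y : W ⟶ (Over.pullback j).obj N),
      liftF j (liftF j x y ≫ (Over.pullback j).map ψ) y ≫ (Over.pullback j).map φ = x := by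
    intro W x y
    have e1 := congrArg (fun f => (Over.pullback j).map f) h2
    simp only [Functor.map_comp, map_lift] at e1
    have e2 := congrArg (fun f => liftF j x y ≫ f) e1
    simp only [← Category.assoc, comp_liftF, liftF_fst, liftF_snd] at e2
    exact e2
  intro Z hZ
  refine ⟨inj Z hZ, ?_⟩
  intro u₀
  haveI := hZ
  haveI := smooth_tensor Z N
  haveI := epi_fst Z N
  haveI := epi_map_fst j Z N
  haveI := effectiveEpi_fst Z N
  obtain ⟨w, hw⟩ := (hA (Z ⊗ N) inferInstance).2
    (liftF j ((Over.pullback j).map (fst Z N) ≫ u₀) ((Over.pullback j).map (snd Z N)) ≫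
      (Over.pullback j).map ψ)
  have hw' : (Over.pullback j).map w =
      liftF j ((Over.pullback j).map (fst Z N) ≫ u₀) ((Over.pullback j).map (snd Z N)) ≫
        (Over.pullback j).map ψ := hw
  have hu' : (Over.pullback j).map (lift w (snd Z N) ≫ φ) =
      (Over.pullback j).map (fst Z N) ≫ u₀ := by
    rw [Functor.map_comp, map_lift, hw']
    exact hF _ _
  obtain ⟨u, hu⟩ := exists_desc (fst Z N) (lift w (snd Z N) ≫ φ) (by
    intro T t₁ t₂ ht
    haveI : Smooth (N ⊗ N).hom := smooth_tensor N N
    haveI : Smooth (Z ⊗ (N ⊗ N)).hom := smooth_tensor Z (N ⊗ N)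
    have hαβ : lift (fst Z (N ⊗ N)) (snd Z (N ⊗ N) ≫ fst N N) ≫ (lift w (snd Z N) ≫ φ) =
        lift (fst Z (N ⊗ N)) (snd Z (N ⊗ N) ≫ snd N N) ≫ (lift w (snd Z N) ≫ φ) := by
      apply inj (Z ⊗ (N ⊗ N)) inferInstance
      show (Over.pullback j).map _ = (Over.pullback j).map _
      have e : ∀ (q : Z ⊗ (N ⊗ N) ⟶ Z ⊗ N),
          (Over.pullback j).map (q ≫ (lift w (snd Z N) ≫ φ)) =
            (Over.pullback j).map (q ≫ fst Z N) ≫ u₀ := by
        intro q
        rw [Functor.map_comp, hu', ← Category.assoc, ← Functor.map_comp]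
      rw [e, e, lift_fst, lift_fst]
    have e1 : t₁ = lift (t₁ ≫ fst Z N) (lift (t₁ ≫ snd Z N) (t₂ ≫ snd Z N)) ≫
        lift (fst Z (N ⊗ N)) (snd Z (N ⊗ N) ≫ fst N N) := by
      ext <;> simp
    have e2 : t₂ = lift (t₁ ≫ fst Z N) (lift (t₁ ≫ snd Z N) (t₂ ≫ snd Z N)) ≫
        lift (fst Z (N ⊗ N)) (snd Z (N ⊗ N) ≫ snd N N) := by
      ext
      · simp [ht]
      · simp
    rw [e1, Category.assoc, hαβ, ← Category.assoc, ← e2])
  refine ⟨u, ?_⟩
  show (Over.pullback j).map u = u₀
  rw [← cancel_epi ((Over.pullback j).map (fst Z N)), ← Functor.map_comp, hu, hu']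

end Abstract

theorem main {k : Type u} [Field k] [CharZero k] {S : Scheme.{u}} (σ : S ⟶ Spec (CommRingCat.of k)) [IsLocallyNoetherian S] (S₀ : S.Opens) (hS₀ : CInt.IsSchematicallyDense S₀)
    (G : Over S) [GrpObj G] [Smooth G.hom]
    (N : Over S) [Smooth N.hom] [Surjective N.hom]
    (a : AlgGrp.Action G N) (ha : NonAbH1.IsPseudoTorsorSch a) :
    (∀ Z : Over S, Smooth Z.hom → Function.Bijective (fun g : Z ⟶ G => (Over.pullback S₀.ι).map g)) ↔
    (∀ Z : Over S, Smooth Z.hom → Function.Bijective (fun g : Z ⟶ N => (Over.pullback S₀.ι).map g)) := by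
  have hps : IsIso (lift a.act (snd G N)) := ha
  have i1 : lift (Groth.Agent.Helper9.TorsorTriv.dv a hps) (snd N N) ≫ a.act = fst N N := by
    have := Groth.Agent.Helper9.TorsorTriv.act_dv a hps (fst N N) (snd N N)
    rwa [lift_fst_snd, Category.id_comp] at this
  have i2 : lift a.act (snd G N) ≫ Groth.Agent.Helper9.TorsorTriv.dv a hps = fst G N := by
    haveI := hps
    unfold Groth.Agent.Helper9.TorsorTriv.dv
    rw [IsIso.hom_inv_id_assoc]
  constructor
  · intro h
    exact nmp_transfer S₀.ι G N N a.act (Groth.Agent.Helper9.TorsorTriv.dv a hps) i1 h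
  · intro h
    exact nmp_transfer S₀.ι N G N (Groth.Agent.Helper9.TorsorTriv.dv a hps) a.act i2 h

end Groth.Agent.Lead.NeronTors
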