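import Mathlib

set_option autoImplicit false
open CategoryTheory AlgebraicGeometry Limits
universe u

namespace Groth.Agent.Lead.GeomFibre

/-- a morphism between spectra of fields is flat and surjective -/
theorem flat_surj_of_fields {K L : Type u} [Field K] [Field L]
    (a : Spec (CommRingCat.of L) ⟶ Spec (CommRingCat.of K)) : Flat a ∧ Surjective a := by
  constructor
  · obtain ⟨φ, rfl⟩ := Spec.map_surjective a
    rw [HasRingHomProperty.Spec_iff (P := @Flat)]
    algebraize [φ.hom]
    show Module.Flat K L
    infer_instance
  · constructor
    intro z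
    have : Nonempty ↥(Spec (CommRingCat.of L)) := inferInstance
    obtain ⟨w⟩ := this
    exact ⟨w, Subsingleton.elim _ _⟩

/-- geometric properties descend along surjective base changes, provided `P` descends
along flat surjective morphisms. -/
theorem geometrically_descend (P : ObjectProperty Scheme.{u})
    (hP : ∀ {A B : Scheme.{u}} (q : A ⟶ B), Flat q → Surjective q → P A → P B)
    {X Y Y' : Scheme.{u}} (f : X ⟶ Y) (g : Y' ⟶ Y) [Surjective g]
    (h : geometrically P (pullback.snd f g)) : geometrically P f := by
  have hiso : ∀ {A B : Scheme.{u}} (e : A ≅ B), P A → P B := fun e hA =>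
    hP e.hom inferInstance inferInstance hA
  intro K _ y Z fst snd hpb
  have hs : Surjective (pullback.fst y g) := inferInstance
  obtain ⟨pt, -⟩ := (pullback.fst y g).surjective (default : Spec (CommRingCat.of K))
  let L := (pullback y g).residueField pt
  let a : Spec (CommRingCat.of L) ⟶ Spec (CommRingCat.of K) :=
    (pullback y g).fromSpecResidueField pt ≫ pullback.fst y g
  let b : Spec (CommRingCat.of L) ⟶ Y' :=
    (pullback y g).fromSpecResidueField pt ≫ pullback.snd y g
  have hab : a ≫ y = b ≫ g := by
    simp only [a, b, Category.assoc, pullback.condition]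
  have h1 : P (pullback (pullback.snd f g) b) := pullback_of_geometrically h L b
  have h2 : P (pullback f (b ≫ g)) := hiso (pullbackLeftPullbackSndIso f g b) h1
  rw [← hab] at h2
  have h3 : P (pullback (pullback.snd f y) a) := hiso (pullbackLeftPullbackSndIso f y a).symm h2
  obtain ⟨hfa, hsa⟩ := flat_surj_of_fields a
  have h5 : P (pullback f y) :=
    hP (pullback.fst (pullback.snd f y) a) inferInstance inferInstance h3
  exact hiso hpb.isoPullback.symm h5

/-- the locus of geometrically-`P` fibres commutes with base change -/
theorem fibre_iff (P : ObjectProperty Scheme.{u})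
    (hP : ∀ {A B : Scheme.{u}} (q : A ⟶ B), Flat q → Surjective q → P A → P B)
    {X Y X' Y' : Scheme.{u}} (f : X ⟶ Y) (g : Y' ⟶ Y) (f' : X' ⟶ Y') (g' : X' ⟶ X)
    (hc : IsPullback g' f' f g) (y' : Y') :
    geometrically P (f'.fiberToSpecResidueField y') ↔
      geometrically P (f.fiberToSpecResidueField (g y')) := by
  have hpb := isPullback_fiberToSpecResidueField_of_isPullback hc y'
  constructor
  · intro h
    have hs := (flat_surj_of_fields (Spec.map (g.residueFieldMap y'))).2
    apply geometrically_descend P hP (f.fiberToSpecResidueField (g y'))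
      (Spec.map (g.residueFieldMap y'))
    have sq : IsPullback hpb.isoPullback.inv
        (pullback.snd (f.fiberToSpecResidueField (g y')) (Spec.map (g.residueFieldMap y')))
        (f'.fiberToSpecResidueField y') (𝟙 _) :=
      IsPullback.of_horiz_isIso ⟨by rw [IsPullback.isoPullback_inv_snd, Category.comp_id]; rfl⟩
    exact MorphismProperty.of_isPullback sq h
  · intro h
    exact MorphismProperty.of_isPullback hpb h

theorem isReduced_descend {A B : Scheme.{u}} (q : A ⟶ B) (hq : Flat q) (hs : Surjective q)
    (hA : IsReduced A) : IsReduced B := by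
  apply (config := { allowSynthFailures := true }) isReduced_of_isReduced_stalk
  intro b
  obtain ⟨a, rfl⟩ := q.surjective b
  have hfl : (q.stalkMap a).hom.Flat := Flat.stalkMap q a
  have hinj : Function.Injective (q.stalkMap a).hom := by
    algebraize [(q.stalkMap a).hom]
    have : IsLocalHom (algebraMap (B.presheaf.stalk (q a)) (A.presheaf.stalk a)) :=
      inferInstanceAs (IsLocalHom (q.stalkMap a).hom)
    have : Module.FaithfullyFlat (B.presheaf.stalk (q a)) (A.presheaf.stalk a) :=
      Module.FaithfullyFlat.of_flat_of_isLocalHom
    exact FaithfulSMul.algebraMap_injective _ _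
  exact isReduced_of_injective _ hinj

end Groth.Agent.Lead.GeomFibre
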