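import Mathlib
import Groth.Prelude.Def_HTop

set_option autoImplicit false
universe w u
open CategoryTheory CategoryTheory.Limits AlgebraicGeometry

namespace Groth.Agent.Lead.HCov

open IsLocalRing

/-- valuation rings lift along proper surjective morphisms after extension -/
theorem exists_lift_of_proper_surjective {T U : Scheme.{u}} (f : U ⟶ T) [UniversallyClosed f]
    [Surjective f] (V : CommRingCat.{u}) [IsDomain V] [ValuationRing V] (g : Spec V ⟶ T) :
    ∃ (W : CommRingCat.{u}) (_ : IsDomain W) (_ : ValuationRing W) (φ : V ⟶ W),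
      HTop.IsExtVal V W φ ∧ ∃ ℓ : Spec W ⟶ U, ℓ ≫ f = Spec.map φ ≫ g := by
  let K := FractionRing V
  let iK : Spec (CommRingCat.of K) ⟶ Spec V := Spec.map (CommRingCat.ofHom (algebraMap V K))
  haveI : Surjective (pullback.fst (iK ≫ g) f) := inferInstance
  obtain ⟨z, -⟩ := (pullback.fst (iK ≫ g) f).surjective (closedPoint K)
  let P := pullback (iK ≫ g) f
  let L := P.residueField z
  let a : Spec L ⟶ Spec (CommRingCat.of K) := P.fromSpecResidueField z ≫ pullback.fst (iK ≫ g) f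
  let b : Spec L ⟶ U := P.fromSpecResidueField z ≫ pullback.snd (iK ≫ g) f
  have hab : b ≫ f = a ≫ iK ≫ g := by
    simp only [a, b, Category.assoc]
    rw [← pullback.condition]
  let θ : CommRingCat.of K ⟶ L := Spec.preimage a
  have hθ : Spec.map θ = a := Spec.map_preimage a
  let ρ : V →+* L := θ.hom.comp (algebraMap V K)
  have hρinj : Function.Injective ρ :=
    (RingHom.injective θ.hom).comp (IsFractionRing.injective V K)
  obtain ⟨A, hA, hloc⟩ := IsLocalRing.exists_factor_valuationRing ρ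
  let φ : V ⟶ CommRingCat.of A := CommRingCat.ofHom (ρ.codRestrict A.toSubring hA)
  refine ⟨CommRingCat.of A, inferInstance, inferInstance, φ, ⟨?_, hloc⟩, ?_⟩
  · intro x y hxy
    apply hρinj
    have := congrArg (fun t : A => (t : L)) hxy
    exact this
  · have hρ : CommRingCat.ofHom ρ = φ ≫ CommRingCat.ofHom (algebraMap A L) := by
      ext x; rfl
    have hsq : b ≫ f = Spec.map (CommRingCat.ofHom (algebraMap A L)) ≫ (Spec.map φ ≫ g) := by
      rw [hab, ← hθ, ← Category.assoc, ← Category.assoc, ← Spec.map_comp, ← Spec.map_comp]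
      congr 2
    have hex : (ValuativeCriterion.Existence ⊓ @QuasiCompact) f := by
      rw [← UniversallyClosed.eq_valuativeCriterion]; infer_instance
    let Sq : ValuativeCommSq f :=
      { R := A, K := L, i₁ := b, i₂ := Spec.map φ ≫ g, commSq := ⟨hsq⟩ }
    obtain ⟨⟨ℓ, -, hℓ⟩⟩ := (hex.1 Sq).exists_lift
    exact ⟨ℓ, hℓ⟩

/-- a morphism from a local scheme lands in any open containing the image of the closed point -/
theorem range_subset_of_closedPoint_mem {U : Scheme.{u}} (W : CommRingCat.{u}) [IsLocalRing W]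
    (ℓ : Spec W ⟶ U) (O : Set U) (hO : IsOpen O) (h : ℓ (closedPoint W) ∈ O) :
    Set.range ℓ ⊆ O := by
  rintro _ ⟨p, rfl⟩
  have hsp : p ⤳ closedPoint W := IsLocalRing.specializes_closedPoint p
  exact (hsp.map ℓ.continuous).mem_open hO h

theorem isStandardV_of_isStandardPh {T : Scheme.{u}} (E : PreZeroHypercover.{w} T)
    (hE : HTop.IsStandardPh E) : HTop.IsStandardV E := by
  obtain ⟨hT, hfin, haff, U, f, ι, hprop, hsurj, hopen, hfac, hcov⟩ := hE
  refine ⟨hT, hfin, haff, ?_⟩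
  intro V _ _ g
  haveI := hprop
  haveI := hsurj
  obtain ⟨W, hW1, hW2, φ, hφ, ℓ, hℓ⟩ := exists_lift_of_proper_surjective f V g
  obtain ⟨j, hj⟩ := hcov (ℓ (closedPoint W))
  haveI := hopen j
  have hrange : Set.range ℓ ⊆ Set.range (ι j) :=
    range_subset_of_closedPoint_mem W ℓ _ (ι j).isOpenEmbedding.isOpen_range hj
  refine ⟨W, hW1, hW2, φ, hφ, j, IsOpenImmersion.lift (ι j) ℓ hrange, ?_⟩
  rw [← hfac j, ← Category.assoc, IsOpenImmersion.lift_fac, hℓ]

/-- over an affine base, a proper surjective morphism is refined by a standard ph covering -/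
theorem exists_isStandardPh_of_proper_surjective {T Z : Scheme.{u}} [IsAffine T] (p : Z ⟶ T)
    [IsProper p] [Surjective p] :
    ∃ F : PreZeroHypercover.{0} T, HTop.IsStandardPh F ∧
      ∀ k : F.I₀, ∃ h : F.X k ⟶ Z, h ≫ p = F.f k := by
  haveI : CompactSpace Z := by
    have : CompactSpace T := inferInstance
    exact QuasiCompact.compactSpace_of_compactSpace p
  let 𝒰 : Z.OpenCover := Z.affineCover.finiteSubcover
  haveI : Finite 𝒰.I₀ := Finite.of_fintype _
  let n := Nat.card 𝒰.I₀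
  let e : Fin n ≃ 𝒰.I₀ := (Finite.equivFin 𝒰.I₀).symm
  refine ⟨{ I₀ := Fin n, X := fun k => 𝒰.X (e k), f := fun k => 𝒰.f (e k) ≫ p }, ?_, ?_⟩
  · refine ⟨inferInstance, inferInstanceAs (Finite (Fin n)), ?_, ?_⟩
    · intro k
      exact inferInstanceAs (IsAffine (Z.affineCover.X _))
    · refine ⟨Z, p, fun k => 𝒰.f (e k), inferInstance, inferInstance, ?_, fun k => rfl, ?_⟩
      · intro k; exact inferInstanceAs (IsOpenImmersion (𝒰.f (e k)))
      · intro x
        obtain ⟨i, y, hy⟩ := 𝒰.exists_eq x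
        obtain ⟨k, rfl⟩ := e.surjective i
        exact ⟨k, y, hy⟩
  · intro k
    exact ⟨𝒰.f (e k), rfl⟩

theorem exists_refinement_of_proper_surjective {X Y : Scheme.{u}} (f : Y ⟶ X) [IsProper f]
    [Surjective f] (U : X.affineOpens) :
    ∃ F : PreZeroHypercover.{0} ((U : X.Opens) : Scheme.{u}), HTop.IsStandardPh F ∧
      HTop.RefinesOver (U : X.Opens).ι F (PreZeroHypercover.singleton.{w} f) := by
  haveI : IsAffine ((U : X.Opens) : Scheme.{u}) := U.2
  haveI : IsProper (f ∣_ U.1) := inferInstance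
  haveI : Surjective (f ∣_ U.1) := IsZariskiLocalAtTarget.restrict ‹Surjective f› U.1
  obtain ⟨F, hF, hh⟩ := exists_isStandardPh_of_proper_surjective (f ∣_ U.1)
  refine ⟨F, hF, fun k => ?_⟩
  obtain ⟨h, hk⟩ := hh k
  refine ⟨PUnit.unit, h ≫ (f ⁻¹ᵁ U.1).ι, ?_⟩
  show (h ≫ (f ⁻¹ᵁ U.1).ι) ≫ f = F.f k ≫ U.1.ι
  rw [Category.assoc, ← morphismRestrict_ι, ← Category.assoc, hk]

theorem isPhCover_singleton {X Y : Scheme.{u}} (f : Y ⟶ X) [IsProper f] [Surjective f] :
    HTop.IsPhCover (PreZeroHypercover.singleton.{w} f) :=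
  ⟨fun _ => inferInstanceAs (LocallyOfFiniteType f),
    fun U => exists_refinement_of_proper_surjective f U⟩

theorem isVCover_singleton {X Y : Scheme.{u}} (f : Y ⟶ X) [IsProper f] [Surjective f] :
    HTop.IsVCover (PreZeroHypercover.singleton.{w} f) := by
  intro U
  obtain ⟨F, hF, hr⟩ := exists_refinement_of_proper_surjective.{w} f U
  exact ⟨F, isStandardV_of_isStandardPh F hF, hr⟩

theorem isHCover_singleton {X Y : Scheme.{u}} (f : Y ⟶ X) [IsProper f] [Surjective f]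
    [LocallyOfFinitePresentation f] :
    HTop.IsHCover (PreZeroHypercover.singleton.{w} f) :=
  ⟨fun _ => inferInstanceAs (LocallyOfFinitePresentation f), isVCover_singleton f⟩

section sheaf

universe v₁ u₁ w₁

theorem map_bijective_of_mono_of_mem {C : Type u₁} [Category.{v₁} C] (J : GrothendieckTopology C)
    (P : Cᵒᵖ ⥤ Type w₁) (hP : Presieve.IsSheaf J P) {X Y : C} (f : X ⟶ Y) [Mono f]
    (hf : Sieve.generate (Presieve.singleton f) ∈ J Y) : Function.Bijective (P.map f.op) := by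
  have hsh : Presieve.IsSheafFor P (Presieve.singleton f) := by
    rw [Presieve.isSheafFor_iff_generate]
    exact hP _ hf
  rw [Presieve.isSheafFor_singleton] at hsh
  constructor
  · intro s t hst
    obtain ⟨y, hy, huniq⟩ := hsh (P.map f.op s) (fun p₁ p₂ h => by rw [(cancel_mono f).mp h])
    rw [huniq s rfl, huniq t hst.symm]
  · intro x
    obtain ⟨y, hy, -⟩ := hsh x (fun p₁ p₂ h => by rw [(cancel_mono f).mp h])
    exact ⟨y, hy⟩

theorem generate_singleton_mem_over {C : Type u₁} [Category.{v₁} C] (K : Precoverage C) {S : C}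
    {X X' : Over S} (f : X ⟶ X') (h : Presieve.singleton f.left ∈ K X'.left) :
    Sieve.generate (Presieve.singleton f) ∈ (K.toGrothendieck.over S) X' := by
  rw [GrothendieckTopology.mem_over_iff, Sieve.overEquiv_generate]
  refine K.toGrothendieck.superset_covering ?_ (Precoverage.generate_mem_toGrothendieck h)
  rw [Sieve.generate_le_iff]
  rintro Z g ⟨⟩
  apply Sieve.le_generate
  exact ⟨X, f, 𝟙 _, Presieve.singleton_self f, by simp⟩

end sheaf

/-- finite affine refinement of `U' ∩ g⁻¹(affine opens)` -/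
theorem exists_finite_affine_refinement {T T' : Scheme.{u}} (g : T' ⟶ T) (U' : T'.affineOpens) :
    ∃ (m : ℕ) (A : Fin m → T'.affineOpens) (B : Fin m → T.affineOpens),
      (∀ a, (A a).1 ≤ U'.1) ∧ (∀ a, (A a).1 ≤ g ⁻¹ᵁ (B a).1) ∧
      (U'.1 : Set T') ⊆ ⋃ a, ((A a).1 : Set T') := by
  have h1 : ∀ x ∈ (U'.1 : Set T'), ∃ (A : T'.affineOpens) (B : T.affineOpens),
      x ∈ A.1 ∧ A.1 ≤ U'.1 ∧ A.1 ≤ g ⁻¹ᵁ B.1 := by
    intro x hx
    obtain ⟨V, hV, hxV, -⟩ := exists_isAffineOpen_mem_and_subset (x := g x) (U := ⊤) trivial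
    obtain ⟨W, hW, hxW, hWle⟩ :=
      exists_isAffineOpen_mem_and_subset (x := x) (U := U'.1 ⊓ g ⁻¹ᵁ V) ⟨hx, hxV⟩
    exact ⟨⟨W, hW⟩, ⟨V, hV⟩, hxW, hWle.trans inf_le_left, hWle.trans inf_le_right⟩
  choose A B hA1 hA2 hA3 using h1
  obtain ⟨t, ht⟩ := U'.2.isCompact.elim_nhds_subcover' (fun x hx => ((A x hx).1 : Set T'))
    (fun x hx => (A x hx).1.2.mem_nhds (hA1 x hx))
  let e : Fin t.card ≃ t := t.equivFin.symm
  refine ⟨t.card, fun a => A (e a).1.1 (e a).1.2, fun a => B (e a).1.1 (e a).1.2,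
    fun a => hA2 _ (e a).1.2, fun a => hA3 _ (e a).1.2, ?_⟩
  intro x hx
  obtain ⟨y, hy⟩ := Set.mem_iUnion.mp (ht hx)
  obtain ⟨hyt, hxy⟩ := Set.mem_iUnion.mp hy
  obtain ⟨a, ha⟩ := e.surjective ⟨y, hyt⟩
  refine Set.mem_iUnion.mpr ⟨a, ?_⟩
  have key : ∀ z : t, z = ⟨y, hyt⟩ → x ∈ ((A z.1.1 z.1.2).1 : Set T') := by
    rintro _ rfl; exact hxy
  exact key (e a) ha

/-- standard V coverings glue along a finite open cover of an affine scheme -/
theorem isStandardV_of_local {Y : Scheme.{u}} [IsAffine Y] (m : ℕ) (Z : Fin m → Scheme.{u})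
    (j : ∀ a, Z a ⟶ Y) [∀ a, IsOpenImmersion (j a)] (hcov : ∀ y : Y, ∃ a, y ∈ Set.range (j a))
    (G : ∀ a, PreZeroHypercover.{0} (Z a)) (hG : ∀ a, HTop.IsStandardV (G a)) :
    HTop.IsStandardV
      ({ I₀ := Σ a : Fin m, (G a).I₀, X := fun p => (G p.1).X p.2,
         f := fun p => (G p.1).f p.2 ≫ j p.1 } : PreZeroHypercover.{0} Y) := by
  haveI : ∀ a, Finite (G a).I₀ := fun a => (hG a).finite_index
  refine ⟨inferInstance, inferInstanceAs (Finite (Σ a : Fin m, (G a).I₀)), ?_, ?_⟩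
  · rintro ⟨a, k⟩
    exact (hG a).isAffine_obj k
  · intro V _ _ h
    obtain ⟨a, ha⟩ := hcov (h (closedPoint V))
    have hrange : Set.range h ⊆ Set.range (j a) :=
      range_subset_of_closedPoint_mem V h _ (j a).isOpenEmbedding.isOpen_range ha
    let h_a : Spec V ⟶ Z a := IsOpenImmersion.lift (j a) h hrange
    have hh : h_a ≫ j a = h := IsOpenImmersion.lift_fac _ _ _
    obtain ⟨W, hW1, hW2, φ, hφ, k, g', hg'⟩ := (hG a).lift V h_a
    refine ⟨W, hW1, hW2, φ, hφ, ⟨a, k⟩, g', ?_⟩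
    show g' ≫ ((G a).f k ≫ j a) = _
    rw [← Category.assoc, hg', Category.assoc, hh]

theorem isStandardV_pullback {T T' : Scheme.{u}} [IsAffine T'] (g : T' ⟶ T)
    (E : PreZeroHypercover.{w} T) (hE : HTop.IsStandardV E) :
    HTop.IsStandardV (E.pullback₁ g) := by
  obtain ⟨hT, hfin, haff, hlift⟩ := hE
  haveI := hT
  refine ⟨inferInstance, hfin, ?_, ?_⟩
  · intro j
    haveI := haff j
    exact inferInstanceAs (IsAffine (pullback g (E.f j)))
  · intro V _ _ h
    obtain ⟨W, hW1, hW2, φ, hφ, j, g', hg'⟩ := hlift V (h ≫ g)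
    refine ⟨W, hW1, hW2, φ, hφ, j, pullback.lift (Spec.map φ ≫ h) g' ?_, ?_⟩
    · rw [hg', Category.assoc]
    · exact pullback.lift_fst _ _ _

theorem isVCover_pullback {T T' : Scheme.{u}} (g : T' ⟶ T) (E : PreZeroHypercover.{w} T)
    (hE : HTop.IsVCover E) : HTop.IsVCover (E.pullback₁ g) := by
  intro U'
  obtain ⟨m, A, B, hAU, hAB, hcov⟩ := exists_finite_affine_refinement g U'
  choose F hF hFr using fun a => hE (B a)
  let ga : ∀ a, ((A a).1 : Scheme.{u}) ⟶ ((B a).1 : Scheme.{u}) :=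
    fun a => g.resLE (B a).1 (A a).1 (hAB a)
  haveI : ∀ a, IsAffine ((A a).1 : Scheme.{u}) := fun a => (A a).2
  let G : ∀ a, PreZeroHypercover.{0} ((A a).1 : Scheme.{u}) := fun a => (F a).pullback₁ (ga a)
  have hG : ∀ a, HTop.IsStandardV (G a) := fun a => isStandardV_pullback (ga a) (F a) (hF a)
  haveI : IsAffine (U'.1 : Scheme.{u}) := U'.2
  let j : ∀ a, ((A a).1 : Scheme.{u}) ⟶ (U'.1 : Scheme.{u}) := fun a => T'.homOfLE (hAU a)
  have hjcov : ∀ y : (U'.1 : Scheme.{u}), ∃ a, y ∈ Set.range (j a) := by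
    intro y
    obtain ⟨a, ha⟩ := Set.mem_iUnion.mp (hcov y.2)
    refine ⟨a, ⟨⟨y.1, ha⟩, ?_⟩⟩
    apply U'.1.ι.injective
    rw [← Scheme.Hom.comp_apply, Scheme.homOfLE_ι]
    rfl
  have hj : ∀ a, j a ≫ U'.1.ι = (A a).1.ι := fun a => Scheme.homOfLE_ι _ _
  have hga : ∀ a, ga a ≫ (B a).1.ι = (A a).1.ι ≫ g :=
    fun a => Scheme.Hom.resLE_comp_ι g (hAB a)
  refine ⟨_, isStandardV_of_local m _ j hjcov G hG, ?_⟩
  rintro ⟨a, k⟩
  obtain ⟨i, r, hr⟩ := hFr a k
  have c1 : (pullback.fst (ga a) ((F a).f k) ≫ j a ≫ U'.1.ι) ≫ g =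
      (pullback.snd (ga a) ((F a).f k) ≫ r) ≫ E.f i := by
    calc (pullback.fst (ga a) ((F a).f k) ≫ j a ≫ U'.1.ι) ≫ g
        = pullback.fst (ga a) ((F a).f k) ≫ ((A a).1.ι ≫ g) := by
          rw [Category.assoc, Category.assoc, ← Category.assoc (j a), hj]
      _ = pullback.fst (ga a) ((F a).f k) ≫ (ga a ≫ (B a).1.ι) := by rw [hga]
      _ = (pullback.snd (ga a) ((F a).f k) ≫ (F a).f k) ≫ (B a).1.ι := by
          rw [← Category.assoc, pullback.condition]
      _ = (pullback.snd (ga a) ((F a).f k) ≫ r) ≫ E.f i := by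
          rw [Category.assoc, ← hr, Category.assoc]
  refine ⟨i, pullback.lift (pullback.fst (ga a) ((F a).f k) ≫ j a ≫ U'.1.ι)
    (pullback.snd (ga a) ((F a).f k) ≫ r) c1, ?_⟩
  exact (pullback.lift_fst _ _ _).trans (Category.assoc _ _ _).symm

theorem isStandardV_bind {T : Scheme.{u}} (E : PreZeroHypercover.{w} T)
    (hE : HTop.IsStandardV E) (F : ∀ j, PreZeroHypercover.{w} (E.X j))
    (hF : ∀ j, HTop.IsStandardV (F j)) : HTop.IsStandardV (E.bind F) := by
  obtain ⟨hT, hfin, haff, hlift⟩ := hE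
  haveI := hfin
  haveI : ∀ j, Finite (F j).I₀ := fun j => (hF j).finite_index
  refine ⟨hT, ?_, ?_, ?_⟩
  · exact inferInstanceAs (Finite (Σ (i : E.I₀), (F i).I₀))
  · rintro ⟨j, k⟩
    exact (hF j).isAffine_obj k
  · intro V _ _ g
    obtain ⟨W, hW1, hW2, φ, ⟨hφ1, hφ2⟩, j, g', hg'⟩ := hlift V g
    obtain ⟨W', hW'1, hW'2, ψ, ⟨hψ1, hψ2⟩, k, g'', hg''⟩ := (hF j).lift W g'
    refine ⟨W', hW'1, hW'2, φ ≫ ψ, ⟨?_, ?_⟩, ⟨j, k⟩, g'', ?_⟩
    · rw [CommRingCat.hom_comp]
      exact hψ1.comp hφ1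
    · rw [CommRingCat.hom_comp]
      exact RingHom.isLocalHom_comp _ _
    · show g'' ≫ ((F j).f k ≫ E.f j) = _
      rw [← Category.assoc, hg'', Category.assoc, hg', Spec.map_comp, Category.assoc]

/-- on an affine scheme a V covering is refined by a standard V covering -/
theorem exists_isStandardV_of_isVCover {Y : Scheme.{u}} [IsAffine Y] (E : PreZeroHypercover.{w} Y)
    (hE : HTop.IsVCover E) :
    ∃ H : PreZeroHypercover.{0} Y, HTop.IsStandardV H ∧ HTop.RefinesOver (𝟙 Y) H E := by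
  obtain ⟨H', hH', hr⟩ := hE ⟨⊤, isAffineOpen_top Y⟩
  refine ⟨_, isStandardV_of_local 1 (fun _ => ((⊤ : Y.Opens) : Scheme.{u}))
    (fun _ => (⊤ : Y.Opens).ι) (fun y => ⟨0, ⟨⟨y, trivial⟩, rfl⟩⟩) (fun _ => H') (fun _ => hH'), ?_⟩
  rintro ⟨a, k⟩
  obtain ⟨i, h, hh⟩ := hr k
  exact ⟨i, h, by rw [Category.comp_id]; exact hh⟩

theorem refinesOver_pullback₁ {Y Z : Scheme.{u}} (h : Y ⟶ Z) (F : PreZeroHypercover.{w} Z)
    {Y' : Scheme.{u}} (g : Y' ⟶ Y) (H : PreZeroHypercover.{0} Y')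
    (hr : HTop.RefinesOver g H (F.pullback₁ h)) (k : H.I₀) :
    ∃ (l : F.I₀) (r : H.X k ⟶ pullback h (F.f l)), r ≫ pullback.fst h (F.f l) = H.f k ≫ g :=
  hr k

theorem isVCover_bind {T : Scheme.{u}} (E : PreZeroHypercover.{w} T) (hE : HTop.IsVCover E)
    (F : ∀ i, PreZeroHypercover.{w} (E.X i)) (hF : ∀ i, HTop.IsVCover (F i)) :
    HTop.IsVCover (E.bind F) := by
  intro U
  obtain ⟨G, hG, hGr⟩ := hE U
  choose i h hh using hGr
  haveI : ∀ j, IsAffine (G.X j) := hG.isAffine_obj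
  have key : ∀ j, ∃ H : PreZeroHypercover.{0} (G.X j), HTop.IsStandardV H ∧
      HTop.RefinesOver (𝟙 _) H ((F (i j)).pullback₁ (h j)) :=
    fun j => exists_isStandardV_of_isVCover _ (isVCover_pullback (h j) (F (i j)) (hF (i j)))
  choose H hH hHr using key
  refine ⟨G.bind H, isStandardV_bind G hG H hH, ?_⟩
  rintro ⟨j, k⟩
  obtain ⟨l, r, hr⟩ := refinesOver_pullback₁ (h j) (F (i j)) (𝟙 _) (H j) (hHr j) k
  refine ⟨⟨i j, l⟩, r ≫ pullback.snd (h j) ((F (i j)).f l), ?_⟩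
  have hr' : r ≫ pullback.fst (h j) ((F (i j)).f l) = (H j).f k := by
    rw [← Category.comp_id ((H j).f k)]; exact hr
  show (r ≫ pullback.snd (h j) ((F (i j)).f l)) ≫ ((F (i j)).f l ≫ E.f (i j)) =
    ((H j).f k ≫ G.f j) ≫ U.1.ι
  calc (r ≫ pullback.snd (h j) ((F (i j)).f l)) ≫ ((F (i j)).f l ≫ E.f (i j))
      = r ≫ (pullback.snd (h j) ((F (i j)).f l) ≫ (F (i j)).f l) ≫ E.f (i j) := by
        simp only [Category.assoc]
    _ = r ≫ (pullback.fst (h j) ((F (i j)).f l) ≫ h j) ≫ E.f (i j) := by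
        rw [pullback.condition]
    _ = (r ≫ pullback.fst (h j) ((F (i j)).f l)) ≫ (h j ≫ E.f (i j)) := by
        simp only [Category.assoc]
    _ = ((H j).f k ≫ G.f j) ≫ U.1.ι := by rw [hr', hh j, Category.assoc]

theorem isStandardPh_pullback {T T' : Scheme.{u}} [IsAffine T'] (g : T' ⟶ T)
    (E : PreZeroHypercover.{w} T) (hE : HTop.IsStandardPh E) :
    HTop.IsStandardPh (E.pullback₁ g) := by
  obtain ⟨hT, hfin, haff, U, f, ι, hprop, hsurj, hopen, hfac, hcov⟩ := hE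
  haveI := hT
  haveI := hprop
  haveI := hsurj
  refine ⟨inferInstance, hfin, ?_, ?_⟩
  · intro j
    haveI := haff j
    exact inferInstanceAs (IsAffine (pullback g (E.f j)))
  · refine ⟨pullback g f, pullback.fst g f,
      fun j => pullback.map g (E.f j) g f (𝟙 _) (ι j) (𝟙 _) (by simp)
        (by rw [Category.comp_id, hfac j]),
      inferInstance, inferInstance, ?_, ?_, ?_⟩
    · intro j
      haveI := hopen j
      exact Scheme.pullback_map_isOpenImmersion g (E.f j) g f (𝟙 _) (ι j) (𝟙 _) _ _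
    · intro j
      exact (pullback.lift_fst _ _ _).trans (Category.comp_id _)
    · intro x
      obtain ⟨j, hj⟩ := hcov (pullback.snd g f x)
      refine ⟨j, ?_⟩
      show x ∈ Set.range (pullback.map g (E.f j) g f (𝟙 _) (ι j) (𝟙 _) _ _)
      rw [Scheme.Pullback.range_map]
      exact ⟨⟨pullback.fst g f x, rfl⟩, hj⟩

end Groth.Agent.Lead.HCov
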