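import Mathlib
import Groth.Agent.Lead.SchDescent
universe u
open CategoryTheory Limits MorphismProperty AlgebraicGeometry

namespace Groth.Agent.Lead.SchDescent4
open Groth.Agent.Lead.SchDescent

instance descendsAlong_isClosedImmersion_fppf :
    DescendsAlong @IsClosedImmersion
      (@Surjective ⊓ @Flat ⊓ @LocallyOfFinitePresentation : MorphismProperty Scheme.{u}) :=
  inferInstance

lemma range_fst_of_isPullback {A X Y Z : Scheme.{u}} {fst : A ⟶ X} {snd : A ⟶ Y} {f : X ⟶ Z}
    {g : Y ⟶ Z} (h : IsPullback fst snd f g) : Set.range fst = f ⁻¹' Set.range g := by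
  rw [← Scheme.Pullback.range_fst, ← h.isoPullback_hom_fst]
  simp only [Scheme.Hom.comp_base, TopCat.hom_comp, ContinuousMap.coe_comp]
  rw [Set.range_comp, Set.range_eq_univ.mpr h.isoPullback.hom.surjective, Set.image_univ]

set_option backward.isDefEq.respectTransparency.types false in
theorem immersion_descend_fppf {A X Y Z : Scheme.{u}} {fst : A ⟶ X} {snd : A ⟶ Y} {f : X ⟶ Z}
    {g : Y ⟶ Z} (h : IsPullback fst snd f g)
    (hf : (@Surjective ⊓ @Flat ⊓ @LocallyOfFinitePresentation : MorphismProperty Scheme.{u}) f)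
    (hfst : IsImmersion fst) : IsImmersion g := by
  have : Surjective f := hf.1.1
  have : Flat f := hf.1.2
  have : LocallyOfFinitePresentation f := hf.2
  have hopen : IsOpenMap f := f.isOpenMap
  have hrange : Set.range fst = f ⁻¹' Set.range g := range_fst_of_isPullback h
  have hcob : f ⁻¹' (coborder (Set.range g)) = coborder (Set.range fst) := by
    rw [hrange, coborder_preimage hopen f.continuous]
  have hopenU : IsOpen (coborder (Set.range g)) := by
    have hq : Topology.IsQuotientMap f := hopen.isQuotientMap f.continuous f.surjective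
    rw [← hq.isOpen_preimage, hcob]
    exact fst.isLocallyClosed_range.isOpen_coborder
  let U : Z.Opens := ⟨_, hopenU⟩
  let g₀ : Y ⟶ U := IsOpenImmersion.lift U.ι g (by simpa [U] using! subset_coborder)
  have hg₀ : g₀ ≫ U.ι = g := IsOpenImmersion.lift_fac _ _ _
  have hsub : Set.range fst ⊆ Set.range (f ⁻¹ᵁ U).ι := by
    rw [Scheme.Opens.range_ι]
    change Set.range fst ⊆ f ⁻¹' (coborder (Set.range g))
    rw [hcob]
    exact subset_coborder
  let l : A ⟶ f ⁻¹ᵁ U := IsOpenImmersion.lift (f ⁻¹ᵁ U).ι fst hsub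
  have hl : l ≫ (f ⁻¹ᵁ U).ι = fst := IsOpenImmersion.lift_fac _ _ _
  have comm : l ≫ (f ∣_ U) = snd ≫ g₀ := by
    rw [← cancel_mono U.ι, Category.assoc, Category.assoc, morphismRestrict_ι, reassoc_of% hl, hg₀,
      h.w]
  have sq : IsPullback l snd (f ∣_ U) g₀ :=
    IsPullback.of_right (by rw [hl, hg₀]; exact h) comm (isPullback_morphismRestrict f U).flip
  have hpre : IsPreimmersion (l ≫ (f ⁻¹ᵁ U).ι) := by rw [hl]; infer_instance
  have : IsPreimmersion l := .of_comp l (f ⁻¹ᵁ U).ι
  have hlrange : Set.range l = (f ⁻¹ᵁ U).ι ⁻¹' (Set.range fst) := by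
    ext x
    constructor
    · rintro ⟨a, rfl⟩
      exact ⟨a, by rw [← hl]; rfl⟩
    · rintro ⟨a, ha⟩
      refine ⟨a, (f ⁻¹ᵁ U).ι.isEmbedding.injective ?_⟩
      rw [← ha, ← hl]; rfl
  have hclosed : IsClosed (Set.range l) := by
    rw [hlrange, ← closure_inter_coborder (s := Set.range fst), Set.preimage_inter]
    have : (f ⁻¹ᵁ U).ι ⁻¹' (coborder (Set.range fst)) = Set.univ := by
      rw [← hcob, Set.eq_univ_iff_forall]
      intro x
      exact x.2
    rw [this, Set.inter_univ]
    exact isClosed_closure.preimage (f ⁻¹ᵁ U).ι.continuous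
  have hlci : IsClosedImmersion l := .of_isPreimmersion _ hclosed
  have hQ : (@Surjective ⊓ @Flat ⊓ @LocallyOfFinitePresentation : MorphismProperty Scheme.{u})
      (f ∣_ U) := ⟨⟨MorphismProperty.of_isPullback (P := @Surjective)
        (isPullback_morphismRestrict f U).flip ‹_›, inferInstance⟩, inferInstance⟩
  have : IsClosedImmersion g₀ :=
    of_isPullback_of_descendsAlong (P := @IsClosedImmersion)
      (Q := (@Surjective ⊓ @Flat ⊓ @LocallyOfFinitePresentation : MorphismProperty Scheme.{u}))
      sq hQ hlci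
  rw [← hg₀]
  infer_instance

instance descendsAlong_isImmersion_fppf :
    DescendsAlong (@IsImmersion : MorphismProperty Scheme.{u})
      (@Surjective ⊓ @Flat ⊓ @LocallyOfFinitePresentation : MorphismProperty Scheme.{u}) where
  of_isPullback h hf hfst := immersion_descend_fppf h hf hfst

end Groth.Agent.Lead.SchDescent4
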