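import Mathlib
import Groth.Prelude.Def_CInt
import Groth.Agent.Lead.SchDense

set_option autoImplicit false
universe u
open CategoryTheory CategoryTheory.Limits AlgebraicGeometry TopologicalSpace Opposite

namespace Groth.Agent.Lead.SecOpenImm

open Groth.Agent.Lead.SchDense

variable {E S : Scheme.{u}}

/-- two morphisms to an affine scheme which agree on an open `W'` with injective restriction of
functions are equal -/
theorem eq_of_eq_on_dense {Y : Scheme.{u}} [IsAffine Y] {W W' : E.Opens} (hle : W' ≤ W)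
    (hinj : Function.Injective (E.presheaf.map (homOfLE hle).op))
    (a b : (W : Scheme.{u}) ⟶ Y) (h : E.homOfLE hle ≫ a = E.homOfLE hle ≫ b) : a = b := by
  apply ext_of_isAffine
  have h1 := congrArg Scheme.Hom.appTop h
  rw [Scheme.Hom.comp_appTop, Scheme.Hom.comp_appTop] at h1
  have hinj' : Function.Injective (E.homOfLE hle).appTop := by
    rw [Scheme.homOfLE_appTop]
    have e1 : W.ι ''ᵁ ⊤ = W := by
      rw [Scheme.Hom.image_top_eq_opensRange, Scheme.Opens.opensRange_ι]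
    have e2 : W'.ι ''ᵁ (E.homOfLE hle ⁻¹ᵁ ⊤) = W' := by
      rw [Scheme.Hom.preimage_top, Scheme.Hom.image_top_eq_opensRange, Scheme.Opens.opensRange_ι]
    exact (inj_congrO e1 e2 _ hle).mpr hinj
  ext x
  apply hinj'
  exact congrArg (fun φ => φ.hom x) h1

/-- S17727 -/
theorem main (f : E ⟶ S) (U : S.Opens)
    (hiso : IsIso (morphismRestrict f U)) (hdense : CInt.IsSchematicallyDense (f ⁻¹ᵁ U))
    (σ : S ⟶ E) (hσ : σ ≫ f = 𝟙 S) (s : S) :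
    ∃ W : E.Opens, σ.base s ∈ W ∧ IsOpenImmersion (W.ι ≫ f) := by
  -- `f ≫ σ` is the identity over `f⁻¹ U`
  have hU1 : (f ⁻¹ᵁ U).ι ≫ f ≫ σ = (f ⁻¹ᵁ U).ι := by
    have hrange : Set.range (U.ι ≫ σ).base ⊆ Set.range (f ⁻¹ᵁ U).ι.base := by
      rintro _ ⟨u, rfl⟩
      rw [Scheme.Opens.range_ι]
      change f.base ((U.ι ≫ σ).base u) ∈ U
      have : f.base ((U.ι ≫ σ).base u) = (U.ι ≫ σ ≫ f).base u := rfl
      rw [this, hσ, Category.comp_id]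
      exact u.2
    let ρ : (U : Scheme.{u}) ⟶ (f ⁻¹ᵁ U : Scheme.{u}) :=
      IsOpenImmersion.lift (f ⁻¹ᵁ U).ι (U.ι ≫ σ) hrange
    have hρ : ρ ≫ (f ⁻¹ᵁ U).ι = U.ι ≫ σ := IsOpenImmersion.lift_fac _ _ _
    have hρ2 : ρ ≫ (f ∣_ U) = 𝟙 _ := by
      rw [← cancel_mono U.ι, Category.assoc, morphismRestrict_ι, ← Category.assoc, hρ,
        Category.assoc, hσ, Category.comp_id, Category.id_comp]
    have hρ3 : (f ∣_ U) ≫ ρ = 𝟙 _ := by
      haveI := hiso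
      rw [← cancel_epi (inv (f ∣_ U)), ← Category.assoc, IsIso.inv_hom_id, Category.id_comp,
        Category.comp_id]
      rw [← cancel_mono (f ∣_ U), hρ2, IsIso.inv_hom_id]
    calc (f ⁻¹ᵁ U).ι ≫ f ≫ σ = ((f ∣_ U) ≫ U.ι) ≫ σ := by
          rw [morphismRestrict_ι, Category.assoc]
      _ = (f ∣_ U) ≫ ρ ≫ (f ⁻¹ᵁ U).ι := by rw [hρ, Category.assoc]
      _ = (f ⁻¹ᵁ U).ι := by rw [← Category.assoc, hρ3, Category.id_comp]
  -- affine neighbourhood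
  obtain ⟨_, ⟨E₀, hE₀, rfl⟩, hsE₀, -⟩ :=
    E.isBasis_affineOpens.exists_subset_of_mem_open (Set.mem_univ (σ.base s)) isOpen_univ
  haveI : IsAffine (E₀ : Scheme.{u}) := hE₀
  let W : E.Opens := E₀ ⊓ (f ≫ σ) ⁻¹ᵁ E₀
  have hfs : f.base (σ.base s) = s := by
    have : f.base (σ.base s) = (σ ≫ f).base s := rfl
    rw [this, hσ]
    rfl
  have hsW : σ.base s ∈ W := by
    refine ⟨hsE₀, ?_⟩
    change σ.base (f.base (σ.base s)) ∈ E₀
    rw [hfs]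
    exact hsE₀
  have hW1 : W ≤ E₀ := inf_le_left
  have hW2 : W ≤ (f ≫ σ) ⁻¹ᵁ E₀ := inf_le_right
  let a : (W : Scheme.{u}) ⟶ (E₀ : Scheme.{u}) := E.homOfLE hW1
  let b : (W : Scheme.{u}) ⟶ (E₀ : Scheme.{u}) := (f ≫ σ).resLE E₀ W hW2
  have hab : a = b := by
    apply eq_of_eq_on_dense (inf_le_left : W ⊓ f ⁻¹ᵁ U ≤ W) (hdense W)
    have hle2 : W ⊓ f ⁻¹ᵁ U ≤ f ⁻¹ᵁ U := inf_le_right
    have e1 : (W ⊓ f ⁻¹ᵁ U).ι = E.homOfLE hle2 ≫ (f ⁻¹ᵁ U).ι := (Scheme.homOfLE_ι E hle2).symm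
    have hL : E.homOfLE (inf_le_left : W ⊓ f ⁻¹ᵁ U ≤ W) ≫ a ≫ Scheme.Opens.ι E₀ =
        (W ⊓ f ⁻¹ᵁ U).ι := by
      simp only [a, Scheme.homOfLE_ι]
    have hR : E.homOfLE (inf_le_left : W ⊓ f ⁻¹ᵁ U ≤ W) ≫ b ≫ Scheme.Opens.ι E₀ =
        (W ⊓ f ⁻¹ᵁ U).ι ≫ f ≫ σ := by
      simp only [b, Scheme.Hom.resLE_comp_ι]
      rw [← Category.assoc, Scheme.homOfLE_ι]
    rw [← cancel_mono (Scheme.Opens.ι E₀), Category.assoc, Category.assoc, hL, hR, e1,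
      Category.assoc, hU1]
  have hstar : W.ι ≫ f ≫ σ = W.ι := by
    have h1 := congrArg (fun φ => φ ≫ Scheme.Opens.ι E₀) hab
    simp only [a, b, Scheme.homOfLE_ι, Scheme.Hom.resLE_comp_ι] at h1
    exact h1.symm
  -- the inverse
  let S₁ : S.Opens := σ ⁻¹ᵁ W
  have hWS : W ≤ f ⁻¹ᵁ S₁ := by
    intro w hw
    change σ.base (f.base w) ∈ W
    have h2 : σ.base (f.base w) = (W.ι ≫ f ≫ σ).base ⟨w, hw⟩ := rfl
    rw [h2, hstar]
    exact hw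
  let fW : (W : Scheme.{u}) ⟶ (S₁ : Scheme.{u}) := f.resLE S₁ W hWS
  let σ₁ : (S₁ : Scheme.{u}) ⟶ (W : Scheme.{u}) := σ.resLE W S₁ le_rfl
  have h12 : fW ≫ σ₁ = 𝟙 _ := by
    rw [← cancel_mono W.ι]
    simp only [fW, σ₁, Category.assoc, Scheme.Hom.resLE_comp_ι, Category.id_comp]
    rw [← Category.assoc, Scheme.Hom.resLE_comp_ι, Category.assoc, hstar]
  have h21 : σ₁ ≫ fW = 𝟙 _ := by
    rw [← cancel_mono S₁.ι]
    simp only [fW, σ₁, Category.assoc, Scheme.Hom.resLE_comp_ι, Category.id_comp]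
    rw [← Category.assoc, Scheme.Hom.resLE_comp_ι, Category.assoc, hσ, Category.comp_id]
  haveI : IsIso fW := ⟨σ₁, h12, h21⟩
  refine ⟨W, hsW, ?_⟩
  have e : W.ι ≫ f = fW ≫ S₁.ι := (Scheme.Hom.resLE_comp_ι f hWS).symm
  rw [e]
  infer_instance

end Groth.Agent.Lead.SecOpenImm
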