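import Mathlib
import Groth.Prelude.Def_RegImm
import Groth.Agent.Lead.RelBCb

set_option autoImplicit false

namespace Groth.Agent.Lead.RelBCc
open CategoryTheory Limits AlgebraicGeometry TopologicalSpace
open Groth.Agent.Lead.KoszulGeoA Groth.Agent.Lead.RelBCb

universe u

/-- base change of `H_1`-regular and quasi-regular immersions that are flat over the base -/
theorem rel_baseChange (k : RegImm.Kind) (hk : k = RegImm.Kind.h1 ∨ k = RegImm.Kind.quasi)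
    {Z X S S' X' Z' : Scheme.{u}} (f : X ⟶ S) (i : Z ⟶ X) (g : S' ⟶ S) (p : X' ⟶ X)
    (f' : X' ⟶ S') (hsq1 : IsPullback p f' f g) (q : Z' ⟶ Z) (i' : Z' ⟶ X')
    (hsq2 : IsPullback q i' i p) (hi : RegImm.IsRegularImmersion k i) (hfl : Flat (i ≫ f)) :
    RegImm.IsRegularImmersion k i' := by
  haveI := hi.1
  refine ⟨MorphismProperty.of_isPullback (P := @IsImmersion) hsq2 hi.1, fun z' => ?_⟩
  obtain ⟨U₀, hzU₀, hcU₀, rs₀, hrs₀, hker₀⟩ := hi.2 (q z')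
  haveI := hcU₀
  obtain ⟨_, ⟨V, hV : IsAffineOpen V, rfl⟩, hsV, -⟩ :=
    S.isBasis_affineOpens.exists_subset_of_mem_open (Set.mem_univ (f (i (q z')))) isOpen_univ
  obtain ⟨_, ⟨U, hU : IsAffineOpen U, rfl⟩, hzU, hUle⟩ :=
    X.isBasis_affineOpens.exists_subset_of_mem_open
      (show i (q z') ∈ ((U₀.1 ⊓ f ⁻¹ᵁ V : X.Opens) : Set X) from ⟨hzU₀, hsV⟩)
      (U₀.1 ⊓ f ⁻¹ᵁ V).isOpen
  have hUU₀ : U ≤ U₀.1 := fun x hx => (hUle hx).1
  have hUV : U ≤ f ⁻¹ᵁ V := fun x hx => (hUle hx).2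
  obtain ⟨hcU, hrs, hker⟩ := kind_restrict k i U₀.2 hU hUU₀ rs₀ hrs₀ hker₀ (q z') hzU
  haveI := hcU
  have hpt1 : p (i' z') = i (q z') := (congrArg (fun t => t z') hsq2.w).symm
  have hpt2 : g (f' (i' z')) = f (p (i' z')) := (congrArg (fun t => t (i' z')) hsq1.w).symm
  have hs' : f' (i' z') ∈ g ⁻¹ᵁ V := by
    show g (f' (i' z')) ∈ V
    rw [hpt2, hpt1]
    exact hsV
  obtain ⟨_, ⟨V', hV' : IsAffineOpen V', rfl⟩, hs'V', hV'le⟩ :=
    S'.isBasis_affineOpens.exists_subset_of_mem_open hs' (g ⁻¹ᵁ V).isOpen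
  have hV'le' : V' ≤ g ⁻¹ᵁ V := hV'le
  set U' : X'.Opens := p ⁻¹ᵁ U ⊓ f' ⁻¹ᵁ V' with hU'def
  have hx'U' : i' z' ∈ U' := ⟨by show p (i' z') ∈ U; rw [hpt1]; exact hzU, hs'V'⟩
  have hpb := Scheme.Hom.isPullback_resLE hsq1 hV'le' hUV hU'def
  have hU' : IsAffineOpen U' := by
    haveI : IsAffine (Scheme.Opens.toScheme (X := X) U) := hU
    haveI : IsAffine (Scheme.Opens.toScheme (X := S) V) := hV
    haveI : IsAffine (Scheme.Opens.toScheme (X := S') V') := hV'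
    exact .of_isIso hpb.isoPullback.hom
  have e : U' ≤ p ⁻¹ᵁ U := inf_le_left
  obtain ⟨hcl, hker'⟩ := baseChange_chart' i p i' q hsq2 U hU U' hU' e
  have hpo := (isIso_pushoutSection_iff hsq1 hV'le' hUV hU'def).mp
    (isIso_pushoutSection_of_isAffineOpen hsq1 hV'le' hUV hU'def hV hV' hU)
  obtain ⟨hUZ, hsurj⟩ := H1RegB.affine_of_restrict_closed i hU
  have hflat : (f.appLE V U hUV ≫ i.app U).hom.Flat := by
    have h1 := HasRingHomProperty.appLE (P := @Flat) (i ≫ f) hfl ⟨V, hV⟩ ⟨i ⁻¹ᵁ U, hUZ⟩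
      (i.preimage_mono hUV)
    rw [Scheme.Hom.app_eq_appLE, Scheme.Hom.appLE_comp_appLE]
    exact h1
  have hseq := RelBCa.seq_of_isPushout _ _ _ _ hpo k hk _ hrs (i.app U) hsurj hker hflat
  refine ⟨⟨U', hU'⟩, hx'U', hcl, _, hseq, ?_⟩
  rw [hker', hker, Ideal.map_ofList]

end Groth.Agent.Lead.RelBCc
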