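import Groth.Agent.Lead.LimSmooth
import Groth.Agent.Lead.FD15

/-!
# FD16: flatness descends through cofiltered limits (for finitely presented morphisms)
-/

open CategoryTheory Limits AlgebraicGeometry

namespace Groth.Agent.Lead.FD16
open Groth.Agent.Lead.LimFrame Groth.Agent.Lead.LimModel
universe u

/-- flat and locally of finite presentation -/
abbrev FL : MorphismProperty Scheme.{u} := @Flat ⊓ @LocallyOfFinitePresentation

instance : MorphismProperty.IsMultiplicative @LocallyOfFinitePresentation.{u} where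
  id_mem _ := inferInstance

set_option backward.isDefEq.respectTransparency false in
theorem hasNoethModel_FL : HasNoethModel FL.{u} := by
  intro X Y _ _ f hf
  haveI : Flat f := hf.1
  haveI : LocallyOfFinitePresentation f := hf.2
  have h1 : f.appTop.hom.FinitePresentation :=
    (HasRingHomProperty.iff_of_isAffine (P := @LocallyOfFinitePresentation)).mp inferInstance
  have h2 : f.appTop.hom.Flat :=
    (HasRingHomProperty.iff_of_isAffine (P := @Flat)).mp inferInstance
  algebraize [f.appTop.hom]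
  obtain ⟨C₀, D₀, _, _, φ₀, α, β, hpo, hft, hφft, hφfl⟩ :=
    FD15.exists_noeth_model (A := Γ(Y, ⊤)) (B := Γ(X, ⊤))
  haveI : IsNoetherianRing C₀ := Algebra.FiniteType.isNoetherianRing ℤ C₀
  have hφfp : φ₀.FinitePresentation := RingHom.FinitePresentation.of_finiteType.mp hφft
  have hpb := isPullback_SpecMap_of_isPushout _ _ _ _ hpo
  refine ⟨Spec (.of C₀), Spec (.of D₀), Spec.map (CommRingCat.ofHom φ₀),
    Y.isoSpec.hom ≫ Spec.map (CommRingCat.ofHom α), X.isoSpec.hom ≫ Spec.map (CommRingCat.ofHom β),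
    inferInstance, inferInstance, ?_, ?_, ⟨?_, ?_⟩, ?_⟩
  · have hfp : Algebra.FinitePresentation ℤ C₀ := Algebra.FinitePresentation.of_finiteType.mp hft
    let ψ : ULift.{u} ℤ →+* C₀ :=
      (algebraMap ℤ C₀).comp (ULift.ringEquiv : ULift.{u} ℤ ≃+* ℤ).toRingHom
    have hψ : ψ.FinitePresentation :=
      RingHom.FinitePresentation.comp (RingHom.finitePresentation_algebraMap.mpr hfp)
        (RingHom.FinitePresentation.of_bijective (ULift.ringEquiv : ULift.{u} ℤ ≃+* ℤ).bijective)
    have e1 : toSZ (Spec (.of C₀)) = Spec.map (CommRingCat.ofHom ψ) :=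
      specULiftZIsTerminal.hom_ext _ _
    rw [e1]
    exact (HasRingHomProperty.Spec_iff (P := @LocallyOfFinitePresentation)).mpr hψ
  · exact (HasRingHomProperty.Spec_iff (P := @LocallyOfFinitePresentation)).mpr hφfp
  · exact (HasRingHomProperty.Spec_iff (P := @Flat)).mpr hφfl
  · exact (HasRingHomProperty.Spec_iff (P := @LocallyOfFinitePresentation)).mpr hφfp
  · refine hpb.of_iso X.isoSpec.symm (Iso.refl _) Y.isoSpec.symm (Iso.refl _) ?_ ?_ ?_ ?_
    · simp
    · have : CommRingCat.ofHom (algebraMap Γ(Y, ⊤) Γ(X, ⊤)) = f.appTop := rfl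
      rw [this]
      exact Scheme.isoSpec_inv_naturality f
    · simp
    · simp

variable {I : Type u} [SmallCategory I] [IsCofiltered I] {D : I ⥤ Scheme.{u}} {c : Cone D}
  (hc : IsLimit c) [∀ {i j : I} (f : i ⟶ j), IsAffineHom (D.map f)] (i₀ : I)
  {X₀ Y₀ : Scheme.{u}} (g₀ : Y₀ ⟶ D.obj i₀) (f₀ : X₀ ⟶ Y₀)

include hc in
theorem flat_descends [CompactSpace X₀] [LocallyOfFinitePresentation f₀]
    (h : Flat (LimFrame.limMap D c i₀ f₀ g₀)) : ∃ j : Over i₀, Flat (stageMap D i₀ f₀ g₀ j) := by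
  have h' : FL (LimFrame.limMap D c i₀ f₀ g₀) := ⟨h, inferInstance⟩
  obtain ⟨j, hj⟩ := LimSmooth.descends_of_compact hc i₀ g₀ f₀ FL hasNoethModel_FL h'
  exact ⟨j, hj.1⟩

end Groth.Agent.Lead.FD16
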