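import Mathlib
import Groth.Prelude.Def_RegImm
import Groth.Agent.Lead.H1RegB
import Groth.Agent.Lead.KoszulFunE
import Groth.Agent.Lead.KoszulGeoA

set_option autoImplicit false

namespace Groth.Agent.Lead.KoszulGeoB
open CategoryTheory Limits AlgebraicGeometry TopologicalSpace
open Groth.Agent.Lead.KoszulGeoA

universe u

variable {Z Y X : Scheme.{u}}

/-- a Koszul-regular chart restricts to smaller affine opens -/
theorem koszul_restrict (i : Y ⟶ X) {U W : X.Opens} (hU : IsAffineOpen U) (hW : IsAffineOpen W)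
    (h : W ≤ U) [IsClosedImmersion (i ∣_ U)] (rs : List Γ(X, U))
    (hrs : LCI.IsKoszulRegularSeq Γ(X, U) rs)
    (hker : RingHom.ker (i.app U).hom = Ideal.ofList rs) :
    IsClosedImmersion (i ∣_ W) ∧
      LCI.IsKoszulRegularSeq Γ(X, W) (rs.map (X.presheaf.map (homOfLE h).op).hom) ∧
      RingHom.ker (i.app W).hom = Ideal.ofList (rs.map (X.presheaf.map (homOfLE h).op).hom) := by
  refine ⟨isClosedImmersion_restrict_of_le i h, ?_, ?_⟩
  · letI := (X.presheaf.map (homOfLE h).op).hom.toAlgebra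
    haveI : Module.Flat Γ(X, U) Γ(X, W) := H1RegB.flat_res hU hW h
    exact KoszulFunC.isKoszulRegularSeq_of_flat rs hrs
  · rw [← ker_restrict i hU hW h, hker, Ideal.map_ofList]

theorem comp_chart (i : Y ⟶ X) (j : Z ⟶ Y) (z : Z)
    (U : X.Opens) (hU : IsAffineOpen U) (hzU : i (j z) ∈ U) (hcU : IsClosedImmersion (i ∣_ U))
    (rs : List Γ(X, U)) (hrs : LCI.IsKoszulRegularSeq Γ(X, U) rs)
    (hker : RingHom.ker (i.app U).hom = Ideal.ofList rs)
    (V : Y.Opens) (hV : IsAffineOpen V) (hzV : j z ∈ V) (hcV : IsClosedImmersion (j ∣_ V))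
    (rs' : List Γ(Y, V)) (hrs' : LCI.IsKoszulRegularSeq Γ(Y, V) rs')
    (hker' : RingHom.ker (j.app V).hom = Ideal.ofList rs') :
    ∃ W : X.affineOpens, (j ≫ i) z ∈ W.1 ∧ IsClosedImmersion ((j ≫ i) ∣_ W.1) ∧
      ∃ l : List Γ(X, W.1), l.length = rs'.length + rs.length ∧
        LCI.IsKoszulRegularSeq Γ(X, W.1) l ∧
        RingHom.ker ((j ≫ i).app W.1).hom = Ideal.ofList l := by
  haveI := hcU
  haveI := hcV
  obtain ⟨hU', hsurjU⟩ := H1RegB.affine_of_restrict_closed i hU
  obtain ⟨a, b, hab, hza⟩ := exists_basicOpen_le_affine_inter hU' hV (j z) ⟨hzU, hzV⟩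
  obtain ⟨a', ha'⟩ := hsurjU a
  have hW : IsAffineOpen (X.basicOpen a') := hU.basicOpen a'
  have hWU : X.basicOpen a' ≤ U := X.basicOpen_le a'
  have hpre : i ⁻¹ᵁ (X.basicOpen a') = Y.basicOpen a := by
    rw [Scheme.preimage_basicOpen, ha']
  have hW'V : i ⁻¹ᵁ (X.basicOpen a') ≤ V := by
    rw [hpre, hab]
    exact Y.basicOpen_le b
  have hW' : IsAffineOpen (i ⁻¹ᵁ (X.basicOpen a')) := by
    rw [hpre]
    exact hU'.basicOpen a
  obtain ⟨cW, krs, kerW⟩ := koszul_restrict i hU hW hWU rs hrs hker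
  obtain ⟨cW', krs', kerW'⟩ := koszul_restrict j hV hW' hW'V rs' hrs' hker'
  haveI := cW
  haveI := cW'
  obtain ⟨-, hsurjW⟩ := H1RegB.affine_of_restrict_closed i hW
  set res := (X.presheaf.map (homOfLE hWU).op).hom with hres
  set res' := (Y.presheaf.map (homOfLE hW'V).op).hom with hres'
  have hsurjW' : Function.Surjective (i.app (X.basicOpen a')).hom := hsurjW
  set g : List Γ(X, X.basicOpen a') := (rs'.map res').map (Function.surjInv hsurjW') with hg
  have hgmap : g.map (i.app (X.basicOpen a')).hom = rs'.map res' := by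
    rw [hg, List.map_map]
    conv_rhs => rw [← List.map_id (rs'.map res')]
    refine List.map_congr_left fun x _ => ?_
    exact Function.surjInv_eq hsurjW' x
  refine ⟨⟨X.basicOpen a', hW⟩, ?_, ?_, g ++ rs.map res, ?_, ?_, ?_⟩
  · show (j ≫ i) z ∈ X.basicOpen a'
    have : j z ∈ i ⁻¹ᵁ (X.basicOpen a') := by
      rw [hpre]
      exact hza
    exact this
  · show IsClosedImmersion ((j ≫ i) ∣_ (X.basicOpen a'))
    rw [morphismRestrict_comp]
    exact MorphismProperty.comp_mem _ _ _ cW' cW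
  · rw [List.length_append, hg, List.length_map, List.length_map, List.length_map]
  · refine KoszulFunE.isKoszulRegularSeq_append (i.app (X.basicOpen a')).hom hsurjW' _ g kerW krs ?_
    rw [hgmap]
    exact krs'
  · show RingHom.ker ((j ≫ i).app (X.basicOpen a')).hom = _
    rw [Scheme.Hom.comp_app]
    change RingHom.ker ((j.app (i ⁻¹ᵁ X.basicOpen a')).hom.comp (i.app (X.basicOpen a')).hom) = _
    rw [← RingHom.comap_ker]
    rw [kerW', ← hgmap, ← Ideal.map_ofList, Ideal.comap_map_of_surjective _ hsurjW',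
      ← RingHom.ker_eq_comap_bot, kerW, Ideal.ofList_append]

end Groth.Agent.Lead.KoszulGeoB
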