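import Groth.Agent.Lead.CnSplitC
import Groth.Agent.Lead.KoszulGeoB
import Groth.Agent.Lead.KoszulH1
import Groth.Agent.Helper3.KzIdeal
import Mathlib

set_option autoImplicit false
set_option backward.isDefEq.respectTransparency false
set_option backward.isDefEq.respectTransparency.types false
open CategoryTheory CategoryTheory.Limits AlgebraicGeometry Opposite TopologicalSpace
universe u

namespace Groth.Agent.Lead.CnSplitD

open Scheme.Modules OmegaSh Groth.Agent.Lead Groth.Agent.Helper4 Groth.Agent.Lead.BCMap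
open Groth.Agent.Helper3.KzLoc

/-- an ideal generated by a Koszul-regular sequence is a Koszul-regular ideal -/
theorem isKoszulRegularIdeal_ofList {A : Type u} [CommRing A] (l : List A)
    (hl : LCI.IsKoszulRegularSeq A l) : LCI.IsKoszulRegularIdeal (Ideal.ofList l) := by
  intro p _
  haveI : IsLocalization.Away (1 : A) A :=
    IsLocalization.away_of_isUnit_of_bijective A isUnit_one Function.bijective_id
  refine locKReg_of_isLocalization _ _ 1 (fun h => p.isPrime.ne_top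
    ((Ideal.eq_top_iff_one _).2 h)) A l hl ?_
  rw [Algebra.algebraMap_self, Ideal.map_id]

section chart
variable {Z Y : Scheme.{u}} (j : Z ⟶ Y)

/-- the prime ideal of a point in an affine open, via germs -/
theorem exists_prime (V : Y.Opens) (y : Y) (hy : y ∈ V) :
    ∃ p : Ideal Γ(Y, V), p.IsPrime ∧ ∀ g : Γ(Y, V), g ∉ p ↔ y ∈ Y.basicOpen g := by
  refine ⟨(IsLocalRing.maximalIdeal (Y.presheaf.stalk y)).comap (Y.presheaf.germ V y hy).hom,
    Ideal.comap_isPrime _ _, fun g => ?_⟩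
  rw [Ideal.mem_comap, IsLocalRing.mem_maximalIdeal, mem_nonunits_iff, not_not,
    Scheme.mem_basicOpen _ _ _ hy]

/-- a Koszul-regular kernel ideal on an affine chart gives a Koszul-regular chart on a basic
open around each point of the closed subscheme -/
theorem chart_of_isKoszulRegularIdeal [IsClosedImmersion j] {V : Y.Opens} (hV : IsAffineOpen V)
    (hK : LCI.IsKoszulRegularIdeal (RingHom.ker (j.app V).hom)) (z : Z) (hz : j z ∈ V) :
    RegImm.IsRegularImmersionAt .koszul j z := by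
  obtain ⟨p, hp, hpg⟩ := exists_prime V (j z) hz
  have hle : RingHom.ker (j.app V).hom ≤ p := by
    intro a ha
    by_contra hap
    have h1 : j z ∈ Y.basicOpen a := (hpg a).1 hap
    have h2 : z ∈ j ⁻¹ᵁ (Y.basicOpen a) := h1
    rw [Scheme.preimage_basicOpen] at h2
    have h3 : (j.app V) a = 0 := ha
    rw [h3, Scheme.basicOpen_zero] at h2
    exact h2
  obtain ⟨g, hg, l, hl, hI⟩ := hK ⟨p, hp⟩ hle
  have hzg : j z ∈ Y.basicOpen g := (hpg g).1 hg
  have hU : IsAffineOpen (Y.basicOpen g) := hV.basicOpen g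
  haveI hloc : IsLocalization.Away g Γ(Y, Y.basicOpen g) := hV.isLocalization_basicOpen g
  let e : Localization.Away g ≃ₐ[Γ(Y, V)] Γ(Y, Y.basicOpen g) :=
    IsLocalization.algEquiv (Submonoid.powers g) _ _
  haveI : IsClosedImmersion (j ∣_ V) := inferInstance
  refine ⟨⟨Y.basicOpen g, hU⟩, hzg, inferInstance, l.map e.toRingEquiv,
    kreg_map_ringEquiv e.toRingEquiv l hl, ?_⟩
  have h1 := KoszulGeoA.ker_restrict j hV hU (Y.basicOpen_le g)
  change RingHom.ker (j.app (Y.basicOpen g)).hom = _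
  rw [← h1]
  have h2 : Y.presheaf.map (homOfLE (Y.basicOpen_le g)).op =
      CommRingCat.ofHom (algebraMap Γ(Y, V) Γ(Y, Y.basicOpen g)) := rfl
  have h3 : (algebraMap Γ(Y, V) Γ(Y, Y.basicOpen g)) =
      (e.toRingEquiv : Localization.Away g →+* Γ(Y, Y.basicOpen g)).comp
        (algebraMap Γ(Y, V) (Localization.Away g)) := by
    ext a
    exact (e.commutes a).symm
  rw [h2, CommRingCat.hom_ofHom, h3, ← Ideal.map_map, hI]
  have h4 := span_map_list (e.toRingEquiv : Localization.Away g →+* Γ(Y, Y.basicOpen g)) l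
  exact h4.symm

end chart

section main
variable {X Y Z : Scheme.{u}}
    (i : Y ⟶ X) [IsClosedImmersion i] (j : Z ⟶ Y) [IsClosedImmersion j]
    (φ₁ : (Scheme.Modules.pullback j).obj (Omega.conormal i) ⟶ Omega.conormal (j ≫ i))
    (hφ₁ : OmegaSh.IsConormalMap (j ≫ i) i (𝟙 X) j φ₁)

include hφ₁ in
/-- the ring-level consequence on a good chart -/
theorem koszul_chart {W : X.Opens} (hW : IsAffineOpen W)
    (fs : List Γ(X, W)) (hfs : LCI.IsKoszulRegularSeq Γ(X, W) fs)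
    (hkf : RingHom.ker (i.app W).hom = Ideal.ofList fs)
    (gs : List Γ(X, W)) (hgs : LCI.IsKoszulRegularSeq Γ(X, W) gs)
    (hkg : RingHom.ker ((j ≫ i).app W).hom = Ideal.ofList gs)
    (G : Z.Opens) (hG : j ⁻¹ᵁ (i ⁻¹ᵁ W) ≤ G)
    (ρ : (Scheme.Modules.restrictFunctor G.ι).obj (Omega.conormal (j ≫ i)) ⟶
      (Scheme.Modules.restrictFunctor G.ι).obj
        ((Scheme.Modules.pullback j).obj (Omega.conormal i)))
    (hρ : (Scheme.Modules.restrictFunctor G.ι).map φ₁ ≫ ρ = 𝟙 _) :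
    LCI.IsKoszulRegularIdeal (RingHom.ker (j.app (i ⁻¹ᵁ W)).hom) := by
  haveI : IsClosedImmersion (i ∣_ W) := inferInstance
  obtain ⟨hV, hsi⟩ := H1RegB.affine_of_restrict_closed i hW
  haveI : IsClosedImmersion (j ∣_ (i ⁻¹ᵁ W)) := inferInstance
  obtain ⟨hO, hsj⟩ := H1RegB.affine_of_restrict_closed j hV
  obtain ⟨V₁, hV₁, ρ₀, hρ₀⟩ := CnSplitC.exists_retraction_sections φ₁ G ρ hρ _ hG
  have hcomap : (RingHom.ker (j.app (i ⁻¹ᵁ W)).hom).comap (i.app W).hom =
      RingHom.ker ((j ≫ i).app W).hom := by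
    ext x
    rw [Ideal.mem_comap, RingHom.mem_ker, RingHom.mem_ker]
    rfl
  have hqr : CAlgX.IsQuasiRegular fs.get :=
    Groth.Agent.S2103.result fs.get (KoszulH1.isH1Regular_of_isKoszulRegularSeq fs hfs)
  have hkf' : RingHom.ker (i.app W).hom = Ideal.span (Set.range fs.get) := by
    rw [hkf, Set.range_list_get]
  refine Groth.Agent.Helper3.KzIdeal.down_ideal (i.app W).hom hsi fs.get
    (by rw [List.ofFn_get]; exact hkf) (by rw [List.ofFn_get]; exact hfs) _ ?_ ?_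
  · intro p hp hKp c hc
    rw [hcomap] at hc
    refine CnSplitB.fiberInj i j φ₁ hφ₁ hW hV hO hsi hsj fs.get hqr hkf' V₁ hV₁ ρ₀ hρ₀
      (p.comap (i.app W).hom) ?_ c hc
    rw [← hcomap]
    exact Ideal.comap_mono hKp
  · rw [hcomap, hkg]
    exact isKoszulRegularIdeal_ofList gs hgs

include hφ₁ in
/-- **S8675** -/
theorem main (hi : RegImm.IsRegularImmersion .koszul i)
    (hij : RegImm.IsRegularImmersion .koszul (j ≫ i))
    (hsplit : ∀ z : Z, ∃ (U : Z.Opens)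
      (ρ : (Scheme.Modules.restrictFunctor U.ι).obj (Omega.conormal (j ≫ i)) ⟶
        (Scheme.Modules.restrictFunctor U.ι).obj
          ((Scheme.Modules.pullback j).obj (Omega.conormal i))),
        z ∈ U ∧ (Scheme.Modules.restrictFunctor U.ι).map φ₁ ≫ ρ = 𝟙 _) :
    RegImm.IsRegularImmersion .koszul j := by
  refine ⟨inferInstance, fun z => ?_⟩
  obtain ⟨G, ρ, hzG, hρ⟩ := hsplit z
  obtain ⟨U₁, hz₁, hc₁, rs₁, hrs₁, hk₁⟩ := hi.2 (j z)
  obtain ⟨U₂, hz₂, hc₂, rs₂, hrs₂, hk₂⟩ := hij.2 z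
  haveI := hc₁
  haveI := hc₂
  -- an open of `X` whose preimage is `G`
  obtain ⟨G', hG', hGG'⟩ := ((j ≫ i).isEmbedding.isInducing.isOpen_iff).1 G.isOpen
  have hzG' : (j ≫ i) z ∈ G' := by
    have : z ∈ (j ≫ i) ⁻¹' G' := by rw [hGG']; exact hzG
    exact this
  obtain ⟨_, ⟨W, hW : IsAffineOpen W, rfl⟩, hzW, hWsub⟩ :=
    X.isBasis_affineOpens.exists_subset_of_mem_open
    (show (j ≫ i) z ∈ ((U₁.1 ⊓ U₂.1 ⊓ ⟨G', hG'⟩ : X.Opens) : Set X) from
      ⟨⟨hz₁, hz₂⟩, hzG'⟩) (U₁.1 ⊓ U₂.1 ⊓ ⟨G', hG'⟩ : X.Opens).isOpen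
  have hW₁ : W ≤ U₁.1 := fun x hx => (hWsub hx).1.1
  have hW₂ : W ≤ U₂.1 := fun x hx => (hWsub hx).1.2
  have hWG : j ⁻¹ᵁ (i ⁻¹ᵁ W) ≤ G := by
    intro y hy
    have h1 : (j ≫ i) y ∈ G' := (hWsub hy).2
    have h2 : y ∈ (j ≫ i) ⁻¹' G' := h1
    rw [hGG'] at h2
    exact h2
  obtain ⟨-, hfs, hkf⟩ := KoszulGeoB.koszul_restrict i U₁.2 hW hW₁ rs₁ hrs₁ hk₁
  obtain ⟨-, hgs, hkg⟩ := KoszulGeoB.koszul_restrict (j ≫ i) U₂.2 hW hW₂ rs₂ hrs₂ hk₂
  have hK := koszul_chart i j φ₁ hφ₁ hW _ hfs hkf _ hgs hkg G hWG ρ hρ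
  haveI : IsClosedImmersion (i ∣_ W) := inferInstance
  obtain ⟨hV, -⟩ := H1RegB.affine_of_restrict_closed i hW
  exact chart_of_isKoszulRegularIdeal j hV hK z hzW

end main

end Groth.Agent.Lead.CnSplitD
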