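import Mathlib

set_option autoImplicit false
universe u
open Function TensorProduct

namespace Groth.Agent.Lead.RelCartierA

/-- two generators of the same principal ideal: one is a nonzerodivisor iff the other is. -/
theorem nzd_of_span_eq {B : Type*} [CommRing B] (g f : B) (hg : g ∈ nonZeroDivisors B)
    (h : Ideal.span {g} = Ideal.span {f}) : f ∈ nonZeroDivisors B := by
  have h1 : g ∈ Ideal.span {f} := h ▸ Ideal.mem_span_singleton_self g
  have h2 : f ∈ Ideal.span {g} := h.symm ▸ Ideal.mem_span_singleton_self f
  rw [Ideal.mem_span_singleton'] at h1 h2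
  obtain ⟨b, hb⟩ := h1
  obtain ⟨a, ha⟩ := h2
  -- g = b f, f = a g
  rw [mem_nonZeroDivisors_iff_right]
  intro c hc
  have h3 : c * b * f = c * g := by rw [← hb]; ring
  have h4 : c * g = 0 := by
    rw [← h3, mul_assoc, mul_comm b f, ← mul_assoc, hc, zero_mul]
  exact (mul_right_mem_nonZeroDivisors_eq_zero_iff hg).mp h4

/-- flatness of a principal quotient can be checked on the localizations at maximal ideals. -/
theorem flat_quot_of_local {A B : Type u} [CommRing A] [CommRing B] [Algebra A B] (f : B)
    (h : ∀ (q : Ideal B) [q.IsMaximal], Module.Flat A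
      (Localization.AtPrime q ⧸ Ideal.span {algebraMap B (Localization.AtPrime q) f})) :
    Module.Flat A (B ⧸ Ideal.span {f}) := by
  refine Module.flat_of_isLocalized_maximal B (B ⧸ Ideal.span {f})
    (fun P _ => Localization.AtPrime P ⧸ (Ideal.span {f}).localized' (Localization.AtPrime P)
      P.primeCompl (Algebra.linearMap B (Localization.AtPrime P)))
    (fun P _ => Submodule.toLocalizedQuotient' (Localization.AtPrime P) P.primeCompl
      (Algebra.linearMap B (Localization.AtPrime P)) (Ideal.span {f})) ?_
  intro P hP
  have e : (Ideal.span {f}).localized' (Localization.AtPrime P)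
      P.primeCompl (Algebra.linearMap B (Localization.AtPrime P)) =
      Ideal.span {algebraMap B (Localization.AtPrime P) f} := by
    rw [Ideal.span, Submodule.localized'_span, Set.image_singleton]
    rfl
  rw [e]
  exact h P

/-- transfer of flatness of a principal quotient between two models of a localization. -/
theorem flat_quot_transfer {A B T T' : Type u} [CommRing A] [CommRing B] [CommRing T]
    [CommRing T'] [Algebra A B] [Algebra B T] [Algebra A T] [IsScalarTower A B T] [Algebra B T']
    [Algebra A T'] [IsScalarTower A B T'] (M : Submonoid B) [IsLocalization M T]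
    [IsLocalization M T'] (f : B)
    (h : Module.Flat A (T ⧸ Ideal.span {algebraMap B T f})) :
    Module.Flat A (T' ⧸ Ideal.span {algebraMap B T' f}) := by
  let e : T ≃ₐ[B] T' := IsLocalization.algEquiv M T T'
  let e' : T ≃ₐ[A] T' := e.restrictScalars A
  have hIJ : Ideal.span {algebraMap B T' f} =
      (Ideal.span {algebraMap B T f}).map (e' : T →+* T') := by
    rw [Ideal.map_span, Set.image_singleton]
    congr 2
    exact (e.commutes f).symm
  let E := Ideal.quotientEquivAlg (R₁ := A) _ _ e' hIJ
  exact Module.Flat.of_linearEquiv E.symm.toLinearEquiv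

/-- flatness of a principal quotient from flatness of the local quotients (any model of the
localizations). -/
theorem flat_quot_of_local' {A B : Type u} [CommRing A] [CommRing B] [Algebra A B] (f : B)
    (h : ∀ (q : Ideal B) [q.IsMaximal], ∃ (T : Type u) (_ : CommRing T) (_ : Algebra B T)
      (_ : Algebra A T) (_ : IsScalarTower A B T) (_ : IsLocalization.AtPrime T q),
      Module.Flat A (T ⧸ Ideal.span {algebraMap B T f})) :
    Module.Flat A (B ⧸ Ideal.span {f}) := by
  refine flat_quot_of_local f (fun q hq => ?_)
  obtain ⟨T, _, _, _, _, _, hT⟩ := h q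
  exact flat_quot_transfer q.primeCompl f hT

/-- flatness of a quotient over a local ring of the base gives flatness over the base ring. -/
theorem flat_trans_quot {A R₀ T : Type u} [CommRing A] [CommRing R₀] [CommRing T]
    [Algebra A R₀] [Algebra R₀ T] [Algebra A T] [IsScalarTower A R₀ T] [Module.Flat A R₀]
    (I : Ideal T) [Module.Flat R₀ (T ⧸ I)] : Module.Flat A (T ⧸ I) :=
  Module.Flat.trans A R₀ (T ⧸ I)

end Groth.Agent.Lead.RelCartierA
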