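import Mathlib
import Groth.Prelude.Def_BlowUp2
import Groth.Agent.Helper8.SliceA
import Groth.Agent.Helper2.StalkEssFP
import Groth.Agent.Helper5.FibStalk
import Groth.Agent.Helper9.IdealComap
import Groth.Agent.Lead.EffCartier
import Groth.Agent.Lead.RelCartierA

/-!
# Relative effective Cartier divisors: the local computation at a point of a fibre
-/

set_option autoImplicit false
universe u
open CategoryTheory CategoryTheory.Limits AlgebraicGeometry TopologicalSpace
open Function

namespace Groth.Agent.Lead.RelCartierB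

/-- The local computation: if `𝓘` is generated by `f` on the affine open `U` and the inverse image
of `𝓘` on the fibre through `y` is effective Cartier, then the germ of `f` at the image `x` of `y`
is a nonzerodivisor with flat quotient over the local ring of the base. -/
theorem local_main {X S : Scheme.{u}} (φ : X ⟶ S) [Flat φ] [LocallyOfFinitePresentation φ]
    (𝓘 : X.IdealSheafData) (s : S)
    (hfib : BlowUp.IsEffCartierIdeal (𝓘.comap (φ.fiberι s)))
    (U : X.affineOpens) (f : Γ(X, U.1)) (hf : 𝓘.ideal U = Ideal.span {f})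
    (y : ↥(φ.fiber s)) (hy : (φ.fiberι s) y ∈ U.1) :
    X.presheaf.germ U.1 _ hy f ∈ nonZeroDivisors (X.presheaf.stalk ((φ.fiberι s) y)) ∧
    (letI := (φ.stalkMap ((φ.fiberι s) y)).hom.toAlgebra
     Module.Flat (S.presheaf.stalk (φ ((φ.fiberι s) y)))
      (X.presheaf.stalk ((φ.fiberι s) y) ⧸ Ideal.span {X.presheaf.germ U.1 _ hy f})) := by
  -- Step 1: a small affine open of the fibre where the inverse image is principal
  obtain ⟨W, hyW, hWU, g, hg, hgI⟩ :=
    EffCartier.exists_le_of_isEffCartier _ hfib y ((φ.fiberι s) ⁻¹ᵁ U.1) hy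
  have hcomap := Groth.Agent.Helper9.IdealComap.ideal_comap (φ.fiberι s) 𝓘 U W hWU
  rw [hgI, hf, Ideal.map_span, Set.image_singleton] at hcomap
  have hf' := RelCartierA.nzd_of_span_eq g _ hg hcomap
  -- Step 2: the germ of the pulled back generator is a nonzerodivisor
  have hgerm : (φ.fiber s).presheaf.germ W.1 y hyW (((φ.fiberι s).appLE U.1 W.1 hWU).hom f) ∈
      nonZeroDivisors ((φ.fiber s).presheaf.stalk y) := by
    letI algW : Algebra Γ(φ.fiber s, W.1) ((φ.fiber s).presheaf.stalk y) :=
      ((φ.fiber s).presheaf.germ W.1 y hyW).hom.toAlgebra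
    haveI : IsLocalization.AtPrime ((φ.fiber s).presheaf.stalk y)
        (W.2.primeIdealOf ⟨y, hyW⟩).asIdeal := W.2.isLocalization_stalk ⟨y, hyW⟩
    exact IsLocalization.map_nonZeroDivisors_le (W.2.primeIdealOf ⟨y, hyW⟩).asIdeal.primeCompl _
      (Submonoid.mem_map_of_mem _ hf')
  -- Step 3: it is the image of the germ of `f` under the stalk map
  have hst : ((φ.fiberι s).stalkMap y).hom (X.presheaf.germ U.1 _ hy f) =
      (φ.fiber s).presheaf.germ W.1 y hyW (((φ.fiberι s).appLE U.1 W.1 hWU).hom f) := by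
    have := Scheme.Hom.germ_stalkMap_apply (φ.fiberι s) U.1 y hy f
    rw [Scheme.Hom.appLE, CommRingCat.comp_apply, TopCat.Presheaf.germ_res_apply]
    exact this
  rw [← hst] at hgerm
  -- Step 4: the local criterion
  obtain ⟨-, hker⟩ := Groth.Agent.Helper5.FibStalk.s9501 φ s y
  letI alg : Algebra (S.presheaf.stalk (φ ((φ.fiberι s) y))) (X.presheaf.stalk ((φ.fiberι s) y)) :=
    (φ.stalkMap ((φ.fiberι s) y)).hom.toAlgebra
  haveI : IsLocalHom (algebraMap (S.presheaf.stalk (φ ((φ.fiberι s) y)))
      (X.presheaf.stalk ((φ.fiberι s) y))) := by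
    show IsLocalHom (φ.stalkMap ((φ.fiberι s) y)).hom
    infer_instance
  have hess := Groth.Agent.Helper2.StalkEssFP.essFP_stalk φ ((φ.fiberι s) y)
  haveI hflat : Module.Flat (S.presheaf.stalk (φ ((φ.fiberι s) y)))
      (X.presheaf.stalk ((φ.fiberι s) y)) := Flat.stalkMap φ ((φ.fiberι s) y)
  haveI : Module.Flat (S.presheaf.stalk (φ ((φ.fiberι s) y)))
      (X.presheaf.stalk ((φ.fiberι s) y) ⧸ (⊥ : Ideal (X.presheaf.stalk ((φ.fiberι s) y)))) :=
    Module.Flat.of_linearEquiv (AlgEquiv.quotientBot (S.presheaf.stalk (φ ((φ.fiberι s) y)))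
      (X.presheaf.stalk ((φ.fiberι s) y))).toLinearEquiv
  have key := Groth.Agent.Helper8.SliceA.local_step hess ⊥ Submodule.fg_bot
    (X.presheaf.germ U.1 _ hy f) (by
      intro t ht
      rw [bot_sup_eq] at ht ⊢
      have hk : algebraMap (S.presheaf.stalk (φ ((φ.fiberι s) y)))
          (X.presheaf.stalk ((φ.fiberι s) y)) = (φ.stalkMap ((φ.fiberι s) y)).hom := rfl
      rw [hk, ← hker, RingHom.mem_ker] at ht ⊢
      rw [map_mul] at ht
      exact (mul_left_mem_nonZeroDivisors_eq_zero_iff hgerm).mp ht)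
  obtain ⟨h1, h2⟩ := key
  refine ⟨?_, ?_⟩
  · rw [mem_nonZeroDivisors_iff_right]
    intro t ht
    have := h1 t (by rw [mul_comm, ht]; exact Submodule.zero_mem _)
    exact (Submodule.mem_bot _).mp this
  · rw [bot_sup_eq] at h2
    exact h2

end Groth.Agent.Lead.RelCartierB
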