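import Mathlib
import Groth.Prelude.Def_BlowUp2
import Groth.Prelude.Def_CurvBase
import Groth.Agent.Lead.RelCartierB

/-!
# Relative effective Cartier divisors from the fibres: globalization
-/

set_option autoImplicit false
universe u
open CategoryTheory CategoryTheory.Limits AlgebraicGeometry TopologicalSpace
open Function

namespace Groth.Agent.Lead.RelCartierC

variable {X S : Scheme.{u}} (φ : X ⟶ S) [Flat φ] [LocallyOfFinitePresentation φ]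
  (𝓘 : X.IdealSheafData)

/-- the local computation at an arbitrary point of `U`. -/
theorem pointwise (hfib : ∀ s : ↥S, BlowUp.IsEffCartierIdeal (𝓘.comap (φ.fiberι s)))
    (U : X.affineOpens) (f : Γ(X, U.1)) (hf : 𝓘.ideal U = Ideal.span {f}) (x : X) (hx : x ∈ U.1) :
    X.presheaf.germ U.1 x hx f ∈ nonZeroDivisors (X.presheaf.stalk x) ∧
    (letI := (φ.stalkMap x).hom.toAlgebra
     Module.Flat (S.presheaf.stalk (φ x))
      (X.presheaf.stalk x ⧸ Ideal.span {X.presheaf.germ U.1 x hx f})) := by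
  obtain ⟨s, y, rfl⟩ : ∃ s, ∃ y : ↥(φ.fiber s), φ.fiberι s y = x :=
    ⟨φ x, φ.asFiber x, φ.fiberι_asFiber x⟩
  exact RelCartierB.local_main φ 𝓘 s (hfib s) U f hf y hx

/-- a local generator is a nonzerodivisor. -/
theorem nzd_of_fibres (hfib : ∀ s : ↥S, BlowUp.IsEffCartierIdeal (𝓘.comap (φ.fiberι s)))
    (U : X.affineOpens) (f : Γ(X, U.1)) (hf : 𝓘.ideal U = Ideal.span {f}) :
    f ∈ nonZeroDivisors Γ(X, U.1) := by
  rw [mem_nonZeroDivisors_iff_right]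
  intro a ha
  apply EffCartier.section_eq_zero
  intro x hx
  have h := (pointwise φ 𝓘 hfib U f hf x hx).1
  have h0 : X.presheaf.germ U.1 x hx a * X.presheaf.germ U.1 x hx f = 0 := by
    rw [← map_mul, ha, map_zero]
  exact (mul_right_mem_nonZeroDivisors_eq_zero_iff h).mp h0

/-- off the support the ideal is the unit ideal on a small affine open. -/
theorem exists_top_of_not_mem_support (x : X) (hx : x ∉ 𝓘.support) :
    ∃ U : X.affineOpens, x ∈ U.1 ∧ 𝓘.ideal U = ⊤ := by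
  rw [Scheme.IdealSheafData.mem_support_iff] at hx
  push_neg at hx
  obtain ⟨U, hxU⟩ := hx
  rw [Scheme.mem_zeroLocus_iff] at hxU
  push_neg at hxU
  obtain ⟨r, hr, hxr⟩ := hxU
  refine ⟨X.affineBasicOpen r, hxr, ?_⟩
  rw [← 𝓘.map_ideal_basicOpen]
  have hloc := U.2.isLocalization_basicOpen r
  have hu : IsUnit ((X.presheaf.map (homOfLE (X.basicOpen_le r)).op).hom r) :=
    IsLocalization.Away.algebraMap_isUnit (S := Γ(X, X.basicOpen r)) r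
  exact Ideal.eq_top_of_isUnit_mem _ (Ideal.mem_map_of_mem _ hr) hu

theorem isEffCartier (hZ : Curv2.IsLocPrincipal 𝓘)
    (hfib : ∀ s : ↥S, BlowUp.IsEffCartierIdeal (𝓘.comap (φ.fiberι s))) :
    BlowUp.IsEffCartierIdeal 𝓘 := by
  intro x
  by_cases hx : x ∈ 𝓘.support
  · obtain ⟨U, hxU, f, hf⟩ := hZ x hx
    exact ⟨U, hxU, f, nzd_of_fibres φ 𝓘 hfib U f hf, hf⟩
  · obtain ⟨U, hxU, hU⟩ := exists_top_of_not_mem_support 𝓘 x hx
    exact ⟨U, hxU, 1, one_mem _, by rw [hU, Ideal.span_singleton_one]⟩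

theorem flat_subscheme (hZ : Curv2.IsLocPrincipal 𝓘)
    (hfib : ∀ s : ↥S, BlowUp.IsEffCartierIdeal (𝓘.comap (φ.fiberι s))) :
    Flat (𝓘.subschemeι ≫ φ) := by
  apply EffCartier.flat_of_flat_quot φ 𝓘
  intro x hx
  obtain ⟨U₀, hxU₀, f₀, hf₀⟩ := hZ x hx
  obtain ⟨V, hV, hφxV, -⟩ := (Opens.isBasis_iff_nbhd.1 S.isBasis_affineOpens)
    (show φ x ∈ (⊤ : S.Opens) from trivial)
  obtain ⟨U, hU, hxU, hUle⟩ := (Opens.isBasis_iff_nbhd.1 X.isBasis_affineOpens)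
    (show x ∈ U₀.1 ⊓ φ ⁻¹ᵁ V from ⟨hxU₀, hφxV⟩)
  have hUU₀ : (⟨U, hU⟩ : X.affineOpens) ≤ U₀ := fun y hy => (hUle hy).1
  have e : U ≤ φ ⁻¹ᵁ V := fun y hy => (hUle hy).2
  obtain ⟨f, hf⟩ : ∃ f : Γ(X, U), 𝓘.ideal ⟨U, hU⟩ = Ideal.span {f} := by
    refine ⟨X.presheaf.map (homOfLE hUU₀).op f₀, ?_⟩
    rw [← 𝓘.map_ideal hUU₀, hf₀, Ideal.map_span, Set.image_singleton]
  refine ⟨⟨V, hV⟩, ⟨U, hU⟩, hxU, e, ?_⟩
  rw [hf, EffCartier.ringHomFlat_quot_iff]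
  letI algAB : Algebra Γ(S, V) Γ(X, U) := (φ.appLE V U e).hom.toAlgebra
  refine RelCartierA.flat_quot_of_local' f (fun q hq => ?_)
  have hqp : q.IsPrime := hq.isPrime
  have hzU : hU.fromSpec ⟨q, hqp⟩ ∈ U := (hU.isoSpec.inv _).2
  letI algBT : Algebra Γ(X, U) (X.presheaf.stalk (hU.fromSpec ⟨q, hqp⟩)) :=
    TopCat.Presheaf.algebra_section_stalk X.presheaf ⟨hU.fromSpec ⟨q, hqp⟩, hzU⟩
  haveI hloc : IsLocalization.AtPrime (X.presheaf.stalk (hU.fromSpec ⟨q, hqp⟩)) q :=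
    hU.isLocalization_stalk' ⟨q, hqp⟩ hzU
  letI algAT : Algebra Γ(S, V) (X.presheaf.stalk (hU.fromSpec ⟨q, hqp⟩)) :=
    ((X.presheaf.germ U _ hzU).hom.comp (φ.appLE V U e).hom).toAlgebra
  haveI tow : IsScalarTower Γ(S, V) Γ(X, U) (X.presheaf.stalk (hU.fromSpec ⟨q, hqp⟩)) :=
    IsScalarTower.of_algebraMap_eq (fun _ => rfl)
  refine ⟨X.presheaf.stalk (hU.fromSpec ⟨q, hqp⟩), inferInstance, algBT, algAT, tow, hloc, ?_⟩
  have hφz : φ (hU.fromSpec ⟨q, hqp⟩) ∈ V := e hzU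
  letI algAR : Algebra Γ(S, V) (S.presheaf.stalk (φ (hU.fromSpec ⟨q, hqp⟩))) :=
    (S.presheaf.germ V _ hφz).hom.toAlgebra
  letI algRT : Algebra (S.presheaf.stalk (φ (hU.fromSpec ⟨q, hqp⟩)))
      (X.presheaf.stalk (hU.fromSpec ⟨q, hqp⟩)) := (φ.stalkMap (hU.fromSpec ⟨q, hqp⟩)).hom.toAlgebra
  haveI : IsScalarTower Γ(S, V) (S.presheaf.stalk (φ (hU.fromSpec ⟨q, hqp⟩)))
      (X.presheaf.stalk (hU.fromSpec ⟨q, hqp⟩)) := by
    refine IsScalarTower.of_algebraMap_eq (fun r => ?_)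
    show (X.presheaf.germ U _ hzU) ((φ.appLE V U e).hom r) =
      (φ.stalkMap (hU.fromSpec ⟨q, hqp⟩)).hom (S.presheaf.germ V _ hφz r)
    rw [Scheme.Hom.germ_stalkMap_apply, Scheme.Hom.appLE, CommRingCat.comp_apply,
      TopCat.Presheaf.germ_res_apply]
  haveI : IsLocalization.AtPrime (S.presheaf.stalk (φ (hU.fromSpec ⟨q, hqp⟩)))
      (hV.primeIdealOf ⟨φ (hU.fromSpec ⟨q, hqp⟩), hφz⟩).asIdeal :=
    hV.isLocalization_stalk ⟨φ (hU.fromSpec ⟨q, hqp⟩), hφz⟩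
  haveI : Module.Flat Γ(S, V) (S.presheaf.stalk (φ (hU.fromSpec ⟨q, hqp⟩))) :=
    IsLocalization.flat _ (hV.primeIdealOf ⟨φ (hU.fromSpec ⟨q, hqp⟩), hφz⟩).asIdeal.primeCompl
  haveI := (pointwise φ 𝓘 hfib ⟨U, hU⟩ f hf (hU.fromSpec ⟨q, hqp⟩) hzU).2
  exact RelCartierA.flat_trans_quot (A := Γ(S, V))
    (R₀ := S.presheaf.stalk (φ (hU.fromSpec ⟨q, hqp⟩))) _

end Groth.Agent.Lead.RelCartierC
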