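import Mathlib

set_option autoImplicit false
universe u
open Function TensorProduct IsLocalRing

namespace Groth.Agent.Lead.RelCartierD

/-- If `T/I` is flat over the local ring `R₀`, `I` is finitely generated, and the image of `I` in the
closed fibre `T/𝔪T` is principal, then `I` is principal. -/
theorem principal_of_fibre {R₀ T Tbar : Type u} [CommRing R₀] [CommRing T] [CommRing Tbar]
    [IsLocalRing R₀] [IsLocalRing T] [Algebra R₀ T] [IsLocalHom (algebraMap R₀ T)]
    (I : Ideal T) (hI : I.FG) [Module.Flat R₀ (T ⧸ I)]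
    (π : T →+* Tbar) (hπ : Surjective π)
    (hker : RingHom.ker π = (maximalIdeal R₀).map (algebraMap R₀ T))
    (gbar : Tbar) (hg : Ideal.map π I = Ideal.span {gbar}) :
    ∃ g ∈ I, π g = gbar ∧ I = Ideal.span {g} := by
  have h1 : gbar ∈ Ideal.map π I := hg ▸ Ideal.mem_span_singleton_self gbar
  rw [Ideal.mem_map_iff_of_surjective π hπ] at h1
  obtain ⟨g, hgI, hgπ⟩ := h1
  refine ⟨g, hgI, hgπ, le_antisymm ?_ ((Ideal.span_singleton_le_iff_mem I).mpr hgI)⟩
  -- flatness: `I ⊓ 𝔪T = 𝔪 I`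
  have hfl := LinearMap.ker_inf_smul_top_eq_smul_of_flat (maximalIdeal R₀)
    ((Ideal.Quotient.mkₐ R₀ I).toLinearMap) (Ideal.Quotient.mkₐ_surjective R₀ I)
  have hmT : (maximalIdeal R₀).map (algebraMap R₀ T) ≤ maximalIdeal T :=
    ((IsLocalRing.local_hom_TFAE (algebraMap R₀ T)).out 0 2).1 ‹IsLocalHom (algebraMap R₀ T)›
  apply Submodule.le_of_le_smul_of_le_jacobson_bot hI
    (IsLocalRing.jacobson_eq_maximalIdeal ⊥ bot_ne_top).ge
  intro a ha
  have h2 : π a ∈ Ideal.span {gbar} := hg ▸ Ideal.mem_map_of_mem π ha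
  rw [Ideal.mem_span_singleton'] at h2
  obtain ⟨cbar, hc⟩ := h2
  obtain ⟨c, rfl⟩ := hπ cbar
  have h3 : a - c * g ∈ RingHom.ker π := by
    rw [RingHom.mem_ker, map_sub, map_mul, hgπ, hc, sub_self]
  have h4 : a - c * g ∈ I := I.sub_mem ha (I.mul_mem_left c hgI)
  have h5 : a - c * g ∈ (LinearMap.ker (Ideal.Quotient.mkₐ R₀ I).toLinearMap) ⊓
      ((maximalIdeal R₀) • (⊤ : Submodule R₀ T)) := by
    refine ⟨?_, ?_⟩
    · exact LinearMap.mem_ker.mpr (Ideal.Quotient.eq_zero_iff_mem.mpr h4)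
    · rw [Ideal.smul_top_eq_map]
      rw [hker] at h3
      exact h3
  rw [hfl] at h5
  have h7 : a - c * g ∈ (maximalIdeal T) * I := by
    refine Submodule.smul_induction_on h5 ?_ ?_
    · intro r hr b hb
      have hbI : b ∈ I := by
        rw [LinearMap.mem_ker] at hb
        exact Ideal.Quotient.eq_zero_iff_mem.mp hb
      rw [Algebra.smul_def]
      exact Ideal.mul_mem_mul (hmT (Ideal.mem_map_of_mem _ hr)) hbI
    · intro x y hx hy
      exact add_mem hx hy
  have h8 : a = c * g + (a - c * g) := by ring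
  rw [h8]
  exact Submodule.add_mem_sup (Ideal.mem_span_singleton'.mpr ⟨c, rfl⟩) h7

end Groth.Agent.Lead.RelCartierD
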