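import Mathlib

set_option autoImplicit false
universe u
open Function TensorProduct IsLocalRing

namespace Groth.Agent.Lead.RelCartierE

/-- localizing a flat quotient. -/
theorem flat_loc_quot {A B R₀ T : Type u} [CommRing A] [CommRing B] [CommRing R₀] [CommRing T]
    [Algebra A B] [Algebra A R₀] [Algebra B T] [Algebra R₀ T] [Algebra A T]
    [IsScalarTower A B T] [IsScalarTower A R₀ T]
    (Mp : Submonoid A) [IsLocalization Mp R₀] (Mq : Submonoid B) [IsLocalization Mq T]
    (J : Ideal B) [Module.Flat A (B ⧸ J)] :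
    Module.Flat R₀ (T ⧸ J.map (algebraMap B T)) := by
  have : IsScalarTower A (B ⧸ J) (T ⧸ J.map (algebraMap B T)) :=
    IsScalarTower.of_algebraMap_eq (fun r => by
      show Ideal.Quotient.mk _ (algebraMap A T r) =
        Ideal.Quotient.mk _ (algebraMap B T (algebraMap A B r))
      rw [← IsScalarTower.algebraMap_apply A B T])
  have : IsLocalization (Algebra.algebraMapSubmonoid (B ⧸ J) Mq)
      (T ⧸ J.map (algebraMap B T)) := inferInstance
  have : Module.Flat (B ⧸ J) (T ⧸ J.map (algebraMap B T)) :=
    IsLocalization.flat _ (Algebra.algebraMapSubmonoid (B ⧸ J) Mq)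
  have : Module.Flat A (T ⧸ J.map (algebraMap B T)) :=
    Module.Flat.trans A (B ⧸ J) (T ⧸ J.map (algebraMap B T))
  exact (Module.flat_iff_of_isLocalization (R := A) (S := R₀)
    (M := T ⧸ J.map (algebraMap B T)) (p := Mp)).mpr inferInstance

/-- clearing denominators for finitely many divisibility relations in a localization. -/
theorem exists_mul_eq_of_mem_span {B T : Type*} [CommRing B] [CommRing T] [Algebra B T]
    (M : Submonoid B) [IsLocalization M T] (g₀ : B) (s : Finset B)
    (h : ∀ a ∈ s, algebraMap B T a ∈ Ideal.span {algebraMap B T g₀}) :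
    ∃ r ∈ M, ∀ a ∈ s, ∃ b : B, r * a = b * g₀ := by
  classical
  induction s using Finset.induction_on with
  | empty => exact ⟨1, M.one_mem, fun a ha => absurd ha (Finset.notMem_empty a)⟩
  | insert a s ha ih =>
    obtain ⟨r, hr, hrs⟩ := ih (fun a' ha' => h a' (Finset.mem_insert_of_mem ha'))
    have h1 := h a (Finset.mem_insert_self a s)
    rw [Ideal.mem_span_singleton'] at h1
    obtain ⟨c, hc⟩ := h1
    obtain ⟨b, t, rfl⟩ := IsLocalization.exists_mk'_eq M c
    -- mk' b t * g₀ = a
    have h2 : algebraMap B T (b * g₀) = algebraMap B T (t * a) := by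
      rw [map_mul, map_mul, ← hc, ← mul_assoc, mul_comm (algebraMap B T t),
        IsLocalization.mk'_spec]
    obtain ⟨u, hu⟩ := (IsLocalization.eq_iff_exists M T).mp h2
    refine ⟨r * (u * t), M.mul_mem hr (M.mul_mem u.2 t.2), ?_⟩
    intro a' ha'
    rcases Finset.mem_insert.mp ha' with rfl | ha'
    · refine ⟨r * (u * b), ?_⟩
      have : (u : B) * (t * a') = u * (b * g₀) := hu.symm
      calc r * (u * t) * a' = r * (u * (t * a')) := by ring
        _ = r * (u * (b * g₀)) := by rw [this]
        _ = r * (u * b) * g₀ := by ring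
    · obtain ⟨b', hb'⟩ := hrs a' ha'
      refine ⟨u * t * b', ?_⟩
      calc r * (u * t) * a' = u * t * (r * a') := by ring
        _ = u * t * (b' * g₀) := by rw [hb']
        _ = u * t * b' * g₀ := by ring

/-- spreading out principal generation of a finitely generated ideal from a localization to a
basic open. -/
theorem spread_principal {B T : Type*} [CommRing B] [CommRing T] [Algebra B T]
    (M : Submonoid B) [IsLocalization M T] (J : Ideal B) (hJ : J.FG) (g : T)
    (hg : J.map (algebraMap B T) = Ideal.span {g}) :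
    ∃ r ∈ M, ∃ g₀ ∈ J, ∀ (B' : Type*) [CommRing B'] [Algebra B B'], IsUnit (algebraMap B B' r) →
      J.map (algebraMap B B') = Ideal.span {algebraMap B B' g₀} := by
  classical
  have h1 : g ∈ J.map (algebraMap B T) := hg ▸ Ideal.mem_span_singleton_self g
  rw [IsLocalization.mem_map_algebraMap_iff M] at h1
  obtain ⟨⟨⟨g₀, hg₀⟩, t⟩, ht⟩ := h1
  -- g * t = g₀
  have hspan : Ideal.span {g} = Ideal.span {algebraMap B T g₀} := by
    have hu : IsUnit (algebraMap B T t) := IsLocalization.map_units T t
    rw [← ht]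
    exact (Ideal.span_singleton_mul_right_unit hu g).symm
  obtain ⟨s, rfl⟩ := hJ
  obtain ⟨r, hr, hrs⟩ := exists_mul_eq_of_mem_span M g₀ s (fun a ha => by
    rw [← hspan, ← hg]
    exact Ideal.mem_map_of_mem _ (Ideal.subset_span ha))
  refine ⟨r, hr, g₀, hg₀, ?_⟩
  intro B' _ _ hru
  apply le_antisymm
  · rw [Ideal.map_span, Ideal.span_le]
    rintro _ ⟨a, ha, rfl⟩
    obtain ⟨b, hb⟩ := hrs a ha
    obtain ⟨v, hv⟩ := hru.exists_left_inv
    rw [SetLike.mem_coe, Ideal.mem_span_singleton']
    refine ⟨v * algebraMap B B' b, ?_⟩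
    calc v * algebraMap B B' b * algebraMap B B' g₀ = v * algebraMap B B' (b * g₀) := by
          rw [map_mul]; ring
      _ = v * algebraMap B B' (r * a) := by rw [hb]
      _ = (v * algebraMap B B' r) * algebraMap B B' a := by rw [map_mul]; ring
      _ = algebraMap B B' a := by rw [hv, one_mul]
  · rw [Ideal.span_singleton_le_iff_mem]
    exact Ideal.mem_map_of_mem _ hg₀

end Groth.Agent.Lead.RelCartierE
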