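import Mathlib
import Groth.Prelude.Def_BlowUp2
import Groth.Prelude.Def_CurvBase
import Groth.Agent.Helper2.LfpComp
import Groth.Agent.Lead.IdealFG
import Groth.Agent.Lead.RelCartierC
import Groth.Agent.Lead.RelCartierD
import Groth.Agent.Lead.RelCartierE

/-!
# A closed subscheme flat and of finite presentation over the base whose fibres are effective
Cartier divisors is locally principal
-/

set_option autoImplicit false
universe u
open CategoryTheory CategoryTheory.Limits AlgebraicGeometry TopologicalSpace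
open Function

namespace Groth.Agent.Lead.RelCartierF

variable {X S : Scheme.{u}} (φ : X ⟶ S) [LocallyOfFiniteType φ] (𝓘 : X.IdealSheafData)

/-- the ideal sheaf of a closed subscheme of finite presentation over the base is of finite type. -/
theorem ideal_fg [LocallyOfFinitePresentation (𝓘.subschemeι ≫ φ)] (U : X.affineOpens) :
    (𝓘.ideal U).FG := by
  haveI : LocallyOfFinitePresentation 𝓘.subschemeι :=
    Groth.Agent.Helper2.LfpComp.locallyOfFinitePresentation_of_comp 𝓘.subschemeι φ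
      inferInstance inferInstance
  have := IdealFG.ker_fg 𝓘.subschemeι U
  rwa [𝓘.ker_subschemeι] at this

/-- local principality at the image of a point of a fibre. -/
theorem locPrincipal_at [Flat (𝓘.subschemeι ≫ φ)] [LocallyOfFinitePresentation (𝓘.subschemeι ≫ φ)]
    (s : S) (hfib : BlowUp.IsEffCartierIdeal (𝓘.comap (φ.fiberι s))) (y : ↥(φ.fiber s)) :
    ∃ U : X.affineOpens, (φ.fiberι s) y ∈ (U : X.Opens) ∧
      ∃ f : Γ(X, U), 𝓘.ideal U = Ideal.span {f} := by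
  obtain ⟨V, hV, hφxV, -⟩ := (Opens.isBasis_iff_nbhd.1 S.isBasis_affineOpens)
    (show φ ((φ.fiberι s) y) ∈ (⊤ : S.Opens) from trivial)
  obtain ⟨U, hU, hxU, e⟩ := (Opens.isBasis_iff_nbhd.1 X.isBasis_affineOpens)
    (show (φ.fiberι s) y ∈ φ ⁻¹ᵁ V from hφxV)
  obtain ⟨W, hyW, hWU, g', -, hgI⟩ :=
    EffCartier.exists_le_of_isEffCartier _ hfib y ((φ.fiberι s) ⁻¹ᵁ U) hxU
  have hcomap := Groth.Agent.Helper9.IdealComap.ideal_comap (φ.fiberι s) 𝓘 ⟨U, hU⟩ W hWU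
  rw [hgI] at hcomap
  have hfg : (𝓘.ideal ⟨U, hU⟩).FG := ideal_fg φ 𝓘 ⟨U, hU⟩
  -- algebra structures
  letI algAB : Algebra Γ(S, V) Γ(X, U) := (φ.appLE V U e).hom.toAlgebra
  letI algAR : Algebra Γ(S, V) (S.presheaf.stalk (φ ((φ.fiberι s) y))) :=
    (S.presheaf.germ V _ hφxV).hom.toAlgebra
  letI algBT : Algebra Γ(X, U) (X.presheaf.stalk ((φ.fiberι s) y)) :=
    (X.presheaf.germ U _ hxU).hom.toAlgebra
  letI algRT : Algebra (S.presheaf.stalk (φ ((φ.fiberι s) y)))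
      (X.presheaf.stalk ((φ.fiberι s) y)) := (φ.stalkMap ((φ.fiberι s) y)).hom.toAlgebra
  letI algAT : Algebra Γ(S, V) (X.presheaf.stalk ((φ.fiberι s) y)) :=
    ((X.presheaf.germ U _ hxU).hom.comp (φ.appLE V U e).hom).toAlgebra
  haveI tow1 : IsScalarTower Γ(S, V) Γ(X, U) (X.presheaf.stalk ((φ.fiberι s) y)) :=
    IsScalarTower.of_algebraMap_eq (fun _ => rfl)
  haveI tow2 : IsScalarTower Γ(S, V) (S.presheaf.stalk (φ ((φ.fiberι s) y)))
      (X.presheaf.stalk ((φ.fiberι s) y)) := by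
    refine IsScalarTower.of_algebraMap_eq (fun r => ?_)
    show (X.presheaf.germ U _ hxU) ((φ.appLE V U e).hom r) =
      (φ.stalkMap ((φ.fiberι s) y)).hom (S.presheaf.germ V _ hφxV r)
    rw [Scheme.Hom.germ_stalkMap_apply, Scheme.Hom.appLE, CommRingCat.comp_apply,
      TopCat.Presheaf.germ_res_apply]
  haveI locR : IsLocalization.AtPrime (S.presheaf.stalk (φ ((φ.fiberι s) y)))
      (hV.primeIdealOf ⟨φ ((φ.fiberι s) y), hφxV⟩).asIdeal :=
    hV.isLocalization_stalk ⟨φ ((φ.fiberι s) y), hφxV⟩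
  haveI locT : IsLocalization.AtPrime (X.presheaf.stalk ((φ.fiberι s) y))
      (hU.primeIdealOf ⟨(φ.fiberι s) y, hxU⟩).asIdeal :=
    hU.isLocalization_stalk ⟨(φ.fiberι s) y, hxU⟩
  haveI : IsLocalHom (algebraMap (S.presheaf.stalk (φ ((φ.fiberι s) y)))
      (X.presheaf.stalk ((φ.fiberι s) y))) := by
    show IsLocalHom (φ.stalkMap ((φ.fiberι s) y)).hom
    infer_instance
  -- flatness of the local quotient
  haveI hflBJ : Module.Flat Γ(S, V) (Γ(X, U) ⧸ 𝓘.ideal ⟨U, hU⟩) :=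
    (EffCartier.ringHomFlat_quot_iff (φ.appLE V U e).hom (𝓘.ideal ⟨U, hU⟩)).mp
      (EffCartier.flat_quot_of_flat φ 𝓘 ⟨V, hV⟩ ⟨U, hU⟩ e)
  haveI hflT := RelCartierE.flat_loc_quot (A := Γ(S, V)) (B := Γ(X, U))
    (R₀ := S.presheaf.stalk (φ ((φ.fiberι s) y))) (T := X.presheaf.stalk ((φ.fiberι s) y))
    (hV.primeIdealOf ⟨φ ((φ.fiberι s) y), hφxV⟩).asIdeal.primeCompl
    (hU.primeIdealOf ⟨(φ.fiberι s) y, hxU⟩).asIdeal.primeCompl (𝓘.ideal ⟨U, hU⟩)
  -- the fibre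
  obtain ⟨hsurj, hker⟩ := Groth.Agent.Helper5.FibStalk.s9501 φ s y
  have hmap : Ideal.map ((φ.fiberι s).stalkMap y).hom
      ((𝓘.ideal ⟨U, hU⟩).map (algebraMap Γ(X, U) (X.presheaf.stalk ((φ.fiberι s) y)))) =
      Ideal.span {(φ.fiber s).presheaf.germ W.1 y hyW g'} := by
    have hcomp : ((φ.fiberι s).stalkMap y).hom.comp
        (algebraMap Γ(X, U) (X.presheaf.stalk ((φ.fiberι s) y))) =
        ((φ.fiber s).presheaf.germ W.1 y hyW).hom.comp ((φ.fiberι s).appLE U W.1 hWU).hom := by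
      ext b
      show ((φ.fiberι s).stalkMap y).hom (X.presheaf.germ U _ hxU b) =
        (φ.fiber s).presheaf.germ W.1 y hyW (((φ.fiberι s).appLE U W.1 hWU).hom b)
      rw [Scheme.Hom.appLE, CommRingCat.comp_apply, TopCat.Presheaf.germ_res_apply]
      exact Scheme.Hom.germ_stalkMap_apply (φ.fiberι s) U y hxU b
    rw [Ideal.map_map, hcomp, ← Ideal.map_map, ← hcomap, Ideal.map_span, Set.image_singleton]
  obtain ⟨g, -, -, hg⟩ := RelCartierD.principal_of_fibre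
    ((𝓘.ideal ⟨U, hU⟩).map (algebraMap Γ(X, U) (X.presheaf.stalk ((φ.fiberι s) y))))
    (hfg.map _) ((φ.fiberι s).stalkMap y).hom hsurj hker _ hmap
  -- spreading out
  obtain ⟨r, hr, g₀, hg₀, hsp⟩ := RelCartierE.spread_principal
    (hU.primeIdealOf ⟨(φ.fiberι s) y, hxU⟩).asIdeal.primeCompl (𝓘.ideal ⟨U, hU⟩) hfg g hg
  have hxr : (φ.fiberι s) y ∈ X.basicOpen r := by
    rw [X.mem_basicOpen r _ hxU]
    exact IsLocalization.map_units (X.presheaf.stalk ((φ.fiberι s) y))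
      (⟨r, hr⟩ : (hU.primeIdealOf ⟨(φ.fiberι s) y, hxU⟩).asIdeal.primeCompl)
  refine ⟨X.affineBasicOpen (U := ⟨U, hU⟩) r, hxr, (X.presheaf.map (homOfLE (X.basicOpen_le r)).op).hom g₀, ?_⟩
  rw [← 𝓘.map_ideal_basicOpen ⟨U, hU⟩ r]
  letI algBB' : Algebra Γ(X, U) Γ(X, X.basicOpen r) :=
    (X.presheaf.map (homOfLE (X.basicOpen_le r)).op).hom.toAlgebra
  have hloc := hU.isLocalization_basicOpen r
  exact hsp Γ(X, X.basicOpen r) (IsLocalization.Away.algebraMap_isUnit r)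

theorem isLocPrincipal [Flat (𝓘.subschemeι ≫ φ)] [LocallyOfFinitePresentation (𝓘.subschemeι ≫ φ)]
    (hfib : ∀ s : ↥S, BlowUp.IsEffCartierIdeal (𝓘.comap (φ.fiberι s))) :
    Curv2.IsLocPrincipal 𝓘 := by
  intro x _
  obtain ⟨s, y, rfl⟩ : ∃ s, ∃ y : ↥(φ.fiber s), φ.fiberι s y = x :=
    ⟨φ x, φ.asFiber x, φ.fiberι_asFiber x⟩
  exact locPrincipal_at φ 𝓘 s (hfib s) y

end Groth.Agent.Lead.RelCartierF
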