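import Mathlib
import Groth.Prelude.Def_Desc
open AlgebraicGeometry CategoryTheory Limits

universe u

namespace Groth.Agent.Lead

theorem toDD_map_snd {X S : Scheme.{u}} (p : X ⟶ S) {U U' : Over S} (g : U ⟶ U') :
    ((Desc.toDD p).map g).hom.left ≫ pullback.snd p U'.hom = pullback.snd p U.hom ≫ g.left := by
  show pullback.map p U.hom p U'.hom (𝟙 X) g.left (𝟙 S) (by simp) (by simp) ≫
    pullback.snd p U'.hom = _
  rw [pullback.lift_snd]

theorem toDD_map_fst {X S : Scheme.{u}} (p : X ⟶ S) {U U' : Over S} (g : U ⟶ U') :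
    ((Desc.toDD p).map g).hom.left ≫ pullback.fst p U'.hom = pullback.fst p U.hom := by
  show pullback.map p U.hom p U'.hom (𝟙 X) g.left (𝟙 S) (by simp) (by simp) ≫
    pullback.fst p U'.hom = _
  rw [pullback.lift_fst, Category.comp_id]

theorem toDD_faithful {X S : Scheme.{u}} (p : X ⟶ S) [Surjective p] [Flat p] :
    (Desc.toDD p).Faithful := by
  constructor
  intro U U' g₁ g₂ h
  have h2 : pullback.snd p U.hom ≫ g₁.left = pullback.snd p U.hom ≫ g₂.left := by
    rw [← toDD_map_snd, ← toDD_map_snd, h]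
  have : Epi (pullback.snd p U.hom) := Flat.epi_of_flat_of_surjective _
  ext
  exact (cancel_epi _).mp h2

theorem toDD_full {X S : Scheme.{u}} (p : X ⟶ S) [Surjective p] [Flat p] [QuasiCompact p] :
    (Desc.toDD p).Full := by
  constructor
  intro U U' ψ
  -- q : X ×_S U ⟶ U
  let q : pullback p U.hom ⟶ U.left := pullback.snd p U.hom
  have hq1 : Surjective q := inferInstance
  have hq2 : Flat q := inferInstance
  have hq3 : QuasiCompact q := inferInstance
  have hqe : EffectiveEpi q := inferInstance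
  let ψl : pullback p U.hom ⟶ pullback p U'.hom := ψ.hom.left
  have hψ1 : ψl ≫ pullback.fst p U'.hom = pullback.fst p U.hom := Over.w ψ.hom
  let f : pullback p U.hom ⟶ U'.left := ψl ≫ pullback.snd p U'.hom
  have hf : ∀ {Z : Scheme.{u}} (a₀ a₁ : Z ⟶ pullback p U.hom), a₀ ≫ q = a₁ ≫ q →
      a₀ ≫ f = a₁ ≫ f := by
    intro Z a₀ a₁ ha
    have hx : (a₀ ≫ pullback.fst p U.hom) ≫ p = (a₁ ≫ pullback.fst p U.hom) ≫ p := by
      rw [Category.assoc, Category.assoc, pullback.condition, ← Category.assoc, ← Category.assoc]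
      exact congrArg (· ≫ U.hom) ha
    let v : Desc.Lifts ((Desc.toDD p).obj U).obj (a₀ ≫ pullback.fst p U.hom) := ⟨a₀, rfl⟩
    let w : Desc.Lifts ((Desc.toDD p).obj U').obj (a₀ ≫ pullback.fst p U.hom) :=
      ⟨a₀ ≫ ψl, by
        show (a₀ ≫ ψl) ≫ pullback.fst p U'.hom = _
        rw [Category.assoc, hψ1]⟩
    have hc : (((Desc.toDD p).obj U').φ (a₀ ≫ pullback.fst p U.hom)
        (a₁ ≫ pullback.fst p U.hom) hx w).1 = (((Desc.toDD p).obj U).φ (a₀ ≫ pullback.fst p U.hom)
        (a₁ ≫ pullback.fst p U.hom) hx v).1 ≫ ψl :=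
      ψ.comm (a₀ ≫ pullback.fst p U.hom) (a₁ ≫ pullback.fst p U.hom) hx v w rfl
    have hv : (((Desc.toDD p).obj U).φ (a₀ ≫ pullback.fst p U.hom)
        (a₁ ≫ pullback.fst p U.hom) hx v).1 = a₁ := by
      show pullback.lift _ _ _ = a₁
      apply pullback.hom_ext
      · rw [pullback.lift_fst]
      · rw [pullback.lift_snd]; exact ha
    rw [hv] at hc
    have hw : (((Desc.toDD p).obj U').φ (a₀ ≫ pullback.fst p U.hom)
        (a₁ ≫ pullback.fst p U.hom) hx w).1 ≫ pullback.snd p U'.hom =
        (a₀ ≫ ψl) ≫ pullback.snd p U'.hom := by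
      show pullback.lift _ _ _ ≫ _ = _
      rw [pullback.lift_snd]
      rfl
    rw [hc] at hw
    simp only [f, ← Category.assoc]
    exact hw.symm
  let g : U.left ⟶ U'.left := EffectiveEpi.desc q f (fun a₀ a₁ ha => hf a₀ a₁ ha)
  have hg : q ≫ g = f := EffectiveEpi.fac q f _
  have hepi : Epi q := inferInstance
  have hgS : g ≫ U'.hom = U.hom := by
    rw [← cancel_epi q, ← Category.assoc, hg]
    simp only [f, q, Category.assoc]
    rw [← pullback.condition, ← Category.assoc, hψ1, pullback.condition]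
  refine ⟨Over.homMk g hgS, ?_⟩
  apply Desc.SchDD.hom_ext
  ext
  show ((Desc.toDD p).map (Over.homMk g hgS : U ⟶ U')).hom.left = ψl
  apply pullback.hom_ext
  · exact (toDD_map_fst p _).trans hψ1.symm
  · exact (toDD_map_snd p _).trans hg

theorem toDD_map_injective_of_unramified {X S : Scheme.{u}} (p : X ⟶ S) [Surjective p]
    (U₁ U₂ : Over S) [FormallyUnramified U₂.hom] [LocallyOfFiniteType U₂.hom] :
    Function.Injective ((Desc.toDD p).map : (U₁ ⟶ U₂) → _) := by
  intro g₁ g₂ h
  let q : pullback p U₁.hom ⟶ U₁.left := pullback.snd p U₁.hom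
  have hq : Surjective q := inferInstance
  have h2 : q ≫ g₁.left = q ≫ g₂.left := by
    rw [← toDD_map_snd, ← toDD_map_snd, h]
  have hfg : g₁.left ≫ U₂.hom = g₂.left ≫ U₂.hom := by rw [Over.w g₁, Over.w g₂]
  let φ : U₁.left ⟶ pullback U₂.hom U₂.hom := pullback.lift g₁.left g₂.left hfg
  have hΔ : IsOpenImmersion (pullback.diagonal U₂.hom) := inferInstance
  have e1 : q ≫ φ = (q ≫ g₁.left) ≫ pullback.diagonal U₂.hom := by
    apply pullback.hom_ext
    · simp only [φ, Category.assoc, pullback.diagonal_fst, Category.comp_id]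
      rw [pullback.lift_fst]
    · simp only [φ, Category.assoc, pullback.diagonal_snd, Category.comp_id]
      rw [pullback.lift_snd, h2]
  have hU : Set.range φ ⊆ Set.range (pullback.diagonal U₂.hom) := by
    rintro _ ⟨z, rfl⟩
    obtain ⟨t, rfl⟩ := hq.surj z
    refine ⟨(q ≫ g₁.left) t, ?_⟩
    have := congrArg (fun ψ : pullback p U₁.hom ⟶ pullback U₂.hom U₂.hom => ψ t) e1
    simpa using this.symm
  let ψ : U₁.left ⟶ U₂.left := IsOpenImmersion.lift (pullback.diagonal U₂.hom) φ hU
  have hψ : ψ ≫ pullback.diagonal U₂.hom = φ := IsOpenImmersion.lift_fac _ _ _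
  have e3 : g₁.left = ψ := by
    have := congrArg (· ≫ pullback.fst U₂.hom U₂.hom) hψ
    simp only [φ, Category.assoc, pullback.diagonal_fst, Category.comp_id] at this
    rw [pullback.lift_fst] at this
    exact this.symm
  have e4 : g₂.left = ψ := by
    have := congrArg (· ≫ pullback.snd U₂.hom U₂.hom) hψ
    simp only [φ, Category.assoc, pullback.diagonal_snd, Category.comp_id] at this
    rw [pullback.lift_snd] at this
    exact this.symm
  ext
  rw [e3, e4]

end Groth.Agent.Lead
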