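import Mathlib
import Groth.Agent.Helper8.GenFree11

set_option autoImplicit false
universe u
open TensorProduct

namespace Groth.Agent.Lead.CoreSepA

/-- tensoring with a free module preserves joint injectivity of a family of linear maps -/
theorem jointly_injective_lTensor_of_free {R : Type*} [CommRing R] {P : Type*} [AddCommGroup P]
    [Module R P] [Module.Free R P] {X : Type*} [AddCommGroup X] [Module R X] {ι : Type*}
    {Y : ι → Type*} [∀ i, AddCommGroup (Y i)] [∀ i, Module R (Y i)]
    (w : ∀ i, X →ₗ[R] Y i) (hw : ∀ x, (∀ i, w i x = 0) → x = 0) (z : P ⊗[R] X)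
    (hz : ∀ i, (w i).lTensor P z = 0) : z = 0 := by
  classical
  let b := Module.Free.chooseBasis R P
  have key : ∀ (i : ι) (z : P ⊗[R] X) (k : Module.Free.ChooseBasisIndex R P),
      (TensorProduct.equivFinsuppOfBasisLeft b ((w i).lTensor P z)) k =
        w i ((TensorProduct.equivFinsuppOfBasisLeft b z) k) := by
    intro i z k
    induction z using TensorProduct.induction_on with
    | zero => simp
    | tmul p x => simp [TensorProduct.equivFinsuppOfBasisLeft_apply_tmul_apply]
    | add a c ha hc => simp only [map_add, Finsupp.add_apply, ha, hc]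
  apply (TensorProduct.equivFinsuppOfBasisLeft b).injective
  rw [map_zero]
  ext k
  apply hw
  intro i
  rw [← key, hz i, map_zero]
  rfl

/-- localisation (as a tensor product) of a family of linear maps: joint injectivity from the
power-torsion form of the hypothesis -/
theorem jointly_injective_localization {R : Type u} [CommRing R] (f : R)
    {X : Type u} [AddCommGroup X] [Module R X] {ι : Type*}
    {Y : ι → Type u} [∀ i, AddCommGroup (Y i)] [∀ i, Module R (Y i)]
    (v : ∀ i, X →ₗ[R] Y i)
    (H : ∀ x : X, (∀ i, ∃ n : ℕ, f ^ n • v i x = 0) → ∃ n : ℕ, f ^ n • x = 0)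
    (z : Localization.Away f ⊗[R] X)
    (hz : ∀ i, (v i).baseChange (Localization.Away f) z = 0) : z = 0 := by
  have hX : IsLocalizedModule (Submonoid.powers f)
      (TensorProduct.mk R (Localization.Away f) X 1) :=
    (isLocalizedModule_iff_isBaseChange (Submonoid.powers f) (Localization.Away f) _).mpr
      (TensorProduct.isBaseChange R X (Localization.Away f))
  have hY : ∀ i, IsLocalizedModule (Submonoid.powers f)
      (TensorProduct.mk R (Localization.Away f) (Y i) 1) := fun i =>
    (isLocalizedModule_iff_isBaseChange (Submonoid.powers f) (Localization.Away f) _).mpr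
      (TensorProduct.isBaseChange R (Y i) (Localization.Away f))
  obtain ⟨⟨x, s⟩, hxs⟩ := IsLocalizedModule.surj (Submonoid.powers f)
    (TensorProduct.mk R (Localization.Away f) X 1) z
  have hx0 : ∃ n : ℕ, f ^ n • x = 0 := by
    apply H
    intro i
    have h1 : (TensorProduct.mk R (Localization.Away f) (Y i) 1) (v i x) = 0 := by
      have : (TensorProduct.mk R (Localization.Away f) (Y i) 1) (v i x) =
          (v i).baseChange (Localization.Away f)
            ((TensorProduct.mk R (Localization.Away f) X 1) x) := by
        simp
      rw [this, ← hxs]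
      have hlin : (v i).baseChange (Localization.Away f) (s • z) =
          s • (v i).baseChange (Localization.Away f) z := by
        rw [Submonoid.smul_def, ← algebraMap_smul (Localization.Away f) (s : R) z, map_smul,
          algebraMap_smul]
        rfl
      rw [hlin, hz i, smul_zero]
    obtain ⟨⟨_, n, rfl⟩, hn⟩ := (IsLocalizedModule.eq_zero_iff (Submonoid.powers f)
      (TensorProduct.mk R (Localization.Away f) (Y i) 1)).mp h1
    exact ⟨n, hn⟩
  obtain ⟨n, hn⟩ := hx0
  have h2 : (TensorProduct.mk R (Localization.Away f) X 1) x = 0 :=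
    (IsLocalizedModule.eq_zero_iff (Submonoid.powers f) _).mpr ⟨⟨_, n, rfl⟩, hn⟩
  rw [h2] at hxs
  exact (IsLocalizedModule.smul_injective (TensorProduct.mk R (Localization.Away f) X 1) s)
    (hxs.trans (smul_zero s).symm)

open TensorProduct.AlgebraTensorModule in
/-- **Domain step.** Over a domain `R`, with `S` a finite type `R`-algebra, an element of
`S ⊗ X` killed by a family of maps which is separating on every basic open of `Spec R` is
`R`-torsion. -/
theorem torsion_of_killed {R : Type u} [CommRing R] [IsDomain R] {S : Type u} [CommRing S]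
    [Algebra R S] [Algebra.FiniteType R S]
    {X : Type u} [AddCommGroup X] [Module R X] {ι : Type*} {Y : ι → Type u}
    [∀ i, AddCommGroup (Y i)] [∀ i, Module R (Y i)] (v : ∀ i, X →ₗ[R] Y i)
    (H : ∀ f : R, f ≠ 0 → ∀ x : X, (∀ i, ∃ n : ℕ, f ^ n • v i x = 0) → ∃ n : ℕ, f ^ n • x = 0)
    (t : S ⊗[R] X) (ht : ∀ i, (v i).lTensor S t = 0) : ∃ f : R, f ≠ 0 ∧ f • t = 0 := by
  obtain ⟨f, hf0, -, hfree, -, -⟩ := Groth.Agent.Helper8.GenFree.s0389 (R := R) (S := S) (M := S)
  have hz : distribBaseChange R (Localization.Away f) S X (1 ⊗ₜ t) = 0 := by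
    refine jointly_injective_lTensor_of_free (R := Localization.Away f)
      (P := Localization.Away f ⊗[R] S) (fun i => (v i).baseChange (Localization.Away f))
      (fun x hx => jointly_injective_localization f v (H f hf0) x hx) _ ?_
    intro i
    have nat : ∀ y : Localization.Away f ⊗[R] (S ⊗[R] X),
        ((v i).baseChange (Localization.Away f)).lTensor (Localization.Away f ⊗[R] S)
          (distribBaseChange R (Localization.Away f) S X y) =
        distribBaseChange R (Localization.Away f) S (Y i)
          (((v i).lTensor S).baseChange (Localization.Away f) y) := by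
      intro y
      induction y using TensorProduct.induction_on with
      | zero => simp
      | tmul a w =>
        induction w using TensorProduct.induction_on with
        | zero => simp
        | tmul s x => simp
        | add w₁ w₂ h₁ h₂ => simp only [tmul_add, map_add, h₁, h₂]
      | add y₁ y₂ h₁ h₂ => simp only [map_add, h₁, h₂]
    rw [nat]
    simp [ht i]
  have h1 : (1 : Localization.Away f) ⊗ₜ[R] t = 0 :=
    (distribBaseChange R (Localization.Away f) S X).injective (hz.trans (map_zero _).symm)
  have hloc : IsLocalizedModule (Submonoid.powers f)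
      (TensorProduct.mk R (Localization.Away f) (S ⊗[R] X) 1) :=
    (isLocalizedModule_iff_isBaseChange (Submonoid.powers f) (Localization.Away f) _).mpr
      (TensorProduct.isBaseChange R (S ⊗[R] X) (Localization.Away f))
  obtain ⟨⟨_, n, rfl⟩, hn⟩ := (IsLocalizedModule.eq_zero_iff (Submonoid.powers f)
    (TensorProduct.mk R (Localization.Away f) (S ⊗[R] X) 1)).mp h1
  exact ⟨f ^ n, pow_ne_zero n hf0, hn⟩

end Groth.Agent.Lead.CoreSepA
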