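import Mathlib
import Groth.Agent.Lead.CoreSepA

set_option autoImplicit false
universe u
open TensorProduct

namespace Groth.Agent.Lead.CoreSepB

/-- flat base change of the torsion submodule for a finitely generated ideal -/
theorem mem_range_lTensor_torsion {A : Type u} [CommRing A] {A' : Type u} [CommRing A']
    [Algebra A A'] [Module.Flat A A'] {M : Type u} [AddCommGroup M] [Module A M]
    (𝔭 : Ideal A) (h𝔭 : 𝔭.FG) (t : A' ⊗[A] M) (ht : ∀ p ∈ 𝔭, p • t = 0) :
    t ∈ LinearMap.range ((Submodule.torsionBySet A M (𝔭 : Set A)).subtype.lTensor A') := by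
  classical
  obtain ⟨s, hs⟩ := h𝔭
  let g : M →ₗ[A] (s → M) := LinearMap.pi (fun j => (j : A) • LinearMap.id)
  have hex : Function.Exact (Submodule.torsionBySet A M (𝔭 : Set A)).subtype g := by
    intro m
    constructor
    · intro hm
      refine ⟨⟨m, ?_⟩, rfl⟩
      rw [← hs, ← Submodule.torsionBySet_eq_torsionBySet_span, Submodule.mem_torsionBySet_iff]
      rintro ⟨a, ha⟩
      have := congrFun hm ⟨a, ha⟩
      simpa [g] using this
    · rintro ⟨x, rfl⟩
      funext j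
      have hj : (j : A) ∈ 𝔭 := hs ▸ Ideal.subset_span j.2
      have := (Submodule.mem_torsionBySet_iff _ _).mp x.2 ⟨(j : A), hj⟩
      simpa [g] using this
  have hex' := Module.Flat.lTensor_exact A' hex
  apply (hex' t).mp
  apply (TensorProduct.piRight A A A' (fun _ : s => M)).injective
  rw [map_zero]
  funext j
  have hcomp : ∀ z : A' ⊗[A] M, (TensorProduct.piRight A A A' (fun _ : s => M)) (g.lTensor A' z) j =
      (j : A) • z := by
    intro z
    induction z using TensorProduct.induction_on with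
    | zero => simp
    | tmul b m => simp [g, TensorProduct.tmul_smul]
    | add x y hx hy => simp only [map_add, Pi.add_apply, hx, hy, smul_add]
  rw [hcomp]
  exact ht _ (hs ▸ Ideal.subset_span j.2)

section transfer
variable {A : Type u} [CommRing A] (𝔭 : Ideal A) {A' : Type u} [CommRing A'] [Algebra A A']
  {M : Type u} [AddCommGroup M] [Module A M] {N : Type u} [AddCommGroup N] [Module A N]

/-- restriction of a linear map to the `𝔭`-torsion submodules -/
def resA (u : M →ₗ[A] N) :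
    Submodule.torsionBySet A M (𝔭 : Set A) →ₗ[A] Submodule.torsionBySet A N (𝔭 : Set A) :=
  (u.comp (Submodule.torsionBySet A M (𝔭 : Set A)).subtype).codRestrict _ (by
    intro x
    rw [Submodule.mem_torsionBySet_iff]
    rintro ⟨a, ha⟩
    have := (Submodule.mem_torsionBySet_iff _ _).mp x.2 ⟨a, ha⟩
    change a • u x.1 = 0
    rw [← map_smul, this, map_zero])

@[simp] theorem resA_coe (u : M →ₗ[A] N) (x : Submodule.torsionBySet A M (𝔭 : Set A)) :
    ((resA 𝔭 u x : Submodule.torsionBySet A N (𝔭 : Set A)) : N) = u x.1 := rfl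

/-- the same, as a linear map over the quotient ring -/
def resR (u : M →ₗ[A] N) :
    Submodule.torsionBySet A M (𝔭 : Set A) →ₗ[A ⧸ 𝔭]
      Submodule.torsionBySet A N (𝔭 : Set A) where
  toFun := resA 𝔭 u
  map_add' := map_add _
  map_smul' := by
    intro r x
    obtain ⟨a, rfl⟩ := Ideal.Quotient.mk_surjective r
    rw [Submodule.torsionBySet.mk_smul, map_smul]
    rfl

@[simp] theorem resR_apply (u : M →ₗ[A] N) (x : Submodule.torsionBySet A M (𝔭 : Set A)) :
    resR 𝔭 u x = resA 𝔭 u x := rfl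

/-- the comparison `A' ⊗[A] X → ((A ⧸ 𝔭) ⊗[A] A') ⊗[A ⧸ 𝔭] X` for the `𝔭`-torsion `X` of `M` -/
noncomputable def Φ (z : A' ⊗[A] Submodule.torsionBySet A M (𝔭 : Set A)) :
    ((A ⧸ 𝔭) ⊗[A] A') ⊗[A ⧸ 𝔭] Submodule.torsionBySet A M (𝔭 : Set A) :=
  (TensorProduct.comm (A ⧸ 𝔭) ((A ⧸ 𝔭) ⊗[A] A') (Submodule.torsionBySet A M (𝔭 : Set A))).symm
    ((TensorProduct.AlgebraTensorModule.cancelBaseChange A (A ⧸ 𝔭) (A ⧸ 𝔭)
      (Submodule.torsionBySet A M (𝔭 : Set A)) A').symm
      (TensorProduct.comm A A' (Submodule.torsionBySet A M (𝔭 : Set A)) z))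

theorem Φ_add (z w : A' ⊗[A] Submodule.torsionBySet A M (𝔭 : Set A)) :
    Φ 𝔭 (z + w) = Φ 𝔭 z + Φ 𝔭 w := by
  simp only [Φ, map_add]

theorem Φ_zero : Φ 𝔭 (0 : A' ⊗[A] Submodule.torsionBySet A M (𝔭 : Set A)) = 0 := by
  simp only [Φ, map_zero]

theorem Φ_tmul (a' : A') (x : Submodule.torsionBySet A M (𝔭 : Set A)) :
    Φ 𝔭 (a' ⊗ₜ[A] x) = ((1 : A ⧸ 𝔭) ⊗ₜ[A] a') ⊗ₜ[A ⧸ 𝔭] x := rfl

theorem Φ_injective : Function.Injective
    (Φ 𝔭 : A' ⊗[A] Submodule.torsionBySet A M (𝔭 : Set A) → _) := by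
  intro z w h
  simp only [Φ, EmbeddingLike.apply_eq_iff_eq] at h
  exact h

theorem Φ_smul (a : A) (z : A' ⊗[A] Submodule.torsionBySet A M (𝔭 : Set A)) :
    Φ 𝔭 (a • z) = (Ideal.Quotient.mk 𝔭 a) • Φ 𝔭 z := by
  induction z using TensorProduct.induction_on with
  | zero => simp [Φ_zero]
  | tmul a' x =>
    rw [← TensorProduct.tmul_smul, Φ_tmul, Φ_tmul, ← Submodule.torsionBySet.mk_smul,
      TensorProduct.tmul_smul]
  | add z w hz hw => rw [smul_add, Φ_add, hz, hw, Φ_add, smul_add]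

theorem Φ_nat (u : M →ₗ[A] N) (z : A' ⊗[A] Submodule.torsionBySet A M (𝔭 : Set A)) :
    Φ 𝔭 ((resA 𝔭 u).lTensor A' z) = (resR 𝔭 u).lTensor ((A ⧸ 𝔭) ⊗[A] A') (Φ 𝔭 z) := by
  induction z using TensorProduct.induction_on with
  | zero => simp [Φ_zero]
  | tmul a' x => simp [Φ_tmul]
  | add z w hz hw => rw [map_add, Φ_add, hz, hw, Φ_add, map_add]

end transfer

section main
variable {A : Type u} [CommRing A] [IsNoetherianRing A] {A' : Type u} [CommRing A'] [Algebra A A']
  [Algebra.FiniteType A A'] [Module.Flat A A']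
  {M : Type u} [AddCommGroup M] [Module A M] {ι : Type*} {N : ι → Type u}
  [∀ i, AddCommGroup (N i)] [∀ i, Module A (N i)]

/-- **Noetherian core.** A family of linear maps which is separating on every basic open of
`Spec A` stays separating (on global sections) after a flat base change of finite type. -/
theorem core_noeth (u : ∀ i, M →ₗ[A] N i)
    (H : ∀ (a : A) (m : M), (∀ i, ∃ n : ℕ, a ^ n • u i m = 0) → ∃ n : ℕ, a ^ n • m = 0)
    (t : A' ⊗[A] M) (ht : ∀ i, (u i).lTensor A' t = 0) : t = 0 := by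
  by_contra ht0
  haveI : IsNoetherianRing A' := Algebra.FiniteType.isNoetherianRing A A'
  let K' : Submodule A' (A' ⊗[A] M) := ⨅ i, LinearMap.ker ((u i).baseChange A')
  have hK' : ∀ z : A' ⊗[A] M, z ∈ K' ↔ ∀ i, (u i).lTensor A' z = 0 := by
    intro z
    rw [Submodule.mem_iInf]
    refine forall_congr' fun i => ?_
    rw [LinearMap.mem_ker, LinearMap.baseChange_eq_ltensor]
  have htK : t ∈ K' := (hK' t).mpr ht
  haveI : Nontrivial K' := ⟨⟨⟨t, htK⟩, 0, fun h => ht0 (congrArg Subtype.val h)⟩⟩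
  obtain ⟨𝔓, h𝔓⟩ := associatedPrimes.nonempty A' K'
  rw [AssociatedPrimes.mem_iff, isAssociatedPrime_iff] at h𝔓
  obtain ⟨hprime, t', hann⟩ := h𝔓
  have hmem : ∀ γ : A', γ ∈ 𝔓 ↔ γ • (t' : A' ⊗[A] M) = 0 := by
    intro γ
    rw [hann, Submodule.mem_colon_singleton, Submodule.mem_bot]
    constructor
    · intro h
      have := congrArg Subtype.val h
      simpa using this
    · intro h
      apply Subtype.ext
      simpa using h
  have ht'k : ∀ i, (u i).lTensor A' (t' : A' ⊗[A] M) = 0 := (hK' _).mp t'.2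
  let 𝔭 : Ideal A := 𝔓.comap (algebraMap A A')
  haveI : 𝔭.IsPrime := Ideal.comap_isPrime _ _
  obtain ⟨t₁, ht₁⟩ := mem_range_lTensor_torsion 𝔭 (IsNoetherian.noetherian 𝔭)
    (t' : A' ⊗[A] M) (by
      intro p hp
      rw [← algebraMap_smul A' p]
      exact (hmem _).mp hp)
  have ht₁k : ∀ i, (resA 𝔭 (u i)).lTensor A' t₁ = 0 := by
    intro i
    have hinj : Function.Injective
        ((Submodule.torsionBySet A (N i) (𝔭 : Set A)).subtype.lTensor A') :=
      Module.Flat.lTensor_preserves_injective_linearMap _ (Submodule.injective_subtype _)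
    apply hinj
    rw [map_zero, ← LinearMap.comp_apply, ← LinearMap.lTensor_comp]
    have hc : (Submodule.torsionBySet A (N i) (𝔭 : Set A)).subtype ∘ₗ resA 𝔭 (u i) =
        u i ∘ₗ (Submodule.torsionBySet A M (𝔭 : Set A)).subtype := LinearMap.ext fun _ => rfl
    rw [hc, LinearMap.lTensor_comp, LinearMap.comp_apply, ht₁, ht'k i]
  have HR : ∀ f : A ⧸ 𝔭, f ≠ 0 → ∀ x : Submodule.torsionBySet A M (𝔭 : Set A),
      (∀ i, ∃ n : ℕ, f ^ n • resR 𝔭 (u i) x = 0) → ∃ n : ℕ, f ^ n • x = 0 := by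
    intro f _ x hx
    obtain ⟨a, rfl⟩ := Ideal.Quotient.mk_surjective f
    have h1 : ∀ i, ∃ n : ℕ, a ^ n • u i x.1 = 0 := by
      intro i
      obtain ⟨n, hn⟩ := hx i
      refine ⟨n, ?_⟩
      rw [← map_pow, Submodule.torsionBySet.mk_smul] at hn
      have := congrArg Subtype.val hn
      simpa using this
    obtain ⟨n, hn⟩ := H a x.1 h1
    refine ⟨n, ?_⟩
    rw [← map_pow, Submodule.torsionBySet.mk_smul]
    apply Subtype.ext
    simpa using hn
  obtain ⟨f, hf0, hft⟩ := CoreSepA.torsion_of_killed (R := A ⧸ 𝔭) (S := (A ⧸ 𝔭) ⊗[A] A')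
    (fun i => resR 𝔭 (u i)) HR (Φ 𝔭 t₁) (fun i => by rw [← Φ_nat, ht₁k i, Φ_zero])
  obtain ⟨a, rfl⟩ := Ideal.Quotient.mk_surjective f
  have h2 : a • t₁ = 0 := Φ_injective 𝔭 (by rw [Φ_smul, hft, Φ_zero])
  have h3 : a • (t' : A' ⊗[A] M) = 0 := by rw [← ht₁, ← map_smul, h2, map_zero]
  have h4 : a ∈ 𝔭 := (hmem _).mpr (by rw [algebraMap_smul]; exact h3)
  exact hf0 (Ideal.Quotient.eq_zero_iff_mem.mpr h4)

end main

end Groth.Agent.Lead.CoreSepB
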