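import Mathlib
import Groth.Agent.Lead.CoreSepB
import Groth.Agent.Lead.FD15

set_option autoImplicit false
universe u
open TensorProduct CategoryTheory

namespace Groth.Agent.Lead.CoreSepC

/-- **Core.** A family of linear maps which is separating on every basic open of `Spec A`
stays separating (on global sections) after a flat base change of finite presentation. -/
theorem core {A A' : Type u} [CommRing A] [CommRing A'] [Algebra A A']
    [Algebra.FinitePresentation A A'] [Module.Flat A A']
    {M : Type u} [AddCommGroup M] [Module A M] {ι : Type*} {N : ι → Type u}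
    [∀ i, AddCommGroup (N i)] [∀ i, Module A (N i)] (u : ∀ i, M →ₗ[A] N i)
    (H : ∀ (a : A) (m : M), (∀ i, ∃ n : ℕ, a ^ n • u i m = 0) → ∃ n : ℕ, a ^ n • m = 0)
    (t : A' ⊗[A] M) (ht : ∀ i, (u i).lTensor A' t = 0) : t = 0 := by
  obtain ⟨C₀, D₀, _, _, φ₀, α, β, hpo, hft, hφft, hφfl⟩ :=
    FD15.exists_noeth_model (A := A) (B := A')
  letI : Algebra C₀ D₀ := φ₀.toAlgebra
  letI : Algebra C₀ A := α.toAlgebra
  letI : Algebra D₀ A' := β.toAlgebra
  letI : Algebra C₀ A' := ((algebraMap A A').comp α).toAlgebra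
  haveI : IsScalarTower C₀ A A' := IsScalarTower.of_algebraMap_eq (fun _ => rfl)
  haveI : IsScalarTower C₀ D₀ A' := IsScalarTower.of_algebraMap_eq (fun x => by
    have := congrArg (fun φ => φ.hom x) hpo.w
    exact this.symm)
  haveI hP : Algebra.IsPushout C₀ D₀ A A' := CommRingCat.isPushout_iff_isPushout.mp hpo
  haveI : IsNoetherianRing C₀ := Algebra.FiniteType.isNoetherianRing ℤ C₀
  haveI : Algebra.FiniteType C₀ D₀ := hφft
  haveI : Module.Flat C₀ D₀ := hφfl
  letI : Module C₀ M := Module.compHom M α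
  haveI : IsScalarTower C₀ A M := ⟨fun c a m => by
    change (α c * a) • m = α c • (a • m)
    rw [mul_smul]⟩
  letI : ∀ i, Module C₀ (N i) := fun i => Module.compHom (N i) α
  haveI : ∀ i, IsScalarTower C₀ A (N i) := fun i => ⟨fun c a m => by
    change (α c * a) • m = α c • (a • m)
    rw [mul_smul]⟩
  let u₀ : ∀ i, M →ₗ[C₀] N i := fun i => (u i).restrictScalars C₀
  have H₀ : ∀ (c : C₀) (m : M), (∀ i, ∃ n : ℕ, c ^ n • u₀ i m = 0) → ∃ n : ℕ, c ^ n • m = 0 := by
    intro c m hm
    have hsm : ∀ {Q : Type u} [AddCommGroup Q] [Module A Q] (n : ℕ) (q : Q),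
        letI : Module C₀ Q := Module.compHom Q α
        c ^ n • q = (α c) ^ n • q := by
      intro Q _ _ n q
      change α (c ^ n) • q = _
      rw [map_pow]
    obtain ⟨n, hn⟩ := H (α c) m (fun i => by
      obtain ⟨n, hn⟩ := hm i
      exact ⟨n, (hsm n (u i m)).symm.trans hn⟩)
    exact ⟨n, (hsm n m).trans hn⟩
  let e := Algebra.IsPushout.cancelBaseChange C₀ D₀ A A' M
  have nat : ∀ (i : ι) (w : D₀ ⊗[C₀] M),
      (u i).lTensor A' ((Algebra.IsPushout.cancelBaseChange C₀ D₀ A A' M).symm w) =
        (Algebra.IsPushout.cancelBaseChange C₀ D₀ A A' (N i)).symm ((u₀ i).lTensor D₀ w) := by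
    intro i w
    induction w using TensorProduct.induction_on with
    | zero => simp
    | tmul d m => simp [u₀]
    | add x y hx hy => simp only [map_add, hx, hy]
  have ht₀ : e t = 0 := by
    apply CoreSepB.core_noeth (A := C₀) (A' := D₀) u₀ H₀ (e t)
    intro i
    apply (Algebra.IsPushout.cancelBaseChange C₀ D₀ A A' (N i)).symm.injective
    rw [← nat, map_zero]
    have : (Algebra.IsPushout.cancelBaseChange C₀ D₀ A A' M).symm (e t) = t :=
      (Algebra.IsPushout.cancelBaseChange C₀ D₀ A A' M).symm_apply_apply t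
    rw [this, ht i]
  exact e.injective (ht₀.trans (map_zero _).symm)

end Groth.Agent.Lead.CoreSepC
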