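import Mathlib
import Groth.Agent.Lead.CoreSepC

set_option autoImplicit false
universe u
open TensorProduct CategoryTheory AlgebraicGeometry Limits

namespace Groth.Agent.Lead.CoreSepE

/-- Ring version of `CoreSepC.core`. -/
theorem alg {A A' : Type u} [CommRing A] [CommRing A'] [Algebra A A']
    [Algebra.FinitePresentation A A'] [Module.Flat A A']
    {J : Type*} (N : J → Type u) [∀ j, CommRing (N j)] [∀ j, Algebra A (N j)]
    (H : ∀ (a m : A), (∀ j, ∃ n : ℕ, algebraMap A (N j) a ^ n * algebraMap A (N j) m = 0) →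
      ∃ n : ℕ, a ^ n * m = 0)
    (t : A') (ht : ∀ j, t ⊗ₜ[A] (1 : N j) = 0) : t = 0 := by
  have key := CoreSepC.core (A := A) (A' := A') (M := A) (N := N)
    (fun j => Algebra.linearMap A (N j)) ?_ (t ⊗ₜ[A] (1 : A)) ?_
  · simpa using congrArg (TensorProduct.rid A A') key
  · intro a m hm
    obtain ⟨n, hn⟩ := H a m (fun j => by
      obtain ⟨n, hn⟩ := hm j
      refine ⟨n, ?_⟩
      rw [Algebra.smul_def, map_pow] at hn
      exact hn)
    exact ⟨n, by simpa using hn⟩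
  · intro j
    simpa using ht j

/-- Affine-local statement. -/
theorem local_main {X X' : Scheme.{u}} {ι : Type u} (Z : ι → Scheme.{u})
    (f : ∀ i, Z i ⟶ X) (g : X' ⟶ X) [Flat g] [LocallyOfFinitePresentation g]
    (h : ∀ (V : X.Opens) (t : Γ(X, V)), (∀ i, (f i).app V t = 0) → t = 0)
    {U : X.Opens} (hU : IsAffineOpen U) {V' : X'.Opens} (hV' : IsAffineOpen V')
    (e : V' ≤ g ⁻¹ᵁ U) (t : Γ(X', V'))
    (ht : ∀ (i : ι) (W : (Z i).Opens) (_ : IsAffineOpen W) (_ : W ≤ (f i) ⁻¹ᵁ U),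
      (pullback.snd (f i) g).appLE V'
        (pullback.fst (f i) g ⁻¹ᵁ W ⊓ pullback.snd (f i) g ⁻¹ᵁ V') inf_le_right t = 0) :
    t = 0 := by
  letI : Algebra Γ(X, U) Γ(X', V') := (g.appLE U V' e).hom.toAlgebra
  haveI : Module.Flat Γ(X, U) Γ(X', V') := g.flat_appLE hU hV' e
  haveI : Algebra.FinitePresentation Γ(X, U) Γ(X', V') :=
    HasRingHomProperty.appLE (P := @LocallyOfFinitePresentation) g inferInstance
      ⟨U, hU⟩ ⟨V', hV'⟩ e
  let J := Σ i : ι, {W : (Z i).Opens // IsAffineOpen W ∧ W ≤ (f i) ⁻¹ᵁ U}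
  let N : J → Type u := fun j => Γ(Z j.1, j.2.1)
  letI : ∀ j, CommRing (N j) := fun j => inferInstanceAs (CommRing Γ(Z j.1, j.2.1))
  letI : ∀ j, Algebra Γ(X, U) (N j) := fun j =>
    ((f j.1).appLE U j.2.1 j.2.2.2).hom.toAlgebra
  apply alg (A := Γ(X, U)) (A' := Γ(X', V')) N ?_ t ?_
  · intro a m hm
    apply exists_pow_mul_eq_zero_of_res_basicOpen_eq_zero_of_isAffineOpen X hU m a
    change X.presheaf.map (homOfLE (X.basicOpen_le a)).op m = 0
    apply h (X.basicOpen a)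
    intro i
    refine (Z i).IsSheaf.section_ext fun z hz => ?_
    obtain ⟨_, ⟨W, hW, rfl⟩, hzW, hWle⟩ :=
      (Z i).isBasis_affineOpens.exists_subset_of_mem_open hz
        ((f i) ⁻¹ᵁ X.basicOpen a).isOpen
    have hWD : W ≤ (f i) ⁻¹ᵁ X.basicOpen a := hWle
    have hWU : W ≤ (f i) ⁻¹ᵁ U := hWD.trans (fun y hy => X.basicOpen_le a hy)
    refine ⟨W, hWD, hzW, ?_⟩
    rw [map_zero]
    obtain ⟨n, hn⟩ := hm ⟨i, W, hW, hWU⟩
    have h1 : (f i).appLE U W hWU =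
        X.presheaf.map (homOfLE (X.basicOpen_le a)).op ≫
          (f i).appLE (X.basicOpen a) W hWD := by
      rw [Scheme.Hom.map_appLE]
    have hunit : IsUnit ((f i).appLE U W hWU a) := by
      rw [h1]
      exact (RingedSpace.isUnit_res_basicOpen _ a).map
        ((f i).appLE (X.basicOpen a) W hWD).hom
    have hzero : (f i).appLE U W hWU m = 0 :=
      ((hunit.pow n).mul_right_eq_zero).mp hn
    rw [h1] at hzero
    exact hzero
  · rintro ⟨i, W, hW, hWU⟩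
    have Hp := IsPullback.of_hasPullback (f i) g
    have hiso := isIso_pushoutSection_of_isAffineOpen Hp (US := U) (UT := V') (UX := W) e hWU
      (UY := pullback.fst (f i) g ⁻¹ᵁ W ⊓ pullback.snd (f i) g ⁻¹ᵁ V') rfl hU hV' hW
    have hpo := (isIso_pushoutSection_iff Hp e hWU rfl).mp hiso
    letI : Algebra Γ(Z i, W)
        Γ(pullback (f i) g, pullback.fst (f i) g ⁻¹ᵁ W ⊓ pullback.snd (f i) g ⁻¹ᵁ V') :=
      ((pullback.fst (f i) g).appLE W _ inf_le_left).hom.toAlgebra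
    letI : Algebra Γ(X', V')
        Γ(pullback (f i) g, pullback.fst (f i) g ⁻¹ᵁ W ⊓ pullback.snd (f i) g ⁻¹ᵁ V') :=
      ((pullback.snd (f i) g).appLE V' _ inf_le_right).hom.toAlgebra
    letI : Algebra Γ(X, U)
        Γ(pullback (f i) g, pullback.fst (f i) g ⁻¹ᵁ W ⊓ pullback.snd (f i) g ⁻¹ᵁ V') :=
      (((pullback.fst (f i) g).appLE W _ inf_le_left).hom.comp
        ((f i).appLE U W hWU).hom).toAlgebra
    letI : Algebra Γ(X, U) Γ(Z i, W) := ((f i).appLE U W hWU).hom.toAlgebra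
    haveI : IsScalarTower Γ(X, U) Γ(Z i, W)
        Γ(pullback (f i) g, pullback.fst (f i) g ⁻¹ᵁ W ⊓ pullback.snd (f i) g ⁻¹ᵁ V') :=
      .of_algebraMap_eq' rfl
    haveI : IsScalarTower Γ(X, U) Γ(X', V')
        Γ(pullback (f i) g, pullback.fst (f i) g ⁻¹ᵁ W ⊓ pullback.snd (f i) g ⁻¹ᵁ V') :=
      .of_algebraMap_eq' (congr($(hpo.w).hom))
    have hP : Algebra.IsPushout Γ(X, U) Γ(Z i, W) Γ(X', V')
        Γ(pullback (f i) g, pullback.fst (f i) g ⁻¹ᵁ W ⊓ pullback.snd (f i) g ⁻¹ᵁ V') :=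
      CommRingCat.isPushout_iff_isPushout.mp hpo
    have hP' := hP.symm
    apply hP'.out.equiv.injective
    rw [IsBaseChange.equiv_tmul, map_zero]
    have := ht i W hW hWU
    rw [AlgHom.toLinearMap_apply, map_one, Algebra.smul_def, mul_one]
    exact this

theorem main {X X' : Scheme.{u}} {ι : Type u} (Z : ι → Scheme.{u})
    (f : ∀ i, Z i ⟶ X) (g : X' ⟶ X) [Flat g] [LocallyOfFinitePresentation g]
    (h : ∀ (V : X.Opens) (t : Γ(X, V)), (∀ i, (f i).app V t = 0) → t = 0) :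
    ∀ (V : X'.Opens) (t : Γ(X', V)),
      (∀ i, (pullback.snd (f i) g).app V t = 0) → t = 0 := by
  intro V t ht
  refine X'.IsSheaf.section_ext fun x' hx' => ?_
  obtain ⟨_, ⟨U, hU, rfl⟩, hxU, -⟩ :=
    X.isBasis_affineOpens.exists_subset_of_mem_open (Set.mem_univ (g x')) isOpen_univ
  obtain ⟨_, ⟨V', hV', rfl⟩, hxV', hV'le⟩ :=
    X'.isBasis_affineOpens.exists_subset_of_mem_open
      (show x' ∈ (V ⊓ g ⁻¹ᵁ U : X'.Opens) from ⟨hx', hxU⟩) (V ⊓ g ⁻¹ᵁ U).isOpen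
  have hV'V : V' ≤ V := fun y hy => (hV'le hy).1
  have hV'U : V' ≤ g ⁻¹ᵁ U := fun y hy => (hV'le hy).2
  refine ⟨V', hV'V, hxV', ?_⟩
  rw [map_zero]
  apply local_main Z f g h hU hV' hV'U
  intro i W hW hWU
  have h1 : (pullback.snd (f i) g).appLE V'
      (pullback.fst (f i) g ⁻¹ᵁ W ⊓ pullback.snd (f i) g ⁻¹ᵁ V') inf_le_right =
      (pullback.snd (f i) g).app V' ≫ (pullback (f i) g).presheaf.map
        (homOfLE (inf_le_right :
          pullback.fst (f i) g ⁻¹ᵁ W ⊓ pullback.snd (f i) g ⁻¹ᵁ V' ≤ _)).op := rfl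
  rw [h1, ← CommRingCat.comp_apply, ← Category.assoc, Scheme.Hom.naturality, Category.assoc,
    CommRingCat.comp_apply, ht i, map_zero]

end Groth.Agent.Lead.CoreSepE
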