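import Mathlib
import Groth.Agent.Lead.CoreSepE

set_option autoImplicit false
universe u
open TensorProduct CategoryTheory

namespace Groth.Agent.Lead.FieldSepA

section
variable (A : Type u) [CommRing A] {J : Type*} (N : J → Type u) [∀ j, CommRing (N j)]
  [∀ j, Algebra A (N j)]

/-- Property (H) of the base family. -/
def HBase : Prop :=
  ∀ (a m : A), (∀ j, ∃ n : ℕ, algebraMap A (N j) a ^ n * algebraMap A (N j) m = 0) →
    ∃ n : ℕ, a ^ n * m = 0

/-- Property (H) after base change to an `A`-algebra `R`. -/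
def HR (R : Type u) [CommRing R] [Algebra A R] : Prop :=
  ∀ c τ : R, (∀ j, ∃ n : ℕ, (c ^ n * τ) ⊗ₜ[A] (1 : N j) = 0) → ∃ n : ℕ, c ^ n * τ = 0

theorem HR_of_fp_flat (H : HBase A N) (A₁ : Type u) [CommRing A₁] [Algebra A A₁]
    [Algebra.FinitePresentation A A₁] [Module.Flat A A₁] : HR A N A₁ := by
  intro c τ hτ
  have H' : ∀ (a m : A), (∀ j, ∃ n : ℕ, algebraMap A (N j) a ^ n * algebraMap A (N j) m = 0) →
    ∃ n : ℕ, a ^ n * m = 0 := H
  haveI : IsScalarTower A A₁ (Localization.Away c) := inferInstance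
  haveI : Algebra.FinitePresentation A₁ (Localization.Away c) :=
    IsLocalization.Away.finitePresentation c
  haveI : Algebra.FinitePresentation A (Localization.Away c) :=
    Algebra.FinitePresentation.trans A A₁ (Localization.Away c)
  haveI : Module.Flat A₁ (Localization.Away c) :=
    IsLocalization.flat (Localization.Away c) (Submonoid.powers c)
  haveI : Module.Flat A (Localization.Away c) := Module.Flat.trans A A₁ (Localization.Away c)
  have key : algebraMap A₁ (Localization.Away c) τ = 0 := by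
    apply CoreSepE.alg N H'
    intro j
    obtain ⟨n, hn⟩ := hτ j
    have h1 := congrArg
      ((IsScalarTower.toAlgHom A A₁ (Localization.Away c)).toLinearMap.rTensor (N j)) hn
    rw [LinearMap.rTensor_tmul, map_zero, AlgHom.toLinearMap_apply,
      IsScalarTower.coe_toAlgHom', map_mul, map_pow] at h1
    obtain ⟨v, hv⟩ := (IsLocalization.Away.algebraMap_isUnit (S := Localization.Away c) c).pow n
    have h2 := congrArg
      ((LinearMap.mulLeft A ((↑v⁻¹ : (Localization.Away c)))).rTensor (N j)) h1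
    rw [LinearMap.rTensor_tmul, map_zero, LinearMap.mulLeft_apply, ← hv, ← mul_assoc,
      Units.inv_mul, one_mul] at h2
    exact h2
  obtain ⟨⟨_, n, rfl⟩, hn⟩ :=
    (IsLocalization.map_eq_zero_iff (Submonoid.powers c) (Localization.Away c) τ).mp key
  exact ⟨n, hn⟩

variable {A} in
theorem HR_of_equiv {R₀ R : Type u} [CommRing R₀] [CommRing R] [Algebra A R₀] [Algebra A R]
    (e : R₀ ≃ₐ[A] R) (h : HR A N R₀) : HR A N R := by
  intro c τ hτ
  obtain ⟨n, hn⟩ := h (e.symm c) (e.symm τ) (fun j => by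
    obtain ⟨n, hn⟩ := hτ j
    refine ⟨n, ?_⟩
    have h1 := congrArg (e.symm.toLinearMap.rTensor (N j)) hn
    rw [LinearMap.rTensor_tmul, map_zero, AlgEquiv.toLinearMap_apply, map_mul, map_pow] at h1
    exact h1)
  refine ⟨n, ?_⟩
  have := congrArg e hn
  rwa [map_mul, map_pow, e.apply_symm_apply, e.apply_symm_apply, map_zero] at this

end

section field
variable {k : Type u} [Field k] {A : Type u} [CommRing A] [Algebra k A]
  {B : Type u} [CommRing B] [Algebra k B]

/-- The base change of the inclusion of a subalgebra. -/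
noncomputable abbrev ρ (B₁ : Subalgebra k B) : A ⊗[k] B₁ →ₐ[A] A ⊗[k] B :=
  Algebra.TensorProduct.map (AlgHom.id A A) B₁.val

theorem range_ρ_mono {B₁ B₂ : Subalgebra k B} (h : B₁ ≤ B₂) :
    (ρ (A := A) B₁).range ≤ (ρ (A := A) B₂).range := by
  rintro _ ⟨y, rfl⟩
  refine ⟨Algebra.TensorProduct.map (AlgHom.id A A) (Subalgebra.inclusion h) y, ?_⟩
  induction y using TensorProduct.induction_on with
  | zero => simp
  | tmul a b => simp
  | add x y hx hy => simp only [map_add, hx, hy]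

theorem exists_fg_mem_range (x : A ⊗[k] B) :
    ∃ B₁ : Subalgebra k B, B₁.FG ∧ x ∈ (ρ (A := A) B₁).range := by
  induction x using TensorProduct.induction_on with
  | zero => exact ⟨⊥, Subalgebra.fg_bot, zero_mem _⟩
  | tmul a b =>
    refine ⟨Algebra.adjoin k {b}, Subalgebra.fg_adjoin_finset {b} |> fun h => by simpa using h,
      ⟨a ⊗ₜ ⟨b, Algebra.subset_adjoin (Set.mem_singleton b)⟩, by simp⟩⟩
  | add x y hx hy =>
    obtain ⟨B₁, h₁, hx⟩ := hx
    obtain ⟨B₂, h₂, hy⟩ := hy
    exact ⟨B₁ ⊔ B₂, h₁.sup h₂, add_mem (range_ρ_mono le_sup_left hx)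
      (range_ρ_mono le_sup_right hy)⟩

theorem rTensor_ρ_injective (B₁ : Subalgebra k B) (Q : Type u) [AddCommGroup Q] [Module A Q] :
    Function.Injective ((ρ (A := A) B₁).toLinearMap.rTensor Q) := by
  obtain ⟨r, hr⟩ := LinearMap.exists_leftInverse_of_injective B₁.val.toLinearMap
    (LinearMap.ker_eq_bot.mpr Subtype.val_injective)
  let r' : A ⊗[k] B →ₗ[A] A ⊗[k] B₁ :=
    TensorProduct.AlgebraTensorModule.map (LinearMap.id : A →ₗ[A] A) r
  have hr' : r' ∘ₗ (ρ (A := A) B₁).toLinearMap = LinearMap.id := by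
    apply TensorProduct.AlgebraTensorModule.ext
    intro a b
    have := congrArg (fun φ => φ b) hr
    simp only [LinearMap.coe_comp, Function.comp_apply, LinearMap.id_coe, id_eq] at this
    have h2 : r (b : B) = b := this
    simp [r', h2]
  apply Function.LeftInverse.injective (g := r'.rTensor Q)
  intro x
  rw [← LinearMap.comp_apply, ← LinearMap.rTensor_comp, hr', LinearMap.rTensor_id,
    LinearMap.id_apply]

variable {J : Type*} (N : J → Type u) [∀ j, CommRing (N j)] [∀ j, Algebra A (N j)]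

theorem HR_tensor_field (H : HBase A N) : HR A N (A ⊗[k] B) := by
  intro c τ hτ
  obtain ⟨B₁, h₁, hc⟩ := exists_fg_mem_range (A := A) c
  obtain ⟨B₂, h₂, hτ'⟩ := exists_fg_mem_range (A := A) τ
  obtain ⟨c₁, rfl⟩ := range_ρ_mono (le_sup_left : B₁ ≤ B₁ ⊔ B₂) hc
  obtain ⟨τ₁, rfl⟩ := range_ρ_mono (le_sup_right : B₂ ≤ B₁ ⊔ B₂) hτ'
  haveI : Algebra.FiniteType k ↥(B₁ ⊔ B₂) := (Subalgebra.fg_iff_finiteType _).mp (h₁.sup h₂)
  haveI : Algebra.FinitePresentation k ↥(B₁ ⊔ B₂) :=
    Algebra.FinitePresentation.of_finiteType.mp inferInstance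
  haveI : Algebra.FinitePresentation A (A ⊗[k] ↥(B₁ ⊔ B₂)) :=
    Algebra.FinitePresentation.baseChange A
  obtain ⟨n, hn⟩ := HR_of_fp_flat A N H (A ⊗[k] ↥(B₁ ⊔ B₂)) c₁ τ₁ (fun j => by
    obtain ⟨n, hn⟩ := hτ j
    refine ⟨n, ?_⟩
    apply rTensor_ρ_injective (A := A) (B₁ ⊔ B₂) (N j)
    rw [LinearMap.rTensor_tmul, map_zero, AlgHom.toLinearMap_apply, map_mul, map_pow]
    exact hn)
  refine ⟨n, ?_⟩
  have := congrArg (ρ (A := A) (B₁ ⊔ B₂)) hn
  rwa [map_mul, map_pow, map_zero] at this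

end field

end Groth.Agent.Lead.FieldSepA
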