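import Mathlib
import Groth.Agent.Lead.FieldSepA

set_option autoImplicit false
universe u
open TensorProduct CategoryTheory AlgebraicGeometry Limits

namespace Groth.Agent.Lead.FieldSepB

/-- In a pullback square, the intersection of preimages of compatible affine opens is affine. -/
theorem isAffineOpen_inf {X Y S T : Scheme.{u}} {f : T ⟶ S} {g : Y ⟶ X} {iX : X ⟶ S}
    {iY : Y ⟶ T} (H : IsPullback g iY iX f) {US : S.Opens} {UT : T.Opens} {UX : X.Opens}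
    (hUST : UT ≤ f ⁻¹ᵁ US) (hUSX : UX ≤ iX ⁻¹ᵁ US)
    (hUS : IsAffineOpen US) (hUT : IsAffineOpen UT) (hUX : IsAffineOpen UX) :
    IsAffineOpen (g ⁻¹ᵁ UX ⊓ iY ⁻¹ᵁ UT) := by
  have : IsAffine _ := hUS
  have : IsAffine _ := hUT
  have : IsAffine _ := hUX
  exact .of_isIso (Scheme.Hom.isPullback_resLE H hUST hUSX rfl).isoPullback.hom

/-- Sheaf-theoretic part: a local (H)-type property of the base changed family implies that
the base changed family is schematically dominant. -/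
theorem geoA {X X' : Scheme.{u}} {ι : Type u} {Z P : ι → Scheme.{u}}
    (f : ∀ i, Z i ⟶ X) (g : X' ⟶ X) (a : ∀ i, P i ⟶ Z i) (b : ∀ i, P i ⟶ X')
    (sq : ∀ i, IsPullback (a i) (b i) (f i) g)
    (hloc : ∀ x' : X', ∃ (U : X.Opens) (V'' : X'.Opens), IsAffineOpen U ∧ IsAffineOpen V'' ∧
      V'' ≤ g ⁻¹ᵁ U ∧ x' ∈ V'' ∧
      ∀ c τ : Γ(X', V''), (∀ (i : ι) (W : (Z i).Opens), IsAffineOpen W → W ≤ f i ⁻¹ᵁ U →
        ∃ n : ℕ, (b i).appLE V'' (a i ⁻¹ᵁ W ⊓ b i ⁻¹ᵁ V'') inf_le_right (c ^ n * τ) = 0) →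
        ∃ n : ℕ, c ^ n * τ = 0) :
    ∀ (V : X'.Opens) (t : Γ(X', V)), (∀ i, (b i).app V t = 0) → t = 0 := by
  intro V t ht
  refine X'.IsSheaf.section_ext fun x' hx' => ?_
  obtain ⟨U, V'', hU, hV'', e, hxV'', HH⟩ := hloc x'
  obtain ⟨c, hcV, hxc⟩ := hV''.exists_basicOpen_le (V := V) ⟨x', hx'⟩ hxV''
  have hDV'' : X'.basicOpen c ≤ V'' := X'.basicOpen_le c
  refine ⟨X'.basicOpen c, hcV, hxc, ?_⟩
  rw [map_zero]
  haveI := hV''.isLocalization_basicOpen c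
  obtain ⟨⟨τ, ⟨_, n, rfl⟩⟩, hτ⟩ := IsLocalization.surj (Submonoid.powers c)
    (X'.presheaf.map (homOfLE hcV).op t)
  dsimp only at hτ
  have hunit : IsUnit (algebraMap Γ(X', V'') Γ(X', X'.basicOpen c) c) :=
    IsLocalization.Away.algebraMap_isUnit c
  have h5 : ∀ (i : ι) (O : (P i).Opens) (hO : O ≤ b i ⁻¹ᵁ V), (b i).appLE V O hO t = 0 := by
    intro i O hO
    unfold Scheme.Hom.appLE
    rw [CommRingCat.comp_apply, ht i, map_zero]
  have hkill : ∀ (i : ι) (W : (Z i).Opens), IsAffineOpen W → W ≤ f i ⁻¹ᵁ U →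
      ∃ n : ℕ, (b i).appLE V'' (a i ⁻¹ᵁ W ⊓ b i ⁻¹ᵁ V'') inf_le_right (c ^ n * τ) = 0 := by
    intro i W hW hWU
    have hY : IsAffineOpen (a i ⁻¹ᵁ W ⊓ b i ⁻¹ᵁ V'') := isAffineOpen_inf (sq i) e hWU hU hV'' hW
    obtain ⟨m, hm⟩ := exists_pow_mul_eq_zero_of_res_basicOpen_eq_zero_of_isAffineOpen (P i) hY
      ((b i).appLE V'' (a i ⁻¹ᵁ W ⊓ b i ⁻¹ᵁ V'') inf_le_right τ)
      ((b i).appLE V'' (a i ⁻¹ᵁ W ⊓ b i ⁻¹ᵁ V'') inf_le_right c) (by
        have hD : (P i).basicOpen ((b i).appLE V'' (a i ⁻¹ᵁ W ⊓ b i ⁻¹ᵁ V'') inf_le_right c) ≤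
            b i ⁻¹ᵁ X'.basicOpen c := by
          rw [Scheme.basicOpen_appLE]; exact inf_le_right
        change (P i).presheaf.map (homOfLE ((P i).basicOpen_le _)).op
          ((b i).appLE V'' (a i ⁻¹ᵁ W ⊓ b i ⁻¹ᵁ V'') inf_le_right τ) = 0
        rw [← CommRingCat.comp_apply, Scheme.Hom.appLE_map]
        have h2 : (b i).appLE V''
            ((P i).basicOpen ((b i).appLE V'' (a i ⁻¹ᵁ W ⊓ b i ⁻¹ᵁ V'') inf_le_right c))
            (hD.trans ((b i).preimage_mono hDV'')) =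
            X'.presheaf.map (homOfLE hDV'').op ≫ (b i).appLE (X'.basicOpen c) _ hD := by
          rw [Scheme.Hom.map_appLE]
        rw [h2, CommRingCat.comp_apply]
        have h3 : X'.presheaf.map (homOfLE hDV'').op τ =
            X'.presheaf.map (homOfLE hcV).op t * X'.presheaf.map (homOfLE hDV'').op (c ^ n) :=
          hτ.symm
        rw [h3, map_mul]
        have h4 : (b i).appLE (X'.basicOpen c) _ hD (X'.presheaf.map (homOfLE hcV).op t) = 0 := by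
          rw [← CommRingCat.comp_apply, Scheme.Hom.map_appLE]
          exact h5 i _ _
        rw [h4, zero_mul])
    exact ⟨m, by rw [map_mul, map_pow]; exact hm⟩
  obtain ⟨n', hn'⟩ := HH c τ hkill
  have h1 := congrArg (algebraMap Γ(X', V'') Γ(X', X'.basicOpen c)) hn'
  rw [map_mul, map_pow, map_zero, ← hτ, map_pow, mul_comm _ (_ ^ n), ← mul_assoc, ← pow_add] at h1
  exact ((hunit.pow _).mul_right_eq_zero).mp h1

section fam
variable {X : Scheme.{u}} {ι : Type u} {Z : ι → Scheme.{u}}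

/-- Index type: affine opens of the `Z i` mapping into `U`. -/
abbrev Jidx (f : ∀ i, Z i ⟶ X) (U : X.Opens) : Type u :=
  Σ i : ι, {W : (Z i).Opens // IsAffineOpen W ∧ W ≤ (f i) ⁻¹ᵁ U}

/-- The family of rings of sections. -/
abbrev Nfam (f : ∀ i, Z i ⟶ X) (U : X.Opens) : Jidx f U → Type u :=
  fun j => Γ(Z j.1, j.2.1)

/-- The algebra structures. -/
@[reducible] noncomputable def algN (f : ∀ i, Z i ⟶ X) (U : X.Opens) :
    ∀ j : Jidx f U, Algebra Γ(X, U) (Nfam f U j) :=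
  fun j => ((f j.1).appLE U j.2.1 j.2.2.2).hom.toAlgebra

/-- A schematically dominant family has property (H) on every affine open. -/
theorem geoH (f : ∀ i, Z i ⟶ X)
    (h : ∀ (V : X.Opens) (t : Γ(X, V)), (∀ i, (f i).app V t = 0) → t = 0)
    {U : X.Opens} (hU : IsAffineOpen U) :
    letI := algN f U
    FieldSepA.HBase Γ(X, U) (Nfam f U) := by
  letI := algN f U
  intro a m hm
  apply exists_pow_mul_eq_zero_of_res_basicOpen_eq_zero_of_isAffineOpen X hU m a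
  change X.presheaf.map (homOfLE (X.basicOpen_le a)).op m = 0
  apply h (X.basicOpen a)
  intro i
  refine (Z i).IsSheaf.section_ext fun z hz => ?_
  obtain ⟨_, ⟨W, hW, rfl⟩, hzW, hWle⟩ :=
    (Z i).isBasis_affineOpens.exists_subset_of_mem_open hz
      ((f i) ⁻¹ᵁ X.basicOpen a).isOpen
  have hWD : W ≤ (f i) ⁻¹ᵁ X.basicOpen a := hWle
  have hWU : W ≤ (f i) ⁻¹ᵁ U := hWD.trans (fun y hy => X.basicOpen_le a hy)
  refine ⟨W, hWD, hzW, ?_⟩
  rw [map_zero]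
  obtain ⟨n, hn⟩ := hm ⟨i, W, hW, hWU⟩
  have h1 : (f i).appLE U W hWU =
      X.presheaf.map (homOfLE (X.basicOpen_le a)).op ≫
        (f i).appLE (X.basicOpen a) W hWD := by
    rw [Scheme.Hom.map_appLE]
  have hunit : IsUnit ((f i).appLE U W hWU a) := by
    rw [h1]
    exact (RingedSpace.isUnit_res_basicOpen _ a).map
      ((f i).appLE (X.basicOpen a) W hWD).hom
  have hzero : (f i).appLE U W hWU m = 0 :=
    ((hunit.pow n).mul_right_eq_zero).mp hn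
  rw [h1] at hzero
  exact hzero

/-- The tensor-product form of (H) after base change implies the geometric form. -/
theorem geoB {X' : Scheme.{u}} {P : ι → Scheme.{u}}
    (f : ∀ i, Z i ⟶ X) (g : X' ⟶ X) (a : ∀ i, P i ⟶ Z i) (b : ∀ i, P i ⟶ X')
    (sq : ∀ i, IsPullback (a i) (b i) (f i) g)
    {U : X.Opens} {V'' : X'.Opens} (hU : IsAffineOpen U) (hV'' : IsAffineOpen V'')
    (e : V'' ≤ g ⁻¹ᵁ U)
    (hHR : letI := algN f U
      letI : Algebra Γ(X, U) Γ(X', V'') := (g.appLE U V'' e).hom.toAlgebra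
      FieldSepA.HR Γ(X, U) (Nfam f U) Γ(X', V'')) :
    ∀ c τ : Γ(X', V''), (∀ (i : ι) (W : (Z i).Opens), IsAffineOpen W → W ≤ f i ⁻¹ᵁ U →
        ∃ n : ℕ, (b i).appLE V'' (a i ⁻¹ᵁ W ⊓ b i ⁻¹ᵁ V'') inf_le_right (c ^ n * τ) = 0) →
        ∃ n : ℕ, c ^ n * τ = 0 := by
  letI := algN f U
  letI : Algebra Γ(X, U) Γ(X', V'') := (g.appLE U V'' e).hom.toAlgebra
  intro c τ hk
  apply hHR c τ
  rintro ⟨i, W, hW, hWU⟩
  obtain ⟨n, hn⟩ := hk i W hW hWU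
  refine ⟨n, ?_⟩
  have Hp := sq i
  have hiso := isIso_pushoutSection_of_isAffineOpen Hp (US := U) (UT := V'') (UX := W) e hWU
    (UY := a i ⁻¹ᵁ W ⊓ b i ⁻¹ᵁ V'') rfl hU hV'' hW
  have hpo := (isIso_pushoutSection_iff Hp e hWU rfl).mp hiso
  letI : Algebra Γ(Z i, W) Γ(P i, a i ⁻¹ᵁ W ⊓ b i ⁻¹ᵁ V'') :=
    ((a i).appLE W _ inf_le_left).hom.toAlgebra
  letI : Algebra Γ(X', V'') Γ(P i, a i ⁻¹ᵁ W ⊓ b i ⁻¹ᵁ V'') :=
    ((b i).appLE V'' _ inf_le_right).hom.toAlgebra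
  letI : Algebra Γ(X, U) Γ(P i, a i ⁻¹ᵁ W ⊓ b i ⁻¹ᵁ V'') :=
    (((a i).appLE W _ inf_le_left).hom.comp ((f i).appLE U W hWU).hom).toAlgebra
  letI : Algebra Γ(X, U) Γ(Z i, W) := ((f i).appLE U W hWU).hom.toAlgebra
  haveI : IsScalarTower Γ(X, U) Γ(Z i, W) Γ(P i, a i ⁻¹ᵁ W ⊓ b i ⁻¹ᵁ V'') :=
    .of_algebraMap_eq' rfl
  haveI : IsScalarTower Γ(X, U) Γ(X', V'') Γ(P i, a i ⁻¹ᵁ W ⊓ b i ⁻¹ᵁ V'') :=
    .of_algebraMap_eq' (congr($(hpo.w).hom))
  have hP : Algebra.IsPushout Γ(X, U) Γ(Z i, W) Γ(X', V'')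
      Γ(P i, a i ⁻¹ᵁ W ⊓ b i ⁻¹ᵁ V'') :=
    CommRingCat.isPushout_iff_isPushout.mp hpo
  have hP' := hP.symm
  apply hP'.out.equiv.injective
  rw [IsBaseChange.equiv_tmul, map_zero, AlgHom.toLinearMap_apply, map_one, Algebra.smul_def,
    mul_one]
  exact hn

end fam

end Groth.Agent.Lead.FieldSepB
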