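import Mathlib
import Groth.Agent.Lead.FieldSepB

set_option autoImplicit false
universe u
open TensorProduct CategoryTheory AlgebraicGeometry Limits

namespace Groth.Agent.Lead.FieldSepC

open FieldSepB

/-- The base-change square. -/
theorem sq {S X S' Z : Scheme.{u}} (p : X ⟶ S) (q : S' ⟶ S) (f : Z ⟶ X) :
    IsPullback (pullback.fst (f ≫ p) q)
      (pullback.map (f ≫ p) q p q f (𝟙 S') (𝟙 _) (Category.comp_id _)
        ((Category.comp_id _).trans (Category.id_comp _).symm))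
      f (pullback.fst p q) := by
  refine (IsPullback.of_right ?_ ?_ (IsPullback.of_hasPullback p q).flip).flip
  · have : pullback.map (f ≫ p) q p q f (𝟙 S') (𝟙 _) (Category.comp_id _)
        ((Category.comp_id _).trans (Category.id_comp _).symm) ≫ pullback.snd p q =
        pullback.snd (f ≫ p) q := by
      rw [pullback.map, pullback.lift_snd, Category.comp_id]
    rw [this]
    exact (IsPullback.of_hasPullback (f ≫ p) q).flip
  · rw [pullback.map, pullback.lift_fst]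

theorem main {k : Type u} [Field k] {X S' : Scheme.{u}}
    (p : X ⟶ Spec (CommRingCat.of k)) (q : S' ⟶ Spec (CommRingCat.of k))
    {ι : Type u} (Z : ι → Scheme.{u}) (f : ∀ i, Z i ⟶ X)
    (h : ∀ (V : X.Opens) (t : Γ(X, V)), (∀ i, (f i).app V t = 0) → t = 0) :
    ∀ (V : (pullback p q).Opens) (t : Γ(pullback p q, V)),
      (∀ i, (pullback.map (f i ≫ p) q p q (f i) (𝟙 S') (𝟙 _) (Category.comp_id _)
        ((Category.comp_id _).trans (Category.id_comp _).symm)).app V t = 0) → t = 0 := by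
  apply geoA f (pullback.fst p q) (fun i => pullback.fst (f i ≫ p) q) _ (fun i => sq p q (f i))
  intro x'
  obtain ⟨_, ⟨U, hU, rfl⟩, hxU, -⟩ :=
    X.isBasis_affineOpens.exists_subset_of_mem_open (Set.mem_univ (pullback.fst p q x'))
      isOpen_univ
  obtain ⟨_, ⟨T, hT, rfl⟩, hxT, -⟩ :=
    S'.isBasis_affineOpens.exists_subset_of_mem_open (Set.mem_univ (pullback.snd p q x'))
      isOpen_univ
  have Hp := IsPullback.of_hasPullback p q
  have hTtop : T ≤ q ⁻¹ᵁ ⊤ := le_top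
  have hUtop : U ≤ p ⁻¹ᵁ ⊤ := le_top
  have htop : IsAffineOpen (⊤ : (Spec (CommRingCat.of k)).Opens) := isAffineOpen_top _
  have hV'' : IsAffineOpen (pullback.fst p q ⁻¹ᵁ U ⊓ pullback.snd p q ⁻¹ᵁ T) :=
    isAffineOpen_inf Hp hTtop hUtop htop hT hU
  refine ⟨U, pullback.fst p q ⁻¹ᵁ U ⊓ pullback.snd p q ⁻¹ᵁ T, hU, hV'', inf_le_left,
    ⟨hxU, hxT⟩, ?_⟩
  apply geoB f (pullback.fst p q) (fun i => pullback.fst (f i ≫ p) q) _
    (fun i => sq p q (f i)) hU hV'' inf_le_left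
  letI := algN f U
  letI : Algebra Γ(X, U) Γ(pullback p q, pullback.fst p q ⁻¹ᵁ U ⊓ pullback.snd p q ⁻¹ᵁ T) :=
    ((pullback.fst p q).appLE U _ inf_le_left).hom.toAlgebra
  have hiso := isIso_pushoutSection_of_isAffineOpen Hp (US := ⊤) (UT := T) (UX := U) hTtop hUtop
    (UY := pullback.fst p q ⁻¹ᵁ U ⊓ pullback.snd p q ⁻¹ᵁ T) rfl htop hT hU
  have hpo := (isIso_pushoutSection_iff Hp hTtop hUtop rfl).mp hiso
  have hpo' : IsPushout ((Scheme.ΓSpecIso (CommRingCat.of k)).inv ≫ p.appLE ⊤ U hUtop)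
      ((Scheme.ΓSpecIso (CommRingCat.of k)).inv ≫ q.appLE ⊤ T hTtop)
      ((pullback.fst p q).appLE U
        (pullback.fst p q ⁻¹ᵁ U ⊓ pullback.snd p q ⁻¹ᵁ T) inf_le_left)
      ((pullback.snd p q).appLE T
        (pullback.fst p q ⁻¹ᵁ U ⊓ pullback.snd p q ⁻¹ᵁ T) inf_le_right) :=
    IsPushout.of_iso hpo (Scheme.ΓSpecIso (CommRingCat.of k)) (Iso.refl _) (Iso.refl _)
      (Iso.refl _) (by simp) (by simp) (by simp) (by simp)
  letI : Algebra k Γ(X, U) :=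
    ((Scheme.ΓSpecIso (CommRingCat.of k)).inv ≫ p.appLE ⊤ U hUtop).hom.toAlgebra
  letI : Algebra k Γ(S', T) :=
    ((Scheme.ΓSpecIso (CommRingCat.of k)).inv ≫ q.appLE ⊤ T hTtop).hom.toAlgebra
  letI : Algebra Γ(S', T) Γ(pullback p q, pullback.fst p q ⁻¹ᵁ U ⊓ pullback.snd p q ⁻¹ᵁ T) :=
    ((pullback.snd p q).appLE T _ inf_le_right).hom.toAlgebra
  letI : Algebra k Γ(pullback p q, pullback.fst p q ⁻¹ᵁ U ⊓ pullback.snd p q ⁻¹ᵁ T) :=
    (((pullback.fst p q).appLE U _ inf_le_left).hom.comp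
      ((Scheme.ΓSpecIso (CommRingCat.of k)).inv ≫ p.appLE ⊤ U hUtop).hom).toAlgebra
  haveI : IsScalarTower k Γ(X, U)
      Γ(pullback p q, pullback.fst p q ⁻¹ᵁ U ⊓ pullback.snd p q ⁻¹ᵁ T) :=
    .of_algebraMap_eq' rfl
  haveI : IsScalarTower k Γ(S', T)
      Γ(pullback p q, pullback.fst p q ⁻¹ᵁ U ⊓ pullback.snd p q ⁻¹ᵁ T) :=
    .of_algebraMap_eq' (congr($(hpo'.w).hom))
  haveI hP : Algebra.IsPushout k Γ(X, U) Γ(S', T)
      Γ(pullback p q, pullback.fst p q ⁻¹ᵁ U ⊓ pullback.snd p q ⁻¹ᵁ T) :=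
    CommRingCat.isPushout_iff_isPushout.mp hpo'
  exact FieldSepA.HR_of_equiv (Nfam f U)
    (Algebra.IsPushout.equiv k Γ(X, U) Γ(S', T)
      Γ(pullback p q, pullback.fst p q ⁻¹ᵁ U ⊓ pullback.snd p q ⁻¹ᵁ T))
    (FieldSepA.HR_tensor_field (Nfam f U) (geoH f h hU))

end Groth.Agent.Lead.FieldSepC
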