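import Mathlib
import Groth.Agent.Lead.FieldSepC
import Groth.Prelude.Def_FDesc

set_option autoImplicit false
universe u
open CategoryTheory AlgebraicGeometry Limits TopologicalSpace

namespace Groth.Agent.Lead.VanBCA

open Scheme.IdealSheafData

/-- Sections in the vanishing ideal of a closed set containing the image of a reduced scheme pull
back to zero. -/
theorem app_eq_zero_of_mem_vanishingIdeal {Z X : Scheme.{u}} [IsReduced Z] (f : Z ⟶ X)
    (C : Closeds X) (hC : Set.range f ⊆ (C : Set X)) (U : X.affineOpens) (s : Γ(X, U))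
    (hs : s ∈ (vanishingIdeal C).ideal U) : f.app U s = 0 := by
  rw [← AlgebraicGeometry.basicOpen_eq_bot_iff, ← Scheme.preimage_basicOpen]
  ext z
  simp only [Opens.coe_bot, Set.mem_empty_iff_false, iff_false]
  intro hz
  have hz' : f z ∈ X.basicOpen s := hz
  have hzU : f z ∈ U.1 := X.basicOpen_le s hz'
  rw [vanishingIdeal_ideal] at hs
  have hy := U.2.fromSpec_primeIdealOf ⟨f z, hzU⟩
  have h1 : U.2.primeIdealOf ⟨f z, hzU⟩ ∈ U.2.fromSpec ⁻¹' (C : Set X) := by
    change U.2.fromSpec (U.2.primeIdealOf ⟨f z, hzU⟩) ∈ (C : Set X)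
    rw [hy]
    exact hC ⟨z, rfl⟩
  have h2 : s ∈ (U.2.primeIdealOf ⟨f z, hzU⟩).asIdeal :=
    (PrimeSpectrum.mem_vanishingIdeal _ _).mp hs _ h1
  have h3 : U.2.primeIdealOf ⟨f z, hzU⟩ ∈ U.2.fromSpec ⁻¹ᵁ X.basicOpen s := by
    change U.2.fromSpec (U.2.primeIdealOf ⟨f z, hzU⟩) ∈ X.basicOpen s
    rw [hy]
    exact hz'
  rw [U.2.fromSpec_preimage_basicOpen] at h3
  exact h3 h2

/-- The vanishing ideal of a closed set defines a reduced subscheme. -/
theorem isReduced_subscheme_vanishingIdeal {X : Scheme.{u}} (C : Closeds X) :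
    IsReduced (vanishingIdeal C).subscheme := by
  haveI : ∀ U, IsReduced ((vanishingIdeal C).subschemeCover.openCover.X U) := by
    intro (U : X.affineOpens)
    change IsReduced (Spec (.of (Γ(X, U.1) ⧸ (vanishingIdeal C).ideal U)))
    haveI : _root_.IsReduced (Γ(X, U) ⧸ (vanishingIdeal C).ideal U) := by
      rw [vanishingIdeal_ideal]
      exact (Ideal.isRadical_iff_quotient_reduced _).mp
        (PrimeSpectrum.isRadical_vanishingIdeal _)
    infer_instance
  exact IsReduced.of_openCover _ (vanishingIdeal C).subschemeCover.openCover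

/-- A geometrically reduced `k`-scheme becomes reduced after any field extension. -/
theorem isReduced_bc {k : Type u} [Field k] {Z : Scheme.{u}} (r : Z ⟶ Spec (CommRingCat.of k))
    (hred : ∀ z : Z, FBase.IsGeomReducedAt r z) (K : Type u) [Field K] [Algebra k K] :
    IsReduced (pullback r (Spec.map (CommRingCat.ofHom (algebraMap k K)))) := by
  haveI : ∀ x' : ↥(pullback r (Spec.map (CommRingCat.ofHom (algebraMap k K)))),
      _root_.IsReduced ((pullback r (Spec.map (CommRingCat.ofHom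
        (algebraMap k K)))).presheaf.stalk x') := fun x' => hred _ K x' rfl
  exact isReduced_of_isReduced_stalk _

/-- A geometrically reduced `k`-scheme is reduced. -/
theorem isReduced_of_geomReduced {k : Type u} [Field k] {Z : Scheme.{u}}
    (r : Z ⟶ Spec (CommRingCat.of k)) (hred : ∀ z : Z, FBase.IsGeomReducedAt r z) :
    IsReduced Z := by
  haveI := isReduced_bc r hred k
  haveI : IsIso (Spec.map (CommRingCat.ofHom (algebraMap k k))) := by
    have : CommRingCat.ofHom (algebraMap k k) = 𝟙 (CommRingCat.of k) := rfl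
    rw [this]
    infer_instance
  exact isReduced_of_isOpenImmersion
    (inv (pullback.fst r (Spec.map (CommRingCat.ofHom (algebraMap k k)))))

/-- A family with dense union of images into a reduced scheme is schematically dominant. -/
theorem schDominant_of_dense {Y : Scheme.{u}} [IsReduced Y] {ι : Type*} (Z : ι → Scheme.{u})
    (g : ∀ i, Z i ⟶ Y) (hd : Dense (⋃ i, Set.range (g i))) :
    ∀ (V : Y.Opens) (t : Γ(Y, V)), (∀ i, (g i).app V t = 0) → t = 0 := by
  intro V t ht
  rw [← AlgebraicGeometry.basicOpen_eq_bot_iff]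
  by_contra hne
  obtain ⟨y, hy⟩ : ∃ y, y ∈ Y.basicOpen t := by
    by_contra hcon
    apply hne
    ext y
    simp only [Opens.coe_bot, Set.mem_empty_iff_false, iff_false]
    exact fun hy => hcon ⟨y, hy⟩
  obtain ⟨x, hxO, hxS⟩ := hd.inter_open_nonempty _ (Y.basicOpen t).isOpen ⟨y, hy⟩
  obtain ⟨i, z, rfl⟩ := Set.mem_iUnion.mp hxS
  have h1 : z ∈ (g i) ⁻¹ᵁ Y.basicOpen t := hxO
  rw [Scheme.preimage_basicOpen, ht i, Scheme.basicOpen_zero] at h1
  exact h1

/-- The base-change square with a propositional structure morphism. -/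
theorem sq' {S X S' Z : Scheme.{u}} (p : X ⟶ S) (q : S' ⟶ S) (f : Z ⟶ X) (r : Z ⟶ S)
    (hr : r = f ≫ p) :
    IsPullback (pullback.fst r q)
      (pullback.map r q p q f (𝟙 S') (𝟙 _) (by rw [hr, Category.comp_id])
        ((Category.comp_id _).trans (Category.id_comp _).symm))
      f (pullback.fst p q) := by
  subst hr
  exact FieldSepC.sq p q f

theorem main' {k : Type u} [Field k] {X S' : Scheme.{u}}
    (p : X ⟶ Spec (CommRingCat.of k)) (q : S' ⟶ Spec (CommRingCat.of k))
    {ι : Type u} (Z : ι → Scheme.{u}) (f : ∀ i, Z i ⟶ X)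
    (h : ∀ (V : X.Opens) (t : Γ(X, V)), (∀ i, (f i).app V t = 0) → t = 0)
    (P : ι → Scheme.{u}) (a : ∀ i, P i ⟶ Z i) (b : ∀ i, P i ⟶ pullback p q)
    (sq' : ∀ i, IsPullback (a i) (b i) (f i) (pullback.fst p q)) :
    ∀ (V : (pullback p q).Opens) (t : Γ(pullback p q, V)),
      (∀ i, (b i).app V t = 0) → t = 0 := by
  apply FieldSepB.geoA f (pullback.fst p q) a b sq'
  intro x'
  obtain ⟨_, ⟨U, hU, rfl⟩, hxU, -⟩ :=
    X.isBasis_affineOpens.exists_subset_of_mem_open (Set.mem_univ (pullback.fst p q x'))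
      isOpen_univ
  obtain ⟨_, ⟨T, hT, rfl⟩, hxT, -⟩ :=
    S'.isBasis_affineOpens.exists_subset_of_mem_open (Set.mem_univ (pullback.snd p q x'))
      isOpen_univ
  have Hp := IsPullback.of_hasPullback p q
  have hTtop : T ≤ q ⁻¹ᵁ ⊤ := le_top
  have hUtop : U ≤ p ⁻¹ᵁ ⊤ := le_top
  have htop : IsAffineOpen (⊤ : (Spec (CommRingCat.of k)).Opens) := isAffineOpen_top _
  have hV'' : IsAffineOpen (pullback.fst p q ⁻¹ᵁ U ⊓ pullback.snd p q ⁻¹ᵁ T) :=
    FieldSepB.isAffineOpen_inf Hp hTtop hUtop htop hT hU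
  refine ⟨U, pullback.fst p q ⁻¹ᵁ U ⊓ pullback.snd p q ⁻¹ᵁ T, hU, hV'', inf_le_left,
    ⟨hxU, hxT⟩, ?_⟩
  apply FieldSepB.geoB f (pullback.fst p q) a b sq' hU hV'' inf_le_left
  letI := FieldSepB.algN f U
  letI : Algebra Γ(X, U) Γ(pullback p q, pullback.fst p q ⁻¹ᵁ U ⊓ pullback.snd p q ⁻¹ᵁ T) :=
    ((pullback.fst p q).appLE U _ inf_le_left).hom.toAlgebra
  have hiso := isIso_pushoutSection_of_isAffineOpen Hp (US := ⊤) (UT := T) (UX := U) hTtop hUtop
    (UY := pullback.fst p q ⁻¹ᵁ U ⊓ pullback.snd p q ⁻¹ᵁ T) rfl htop hT hU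
  have hpo := (isIso_pushoutSection_iff Hp hTtop hUtop rfl).mp hiso
  have hpo' : IsPushout ((Scheme.ΓSpecIso (CommRingCat.of k)).inv ≫ p.appLE ⊤ U hUtop)
      ((Scheme.ΓSpecIso (CommRingCat.of k)).inv ≫ q.appLE ⊤ T hTtop)
      ((pullback.fst p q).appLE U
        (pullback.fst p q ⁻¹ᵁ U ⊓ pullback.snd p q ⁻¹ᵁ T) inf_le_left)
      ((pullback.snd p q).appLE T
        (pullback.fst p q ⁻¹ᵁ U ⊓ pullback.snd p q ⁻¹ᵁ T) inf_le_right) :=
    IsPushout.of_iso hpo (Scheme.ΓSpecIso (CommRingCat.of k)) (Iso.refl _) (Iso.refl _)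
      (Iso.refl _) (by simp) (by simp) (by simp) (by simp)
  letI : Algebra k Γ(X, U) :=
    ((Scheme.ΓSpecIso (CommRingCat.of k)).inv ≫ p.appLE ⊤ U hUtop).hom.toAlgebra
  letI : Algebra k Γ(S', T) :=
    ((Scheme.ΓSpecIso (CommRingCat.of k)).inv ≫ q.appLE ⊤ T hTtop).hom.toAlgebra
  letI : Algebra Γ(S', T) Γ(pullback p q, pullback.fst p q ⁻¹ᵁ U ⊓ pullback.snd p q ⁻¹ᵁ T) :=
    ((pullback.snd p q).appLE T _ inf_le_right).hom.toAlgebra
  letI : Algebra k Γ(pullback p q, pullback.fst p q ⁻¹ᵁ U ⊓ pullback.snd p q ⁻¹ᵁ T) :=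
    (((pullback.fst p q).appLE U _ inf_le_left).hom.comp
      ((Scheme.ΓSpecIso (CommRingCat.of k)).inv ≫ p.appLE ⊤ U hUtop).hom).toAlgebra
  haveI : IsScalarTower k Γ(X, U)
      Γ(pullback p q, pullback.fst p q ⁻¹ᵁ U ⊓ pullback.snd p q ⁻¹ᵁ T) :=
    .of_algebraMap_eq' rfl
  haveI : IsScalarTower k Γ(S', T)
      Γ(pullback p q, pullback.fst p q ⁻¹ᵁ U ⊓ pullback.snd p q ⁻¹ᵁ T) :=
    .of_algebraMap_eq' (congr($(hpo'.w).hom))
  haveI hP : Algebra.IsPushout k Γ(X, U) Γ(S', T)
      Γ(pullback p q, pullback.fst p q ⁻¹ᵁ U ⊓ pullback.snd p q ⁻¹ᵁ T) :=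
    CommRingCat.isPushout_iff_isPushout.mp hpo'
  exact FieldSepA.HR_of_equiv (FieldSepB.Nfam f U)
    (Algebra.IsPushout.equiv k Γ(X, U) Γ(S', T)
      Γ(pullback p q, pullback.fst p q ⁻¹ᵁ U ⊓ pullback.snd p q ⁻¹ᵁ T))
    (FieldSepA.HR_tensor_field (FieldSepB.Nfam f U) (FieldSepB.geoH f h hU))


/-- S4905 -/
theorem main {k : Type u} [Field k] {X : Scheme.{u}}
    (p : X ⟶ Spec (CommRingCat.of k)) {ι : Type u} (Z : ι → Scheme.{u}) (f : ∀ i, Z i ⟶ X)
    (hred : ∀ (i : ι) (z : Z i), FBase.IsGeomReducedAt (f i ≫ p) z)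
    (k' : Type u) [Field k'] [Algebra k k'] :
    vanishingIdeal (Closeds.closure (⋃ i, Set.range
        (pullback.map (f i ≫ p) (Spec.map (CommRingCat.ofHom (algebraMap k k'))) p
          (Spec.map (CommRingCat.ofHom (algebraMap k k'))) (f i) (𝟙 _) (𝟙 _)
          (Category.comp_id _) ((Category.comp_id _).trans (Category.id_comp _).symm)))) =
      (vanishingIdeal (Closeds.closure (⋃ i, Set.range (f i)))).comap
        (pullback.fst p (Spec.map (CommRingCat.ofHom (algebraMap k k')))) := by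
  set q : Spec (CommRingCat.of k') ⟶ Spec (CommRingCat.of k) :=
    Spec.map (CommRingCat.ofHom (algebraMap k k')) with hq
  set C : Closeds X := Closeds.closure (⋃ i, Set.range (f i)) with hC
  haveI : ∀ i, IsReduced (Z i) := fun i => isReduced_of_geomReduced (f i ≫ p) (hred i)
  haveI : ∀ i, IsReduced (pullback (f i ≫ p) q) := fun i =>
    isReduced_bc (f i ≫ p) (hred i) k'
  haveI : IsReduced (vanishingIdeal C).subscheme := isReduced_subscheme_vanishingIdeal C
  have hsub : ∀ i, Set.range (f i) ⊆ (C : Set X) := fun i =>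
    (Set.subset_iUnion (fun i => Set.range (f i)) i).trans subset_closure
  -- the lifts to the reduced subscheme
  have hle : ∀ i, (vanishingIdeal C).subschemeι.ker ≤ (f i).ker := by
    intro i
    rw [ker_subschemeι]
    exact le_ofIdeals_iff.mpr (fun U s hs =>
      app_eq_zero_of_mem_vanishingIdeal (f i) C (hsub i) U s hs)
  let g : ∀ i, Z i ⟶ (vanishingIdeal C).subscheme := fun i =>
    IsClosedImmersion.lift (vanishingIdeal C).subschemeι (f i) (hle i)
  have hg : ∀ i, g i ≫ (vanishingIdeal C).subschemeι = f i := fun i =>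
    IsClosedImmersion.lift_fac _ _ _
  -- density
  have hdense : Dense (⋃ i, Set.range (g i)) := by
    rw [dense_iff_inter_open]
    rintro D hD ⟨y, hy⟩
    obtain ⟨O, hO, rfl⟩ :=
      (vanishingIdeal C).subschemeι.isClosedEmbedding.isInducing.isOpen_iff.mp hD
    have hyC : (vanishingIdeal C).subschemeι y ∈ (C : Set X) := by
      rw [← coe_support_vanishingIdeal C, ← range_subschemeι]
      exact ⟨y, rfl⟩
    obtain ⟨x, hxO, hxS⟩ := mem_closure_iff.mp hyC O hO hy
    obtain ⟨i, z, rfl⟩ := Set.mem_iUnion.mp hxS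
    refine ⟨g i z, ?_, Set.mem_iUnion.mpr ⟨i, z, rfl⟩⟩
    change (vanishingIdeal C).subschemeι (g i z) ∈ O
    rw [← Scheme.Hom.comp_apply, hg i]
    exact hxO
  have hsd := schDominant_of_dense Z g hdense
  -- base change
  have hr : ∀ i, f i ≫ p = g i ≫ (vanishingIdeal C).subschemeι ≫ p := fun i => by
    rw [← Category.assoc, hg i]
  have hsd' := main' ((vanishingIdeal C).subschemeι ≫ p) q Z g hsd
    (fun i => pullback (f i ≫ p) q) (fun i => pullback.fst (f i ≫ p) q)
    (fun i => pullback.map (f i ≫ p) q ((vanishingIdeal C).subschemeι ≫ p) q (g i) (𝟙 _) (𝟙 _)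
      (by rw [hr i, Category.comp_id])
      ((Category.comp_id _).trans (Category.id_comp _).symm))
    (fun i => sq' ((vanishingIdeal C).subschemeι ≫ p) q (g i) (f i ≫ p) (hr i))
  have hbj : ∀ i, pullback.map (f i ≫ p) q ((vanishingIdeal C).subschemeι ≫ p) q (g i) (𝟙 _) (𝟙 _)
      (by rw [hr i, Category.comp_id])
      ((Category.comp_id _).trans (Category.id_comp _).symm) ≫
      pullback.map ((vanishingIdeal C).subschemeι ≫ p) q p q (vanishingIdeal C).subschemeι
        (𝟙 _) (𝟙 _) (Category.comp_id _) ((Category.comp_id _).trans (Category.id_comp _).symm) =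
      pullback.map (f i ≫ p) q p q (f i) (𝟙 _) (𝟙 _)
        (Category.comp_id _) ((Category.comp_id _).trans (Category.id_comp _).symm) := by
    intro i
    apply pullback.hom_ext
    · simp only [pullback.map, Category.assoc, pullback.lift_fst, pullback.lift_fst_assoc, hg i]
    · simp only [pullback.map, Category.assoc, pullback.lift_snd, pullback.lift_snd_assoc,
        Category.comp_id]
  have hker : (pullback.map ((vanishingIdeal C).subschemeι ≫ p) q p q
      (vanishingIdeal C).subschemeι (𝟙 _) (𝟙 _) (Category.comp_id _)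
      ((Category.comp_id _).trans (Category.id_comp _).symm)).ker =
      (vanishingIdeal C).comap (pullback.fst p q) := by
    have H := (FieldSepC.sq p q (vanishingIdeal C).subschemeι).flip
    rw [← H.isoPullback_hom_fst, Scheme.Hom.ker_comp_of_isIso, ker_fst_of_isClosedImmersion,
      ker_subschemeι]
  rw [← hker]
  apply le_antisymm
  · refine le_ofIdeals_iff.mpr (fun U s hs => ?_)
    apply hsd' _ _
    intro i
    have h1 := app_eq_zero_of_mem_vanishingIdeal
      (pullback.map (f i ≫ p) q p q (f i) (𝟙 _) (𝟙 _)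
        (Category.comp_id _) ((Category.comp_id _).trans (Category.id_comp _).symm))
      (Closeds.closure (⋃ i, Set.range
        (pullback.map (f i ≫ p) q p q (f i) (𝟙 _) (𝟙 _)
          (Category.comp_id _) ((Category.comp_id _).trans (Category.id_comp _).symm))))
      ((Set.subset_iUnion (fun i => Set.range
        (pullback.map (f i ≫ p) q p q (f i) (𝟙 _) (𝟙 _)
          (Category.comp_id _) ((Category.comp_id _).trans (Category.id_comp _).symm))) i).trans
        subset_closure) U s hs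
    rw [← hbj i] at h1
    exact h1
  · rw [hker, ← le_support_iff_le_vanishingIdeal, support_comap, Closeds.closure_le]
    rintro _ hx
    obtain ⟨i, z, rfl⟩ := Set.mem_iUnion.mp hx
    change pullback.fst p q (pullback.map (f i ≫ p) q p q (f i) (𝟙 _) (𝟙 _)
        (Category.comp_id _) ((Category.comp_id _).trans (Category.id_comp _).symm) z) ∈
      ((vanishingIdeal C).support : Set X)
    rw [coe_support_vanishingIdeal, ← Scheme.Hom.comp_apply, pullback.map, pullback.lift_fst,
      Scheme.Hom.comp_apply]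
    exact hsub i ⟨_, rfl⟩

end Groth.Agent.Lead.VanBCA
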