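import Mathlib
import Groth.Agent.Lead.HartogsConv

set_option autoImplicit false
universe u
open CategoryTheory CategoryTheory.Limits AlgebraicGeometry TopologicalSpace Opposite

namespace Groth.Agent.Lead.HartogsCor
open Groth.Agent.Helper4 Groth.Agent.Helper4.StalkDict Groth.Agent.Lead.StalkNhd
  Groth.Agent.Lead.Hartogs Groth.Agent.Helper4.QcqsMod Groth.Agent.Lead.ExtFree

variable {X : Scheme.{u}} [IsLocallyNoetherian X] (U : X.Opens)

/-- Hartogs: `F ⟶ j_* j^* F` is an isomorphism when `F` has depth `≥ 2` off `U`. -/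
theorem isIso_unit_of_depth (F : X.Modules) (hF : Coh.IsCoh F)
    (hdepth : ∀ x : X, x ∉ U → 2 ≤ LocCoh.depth (X.presheaf.stalk x) (F.presheaf.stalk x)) :
    IsIso ((Scheme.Modules.restrictAdjunction U.ι).unit.app F) := by
  haveI : F.IsQuasicoherent := hF.1
  haveI : (pushRes U F).IsQuasicoherent :=
    QcohGlue.isQuasicoherent_pushforward U.ι (F.restrict U.ι)
  apply isIso_of_depth_two (unit U F) hF.2
  · intro x
    by_cases hx : x ∈ U
    · exact Or.inl (unit_stalk_bijective U F x hx)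
    · exact Or.inr (hdepth x hx)
  · intro x a _ ha
    exact pushRes_regular U F hF.2 x a ha
  · intro x hx
    exact pushRes_stalk_subsingleton U F hF.2 x hx

/-- S14995 -/
theorem hom_bijective (E F : X.Modules) (hE : Coh.IsCoh E)
    (hdepth : ∀ y : X, y ∉ U → (2 : ℕ∞) ≤ LocCoh.depth (X.presheaf.stalk y) (E.presheaf.stalk y)) :
    Function.Bijective (fun φ : F ⟶ E => (Scheme.Modules.restrictFunctor U.ι).map φ) := by
  haveI := isIso_unit_of_depth U E hE hdepth
  exact PullFF.bijective_map_of_isIso_unit (Scheme.Modules.restrictAdjunction U.ι) F E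

/-- sections of `j_* N` over `V` and `V ⊓ U` agree -/
theorem push_bijective (N : (U : Scheme.{u}).Modules) (V : X.Opens) :
    Function.Bijective (((Scheme.Modules.pushforward U.ι).obj N).presheaf.map
      (homOfLE (inf_le_left : V ⊓ U ≤ V)).op) := by
  have hle : U.ι ⁻¹ᵁ V ≤ U.ι ⁻¹ᵁ (V ⊓ U) := by
    intro c hc
    exact ⟨hc, c.2⟩
  have hle' : U.ι ⁻¹ᵁ (V ⊓ U) ≤ U.ι ⁻¹ᵁ V := fun c hc => hc.1
  have : ((Scheme.Modules.pushforward U.ι).obj N).presheaf.map
      (homOfLE (inf_le_left : V ⊓ U ≤ V)).op = N.presheaf.map (homOfLE hle').op := rfl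
  rw [this]
  haveI : IsIso (homOfLE hle') := ⟨⟨homOfLE hle, Subsingleton.elim _ _, Subsingleton.elim _ _⟩⟩
  exact ConcreteCategory.bijective_of_isIso (N.presheaf.map (homOfLE hle').op)

/-- S12226 -/
theorem main (F : X.Modules) (hF : Coh.IsCoh F)
    (hF' : Coh.IsCoh ((Coh.push U.ι).obj (F.restrict U.ι))) :
    (∀ x : ↥X, x ∉ U → (2 : ℕ∞) ≤ LocCoh.depth (X.presheaf.stalk x)
        (((Coh.push U.ι).obj (F.restrict U.ι)).presheaf.stalk x)) ∧
    ∀ (G : X.Modules) (hG : Coh.IsCoh G) (φ : F ⟶ G),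
      IsIso ((Scheme.Modules.restrictFunctor U.ι).map φ) →
      (∀ x : ↥X, x ∉ U → (2 : ℕ∞) ≤ LocCoh.depth (X.presheaf.stalk x) (G.presheaf.stalk x)) →
        (∃! ψ : G ⟶ (Coh.push U.ι).obj (F.restrict U.ι),
            φ ≫ ψ = (Scheme.Modules.restrictAdjunction U.ι).unit.app F) ∧
          ∀ ψ : G ⟶ (Coh.push U.ι).obj (F.restrict U.ι),
            φ ≫ ψ = (Scheme.Modules.restrictAdjunction U.ι).unit.app F → IsIso ψ := by
  constructor
  · intro x hx
    exact HartogsConv.two_le_depth _ U hF' (fun V => push_bijective U (F.restrict U.ι) V) x hx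
  · intro G hG φ hφ hdepth
    haveI := hφ
    haveI := isIso_unit_of_depth U G hG hdepth
    let adj := Scheme.Modules.restrictAdjunction U.ι
    let jφ := (Scheme.Modules.pushforward U.ι).map ((Scheme.Modules.restrictFunctor U.ι).map φ)
    haveI : IsIso jφ := by dsimp only [jφ]; infer_instance
    have hnat : φ ≫ adj.unit.app G = adj.unit.app F ≫ jφ := (adj.unit.naturality φ)
    let ψ0 : G ⟶ (Coh.push U.ι).obj (F.restrict U.ι) := adj.unit.app G ≫ inv jφ
    have hψ0 : φ ≫ ψ0 = adj.unit.app F := by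
      dsimp only [ψ0]
      rw [← Category.assoc, hnat, Category.assoc, IsIso.hom_inv_id, Category.comp_id]
    have huniq : ∀ ψ : G ⟶ (Coh.push U.ι).obj (F.restrict U.ι),
        φ ≫ ψ = adj.unit.app F → ψ = ψ0 := by
      intro ψ hψ
      apply (adj.homEquiv G (F.restrict U.ι)).symm.injective
      rw [Adjunction.homEquiv_counit, Adjunction.homEquiv_counit]
      congr 1
      have h1 : (Scheme.Modules.restrictFunctor U.ι).map φ ≫
          (Scheme.Modules.restrictFunctor U.ι).map ψ =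
          (Scheme.Modules.restrictFunctor U.ι).map φ ≫
          (Scheme.Modules.restrictFunctor U.ι).map ψ0 := by
        rw [← Functor.map_comp, ← Functor.map_comp, hψ, hψ0]
      exact (cancel_epi _).mp h1
    refine ⟨⟨ψ0, hψ0, huniq⟩, ?_⟩
    intro ψ hψ
    rw [huniq ψ hψ]
    dsimp only [ψ0]
    infer_instance

end Groth.Agent.Lead.HartogsCor
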