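import Mathlib
import Groth.Agent.Lead.FieldSepA

set_option autoImplicit false
universe u
open TensorProduct CategoryTheory

namespace Groth.Agent.Lead.FieldSepD

section loc
variable {A R : Type u} (R' : Type u) [CommRing A] [CommRing R] [CommRing R'] [Algebra A R]
  [Algebra R R'] [Algebra A R'] [IsScalarTower A R R']
  (Q : Type u) [AddCommGroup Q] [Module A Q]

/-- The canonical `R`-linear map `R ⊗[A] Q → R' ⊗[A] Q`. -/
noncomputable def locMap : R ⊗[A] Q →ₗ[R] R' ⊗[A] Q :=
  TensorProduct.AlgebraTensorModule.map (IsScalarTower.toAlgHom R R R').toLinearMap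
    (LinearMap.id : Q →ₗ[A] Q)

@[simp] theorem locMap_tmul (r : R) (q : Q) :
    locMap R' Q (r ⊗ₜ[A] q) = algebraMap R R' r ⊗ₜ[A] q := rfl

theorem isLocalizedModule_locMap (c : R) [IsLocalization.Away c R'] :
    IsLocalizedModule (Submonoid.powers c) (locMap (A := A) (R := R) R' Q) := by
  have h1 : IsLocalizedModule (Submonoid.powers c) (TensorProduct.mk R R' (R ⊗[A] Q) 1) :=
    IsLocalization.tensorProduct_isLocalizedModule ..
  let e : R' ⊗[R] (R ⊗[A] Q) ≃ₗ[R] R' ⊗[A] Q :=
    (TensorProduct.AlgebraTensorModule.cancelBaseChange A R R' R' Q).restrictScalars R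
  have h2 := IsLocalizedModule.of_linearEquiv (Submonoid.powers c)
    (TensorProduct.mk R R' (R ⊗[A] Q) 1) e
  convert h2 using 1
  apply TensorProduct.AlgebraTensorModule.ext
  intro r q
  simp [e, Algebra.smul_def]

theorem lTensor_locMap {Q₁ Q₂ : Type u} [AddCommGroup Q₁] [Module A Q₁] [AddCommGroup Q₂]
    [Module A Q₂] (v : Q₁ →ₗ[A] Q₂) (x : R ⊗[A] Q₁) :
    v.lTensor R' (locMap R' Q₁ x) = locMap R' Q₂ (v.lTensor R x) := by
  induction x using TensorProduct.induction_on with
  | zero => simp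
  | tmul r q => simp
  | add x y hx hy => simp only [map_add, hx, hy]

theorem lTensor_smul {Q₁ Q₂ : Type u} [AddCommGroup Q₁] [Module A Q₁] [AddCommGroup Q₂]
    [Module A Q₂] (v : Q₁ →ₗ[A] Q₂) (r : R) (x : R' ⊗[A] Q₁) :
    v.lTensor R' (r • x) = r • v.lTensor R' x := by
  induction x using TensorProduct.induction_on with
  | zero => simp
  | tmul r' q => simp [TensorProduct.smul_tmul']
  | add x y hx hy => simp only [map_add, smul_add, hx, hy]

end loc

section HR
variable (A : Type u) [CommRing A] {M : Type u} [AddCommGroup M] [Module A M]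
  {J : Type*} {N : J → Type u} [∀ j, AddCommGroup (N j)] [∀ j, Module A (N j)]
  (u : ∀ j, M →ₗ[A] N j)

/-- Property (H) of the family. -/
def HBase : Prop :=
  ∀ (a : A) (m : M), (∀ j, ∃ n : ℕ, a ^ n • u j m = 0) → ∃ n : ℕ, a ^ n • m = 0

/-- Property (H) after base change to `R`. -/
def HRmod (R : Type u) [CommRing R] [Algebra A R] : Prop :=
  ∀ (c : R) (τ : R ⊗[A] M), (∀ j, ∃ n : ℕ, c ^ n • (u j).lTensor R τ = 0) →
    ∃ n : ℕ, c ^ n • τ = 0

theorem HRmod_of_fp_flat (H : HBase A u) (A₁ : Type u) [CommRing A₁] [Algebra A A₁]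
    [Algebra.FinitePresentation A A₁] [Module.Flat A A₁] : HRmod A u A₁ := by
  intro c τ hτ
  haveI : IsScalarTower A A₁ (Localization.Away c) := inferInstance
  haveI : Algebra.FinitePresentation A₁ (Localization.Away c) :=
    IsLocalization.Away.finitePresentation c
  haveI : Algebra.FinitePresentation A (Localization.Away c) :=
    Algebra.FinitePresentation.trans A A₁ (Localization.Away c)
  haveI : Module.Flat A₁ (Localization.Away c) :=
    IsLocalization.flat (Localization.Away c) (Submonoid.powers c)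
  haveI : Module.Flat A (Localization.Away c) := Module.Flat.trans A A₁ (Localization.Away c)
  haveI := fun Q [AddCommGroup Q] [Module A Q] =>
    isLocalizedModule_locMap (A := A) (R := A₁) (Localization.Away c) Q c
  have key : locMap (A := A) (R := A₁) (Localization.Away c) M τ = 0 := by
    apply CoreSepC.core (A := A) (A' := Localization.Away c) u H
    intro j
    rw [lTensor_locMap]
    obtain ⟨n, hn⟩ := hτ j
    exact (IsLocalizedModule.eq_zero_iff (Submonoid.powers c) _).mpr ⟨⟨_, n, rfl⟩, hn⟩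
  obtain ⟨⟨_, n, rfl⟩, hn⟩ := (IsLocalizedModule.eq_zero_iff (Submonoid.powers c) _).mp key
  exact ⟨n, hn⟩

variable {A} in
/-- From (H) over `R` to joint injectivity over a localization `R'` of `R` away from `c`. -/
theorem core_loc {R R' : Type u} [CommRing R] [CommRing R'] [Algebra A R] [Algebra R R']
    [Algebra A R'] [IsScalarTower A R R'] (c : R) [IsLocalization.Away c R']
    (h : HRmod A u R) (t : R' ⊗[A] M) (ht : ∀ j, (u j).lTensor R' t = 0) : t = 0 := by
  haveI := fun Q [AddCommGroup Q] [Module A Q] =>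
    isLocalizedModule_locMap (A := A) (R := R) R' Q c
  obtain ⟨⟨τ, ⟨_, n, rfl⟩⟩, hτ⟩ := IsLocalizedModule.surj (Submonoid.powers c)
    (locMap (A := A) (R := R) R' M) t
  dsimp only at hτ
  have hτ' : c ^ n • t = locMap (A := A) (R := R) R' M τ := hτ
  obtain ⟨n', hn'⟩ := h c τ (fun j => by
    have h1 : locMap (A := A) (R := R) R' (N j) ((u j).lTensor R τ) = 0 := by
      rw [← lTensor_locMap, ← hτ']
      rw [lTensor_smul, ht j, smul_zero]
    obtain ⟨⟨_, m, rfl⟩, hm⟩ := (IsLocalizedModule.eq_zero_iff (Submonoid.powers c) _).mp h1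
    exact ⟨m, hm⟩)
  have h3 : c ^ n' • (c ^ n • t) = 0 := by
    rw [hτ', ← _root_.map_smul, hn', map_zero]
  rw [smul_smul, ← pow_add] at h3
  have hunit : IsUnit ((algebraMap R R' c) ^ (n' + n)) :=
    (IsLocalization.Away.algebraMap_isUnit c).pow _
  have h4 : (algebraMap R R' c) ^ (n' + n) • t = 0 := by
    rw [← map_pow, algebraMap_smul]
    exact h3
  exact (hunit.smul_left_cancel).mp (h4.trans (smul_zero _).symm)

variable {A} in
theorem HRmod_of_equiv {R₀ R : Type u} [CommRing R₀] [CommRing R] [Algebra A R₀] [Algebra A R]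
    (e : R₀ ≃ₐ[A] R) (h : HRmod A u R₀) : HRmod A u R := by
  have hsemi : ∀ {Q : Type u} [AddCommGroup Q] [Module A Q] (r : R) (x : R ⊗[A] Q),
      e.symm.toLinearMap.rTensor Q (r • x) = e.symm r • e.symm.toLinearMap.rTensor Q x := by
    intro Q _ _ r x
    induction x using TensorProduct.induction_on with
    | zero => simp
    | tmul r' q => simp [TensorProduct.smul_tmul']
    | add x y hx hy => simp only [map_add, smul_add, hx, hy]
  have hinj : ∀ {Q : Type u} [AddCommGroup Q] [Module A Q],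
      Function.Injective (e.symm.toLinearMap.rTensor Q) := by
    intro Q _ _
    apply Function.LeftInverse.injective (g := e.toLinearMap.rTensor Q)
    intro x
    rw [← LinearMap.comp_apply, ← LinearMap.rTensor_comp]
    have : e.toLinearMap ∘ₗ e.symm.toLinearMap = LinearMap.id := by
      ext x; simp
    rw [this, LinearMap.rTensor_id, LinearMap.id_apply]
  intro c τ hτ
  obtain ⟨n, hn⟩ := h (e.symm c) (e.symm.toLinearMap.rTensor M τ) (fun j => by
    obtain ⟨n, hn⟩ := hτ j
    refine ⟨n, ?_⟩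
    have h1 := congrArg (e.symm.toLinearMap.rTensor (N j)) hn
    rw [hsemi, map_zero, map_pow] at h1
    rw [← LinearMap.comp_apply, LinearMap.lTensor_comp_rTensor, ← LinearMap.rTensor_comp_lTensor,
      LinearMap.comp_apply]
    exact h1)
  refine ⟨n, hinj ?_⟩
  rw [hsemi, map_zero, map_pow]
  exact hn

end HR

section field
open FieldSepA
variable {k : Type u} [Field k] {A : Type u} [CommRing A] [Algebra k A]
  {B : Type u} [CommRing B] [Algebra k B]

theorem ρ_comp_incl {B₁ B₂ : Subalgebra k B} (h : B₁ ≤ B₂) (y : A ⊗[k] B₁) :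
    ρ (A := A) B₂ (Algebra.TensorProduct.map (AlgHom.id A A) (Subalgebra.inclusion h) y) =
      ρ (A := A) B₁ y := by
  induction y using TensorProduct.induction_on with
  | zero => simp
  | tmul a b => simp
  | add x y hx hy => simp only [map_add, hx, hy]

theorem range_rTensor_mono {B₁ B₂ : Subalgebra k B} (h : B₁ ≤ B₂) (Q : Type u) [AddCommGroup Q]
    [Module A Q] :
    LinearMap.range ((ρ (A := A) B₁).toLinearMap.rTensor Q) ≤
      LinearMap.range ((ρ (A := A) B₂).toLinearMap.rTensor Q) := by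
  rintro _ ⟨y, rfl⟩
  refine ⟨(Algebra.TensorProduct.map (AlgHom.id A A)
    (Subalgebra.inclusion h)).toLinearMap.rTensor Q y, ?_⟩
  induction y using TensorProduct.induction_on with
  | zero => simp
  | tmul x q =>
    simp only [LinearMap.rTensor_tmul, AlgHom.toLinearMap_apply]
    rw [ρ_comp_incl]
  | add x y hx hy => simp only [map_add, hx, hy]

theorem exists_fg_mem_range_mod (Q : Type u) [AddCommGroup Q] [Module A Q]
    (x : (A ⊗[k] B) ⊗[A] Q) :
    ∃ B₁ : Subalgebra k B, B₁.FG ∧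
      x ∈ LinearMap.range ((ρ (A := A) B₁).toLinearMap.rTensor Q) := by
  induction x using TensorProduct.induction_on with
  | zero => exact ⟨⊥, Subalgebra.fg_bot, zero_mem _⟩
  | tmul r q =>
    obtain ⟨B₁, h₁, r₁, rfl⟩ := exists_fg_mem_range (A := A) r
    exact ⟨B₁, h₁, r₁ ⊗ₜ q, rfl⟩
  | add x y hx hy =>
    obtain ⟨B₁, h₁, hx⟩ := hx
    obtain ⟨B₂, h₂, hy⟩ := hy
    exact ⟨B₁ ⊔ B₂, h₁.sup h₂, add_mem (range_rTensor_mono le_sup_left Q hx)
      (range_rTensor_mono le_sup_right Q hy)⟩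

theorem rTensor_ρ_smul (B₁ : Subalgebra k B) (Q : Type u) [AddCommGroup Q] [Module A Q]
    (r : A ⊗[k] B₁) (x : (A ⊗[k] B₁) ⊗[A] Q) :
    (ρ (A := A) B₁).toLinearMap.rTensor Q (r • x) =
      ρ (A := A) B₁ r • (ρ (A := A) B₁).toLinearMap.rTensor Q x := by
  induction x using TensorProduct.induction_on with
  | zero => simp
  | tmul r' q =>
    rw [TensorProduct.smul_tmul', LinearMap.rTensor_tmul, LinearMap.rTensor_tmul,
      TensorProduct.smul_tmul', smul_eq_mul, smul_eq_mul, AlgHom.toLinearMap_apply,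
      AlgHom.toLinearMap_apply, map_mul]
  | add x y hx hy => simp only [map_add, smul_add, hx, hy]

variable {M : Type u} [AddCommGroup M] [Module A M]
  {J : Type*} {N : J → Type u} [∀ j, AddCommGroup (N j)] [∀ j, Module A (N j)]
  (u : ∀ j, M →ₗ[A] N j)

theorem HRmod_tensor_field (H : HBase A u) : HRmod A u (A ⊗[k] B) := by
  intro c τ hτ
  obtain ⟨B₁, h₁, hc⟩ := exists_fg_mem_range (A := A) c
  obtain ⟨B₂, h₂, hτ'⟩ := exists_fg_mem_range_mod (A := A) M τ
  obtain ⟨c₁, rfl⟩ := range_ρ_mono (le_sup_left : B₁ ≤ B₁ ⊔ B₂) hc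
  obtain ⟨τ₁, rfl⟩ := range_rTensor_mono (le_sup_right : B₂ ≤ B₁ ⊔ B₂) M hτ'
  haveI : Algebra.FiniteType k ↥(B₁ ⊔ B₂) := (Subalgebra.fg_iff_finiteType _).mp (h₁.sup h₂)
  haveI : Algebra.FinitePresentation k ↥(B₁ ⊔ B₂) :=
    Algebra.FinitePresentation.of_finiteType.mp inferInstance
  haveI : Algebra.FinitePresentation A (A ⊗[k] ↥(B₁ ⊔ B₂)) :=
    Algebra.FinitePresentation.baseChange A
  obtain ⟨n, hn⟩ := HRmod_of_fp_flat A u H (A ⊗[k] ↥(B₁ ⊔ B₂)) c₁ τ₁ (fun j => by
    obtain ⟨n, hn⟩ := hτ j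
    refine ⟨n, ?_⟩
    apply rTensor_ρ_injective (A := A) (B₁ ⊔ B₂) (N j)
    rw [rTensor_ρ_smul, map_zero, map_pow, ← LinearMap.comp_apply,
      LinearMap.rTensor_comp_lTensor, ← LinearMap.lTensor_comp_rTensor, LinearMap.comp_apply]
    exact hn)
  refine ⟨n, ?_⟩
  have := congrArg ((ρ (A := A) (B₁ ⊔ B₂)).toLinearMap.rTensor M) hn
  rwa [rTensor_ρ_smul, map_pow, map_zero] at this

end field

end Groth.Agent.Lead.FieldSepD
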