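import Mathlib
import Groth.Agent.Lead.CoreSepA

set_option autoImplicit false
universe u
open TensorProduct CategoryTheory

namespace Groth.Agent.Lead.NilSepA

section
variable {A : Type u} [CommRing A]

/-- The multiplication map `P ⊗ Q → Q` for an ideal `P`. -/
noncomputable def μ (P : Ideal A) (Q : Type u) [AddCommGroup Q] [Module A Q] :
    ↥P ⊗[A] Q →ₗ[A] Q :=
  (TensorProduct.lid A Q).toLinearMap ∘ₗ (Submodule.subtype P).rTensor Q

@[simp] theorem μ_tmul (P : Ideal A) (Q : Type u) [AddCommGroup Q] [Module A Q] (s : P) (q : Q) :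
    μ P Q (s ⊗ₜ q) = (s : A) • q := by
  simp [μ]

theorem μ_injective (P : Ideal A) (Q : Type u) [AddCommGroup Q] [Module A Q] [Module.Flat A Q] :
    Function.Injective (μ P Q) := by
  unfold μ
  rw [LinearMap.coe_comp]
  exact (TensorProduct.lid A Q).injective.comp
    (Module.Flat.rTensor_preserves_injective_linearMap _ Subtype.val_injective)

theorem range_μ (P : Ideal A) (Q : Type u) [AddCommGroup Q] [Module A Q] :
    LinearMap.range (μ P Q) = P • (⊤ : Submodule A Q) :=
  Ideal.subtype_rTensor_range Q P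

theorem μ_nat (P : Ideal A) {Q₁ Q₂ : Type u} [AddCommGroup Q₁] [Module A Q₁] [AddCommGroup Q₂]
    [Module A Q₂] (v : Q₁ →ₗ[A] Q₂) (σ : ↥P ⊗[A] Q₁) :
    μ P Q₂ (v.lTensor P σ) = v (μ P Q₁ σ) := by
  induction σ using TensorProduct.induction_on with
  | zero => simp
  | tmul s q => simp
  | add x y hx hy => simp only [map_add, hx, hy]

theorem distrib_nat (B : Type u) [CommRing B] [Algebra A B] (P : Type u) [AddCommGroup P]
    [Module A P] {Q₁ Q₂ : Type u} [AddCommGroup Q₁] [Module A Q₁] [AddCommGroup Q₂]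
    [Module A Q₂] (v : Q₁ →ₗ[A] Q₂) (y : B ⊗[A] (P ⊗[A] Q₁)) :
    (v.baseChange B).lTensor (B ⊗[A] P)
        (TensorProduct.AlgebraTensorModule.distribBaseChange A B P Q₁ y) =
      TensorProduct.AlgebraTensorModule.distribBaseChange A B P Q₂
        ((v.lTensor P).lTensor B y) := by
  induction y using TensorProduct.induction_on with
  | zero => simp
  | tmul b σ =>
    induction σ using TensorProduct.induction_on with
    | zero => simp
    | tmul s q => simp
    | add x y hx hy => simp only [TensorProduct.tmul_add, map_add, hx, hy]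
  | add x y hx hy => simp only [map_add, hx, hy]

/-- **Nilpotent core.** -/
theorem nil_core (J : Ideal A) (hJ : IsNilpotent J)
    (hfree : ∀ k : ℕ, Module.Free (A ⧸ J) ((A ⧸ J) ⊗[A] ↥(J ^ k)))
    {M : Type u} [AddCommGroup M] [Module A M] {ι : Type*} {N : ι → Type u}
    [∀ i, AddCommGroup (N i)] [∀ i, Module A (N i)] [∀ i, Module.Flat A (N i)]
    (u : ∀ i, M →ₗ[A] N i)
    (h0 : ∀ τ : (A ⧸ J) ⊗[A] M, (∀ i, (u i).lTensor (A ⧸ J) τ = 0) → τ = 0)
    (m : M) (hm : ∀ i, u i m = 0) : m = 0 := by
  obtain ⟨n, hn⟩ := hJ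
  have key : ∀ k : ℕ, m ∈ (J ^ k) • (⊤ : Submodule A M) := by
    intro k
    induction k with
    | zero => simp
    | succ k ih =>
      rw [← range_μ] at ih
      obtain ⟨σ, hσ⟩ := ih
      have hσi : ∀ i, (u i).lTensor ↥(J ^ k) σ = 0 := by
        intro i
        apply μ_injective (J ^ k) (N i)
        rw [μ_nat, hσ, hm i, map_zero]
      haveI := hfree k
      have hz : TensorProduct.AlgebraTensorModule.distribBaseChange A (A ⧸ J) ↥(J ^ k) M
          ((1 : A ⧸ J) ⊗ₜ[A] σ) = 0 := by
        apply CoreSepA.jointly_injective_lTensor_of_free (R := A ⧸ J)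
          (P := (A ⧸ J) ⊗[A] ↥(J ^ k)) (fun i => (u i).baseChange (A ⧸ J))
        · intro x hx
          apply h0 x
          intro i
          have := hx i
          rw [← LinearMap.baseChange_eq_ltensor]
          exact this
        · intro i
          rw [distrib_nat, LinearMap.lTensor_tmul, hσi i, tmul_zero, map_zero]
      have h1 : (1 : A ⧸ J) ⊗ₜ[A] σ = 0 :=
        (TensorProduct.AlgebraTensorModule.distribBaseChange A (A ⧸ J) ↥(J ^ k) M).injective
          (hz.trans (map_zero _).symm)
      have h2 : σ ∈ J • (⊤ : Submodule A (↥(J ^ k) ⊗[A] M)) := by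
        have h3 := congrArg (fun φ => φ σ)
          (TensorProduct.quotTensorEquivQuotSMul_comp_mk (M := ↥(J ^ k) ⊗[A] M) J)
        simp only [LinearMap.comp_apply, TensorProduct.mk_apply, LinearEquiv.coe_coe] at h3
        rw [h1, map_zero] at h3
        exact (Submodule.Quotient.mk_eq_zero _).mp h3.symm
      have h4 : m ∈ Submodule.map (μ (J ^ k) M) (J • ⊤) := ⟨σ, h2, hσ⟩
      rw [Submodule.map_smul'', Submodule.map_top, range_μ, ← Submodule.mul_smul,
        ← pow_succ'] at h4
      exact h4
  have := key n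
  rw [hn, Ideal.zero_eq_bot, Submodule.bot_smul] at this
  exact (Submodule.mem_bot A).mp this

end

end Groth.Agent.Lead.NilSepA
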