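import Mathlib
import Groth.Agent.Lead.NilSepA
import Groth.Agent.Lead.FieldSepD

set_option autoImplicit false
universe u
open TensorProduct CategoryTheory

namespace Groth.Agent.Lead.AdicSepA

open NilSepA

section
variable {A : Type u} [CommRing A]

theorem free_of_isMaximal (J : Ideal A) [J.IsMaximal] (P : Type u) [AddCommGroup P]
    [Module (A ⧸ J) P] : Module.Free (A ⧸ J) P := by
  letI := Ideal.Quotient.field J
  exact Module.Free.of_divisionRing (A ⧸ J) P

/-- **Adic core.** -/
theorem adic_core (J : Ideal A) [J.IsMaximal]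
    {M : Type u} [AddCommGroup M] [Module A M] {ι : Type*} {N : ι → Type u}
    [∀ i, AddCommGroup (N i)] [∀ i, Module A (N i)] [∀ i, Module.Flat A (N i)]
    (u : ∀ i, M →ₗ[A] N i)
    (h0 : ∀ τ : (A ⧸ J) ⊗[A] M, (∀ i, (u i).lTensor (A ⧸ J) τ = 0) → τ = 0)
    (m : M) (hm : ∀ i, u i m = 0) (k : ℕ) : m ∈ (J ^ k) • (⊤ : Submodule A M) := by
  induction k with
  | zero => simp
  | succ k ih =>
    rw [← range_μ] at ih
    obtain ⟨σ, hσ⟩ := ih
    have hσi : ∀ i, (u i).lTensor ↥(J ^ k) σ = 0 := by
      intro i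
      apply μ_injective (J ^ k) (N i)
      rw [μ_nat, hσ, hm i, map_zero]
    haveI := free_of_isMaximal J ((A ⧸ J) ⊗[A] ↥(J ^ k))
    have hz : TensorProduct.AlgebraTensorModule.distribBaseChange A (A ⧸ J) ↥(J ^ k) M
        ((1 : A ⧸ J) ⊗ₜ[A] σ) = 0 := by
      apply CoreSepA.jointly_injective_lTensor_of_free (R := A ⧸ J)
        (P := (A ⧸ J) ⊗[A] ↥(J ^ k)) (fun i => (u i).baseChange (A ⧸ J))
      · intro x hx
        apply h0 x
        intro i
        have := hx i
        rw [← LinearMap.baseChange_eq_ltensor]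
        exact this
      · intro i
        rw [distrib_nat, LinearMap.lTensor_tmul, hσi i, tmul_zero, map_zero]
    have h1 : (1 : A ⧸ J) ⊗ₜ[A] σ = 0 :=
      (TensorProduct.AlgebraTensorModule.distribBaseChange A (A ⧸ J) ↥(J ^ k) M).injective
        (hz.trans (map_zero _).symm)
    have h2 : σ ∈ J • (⊤ : Submodule A (↥(J ^ k) ⊗[A] M)) := by
      have h3 := congrArg (fun φ => φ σ)
        (TensorProduct.quotTensorEquivQuotSMul_comp_mk (M := ↥(J ^ k) ⊗[A] M) J)
      simp only [LinearMap.comp_apply, TensorProduct.mk_apply, LinearEquiv.coe_coe] at h3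
      rw [h1, map_zero] at h3
      exact (Submodule.Quotient.mk_eq_zero _).mp h3.symm
    have h4 : m ∈ Submodule.map (μ (J ^ k) M) (J • ⊤) := ⟨σ, h2, hσ⟩
    rw [Submodule.map_smul'', Submodule.map_top, range_μ, ← Submodule.mul_smul,
      ← pow_succ'] at h4
    exact h4

end

open FieldSepD

section trans
variable {C : Type u} [CommRing C] {M : Type u} [AddCommGroup M] [Module C M]
  {J : Type*} {N : J → Type u} [∀ j, AddCommGroup (N j)] [∀ j, Module C (N j)]
  (u : ∀ j, M →ₗ[C] N j)
  (R₁ : Type u) [CommRing R₁] [Algebra C R₁]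

theorem cancel_nat (T : Type u) [CommRing T] [Algebra C T] [Algebra R₁ T] [IsScalarTower C R₁ T]
    {Q₁ Q₂ : Type u} [AddCommGroup Q₁] [Module C Q₁] [AddCommGroup Q₂] [Module C Q₂]
    (v : Q₁ →ₗ[C] Q₂) (x : T ⊗[R₁] (R₁ ⊗[C] Q₁)) :
    TensorProduct.AlgebraTensorModule.cancelBaseChange C R₁ T T Q₂
        ((v.baseChange R₁).lTensor T x) =
      v.lTensor T (TensorProduct.AlgebraTensorModule.cancelBaseChange C R₁ T T Q₁ x) := by
  induction x using TensorProduct.induction_on with
  | zero => simp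
  | tmul t y =>
    induction y using TensorProduct.induction_on with
    | zero => simp
    | tmul r q => simp
    | add x y hx hy => simp only [TensorProduct.tmul_add, map_add, hx, hy]
  | add x y hx hy => simp only [map_add, hx, hy]

theorem HRmod_trans_iff (T : Type u) [CommRing T] [Algebra C T] [Algebra R₁ T]
    [IsScalarTower C R₁ T] :
    HRmod R₁ (fun j => (u j).baseChange R₁) T ↔ HRmod C u T := by
  constructor
  · intro h c τ hτ
    obtain ⟨n, hn⟩ := h c
      ((TensorProduct.AlgebraTensorModule.cancelBaseChange C R₁ T T M).symm τ) (fun j => by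
        obtain ⟨n, hn⟩ := hτ j
        refine ⟨n, ?_⟩
        apply (TensorProduct.AlgebraTensorModule.cancelBaseChange C R₁ T T (N j)).injective
        rw [_root_.map_smul, cancel_nat, LinearEquiv.apply_symm_apply, hn, map_zero])
    refine ⟨n, ?_⟩
    have := congrArg (TensorProduct.AlgebraTensorModule.cancelBaseChange C R₁ T T M) hn
    rwa [_root_.map_smul, LinearEquiv.apply_symm_apply, map_zero] at this
  · intro h c τ hτ
    obtain ⟨n, hn⟩ := h c
      (TensorProduct.AlgebraTensorModule.cancelBaseChange C R₁ T T M τ) (fun j => by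
        obtain ⟨n, hn⟩ := hτ j
        refine ⟨n, ?_⟩
        rw [← cancel_nat, ← _root_.map_smul, hn, map_zero])
    refine ⟨n, ?_⟩
    apply (TensorProduct.AlgebraTensorModule.cancelBaseChange C R₁ T T M).injective
    rw [_root_.map_smul, hn, map_zero]

theorem HBase_of_HRmod_self (h : HRmod C u C) : HBase C u := by
  intro a m hm
  obtain ⟨n, hn⟩ := h a ((1 : C) ⊗ₜ[C] m) (fun j => by
    obtain ⟨n, hn⟩ := hm j
    refine ⟨n, ?_⟩
    rw [LinearMap.lTensor_tmul, TensorProduct.smul_tmul', TensorProduct.smul_tmul, hn,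
      TensorProduct.tmul_zero])
  refine ⟨n, ?_⟩
  rw [TensorProduct.smul_tmul', TensorProduct.smul_tmul] at hn
  have := congrArg (TensorProduct.lid C M) hn
  simpa using this

end trans

section fieldext
variable {C : Type u} [CommRing C] {M : Type u} [AddCommGroup M] [Module C M]
  {J : Type*} {N : J → Type u} [∀ j, AddCommGroup (N j)] [∀ j, Module C (N j)]
  (u : ∀ j, M →ₗ[C] N j)

/-- Field extension, abstract form. -/
theorem HRmod_fieldext {k : Type u} [Field k] (R₁ : Type u) [CommRing R₁] [Algebra C R₁]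
    [Algebra k R₁] [SMulCommClass k C R₁] (L : Type u) [CommRing L] [Algebra k L]
    (h : HRmod C u R₁) : HRmod C u (R₁ ⊗[k] L) := by
  have h1 : HRmod R₁ (fun j => (u j).baseChange R₁) R₁ := (HRmod_trans_iff u R₁ R₁).mpr h
  have h2 : HBase R₁ (fun j => (u j).baseChange R₁) := HBase_of_HRmod_self _ h1
  have h3 : HRmod R₁ (fun j => (u j).baseChange R₁) (R₁ ⊗[k] L) :=
    HRmod_tensor_field (k := k) (A := R₁) (B := L) _ h2
  exact (HRmod_trans_iff u R₁ (R₁ ⊗[k] L)).mp h3

end fieldext

end Groth.Agent.Lead.AdicSepA
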