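import Mathlib
import Groth.Agent.Lead.AdicSepA
import Groth.Agent.Helper5.GenFlat1

set_option autoImplicit false
universe u
open TensorProduct CategoryTheory

namespace Groth.Agent.Lead.AdicSepB

open FieldSepD AdicSepA

section loc
variable {A R : Type u} (R' : Type u) [CommRing A] [CommRing R] [CommRing R'] [Algebra A R]
  [Algebra R R'] [Algebra A R'] [IsScalarTower A R R']
  (Q : Type u) [AddCommGroup Q] [Module A Q]

theorem isLocalizedModule_locMap' (S : Submonoid R) [IsLocalization S R'] :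
    IsLocalizedModule S (locMap (A := A) (R := R) R' Q) := by
  have h1 : IsLocalizedModule S (TensorProduct.mk R R' (R ⊗[A] Q) 1) :=
    IsLocalization.tensorProduct_isLocalizedModule ..
  let e : R' ⊗[R] (R ⊗[A] Q) ≃ₗ[R] R' ⊗[A] Q :=
    (TensorProduct.AlgebraTensorModule.cancelBaseChange A R R' R' Q).restrictScalars R
  have h2 := IsLocalizedModule.of_linearEquiv S
    (TensorProduct.mk R R' (R ⊗[A] Q) 1) e
  convert h2 using 1
  apply TensorProduct.AlgebraTensorModule.ext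
  intro r q
  simp [e, Algebra.smul_def]

end loc

section iso
variable {C B : Type u} [CommRing C] [CommRing B]
  (Rc : Type u) [CommRing Rc] [Algebra C Rc] [Algebra B Rc] [SMulCommClass B C Rc]
  [SMulCommClass C B Rc]
  (K : Type u) [CommRing K] [Algebra B K]

/-- `B`-linear version of `lTensor Rc`. -/
noncomputable def vc {Q₁ Q₂ : Type u} [AddCommGroup Q₁] [Module C Q₁] [AddCommGroup Q₂]
    [Module C Q₂] (v : Q₁ →ₗ[C] Q₂) : Rc ⊗[C] Q₁ →ₗ[B] Rc ⊗[C] Q₂ :=
  (TensorProduct.AlgebraTensorModule.lTensor Rc Rc v).restrictScalars B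

@[simp] theorem vc_apply {Q₁ Q₂ : Type u} [AddCommGroup Q₁] [Module C Q₁] [AddCommGroup Q₂]
    [Module C Q₂] (v : Q₁ →ₗ[C] Q₂) (x : Rc ⊗[C] Q₁) :
    vc (B := B) Rc v x = v.lTensor Rc x := rfl

theorem comm_nat' {Q₁ Q₂ : Type u} [AddCommGroup Q₁]
    [Module B Q₁] [AddCommGroup Q₂] [Module B Q₂] (v : Q₁ →ₗ[B] Q₂) (τ : K ⊗[B] Q₁) :
    v.rTensor K (TensorProduct.comm B K Q₁ τ) = TensorProduct.comm B K Q₂ (v.lTensor K τ) := by
  induction τ using TensorProduct.induction_on with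
  | zero => simp
  | tmul b m => simp
  | add x y hx hy => simp only [map_add, hx, hy]

theorem rightComm_nat {Q₁ Q₂ : Type u} [AddCommGroup Q₁] [Module C Q₁] [AddCommGroup Q₂]
    [Module C Q₂] (v : Q₁ →ₗ[C] Q₂) (y : (Rc ⊗[C] Q₁) ⊗[B] K) :
    TensorProduct.AlgebraTensorModule.rightComm B C Rc Rc Q₂ K ((vc (B := B) Rc v).rTensor K y) =
      v.lTensor (Rc ⊗[B] K) (TensorProduct.AlgebraTensorModule.rightComm B C Rc Rc Q₁ K y) := by
  induction y using TensorProduct.induction_on with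
  | zero => simp
  | tmul x k =>
    induction x using TensorProduct.induction_on with
    | zero => simp
    | tmul r q => simp
    | add x y hx hy => simp only [TensorProduct.add_tmul, map_add, hx, hy]
  | add x y hx hy => simp only [map_add, hx, hy]

/-- Transfer of joint injectivity along the canonical isomorphisms. -/
theorem h0_of_T₂ {M : Type u} [AddCommGroup M] [Module C M]
    {J : Type*} {N : J → Type u} [∀ j, AddCommGroup (N j)] [∀ j, Module C (N j)]
    (u : ∀ j, M →ₗ[C] N j)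
    (Bq : Type u) [CommRing Bq] [Algebra B Bq] [Algebra Bq K] [IsScalarTower B Bq K]
    (hT₂ : ∀ t : (Rc ⊗[B] K) ⊗[C] M, (∀ j, (u j).lTensor (Rc ⊗[B] K) t = 0) → t = 0)
    (τ : K ⊗[Bq] (Bq ⊗[B] (Rc ⊗[C] M)))
    (hτ : ∀ j, ((vc (B := B) Rc (u j)).baseChange Bq).lTensor K τ = 0) : τ = 0 := by
  have key := hT₂ (TensorProduct.AlgebraTensorModule.rightComm B C Rc Rc M K
    (TensorProduct.comm B K (Rc ⊗[C] M)
      (TensorProduct.AlgebraTensorModule.cancelBaseChange B Bq K K (Rc ⊗[C] M) τ))) (fun j => by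
    rw [← rightComm_nat, comm_nat', ← cancel_nat, hτ j, map_zero, map_zero, map_zero])
  have h1 := (TensorProduct.AlgebraTensorModule.rightComm B C Rc Rc M K).injective
    (key.trans (map_zero _).symm)
  have h2 := (TensorProduct.comm B K (Rc ⊗[C] M)).injective (h1.trans (map_zero _).symm)
  exact (TensorProduct.AlgebraTensorModule.cancelBaseChange B Bq K K (Rc ⊗[C] M)).injective
    (h2.trans (map_zero _).symm)

end iso

section main
variable {C : Type u} [CommRing C] {M : Type u} [AddCommGroup M] [Module C M]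
  {J : Type*} {N : J → Type u} [∀ j, AddCommGroup (N j)] [∀ j, Module C (N j)]
  (u : ∀ j, M →ₗ[C] N j)

theorem smulCommClass_of_algebra (B C R : Type u) [CommRing B] [CommRing C] [CommRing R]
    [Algebra B R] [Algebra C R] : SMulCommClass B C R :=
  ⟨fun b x r => by
    rw [Algebra.smul_def, Algebra.smul_def, Algebra.smul_def, Algebra.smul_def, mul_left_comm]⟩

/-- The local part: localized joint injectivity. -/
theorem loc_core [Module.Finite C M]
    (B Rc : Type u) [CommRing B] [CommRing Rc] [Algebra B Rc] [Algebra C Rc]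
    [IsNoetherianRing Rc] [SMulCommClass B C Rc] [SMulCommClass C B Rc]
    (hflat : ∀ j, Module.Flat B (Rc ⊗[C] N j))
    (FH : ∀ (𝔮 : Ideal B) [𝔮.IsPrime],
      ∀ t : (Rc ⊗[B] (Localization.AtPrime 𝔮 ⧸
        IsLocalRing.maximalIdeal (Localization.AtPrime 𝔮))) ⊗[C] M,
        (∀ j, (u j).lTensor _ t = 0) → t = 0)
    (m : Rc ⊗[C] M) (hm : ∀ j, (u j).lTensor Rc m = 0) : m = 0 := by
  by_contra hne
  -- the annihilator
  let Ann : Ideal Rc := LinearMap.ker (LinearMap.toSpanSingleton Rc (Rc ⊗[C] M) m)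
  have hAnn : Ann ≠ ⊤ := by
    intro h
    have h1 : (1 : Rc) ∈ Ann := h ▸ Submodule.mem_top
    have h2 : (1 : Rc) • m = 0 := h1
    rw [one_smul] at h2
    exact hne h2
  obtain ⟨𝔔, h𝔔max, hle⟩ := Ideal.exists_le_maximal Ann hAnn
  haveI : 𝔔.IsPrime := h𝔔max.isPrime
  let 𝔮 : Ideal B := 𝔔.comap (algebraMap B Rc)
  haveI : 𝔮.IsPrime := Ideal.comap_isPrime _ _
  let Bq := Localization.AtPrime 𝔮
  let Jm : Ideal Bq := IsLocalRing.maximalIdeal Bq
  haveI : Jm.IsMaximal := IsLocalRing.maximalIdeal.isMaximal Bq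
  haveI : ∀ j, Module.Flat Bq (Bq ⊗[B] (Rc ⊗[C] N j)) := fun j => inferInstance
  have hadic := adic_core Jm (fun j => (vc (B := B) Rc (u j)).baseChange Bq)
    (fun τ hτ => h0_of_T₂ Rc (Bq ⧸ Jm) u Bq (FH 𝔮) τ hτ) ((1 : Bq) ⊗ₜ[B] m)
    (fun j => by rw [LinearMap.baseChange_tmul, vc_apply, hm j, tmul_zero])
  -- the local ring at `𝔔`
  let T𝔔 := Localization.AtPrime 𝔔
  letI : Algebra Bq T𝔔 := (Localization.localRingHom 𝔮 𝔔 (algebraMap B Rc) rfl).toAlgebra
  haveI : IsScalarTower B Bq T𝔔 := IsScalarTower.of_algebraMap_eq (fun b => by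
    rw [RingHom.algebraMap_toAlgebra, Localization.localRingHom_to_map,
      ← IsScalarTower.algebraMap_apply])
  haveI : SMulCommClass C Bq T𝔔 := smulCommClass_of_algebra C Bq T𝔔
  haveI : SMulCommClass C B T𝔔 := smulCommClass_of_algebra C B T𝔔
  let ψ₀ : Rc ⊗[C] M →ₗ[Rc] T𝔔 ⊗[C] M := locMap (A := C) (R := Rc) T𝔔 M
  let ψ : Bq ⊗[B] (Rc ⊗[C] M) →ₗ[Bq] T𝔔 ⊗[C] M :=
    LinearMap.liftBaseChange Bq (ψ₀.restrictScalars B)
  have hψ : ψ ((1 : Bq) ⊗ₜ[B] m) = ψ₀ m := by
    simp [ψ, LinearMap.liftBaseChange_tmul]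
  have hJle : Jm.map (algebraMap Bq T𝔔) ≤ IsLocalRing.maximalIdeal T𝔔 :=
    ((IsLocalRing.local_hom_TFAE (algebraMap Bq T𝔔)).out 0 2).mp
      (Localization.isLocalHom_localRingHom 𝔮 𝔔 (algebraMap B Rc) rfl)
  have h3 : ∀ k, ψ₀ m ∈ (IsLocalRing.maximalIdeal T𝔔) ^ k • (⊤ : Submodule T𝔔 (T𝔔 ⊗[C] M)) := by
    intro k
    have h4 : ψ ((1 : Bq) ⊗ₜ[B] m) ∈ Submodule.map ψ (Jm ^ k • ⊤) :=
      Submodule.mem_map_of_mem (hadic k)
    rw [Submodule.map_smul'', hψ] at h4
    refine Submodule.smul_induction_on h4 ?_ ?_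
    · intro a ha x _
      rw [← algebraMap_smul T𝔔 a x]
      apply Submodule.smul_mem_smul _ Submodule.mem_top
      have : algebraMap Bq T𝔔 a ∈ (Jm.map (algebraMap Bq T𝔔)) ^ k := by
        rw [← Ideal.map_pow]
        exact Ideal.mem_map_of_mem _ ha
      exact Ideal.pow_right_mono hJle k this
    · intro x y hx hy
      exact add_mem hx hy
  haveI : IsNoetherianRing T𝔔 := IsLocalization.isNoetherianRing 𝔔.primeCompl T𝔔 inferInstance
  have hK := Ideal.iInf_pow_smul_eq_bot_of_isLocalRing (M := T𝔔 ⊗[C] M)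
    (IsLocalRing.maximalIdeal T𝔔) Ideal.IsPrime.ne_top'
  have h5 : ψ₀ m ∈ (⨅ i, (IsLocalRing.maximalIdeal T𝔔) ^ i • ⊤ : Submodule T𝔔 (T𝔔 ⊗[C] M)) :=
    (Submodule.mem_iInf _).mpr h3
  rw [hK] at h5
  have h6 : ψ₀ m = 0 := (Submodule.mem_bot _).mp h5
  haveI := isLocalizedModule_locMap' (A := C) (R := Rc) T𝔔 M 𝔔.primeCompl
  obtain ⟨s, hs⟩ := (IsLocalizedModule.eq_zero_iff 𝔔.primeCompl ψ₀).mp h6
  have hsA : (s : Rc) ∈ Ann := hs
  exact s.2 (hle hsA)

/-- Joint injectivity over the localized fibre ring. -/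
theorem jointInj_T₂ (B R : Type u) [CommRing B] [CommRing R] [Algebra B R] [Algebra C R]
    [SMulCommClass B C R] (c : R) (Rc : Type u) [CommRing Rc] [Algebra R Rc] [Algebra B Rc]
    [Algebra C Rc] [IsScalarTower B R Rc] [IsScalarTower C R Rc] [IsLocalization.Away c Rc]
    [SMulCommClass B C Rc] (K : Type u) [CommRing K] [Algebra B K]
    (h : HRmod C u (R ⊗[B] K)) (t : (Rc ⊗[B] K) ⊗[C] M)
    (ht : ∀ j, (u j).lTensor (Rc ⊗[B] K) t = 0) : t = 0 := by
  letI : Algebra (R ⊗[B] K) (Rc ⊗[B] K) :=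
    (Algebra.TensorProduct.map (IsScalarTower.toAlgHom B R Rc) (AlgHom.id B K)).toAlgebra
  haveI : IsScalarTower C (R ⊗[B] K) (Rc ⊗[B] K) := by
    refine IsScalarTower.of_algebraMap_eq (fun x => ?_)
    rw [RingHom.algebraMap_toAlgebra]
    simp [Algebra.TensorProduct.algebraMap_apply, ← IsScalarTower.algebraMap_apply]
  haveI : IsScalarTower R (R ⊗[B] K) (Rc ⊗[B] K) := by
    refine IsScalarTower.of_algebraMap_eq (fun x => ?_)
    rw [RingHom.algebraMap_toAlgebra]
    simp [Algebra.TensorProduct.algebraMap_apply]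
  haveI : IsLocalization.Away (c ⊗ₜ[B] (1 : K)) (Rc ⊗[B] K) := by
    have h1 := IsLocalization.tensorProduct_tensorProduct B K (Submonoid.powers c) Rc (by
      ext x
      simp [RingHom.algebraMap_toAlgebra])
    rw [Algebra.algebraMapSubmonoid_powers] at h1
    simpa [IsLocalization.Away, Algebra.TensorProduct.algebraMap_apply] using h1
  exact core_loc u (c ⊗ₜ 1) h t ht

/-- **Relative local criterion.** -/
theorem loc_rel [Module.Finite C M]
    (B R : Type u) [CommRing B] [CommRing R] [Algebra B R] [Algebra C R] [IsNoetherianRing R]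
    [SMulCommClass B C R] [SMulCommClass C B R]
    (hflat : ∀ j, Module.Flat B (R ⊗[C] N j))
    (FH : ∀ (𝔮 : Ideal B) [𝔮.IsPrime],
      HRmod C u (R ⊗[B] (Localization.AtPrime 𝔮 ⧸
        IsLocalRing.maximalIdeal (Localization.AtPrime 𝔮)))) :
    HRmod C u R := by
  intro c τ hτ
  let Rc := Localization.Away c
  haveI : SMulCommClass B C Rc := smulCommClass_of_algebra B C Rc
  haveI : SMulCommClass C B Rc := smulCommClass_of_algebra C B Rc
  haveI : IsNoetherianRing Rc :=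
    IsLocalization.isNoetherianRing (Submonoid.powers c) Rc inferInstance
  haveI := fun Q [AddCommGroup Q] [Module C Q] =>
    isLocalizedModule_locMap (A := C) (R := R) Rc Q c
  have key : locMap (A := C) (R := R) Rc M τ = 0 := by
    apply loc_core u B Rc
    · intro j
      exact Groth.Agent.Helper5.GenFlat.flat_of_isLocalizedModule (R := B) (A := R)
        (Submonoid.powers c) (locMap (A := C) (R := R) Rc (N j)) (hflat j)
    · intro 𝔮 _ t ht
      exact jointInj_T₂ u B R c Rc _ (FH 𝔮) t ht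
    · intro j
      rw [lTensor_locMap]
      obtain ⟨n, hn⟩ := hτ j
      exact (IsLocalizedModule.eq_zero_iff (Submonoid.powers c) _).mpr ⟨⟨_, n, rfl⟩, hn⟩
  obtain ⟨⟨_, n, rfl⟩, hn⟩ := (IsLocalizedModule.eq_zero_iff (Submonoid.powers c) _).mp key
  exact ⟨n, hn⟩

end main

end Groth.Agent.Lead.AdicSepB
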