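import Mathlib
import Groth.Agent.Lead.FieldSepD

set_option autoImplicit false
universe u
open TensorProduct CategoryTheory

namespace Groth.Agent.Lead.SubalgSepA

open FieldSepD

variable {A C A' : Type u} [CommRing A] [CommRing C] [CommRing A'] [Algebra A C] [Algebra A A']

/-- The base change of the inclusion of a subalgebra. -/
noncomputable abbrev ρ (B₁ : Subalgebra A A') : C ⊗[A] B₁ →ₐ[C] C ⊗[A] A' :=
  Algebra.TensorProduct.map (AlgHom.id C C) B₁.val

theorem ρ_comp_incl {B₁ B₂ : Subalgebra A A'} (h : B₁ ≤ B₂) (y : C ⊗[A] B₁) :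
    ρ (C := C) B₂ (Algebra.TensorProduct.map (AlgHom.id C C) (Subalgebra.inclusion h) y) =
      ρ (C := C) B₁ y := by
  induction y using TensorProduct.induction_on with
  | zero => simp
  | tmul a b => simp
  | add x y hx hy => simp only [map_add, hx, hy]

theorem range_ρ_mono {B₁ B₂ : Subalgebra A A'} (h : B₁ ≤ B₂) :
    (ρ (C := C) B₁).range ≤ (ρ (C := C) B₂).range := by
  rintro _ ⟨y, rfl⟩
  exact ⟨_, ρ_comp_incl h y⟩

theorem exists_fg_mem_range (x : C ⊗[A] A') :
    ∃ B₁ : Subalgebra A A', B₁.FG ∧ x ∈ (ρ (C := C) B₁).range := by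
  induction x using TensorProduct.induction_on with
  | zero => exact ⟨⊥, Subalgebra.fg_bot, zero_mem _⟩
  | tmul a b =>
    refine ⟨Algebra.adjoin A {b}, Subalgebra.fg_adjoin_finset {b} |> fun h => by simpa using h,
      ⟨a ⊗ₜ ⟨b, Algebra.subset_adjoin (Set.mem_singleton b)⟩, by simp⟩⟩
  | add x y hx hy =>
    obtain ⟨B₁, h₁, hx⟩ := hx
    obtain ⟨B₂, h₂, hy⟩ := hy
    exact ⟨B₁ ⊔ B₂, h₁.sup h₂, add_mem (range_ρ_mono le_sup_left hx)
      (range_ρ_mono le_sup_right hy)⟩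

theorem range_rTensor_mono {B₁ B₂ : Subalgebra A A'} (h : B₁ ≤ B₂) (Q : Type u) [AddCommGroup Q]
    [Module C Q] :
    LinearMap.range ((ρ (C := C) B₁).toLinearMap.rTensor Q) ≤
      LinearMap.range ((ρ (C := C) B₂).toLinearMap.rTensor Q) := by
  rintro _ ⟨y, rfl⟩
  refine ⟨(Algebra.TensorProduct.map (AlgHom.id C C)
    (Subalgebra.inclusion h)).toLinearMap.rTensor Q y, ?_⟩
  induction y using TensorProduct.induction_on with
  | zero => simp
  | tmul x q =>
    simp only [LinearMap.rTensor_tmul, AlgHom.toLinearMap_apply]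
    rw [ρ_comp_incl]
  | add x y hx hy => simp only [map_add, hx, hy]

theorem exists_fg_mem_range_mod (Q : Type u) [AddCommGroup Q] [Module C Q]
    (x : (C ⊗[A] A') ⊗[C] Q) :
    ∃ B₁ : Subalgebra A A', B₁.FG ∧
      x ∈ LinearMap.range ((ρ (C := C) B₁).toLinearMap.rTensor Q) := by
  induction x using TensorProduct.induction_on with
  | zero => exact ⟨⊥, Subalgebra.fg_bot, zero_mem _⟩
  | tmul r q =>
    obtain ⟨B₁, h₁, r₁, rfl⟩ := exists_fg_mem_range (C := C) r
    exact ⟨B₁, h₁, r₁ ⊗ₜ q, rfl⟩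
  | add x y hx hy =>
    obtain ⟨B₁, h₁, hx⟩ := hx
    obtain ⟨B₂, h₂, hy⟩ := hy
    exact ⟨B₁ ⊔ B₂, h₁.sup h₂, add_mem (range_rTensor_mono le_sup_left Q hx)
      (range_rTensor_mono le_sup_right Q hy)⟩

theorem rTensor_ρ_smul (B₁ : Subalgebra A A') (Q : Type u) [AddCommGroup Q] [Module C Q]
    (r : C ⊗[A] B₁) (x : (C ⊗[A] B₁) ⊗[C] Q) :
    (ρ (C := C) B₁).toLinearMap.rTensor Q (r • x) =
      ρ (C := C) B₁ r • (ρ (C := C) B₁).toLinearMap.rTensor Q x := by
  induction x using TensorProduct.induction_on with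
  | zero => simp
  | tmul r' q =>
    rw [TensorProduct.smul_tmul', LinearMap.rTensor_tmul, LinearMap.rTensor_tmul,
      TensorProduct.smul_tmul', smul_eq_mul, smul_eq_mul, AlgHom.toLinearMap_apply,
      AlgHom.toLinearMap_apply, map_mul]
  | add x y hx hy => simp only [map_add, smul_add, hx, hy]

/-- `(C ⊗[A] B) ⊗[C] Q ≃ Q ⊗[A] B`. -/
noncomputable def eB (B : Type u) [CommRing B] [Algebra A B] (Q : Type u) [AddCommGroup Q]
    [Module C Q] [Module A Q] [IsScalarTower A C Q] : (C ⊗[A] B) ⊗[C] Q ≃ₗ[C] Q ⊗[A] B :=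
  (TensorProduct.comm C _ _) ≪≫ₗ (TensorProduct.AlgebraTensorModule.cancelBaseChange A C C Q B)

theorem rTensor_ρ_injective (B₁ : Subalgebra A A') (Q : Type u) [AddCommGroup Q] [Module C Q]
    [Module A Q] [IsScalarTower A C Q] [Module.Flat A Q] :
    Function.Injective ((ρ (C := C) B₁).toLinearMap.rTensor Q) := by
  have hcomm : ∀ x : (C ⊗[A] B₁) ⊗[C] Q,
      eB (A := A) (C := C) A' Q ((ρ (C := C) B₁).toLinearMap.rTensor Q x) =
        (B₁.val.toLinearMap.lTensor Q) (eB (A := A) (C := C) B₁ Q x) := by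
    intro x
    induction x using TensorProduct.induction_on with
    | zero => simp
    | tmul r q =>
      induction r using TensorProduct.induction_on with
      | zero => simp
      | tmul c b => simp [eB]
      | add x y hx hy =>
        simp only [TensorProduct.add_tmul, map_add, hx, hy]
    | add x y hx hy => simp only [map_add, hx, hy]
  have hinj : Function.Injective (B₁.val.toLinearMap.lTensor Q) :=
    Module.Flat.lTensor_preserves_injective_linearMap (M := Q) B₁.val.toLinearMap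
      Subtype.val_injective
  intro x y hxy
  apply (eB (A := A) (C := C) B₁ Q).injective
  apply hinj
  rw [← hcomm, ← hcomm, hxy]

variable {M : Type u} [AddCommGroup M] [Module C M]
  {J : Type*} {N : J → Type u} [∀ j, AddCommGroup (N j)] [∀ j, Module C (N j)]
  [∀ j, Module A (N j)] [∀ j, IsScalarTower A C (N j)] [∀ j, Module.Flat A (N j)]
  (u : ∀ j, M →ₗ[C] N j)

theorem HRmod_of_subalgebras
    (hsub : ∀ B₁ : Subalgebra A A', B₁.FG → HRmod C u (C ⊗[A] B₁)) :
    HRmod C u (C ⊗[A] A') := by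
  intro c τ hτ
  obtain ⟨B₁, h₁, hc⟩ := exists_fg_mem_range (C := C) c
  obtain ⟨B₂, h₂, hτ'⟩ := exists_fg_mem_range_mod (C := C) M τ
  obtain ⟨c₁, rfl⟩ := range_ρ_mono (le_sup_left : B₁ ≤ B₁ ⊔ B₂) hc
  obtain ⟨τ₁, rfl⟩ := range_rTensor_mono (le_sup_right : B₂ ≤ B₁ ⊔ B₂) M hτ'
  obtain ⟨n, hn⟩ := hsub (B₁ ⊔ B₂) (h₁.sup h₂) c₁ τ₁ (fun j => by
    obtain ⟨n, hn⟩ := hτ j
    refine ⟨n, ?_⟩
    apply rTensor_ρ_injective (C := C) (B₁ ⊔ B₂) (N j)
    rw [rTensor_ρ_smul, map_zero, map_pow, ← LinearMap.comp_apply,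
      LinearMap.rTensor_comp_lTensor, ← LinearMap.lTensor_comp_rTensor, LinearMap.comp_apply]
    exact hn)
  refine ⟨n, ?_⟩
  have := congrArg ((ρ (C := C) (B₁ ⊔ B₂)).toLinearMap.rTensor M) hn
  rwa [rTensor_ρ_smul, map_pow, map_zero] at this

end Groth.Agent.Lead.SubalgSepA
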