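import Mathlib
import Groth.Agent.Lead.AdicSepB
import Groth.Agent.Lead.SubalgSepA

set_option autoImplicit false
universe u
open TensorProduct CategoryTheory

namespace Groth.Agent.Lead.AdicSepC

open FieldSepD AdicSepA AdicSepB

attribute [local instance] Algebra.TensorProduct.rightAlgebra

section
variable {A C : Type u} [CommRing A] [CommRing C] [Algebra A C]
  {M : Type u} [AddCommGroup M] [Module C M]
  {J : Type*} {N : J → Type u} [∀ j, AddCommGroup (N j)] [∀ j, Module C (N j)]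
  [∀ j, Module A (N j)] [∀ j, IsScalarTower A C (N j)] [∀ j, Module.Flat A (N j)]
  (u : ∀ j, M →ₗ[C] N j)

example (B : Type u) [CommRing B] [Algebra A B] : SMulCommClass C B (C ⊗[A] B) := inferInstance

theorem flat_bc (B : Type u) [CommRing B] [Algebra A B] (Q : Type u) [AddCommGroup Q]
    [Module C Q] [Module A Q] [IsScalarTower A C Q] [Module.Flat A Q]
    [SMulCommClass C B (C ⊗[A] B)] :
    Module.Flat B ((C ⊗[A] B) ⊗[C] Q) :=
  Module.Flat.of_linearEquiv (Algebra.IsPushout.cancelBaseChange A B C (C ⊗[A] B) Q)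

/-- **Algebraic fibrewise criterion.** -/
theorem alg_main [IsNoetherianRing C] [Module.Finite C M]
    (FH : ∀ (K : Type u) [Field K] [Algebra A K], HRmod C u (C ⊗[A] K))
    (A' : Type u) [CommRing A'] [Algebra A A'] : HRmod C u (C ⊗[A] A') := by
  apply SubalgSepA.HRmod_of_subalgebras (A := A) (C := C) (A' := A') u
  intro B₁ hB₁
  haveI : Algebra.FiniteType A ↥B₁ := (Subalgebra.fg_iff_finiteType B₁).mp hB₁
  haveI : Algebra.FiniteType C (C ⊗[A] ↥B₁) := inferInstance
  haveI : IsNoetherianRing (C ⊗[A] ↥B₁) := Algebra.FiniteType.isNoetherianRing C _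
  haveI : SMulCommClass ↥B₁ C (C ⊗[A] ↥B₁) := smulCommClass_of_algebra _ _ _
  apply loc_rel u ↥B₁ (C ⊗[A] ↥B₁)
  · intro j
    exact flat_bc (A := A) (C := C) ↥B₁ (N j)
  · intro 𝔮 _
    letI : Field (Localization.AtPrime 𝔮 ⧸ IsLocalRing.maximalIdeal (Localization.AtPrime 𝔮)) :=
      Ideal.Quotient.field _
    have h1 := FH (Localization.AtPrime 𝔮 ⧸ IsLocalRing.maximalIdeal (Localization.AtPrime 𝔮))
    exact HRmod_of_equiv u (Algebra.IsPushout.cancelBaseChangeAlg A C ↥B₁ (C ⊗[A] ↥B₁)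
      (Localization.AtPrime 𝔮 ⧸ IsLocalRing.maximalIdeal (Localization.AtPrime 𝔮))).symm h1

omit [∀ j, Module A (N j)] [∀ j, IsScalarTower A C (N j)] [∀ j, Module.Flat A (N j)] in
/-- Field extension, concrete form. -/
theorem HRmod_fieldext' (k K : Type u) [Field k] [Field K] [Algebra A k] [Algebra A K]
    [Algebra k K] [IsScalarTower A k K] (h : HRmod C u (C ⊗[A] k)) : HRmod C u (C ⊗[A] K) := by
  have h1 := HRmod_fieldext u (k := k) (C ⊗[A] k) K h
  exact HRmod_of_equiv u (Algebra.IsPushout.cancelBaseChangeAlg A C k (C ⊗[A] k) K) h1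

end

end Groth.Agent.Lead.AdicSepC
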