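import Groth.Agent.Lead.DerA
import Groth.Agent.Helper1.BasisHom
import Mathlib

set_option autoImplicit false
open CategoryTheory CategoryTheory.Limits AlgebraicGeometry Opposite TopologicalSpace TensorProduct
universe u

namespace Groth.Agent.Lead.DerPbA

open OmegaSh Groth.Agent.Lead

/-- elements of a pushout of commutative rings are sums of products -/
theorem pushout_induction {A B C Q : CommRingCat.{u}} {φB : A ⟶ B} {φC : A ⟶ C} {inl : B ⟶ Q}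
    {inr : C ⟶ Q} (h : IsPushout φB φC inl inr) (motive : Q → Prop) (zero : motive 0)
    (add : ∀ x y, motive x → motive y → motive (x + y))
    (mul : ∀ b c, motive (inl b * inr c)) : ∀ q, motive q := by
  letI := φB.hom.toAlgebra
  letI := φC.hom.toAlgebra
  have h' := CommRingCat.isPushout_tensorProduct A B C
  let e := h'.isoIsPushout _ _ h
  have h1 : ∀ b : B, e.hom.hom (b ⊗ₜ 1) = inl b := fun b =>
    congr($(h'.inl_isoIsPushout_hom _ _ h).hom b)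
  have h2 : ∀ c : C, e.hom.hom (1 ⊗ₜ c) = inr c := fun c =>
    congr($(h'.inr_isoIsPushout_hom _ _ h).hom c)
  intro q
  have hq : q = e.hom.hom (e.inv.hom q) := by
    have := congr($(e.inv_hom_id).hom q)
    exact this.symm
  rw [hq]
  generalize e.inv.hom q = x
  induction x using TensorProduct.induction_on with
  | zero => rw [map_zero]; exact zero
  | tmul b c =>
    have : (b ⊗ₜ[A] c : B ⊗[A] C) = (b ⊗ₜ 1) * (1 ⊗ₜ c) := by
      rw [Algebra.TensorProduct.tmul_mul_tmul, mul_one, one_mul]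
    rw [this, map_mul, h1, h2]
    exact mul b c
  | add x y hx hy => rw [map_add]; exact add _ _ hx hy

/-- a section vanishing locally vanishes -/
theorem section_eq_zero_of_locally {Z : Scheme.{u}} (G : Z.Modules) (U : Z.Opens) (s : Γ(G, U))
    (h : ∀ x ∈ U, ∃ (V : Z.Opens) (hV : V ≤ U), x ∈ V ∧ G.presheaf.map (homOfLE hV).op s = 0) :
    s = 0 := by
  choose V hV hxV hs using h
  refine Helper1.BasisHom.section_ext_of_cover G U (κ := U) (fun x => V x.1 x.2)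
    (fun x => hV x.1 x.2) ?_ s 0 ?_
  · intro x hx
    exact Opens.mem_iSup.mpr ⟨⟨x, hx⟩, hxV x hx⟩
  · intro x
    rw [hs x.1 x.2, map_zero]


theorem d_mul_eq_zero' {Z B : Scheme.{u}} {q : Z ⟶ B} {Ω : Z.Modules} (d : Der q Ω) (U : Z.Opens)
    (a b : Γ(Z, U)) (ha : d.d (X := op U) a = 0) (hb : d.d (X := op U) b = 0) :
    d.d (X := op U) (a * b) = 0 := by
  rw [d.d_mul, ha, hb, smul_zero, smul_zero, add_zero]

theorem d_eq_zero_of_mul_unit {Z B : Scheme.{u}} {q : Z ⟶ B} {Ω : Z.Modules} (d : Der q Ω)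
    (U : Z.Opens) (u η : Γ(Z, U)) (hη : IsUnit η) (h1 : d.d (X := op U) η = 0)
    (h2 : d.d (X := op U) (u * η) = 0) : d.d (X := op U) u = 0 := by
  rw [d.d_mul, h1, smul_zero, zero_add] at h2
  obtain ⟨v, hv⟩ := hη.exists_left_inv
  have h3 := congrArg (fun m => v • m) h2
  simp only [smul_zero] at h3
  rw [← mul_smul, hv, one_smul] at h3
  exact h3

theorem d_pow_succ {Z B : Scheme.{u}} {q : Z ⟶ B} {Ω : Z.Modules} (d : Der q Ω) (U : Z.Opens)
    (a : Γ(Z, U)) (n : ℕ) :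
    d.d (X := op U) (a ^ (n + 1)) = (((n + 1 : ℕ) : Γ(Z, U)) * a ^ n) • d.d (X := op U) a := by
  induction n with
  | zero => simp
  | succ n ih =>
    rw [pow_succ' a (n + 1), d.d_mul, ih, ← mul_smul, ← add_smul]
    congr 1
    push_cast
    ring

section Main

variable {P X T S Z B : Scheme.{u}} {g : P ⟶ X} {iY : P ⟶ T} {iX : X ⟶ S} {f0 : T ⟶ S}
  (H : IsPullback g iY iX f0) (F : Z ⟶ P) {q : Z ⟶ B} {Ω : Z.Modules} (d : Der q Ω)

theorem der_appLE_eq_zero {X' : Scheme.{u}} (F' : Z ⟶ X') (U : X'.Opens) (b : Γ(X', U))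
    (hb : d.app (F' ⁻¹ᵁ U) (F'.app U b) = 0) (V : Z.Opens) (e : V ≤ F' ⁻¹ᵁ U) :
    d.app V (F'.appLE U V e b) = 0 := by
  rw [Scheme.Hom.appLE, CommRingCat.comp_apply]
  exact (DerA.der_map d (homOfLE e) _).trans ((congrArg _ hb).trans (map_zero _))

include H in
theorem der_app_affine
    (h1 : ∀ (U : X.Opens) (b : Γ(X, U)), d.app ((F ≫ g) ⁻¹ᵁ U) ((F ≫ g).app U b) = 0)
    (h2 : ∀ (V : T.Opens) (c : Γ(T, V)), d.app ((F ≫ iY) ⁻¹ᵁ V) ((F ≫ iY).app V c) = 0)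
    {US : S.Opens} {UT : T.Opens} {UX : X.Opens} (hUST : UT ≤ f0 ⁻¹ᵁ US) (hUSX : UX ≤ iX ⁻¹ᵁ US)
    {UY : P.Opens} (hUY : UY = g ⁻¹ᵁ UX ⊓ iY ⁻¹ᵁ UT)
    (hUS : IsAffineOpen US) (hUT : IsAffineOpen UT) (hUX : IsAffineOpen UX) (t : Γ(P, UY)) :
    d.app (F ⁻¹ᵁ UY) (F.app UY t) = 0 := by
  have hpo := (isIso_pushoutSection_iff H hUST hUSX hUY).mp
    (isIso_pushoutSection_of_isAffineOpen H hUST hUSX hUY hUS hUT hUX)
  refine pushout_induction hpo (fun t => d.app (F ⁻¹ᵁ UY) (F.app UY t) = 0) ?_ ?_ ?_ t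
  · show d.app (F ⁻¹ᵁ UY) (F.app UY 0) = 0
    rw [map_zero, map_zero]
  · intro x y hx hy
    show d.app (F ⁻¹ᵁ UY) (F.app UY (x + y)) = 0
    rw [map_add, map_add, hx, hy, add_zero]
  · intro b c
    show d.app (F ⁻¹ᵁ UY) (F.app UY (_ * _)) = 0
    rw [map_mul]
    have e1 : F.app UY (g.appLE UX UY (by simp [hUY]) b) =
        (F ≫ g).appLE UX (F ⁻¹ᵁ UY) (by
          rw [hUY]; intro z hz; exact hz.1) b := by
      rw [Scheme.Hom.app_eq_appLE, ← CommRingCat.comp_apply, Scheme.Hom.appLE_comp_appLE]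
    have e2 : F.app UY (iY.appLE UT UY (by simp [hUY]) c) =
        (F ≫ iY).appLE UT (F ⁻¹ᵁ UY) (by
          rw [hUY]; intro z hz; exact hz.2) c := by
      rw [Scheme.Hom.app_eq_appLE, ← CommRingCat.comp_apply, Scheme.Hom.appLE_comp_appLE]
    have z1 := der_appLE_eq_zero d (F ≫ g) UX b (h1 UX b) (F ⁻¹ᵁ UY) (by
          rw [hUY]; intro z hz; exact hz.1)
    have z2 := der_appLE_eq_zero d (F ≫ iY) UT c (h2 UT c) (F ⁻¹ᵁ UY) (by
          rw [hUY]; intro z hz; exact hz.2)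
    rw [← e1] at z1
    rw [← e2] at z2
    exact d_mul_eq_zero' d _ _ _ z1 z2


include H in
theorem isAffineOpen_inf {US : S.Opens} {UT : T.Opens} {UX : X.Opens} (hUST : UT ≤ f0 ⁻¹ᵁ US)
    (hUSX : UX ≤ iX ⁻¹ᵁ US) {UY : P.Opens} (hUY : UY = g ⁻¹ᵁ UX ⊓ iY ⁻¹ᵁ UT)
    (hUS : IsAffineOpen US) (hUT : IsAffineOpen UT) (hUX : IsAffineOpen UX) : IsAffineOpen UY := by
  haveI : IsAffine (US : Scheme.{u}) := hUS
  haveI : IsAffine (UT : Scheme.{u}) := hUT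
  haveI : IsAffine (UX : Scheme.{u}) := hUX
  exact .of_isIso (Scheme.Hom.isPullback_resLE H hUST hUSX hUY).isoPullback.hom

include H in
theorem der_app_basicOpen
    (h1 : ∀ (U : X.Opens) (b : Γ(X, U)), d.app ((F ≫ g) ⁻¹ᵁ U) ((F ≫ g).app U b) = 0)
    (h2 : ∀ (V : T.Opens) (c : Γ(T, V)), d.app ((F ≫ iY) ⁻¹ᵁ V) ((F ≫ iY).app V c) = 0)
    {US : S.Opens} {UT : T.Opens} {UX : X.Opens} (hUST : UT ≤ f0 ⁻¹ᵁ US) (hUSX : UX ≤ iX ⁻¹ᵁ US)
    {UY : P.Opens} (hUY : UY = g ⁻¹ᵁ UX ⊓ iY ⁻¹ᵁ UT)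
    (hUS : IsAffineOpen US) (hUT : IsAffineOpen UT) (hUX : IsAffineOpen UX) (h : Γ(P, UY))
    (a' : Γ(P, P.basicOpen h)) :
    d.app (F ⁻¹ᵁ P.basicOpen h) (F.app (P.basicOpen h) a') = 0 := by
  have hUY' : IsAffineOpen UY := isAffineOpen_inf H hUST hUSX hUY hUS hUT hUX
  haveI := hUY'.isLocalization_basicOpen h
  obtain ⟨n, t, hnt⟩ := IsLocalization.Away.surj h a'
  have hρ : ∀ s : Γ(P, UY), d.app (F ⁻¹ᵁ P.basicOpen h)
      (F.app (P.basicOpen h) (P.presheaf.map (homOfLE (P.basicOpen_le h)).op s)) = 0 := by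
    intro s
    have nat : F.app (P.basicOpen h) (P.presheaf.map (homOfLE (P.basicOpen_le h)).op s) =
        Z.presheaf.map ((Opens.map F.base).map (homOfLE (P.basicOpen_le h))).op (F.app UY s) :=
      congr($(F.naturality (homOfLE (P.basicOpen_le h)).op) s)
    rw [nat]
    exact (DerA.der_map d _ _).trans ((congrArg _
      (der_app_affine H F d h1 h2 hUST hUSX hUY hUS hUT hUX s)).trans (map_zero _))
  refine d_eq_zero_of_mul_unit d _ (F.app _ a')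
    (F.app _ (P.presheaf.map (homOfLE (P.basicOpen_le h)).op (h ^ n))) ?_ (hρ _) ?_
  · rw [map_pow]
    exact ((IsLocalization.Away.algebraMap_isUnit (S := Γ(P, P.basicOpen h)) h).pow n).map
      (F.app (P.basicOpen h)).hom
  · rw [← map_mul]
    have : a' * P.presheaf.map (homOfLE (P.basicOpen_le h)).op (h ^ n) =
        P.presheaf.map (homOfLE (P.basicOpen_le h)).op t := by
      rw [map_pow]; exact hnt
    rw [this]
    exact hρ t

include H in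
/-- a derivation on `Z` that kills the functions pulled back from both factors of a fibre product
`P = X ×_S T` along `F ≫ pr₁`, `F ≫ pr₂` kills all functions pulled back along `F : Z ⟶ P` -/
theorem der_app_eq_zero
    (h1 : ∀ (U : X.Opens) (b : Γ(X, U)), d.app ((F ≫ g) ⁻¹ᵁ U) ((F ≫ g).app U b) = 0)
    (h2 : ∀ (V : T.Opens) (c : Γ(T, V)), d.app ((F ≫ iY) ⁻¹ᵁ V) ((F ≫ iY).app V c) = 0)
    (W : P.Opens) (a : Γ(P, W)) : d.app (F ⁻¹ᵁ W) (F.app W a) = 0 := by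
  apply section_eq_zero_of_locally Ω (F ⁻¹ᵁ W)
  intro x hx
  obtain ⟨_, ⟨US, hUS : IsAffineOpen US, rfl⟩, hsUS, -⟩ :=
    S.isBasis_affineOpens.exists_subset_of_mem_open (Set.mem_univ (f0 (iY (F x)))) isOpen_univ
  obtain ⟨_, ⟨UT, hUT : IsAffineOpen UT, rfl⟩, htUT, hUT'⟩ :=
    T.isBasis_affineOpens.exists_subset_of_mem_open
      (show iY (F x) ∈ ((f0 ⁻¹ᵁ US : T.Opens) : Set T) from hsUS) (f0 ⁻¹ᵁ US).isOpen
  have hw : iX (g (F x)) = f0 (iY (F x)) := by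
    have := congr($(H.w) (F x))
    exact this
  obtain ⟨_, ⟨UX, hUX : IsAffineOpen UX, rfl⟩, hxUX, hUX'⟩ :=
    X.isBasis_affineOpens.exists_subset_of_mem_open
      (show g (F x) ∈ ((iX ⁻¹ᵁ US : X.Opens) : Set X) from (by
        change iX (g (F x)) ∈ US; rw [hw]; exact hsUS)) (iX ⁻¹ᵁ US).isOpen
  have hUST : UT ≤ f0 ⁻¹ᵁ US := hUT'
  have hUSX : UX ≤ iX ⁻¹ᵁ US := hUX'
  have hzUY : F x ∈ g ⁻¹ᵁ UX ⊓ iY ⁻¹ᵁ UT := ⟨hxUX, htUT⟩
  have hUYaff : IsAffineOpen (g ⁻¹ᵁ UX ⊓ iY ⁻¹ᵁ UT) :=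
    isAffineOpen_inf H hUST hUSX rfl hUS hUT hUX
  obtain ⟨h, hhW, hzh⟩ := hUYaff.exists_basicOpen_le (V := W) ⟨F x, hx⟩ hzUY
  refine ⟨F ⁻¹ᵁ P.basicOpen h, ((Opens.map F.base).map (homOfLE hhW)).le, hzh, ?_⟩
  have nat : F.app (P.basicOpen h) (P.presheaf.map (homOfLE hhW).op a) =
      Z.presheaf.map ((Opens.map F.base).map (homOfLE hhW)).op (F.app W a) :=
    congr($(F.naturality (homOfLE hhW).op) a)
  have h3 := der_app_basicOpen H F d h1 h2 hUST hUSX rfl hUS hUT hUX h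
    (P.presheaf.map (homOfLE hhW).op a)
  rw [nat] at h3
  exact (DerA.der_map d _ _).symm.trans h3

end Main

end Groth.Agent.Lead.DerPbA
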