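import Groth.Agent.Lead.ArtSepB
import Groth.Agent.Lead.CoreSepC
import Groth.Agent.Lead.DerPbA
import Groth.Agent.Lead.StalkPull
import Groth.Agent.Helper4.StalkDict
import Groth.Prelude.Def_Coh
open CategoryTheory Limits AlgebraicGeometry TensorProduct Opposite

namespace Groth.Agent.Lead.CoreSepD
universe u
open Scheme.Modules Groth.Agent.Helper8.TildeBC Groth.Agent.Lead.ModDict Groth.Agent.Helper4

set_option backward.isDefEq.respectTransparency false in
/-- algebra core, in `ModuleCat` form -/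
theorem sep_extendScalars {A B : Type u} [CommRing A] [CommRing B]
    (φ : A →+* B) (hφ : φ.Flat) (hφ' : φ.FinitePresentation) {M : ModuleCat.{u} A} {ι : Type*}
    {N : ι → ModuleCat.{u} A}
    (w : ∀ i, M ⟶ N i)
    (H : ∀ (a : A) (m : M), (∀ i, ∃ n : ℕ, a ^ n • (w i).hom m = 0) → ∃ n : ℕ, a ^ n • m = 0)
    (σ : (ModuleCat.extendScalars.{u, u, u} φ).obj M)
    (hσ : ∀ i, ((ModuleCat.extendScalars.{u, u, u} φ).map (w i)).hom σ = 0) : σ = 0 := by
  letI := φ.toAlgebra
  haveI : Module.Flat A B := hφ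
  haveI : Algebra.FinitePresentation A B := hφ'
  exact CoreSepC.core (A := A) (A' := B) (M := M) (N := fun i => N i)
    (fun i => (w i).hom) H σ hσ

section H
variable {X : Scheme.{u}} {U : X.Opens} (hU : IsAffineOpen U)

set_option backward.isDefEq.respectTransparency false in
theorem secFEquiv_naturality {F G : X.Modules} (v : F ⟶ G) (m₀ : Γ(F, U)) :
    StalkPull.secFEquiv hU G (v.app U m₀) =
      ((secF hU).map v).hom (StalkPull.secFEquiv hU F m₀) := by
  have hnat := congrArg (fun φ => φ.hom m₀)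
    ((Scheme.Modules.Hom.mapPresheaf v).naturality (homOfLE (StalkDict.image_le hU ⊤)).op)
  exact hnat.symm

set_option backward.isDefEq.respectTransparency false in
theorem H_of_sep {F : X.Modules} [F.IsQuasicoherent] {ι : Type*} (G : ι → X.Modules)
    (u : ∀ i, F ⟶ G i)
    (h : ∀ (V : X.Opens) (t : Γ(F, V)), (∀ i, (u i).app V t = 0) → t = 0)
    (a : Γ(X, U)) (m : (secF hU).obj F)
    (hm : ∀ i, ∃ n : ℕ, a ^ n • ((secF hU).map (u i)).hom m = 0) : ∃ n : ℕ, a ^ n • m = 0 := by
  obtain ⟨m₀, rfl⟩ := (StalkPull.secFEquiv hU F).surjective m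
  have h1 : ∀ i, ∃ n : ℕ, a ^ n • (u i).app U m₀ = 0 := by
    intro i
    obtain ⟨n, hn⟩ := hm i
    refine ⟨n, (StalkPull.secFEquiv hU (G i)).injective ?_⟩
    rw [_root_.map_smul, secFEquiv_naturality, map_zero]
    exact hn
  have h2 : F.presheaf.map (homOfLE (X.basicOpen_le a)).op m₀ = 0 := by
    apply h
    intro i
    obtain ⟨n, hn⟩ := h1 i
    have hnat := congrArg (fun φ => φ.hom m₀)
      ((Scheme.Modules.Hom.mapPresheaf (u i)).naturality (homOfLE (X.basicOpen_le a)).op)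
    refine Eq.trans hnat ?_
    have hunit : IsUnit (X.presheaf.map (homOfLE (X.basicOpen_le a)).op a) :=
      RingedSpace.isUnit_res_basicOpen _ a
    have hres := congrArg ((G i).presheaf.map (homOfLE (X.basicOpen_le a)).op) hn
    rw [Scheme.Modules.map_smul, map_zero, map_pow] at hres
    exact (hunit.pow n).smul_left_cancel.mp (hres.trans (smul_zero _).symm)
  obtain ⟨n, hn⟩ := StalkDict.exists_pow_smul_eq_zero hU F a m₀ h2
  refine ⟨n, ?_⟩
  have h3 : StalkPull.secFEquiv hU F (a ^ n • m₀) = a ^ n • StalkPull.secFEquiv hU F m₀ :=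
    (StalkPull.secFEquiv hU F).map_smul _ _
  rw [hn, map_zero] at h3
  exact h3.symm

end H

/-- S4909 -/
theorem main {X X' : Scheme.{u}} (F : X.Modules) [Coh.IsQCoh F] {ι : Type u}
    (G : ι → X.Modules) [∀ i, Coh.IsQCoh (G i)] (u : ∀ i, F ⟶ G i) (g : X' ⟶ X) [Flat g]
    [LocallyOfFinitePresentation g]
    (h : (∀ (V : (X).Opens) (t : ↑((F).presheaf.obj (Opposite.op V))),
      (∀ i, (Scheme.Modules.Hom.mapPresheaf (u i)).app (Opposite.op V) t = 0) → t = 0)) :
    (∀ (V : (X').Opens) (t : ↑(((Scheme.Modules.pullback g).obj F).presheaf.obj (Opposite.op V))),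
      (∀ i, (Scheme.Modules.Hom.mapPresheaf ((Scheme.Modules.pullback g).map (u i))).app
        (Opposite.op V) t = 0) → t = 0) := by
  haveI : F.IsQuasicoherent := ‹Coh.IsQCoh F›
  haveI hGq : ∀ i, (G i).IsQuasicoherent := fun i => ‹∀ i, Coh.IsQCoh (G i)› i
  intro V t ht
  apply DerPbA.section_eq_zero_of_locally
  intro x' hx'
  obtain ⟨_, ⟨U, hU, rfl⟩, hxU, -⟩ := X.isBasis_affineOpens.exists_subset_of_mem_open
    (Set.mem_univ (g x')) isOpen_univ
  obtain ⟨_, ⟨V', hV', rfl⟩, hxV', hV'le⟩ := X'.isBasis_affineOpens.exists_subset_of_mem_open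
    (show x' ∈ ((V ⊓ g ⁻¹ᵁ U : X'.Opens) : Set X') from ⟨hx', hxU⟩) (V ⊓ g ⁻¹ᵁ U).2
  have e : V' ≤ g ⁻¹ᵁ U := fun y hy => (hV'le hy).2
  have hV'V : V' ≤ V := fun y hy => (hV'le hy).1
  have hW : hV'.fromSpec ''ᵁ ⊤ = V' := StalkDict.image_top hV'
  have hWV : hV'.fromSpec ''ᵁ ⊤ ≤ V := hW.le.trans hV'V
  refine ⟨hV'.fromSpec ''ᵁ ⊤, hWV, hW.symm ▸ hxV', ?_⟩
  have hflat : (g.appLE U V' e).hom.Flat :=
    HasRingHomProperty.appLE (P := @Flat) g inferInstance ⟨U, hU⟩ ⟨V', hV'⟩ e
  have hfp : (g.appLE U V' e).hom.FinitePresentation :=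
    HasRingHomProperty.appLE (P := @LocallyOfFinitePresentation) g inferInstance ⟨U, hU⟩
      ⟨V', hV'⟩ e
  obtain ⟨τ, hτ⟩ : ∃ τ : (secF hV').obj ((Scheme.Modules.pullback g).obj F),
    τ = ((Scheme.Modules.pullback g).obj F).presheaf.map (homOfLE hWV).op t := ⟨_, rfl⟩
  suffices hτ0 : τ = 0 by
    rw [hτ] at hτ0
    exact hτ0
  have hτi : ∀ i, ((secF hV').map ((Scheme.Modules.pullback g).map (u i))).hom τ = 0 := by
    intro i
    have hnat := congrArg (fun φ => φ.hom t)
      ((Scheme.Modules.Hom.mapPresheaf ((Scheme.Modules.pullback g).map (u i))).naturality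
        (homOfLE hWV).op)
    change (Scheme.Modules.Hom.mapPresheaf ((Scheme.Modules.pullback g).map (u i))).app
      (op (hV'.fromSpec ''ᵁ ⊤)) τ = 0
    rw [hτ]
    refine Eq.trans hnat ?_
    change ((Scheme.Modules.pullback g).obj (G i)).presheaf.map (homOfLE hWV).op
      ((Scheme.Modules.Hom.mapPresheaf ((Scheme.Modules.pullback g).map (u i))).app (op V) t) = 0
    rw [ht i, map_zero]
  have hσ := sep_extendScalars (g.appLE U V' e).hom hflat hfp (fun i => (secF hU).map (u i))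
    (fun a m hm => H_of_sep hU G u h a m hm)
    ((secFPullbackIso g hU hV' e F).hom.hom τ) (by
      intro i
      have hn := ArtSepB.secFPullbackIso_naturality g hU hV' e (u i)
      have hn' := congrArg (fun φ => φ.hom τ) hn
      simp only [ModuleCat.hom_comp, LinearMap.comp_apply] at hn'
      rw [← hn', hτi i, map_zero])
  have hinj : Function.Injective (secFPullbackIso g hU hV' e F).hom.hom :=
    ((ModuleCat.mono_iff_injective _).mp inferInstance)
  exact hinj (hσ.trans (map_zero _).symm)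

end Groth.Agent.Lead.CoreSepD
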