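import Mathlib
import Groth.Agent.Lead.FieldSepD
import Groth.Agent.Lead.FieldSepB
import Groth.Agent.Lead.CoreSepD

set_option autoImplicit false
universe u
open TensorProduct CategoryTheory AlgebraicGeometry Limits Opposite

namespace Groth.Agent.Lead.FieldSepE

open Scheme.Modules Groth.Agent.Helper8.TildeBC Groth.Agent.Lead.ModDict Groth.Agent.Helper4

set_option backward.isDefEq.respectTransparency false in
/-- algebra core for a localization of an algebra with property `HRmod`, `ModuleCat` form -/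
theorem sep_extendScalars_loc {A R R' : Type u} [CommRing A] [CommRing R] [CommRing R']
    [Algebra A R] [Algebra R R'] (c : R) [IsLocalization.Away c R'] (φ : A →+* R')
    (hφ : φ = (algebraMap R R').comp (algebraMap A R))
    {M : ModuleCat.{u} A} {ι : Type*} {N : ι → ModuleCat.{u} A} (w : ∀ i, M ⟶ N i)
    (hHR : FieldSepD.HRmod A (fun i => (w i).hom) R)
    (σ : (ModuleCat.extendScalars.{u, u, u} φ).obj M)
    (hσ : ∀ i, ((ModuleCat.extendScalars.{u, u, u} φ).map (w i)).hom σ = 0) : σ = 0 := by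
  subst hφ
  letI : Algebra A R' := ((algebraMap R R').comp (algebraMap A R)).toAlgebra
  haveI : IsScalarTower A R R' := .of_algebraMap_eq' rfl
  exact FieldSepD.core_loc (A := A) (M := M) (N := fun i => N i) (R := R) (R' := R')
    (fun i => (w i).hom) c hHR σ hσ

/-- Sections of `X ×_k S'` over a product of affine opens. -/
theorem exists_equiv {k : Type u} [Field k] {X S' : Scheme.{u}}
    (p : X ⟶ Spec (CommRingCat.of k)) (q : S' ⟶ Spec (CommRingCat.of k))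
    {U : X.Opens} {T : S'.Opens} (hU : IsAffineOpen U) (hT : IsAffineOpen T) :
    letI : Algebra Γ(X, U) Γ(pullback p q, pullback.fst p q ⁻¹ᵁ U ⊓ pullback.snd p q ⁻¹ᵁ T) :=
      ((pullback.fst p q).appLE U _ inf_le_left).hom.toAlgebra
    ∃ (_ : Algebra k Γ(X, U)) (_ : Algebra k Γ(S', T)),
      Nonempty (Γ(X, U) ⊗[k] Γ(S', T) ≃ₐ[Γ(X, U)]
        Γ(pullback p q, pullback.fst p q ⁻¹ᵁ U ⊓ pullback.snd p q ⁻¹ᵁ T)) := by
  have Hp := IsPullback.of_hasPullback p q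
  have hTtop : T ≤ q ⁻¹ᵁ ⊤ := le_top
  have hUtop : U ≤ p ⁻¹ᵁ ⊤ := le_top
  have htop : IsAffineOpen (⊤ : (Spec (CommRingCat.of k)).Opens) := isAffineOpen_top _
  letI : Algebra Γ(X, U) Γ(pullback p q, pullback.fst p q ⁻¹ᵁ U ⊓ pullback.snd p q ⁻¹ᵁ T) :=
    ((pullback.fst p q).appLE U _ inf_le_left).hom.toAlgebra
  have hiso := isIso_pushoutSection_of_isAffineOpen Hp (US := ⊤) (UT := T) (UX := U) hTtop hUtop
    (UY := pullback.fst p q ⁻¹ᵁ U ⊓ pullback.snd p q ⁻¹ᵁ T) rfl htop hT hU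
  have hpo := (isIso_pushoutSection_iff Hp hTtop hUtop rfl).mp hiso
  have hpo' : IsPushout ((Scheme.ΓSpecIso (CommRingCat.of k)).inv ≫ p.appLE ⊤ U hUtop)
      ((Scheme.ΓSpecIso (CommRingCat.of k)).inv ≫ q.appLE ⊤ T hTtop)
      ((pullback.fst p q).appLE U
        (pullback.fst p q ⁻¹ᵁ U ⊓ pullback.snd p q ⁻¹ᵁ T) inf_le_left)
      ((pullback.snd p q).appLE T
        (pullback.fst p q ⁻¹ᵁ U ⊓ pullback.snd p q ⁻¹ᵁ T) inf_le_right) :=
    IsPushout.of_iso hpo (Scheme.ΓSpecIso (CommRingCat.of k)) (Iso.refl _) (Iso.refl _)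
      (Iso.refl _) (by simp) (by simp) (by simp) (by simp)
  letI i1 : Algebra k Γ(X, U) :=
    ((Scheme.ΓSpecIso (CommRingCat.of k)).inv ≫ p.appLE ⊤ U hUtop).hom.toAlgebra
  letI i2 : Algebra k Γ(S', T) :=
    ((Scheme.ΓSpecIso (CommRingCat.of k)).inv ≫ q.appLE ⊤ T hTtop).hom.toAlgebra
  letI : Algebra Γ(S', T) Γ(pullback p q, pullback.fst p q ⁻¹ᵁ U ⊓ pullback.snd p q ⁻¹ᵁ T) :=
    ((pullback.snd p q).appLE T _ inf_le_right).hom.toAlgebra
  letI : Algebra k Γ(pullback p q, pullback.fst p q ⁻¹ᵁ U ⊓ pullback.snd p q ⁻¹ᵁ T) :=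
    (((pullback.fst p q).appLE U _ inf_le_left).hom.comp
      ((Scheme.ΓSpecIso (CommRingCat.of k)).inv ≫ p.appLE ⊤ U hUtop).hom).toAlgebra
  haveI : IsScalarTower k Γ(X, U)
      Γ(pullback p q, pullback.fst p q ⁻¹ᵁ U ⊓ pullback.snd p q ⁻¹ᵁ T) :=
    .of_algebraMap_eq' rfl
  haveI : IsScalarTower k Γ(S', T)
      Γ(pullback p q, pullback.fst p q ⁻¹ᵁ U ⊓ pullback.snd p q ⁻¹ᵁ T) :=
    .of_algebraMap_eq' (congr($(hpo'.w).hom))
  haveI hP : Algebra.IsPushout k Γ(X, U) Γ(S', T)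
      Γ(pullback p q, pullback.fst p q ⁻¹ᵁ U ⊓ pullback.snd p q ⁻¹ᵁ T) :=
    CommRingCat.isPushout_iff_isPushout.mp hpo'
  exact ⟨i1, i2, ⟨Algebra.IsPushout.equiv k Γ(X, U) Γ(S', T)
      Γ(pullback p q, pullback.fst p q ⁻¹ᵁ U ⊓ pullback.snd p q ⁻¹ᵁ T)⟩⟩

set_option backward.isDefEq.respectTransparency false in
/-- S4911 -/
theorem main {k : Type u} [Field k] {X S' : Scheme.{u}}
    (p : X ⟶ Spec (CommRingCat.of k)) (q : S' ⟶ Spec (CommRingCat.of k))
    (F : X.Modules) [Coh.IsQCoh F] {ι : Type u} (G : ι → X.Modules) [∀ i, Coh.IsQCoh (G i)]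
    (u : ∀ i, F ⟶ G i)
    (h : ∀ (V : X.Opens) (t : ↑(F.presheaf.obj (op V))),
      (∀ i, (Scheme.Modules.Hom.mapPresheaf (u i)).app (op V) t = 0) → t = 0) :
    ∀ (V : (pullback p q).Opens)
      (t : ↑(((Scheme.Modules.pullback (pullback.fst p q)).obj F).presheaf.obj (op V))),
      (∀ i, (Scheme.Modules.Hom.mapPresheaf
        ((Scheme.Modules.pullback (pullback.fst p q)).map (u i))).app (op V) t = 0) → t = 0 := by
  haveI : F.IsQuasicoherent := ‹Coh.IsQCoh F›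
  haveI hGq : ∀ i, (G i).IsQuasicoherent := fun i => ‹∀ i, Coh.IsQCoh (G i)› i
  intro V t ht
  apply DerPbA.section_eq_zero_of_locally
  intro x' hx'
  obtain ⟨_, ⟨U, hU, rfl⟩, hxU, -⟩ := X.isBasis_affineOpens.exists_subset_of_mem_open
    (Set.mem_univ (pullback.fst p q x')) isOpen_univ
  obtain ⟨_, ⟨T, hT, rfl⟩, hxT, -⟩ := S'.isBasis_affineOpens.exists_subset_of_mem_open
    (Set.mem_univ (pullback.snd p q x')) isOpen_univ
  have Hp := IsPullback.of_hasPullback p q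
  have hTtop : T ≤ q ⁻¹ᵁ ⊤ := le_top
  have hUtop : U ≤ p ⁻¹ᵁ ⊤ := le_top
  have hV'' : IsAffineOpen (pullback.fst p q ⁻¹ᵁ U ⊓ pullback.snd p q ⁻¹ᵁ T) :=
    FieldSepB.isAffineOpen_inf Hp hTtop hUtop (isAffineOpen_top _) hT hU
  obtain ⟨c, hcV, hxc⟩ := hV''.exists_basicOpen_le (V := V) ⟨x', hx'⟩ ⟨hxU, hxT⟩
  have hV' : IsAffineOpen ((pullback p q).basicOpen c) := hV''.basicOpen c
  have hV'V'' : (pullback p q).basicOpen c ≤
      pullback.fst p q ⁻¹ᵁ U ⊓ pullback.snd p q ⁻¹ᵁ T := (pullback p q).basicOpen_le c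
  have e : (pullback p q).basicOpen c ≤ pullback.fst p q ⁻¹ᵁ U := hV'V''.trans inf_le_left
  have hW : hV'.fromSpec ''ᵁ ⊤ = (pullback p q).basicOpen c := StalkDict.image_top hV'
  have hWV : hV'.fromSpec ''ᵁ ⊤ ≤ V := hW.le.trans hcV
  refine ⟨hV'.fromSpec ''ᵁ ⊤, hWV, hW.symm ▸ hxc, ?_⟩
  obtain ⟨τ, hτ⟩ : ∃ τ : (secF hV').obj ((Scheme.Modules.pullback (pullback.fst p q)).obj F),
    τ = ((Scheme.Modules.pullback (pullback.fst p q)).obj F).presheaf.map (homOfLE hWV).op t :=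
      ⟨_, rfl⟩
  suffices hτ0 : τ = 0 by
    rw [hτ] at hτ0
    exact hτ0
  have hτi : ∀ i, ((secF hV').map
      ((Scheme.Modules.pullback (pullback.fst p q)).map (u i))).hom τ = 0 := by
    intro i
    have hnat := congrArg (fun φ => φ.hom t)
      ((Scheme.Modules.Hom.mapPresheaf
        ((Scheme.Modules.pullback (pullback.fst p q)).map (u i))).naturality (homOfLE hWV).op)
    change (Scheme.Modules.Hom.mapPresheaf
      ((Scheme.Modules.pullback (pullback.fst p q)).map (u i))).app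
      (op (hV'.fromSpec ''ᵁ ⊤)) τ = 0
    rw [hτ]
    refine Eq.trans hnat ?_
    change ((Scheme.Modules.pullback (pullback.fst p q)).obj (G i)).presheaf.map
      (homOfLE hWV).op ((Scheme.Modules.Hom.mapPresheaf
        ((Scheme.Modules.pullback (pullback.fst p q)).map (u i))).app (op V) t) = 0
    rw [ht i, map_zero]
  letI : Algebra Γ(X, U) Γ(pullback p q, pullback.fst p q ⁻¹ᵁ U ⊓ pullback.snd p q ⁻¹ᵁ T) :=
    ((pullback.fst p q).appLE U _ inf_le_left).hom.toAlgebra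
  haveI := hV''.isLocalization_basicOpen c
  obtain ⟨i1, i2, ⟨eq⟩⟩ := exists_equiv p q hU hT
  have hHR : FieldSepD.HRmod Γ(X, U) (fun i => ((secF hU).map (u i)).hom)
      Γ(pullback p q, pullback.fst p q ⁻¹ᵁ U ⊓ pullback.snd p q ⁻¹ᵁ T) :=
    FieldSepD.HRmod_of_equiv _ eq (FieldSepD.HRmod_tensor_field _
      (fun a m hm => CoreSepD.H_of_sep hU G u h a m hm))
  have hσ := sep_extendScalars_loc c ((pullback.fst p q).appLE U _ e).hom
    (congr($(Scheme.Hom.appLE_map (pullback.fst p q) (inf_le_left :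
      pullback.fst p q ⁻¹ᵁ U ⊓ pullback.snd p q ⁻¹ᵁ T ≤ _) (homOfLE hV'V'').op).hom).symm)
    (fun i => (secF hU).map (u i)) hHR
    ((secFPullbackIso (pullback.fst p q) hU hV' e F).hom.hom τ) (by
      intro i
      have hn := ArtSepB.secFPullbackIso_naturality (pullback.fst p q) hU hV' e (u i)
      have hn' := congrArg (fun φ => φ.hom τ) hn
      simp only [ModuleCat.hom_comp, LinearMap.comp_apply] at hn'
      rw [← hn', hτi i, map_zero])
  have hinj : Function.Injective (secFPullbackIso (pullback.fst p q) hU hV' e F).hom.hom :=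
    ((ModuleCat.mono_iff_injective _).mp inferInstance)
  exact hinj (hσ.trans (map_zero _).symm)

end Groth.Agent.Lead.FieldSepE
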