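import Mathlib
import Groth.Agent.Lead.SubalgSepA
import Groth.Agent.Lead.FieldSepE
import Groth.Agent.Helper5.AffFlat3

set_option autoImplicit false
universe u
open TensorProduct CategoryTheory AlgebraicGeometry Limits Opposite

namespace Groth.Agent.Lead.SubalgSepB

open Scheme.Modules Groth.Agent.Helper8.TildeBC Groth.Agent.Lead.ModDict Groth.Agent.Helper4

/-- The `A`-algebra structure on sections of an `A`-scheme. -/
@[reducible] noncomputable def algA {A : CommRingCat.{u}} {X : Scheme.{u}} (p : X ⟶ Spec A)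
    (U : X.Opens) : Algebra A Γ(X, U) :=
  ((Scheme.ΓSpecIso A).inv ≫ p.appLE ⊤ U le_top).hom.toAlgebra

/-- Sections of `X ×_A B` over the preimage of an affine open of `X`. -/
theorem exists_equiv_affine {A : CommRingCat.{u}} (B : Type u) [CommRing B] [Algebra A B]
    {X : Scheme.{u}} (p : X ⟶ Spec A) {U : X.Opens} (hU : IsAffineOpen U) :
    letI : Algebra Γ(X, U) Γ(pullback p (Spec.map (CommRingCat.ofHom (algebraMap A B))),
        pullback.fst p (Spec.map (CommRingCat.ofHom (algebraMap A B))) ⁻¹ᵁ U ⊓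
          pullback.snd p (Spec.map (CommRingCat.ofHom (algebraMap A B))) ⁻¹ᵁ ⊤) :=
      ((pullback.fst p (Spec.map (CommRingCat.ofHom (algebraMap A B)))).appLE U _
        inf_le_left).hom.toAlgebra
    letI := algA p U
    Nonempty (Γ(X, U) ⊗[A] B ≃ₐ[Γ(X, U)]
      Γ(pullback p (Spec.map (CommRingCat.ofHom (algebraMap A B))),
        pullback.fst p (Spec.map (CommRingCat.ofHom (algebraMap A B))) ⁻¹ᵁ U ⊓
          pullback.snd p (Spec.map (CommRingCat.ofHom (algebraMap A B))) ⁻¹ᵁ ⊤)) := by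
  set a : A ⟶ CommRingCat.of B := CommRingCat.ofHom (algebraMap A B) with ha
  have Hp := IsPullback.of_hasPullback p (Spec.map a)
  have hTtop : (⊤ : (Spec (CommRingCat.of B)).Opens) ≤ (Spec.map a) ⁻¹ᵁ ⊤ := le_top
  have hUtop : U ≤ p ⁻¹ᵁ ⊤ := le_top
  have htop : IsAffineOpen (⊤ : (Spec A).Opens) := isAffineOpen_top _
  have htopB : IsAffineOpen (⊤ : (Spec (CommRingCat.of B)).Opens) := isAffineOpen_top _
  letI : Algebra Γ(X, U) Γ(pullback p (Spec.map a),
      pullback.fst p (Spec.map a) ⁻¹ᵁ U ⊓ pullback.snd p (Spec.map a) ⁻¹ᵁ ⊤) :=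
    ((pullback.fst p (Spec.map a)).appLE U _ inf_le_left).hom.toAlgebra
  letI := algA p U
  have hiso := isIso_pushoutSection_of_isAffineOpen Hp (US := ⊤) (UT := ⊤) (UX := U) hTtop hUtop
    (UY := pullback.fst p (Spec.map a) ⁻¹ᵁ U ⊓ pullback.snd p (Spec.map a) ⁻¹ᵁ ⊤) rfl htop
    htopB hU
  have hpo := (isIso_pushoutSection_iff Hp hTtop hUtop rfl).mp hiso
  have hpo' : IsPushout ((Scheme.ΓSpecIso A).inv ≫ p.appLE ⊤ U hUtop) a
      ((pullback.fst p (Spec.map a)).appLE U
        (pullback.fst p (Spec.map a) ⁻¹ᵁ U ⊓ pullback.snd p (Spec.map a) ⁻¹ᵁ ⊤) inf_le_left)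
      ((Scheme.ΓSpecIso (CommRingCat.of B)).inv ≫ (pullback.snd p (Spec.map a)).appLE ⊤
        (pullback.fst p (Spec.map a) ⁻¹ᵁ U ⊓ pullback.snd p (Spec.map a) ⁻¹ᵁ ⊤)
        inf_le_right) := by
    refine IsPushout.of_iso hpo (Scheme.ΓSpecIso A) (Iso.refl _)
      (Scheme.ΓSpecIso (CommRingCat.of B)) (Iso.refl _) (by simp) ?_ (by simp) (by simp)
    have := Scheme.ΓSpecIso_naturality a
    rw [← this]
    congr 1
  letI : Algebra B Γ(pullback p (Spec.map a),
      pullback.fst p (Spec.map a) ⁻¹ᵁ U ⊓ pullback.snd p (Spec.map a) ⁻¹ᵁ ⊤) :=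
    ((Scheme.ΓSpecIso (CommRingCat.of B)).inv ≫
      (pullback.snd p (Spec.map a)).appLE ⊤ _ inf_le_right).hom.toAlgebra
  letI : Algebra A Γ(pullback p (Spec.map a),
      pullback.fst p (Spec.map a) ⁻¹ᵁ U ⊓ pullback.snd p (Spec.map a) ⁻¹ᵁ ⊤) :=
    (((pullback.fst p (Spec.map a)).appLE U _ inf_le_left).hom.comp
      ((Scheme.ΓSpecIso A).inv ≫ p.appLE ⊤ U hUtop).hom).toAlgebra
  haveI : IsScalarTower A Γ(X, U) Γ(pullback p (Spec.map a),
      pullback.fst p (Spec.map a) ⁻¹ᵁ U ⊓ pullback.snd p (Spec.map a) ⁻¹ᵁ ⊤) :=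
    .of_algebraMap_eq' rfl
  haveI : IsScalarTower A B Γ(pullback p (Spec.map a),
      pullback.fst p (Spec.map a) ⁻¹ᵁ U ⊓ pullback.snd p (Spec.map a) ⁻¹ᵁ ⊤) :=
    .of_algebraMap_eq' (congr($(hpo'.w).hom))
  haveI hP : Algebra.IsPushout A Γ(X, U) B Γ(pullback p (Spec.map a),
      pullback.fst p (Spec.map a) ⁻¹ᵁ U ⊓ pullback.snd p (Spec.map a) ⁻¹ᵁ ⊤) :=
    CommRingCat.isPushout_iff_isPushout.mp hpo'
  exact ⟨Algebra.IsPushout.equiv A Γ(X, U) B Γ(pullback p (Spec.map a),
      pullback.fst p (Spec.map a) ⁻¹ᵁ U ⊓ pullback.snd p (Spec.map a) ⁻¹ᵁ ⊤)⟩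

set_option backward.isDefEq.respectTransparency false in
/-- Sections over an affine open of a module flat over `Spec A` are flat over `A`. -/
theorem flat_secF {A : CommRingCat.{u}} {X : Scheme.{u}} (p : X ⟶ Spec A) (G : X.Modules)
    [G.IsQuasicoherent] (hG : FlatMod.IsFlatOver p G) {U : X.Opens} (hU : IsAffineOpen U) :
    letI := algA p U
    letI : Module A ((secF hU).obj G) := Module.compHom _ (algebraMap A Γ(X, U))
    Module.Flat A ((secF hU).obj G) := by
  letI := algA p U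
  letI m2 : Module A ((secF hU).obj G) := Module.compHom _ (algebraMap A Γ(X, U))
  have h1 := (Groth.Agent.Helper5.AffFlat.flat_sections_iff p G (V := ⊤) (isAffineOpen_top _) hU
    le_top).mp (fun x _ => hG x)
  letI m0 : Module Γ(Spec A, ⊤) Γ(G, U) := Module.compHom _ (p.appLE ⊤ U le_top).hom
  have h2 := (Groth.Agent.Helper5.AffFlat.flat_iff_of_ringEquiv
    ((Scheme.ΓSpecIso A).symm.commRingCatIsoToRingEquiv) (N := Γ(G, U))).mpr h1
  letI m1 : Module A Γ(G, U) :=
    Module.compHom _ ((Scheme.ΓSpecIso A).symm.commRingCatIsoToRingEquiv).toRingHom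
  let e : Γ(G, U) ≃ₗ[A] (secF hU).obj G :=
    { (StalkPull.secFEquiv hU G).toAddEquiv with
      map_smul' := fun r m => (StalkPull.secFEquiv hU G).map_smul _ m }
  exact Module.Flat.of_linearEquiv e.symm

set_option backward.isDefEq.respectTransparency false in
/-- Separation of the pulled back family gives property (H) for the sections over an affine
open of the source. -/
theorem HRmod_of_sep {X' X : Scheme.{u}} (g : X' ⟶ X) (F : X.Modules) [F.IsQuasicoherent]
    {ι : Type*} (G : ι → X.Modules) [∀ i, (G i).IsQuasicoherent] (u : ∀ i, F ⟶ G i)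
    (hsep : ∀ (V : X'.Opens)
      (t : ↑(((Scheme.Modules.pullback g).obj F).presheaf.obj (op V))),
      (∀ i, (Scheme.Modules.Hom.mapPresheaf
        ((Scheme.Modules.pullback g).map (u i))).app (op V) t = 0) → t = 0)
    {U : X.Opens} (hU : IsAffineOpen U) {V' : X'.Opens} (hV' : IsAffineOpen V')
    (e : V' ≤ g ⁻¹ᵁ U) :
    letI : Algebra Γ(X, U) Γ(X', V') := (g.appLE U V' e).hom.toAlgebra
    FieldSepD.HRmod Γ(X, U) (fun i => ((secF hU).map (u i)).hom) Γ(X', V') := by
  letI : Algebra Γ(X, U) Γ(X', V') := (g.appLE U V' e).hom.toAlgebra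
  haveI : ((Scheme.Modules.pullback g).obj F).IsQuasicoherent :=
    StalkPull.isQuasicoherent_pullbackObj g F
  intro c τ hτ
  obtain ⟨σ, hσ⟩ : ∃ σ : (ModuleCat.extendScalars.{u, u, u} (g.appLE U V' e).hom).obj
      ((secF hU).obj F), σ = τ := ⟨τ, rfl⟩
  obtain ⟨n, hn⟩ := CoreSepD.H_of_sep (X := X') hV'
    (fun i => (Scheme.Modules.pullback g).obj (G i))
    (fun i => (Scheme.Modules.pullback g).map (u i)) hsep c
    ((secFPullbackIso g hU hV' e F).inv.hom σ) (by
      intro i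
      obtain ⟨n, hn⟩ := hτ i
      refine ⟨n, ?_⟩
      have hnat := ArtSepB.secFPullbackIso_naturality g hU hV' e (u i)
      have h1 : ((secF hV').map ((Scheme.Modules.pullback g).map (u i))).hom
          ((secFPullbackIso g hU hV' e F).inv.hom σ) =
          (secFPullbackIso g hU hV' e (G i)).inv.hom
            (((ModuleCat.extendScalars.{u, u, u} (g.appLE U V' e).hom).map
              ((secF hU).map (u i))).hom σ) := by
        have h2 : (secFPullbackIso g hU hV' e F).inv ≫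
            (secF hV').map ((Scheme.Modules.pullback g).map (u i)) =
            (ModuleCat.extendScalars.{u, u, u} (g.appLE U V' e).hom).map ((secF hU).map (u i)) ≫
              (secFPullbackIso g hU hV' e (G i)).inv := by
          rw [Iso.inv_comp_eq, ← Category.assoc, Iso.eq_comp_inv]
          exact hnat
        have h3 := congrArg (fun φ => φ.hom σ) h2
        simpa only [ModuleCat.hom_comp, LinearMap.comp_apply] using h3
      rw [h1, ← _root_.map_smul]
      have h4 : c ^ n • ((ModuleCat.extendScalars.{u, u, u} (g.appLE U V' e).hom).map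
          ((secF hU).map (u i))).hom σ = 0 := by
        rw [hσ]
        exact hn
      rw [h4, map_zero])
  refine ⟨n, ?_⟩
  have h5 := congrArg (secFPullbackIso g hU hV' e F).hom.hom hn
  rw [_root_.map_smul, map_zero] at h5
  have h6 : (secFPullbackIso g hU hV' e F).hom.hom
      ((secFPullbackIso g hU hV' e F).inv.hom σ) = σ := by
    have := congrArg (fun φ => φ.hom σ) (secFPullbackIso g hU hV' e F).inv_hom_id
    simpa only [ModuleCat.hom_comp, LinearMap.comp_apply, ModuleCat.hom_id,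
      LinearMap.id_apply] using this
  rw [h6, hσ] at h5
  exact h5

set_option backward.isDefEq.respectTransparency false in
/-- Property (H) for the sections of `X ×_A A'` over the preimage of an affine open. -/
theorem HRmod_main {X : Scheme.{u}} (A A' : CommRingCat.{u}) (φ : A ⟶ A')
    (p : X ⟶ Spec A) (F : X.Modules) [F.IsQuasicoherent] {ι : Type u} (G : ι → X.Modules)
    [∀ i, (G i).IsQuasicoherent]
    (hG : ∀ i, FlatMod.IsFlatOver p (G i)) (u : ∀ i, F ⟶ G i)
    (hfg : ∀ (B : CommRingCat.{u}) (a : A ⟶ B) (b : B ⟶ A'), a ≫ b = φ →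
      Function.Injective b.hom → a.hom.FiniteType →
      ∀ (V : (pullback p (Spec.map a)).Opens)
        (t : ↑(((Scheme.Modules.pullback (pullback.fst p (Spec.map a))).obj F).presheaf.obj
          (op V))),
        (∀ i, (Scheme.Modules.Hom.mapPresheaf ((Scheme.Modules.pullback
          (pullback.fst p (Spec.map a))).map (u i))).app (op V) t = 0) → t = 0)
    {U : X.Opens} (hU : IsAffineOpen U) :
    letI : Algebra Γ(X, U) Γ(pullback p (Spec.map φ),
        pullback.fst p (Spec.map φ) ⁻¹ᵁ U ⊓ pullback.snd p (Spec.map φ) ⁻¹ᵁ ⊤) :=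
      ((pullback.fst p (Spec.map φ)).appLE U _ inf_le_left).hom.toAlgebra
    FieldSepD.HRmod Γ(X, U) (fun i => ((secF hU).map (u i)).hom)
      Γ(pullback p (Spec.map φ),
        pullback.fst p (Spec.map φ) ⁻¹ᵁ U ⊓ pullback.snd p (Spec.map φ) ⁻¹ᵁ ⊤) := by
  letI : Algebra Γ(X, U) Γ(pullback p (Spec.map φ),
      pullback.fst p (Spec.map φ) ⁻¹ᵁ U ⊓ pullback.snd p (Spec.map φ) ⁻¹ᵁ ⊤) :=
    ((pullback.fst p (Spec.map φ)).appLE U _ inf_le_left).hom.toAlgebra
  letI : Algebra A A' := φ.hom.toAlgebra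
  letI := algA p U
  letI : ∀ i, Module A ((secF hU).obj (G i)) := fun i =>
    Module.compHom _ (algebraMap A Γ(X, U))
  haveI : ∀ i, IsScalarTower A Γ(X, U) ((secF hU).obj (G i)) := fun i =>
    IsScalarTower.of_algebraMap_smul fun r m => rfl
  haveI : ∀ i, Module.Flat A ((secF hU).obj (G i)) := fun i => flat_secF p (G i) (hG i) hU
  obtain ⟨eq⟩ := exists_equiv_affine (A := A) A' p hU
  refine FieldSepD.HRmod_of_equiv (fun i => ((secF hU).map (u i)).hom) eq ?_
  apply SubalgSepA.HRmod_of_subalgebras (A := A) (C := Γ(X, U)) (A' := A')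
    (fun i => ((secF hU).map (u i)).hom)
  intro B₁ hB₁
  have hsepB := hfg (CommRingCat.of B₁) (CommRingCat.ofHom (algebraMap A B₁))
    (CommRingCat.ofHom (B₁.val : B₁ →+* A')) (CommRingCat.hom_ext (RingHom.ext fun x => rfl))
    Subtype.val_injective
    (RingHom.finiteType_algebraMap.mpr ((Subalgebra.fg_iff_finiteType B₁).mp hB₁))
  have Hp := IsPullback.of_hasPullback p (Spec.map (CommRingCat.ofHom (algebraMap A B₁)))
  have hTtopB : (⊤ : (Spec (CommRingCat.of B₁)).Opens) ≤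
      (Spec.map (CommRingCat.ofHom (algebraMap A B₁))) ⁻¹ᵁ ⊤ := le_top
  have hUtop : U ≤ p ⁻¹ᵁ ⊤ := le_top
  have hV''B : IsAffineOpen
      (pullback.fst p (Spec.map (CommRingCat.ofHom (algebraMap A B₁))) ⁻¹ᵁ U ⊓
        pullback.snd p (Spec.map (CommRingCat.ofHom (algebraMap A B₁))) ⁻¹ᵁ ⊤) :=
    FieldSepB.isAffineOpen_inf Hp hTtopB hUtop (isAffineOpen_top _) (isAffineOpen_top _) hU
  letI : Algebra Γ(X, U) Γ(pullback p (Spec.map (CommRingCat.ofHom (algebraMap A B₁))),
      pullback.fst p (Spec.map (CommRingCat.ofHom (algebraMap A B₁))) ⁻¹ᵁ U ⊓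
        pullback.snd p (Spec.map (CommRingCat.ofHom (algebraMap A B₁))) ⁻¹ᵁ ⊤) :=
    ((pullback.fst p (Spec.map (CommRingCat.ofHom (algebraMap A B₁)))).appLE U _
      inf_le_left).hom.toAlgebra
  have h1 := HRmod_of_sep (pullback.fst p (Spec.map (CommRingCat.ofHom (algebraMap A B₁)))) F G u
    hsepB hU hV''B inf_le_left
  obtain ⟨eqB⟩ := exists_equiv_affine (A := A) B₁ p hU
  exact FieldSepD.HRmod_of_equiv (fun i => ((secF hU).map (u i)).hom) eqB.symm h1

set_option backward.isDefEq.respectTransparency false in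
/-- S5916 -/
theorem main {X : Scheme.{u}} (A A' : CommRingCat.{u}) (φ : A ⟶ A')
    (p : X ⟶ Spec A) (F : X.Modules) [Coh.IsQCoh F] {ι : Type u} (G : ι → X.Modules)
    [∀ i, Coh.IsQCoh (G i)]
    (hG : ∀ i, FlatMod.IsFlatOver p (G i)) (u : ∀ i, F ⟶ G i)
    (hfg : ∀ (B : CommRingCat.{u}) (a : A ⟶ B) (b : B ⟶ A'), a ≫ b = φ →
      Function.Injective b.hom → a.hom.FiniteType →
      ∀ (V : (pullback p (Spec.map a)).Opens)
        (t : ↑(((Scheme.Modules.pullback (pullback.fst p (Spec.map a))).obj F).presheaf.obj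
          (op V))),
        (∀ i, (Scheme.Modules.Hom.mapPresheaf ((Scheme.Modules.pullback
          (pullback.fst p (Spec.map a))).map (u i))).app (op V) t = 0) → t = 0) :
    ∀ (V : (pullback p (Spec.map φ)).Opens)
      (t : ↑(((Scheme.Modules.pullback (pullback.fst p (Spec.map φ))).obj F).presheaf.obj
        (op V))),
      (∀ i, (Scheme.Modules.Hom.mapPresheaf ((Scheme.Modules.pullback
        (pullback.fst p (Spec.map φ))).map (u i))).app (op V) t = 0) → t = 0 := by
  haveI : F.IsQuasicoherent := ‹Coh.IsQCoh F›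
  haveI hGq : ∀ i, (G i).IsQuasicoherent := fun i => ‹∀ i, Coh.IsQCoh (G i)› i
  intro V t ht
  apply DerPbA.section_eq_zero_of_locally
  intro x' hx'
  obtain ⟨_, ⟨U, hU, rfl⟩, hxU, -⟩ := X.isBasis_affineOpens.exists_subset_of_mem_open
    (Set.mem_univ (pullback.fst p (Spec.map φ) x')) isOpen_univ
  have Hp := IsPullback.of_hasPullback p (Spec.map φ)
  have hTtop : (⊤ : (Spec A').Opens) ≤ (Spec.map φ) ⁻¹ᵁ ⊤ := le_top
  have hUtop : U ≤ p ⁻¹ᵁ ⊤ := le_top
  have hV'' : IsAffineOpen (pullback.fst p (Spec.map φ) ⁻¹ᵁ U ⊓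
      pullback.snd p (Spec.map φ) ⁻¹ᵁ ⊤) :=
    FieldSepB.isAffineOpen_inf Hp hTtop hUtop (isAffineOpen_top _) (isAffineOpen_top _) hU
  obtain ⟨c, hcV, hxc⟩ := hV''.exists_basicOpen_le (V := V) ⟨x', hx'⟩ ⟨hxU, trivial⟩
  have hV' : IsAffineOpen ((pullback p (Spec.map φ)).basicOpen c) := hV''.basicOpen c
  have hV'V'' : (pullback p (Spec.map φ)).basicOpen c ≤
      pullback.fst p (Spec.map φ) ⁻¹ᵁ U ⊓ pullback.snd p (Spec.map φ) ⁻¹ᵁ ⊤ :=
    (pullback p (Spec.map φ)).basicOpen_le c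
  have e : (pullback p (Spec.map φ)).basicOpen c ≤ pullback.fst p (Spec.map φ) ⁻¹ᵁ U :=
    hV'V''.trans inf_le_left
  have hW : hV'.fromSpec ''ᵁ ⊤ = (pullback p (Spec.map φ)).basicOpen c :=
    StalkDict.image_top hV'
  have hWV : hV'.fromSpec ''ᵁ ⊤ ≤ V := hW.le.trans hcV
  refine ⟨hV'.fromSpec ''ᵁ ⊤, hWV, hW.symm ▸ hxc, ?_⟩
  obtain ⟨τ, hτ⟩ : ∃ τ : (secF hV').obj
      ((Scheme.Modules.pullback (pullback.fst p (Spec.map φ))).obj F),
    τ = ((Scheme.Modules.pullback (pullback.fst p (Spec.map φ))).obj F).presheaf.map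
      (homOfLE hWV).op t := ⟨_, rfl⟩
  suffices hτ0 : τ = 0 by
    rw [hτ] at hτ0
    exact hτ0
  have hτi : ∀ i, ((secF hV').map
      ((Scheme.Modules.pullback (pullback.fst p (Spec.map φ))).map (u i))).hom τ = 0 := by
    intro i
    have hnat := congrArg (fun ψ => ψ.hom t)
      ((Scheme.Modules.Hom.mapPresheaf
        ((Scheme.Modules.pullback (pullback.fst p (Spec.map φ))).map (u i))).naturality
          (homOfLE hWV).op)
    change (Scheme.Modules.Hom.mapPresheaf
      ((Scheme.Modules.pullback (pullback.fst p (Spec.map φ))).map (u i))).app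
      (op (hV'.fromSpec ''ᵁ ⊤)) τ = 0
    rw [hτ]
    refine Eq.trans hnat ?_
    change ((Scheme.Modules.pullback (pullback.fst p (Spec.map φ))).obj (G i)).presheaf.map
      (homOfLE hWV).op ((Scheme.Modules.Hom.mapPresheaf
        ((Scheme.Modules.pullback (pullback.fst p (Spec.map φ))).map (u i))).app (op V) t) = 0
    rw [ht i, map_zero]
  letI : Algebra Γ(X, U) Γ(pullback p (Spec.map φ),
      pullback.fst p (Spec.map φ) ⁻¹ᵁ U ⊓ pullback.snd p (Spec.map φ) ⁻¹ᵁ ⊤) :=
    ((pullback.fst p (Spec.map φ)).appLE U _ inf_le_left).hom.toAlgebra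
  haveI := hV''.isLocalization_basicOpen c
  have hHR := HRmod_main A A' φ p F G hG u hfg hU
  have hσ := FieldSepE.sep_extendScalars_loc c ((pullback.fst p (Spec.map φ)).appLE U _ e).hom
    (congr($(Scheme.Hom.appLE_map (pullback.fst p (Spec.map φ)) (inf_le_left :
      pullback.fst p (Spec.map φ) ⁻¹ᵁ U ⊓ pullback.snd p (Spec.map φ) ⁻¹ᵁ ⊤ ≤ _)
      (homOfLE hV'V'').op).hom).symm)
    (fun i => (secF hU).map (u i)) hHR
    ((secFPullbackIso (pullback.fst p (Spec.map φ)) hU hV' e F).hom.hom τ) (by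
      intro i
      have hn := ArtSepB.secFPullbackIso_naturality (pullback.fst p (Spec.map φ)) hU hV' e (u i)
      have hn' := congrArg (fun ψ => ψ.hom τ) hn
      simp only [ModuleCat.hom_comp, LinearMap.comp_apply] at hn'
      rw [← hn', hτi i, map_zero])
  have hinj : Function.Injective
      (secFPullbackIso (pullback.fst p (Spec.map φ)) hU hV' e F).hom.hom :=
    ((ModuleCat.mono_iff_injective _).mp inferInstance)
  exact hinj (hσ.trans (map_zero _).symm)

end Groth.Agent.Lead.SubalgSepB
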