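import Mathlib
import Groth.Agent.Lead.AdicSepC
import Groth.Agent.Lead.SubalgSepB

set_option autoImplicit false
universe u
open TensorProduct CategoryTheory AlgebraicGeometry Limits Opposite

namespace Groth.Agent.Lead.FibSepA

open Scheme.Modules Groth.Agent.Helper8.TildeBC Groth.Agent.Lead.ModDict Groth.Agent.Helper4

/-- Sections of `X ×_S S'` over the "box" defined by affine opens. -/
theorem exists_equiv_gen {X S S' : Scheme.{u}} (p : X ⟶ S) (g : S' ⟶ S)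
    {S₀ : S.Opens} (hS₀ : IsAffineOpen S₀) {S'₀ : S'.Opens} (hS'₀ : IsAffineOpen S'₀)
    (hS' : S'₀ ≤ g ⁻¹ᵁ S₀) {U : X.Opens} (hU : IsAffineOpen U) (hUS : U ≤ p ⁻¹ᵁ S₀) :
    letI : Algebra Γ(X, U) Γ(pullback p g,
        pullback.fst p g ⁻¹ᵁ U ⊓ pullback.snd p g ⁻¹ᵁ S'₀) :=
      ((pullback.fst p g).appLE U _ inf_le_left).hom.toAlgebra
    letI : Algebra Γ(S, S₀) Γ(X, U) := (p.appLE S₀ U hUS).hom.toAlgebra
    letI : Algebra Γ(S, S₀) Γ(S', S'₀) := (g.appLE S₀ S'₀ hS').hom.toAlgebra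
    Nonempty (Γ(X, U) ⊗[Γ(S, S₀)] Γ(S', S'₀) ≃ₐ[Γ(X, U)]
      Γ(pullback p g, pullback.fst p g ⁻¹ᵁ U ⊓ pullback.snd p g ⁻¹ᵁ S'₀)) := by
  have Hp := IsPullback.of_hasPullback p g
  letI : Algebra Γ(X, U) Γ(pullback p g,
      pullback.fst p g ⁻¹ᵁ U ⊓ pullback.snd p g ⁻¹ᵁ S'₀) :=
    ((pullback.fst p g).appLE U _ inf_le_left).hom.toAlgebra
  letI : Algebra Γ(S, S₀) Γ(X, U) := (p.appLE S₀ U hUS).hom.toAlgebra
  letI : Algebra Γ(S, S₀) Γ(S', S'₀) := (g.appLE S₀ S'₀ hS').hom.toAlgebra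
  have hiso := isIso_pushoutSection_of_isAffineOpen Hp (US := S₀) (UT := S'₀) (UX := U) hS' hUS
    (UY := pullback.fst p g ⁻¹ᵁ U ⊓ pullback.snd p g ⁻¹ᵁ S'₀) rfl hS₀ hS'₀ hU
  have hpo := (isIso_pushoutSection_iff Hp hS' hUS rfl).mp hiso
  letI : Algebra Γ(S', S'₀) Γ(pullback p g,
      pullback.fst p g ⁻¹ᵁ U ⊓ pullback.snd p g ⁻¹ᵁ S'₀) :=
    ((pullback.snd p g).appLE S'₀ _ inf_le_right).hom.toAlgebra
  letI : Algebra Γ(S, S₀) Γ(pullback p g,
      pullback.fst p g ⁻¹ᵁ U ⊓ pullback.snd p g ⁻¹ᵁ S'₀) :=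
    (((pullback.fst p g).appLE U _ inf_le_left).hom.comp (p.appLE S₀ U hUS).hom).toAlgebra
  haveI : IsScalarTower Γ(S, S₀) Γ(X, U) Γ(pullback p g,
      pullback.fst p g ⁻¹ᵁ U ⊓ pullback.snd p g ⁻¹ᵁ S'₀) :=
    .of_algebraMap_eq' rfl
  haveI : IsScalarTower Γ(S, S₀) Γ(S', S'₀) Γ(pullback p g,
      pullback.fst p g ⁻¹ᵁ U ⊓ pullback.snd p g ⁻¹ᵁ S'₀) :=
    .of_algebraMap_eq' (congr($(hpo.w).hom))
  haveI hP : Algebra.IsPushout Γ(S, S₀) Γ(X, U) Γ(S', S'₀) Γ(pullback p g,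
      pullback.fst p g ⁻¹ᵁ U ⊓ pullback.snd p g ⁻¹ᵁ S'₀) :=
    CommRingCat.isPushout_iff_isPushout.mp hpo
  exact ⟨Algebra.IsPushout.equiv Γ(S, S₀) Γ(X, U) Γ(S', S'₀) Γ(pullback p g,
      pullback.fst p g ⁻¹ᵁ U ⊓ pullback.snd p g ⁻¹ᵁ S'₀)⟩

set_option backward.isDefEq.respectTransparency false in
/-- Sections over an affine open of a module flat over `S` are flat over the sections of an
affine open of `S`. -/
theorem flat_secF_gen {X S : Scheme.{u}} (p : X ⟶ S) (G : X.Modules)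
    [G.IsQuasicoherent] (hG : FlatMod.IsFlatOver p G) {S₀ : S.Opens} (hS₀ : IsAffineOpen S₀)
    {U : X.Opens} (hU : IsAffineOpen U) (hUS : U ≤ p ⁻¹ᵁ S₀) :
    letI : Algebra Γ(S, S₀) Γ(X, U) := (p.appLE S₀ U hUS).hom.toAlgebra
    letI : Module Γ(S, S₀) ((secF hU).obj G) := Module.compHom _ (algebraMap Γ(S, S₀) Γ(X, U))
    Module.Flat Γ(S, S₀) ((secF hU).obj G) := by
  letI : Algebra Γ(S, S₀) Γ(X, U) := (p.appLE S₀ U hUS).hom.toAlgebra
  letI m2 : Module Γ(S, S₀) ((secF hU).obj G) :=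
    Module.compHom _ (algebraMap Γ(S, S₀) Γ(X, U))
  have h1 := (Groth.Agent.Helper5.AffFlat.flat_sections_iff p G hS₀ hU hUS).mp
    (fun x _ => hG x)
  letI m0 : Module Γ(S, S₀) Γ(G, U) := Module.compHom _ (p.appLE S₀ U hUS).hom
  let e : Γ(G, U) ≃ₗ[Γ(S, S₀)] (secF hU).obj G :=
    { (StalkPull.secFEquiv hU G).toAddEquiv with
      map_smul' := fun r m => (StalkPull.secFEquiv hU G).map_smul _ m }
  exact Module.Flat.of_linearEquiv e.symm

theorem top_le_preimage_fromSpecResidueField {S : Scheme.{u}} {S₀ : S.Opens} {s : S}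
    (hs : s ∈ S₀) : (⊤ : (Spec (S.residueField s)).Opens) ≤ (S.fromSpecResidueField s) ⁻¹ᵁ S₀ := by
  intro x _
  change (S.fromSpecResidueField s) x ∈ S₀
  rw [Scheme.fromSpecResidueField_apply]
  exact hs

theorem appLE_top_top {X Y : Scheme.{u}} (f : X ⟶ Y) (e : (⊤ : X.Opens) ≤ f ⁻¹ᵁ ⊤) :
    f.appLE ⊤ ⊤ e = f.appTop := by
  rw [Scheme.Hom.appTop, Scheme.Hom.app_eq_appLE]
  rfl

/-- A field-valued point of an affine open factors through the residue field of its image. -/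
theorem field_point {S : Scheme.{u}} {S₀ : S.Opens} (hS₀ : IsAffineOpen S₀)
    (K : Type u) [Field K] [Algebra Γ(S, S₀) K] :
    ∃ (s : S) (hs : s ∈ S₀) (φ : S.residueField s ⟶ CommRingCat.of K),
      CommRingCat.ofHom (algebraMap Γ(S, S₀) K) =
        (S.fromSpecResidueField s).appLE S₀ ⊤ (top_le_preimage_fromSpecResidueField hs) ≫
          (Scheme.ΓSpecIso (S.residueField s)).hom ≫ φ := by
  set a : Γ(S, S₀) ⟶ CommRingCat.of K := CommRingCat.ofHom (algebraMap Γ(S, S₀) K) with ha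
  let q : Spec (CommRingCat.of K) ⟶ S := Spec.map a ≫ hS₀.fromSpec
  have hq : ∀ x, q x ∈ S₀ := by
    intro x
    have : (Spec.map a) x ∈ hS₀.fromSpec ⁻¹ᵁ S₀ := by
      rw [hS₀.fromSpec_preimage_self]; trivial
    exact this
  have hfac := Scheme.descResidueField_stalkClosedPointTo_fromSpecResidueField K S q
  obtain ⟨s, hs⟩ : ∃ s : S, s = q (IsLocalRing.closedPoint K) := ⟨_, rfl⟩
  obtain ⟨φ, hφ⟩ : ∃ φ : S.residueField s ⟶ CommRingCat.of K,
      Spec.map φ ≫ S.fromSpecResidueField s = q := by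
    subst hs
    exact ⟨_, hfac⟩
  have hsS₀ : s ∈ S₀ := hs ▸ hq _
  refine ⟨s, hsS₀, φ, ?_⟩
  have htop : (⊤ : (Spec (CommRingCat.of K)).Opens) ≤ q ⁻¹ᵁ S₀ := fun x _ => hq x
  have h1 : q.appLE S₀ ⊤ htop ≫ (Scheme.ΓSpecIso (CommRingCat.of K)).hom = a := by
    simp only [q, Scheme.Hom.comp_appLE, IsAffineOpen.fromSpec_app_self, Category.assoc,
      Scheme.Hom.map_appLE]
    rw [appLE_top_top, Scheme.ΓSpecIso_naturality]
    simp
  have h2 : q.appLE S₀ ⊤ htop ≫ (Scheme.ΓSpecIso (CommRingCat.of K)).hom =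
      (S.fromSpecResidueField s).appLE S₀ ⊤ (top_le_preimage_fromSpecResidueField hsS₀) ≫
          (Scheme.ΓSpecIso (S.residueField s)).hom ≫ φ := by
    have h4 : q.appLE S₀ ⊤ htop = (Spec.map φ ≫ S.fromSpecResidueField s).appLE S₀ ⊤
        (by rw [hφ]; exact htop) := by
      congr 1
      exact hφ.symm
    have h5 : (Spec.map φ ≫ S.fromSpecResidueField s).appLE S₀ ⊤ (by rw [hφ]; exact htop) =
        (S.fromSpecResidueField s).appLE S₀ ⊤ (top_le_preimage_fromSpecResidueField hsS₀) ≫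
          (Spec.map φ).appLE ⊤ ⊤ le_top := by
      rw [Scheme.Hom.appLE_comp_appLE]
    rw [h4, h5, appLE_top_top, Category.assoc, Scheme.ΓSpecIso_naturality]
  rw [← h1, h2]

set_option backward.isDefEq.respectTransparency false in
/-- The fibrewise hypothesis gives property (H) after base change to any field. -/
theorem FH_geom {X S : Scheme.{u}} (p : X ⟶ S) (F : X.Modules) [F.IsQuasicoherent]
    {ι : Type u} (G : ι → X.Modules) [∀ i, (G i).IsQuasicoherent] (u : ∀ i, F ⟶ G i)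
    (hfib : ∀ s : S, ∀ (V : (pullback p (S.fromSpecResidueField s)).Opens)
      (t : ↑(((Scheme.Modules.pullback (pullback.fst p (S.fromSpecResidueField s))).obj
        F).presheaf.obj (op V))),
      (∀ i, (Scheme.Modules.Hom.mapPresheaf ((Scheme.Modules.pullback
        (pullback.fst p (S.fromSpecResidueField s))).map (u i))).app (op V) t = 0) → t = 0)
    {S₀ : S.Opens} (hS₀ : IsAffineOpen S₀) {U : X.Opens} (hU : IsAffineOpen U)
    (hUS : U ≤ p ⁻¹ᵁ S₀) (K : Type u) [Field K] [Algebra Γ(S, S₀) K] :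
    letI : Algebra Γ(S, S₀) Γ(X, U) := (p.appLE S₀ U hUS).hom.toAlgebra
    FieldSepD.HRmod Γ(X, U) (fun i => ((secF hU).map (u i)).hom) (Γ(X, U) ⊗[Γ(S, S₀)] K) := by
  letI : Algebra Γ(S, S₀) Γ(X, U) := (p.appLE S₀ U hUS).hom.toAlgebra
  obtain ⟨s, hs, φ, hφ⟩ := field_point hS₀ K
  have Hp := IsPullback.of_hasPullback p (S.fromSpecResidueField s)
  have htop := top_le_preimage_fromSpecResidueField (S₀ := S₀) hs
  have hV' : IsAffineOpen (pullback.fst p (S.fromSpecResidueField s) ⁻¹ᵁ U ⊓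
      pullback.snd p (S.fromSpecResidueField s) ⁻¹ᵁ ⊤) :=
    FieldSepB.isAffineOpen_inf Hp htop hUS hS₀ (isAffineOpen_top _) hU
  letI : Algebra Γ(X, U) Γ(pullback p (S.fromSpecResidueField s),
      pullback.fst p (S.fromSpecResidueField s) ⁻¹ᵁ U ⊓
        pullback.snd p (S.fromSpecResidueField s) ⁻¹ᵁ ⊤) :=
    ((pullback.fst p (S.fromSpecResidueField s)).appLE U _ inf_le_left).hom.toAlgebra
  have h1 := SubalgSepB.HRmod_of_sep (pullback.fst p (S.fromSpecResidueField s)) F G u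
    (hfib s) hU hV' inf_le_left
  letI : Algebra Γ(S, S₀) Γ(Spec (S.residueField s), ⊤) :=
    ((S.fromSpecResidueField s).appLE S₀ ⊤ htop).hom.toAlgebra
  obtain ⟨eq⟩ := exists_equiv_gen p (S.fromSpecResidueField s) hS₀ (isAffineOpen_top _) htop
    hU hUS
  have h2 := FieldSepD.HRmod_of_equiv (fun i => ((secF hU).map (u i)).hom) eq.symm h1
  have hfield : IsField Γ(Spec (S.residueField s), ⊤) :=
    MulEquiv.isField (Field.toIsField (S.residueField s))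
      (Scheme.ΓSpecIso (S.residueField s)).commRingCatIsoToRingEquiv.toMulEquiv
  letI : Field Γ(Spec (S.residueField s), ⊤) := hfield.toField
  letI : Algebra Γ(Spec (S.residueField s), ⊤) K :=
    ((Scheme.ΓSpecIso (S.residueField s)).hom ≫ φ).hom.toAlgebra
  haveI : IsScalarTower Γ(S, S₀) Γ(Spec (S.residueField s), ⊤) K :=
    .of_algebraMap_eq' (congr($(hφ).hom))
  exact AdicSepC.HRmod_fieldext' (fun i => ((secF hU).map (u i)).hom)
    Γ(Spec (S.residueField s), ⊤) K h2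

end Groth.Agent.Lead.FibSepA
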