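import Mathlib
import Groth.Agent.Lead.FibSepA
import Groth.Agent.Lead.FieldSepC

set_option autoImplicit false
universe u
open TensorProduct CategoryTheory AlgebraicGeometry Limits Opposite

namespace Groth.Agent.Lead.FibSepC

open FieldSepB FibSepA

section conv
variable (A : Type u) [CommRing A] {J : Type*} (N : J → Type u) [∀ j, CommRing (N j)]
  [∀ j, Algebra A (N j)]

theorem HR_of_HRmod (R : Type u) [CommRing R] [Algebra A R]
    (h : FieldSepD.HRmod A (fun j => Algebra.linearMap A (N j)) R) : FieldSepA.HR A N R := by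
  intro c τ hτ
  obtain ⟨n, hn⟩ := h c (τ ⊗ₜ[A] (1 : A)) (fun j => by
    obtain ⟨n, hn⟩ := hτ j
    refine ⟨n, ?_⟩
    rw [LinearMap.lTensor_tmul, Algebra.linearMap_apply, map_one, TensorProduct.smul_tmul',
      smul_eq_mul]
    exact hn)
  refine ⟨n, ?_⟩
  rw [TensorProduct.smul_tmul', smul_eq_mul] at hn
  have := congrArg (TensorProduct.rid A R) hn
  simpa using this

theorem HRmod_of_HR (R : Type u) [CommRing R] [Algebra A R]
    (h : FieldSepA.HR A N R) : FieldSepD.HRmod A (fun j => Algebra.linearMap A (N j)) R := by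
  intro c τ' hτ'
  obtain ⟨τ, rfl⟩ : ∃ τ : R, τ' = τ ⊗ₜ[A] (1 : A) :=
    ⟨TensorProduct.rid A R τ', ((TensorProduct.rid A R).symm_apply_apply τ').symm⟩
  obtain ⟨n, hn⟩ := h c τ (fun j => by
    obtain ⟨n, hn⟩ := hτ' j
    refine ⟨n, ?_⟩
    rw [LinearMap.lTensor_tmul, Algebra.linearMap_apply, map_one, TensorProduct.smul_tmul',
      smul_eq_mul] at hn
    exact hn)
  refine ⟨n, ?_⟩
  rw [TensorProduct.smul_tmul', smul_eq_mul, hn, TensorProduct.zero_tmul]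

end conv

section geo
variable {X : Scheme.{u}} {ι : Type u} {Z : ι → Scheme.{u}}

/-- A schematically dominant pulled-back family has the tensor form of property (H). -/
theorem geoC {X' : Scheme.{u}} {P : ι → Scheme.{u}}
    (f : ∀ i, Z i ⟶ X) (g : X' ⟶ X) (a : ∀ i, P i ⟶ Z i) (b : ∀ i, P i ⟶ X')
    (sq : ∀ i, IsPullback (a i) (b i) (f i) g)
    (hdom : ∀ (V : X'.Opens) (t : Γ(X', V)), (∀ i, (b i).app V t = 0) → t = 0)
    {U : X.Opens} {V'' : X'.Opens} (hU : IsAffineOpen U) (hV'' : IsAffineOpen V'')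
    (e : V'' ≤ g ⁻¹ᵁ U) :
    letI := algN f U
    letI : Algebra Γ(X, U) Γ(X', V'') := (g.appLE U V'' e).hom.toAlgebra
    FieldSepA.HR Γ(X, U) (Nfam f U) Γ(X', V'') := by
  letI := algN f U
  letI : Algebra Γ(X, U) Γ(X', V'') := (g.appLE U V'' e).hom.toAlgebra
  intro c τ hk
  apply exists_pow_mul_eq_zero_of_res_basicOpen_eq_zero_of_isAffineOpen X' hV'' τ c
  change X'.presheaf.map (homOfLE (X'.basicOpen_le c)).op τ = 0
  apply hdom (X'.basicOpen c)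
  intro i
  refine (P i).IsSheaf.section_ext fun z hz => ?_
  have hzV'' : (b i) z ∈ V'' := X'.basicOpen_le c hz
  have hfz : (f i) ((a i) z) ∈ U := by
    have h1 : (f i) ((a i) z) = g ((b i) z) := by
      rw [← Scheme.Hom.comp_apply, ← Scheme.Hom.comp_apply, (sq i).w]
    rw [h1]
    exact e hzV''
  obtain ⟨_, ⟨W, hW, rfl⟩, hzW, hWle⟩ :=
    (Z i).isBasis_affineOpens.exists_subset_of_mem_open
      (show (a i) z ∈ (((f i) ⁻¹ᵁ U : (Z i).Opens) : Set (Z i)) from hfz) ((f i) ⁻¹ᵁ U).isOpen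
  have hWU : W ≤ (f i) ⁻¹ᵁ U := hWle
  have hO : a i ⁻¹ᵁ W ⊓ b i ⁻¹ᵁ X'.basicOpen c ≤ b i ⁻¹ᵁ X'.basicOpen c := inf_le_right
  refine ⟨a i ⁻¹ᵁ W ⊓ b i ⁻¹ᵁ X'.basicOpen c, hO, ⟨hzW, hz⟩, ?_⟩
  rw [map_zero]
  obtain ⟨n, hn⟩ := hk ⟨i, W, hW, hWU⟩
  have Hp := sq i
  have hiso := isIso_pushoutSection_of_isAffineOpen Hp (US := U) (UT := V'') (UX := W) e hWU
    (UY := a i ⁻¹ᵁ W ⊓ b i ⁻¹ᵁ V'') rfl hU hV'' hW
  have hpo := (isIso_pushoutSection_iff Hp e hWU rfl).mp hiso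
  letI : Algebra Γ(Z i, W) Γ(P i, a i ⁻¹ᵁ W ⊓ b i ⁻¹ᵁ V'') :=
    ((a i).appLE W _ inf_le_left).hom.toAlgebra
  letI : Algebra Γ(X', V'') Γ(P i, a i ⁻¹ᵁ W ⊓ b i ⁻¹ᵁ V'') :=
    ((b i).appLE V'' _ inf_le_right).hom.toAlgebra
  letI : Algebra Γ(X, U) Γ(P i, a i ⁻¹ᵁ W ⊓ b i ⁻¹ᵁ V'') :=
    (((a i).appLE W _ inf_le_left).hom.comp ((f i).appLE U W hWU).hom).toAlgebra
  letI : Algebra Γ(X, U) Γ(Z i, W) := ((f i).appLE U W hWU).hom.toAlgebra
  haveI : IsScalarTower Γ(X, U) Γ(Z i, W) Γ(P i, a i ⁻¹ᵁ W ⊓ b i ⁻¹ᵁ V'') :=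
    .of_algebraMap_eq' rfl
  haveI : IsScalarTower Γ(X, U) Γ(X', V'') Γ(P i, a i ⁻¹ᵁ W ⊓ b i ⁻¹ᵁ V'') :=
    .of_algebraMap_eq' (congr($(hpo.w).hom))
  have hP : Algebra.IsPushout Γ(X, U) Γ(Z i, W) Γ(X', V'')
      Γ(P i, a i ⁻¹ᵁ W ⊓ b i ⁻¹ᵁ V'') :=
    CommRingCat.isPushout_iff_isPushout.mp hpo
  have hP' := hP.symm
  have h1 := congrArg hP'.out.equiv hn
  rw [IsBaseChange.equiv_tmul, map_zero, AlgHom.toLinearMap_apply, map_one, Algebra.smul_def,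
    mul_one] at h1
  have h1' : (b i).appLE V'' (a i ⁻¹ᵁ W ⊓ b i ⁻¹ᵁ V'') inf_le_right (c ^ n * τ) = 0 := h1
  have hDV'' : X'.basicOpen c ≤ V'' := X'.basicOpen_le c
  have hOY : a i ⁻¹ᵁ W ⊓ b i ⁻¹ᵁ X'.basicOpen c ≤ a i ⁻¹ᵁ W ⊓ b i ⁻¹ᵁ V'' :=
    inf_le_inf_left _ ((b i).preimage_mono hDV'')
  have hOV'' : a i ⁻¹ᵁ W ⊓ b i ⁻¹ᵁ X'.basicOpen c ≤ b i ⁻¹ᵁ V'' := hOY.trans inf_le_right
  have h2 : (b i).appLE V'' (a i ⁻¹ᵁ W ⊓ b i ⁻¹ᵁ X'.basicOpen c) hOV'' (c ^ n * τ) = 0 := by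
    have := congrArg ((P i).presheaf.map (homOfLE hOY).op) h1'
    rw [map_zero, ← CommRingCat.comp_apply, Scheme.Hom.appLE_map] at this
    exact this
  have h3 : (b i).appLE V'' (a i ⁻¹ᵁ W ⊓ b i ⁻¹ᵁ X'.basicOpen c) hOV'' =
      X'.presheaf.map (homOfLE hDV'').op ≫
        (b i).appLE (X'.basicOpen c) (a i ⁻¹ᵁ W ⊓ b i ⁻¹ᵁ X'.basicOpen c) hO := by
    rw [Scheme.Hom.map_appLE]
  have hunit : IsUnit ((b i).appLE V'' (a i ⁻¹ᵁ W ⊓ b i ⁻¹ᵁ X'.basicOpen c) hOV'' c) := by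
    rw [h3]
    exact (RingedSpace.isUnit_res_basicOpen _ c).map
      ((b i).appLE (X'.basicOpen c) (a i ⁻¹ᵁ W ⊓ b i ⁻¹ᵁ X'.basicOpen c) hO).hom
  rw [map_mul, map_pow] at h2
  have h4 : (b i).appLE V'' (a i ⁻¹ᵁ W ⊓ b i ⁻¹ᵁ X'.basicOpen c) hOV'' τ = 0 :=
    ((hunit.pow n).mul_right_eq_zero).mp h2
  rw [h3] at h4
  exact h4

end geo

/-- The fibre map of the prelude is the base-change map. -/
theorem fiberMap_eq {X Y S : Scheme.{u}} (f : X ⟶ Y) (p : Y ⟶ S) (s : S) :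
    MoreMor.fiberMap f p s =
      pullback.map (f ≫ p) (S.fromSpecResidueField s) p (S.fromSpecResidueField s) f
        (𝟙 _) (𝟙 S) (Category.comp_id _) ((Category.comp_id _).trans (Category.id_comp _).symm) := by
  apply pullback.hom_ext
  · exact (pullback.lift_fst _ _ _).trans (pullback.lift_fst _ _ _).symm
  · exact (pullback.lift_snd _ _ _).trans
      ((pullback.lift_snd _ _ _).trans (Category.comp_id _)).symm

set_option backward.isDefEq.respectTransparency false in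
/-- Ring version of `FibSepA.FH_geom`. -/
theorem FH_geom_ring {X S : Scheme.{u}} (p : X ⟶ S) {ι : Type u} (Z : ι → Scheme.{u})
    (f : ∀ i, Z i ⟶ X)
    (hfib : ∀ s : S, ∀ (V : (pullback p (S.fromSpecResidueField s)).Opens)
      (t : Γ(pullback p (S.fromSpecResidueField s), V)),
      (∀ i, (pullback.map (f i ≫ p) (S.fromSpecResidueField s) p (S.fromSpecResidueField s)
        (f i) (𝟙 _) (𝟙 S) (Category.comp_id _)
        ((Category.comp_id _).trans (Category.id_comp _).symm)).app V t = 0) → t = 0)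
    {S₀ : S.Opens} (hS₀ : IsAffineOpen S₀) {U : X.Opens} (hU : IsAffineOpen U)
    (hUS : U ≤ p ⁻¹ᵁ S₀) (K : Type u) [Field K] [Algebra Γ(S, S₀) K] :
    letI := algN f U
    letI : Algebra Γ(S, S₀) Γ(X, U) := (p.appLE S₀ U hUS).hom.toAlgebra
    FieldSepD.HRmod Γ(X, U) (fun j => Algebra.linearMap Γ(X, U) (Nfam f U j))
      (Γ(X, U) ⊗[Γ(S, S₀)] K) := by
  letI := algN f U
  letI : Algebra Γ(S, S₀) Γ(X, U) := (p.appLE S₀ U hUS).hom.toAlgebra
  obtain ⟨s, hs, φ, hφ⟩ := field_point hS₀ K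
  have Hp := IsPullback.of_hasPullback p (S.fromSpecResidueField s)
  have htop := top_le_preimage_fromSpecResidueField (S₀ := S₀) hs
  have hV' : IsAffineOpen (pullback.fst p (S.fromSpecResidueField s) ⁻¹ᵁ U ⊓
      pullback.snd p (S.fromSpecResidueField s) ⁻¹ᵁ ⊤) :=
    FieldSepB.isAffineOpen_inf Hp htop hUS hS₀ (isAffineOpen_top _) hU
  letI : Algebra Γ(X, U) Γ(pullback p (S.fromSpecResidueField s),
      pullback.fst p (S.fromSpecResidueField s) ⁻¹ᵁ U ⊓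
        pullback.snd p (S.fromSpecResidueField s) ⁻¹ᵁ ⊤) :=
    ((pullback.fst p (S.fromSpecResidueField s)).appLE U _ inf_le_left).hom.toAlgebra
  have h0 := geoC f (pullback.fst p (S.fromSpecResidueField s))
    (fun i => pullback.fst (f i ≫ p) (S.fromSpecResidueField s)) _
    (fun i => FieldSepC.sq p (S.fromSpecResidueField s) (f i)) (hfib s) hU hV' inf_le_left
  have h1 := HRmod_of_HR Γ(X, U) (Nfam f U) _ h0
  letI : Algebra Γ(S, S₀) Γ(Spec (S.residueField s), ⊤) :=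
    ((S.fromSpecResidueField s).appLE S₀ ⊤ htop).hom.toAlgebra
  obtain ⟨eq⟩ := exists_equiv_gen p (S.fromSpecResidueField s) hS₀ (isAffineOpen_top _) htop
    hU hUS
  have h2 := FieldSepD.HRmod_of_equiv (fun j => Algebra.linearMap Γ(X, U) (Nfam f U j))
    eq.symm h1
  have hfield : IsField Γ(Spec (S.residueField s), ⊤) :=
    MulEquiv.isField (Field.toIsField (S.residueField s))
      (Scheme.ΓSpecIso (S.residueField s)).commRingCatIsoToRingEquiv.toMulEquiv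
  letI : Field Γ(Spec (S.residueField s), ⊤) := hfield.toField
  letI : Algebra Γ(Spec (S.residueField s), ⊤) K :=
    ((Scheme.ΓSpecIso (S.residueField s)).hom ≫ φ).hom.toAlgebra
  haveI : IsScalarTower Γ(S, S₀) Γ(Spec (S.residueField s), ⊤) K :=
    .of_algebraMap_eq' (congr($(hφ).hom))
  exact AdicSepC.HRmod_fieldext' (fun j => Algebra.linearMap Γ(X, U) (Nfam f U j))
    Γ(Spec (S.residueField s), ⊤) K h2

set_option backward.isDefEq.respectTransparency false in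
/-- S4876, the nontrivial direction. -/
theorem main {X S : Scheme.{u}} [IsLocallyNoetherian X] (p : X ⟶ S) {ι : Type u}
    (Z : ι → Scheme.{u}) (f : ∀ i, Z i ⟶ X) [∀ i, Flat (f i ≫ p)]
    (hfib : ∀ s : S, ∀ (V : (pullback p (S.fromSpecResidueField s)).Opens)
      (t : Γ(pullback p (S.fromSpecResidueField s), V)),
      (∀ i, (pullback.map (f i ≫ p) (S.fromSpecResidueField s) p (S.fromSpecResidueField s)
        (f i) (𝟙 _) (𝟙 S) (Category.comp_id _)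
        ((Category.comp_id _).trans (Category.id_comp _).symm)).app V t = 0) → t = 0)
    (S' : Scheme.{u}) (g : S' ⟶ S) :
    ∀ (V : (pullback p g).Opens) (t : Γ(pullback p g, V)),
      (∀ i, (pullback.map (f i ≫ p) g p g (f i) (𝟙 S') (𝟙 S) (Category.comp_id _)
        ((Category.comp_id _).trans (Category.id_comp _).symm)).app V t = 0) → t = 0 := by
  apply geoA f (pullback.fst p g) (fun i => pullback.fst (f i ≫ p) g) _
    (fun i => FieldSepC.sq p g (f i))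
  intro x'
  obtain ⟨_, ⟨S₀, hS₀, rfl⟩, hsS₀, -⟩ := S.isBasis_affineOpens.exists_subset_of_mem_open
    (Set.mem_univ (g (pullback.snd p g x'))) isOpen_univ
  obtain ⟨_, ⟨S'₀, hS'₀, rfl⟩, hs'S'₀, hS'le⟩ :=
    S'.isBasis_affineOpens.exists_subset_of_mem_open
      (show pullback.snd p g x' ∈ ((g ⁻¹ᵁ S₀ : S'.Opens) : Set S') from hsS₀) (g ⁻¹ᵁ S₀).isOpen
  have hS' : S'₀ ≤ g ⁻¹ᵁ S₀ := hS'le
  have hxp : pullback.fst p g x' ∈ ((p ⁻¹ᵁ S₀ : X.Opens) : Set X) := by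
    change p (pullback.fst p g x') ∈ S₀
    have : p (pullback.fst p g x') = g (pullback.snd p g x') := by
      rw [← Scheme.Hom.comp_apply, ← Scheme.Hom.comp_apply, pullback.condition]
    rw [this]
    exact hsS₀
  obtain ⟨_, ⟨U, hU, rfl⟩, hxU, hUle⟩ := X.isBasis_affineOpens.exists_subset_of_mem_open
    hxp (p ⁻¹ᵁ S₀).isOpen
  have hUS : U ≤ p ⁻¹ᵁ S₀ := hUle
  have Hp := IsPullback.of_hasPullback p g
  have hV'' : IsAffineOpen (pullback.fst p g ⁻¹ᵁ U ⊓ pullback.snd p g ⁻¹ᵁ S'₀) :=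
    FieldSepB.isAffineOpen_inf Hp hS' hUS hS₀ hS'₀ hU
  refine ⟨U, pullback.fst p g ⁻¹ᵁ U ⊓ pullback.snd p g ⁻¹ᵁ S'₀, hU, hV'', inf_le_left,
    ⟨hxU, hs'S'₀⟩, ?_⟩
  apply geoB f (pullback.fst p g) (fun i => pullback.fst (f i ≫ p) g) _
    (fun i => FieldSepC.sq p g (f i)) hU hV'' inf_le_left
  letI := algN f U
  letI : Algebra Γ(X, U) Γ(pullback p g,
      pullback.fst p g ⁻¹ᵁ U ⊓ pullback.snd p g ⁻¹ᵁ S'₀) :=
    ((pullback.fst p g).appLE U _ inf_le_left).hom.toAlgebra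
  letI : Algebra Γ(S, S₀) Γ(X, U) := (p.appLE S₀ U hUS).hom.toAlgebra
  letI : Algebra Γ(S, S₀) Γ(S', S'₀) := (g.appLE S₀ S'₀ hS').hom.toAlgebra
  have hjS : ∀ j : Jidx f U, j.2.1 ≤ (f j.1 ≫ p) ⁻¹ᵁ S₀ := fun j =>
    j.2.2.2.trans ((f j.1).preimage_mono hUS)
  letI algAN : ∀ j : Jidx f U, Algebra Γ(S, S₀) (Nfam f U j) := fun j =>
    ((f j.1 ≫ p).appLE S₀ j.2.1 (hjS j)).hom.toAlgebra
  haveI : ∀ j : Jidx f U, IsScalarTower Γ(S, S₀) Γ(X, U) (Nfam f U j) := fun j =>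
    .of_algebraMap_eq' (by
      change ((f j.1 ≫ p).appLE S₀ j.2.1 (hjS j)).hom =
        ((f j.1).appLE U j.2.1 j.2.2.2).hom.comp (p.appLE S₀ U hUS).hom
      rw [← CommRingCat.hom_comp, Scheme.Hom.appLE_comp_appLE])
  haveI : ∀ j : Jidx f U, Module.Flat Γ(S, S₀) (Nfam f U j) := fun j =>
    (f j.1 ≫ p).flat_appLE hS₀ j.2.2.1 (hjS j)
  haveI : IsNoetherianRing Γ(X, U) := IsLocallyNoetherian.component_noetherian ⟨U, hU⟩
  obtain ⟨eq⟩ := exists_equiv_gen p g hS₀ hS'₀ hS' hU hUS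
  refine FieldSepA.HR_of_equiv (Nfam f U) eq ?_
  apply HR_of_HRmod
  exact AdicSepC.alg_main (fun j => Algebra.linearMap Γ(X, U) (Nfam f U j))
    (fun K _ _ => FH_geom_ring p Z f hfib hS₀ hU hUS K) Γ(S', S'₀)

end Groth.Agent.Lead.FibSepC
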