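import Mathlib
import Groth.Agent.S19656
import Groth.Agent.S17449
import Groth.Agent.S9765
import Groth.Agent.Helper3.SmFibOpen

set_option autoImplicit false
universe u
open CategoryTheory CategoryTheory.Limits AlgebraicGeometry

namespace Groth.Agent.Lead.PropSmGC

theorem maximal_of_isGenericPoint {T : Type*} [TopologicalSpace T] [T0Space T]
    (Z : Set T) (η : T) (hZ : Z ∈ irreducibleComponents T) (hη : IsGenericPoint η Z)
    (η' : T) (h : η' ⤳ η) : η' = η := by
  have h1 : Z ⊆ closure {η'} := by
    rw [← hη.def]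
    exact h.closure_subset  -- closure {η} ⊆ closure {η'}
  have hirr : IsIrreducible (closure ({η'} : Set T)) := isIrreducible_singleton.closure
  have h2 : closure ({η'} : Set T) ⊆ Z := hZ.2 hirr h1
  have h3 : closure ({η'} : Set T) = Z := le_antisymm h2 h1
  have : IsGenericPoint η' Z := h3
  exact this.eq hη

theorem result' {X S : Scheme.{u}} [IsLocallyNoetherian S] (f : X ⟶ S)
    [Surjective f] [Flat f] [IsSeparated f] [LocallyOfFinitePresentation f] [QuasiCompact f]
    (hsm : ∀ s : S, Smooth (f.fiberToSpecResidueField s))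
    (hpr : ∀ s : S, IsProper (f.fiberToSpecResidueField s))
    (hgen : ∀ η : S, (∀ η' : S, η' ⤳ η → η' = η) → GeometricallyConnected (f.fiberToSpecResidueField η)) :
    IsProper f ∧ Smooth f ∧ GeometricallyConnected f := by
  have hne : ∀ s : S, Nonempty ↥(f.fiber s) := by
    intro s
    obtain ⟨x, hx⟩ := f.surjective s
    have : x ∈ Set.range (f.fiberι s) := by
      rw [Scheme.Hom.range_fiberι]; exact hx
    obtain ⟨x', -⟩ := this
    exact ⟨x'⟩
  have hprop : IsProper f := by
    choose U hsU hU using fun s : S =>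
      haveI := hne s
      Groth.Agent.S19656.result f (fun η hη _ => hgen η hη) s (hpr s)
    have hcov : iSup U = ⊤ := by
      rw [eq_top_iff]
      intro s _
      exact TopologicalSpace.Opens.mem_iSup.mpr ⟨s, hsU s⟩
    exact (IsZariskiLocalAtTarget.iff_of_iSup_eq_top (P := @IsProper) U hcov).mpr hU
  have hsmooth : Smooth f := by
    rw [← Scheme.Hom.smoothLocus_eq_top_iff, eq_top_iff]
    rintro y -
    exact (Groth.Agent.Helper3.SmFibOpen.smooth_fiber_iff f (f y)).mp (hsm (f y)) y rfl
  refine ⟨hprop, hsmooth, ?_⟩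
  haveI := hprop
  haveI := hsmooth
  rw [GeometricallyConnected.iff_geometricallyConnected_fiber]
  intro s
  obtain ⟨_, ⟨U, hU, rfl⟩, hsU, -⟩ :=
    (S.isBasis_affineOpens).exists_subset_of_mem_open (Set.mem_univ s) isOpen_univ
  have hpb : IsPullback (f ⁻¹ᵁ U).ι (f ∣_ U) f (Scheme.Opens.ι U) :=
    (isPullback_morphismRestrict f U).flip
  have hset := Groth.Agent.S9765.result f (Scheme.Opens.ι U) (f ∣_ U) (f ⁻¹ᵁ U).ι hpb
  haveI : IsAffine (U : Scheme.{u}) := hU
  haveI : IsNoetherian (U : Scheme.{u}) := by
    haveI : IsLocallyNoetherian (U : Scheme.{u}) := inferInstance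
    exact { }
  haveI : Surjective (f ∣_ U) := MorphismProperty.of_isPullback (P := @Surjective) hpb inferInstance
  haveI : Smooth (f ∣_ U) := MorphismProperty.of_isPullback (P := @Smooth) hpb inferInstance
  have hall : GeometricallyConnected (f ∣_ U) := by
    apply Groth.Agent.S17449.result (f ∣_ U)
    intro Z η hZ hη
    refine ⟨?_, MorphismProperty.pullback_snd (P := @Smooth) _ _ inferInstance⟩
    have hmax : ∀ η' : S, η' ⤳ (Scheme.Opens.ι U) η → η' = (Scheme.Opens.ι U) η := by
      intro η' h
      have hη'U : η' ∈ U := U.isOpen.stableUnderGeneralization h η.2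
      have h' : (⟨η', hη'U⟩ : U) ⤳ η := by
        rw [subtype_specializes_iff]
        exact h
      have := maximal_of_isGenericPoint Z η hZ hη _ h'
      rw [← this]
      rfl
    have hm : η ∈ (Scheme.Opens.ι U) ⁻¹' {y : S | GeometricallyConnected (f.fiberToSpecResidueField y)} :=
      hgen _ hmax
    rw [← hset] at hm
    exact hm
  have hm : (⟨s, hsU⟩ : (U : Scheme.{u})) ∈ {y' : (U : Scheme.{u}) | GeometricallyConnected ((f ∣_ U).fiberToSpecResidueField y')} := by
    rw [GeometricallyConnected.iff_geometricallyConnected_fiber] at hall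
    exact hall _
  rw [hset] at hm
  exact hm

end Groth.Agent.Lead.PropSmGC
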