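import Mathlib
import Groth.Agent.Lead.PropSmGC
import Groth.Agent.Helper3.LscE

set_option autoImplicit false
universe u
open CategoryTheory CategoryTheory.Limits AlgebraicGeometry

namespace Groth.Agent.Lead.PropDvr

theorem result'
    (R : Type u) [CommRing R] [IsDomain R] [IsDiscreteValuationRing R]
    (X : Scheme.{u}) (f : X ⟶ Spec (CommRingCat.of R))
    [Flat f] [IsSeparated f] [LocallyOfFiniteType f] [QuasiCompact f]
    [IsProper (f.fiberToSpecResidueField (IsLocalRing.closedPoint R))]
    [Nonempty ↥(f.fiber (IsLocalRing.closedPoint R))]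
    [GeometricallyConnected (f.fiberToSpecResidueField (genericPoint ↥(Spec (CommRingCat.of R))))] :
    IsProper f ∧ GeometricallyConnected (f.fiberToSpecResidueField (IsLocalRing.closedPoint R)) := by
  have hmaxgen : ∀ η : ↥(Spec (CommRingCat.of R)),
      (∀ η' : ↥(Spec (CommRingCat.of R)), η' ⤳ η → η' = η) →
      η = genericPoint ↥(Spec (CommRingCat.of R)) := by
    intro η hη
    exact (hη _ (genericPoint_specializes η)).symm
  obtain ⟨U, hsU, hU⟩ := Groth.Agent.S19656.result f
    (fun η hη _ => by rw [hmaxgen η hη]; infer_instance)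
    (IsLocalRing.closedPoint R) inferInstance
  have hUtop : U = ⊤ := by
    rw [eq_top_iff]
    intro x _
    exact U.isOpen.stableUnderGeneralization (IsLocalRing.specializes_closedPoint x) hsU
  subst hUtop
  have hprop : IsProper f := by
    refine (IsZariskiLocalAtTarget.iff_of_iSup_eq_top (P := @IsProper)
      (fun _ : PUnit.{u+1} => (⊤ : (Spec (CommRingCat.of R)).Opens)) ?_).mpr (fun _ => hU)
    exact ciSup_const
  refine ⟨hprop, ?_⟩
  haveI := hprop
  haveI : Surjective f := by
    constructor
    intro s
    have hne : Nonempty ↥(f.fiber (genericPoint ↥(Spec (CommRingCat.of R)))) :=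
      (GeometricallyConnected.connectedSpace_of_subsingleton
        (f.fiberToSpecResidueField (genericPoint ↥(Spec (CommRingCat.of R))))).toNonempty
    obtain ⟨x'⟩ := hne
    have hx' : f.fiberι _ x' ∈ f ⁻¹' {genericPoint ↥(Spec (CommRingCat.of R))} := by
      rw [← Scheme.Hom.range_fiberι]; exact ⟨x', rfl⟩
    have hgr : genericPoint ↥(Spec (CommRingCat.of R)) ∈ Set.range f := ⟨_, hx'⟩
    have hcl : IsClosed (Set.range f) := f.isClosedMap.isClosed_range
    have : closure {genericPoint ↥(Spec (CommRingCat.of R))} ⊆ Set.range f :=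
      hcl.closure_subset_iff.mpr (Set.singleton_subset_iff.mpr hgr)
    rw [genericPoint_closure] at this
    exact this (Set.mem_univ s)
  haveI : GeometricallyConnected f := by
    apply Groth.Agent.Helper3.Lsc.geometricallyConnected_of_generic f
    intro Z η hZ hη
    have := hmaxgen η (fun η' h => Groth.Agent.Lead.PropSmGC.maximal_of_isGenericPoint Z η hZ hη η' h)
    rw [this]
    infer_instance
  infer_instance

end Groth.Agent.Lead.PropDvr
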