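import Groth.Agent.Lead.OmegaAlgA
import Groth.Agent.Lead.IdealModDict
import Groth.Agent.Lead.BCMap7
import Groth.Agent.Lead.StalkPull
import Groth.Agent.Helper4.QcohEpi
import Groth.Prelude.Def_Omega4
import Mathlib

/-!
# Lead: sections of the frozen sheaf of differentials on affine opens
-/

set_option autoImplicit false
open CategoryTheory CategoryTheory.Limits AlgebraicGeometry Opposite TopologicalSpace TensorProduct
universe u

namespace Groth.Agent.Lead.OmegaSecA
open Scheme.Modules Groth.Agent.Helper4 Groth.Agent.Lead.BCMap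

variable {X Y : Scheme.{u}} (f : X ⟶ Y)

section Affine
variable {U : X.Opens} (hU : IsAffineOpen U) {V : Y.Opens} (hV : IsAffineOpen V)
  (e : U ≤ f ⁻¹ᵁ V)

include hU hV e in
theorem isAffineOpen_diagNbhd : IsAffineOpen (OmegaSh.diagNbhd f U) := by
  have H : IsPullback (pullback.fst f f) (pullback.snd f f) f f := IsPullback.of_hasPullback f f
  haveI : IsAffine (V : Scheme.{u}) := hV
  haveI : IsAffine (U : Scheme.{u}) := hU
  exact .of_isIso (Scheme.Hom.isPullback_resLE H e e rfl).isoPullback.hom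

include hU hV in
theorem isPushout_diagNbhd :
    IsPushout (f.appLE V U e) (f.appLE V U e)
      ((pullback.fst f f).appLE U (OmegaSh.diagNbhd f U) inf_le_left)
      ((pullback.snd f f).appLE U (OmegaSh.diagNbhd f U) inf_le_right) := by
  have H : IsPullback (pullback.fst f f) (pullback.snd f f) f f := IsPullback.of_hasPullback f f
  haveI := isIso_pushoutSection_of_isAffineOpen H e e rfl hV hU hU
  exact (isIso_pushoutSection_iff H e e rfl).mp inferInstance

include hU hV in
/-- the ring isomorphism `O(U) ⊗_{O(V)} O(U) ≃ O(pr₁⁻¹U ∩ pr₂⁻¹U)` -/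
theorem exists_ringEquiv :
    letI := (f.appLE V U e).hom.toAlgebra
    ∃ ψ : Γ(X, U) ⊗[Γ(Y, V)] Γ(X, U) ≃+* Γ(pullback f f, OmegaSh.diagNbhd f U),
      (∀ s, ψ (s ⊗ₜ 1) = (pullback.fst f f).appLE U (OmegaSh.diagNbhd f U) inf_le_left s) ∧
      (∀ s, ψ (1 ⊗ₜ s) = (pullback.snd f f).appLE U (OmegaSh.diagNbhd f U) inf_le_right s) := by
  letI := (f.appLE V U e).hom.toAlgebra
  have H := isPushout_diagNbhd f hU hV e
  have H0 := CommRingCat.isPushout_tensorProduct Γ(Y, V) Γ(X, U) Γ(X, U)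
  let i := H0.isoIsPushout _ _ H
  refine ⟨i.commRingCatIsoToRingEquiv, ?_, ?_⟩
  · intro s
    have := H0.inl_isoIsPushout_hom _ _ H
    exact congr($this s)
  · intro s
    have := H0.inr_isoIsPushout_hom _ _ H
    exact congr($this s)

end Affine

section Main
variable {U : X.Opens}

theorem diag_appLE_appLE (p : pullback f f ⟶ X) (hp : pullback.diagonal f ≫ p = 𝟙 X)
    (e₁ : OmegaSh.diagNbhd f U ≤ p ⁻¹ᵁ U) (s : Γ(X, U)) :
    (pullback.diagonal f).appLE (OmegaSh.diagNbhd f U) U (OmegaSh.le_preimage_diagNbhd f U)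
      (p.appLE U (OmegaSh.diagNbhd f U) e₁ s) = s := by
  rw [← ConcreteCategory.comp_apply, Scheme.Hom.appLE_comp_appLE, OmegaSh.id_appLE_eq_id hp]
  rfl

theorem mem_ker_ideal_iff [QuasiSeparated f] (hW : IsAffineOpen (OmegaSh.diagNbhd f U))
    (t : Γ(pullback f f, OmegaSh.diagNbhd f U)) :
    t ∈ (pullback.diagonal f).ker.ideal ⟨OmegaSh.diagNbhd f U, hW⟩ ↔
      (pullback.diagonal f).appLE (OmegaSh.diagNbhd f U) U
        (OmegaSh.le_preimage_diagNbhd f U) t = 0 := by
  rw [Scheme.Hom.ker_apply, RingHom.mem_ker]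
  change (pullback.diagonal f).app (OmegaSh.diagNbhd f U) t = 0 ↔
    X.presheaf.map (homOfLE (OmegaSh.le_preimage_diagNbhd f U)).op
      ((pullback.diagonal f).app (OmegaSh.diagNbhd f U) t) = 0
  constructor
  · intro h
    rw [h, map_zero]
  · intro h
    have h2 : pullback.diagonal f ⁻¹ᵁ OmegaSh.diagNbhd f U ≤ U :=
      OmegaSh.diagonal_preimage_le f (le_refl _)
    have := congrArg (X.presheaf.map (homOfLE h2).op) h
    rw [OmegaSh.res_res, map_zero] at this
    simpa using this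

variable (hU : IsAffineOpen U) {V : Y.Opens} (hV : IsAffineOpen V) (e : U ≤ f ⁻¹ᵁ V)

include hU hV in
/-- **Sections of `Ω_{X/Y}` on affine opens are Kähler differentials**, compatibly with the
derivation. -/
theorem exists_sectionsEquiv [QuasiSeparated f] :
    letI := (f.appLE V U e).hom.toAlgebra
    ∃ ε : Γ(Omega.sheaf f, U) ≃ₗ[Γ(X, U)] Ω[Γ(X, U)⁄Γ(Y, V)],
      ∀ s : Γ(X, U), ε ((OmegaSh.dOmega f).app U s) =
        KaehlerDifferential.D Γ(Y, V) Γ(X, U) s := by
  letI algR := (f.appLE V U e).hom.toAlgebra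
  have hW := isAffineOpen_diagNbhd f hU hV e
  have e' := OmegaSh.le_preimage_diagNbhd f U
  let K := (pullback.diagonal f).ker
  obtain ⟨ρ, hρ, hb⟩ := exists_isBaseChange_pbSec (pullback.diagonal f) (ClSub.idealMod K) hW hU e'
  letI algT := ((pullback.diagonal f).appLE (OmegaSh.diagNbhd f U) U e').hom.toAlgebra
  letI modT : Module Γ(pullback f f, OmegaSh.diagNbhd f U)
      Γ((Scheme.Modules.pullback (pullback.diagonal f)).obj (ClSub.idealMod K), U) :=
    Module.compHom _ ((pullback.diagonal f).appLE (OmegaSh.diagNbhd f U) U e').hom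
  haveI tower : IsScalarTower Γ(pullback f f, OmegaSh.diagNbhd f U) Γ(X, U)
      Γ((Scheme.Modules.pullback (pullback.diagonal f)).obj (ClSub.idealMod K), U) :=
    IsScalarTower.of_compHom _ _ _
  obtain ⟨ψ, hψ₁, hψ₂⟩ := exists_ringEquiv f hU hV e
  let ι : Γ(ClSub.idealMod K, OmegaSh.diagNbhd f U) →ₗ[Γ(pullback f f, OmegaSh.diagNbhd f U)]
      Γ(pullback f f, OmegaSh.diagNbhd f U) :=
    { toFun := fun m => OmegaSh.fnSect _ _ ((ClSub.idealModι K).app (OmegaSh.diagNbhd f U) m)
      map_add' := fun a b => by rw [map_add, map_add]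
      map_smul' := fun t m => by
        rw [Scheme.Modules.Hom.app_smul]
        rfl }
  have hι : Function.Injective ι := by
    intro a b hab
    exact IdealModDict.idealModι_app_injective K _ hab
  have hrange : ∀ t : Γ(pullback f f, OmegaSh.diagNbhd f U),
      t ∈ LinearMap.range ι ↔ algebraMap Γ(pullback f f, OmegaSh.diagNbhd f U) Γ(X, U) t = 0 := by
    intro t
    have h1 := IdealModDict.exists_section_iff K ⟨OmegaSh.diagNbhd f U, hW⟩ t
    have h2 := mem_ker_ideal_iff f hW t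
    exact h1.trans h2
  have hδ₁ : ∀ s, algebraMap Γ(pullback f f, OmegaSh.diagNbhd f U) Γ(X, U) (ψ (s ⊗ₜ 1)) = s := by
    intro s
    rw [hψ₁]
    exact diag_appLE_appLE f _ (pullback.diagonal_fst f) _ s
  have hδ₂ : ∀ s, algebraMap Γ(pullback f f, OmegaSh.diagNbhd f U) Γ(X, U) (ψ (1 ⊗ₜ s)) = s := by
    intro s
    rw [hψ₂]
    exact diag_appLE_appLE f _ (pullback.diagonal_snd f) _ s
  obtain ⟨ε, hε⟩ := OmegaAlgA.exists_equiv ψ hδ₁ hδ₂ ι hι hrange ρ hb
  refine ⟨ε, fun s => ?_⟩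
  have h3 : (OmegaSh.dOmega f).app U s = ρ (OmegaSh.idealLift f U s) := by
    rw [hρ]
    rfl
  rw [h3]
  apply hε
  change OmegaSh.fnSect _ _ ((ClSub.idealModι K).app (OmegaSh.diagNbhd f U)
    (OmegaSh.idealLift f U s)) = _
  rw [OmegaSh.ι_idealLift, map_sub, hψ₁, hψ₂]
  rfl

end Main

end Groth.Agent.Lead.OmegaSecA
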