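import Mathlib
import Groth.Agent.Helper8.FFR
import Groth.Agent.Helper2.SerreLoc
import Groth.Agent.Lead.RegLocal

/-!
# Regular local rings are UFDs (Auslander–Buchsbaum)

Induction on the dimension: pick `x ∈ m \ m²`, which is prime; by Nagata's criterion it suffices
that `A_x` is a UFD; a height-one prime `P` of `A_x` is locally principal (induction hypothesis),
hence projective, hence stably free (finite free resolutions), hence principal (cofactor trick).
-/

set_option autoImplicit false
universe u
open IsLocalRing

namespace Groth.Agent.Lead.RegUFD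

section cofactor

variable {R : Type*} [CommRing R] {M N : Type*} [AddCommGroup M] [Module R M]
  [AddCommGroup N] [Module R N] {n : ℕ}

/-- copy of Mathlib's (private) `exteriorPower.cofactorLinear` -/
noncomputable def cofactorLinear (bN : Module.Basis (Fin n) R N) :
    M × N →ₗ[R] (M × N) [⋀^Fin n]→ₗ[R] M where
  toFun x := (bN.det.compLinearMap (LinearMap.snd R M N)).smulRight x.1
  map_add' x y := AlternatingMap.ext fun _ ↦ by simp
  map_smul' c x := AlternatingMap.ext fun _ ↦ by simp [smul_smul, mul_comm]

/-- copy of Mathlib's (private) `exteriorPower.cofactorToLeft` -/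
noncomputable def cofactorToLeft (bN : Module.Basis (Fin n) R N) :
    ⋀[R]^(n + 1) (M × N) →ₗ[R] M :=
  exteriorPower.alternatingMapLinearEquiv (AlternatingMap.alternatizeUncurryFin (cofactorLinear bN))

lemma cofactorToLeft_ιMulti_cons (bN : Module.Basis (Fin n) R N) (m : M) :
    cofactorToLeft bN (exteriorPower.ιMulti R (n + 1) (Fin.cons (m, 0) fun i ↦ (0, bN i))) = m := by
  simp [cofactorToLeft, cofactorLinear, AlternatingMap.alternatizeUncurryFin_apply,
    Fin.sum_univ_succ, Module.Basis.det_self]

/-- A finite stably free module which has rank one at some prime is a quotient of the ring. -/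
theorem exists_surjective_of_isStablyFree (R : Type u) [CommRing R] (M : Type*) [AddCommGroup M]
    [Module R M] [Module.Finite R M] [Module.IsStablyFree R M]
    (𝔭 : PrimeSpectrum R) (h1 : Module.rankAtStalk M 𝔭 = 1) :
    ∃ f : R →ₗ[R] M, Function.Surjective f := by
  have : Nontrivial R := 𝔭.nontrivial
  obtain ⟨N, _, _, _, _, _⟩ := Module.IsStablyFree.exist_free_prod R M
  let n := Module.finrank R N
  have hp : Module.finrank R (M × N) = n + 1 := by
    have heq := congr($(Module.rankAtStalk_prod M N) 𝔭)
    simp only [Module.rankAtStalk_eq_finrank_of_free, Pi.natCast_apply, Pi.add_apply, h1] at heq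
    grind
  let e : R ≃ₗ[R] ⋀[R]^(n + 1) (M × N) :=
    (Module.nonempty_linearEquiv_of_finrank_eq_one <| by
      simp [exteriorPower.finrank_eq, hp]).some
  let bN : Module.Basis (Fin n) R N := Module.finBasis R N
  refine ⟨cofactorToLeft bN ∘ₗ e.toLinearMap, fun x ↦
    ⟨e.symm (exteriorPower.ιMulti R (n + 1) (Fin.cons (x, 0) fun i ↦ (0, bN i))), ?_⟩⟩
  simp [cofactorToLeft_ιMulti_cons]

end cofactor

section locprin

variable {B : Type u} [CommRing B] [IsDomain B]

/-- localization of the ideal `P` at `Q`, as a submodule of `B_Q` -/
noncomputable abbrev locIdeal (P : Ideal B) (Q : Ideal B) [Q.IsPrime] :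
    Submodule (Localization.AtPrime Q) (Localization.AtPrime Q) :=
  Submodule.localized' (Localization.AtPrime Q) Q.primeCompl
    (Algebra.linearMap B (Localization.AtPrime Q)) P

theorem nonempty_equiv_of_isPrincipal (P : Ideal B) (hP : P ≠ ⊥) (Q : Ideal B) [Q.IsPrime]
    (h : (P.map (algebraMap B (Localization.AtPrime Q))).IsPrincipal) :
    Nonempty (Localization.AtPrime Q ≃ₗ[Localization.AtPrime Q] locIdeal P Q) := by
  obtain ⟨g, hg⟩ := h
  have hinj : Function.Injective (algebraMap B (Localization.AtPrime Q)) :=
    IsLocalization.injective _ Q.primeCompl_le_nonZeroDivisors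
  have hg0 : g ≠ 0 := by
    rintro rfl
    apply hP
    rw [← Ideal.map_eq_bot_iff_of_injective hinj, hg]
    simp
  have e1 := LinearEquiv.toSpanNonzeroSingleton (Localization.AtPrime Q)
    (Localization.AtPrime Q) g hg0
  have heq : Submodule.span (Localization.AtPrime Q) {g} = locIdeal P Q := by
    rw [locIdeal, Ideal.localized'_eq_map, hg]
  exact ⟨e1.trans (LinearEquiv.ofEq _ _ heq)⟩

theorem projective_of_locally_principal [IsNoetherianRing B] (P : Ideal B) (hP : P ≠ ⊥)
    (h : ∀ (Q : Ideal B) [Q.IsMaximal],
      (P.map (algebraMap B (Localization.AtPrime Q))).IsPrincipal) :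
    Module.Projective B P := by
  have : Module.FinitePresentation B P := Module.finitePresentation_of_finite B P
  refine Module.projective_of_localization_maximal'
    (Rₚ := fun Q _ => Localization.AtPrime Q) (Mₚ := fun Q _ => locIdeal P Q)
    (f := fun Q _ => Submodule.toLocalized' (Localization.AtPrime Q) Q.primeCompl
      (Algebra.linearMap B (Localization.AtPrime Q)) P) ?_
  intro Q hQ
  obtain ⟨e⟩ := nonempty_equiv_of_isPrincipal P hP Q (h Q)
  exact Module.Projective.of_equiv e

theorem rankAtStalk_eq_one (P : Ideal B) (hP : P ≠ ⊥) (Q : PrimeSpectrum B)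
    (h : (P.map (algebraMap B (Localization.AtPrime Q.asIdeal))).IsPrincipal) :
    Module.rankAtStalk P Q = 1 := by
  obtain ⟨e⟩ := nonempty_equiv_of_isPrincipal P hP Q.asIdeal h
  let e₀ := IsLocalizedModule.linearEquiv Q.asIdeal.primeCompl
    (LocalizedModule.mkLinearMap Q.asIdeal.primeCompl P)
    (Submodule.toLocalized' (Localization.AtPrime Q.asIdeal) Q.asIdeal.primeCompl
      (Algebra.linearMap B (Localization.AtPrime Q.asIdeal)) P)
  let e₁ := LinearEquiv.extendScalarsOfIsLocalization Q.asIdeal.primeCompl
    (Localization.AtPrime Q.asIdeal) e₀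
  rw [Module.rankAtStalk, (e₁.trans e.symm).finrank_eq, Module.finrank_self]

end locprin

section main

/-- the localization of a height-one prime of a domain `B` at a prime `Q` with `B_Q` a UFD is
principal -/
theorem isPrincipal_map_of_ufd {B : Type u} [CommRing B] [IsDomain B] (P : Ideal B) [hP : P.IsPrime]
    (h1 : P.height = 1) (Q : Ideal B) [Q.IsPrime]
    [UniqueFactorizationMonoid (Localization.AtPrime Q)] :
    (P.map (algebraMap B (Localization.AtPrime Q))).IsPrincipal := by
  by_cases hd : Disjoint (Q.primeCompl : Set B) (P : Set B)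
  · have hpr : (P.map (algebraMap B (Localization.AtPrime Q))).IsPrime :=
      IsLocalization.isPrime_of_isPrime_disjoint Q.primeCompl _ P hP hd
    apply UniqueFactorizationMonoid.isPrincipal_of_height_eq_one
    rw [← IsLocalization.height_under Q.primeCompl,
      IsLocalization.under_map_of_isPrime_disjoint Q.primeCompl _ hP hd, h1]
  · have : P.map (algebraMap B (Localization.AtPrime Q)) = ⊤ := by
      by_contra hne
      exact hd ((IsLocalization.map_algebraMap_ne_top_iff_disjoint Q.primeCompl _ P).mp hne)
    rw [this]
    exact top_isPrincipal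

theorem ufd_of_dim : ∀ (n : ℕ) (A : Type u) [CommRing A] [IsRegularLocalRing A],
    ringKrullDim A = n → UniqueFactorizationMonoid A := by
  intro n
  induction n using Nat.strong_induction_on with
  | _ n ih =>
  intro A _ _ hn
  have hdom : IsDomain A := RegLocal.isDomain_of_isRegularLocalRing A
  by_cases hdim : ringKrullDim A ≤ 0
  · apply UniqueFactorizationMonoid.of_forall_isPrincipal_of_height_eq_one
    intro p hp h1
    exfalso
    have h2 : (p.height : WithBot ℕ∞) ≤ ringKrullDim A :=
      Ideal.height_le_ringKrullDim_of_ne_top hp.ne_top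
    rw [h1] at h2
    have h3 := h2.trans hdim
    norm_cast at h3
  · obtain ⟨x, hxm, hx2, -⟩ := RegLocal.exists_mem_notMem_sq_minimalPrimes hdim
    obtain ⟨hreg, -, -⟩ := RegLocal.quotient_isRegularLocalRing hxm hx2
    have hqdom : IsDomain (A ⧸ Ideal.span {x}) := RegLocal.isDomain_of_isRegularLocalRing _
    have hx0 : x ≠ 0 := by
      rintro rfl
      exact hx2 (Ideal.zero_mem _)
    have hxprime : Prime x := by
      rw [← Ideal.span_singleton_prime hx0]
      exact (Ideal.Quotient.isDomain_iff_prime _).mp hqdom
    rw [UniqueFactorizationMonoid.iff_localizationAway_of_prime hxprime]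
    have hBdom : IsDomain (Localization.Away x) :=
      IsLocalization.Away.isDomain (Localization.Away x) hx0
    apply UniqueFactorizationMonoid.of_forall_isPrincipal_of_height_eq_one
    intro P hP h1
    have hPbot : P ≠ ⊥ := P.ne_bot_of_height_eq_one h1
    have hmh : (maximalIdeal A).height = (n : ℕ∞) := by
      have := IsLocalRing.maximalIdeal_height_eq_ringKrullDim (R := A)
      rw [hn] at this
      exact_mod_cast this
    have hloc : ∀ (Q : Ideal (Localization.Away x)) [Q.IsPrime],
        (P.map (algebraMap (Localization.Away x) (Localization.AtPrime Q))).IsPrincipal := by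
      intro Q hQ
      let q : Ideal A := Q.comap (algebraMap A (Localization.Away x))
      have hq : q.IsPrime := Ideal.comap_isPrime _ _
      have hloc' : IsLocalization.AtPrime (Localization.AtPrime Q) q :=
        IsLocalization.isLocalization_isLocalization_atPrime_isLocalization
          (Submonoid.powers x) (Localization.AtPrime Q) Q
      have hxq : x ∉ q := by
        intro hx
        have hu : IsUnit (algebraMap A (Localization.Away x) x) :=
          IsLocalization.Away.algebraMap_isUnit x
        exact hQ.ne_top (Ideal.eq_top_of_isUnit_mem _ hx hu)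
      have hqlt : q < maximalIdeal A := by
        refine lt_of_le_of_ne (IsLocalRing.le_maximalIdeal hq.ne_top) ?_
        intro h
        exact hxq (h ▸ hxm)
      have hht : q.height < (maximalIdeal A).height :=
        Ideal.height_strict_mono_of_isPrime hqlt
      obtain ⟨k, hk⟩ := ENat.ne_top_iff_exists.mp (q.height_ne_top hq.ne_top)
      have hkn : k < n := by
        rw [hmh, ← hk] at hht
        exact_mod_cast hht
      have hregq : IsRegularLocalRing (Localization.AtPrime q) :=
        Groth.Agent.Helper2.SerreLoc.isRegularLocalRing_localization A q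
      have hdimq : ringKrullDim (Localization.AtPrime q) = k := by
        rw [IsLocalization.AtPrime.ringKrullDim_eq_height q (Localization.AtPrime q), ← hk]
        rfl
      have hufd : UniqueFactorizationMonoid (Localization.AtPrime q) :=
        ih k hkn (Localization.AtPrime q) hdimq
      have hufdQ : UniqueFactorizationMonoid (Localization.AtPrime Q) :=
        (IsLocalization.algEquiv q.primeCompl (Localization.AtPrime q)
          (Localization.AtPrime Q)).toMulEquiv.uniqueFactorizationMonoid hufd
      exact isPrincipal_map_of_ufd P h1 Q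
    have hproj : Module.Projective (Localization.Away x) P :=
      projective_of_locally_principal P hPbot (fun Q hQ => hloc Q)
    have hsf : Module.IsStablyFree (Localization.Away x) P :=
      Groth.Agent.Helper8.FFR.isStablyFree_of_regular (Submonoid.powers x) (Localization.Away x) P
    obtain ⟨Q, hQmax, hPQ⟩ := Ideal.exists_le_maximal P hP.ne_top
    have hQpr : Q.IsPrime := hQmax.isPrime
    obtain ⟨f, hf⟩ := exists_surjective_of_isStablyFree (Localization.Away x) P ⟨Q, hQpr⟩
      (rankAtStalk_eq_one P hPbot ⟨Q, hQpr⟩ (hloc Q))
    refine ⟨⟨((f 1 : P) : Localization.Away x), ?_⟩⟩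
    apply le_antisymm
    · intro y hy
      obtain ⟨b, hb⟩ := hf ⟨y, hy⟩
      rw [Submodule.mem_span_singleton]
      refine ⟨b, ?_⟩
      have : f b = b • f 1 := by rw [← map_smul, smul_eq_mul, mul_one]
      rw [this] at hb
      have := congrArg Subtype.val hb
      simpa using this
    · rw [Submodule.span_singleton_le_iff_mem]
      exact (f 1).2

/-- **Auslander–Buchsbaum**: a regular local ring is a UFD. -/
theorem ufd_of_isRegularLocalRing (A : Type u) [CommRing A] [IsRegularLocalRing A] :
    UniqueFactorizationMonoid A :=
  ufd_of_dim (maximalIdeal A).spanFinrank A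
    (IsRegularLocalRing.spanFinrank_maximalIdeal).symm

end main

end Groth.Agent.Lead.RegUFD
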