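import Mathlib

/-! # Spectral spaces: compactness of the constructible topology and consequences -/

set_option autoImplicit false
universe u

namespace Groth.Agent.Lead.Spectral

open Topology

variable {X : Type u} [TopologicalSpace X]

/-- Closed in the constructible topology. -/
def CClosed (s : Set X) : Prop := IsClosed[constructibleTopology X] s

theorem compactSpace_constructible [SpectralSpace X] :
    @CompactSpace X (constructibleTopology X) :=
  @Function.Surjective.compactSpace (WithConstructibleTopology X) X _ (constructibleTopology X)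
    WithTopology.ofTopology (WithTopology.continuous_ofTopology _) inferInstance
    (WithTopology.ofTopology_surjective _)

theorem cclosed_of_isCompact_isOpen {s : Set X} (hc : IsCompact s) (ho : IsOpen s) :
    CClosed s := by
  rw [CClosed, ← @isOpen_compl_iff _ _ (constructibleTopology X)]
  exact IsCompact.isOpen_constructibleTopology_of_isClosed (by rwa [compl_compl])
    ho.isClosed_compl

theorem cclosed_of_isClosed [PrespectralSpace X] {s : Set X} (hs : IsClosed s) : CClosed s := by
  have hb := PrespectralSpace.isTopologicalBasis (X := X)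
  obtain ⟨S, hS, hU⟩ := hb.open_eq_sUnion hs.isOpen_compl
  rw [CClosed, ← @isOpen_compl_iff _ _ (constructibleTopology X), hU]
  apply @isOpen_sUnion _ (constructibleTopology X)
  intro t ht
  exact (hS ht).2.isOpen_constructibleTopology_of_isOpen (hS ht).1

/-- Finite intersection property for constructible-closed sets in a spectral space. -/
theorem exists_finite_of_iInter_eq_empty [SpectralSpace X] {ι : Type*} (t : ι → Set X)
    (ht : ∀ i, CClosed (t i)) (h : ⋂ i, t i = ∅) : ∃ u : Finset ι, ⋂ i ∈ u, t i = ∅ := by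
  have hc : @IsCompact X (constructibleTopology X) Set.univ :=
    (@isCompact_univ_iff X (constructibleTopology X)).2 compactSpace_constructible
  obtain ⟨u, hu⟩ := @IsCompact.elim_finite_subfamily_closed X (constructibleTopology X) _ _ hc t ht
    (by rw [h, Set.inter_empty])
  exact ⟨u, by simpa using hu⟩

theorem exists_compact_open_between [PrespectralSpace X] {K W : Set X} (hK : IsCompact K)
    (hW : IsOpen W) (hKW : K ⊆ W) : ∃ U, IsOpen U ∧ IsCompact U ∧ K ⊆ U ∧ U ⊆ W := by
  have hb := PrespectralSpace.isTopologicalBasis (X := X)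
  refine hK.induction_on (p := fun s => ∃ U, IsOpen U ∧ IsCompact U ∧ s ⊆ U ∧ U ⊆ W)
    ⟨∅, isOpen_empty, isCompact_empty, le_rfl, Set.empty_subset _⟩ ?_ ?_ ?_
  · rintro s t hst ⟨U, h1, h2, h3, h4⟩
    exact ⟨U, h1, h2, hst.trans h3, h4⟩
  · rintro s t ⟨U, h1, h2, h3, h4⟩ ⟨U', h1', h2', h3', h4'⟩
    exact ⟨U ∪ U', h1.union h1', h2.union h2', Set.union_subset_union h3 h3',
      Set.union_subset h4 h4'⟩
  · intro x hx
    obtain ⟨U, hU, hxU, hUW⟩ := hb.exists_subset_of_mem_open (hKW hx) hW
    exact ⟨U, mem_nhdsWithin_of_mem_nhds (hU.1.mem_nhds hxU), U, hU.1, hU.2, le_rfl, hUW⟩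

/-- Separation of two closed sets such that no point specializes into both. -/
theorem exists_disjoint_open_of_closed [SpectralSpace X] {Z₁ Z₂ : Set X} (h₁ : IsClosed Z₁)
    (h₂ : IsClosed Z₂)
    (h : ∀ x : X, ¬ ((closure {x} ∩ Z₁).Nonempty ∧ (closure {x} ∩ Z₂).Nonempty)) :
    ∃ U₁ U₂ : Set X, IsOpen U₁ ∧ IsOpen U₂ ∧ Z₁ ⊆ U₁ ∧ Z₂ ⊆ U₂ ∧ Disjoint U₁ U₂ := by
  classical
  let S : Set (Set X) := {U | IsOpen U ∧ IsCompact U ∧ (Z₁ ⊆ U ∨ Z₂ ⊆ U)}
  have hempty : ⋂ i : S, (i : Set X) = ∅ := by
    rw [Set.eq_empty_iff_forall_notMem]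
    intro x hx
    rw [Set.mem_iInter] at hx
    have hx' := h x
    rw [not_and_or] at hx'
    rcases hx' with h' | h'
    · rw [Set.not_nonempty_iff_eq_empty] at h'
      have hsub : Z₁ ⊆ (closure {x})ᶜ := by
        intro z hz hzc
        have : z ∈ closure {x} ∩ Z₁ := ⟨hzc, hz⟩
        rw [h'] at this
        exact this
      obtain ⟨U, hU1, hU2, hU3, hU4⟩ := exists_compact_open_between h₁.isCompact
        isClosed_closure.isOpen_compl hsub
      exact hU4 (hx ⟨U, hU1, hU2, Or.inl hU3⟩) (subset_closure rfl)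
    · rw [Set.not_nonempty_iff_eq_empty] at h'
      have hsub : Z₂ ⊆ (closure {x})ᶜ := by
        intro z hz hzc
        have : z ∈ closure {x} ∩ Z₂ := ⟨hzc, hz⟩
        rw [h'] at this
        exact this
      obtain ⟨U, hU1, hU2, hU3, hU4⟩ := exists_compact_open_between h₂.isCompact
        isClosed_closure.isOpen_compl hsub
      exact hU4 (hx ⟨U, hU1, hU2, Or.inr hU3⟩) (subset_closure rfl)
  obtain ⟨u, hu⟩ := exists_finite_of_iInter_eq_empty (fun i : S => (i : Set X))
    (fun i => cclosed_of_isCompact_isOpen i.2.2.1 i.2.1) hempty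
  refine ⟨⋂ i ∈ u.filter (fun i : S => Z₁ ⊆ (i : Set X)), (i : Set X),
    ⋂ i ∈ u.filter (fun i : S => Z₂ ⊆ (i : Set X)), (i : Set X), ?_, ?_, ?_, ?_, ?_⟩
  · exact isOpen_biInter_finset (fun i _ => i.2.1)
  · exact isOpen_biInter_finset (fun i _ => i.2.1)
  · intro z hz
    simp only [Set.mem_iInter, Finset.mem_filter]
    intro i hi
    exact hi.2 hz
  · intro z hz
    simp only [Set.mem_iInter, Finset.mem_filter]
    intro i hi
    exact hi.2 hz
  · rw [Set.disjoint_iff]
    intro z ⟨hz1, hz2⟩
    have : z ∈ ⋂ i ∈ u, (i : Set X) := by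
      simp only [Set.mem_iInter, Finset.mem_filter] at hz1 hz2 ⊢
      intro i hi
      rcases i.2.2.2 with h' | h'
      · exact hz1 i ⟨hi, h'⟩
      · exact hz2 i ⟨hi, h'⟩
    rw [hu] at this
    exact this

end Groth.Agent.Lead.Spectral
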