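import Mathlib
import Groth.Agent.Lead.Spectral

/-! # Spectral spaces: connected components, closed points -/

set_option autoImplicit false
universe u

namespace Groth.Agent.Lead.Spectral

open Topology

variable {X : Type u} [TopologicalSpace X]

/-- a point in the closure of `{y}` lying in an open set forces `y` in that open set -/
theorem mem_of_mem_closure_singleton {U : Set X} (hU : IsOpen U) {a y : X}
    (ha : a ∈ closure ({y} : Set X)) (haU : a ∈ U) : y ∈ U := by
  obtain ⟨z, hz1, hz2⟩ := mem_closure_iff.1 ha U hU haU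
  rw [Set.mem_singleton_iff] at hz2
  rwa [hz2] at hz1

theorem closure_singleton_subset_connectedComponent (x : X) :
    closure ({x} : Set X) ⊆ connectedComponent x :=
  (isPreconnected_singleton.closure).subset_connectedComponent (subset_closure rfl)

/-- every connected component of a compact T0 space contains a closed point -/
theorem surjective_closedPoints [T0Space X] [CompactSpace X] :
    Function.Surjective
      (fun x : {x : X // IsClosed ({x} : Set X)} => ConnectedComponents.mk x.1) := by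
  intro c
  obtain ⟨x, rfl⟩ := ConnectedComponents.surjective_coe c
  obtain ⟨z, hz, hzc⟩ := IsClosed.exists_closed_singleton (isClosed_closure (s := ({x} : Set X)))
    ⟨x, subset_closure rfl⟩
  refine ⟨⟨z, hzc⟩, ?_⟩
  change ConnectedComponents.mk z = ConnectedComponents.mk x
  rw [ConnectedComponents.coe_eq_coe']
  exact closure_singleton_subset_connectedComponent x hz

/-- In a spectral space, the intersection of the clopen neighbourhoods of a point is preconnected. -/
theorem isPreconnected_iInter_isClopen [SpectralSpace X] (x : X) :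
    IsPreconnected (⋂ Z : { Z : Set X // IsClopen Z ∧ x ∈ Z }, (Z : Set X)) := by
  classical
  set S : Set X := ⋂ Z : { Z : Set X // IsClopen Z ∧ x ∈ Z }, (Z : Set X) with hS
  have hSclosed : IsClosed S := isClosed_iInter fun Z => Z.2.1.1
  have hxS : x ∈ S := Set.mem_iInter.2 fun Z => Z.2.2
  have hSgen : ∀ a y : X, a ∈ closure ({y} : Set X) → a ∈ S → y ∈ S := by
    intro a y hay haS
    rw [hS, Set.mem_iInter] at haS ⊢
    intro Z
    exact mem_of_mem_closure_singleton Z.2.1.2 hay (haS Z)
  -- key: if S ⊆ B ∪ D, B, D closed, S ∩ B ∩ D = ∅, x ∈ B then S ∩ D = ∅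
  have key : ∀ B D : Set X, IsClosed B → IsClosed D → S ⊆ B ∪ D → S ∩ (B ∩ D) = ∅ → x ∈ B →
      S ∩ D = ∅ := by
    intro B D hB hD hSBD hSBDe hxB
    have hBD' : ∀ z, z ∈ S → z ∈ B → z ∈ D → False := by
      intro z h1 h2 h3
      have : z ∈ S ∩ (B ∩ D) := ⟨h1, h2, h3⟩
      rw [hSBDe] at this
      exact this
    have hsep : ∀ y : X, ¬ ((closure {y} ∩ (S ∩ B)).Nonempty ∧ (closure {y} ∩ (S ∩ D)).Nonempty) := by
      rintro y ⟨⟨a, hay, haS, haB⟩, ⟨b, hby, hbS, hbD⟩⟩
      have hyS : y ∈ S := hSgen a y hay haS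
      rcases hSBD hyS with hyB | hyD
      · have : closure {y} ⊆ B := (IsClosed.closure_subset_iff hB).2 (by simpa using hyB)
        exact hBD' b hbS (this hby) hbD
      · have : closure {y} ⊆ D := (IsClosed.closure_subset_iff hD).2 (by simpa using hyD)
        exact hBD' a haS haB (this hay)
    obtain ⟨U, V, hU, hV, hBU, hDV, hUV⟩ := exists_disjoint_open_of_closed
      (hSclosed.inter hB) (hSclosed.inter hD) hsep
    have hSUV : S ⊆ U ∪ V := by
      intro z hz
      rcases hSBD hz with h | h
      · exact Or.inl (hBU ⟨hz, h⟩)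
      · exact Or.inr (hDV ⟨hz, h⟩)
    -- compactness
    have hcompact : IsCompact (U ∪ V)ᶜ := (hU.union hV).isClosed_compl.isCompact
    have hinter : (U ∪ V)ᶜ ∩ ⋂ Z : { Z : Set X // IsClopen Z ∧ x ∈ Z }, (Z : Set X) = ∅ := by
      rw [Set.eq_empty_iff_forall_notMem]
      rintro z ⟨hz1, hz2⟩
      exact hz1 (hSUV hz2)
    obtain ⟨u, hu⟩ := hcompact.elim_finite_subfamily_closed
      (fun Z : { Z : Set X // IsClopen Z ∧ x ∈ Z } => (Z : Set X)) (fun Z => Z.2.1.1) hinter
    set W : Set X := ⋂ Z ∈ u, (Z : Set X) with hW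
    have hWclopen : IsClopen W := isClopen_biInter_finset fun Z _ => Z.2.1
    have hxW : x ∈ W := by
      rw [hW]
      simp only [Set.mem_iInter]
      intro Z _
      exact Z.2.2
    have hWUV : W ⊆ U ∪ V := by
      intro z hz
      by_contra hzn
      have : z ∈ (U ∪ V)ᶜ ∩ W := ⟨hzn, hz⟩
      rw [hu] at this
      exact this
    have hUV' : ∀ z, z ∈ U → z ∈ V → False := fun z h1 h2 => (Set.disjoint_iff.1 hUV) ⟨h1, h2⟩
    have hWU : W ∩ U = W ∩ Vᶜ := by
      ext z
      constructor
      · rintro ⟨h1, h2⟩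
        exact ⟨h1, fun h3 => hUV' z h2 h3⟩
      · rintro ⟨h1, h2⟩
        refine ⟨h1, ?_⟩
        rcases hWUV h1 with h | h
        · exact h
        · exact absurd h h2
    have hclopen : IsClopen (W ∩ U) :=
      ⟨by rw [hWU]; exact hWclopen.1.inter hV.isClosed_compl, hWclopen.2.inter hU⟩
    have hxWU : x ∈ W ∩ U := ⟨hxW, hBU ⟨hxS, hxB⟩⟩
    have hSWU : S ⊆ W ∩ U := by
      rw [hS]
      exact Set.iInter_subset _ (⟨W ∩ U, hclopen, hxWU⟩ : { Z : Set X // IsClopen Z ∧ x ∈ Z })
    rw [Set.eq_empty_iff_forall_notMem]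
    rintro z ⟨hzS, hzD⟩
    exact hUV' z (hSWU hzS).2 (hDV ⟨hzS, hzD⟩)
  rw [isPreconnected_closed_iff]
  intro B D hB hD hSBD hSB hSD
  by_contra hne
  rw [Set.not_nonempty_iff_eq_empty] at hne
  rcases hSBD hxS with hxB | hxD
  · have := key B D hB hD hSBD hne hxB
    rw [this] at hSD
    exact Set.not_nonempty_empty hSD
  · have := key D B hD hB (by rwa [Set.union_comm]) (by rwa [Set.inter_comm D B]) hxD
    rw [this] at hSB
    exact Set.not_nonempty_empty hSB

theorem connectedComponent_eq_iInter_isClopen' [SpectralSpace X] (x : X) :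
    connectedComponent x = ⋂ Z : { Z : Set X // IsClopen Z ∧ x ∈ Z }, (Z : Set X) :=
  Set.Subset.antisymm connectedComponent_subset_iInter_isClopen
    ((isPreconnected_iInter_isClopen x).subset_connectedComponent
      (Set.mem_iInter.2 fun Z => Z.2.2))

/-- If the connected component of `x` is contained in an open set, some clopen neighbourhood is. -/
theorem exists_isClopen_of_connectedComponent_subset [SpectralSpace X] (x : X) {U : Set X}
    (hU : IsOpen U) (h : connectedComponent x ⊆ U) : ∃ W : Set X, IsClopen W ∧ x ∈ W ∧ W ⊆ U := by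
  classical
  have hcompact : IsCompact Uᶜ := hU.isClosed_compl.isCompact
  have hinter : Uᶜ ∩ ⋂ Z : { Z : Set X // IsClopen Z ∧ x ∈ Z }, (Z : Set X) = ∅ := by
    rw [Set.eq_empty_iff_forall_notMem]
    rintro z ⟨hz1, hz2⟩
    rw [← connectedComponent_eq_iInter_isClopen'] at hz2
    exact hz1 (h hz2)
  obtain ⟨u, hu⟩ := hcompact.elim_finite_subfamily_closed
    (fun Z : { Z : Set X // IsClopen Z ∧ x ∈ Z } => (Z : Set X)) (fun Z => Z.2.1.1) hinter
  refine ⟨⋂ Z ∈ u, (Z : Set X), isClopen_biInter_finset fun Z _ => Z.2.1, ?_, ?_⟩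
  · simp only [Set.mem_iInter]
    intro Z _
    exact Z.2.2
  · intro z hz
    by_contra hzn
    have : z ∈ Uᶜ ∩ ⋂ Z ∈ u, (Z : Set X) := ⟨hzn, hz⟩
    rw [hu] at this
    exact this

end Groth.Agent.Lead.Spectral
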