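import Mathlib
import Groth.Agent.Lead.Spectral2

/-! # Spectral spaces: neighbourhoods avoiding constructible-closed sets -/

set_option autoImplicit false
universe u

namespace Groth.Agent.Lead.Spectral

open Topology

variable {X : Type u} [TopologicalSpace X]

theorem CClosed.inter {s t : Set X} (hs : CClosed s) (ht : CClosed t) : CClosed (s ∩ t) :=
  @IsClosed.inter X s t (constructibleTopology X) hs ht

/-- If a constructible-closed set `C` contains no generalization of `y`, then some open
neighbourhood of `y` is disjoint from `C`. -/
theorem exists_open_nhds_disjoint [SpectralSpace X] {y : X} {C : Set X} (hC : CClosed C)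
    (h : ∀ w ∈ C, y ∉ closure ({w} : Set X)) : ∃ O : Set X, IsOpen O ∧ y ∈ O ∧ Disjoint O C := by
  classical
  let I := Option {V : Set X // IsOpen V ∧ IsCompact V ∧ y ∈ V}
  let t : I → Set X := fun i => match i with
    | none => C
    | some V => (V : Set X)
  have ht : ∀ i, CClosed (t i) := by
    intro i
    cases i with
    | none => exact hC
    | some V => exact cclosed_of_isCompact_isOpen V.2.2.1 V.2.1
  have hempty : ⋂ i, t i = ∅ := by
    rw [Set.eq_empty_iff_forall_notMem]
    intro w hw
    rw [Set.mem_iInter] at hw
    have hwC : w ∈ C := hw none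
    apply h w hwC
    rw [mem_closure_iff]
    intro O hO hyO
    obtain ⟨V, hV, hyV, hVO⟩ :=
      (PrespectralSpace.isTopologicalBasis (X := X)).exists_subset_of_mem_open hyO hO
    exact ⟨w, hVO (hw (some ⟨V, hV.1, hV.2, hyV⟩)), rfl⟩
  obtain ⟨u, hu⟩ := exists_finite_of_iInter_eq_empty t ht hempty
  refine ⟨⋂ i ∈ u.filter (fun i => i.isSome), t i, ?_, ?_, ?_⟩
  · apply isOpen_biInter_finset
    intro i hi
    cases i with
    | none => simp at hi
    | some V => exact V.2.1
  · simp only [Set.mem_iInter, Finset.mem_filter]
    intro i hi
    cases i with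
    | none => simp at hi
    | some V => exact V.2.2.2
  · rw [Set.disjoint_iff]
    rintro z ⟨hz1, hz2⟩
    have : z ∈ ⋂ i ∈ u, t i := by
      simp only [Set.mem_iInter, Finset.mem_filter] at hz1 ⊢
      intro i hi
      cases i with
      | none => exact hz2
      | some V => exact hz1 (some V) ⟨hi, rfl⟩
    rw [hu] at this
    exact this

end Groth.Agent.Lead.Spectral
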