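import Mathlib
import Groth.Prelude.Def_DRing2
import Groth.Agent.Helper1.TorCrit
import Groth.Agent.Lead.FreeLocus1

/-!
# Tor dimension of stalks (towards S6194)
-/

set_option autoImplicit false
universe u
open CategoryTheory CategoryTheory.Limits AlgebraicGeometry

namespace Groth.Agent.Lead.TorDim
open Groth.Agent.Helper1.TorLib

section Algebra
variable {R : Type u} [CommRing R]

/-- `M` has tor dimension `≤ n` (categorical form). -/
def TD (n : ℕ) (M : ModuleCat.{u} R) : Prop :=
  ∀ (N : ModuleCat.{u} R) (p : ℕ), n < p → IsZero (((Tor (ModuleCat.{u} R) p).obj M).obj N)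

theorem TD.mono {n m : ℕ} {M : ModuleCat.{u} R} (h : TD n M) (hnm : n ≤ m) : TD m M :=
  fun N p hp => h N p (by omega)

theorem TD.of_iso {n : ℕ} {M M' : ModuleCat.{u} R} (e : M ≅ M') (h : TD n M) : TD n M' :=
  fun N p hp => IsZero.of_iso (h N p hp) (((Tor (ModuleCat.{u} R) p).mapIso e.symm).app N)

theorem td_zero_of_flat (M : ModuleCat.{u} R) [Module.Flat R M] : TD 0 M := by
  intro N p hp
  obtain ⟨q, rfl⟩ : ∃ q, p = q + 1 := ⟨p - 1, by omega⟩
  exact isZero_tor_of_flat_left M N q

theorem flat_of_td_zero (M : Type u) [AddCommGroup M] [Module R M]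
    (h : TD 0 (ModuleCat.of R M)) : Module.Flat R M :=
  (Groth.Agent.Helper1.TorLib.flat_iff_isZero_torOne_quotient_fg M).mpr
    (fun I _ => h _ 1 (by omega))

theorem TD.X₂ {n : ℕ} {S : ShortComplex (ModuleCat.{u} R)} (hS : S.ShortExact)
    (h1 : TD n S.X₁) (h3 : TD n S.X₃) : TD n S.X₂ := by
  intro N p hp
  exact (tor_exact₂ N hS p).isZero_of_both_zeros ((h1 N p hp).eq_of_src _ _)
    ((h3 N p hp).eq_of_tgt _ _)

theorem TD.X₁ {n : ℕ} {S : ShortComplex (ModuleCat.{u} R)} (hS : S.ShortExact)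
    (h2 : TD n S.X₂) (h3 : TD (n + 1) S.X₃) : TD n S.X₁ := by
  intro N p hp
  exact (tor_exact₁ N hS p).isZero_of_both_zeros ((h3 N (p + 1) (by omega)).eq_of_src _ _)
    ((h2 N p hp).eq_of_tgt _ _)

theorem td_of_hasTorDimLE {n : ℕ} (M : Type u) [AddCommGroup M] [Module R M]
    (h : DRing.HasTorDimLE R n M) : TD n (ModuleCat.of R M) := by
  intro N p hp
  haveI := h N p hp
  exact ModuleCat.isZero_of_subsingleton _

end Algebra

section Stalk
open Scheme.Modules Groth.Agent.Helper4.StalkDict Groth.Agent.Helper4.StalkExact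
  Groth.Agent.Lead.FreeLocus Groth.Agent.Lead.FlatLib
variable {Z : Scheme.{u}} {z : Z} {R : Type u} [CommRing R]

/-- the stalk of `M` at `z` viewed as a module over `R` through `φ`. -/
def StalkR (_φ : R →+* Z.presheaf.stalk z) (M : Z.Modules) : Type u := M.presheaf.stalk z

variable (φ : R →+* Z.presheaf.stalk z)

noncomputable instance (M : Z.Modules) : AddCommGroup (StalkR φ M) :=
  inferInstanceAs (AddCommGroup (M.presheaf.stalk z))

noncomputable instance (M : Z.Modules) : Module R (StalkR φ M) :=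
  Module.compHom (M.presheaf.stalk z) φ

/-- the map on stalks, as an `R`-linear map. -/
noncomputable def linR {M N : Z.Modules} (f : M ⟶ N) : StalkR φ M →ₗ[R] StalkR φ N where
  toFun := stalkLin f z
  map_add' := map_add _
  map_smul' r m := (stalkLin f z).map_smul (φ r) m

/-- the stalk of `M` at `z` has tor dimension `≤ k` over `R`. -/
def TDAt (k : ℕ) (M : Z.Modules) : Prop := TD k (ModuleCat.of R (StalkR φ M))

variable {φ}

theorem TDAt.mono {k m : ℕ} {M : Z.Modules} (h : TDAt φ k M) (hkm : k ≤ m) : TDAt φ m M :=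
  TD.mono h hkm

theorem TDAt.X₂ {k : ℕ} {S : ShortComplex Z.Modules} (hS : S.ShortExact)
    (h1 : TDAt φ k S.X₁) (h3 : TDAt φ k S.X₃) : TDAt φ k S.X₂ := by
  haveI := hS.mono_f
  haveI := hS.epi_g
  have hex : Function.Exact (linR φ S.f) (linR φ S.g) := stalkLin_exact S hS.exact z
  exact TD.X₂ (scOfLinear_shortExact (linR φ S.f) (linR φ S.g) (stalkLin_injective S.f z)
    (Groth.Agent.Helper4.EpiStalk.stalkLin_surjective_of_epi S.g z) hex) h1 h3

theorem TDAt.X₁ {k : ℕ} {S : ShortComplex Z.Modules} (hS : S.ShortExact)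
    (h2 : TDAt φ k S.X₂) (h3 : TDAt φ (k + 1) S.X₃) : TDAt φ k S.X₁ := by
  haveI := hS.mono_f
  haveI := hS.epi_g
  have hex : Function.Exact (linR φ S.f) (linR φ S.g) := stalkLin_exact S hS.exact z
  exact TD.X₁ (scOfLinear_shortExact (linR φ S.f) (linR φ S.g) (stalkLin_injective S.f z)
    (Groth.Agent.Helper4.EpiStalk.stalkLin_surjective_of_epi S.g z) hex) h2 h3

theorem TDAt.of_iso {k : ℕ} {M N : Z.Modules} (e : M ≅ N) (h : TDAt φ k M) : TDAt φ k N := by
  have hbij : Function.Bijective (linR φ e.hom) :=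
    ⟨stalkLin_injective e.hom z, Groth.Agent.Helper4.EpiStalk.stalkLin_surjective_of_epi e.hom z⟩
  exact TD.of_iso (LinearEquiv.ofBijective (linR φ e.hom) hbij).toModuleIso h

theorem tdAt_zero_of_flatAt (hφ : Function.Bijective φ) {M : Z.Modules} (h : FlatAt M z) :
    TDAt φ 0 M := by
  haveI : Module.Flat (Z.presheaf.stalk z) (M.presheaf.stalk z) := h
  let σ : Z.presheaf.stalk z ≃+* R := (RingEquiv.ofBijective φ hφ).symm
  let e : M.presheaf.stalk z ≃+ StalkR φ M := AddEquiv.refl _
  haveI : Module.Flat R (StalkR φ M) := flat_of_semilinearEquiv σ e (fun r m => by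
    change r • m = φ (σ r) • m
    congr 1
    exact ((RingEquiv.ofBijective φ hφ).apply_symm_apply r).symm)
  exact td_zero_of_flat (ModuleCat.of R (StalkR φ M))

theorem flatAt_of_tdAt_zero (hφ : Function.Bijective φ) {M : Z.Modules} (h : TDAt φ 0 M) :
    FlatAt M z := by
  haveI : Module.Flat R (StalkR φ M) := flat_of_td_zero _ h
  let σ : R ≃+* Z.presheaf.stalk z := RingEquiv.ofBijective φ hφ
  let e : StalkR φ M ≃+ M.presheaf.stalk z := AddEquiv.refl _
  exact flat_of_semilinearEquiv σ e (fun r m => rfl)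

theorem tdAt_zero_of_isZero (hφ : Function.Bijective φ) {M : Z.Modules} (h : IsZero M) :
    TDAt φ 0 M :=
  tdAt_zero_of_flatAt hφ (FlatAt.of_isZero h z)

end Stalk

section Restrict
open Scheme.Modules Groth.Agent.Lead.FlatLib

theorem tdAt_restrict {X Z : Scheme.{u}} (j : Z ⟶ X) [IsOpenImmersion j] (N : X.Modules) (z : Z)
    {k : ℕ} (h : DRing.HasTorDimLE (X.presheaf.stalk (j z)) k (N.presheaf.stalk (j z))) :
    TDAt (j.stalkMap z).hom k (N.restrict j) := by
  have h1 := td_of_hasTorDimLE _ h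
  let ℓ : StalkR (j.stalkMap z).hom (N.restrict j) ≃ₗ[X.presheaf.stalk (j z)]
      N.presheaf.stalk (j z) :=
    { AddEquiv.ofBijective (rsHom j N z) (rsHom_bijective j N z) with
      map_smul' := fun r m => rsHom_smul j N z r m }
  exact TD.of_iso ℓ.symm.toModuleIso h1

end Restrict

section Complex
open HomologicalComplex Groth.Agent.Lead.FreeLocus Groth.Agent.Lead.FlatLib
variable {Z : Scheme.{u}}

theorem shortExact_E1 (K : CochainComplex Z.Modules ℤ) (i : ℤ) :
    (ShortComplex.mk (kernel.ι (K.pOpcycles i)) (K.pOpcycles i) (kernel.condition _)).ShortExact :=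
  { exact := ShortComplex.exact_of_f_is_kernel _ (kernelIsKernel _)
    mono_f := inferInstanceAs (Mono (kernel.ι (K.pOpcycles i)))
    epi_g := inferInstanceAs (Epi (K.pOpcycles i)) }

theorem shortExact_E2 (K : CochainComplex Z.Modules ℤ) (i : ℤ) :
    ∃ (t : K.opcycles i ⟶ kernel (K.pOpcycles (i + 1))) (w : K.homologyι i ≫ t = 0),
      (ShortComplex.mk (K.homologyι i) t w).ShortExact := by
  have h0 : K.fromOpcycles i (i + 1) ≫ K.pOpcycles (i + 1) = 0 := by
    rw [← cancel_epi (K.pOpcycles i)]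
    simp
  let t : K.opcycles i ⟶ kernel (K.pOpcycles (i + 1)) :=
    kernel.lift (K.pOpcycles (i + 1)) (K.fromOpcycles i (i + 1)) h0
  have ht : t ≫ kernel.ι (K.pOpcycles (i + 1)) = K.fromOpcycles i (i + 1) := kernel.lift_ι _ _ _
  have w : K.homologyι i ≫ t = 0 := by
    rw [← cancel_mono (kernel.ι (K.pOpcycles (i + 1))), Category.assoc, ht, zero_comp]
    exact K.homologyι_comp_fromOpcycles i (i + 1)
  refine ⟨t, w, ?_⟩
  -- `t` is an epimorphism
  have hdπ : K.d i (i + 1) ≫ K.pOpcycles (i + 1) = 0 := K.d_pOpcycles i (i + 1)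
  have hex : (ShortComplex.mk (K.d i (i + 1)) (K.pOpcycles (i + 1)) hdπ).Exact :=
    ShortComplex.exact_of_g_is_cokernel _ (K.opcyclesIsCokernel i (i + 1) (by simp))
  haveI h1 : Epi (kernel.lift (K.pOpcycles (i + 1)) (K.d i (i + 1)) hdπ) := hex.epi_kernelLift
  have h2 : K.pOpcycles i ≫ t = kernel.lift (K.pOpcycles (i + 1)) (K.d i (i + 1)) hdπ := by
    rw [← cancel_mono (kernel.ι (K.pOpcycles (i + 1))), Category.assoc, ht, kernel.lift_ι]
    exact K.p_fromOpcycles i (i + 1)
  haveI : Epi (K.pOpcycles i ≫ t) := h2 ▸ h1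
  haveI : Epi t := epi_of_epi (K.pOpcycles i) t
  -- exactness
  have hex2 : (ShortComplex.mk (K.homologyι i) (K.fromOpcycles i (i + 1))
      (K.homologyι_comp_fromOpcycles i (i + 1))).Exact :=
    ShortComplex.exact_of_f_is_kernel _ (K.homologyIsKernel i (i + 1) (by simp))
  let ψ : ShortComplex.mk (K.homologyι i) t w ⟶ ShortComplex.mk (K.homologyι i)
      (K.fromOpcycles i (i + 1)) (K.homologyι_comp_fromOpcycles i (i + 1)) :=
    { τ₁ := 𝟙 _
      τ₂ := 𝟙 _
      τ₃ := kernel.ι (K.pOpcycles (i + 1))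
      comm₁₂ := by simp
      comm₂₃ := by simp [ht] }
  haveI : Epi ψ.τ₁ := inferInstanceAs (Epi (𝟙 _))
  haveI : IsIso ψ.τ₂ := inferInstanceAs (IsIso (𝟙 _))
  haveI : Mono ψ.τ₃ := inferInstanceAs (Mono (kernel.ι (K.pOpcycles (i + 1))))
  exact
    { exact := (ShortComplex.exact_iff_of_epi_of_isIso_of_mono ψ).mpr hex2
      mono_f := inferInstanceAs (Mono (K.homologyι i))
      epi_g := inferInstanceAs (Epi t) }

variable {z : Z} {R : Type u} [CommRing R] {φ : R →+* Z.presheaf.stalk z}

/-- the bound on the tor dimension of the stalk of `opcycles i`. -/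
def tBound (N : ℕ) (c i : ℤ) : ℕ := N - (c - i).toNat

/-- dimension shifting along a bounded complex of finite locally free modules. -/
theorem tdAt_opcycles (hφ : Function.Bijective φ) (K : CochainComplex Z.Modules ℤ) (b c : ℤ)
    (N : ℕ) (i₀ : ℤ) (hK : ∀ i, FlatMod.IsFinLocFree (K.X i)) (hb : ∀ i, b < i → IsZero (K.X i))
    (hH : ∀ i, i₀ ≤ i → TDAt φ N (K.homology i))
    (hH0 : ∀ i, i₀ ≤ i → i < c → IsZero (K.homology i)) :
    ∀ (k : ℕ) (i : ℤ), i₀ ≤ i → b + 1 ≤ i + k → TDAt φ (tBound N c i) (K.opcycles i) := by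
  intro k
  induction k with
  | zero =>
    intro i _ hi
    have hz : IsZero (K.opcycles i) :=
      IsZero.of_epi (K.pOpcycles i) (hb i (by simp at hi; omega))
    exact (tdAt_zero_of_isZero hφ hz).mono (Nat.zero_le _)
  | succ k ih =>
    intro i hi₀ hi
    have h1 : TDAt φ (tBound N c (i + 1)) (K.opcycles (i + 1)) :=
      ih (i + 1) (by omega) (by push_cast at hi; omega)
    -- the boundaries
    let S1 : ShortComplex Z.Modules := ShortComplex.mk (kernel.ι (K.pOpcycles (i + 1)))
      (K.pOpcycles (i + 1)) (kernel.condition _)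
    have hS1 : S1.ShortExact := shortExact_E1 K (i + 1)
    have h2 : TDAt φ (tBound N c (i + 1) - 1) S1.X₂ :=
      (tdAt_zero_of_flatAt hφ (isFlat_of_isFinLocFree (hK (i + 1)) z)).mono (Nat.zero_le _)
    have h3 : TDAt φ (tBound N c (i + 1) - 1 + 1) S1.X₃ := h1.mono (by omega)
    have hB : TDAt φ (tBound N c (i + 1) - 1) S1.X₁ := TDAt.X₁ hS1 h2 h3
    obtain ⟨t, w, hS⟩ := shortExact_E2 K i
    let S2 : ShortComplex Z.Modules := ShortComplex.mk (K.homologyι i) t w
    have hS2 : S2.ShortExact := hS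
    by_cases hic : i < c
    · have e1 : tBound N c (i + 1) - 1 = tBound N c i := by
        unfold tBound
        have : (c - i).toNat = (c - (i + 1)).toNat + 1 := by omega
        omega
      have h4 : TDAt φ (tBound N c i) S2.X₁ :=
        (tdAt_zero_of_isZero hφ (hH0 i hi₀ hic)).mono (Nat.zero_le _)
      have h5 : TDAt φ (tBound N c i) S2.X₃ := by
        rw [← e1]
        exact hB
      have h6 : TDAt φ (tBound N c i) S2.X₂ := TDAt.X₂ hS2 h4 h5
      exact h6
    · have e1 : tBound N c i = N := by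
        unfold tBound
        have : (c - i).toNat = 0 := by omega
        omega
      have e2 : tBound N c (i + 1) = N := by
        unfold tBound
        have : (c - (i + 1)).toNat = 0 := by omega
        omega
      have h4 : TDAt φ N S2.X₁ := hH i hi₀
      have h5 : TDAt φ N S2.X₃ := hB.mono (by rw [e2]; omega)
      have h6 : TDAt φ N S2.X₂ := TDAt.X₂ hS2 h4 h5
      rw [e1]
      exact h6

end Complex

end Groth.Agent.Lead.TorDim
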