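import Groth.Agent.Lead.LimFrame
import Groth.Agent.Lead.LimHom
import Groth.Agent.Helper2.LfpComp
open CategoryTheory Limits AlgebraicGeometry

namespace Groth.Agent.Lead.LimIso
open Groth.Agent.Lead.LimPullback Groth.Agent.Lead.LimFrame Groth.Agent.Lead.LimHom
universe u

section General
variable {A B X₀ Y₀ : Scheme.{u}} (p : A ⟶ B) (f₀ : X₀ ⟶ Y₀) (g₀ : Y₀ ⟶ B)

/-- the base change of `f₀` along `p`, in the form `A ×_B X₀ ⟶ A ×_B Y₀` -/
noncomputable abbrev bcMap : pullback p (f₀ ≫ g₀) ⟶ pullback p g₀ :=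
  pullback.map p (f₀ ≫ g₀) p g₀ (𝟙 _) f₀ (𝟙 _) (by simp) (by simp)

set_option backward.isDefEq.respectTransparency false in
theorem isPullback_bcMap :
    IsPullback (pullback.snd p (f₀ ≫ g₀)) (bcMap p f₀ g₀) f₀ (pullback.snd p g₀) := by
  refine IsPullback.of_bot ?_ ?_ (IsPullback.of_hasPullback p g₀).flip
  · have : bcMap p f₀ g₀ ≫ pullback.fst p g₀ = pullback.fst p (f₀ ≫ g₀) := by simp [bcMap]
    rw [this]
    exact (IsPullback.of_hasPullback p (f₀ ≫ g₀)).flip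
  · simp [bcMap]

/-- the comparison iso with the canonical model -/
noncomputable def bcIso : pullback p (f₀ ≫ g₀) ≅ pullback f₀ (pullback.snd p g₀) :=
  (isPullback_bcMap p f₀ g₀).isoPullback

@[reassoc (attr := simp)]
theorem bcIso_hom_snd : (bcIso p f₀ g₀).hom ≫ pullback.snd f₀ (pullback.snd p g₀) = bcMap p f₀ g₀ :=
  (isPullback_bcMap p f₀ g₀).isoPullback_hom_snd

@[reassoc (attr := simp)]
theorem bcIso_hom_fst :
    (bcIso p f₀ g₀).hom ≫ pullback.fst f₀ (pullback.snd p g₀) = pullback.snd p (f₀ ≫ g₀) :=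
  (isPullback_bcMap p f₀ g₀).isoPullback_hom_fst

theorem snd_eq : pullback.snd f₀ (pullback.snd p g₀) = (bcIso p f₀ g₀).inv ≫ bcMap p f₀ g₀ := by
  rw [← bcIso_hom_snd, Iso.inv_hom_id_assoc]

theorem prop_bcMap_iff (P : MorphismProperty Scheme.{u}) [P.RespectsIso] :
    P (bcMap p f₀ g₀) ↔ P (pullback.snd f₀ (pullback.snd p g₀)) := by
  rw [snd_eq, P.cancel_left_of_respectsIso]

end General

variable {I : Type u} [SmallCategory I] [IsCofiltered I] {D : I ⥤ Scheme.{u}} {c : Cone D}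
  (hc : IsLimit c) [∀ {i j : I} (f : i ⟶ j), IsAffineHom (D.map f)] (i₀ : I)
  {X₀ Y₀ : Scheme.{u}} (g₀ : Y₀ ⟶ D.obj i₀) (f₀ : X₀ ⟶ Y₀)

omit [IsCofiltered I] [∀ {i j : I} (f : i ⟶ j), IsAffineHom (D.map f)] in
set_option backward.isDefEq.respectTransparency false in
@[reassoc]
theorem bcMap_naturality {j k : Over i₀} (φ : j ⟶ k) :
    (pbDiag D i₀ (f₀ ≫ g₀)).map φ ≫ bcMap (D.map k.hom) f₀ g₀ =
      bcMap (D.map j.hom) f₀ g₀ ≫ (pbDiag D i₀ g₀).map φ := by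
  apply pullback.hom_ext <;> simp [pbDiag, bcMap]

omit [IsCofiltered I] [∀ {i j : I} (f : i ⟶ j), IsAffineHom (D.map f)] in
set_option backward.isDefEq.respectTransparency false in
theorem bcMap_cone (j : Over i₀) :
    (pbCone D c i₀ (f₀ ≫ g₀)).π.app j ≫ bcMap (D.map j.hom) f₀ g₀ =
      bcMap (c.π.app i₀) f₀ g₀ ≫ (pbCone D c i₀ g₀).π.app j := by
  apply pullback.hom_ext <;> simp [pbCone, bcMap]

include hc in
set_option backward.isDefEq.respectTransparency false in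
theorem isIso_bcMap_descends [CompactSpace X₀] [CompactSpace Y₀] [QuasiSeparatedSpace Y₀]
    [LocallyOfFiniteType g₀] [LocallyOfFinitePresentation (f₀ ≫ g₀)]
    (h : IsIso (bcMap (c.π.app i₀) f₀ g₀)) :
    ∃ j : Over i₀, IsIso (bcMap (D.map j.hom) f₀ g₀) := by
  let G := inv (bcMap (c.π.app i₀) f₀ g₀)
  have hG1 : G ≫ bcMap (c.π.app i₀) f₀ g₀ = 𝟙 _ := IsIso.inv_hom_id _
  have hG2 : bcMap (c.π.app i₀) f₀ g₀ ≫ G = 𝟙 _ := IsIso.hom_inv_id _
  have hGfst : G ≫ pullback.fst (c.π.app i₀) (f₀ ≫ g₀) = pullback.fst (c.π.app i₀) g₀ := by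
    rw [IsIso.inv_comp_eq]; simp [bcMap]
  -- descend the inverse
  obtain ⟨j, γ, hγ1, hγ2⟩ := exists_hom_descend D c hc i₀ g₀ (f₀ ≫ g₀)
    (G ≫ pullback.snd (c.π.app i₀) (f₀ ≫ g₀)) (by
      rw [Category.assoc, ← pullback.condition, reassoc_of% hGfst, pullback.condition])
  -- first identity
  obtain ⟨k₁, φ₁, hk₁⟩ := hom_eq_eventually D c hc i₀ g₀ g₀ j (γ ≫ f₀)
    (pullback.snd (D.map j.hom) g₀) (by rw [Category.assoc]; exact hγ2) rfl (by
      rw [reassoc_of% hγ1]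
      have e1 : pullback.snd (c.π.app i₀) (f₀ ≫ g₀) ≫ f₀ =
          bcMap (c.π.app i₀) f₀ g₀ ≫ pullback.snd (c.π.app i₀) g₀ := by simp [bcMap]
      rw [e1, reassoc_of% hG1]
      simp [pbCone])
  -- second identity
  obtain ⟨k₂, φ₂, hk₂⟩ := hom_eq_eventually D c hc i₀ (f₀ ≫ g₀) (f₀ ≫ g₀) j
    (bcMap (D.map j.hom) f₀ g₀ ≫ γ) (pullback.snd (D.map j.hom) (f₀ ≫ g₀)) (by
      rw [Category.assoc, hγ2]; simp [bcMap]) rfl (by
      rw [reassoc_of% (bcMap_cone (c := c) i₀ g₀ f₀ j), hγ1, reassoc_of% hG2]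
      simp [pbCone])
  -- common refinement
  obtain ⟨k, ψ₁, ψ₂, hψ⟩ : ∃ (k : Over i₀) (ψ₁ : k ⟶ k₁) (ψ₂ : k ⟶ k₂), ψ₁ ≫ φ₁ = ψ₂ ≫ φ₂ := by
    obtain ⟨k', ψ₁, ψ₂, -⟩ := IsCofilteredOrEmpty.cone_objs k₁ k₂
    obtain ⟨k, ε, hε⟩ := IsCofilteredOrEmpty.cone_maps (ψ₁ ≫ φ₁) (ψ₂ ≫ φ₂)
    exact ⟨k, ε ≫ ψ₁, ε ≫ ψ₂, by simpa using hε⟩
  let θ : k ⟶ j := ψ₁ ≫ φ₁
  have hθ1 : (pbDiag D i₀ g₀).map θ ≫ γ ≫ f₀ = pullback.snd (D.map k.hom) g₀ := by
    have := congr((pbDiag D i₀ g₀).map ψ₁ ≫ $hk₁)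
    rw [← Functor.map_comp_assoc, ← Functor.map_comp_assoc] at this
    rw [this]
    simp [pbDiag]
  have hθ2 : (pbDiag D i₀ (f₀ ≫ g₀)).map θ ≫ bcMap (D.map j.hom) f₀ g₀ ≫ γ
      = pullback.snd (D.map k.hom) (f₀ ≫ g₀) := by
    have := congr((pbDiag D i₀ (f₀ ≫ g₀)).map ψ₂ ≫ $hk₂)
    rw [← Functor.map_comp_assoc, ← Functor.map_comp_assoc, ← hψ] at this
    rw [this]
    simp [pbDiag]
  refine ⟨k, ?_⟩
  let Gk : pullback (D.map k.hom) g₀ ⟶ pullback (D.map k.hom) (f₀ ≫ g₀) :=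
    pullback.lift (pullback.fst _ _) ((pbDiag D i₀ g₀).map θ ≫ γ) (by
      rw [Category.assoc, hγ2]
      simp [pbDiag, pullback.condition])
  refine ⟨Gk, ?_, ?_⟩
  · apply pullback.hom_ext
    · simp [Gk, bcMap]
    · simp only [Category.assoc, Gk, pullback.lift_snd, Category.id_comp]
      rw [← bcMap_naturality_assoc]
      exact hθ2
  · apply pullback.hom_ext
    · simp [Gk, bcMap]
    · simp only [Category.assoc, bcMap, pullback.lift_snd, Category.id_comp, Gk,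
        pullback.lift_snd_assoc]
      exact hθ1

include hc in
set_option backward.isDefEq.respectTransparency false in
theorem isIso_descends [CompactSpace (D.obj i₀)] [QuasiSeparatedSpace (D.obj i₀)]
    [LocallyOfFinitePresentation g₀] [QuasiCompact g₀] [QuasiSeparated g₀]
    [LocallyOfFinitePresentation (f₀ ≫ g₀)] [QuasiCompact (f₀ ≫ g₀)]
    (h : IsIso (limMap D c i₀ f₀ g₀)) :
    ∃ j : Over i₀, IsIso (stageMap D i₀ f₀ g₀ j) := by
  have hY₀c : CompactSpace Y₀ := QuasiCompact.compactSpace_of_compactSpace g₀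
  have hY₀q : QuasiSeparatedSpace Y₀ := quasiSeparatedSpace_of_quasiSeparated g₀
  have hX₀c : CompactSpace X₀ := QuasiCompact.compactSpace_of_compactSpace (f₀ ≫ g₀)
  have h1 : IsIso (bcMap (c.π.app i₀) f₀ g₀) :=
    (prop_bcMap_iff (c.π.app i₀) f₀ g₀ (MorphismProperty.isomorphisms Scheme.{u})).mpr h
  obtain ⟨j, hj⟩ := isIso_bcMap_descends hc i₀ g₀ f₀ h1
  exact ⟨j, (prop_bcMap_iff (D.map j.hom) f₀ g₀ (MorphismProperty.isomorphisms Scheme.{u})).mp hj⟩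

end Groth.Agent.Lead.LimIso
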