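import Mathlib
open CategoryTheory Limits

namespace Groth.Agent.Lead.PushoutGen
universe u

/-- In a pushout square of commutative rings `A = A₀ ⊗_{B₀} B`, if `A₀` is generated over `B₀` by
a set `s` whose image in `A` lies in the image of `B`, then `B ⟶ A` is surjective. -/
theorem surjective_of_isPushout {B₀ A₀ B A : CommRingCat.{u}} {φ₀ : B₀ ⟶ A₀} {β : B₀ ⟶ B}
    {α : A₀ ⟶ A} {φ : B ⟶ A} (h : IsPushout φ₀ β α φ) (s : Set A₀)
    (hs : ∀ R : Subring A₀, (∀ b, φ₀.hom b ∈ R) → s ⊆ R → R = ⊤)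
    (hα : ∀ a ∈ s, α.hom a ∈ Set.range φ.hom) : Function.Surjective φ.hom := by
  let R' : Subring A := φ.hom.range
  have hR₀ : R'.comap α.hom = ⊤ := by
    apply hs
    · intro b
      change α.hom (φ₀.hom b) ∈ R'
      have : α.hom (φ₀.hom b) = φ.hom (β.hom b) := by
        have := congr($(h.w).hom b)
        simpa using this
      rw [this]
      exact ⟨_, rfl⟩
    · intro a ha
      exact hα a ha
  have hαR : ∀ a, α.hom a ∈ R' := fun a ↦ by
    have : a ∈ R'.comap α.hom := by rw [hR₀]; trivial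
    exact this
  let u : A₀ ⟶ CommRingCat.of R' := CommRingCat.ofHom (α.hom.codRestrict R' hαR)
  let v : B ⟶ CommRingCat.of R' := CommRingCat.ofHom φ.hom.rangeRestrict
  let ι : CommRingCat.of R' ⟶ A := CommRingCat.ofHom R'.subtype
  have huv : φ₀ ≫ u = β ≫ v := by
    ext b
    have := congr($(h.w).hom b)
    change α.hom (φ₀.hom b) = φ.hom (β.hom b)
    simpa using this
  let d : A ⟶ CommRingCat.of R' := h.desc u v huv
  have hd : d ≫ ι = 𝟙 A := by
    apply h.hom_ext
    · rw [h.inl_desc_assoc]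
      ext a
      simp [u, ι]
    · rw [h.inr_desc_assoc]
      ext b
      rfl
  intro x
  have : x = (d ≫ ι).hom x := by rw [hd]; rfl
  have hx : x ∈ R' := by
    rw [this]
    exact (d.hom x).2
  exact hx

end Groth.Agent.Lead.PushoutGen
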