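import Groth.Agent.Lead.LimBC
import Groth.Agent.Lead.LimIso
import Groth.Agent.Lead.PushoutGen
open CategoryTheory Limits AlgebraicGeometry Topology

namespace Groth.Agent.Lead.LimClosed
open Groth.Agent.Lead.LimPullback Groth.Agent.Lead.LimFrame Groth.Agent.Lead.LimBC
  Groth.Agent.Lead.LimIso Groth.Agent.Lead.LimHom
universe u

variable {I : Type u} [SmallCategory I] [IsCofiltered I] {D : I ⥤ Scheme.{u}} {c : Cone D}
  (hc : IsLimit c) [∀ {i j : I} (f : i ⟶ j), IsAffineHom (D.map f)] (i₀ : I)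
  {X₀ Y₀ : Scheme.{u}} (g₀ : Y₀ ⟶ D.obj i₀) (f₀ : X₀ ⟶ Y₀)

omit [IsCofiltered I] [∀ {i j : I} (f : i ⟶ j), IsAffineHom (D.map f)] in
set_option backward.isDefEq.respectTransparency false in
/-- the base-changed system is cartesian -/
theorem isPullback_bcMap_map {j k : Over i₀} (φ : k ⟶ j) :
    IsPullback ((pbDiag D i₀ (f₀ ≫ g₀)).map φ) (bcMap (D.map k.hom) f₀ g₀)
      (bcMap (D.map j.hom) f₀ g₀) ((pbDiag D i₀ g₀).map φ) := by
  refine IsPullback.of_right ?_ (bcMap_naturality i₀ g₀ f₀ φ) (isPullback_bcMap (D.map j.hom) f₀ g₀)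
  have e1 : (pbDiag D i₀ (f₀ ≫ g₀)).map φ ≫ pullback.snd (D.map j.hom) (f₀ ≫ g₀) =
      pullback.snd (D.map k.hom) (f₀ ≫ g₀) := by simp [pbDiag]
  have e2 : (pbDiag D i₀ g₀).map φ ≫ pullback.snd (D.map j.hom) g₀ =
      pullback.snd (D.map k.hom) g₀ := by simp [pbDiag]
  rw [e1, e2]
  exact isPullback_bcMap (D.map k.hom) f₀ g₀

include hc in
set_option backward.isDefEq.respectTransparency false in
theorem isClosedImmersion_bcMap_descends_of_isAffine [IsAffine Y₀] [CompactSpace X₀]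
    [QuasiSeparatedSpace X₀] [LocallyOfFiniteType f₀]
    (h : IsClosedImmersion (bcMap (c.π.app i₀) f₀ g₀)) :
    ∃ j : Over i₀, IsClosedImmersion (bcMap (D.map j.hom) f₀ g₀) := by
  classical
  have hA : ∀ {i j : I} (f : i ⟶ j), IsAffineHom (D.map f) := fun f ↦ inferInstance
  have hπ : IsAffineHom (c.π.app i₀) := isAffineHom_π_app D c hc i₀
  -- the two systems
  let 𝒳 := pbDiag D i₀ (f₀ ≫ g₀)
  let 𝒴 := pbDiag D i₀ g₀
  let cX := pbCone D c i₀ (f₀ ≫ g₀)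
  let cY := pbCone D c i₀ g₀
  have hcX : IsLimit cX := pbConeIsLimit i₀ (f₀ ≫ g₀) hc
  have hcY : IsLimit cY := pbConeIsLimit i₀ g₀ hc
  have hXA : ∀ {j k : Over i₀} (f : j ⟶ k), IsAffineHom (𝒳.map f) :=
    fun f ↦ isAffineHom_pbDiag_map i₀ (f₀ ≫ g₀) f
  have hYA : ∀ {j k : Over i₀} (f : j ⟶ k), IsAffineHom (𝒴.map f) :=
    fun f ↦ isAffineHom_pbDiag_map i₀ g₀ f
  have hXc : ∀ j : Over i₀, CompactSpace ↥(𝒳.obj j) := fun j ↦ compactSpace_pbDiag D i₀ _ j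
  have hXq : ∀ j : Over i₀, QuasiSeparatedSpace ↥(𝒳.obj j) :=
    fun j ↦ quasiSeparatedSpace_pbDiag D i₀ _ j
  have hYaff : ∀ j : Over i₀, IsAffine (𝒴.obj j) := fun j ↦ by
    have := isAffineHom_snd D i₀ g₀ j
    exact isAffine_of_isAffineHom (pullback.snd (D.map j.hom) g₀)
  have hYlim : IsAffine cY.pt := by
    have : IsAffineHom (pullback.snd (c.π.app i₀) g₀) := MorphismProperty.pullback_snd _ _ hπ
    exact isAffine_of_isAffineHom (pullback.snd (c.π.app i₀) g₀)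
  have hXlim : IsAffine cX.pt := by
    have : IsAffineHom (bcMap (c.π.app i₀) f₀ g₀) := inferInstance
    exact isAffine_of_isAffineHom (bcMap (c.π.app i₀) f₀ g₀)
  -- some stage of the X-system is affine
  obtain ⟨j₁, hj₁⟩ := Scheme.exists_isAffine_of_isLimit 𝒳 cX hcX
  have hXaff : ∀ (k : Over i₀) (_ : k ⟶ j₁), IsAffine (𝒳.obj k) := fun k φ ↦
    isAffine_of_isAffineHom (𝒳.map φ)
  -- typed versions of the base change maps
  let Fm : ∀ j : Over i₀, 𝒳.obj j ⟶ 𝒴.obj j := fun j ↦ bcMap (D.map j.hom) f₀ g₀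
  let Fl : cX.pt ⟶ cY.pt := bcMap (c.π.app i₀) f₀ g₀
  have hnat : ∀ {j k : Over i₀} (φ : k ⟶ j), 𝒳.map φ ≫ Fm j = Fm k ≫ 𝒴.map φ :=
    fun φ ↦ bcMap_naturality i₀ g₀ f₀ φ
  have hcone : ∀ j : Over i₀, cX.π.app j ≫ Fm j = Fl ≫ cY.π.app j :=
    fun j ↦ bcMap_cone (c := c) i₀ g₀ f₀ j
  have app2 : ∀ {A B C : Scheme.{u}} (f : A ⟶ B) (g : B ⟶ C) (x : Γ(C, ⊤)),
      f.appTop.hom (g.appTop.hom x) = (f ≫ g).appTop.hom x := by
    intro A B C f g x; simp
  -- generators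
  have hft : (Fm j₁).appTop.hom.FiniteType := by
    have h1 : LocallyOfFiniteType (Fm j₁) := by
      change LocallyOfFiniteType (bcMap (D.map j₁.hom) f₀ g₀)
      rw [show bcMap (D.map j₁.hom) f₀ g₀ = (bcIso (D.map j₁.hom) f₀ g₀).hom ≫
        pullback.snd f₀ (pullback.snd (D.map j₁.hom) g₀) from (bcIso_hom_snd _ _ _).symm]
      infer_instance
    have := hYaff j₁
    exact HasRingHomProperty.appTop (P := @LocallyOfFiniteType) _ h1
  have hsurj : Function.Surjective Fl.appTop.hom :=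
    (IsClosedImmersion.isAffine_surjective_of_isAffine (bcMap (c.π.app i₀) f₀ g₀)).2
  -- key: each section of the affine stage is eventually in the image
  have key : ∀ a : Γ(𝒳.obj j₁, ⊤), ∃ (k : Over i₀) (θ : k ⟶ j₁),
      ∀ (l : Over i₀) (ψ : l ⟶ k), (𝒳.map (ψ ≫ θ)).appTop.hom a ∈
        Set.range (Fm l).appTop.hom := by
    intro a
    obtain ⟨b, hb⟩ := hsurj ((cX.π.app j₁).appTop.hom a)
    obtain ⟨j, bj, hbj⟩ := exists_appTop_π_eq_of_isAffine_of_isLimit 𝒴 cY hcY b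
    obtain ⟨j', ψ₁, ψ₂, -⟩ := IsCofilteredOrEmpty.cone_objs j j₁
    let u : Γ(𝒳.obj j', ⊤) := (𝒳.map ψ₂).appTop.hom a
    let v : Γ(𝒳.obj j', ⊤) := (Fm j').appTop.hom ((𝒴.map ψ₁).appTop.hom bj)
    have huv : (cX.π.app j').appTop.hom (u - v) = 0 := by
      rw [map_sub, sub_eq_zero]
      have e1 : (cX.π.app j').appTop.hom u = (cX.π.app j₁).appTop.hom a := by
        simp only [u]
        rw [app2, cX.w]
        rfl
      have e2 : (cX.π.app j').appTop.hom v = (cX.π.app j₁).appTop.hom a := by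
        simp only [v]
        have em : (cX.π.app j' ≫ Fm j') ≫ 𝒴.map ψ₁ = Fl ≫ cY.π.app j := by
          rw [hcone, Category.assoc, cY.w]
        have hbj' : (cY.π.app j).appTop.hom bj = b := hbj
        have step1 : (cX.π.app j').appTop.hom ((Fm j').appTop.hom ((𝒴.map ψ₁).appTop.hom bj)) =
            (Fl ≫ cY.π.app j).appTop.hom bj := by
          rw [app2, app2, em]
          rfl
        have step2 : (Fl ≫ cY.π.app j).appTop.hom bj =
            Fl.appTop.hom ((cY.π.app j).appTop.hom bj) := (app2 _ _ _).symm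
        rw [step1, step2]
        exact (congrArg Fl.appTop.hom hbj').trans hb
      rw [e1, e2]
    obtain ⟨k, θ', hk⟩ := exists_appTop_map_eq_zero_of_isLimit 𝒳 cX hcX (u - v) huv
    refine ⟨k, θ' ≫ ψ₂, fun l ψ ↦ ?_⟩
    rw [map_sub, sub_eq_zero] at hk
    refine ⟨(𝒴.map (ψ ≫ θ' ≫ ψ₁)).appTop.hom bj, ?_⟩
    have e3 : (𝒳.map (ψ ≫ θ' ≫ ψ₂)).appTop.hom a =
        (𝒳.map ψ).appTop.hom ((𝒳.map θ').appTop.hom u) := by
      simp only [u]
      rw [app2, app2, ← Functor.map_comp, ← Functor.map_comp, Category.assoc]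
    rw [e3, hk]
    simp only [v]
    have em2 : Fm l ≫ 𝒴.map (ψ ≫ θ' ≫ ψ₁) = ((𝒳.map ψ ≫ 𝒳.map θ') ≫ Fm j') ≫ 𝒴.map ψ₁ := by
      rw [← Functor.map_comp, hnat, Category.assoc, ← Functor.map_comp, Category.assoc]
    rw [app2, app2, app2, app2, em2]
  -- finitely many generators
  letI alg : Algebra Γ(𝒴.obj j₁, ⊤) Γ(𝒳.obj j₁, ⊤) := (Fm j₁).appTop.hom.toAlgebra
  obtain ⟨s, hs⟩ := hft.out
  choose kk θ hkk using key
  obtain ⟨k, hk⟩ : ∃ k : Over j₁, ∀ a ∈ s, Nonempty (k ⟶ Over.mk (θ a)) := by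
    obtain ⟨k, hk⟩ := IsCofiltered.inf_objs_exists (s.image fun a ↦ (Over.mk (θ a) : Over j₁))
    exact ⟨k, fun a ha ↦ hk (Finset.mem_image_of_mem _ ha)⟩
  refine ⟨k.left, ?_⟩
  have hXk : IsAffine (𝒳.obj k.left) := hXaff k.left k.hom
  have hYk : IsAffine (𝒴.obj k.left) := hYaff k.left
  have hYj : IsAffine (𝒴.obj j₁) := hYaff j₁
  have hpb : IsPullback (𝒳.map k.hom) (Fm k.left) (Fm j₁) (𝒴.map k.hom) :=
    isPullback_bcMap_map i₀ g₀ f₀ k.hom
  have hpo := isPushout_appTop_of_isPullback hpb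
  change IsClosedImmersion (Fm k.left)
  apply IsClosedImmersion.of_surjective_of_isAffine
  refine PushoutGen.surjective_of_isPushout hpo (s : Set Γ(𝒳.obj j₁, ⊤)) ?_ ?_
  · intro R hR hsR
    have h1 : Algebra.adjoin Γ(𝒴.obj j₁, ⊤) (s : Set Γ(𝒳.obj j₁, ⊤)) ≤
        (Subalgebra.mk R.toSubsemiring (fun b ↦ hR b) :
          Subalgebra Γ(𝒴.obj j₁, ⊤) Γ(𝒳.obj j₁, ⊤)) :=
      Algebra.adjoin_le hsR
    rw [hs] at h1
    rw [eq_top_iff]
    intro x _
    exact h1 (Algebra.mem_top)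
  · intro a ha
    obtain ⟨ψ⟩ := hk a ha
    have hw : ψ.left ≫ θ a = k.hom := Over.w ψ
    have := hkk a k.left ψ.left
    rw [hw] at this
    exact this

include hc in
set_option backward.isDefEq.respectTransparency false in
theorem isClosedImmersion_descends [CompactSpace X₀] [QuasiSeparatedSpace X₀] [CompactSpace Y₀]
    [QuasiSeparatedSpace Y₀] [LocallyOfFiniteType f₀]
    (h : IsClosedImmersion (LimFrame.limMap D c i₀ f₀ g₀)) :
    ∃ j : Over i₀, IsClosedImmersion (stageMap D i₀ f₀ g₀ j) := by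
  classical
  let 𝒱 := Y₀.affineCover.finiteSubcover
  have h𝒱 : ∀ r, IsAffine (𝒱.X r) := fun r ↦ by
    dsimp [𝒱, Scheme.OpenCover.finiteSubcover]; infer_instance
  have key : ∀ r : 𝒱.I₀, ∃ j : Over i₀,
      IsClosedImmersion (stageMap D i₀ (pullback.snd f₀ (𝒱.f r)) (𝒱.f r ≫ g₀) j) := by
    intro r
    have hTc : CompactSpace ↥(pullback f₀ (𝒱.f r)) := inferInstance
    have hTq : QuasiSeparatedSpace ↥(pullback f₀ (𝒱.f r)) :=
      quasiSeparatedSpace_of_quasiSeparated (pullback.fst f₀ (𝒱.f r))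
    let w := pullback.snd (c.π.app i₀) (𝒱.f r ≫ g₀)
    let t : pullback (c.π.app i₀) (𝒱.f r ≫ g₀) ⟶ pullback (c.π.app i₀) g₀ :=
      pullback.lift (pullback.fst _ _) (w ≫ 𝒱.f r) (by
        rw [Category.assoc]; exact pullback.condition)
    have h1 : IsClosedImmersion (LimFrame.limMap D c i₀ (pullback.snd f₀ (𝒱.f r)) (𝒱.f r ≫ g₀)) := by
      refine (prop_snd_snd_iff (@IsClosedImmersion) f₀ (𝒱.f r) w).mpr ?_
      exact prop_snd_of_fac (@IsClosedImmersion) f₀ _ _ t (by simp [t]) h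
    have h2 := (prop_bcMap_iff (c.π.app i₀) (pullback.snd f₀ (𝒱.f r)) (𝒱.f r ≫ g₀)
      (@IsClosedImmersion)).mpr h1
    obtain ⟨j, hj⟩ := isClosedImmersion_bcMap_descends_of_isAffine hc i₀ (𝒱.f r ≫ g₀)
      (pullback.snd f₀ (𝒱.f r)) h2
    exact ⟨j, (prop_bcMap_iff (D.map j.hom) (pullback.snd f₀ (𝒱.f r)) (𝒱.f r ≫ g₀)
      (@IsClosedImmersion)).mp hj⟩
  choose l hl using key
  have : Finite 𝒱.I₀ := inferInstance
  cases nonempty_fintype 𝒱.I₀
  obtain ⟨k, fk⟩ := IsCofiltered.inf_objs_exists (Finset.univ.image l)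
  refine ⟨k, ?_⟩
  let qk := pullback.snd (D.map k.hom) g₀
  let 𝒰 := 𝒱.pullback₁ qk
  rw [IsZariskiLocalAtTarget.iff_of_openCover (P := @IsClosedImmersion) 𝒰]
  intro (r : 𝒱.I₀)
  change IsClosedImmersion (pullback.snd (pullback.snd f₀ qk) (pullback.fst qk (𝒱.f r)))
  refine (prop_snd_snd_iff (@IsClosedImmersion) f₀ qk (pullback.fst qk (𝒱.f r))).mpr ?_
  let u : k ⟶ l r := (fk (Finset.mem_image_of_mem l (Finset.mem_univ r))).some
  have h3 : IsClosedImmersion (stageMap D i₀ (pullback.snd f₀ (𝒱.f r)) (𝒱.f r ≫ g₀) k) :=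
    stage_of_hom (@IsClosedImmersion) u (hl r)
  have h4 := (prop_snd_snd_iff (@IsClosedImmersion) f₀ (𝒱.f r)
    (pullback.snd (D.map k.hom) (𝒱.f r ≫ g₀))).mp h3
  let s : pullback qk (𝒱.f r) ⟶ pullback (D.map k.hom) (𝒱.f r ≫ g₀) :=
    pullback.lift (pullback.fst _ _ ≫ pullback.fst (D.map k.hom) g₀) (pullback.snd _ _) (by
      rw [Category.assoc, pullback.condition, ← Category.assoc, pullback.condition,
        Category.assoc])
  exact prop_snd_of_fac (@IsClosedImmersion) f₀ _ _ s (by simp [s, pullback.condition]) h4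

end Groth.Agent.Lead.LimClosed
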