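import Groth.Agent.Lead.LimOpen
import Groth.Agent.Lead.LimClosed
open CategoryTheory Limits AlgebraicGeometry Topology

namespace Groth.Agent.Lead.LimImm
open Groth.Agent.Lead.LimPullback Groth.Agent.Lead.LimFrame Groth.Agent.Lead.LimBC
  Groth.Agent.Lead.LimIso Groth.Agent.Lead.LimHom Groth.Agent.Lead.LimOpen
universe u

theorem exists_compact_open_between {X : Type*} [TopologicalSpace X] [PrespectralSpace X]
    {K W : Set X} (hK : IsCompact K) (hW : IsOpen W) (hKW : K ⊆ W) :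
    ∃ U : Set X, IsOpen U ∧ IsCompact U ∧ K ⊆ U ∧ U ⊆ W := by
  have hb := PrespectralSpace.isTopologicalBasis (X := X)
  have h1 : ∀ x ∈ K, ∃ U : Set X, (IsOpen U ∧ IsCompact U) ∧ x ∈ U ∧ U ⊆ W := fun x hx ↦ by
    obtain ⟨U, hU, hxU, hUW⟩ := hb.exists_subset_of_mem_open (hKW hx) hW
    exact ⟨U, hU, hxU, hUW⟩
  choose! U hU hxU hUW using h1
  obtain ⟨t, htK, ht⟩ := hK.elim_nhds_subcover U (fun x hx ↦ (hU x hx).1.mem_nhds (hxU x hx))
  refine ⟨⋃ x ∈ t, U x, isOpen_biUnion fun x hx ↦ (hU x (htK x hx)).1,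
    t.isCompact_biUnion fun x hx ↦ (hU x (htK x hx)).2, ht, ?_⟩
  exact Set.iUnion₂_subset fun x hx ↦ hUW x (htK x hx)

/-- base change of a composite with a mono along the mono -/
theorem prop_snd_comp_mono_iff {C : Type*} [Category C] [HasPullbacks C]
    (P : MorphismProperty C) [P.RespectsIso] {X W Y : C} (a : X ⟶ W) (m : W ⟶ Y) [Mono m]
    (F : X ⟶ Y) (hF : a ≫ m = F) :
    P (pullback.snd F m) ↔ P a := by
  subst hF
  have hP : IsPullback (𝟙 X) a (a ≫ m) m := IsPullback.of_horiz_isIso_mono ⟨by simp⟩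
  have e : a = hP.isoPullback.hom ≫ pullback.snd (a ≫ m) m := by
    rw [hP.isoPullback_hom_snd]
  conv_rhs => rw [e]
  rw [P.cancel_left_of_respectsIso]

variable {I : Type u} [SmallCategory I] [IsCofiltered I] {D : I ⥤ Scheme.{u}} {c : Cone D}
  (hc : IsLimit c) [∀ {i j : I} (f : i ⟶ j), IsAffineHom (D.map f)] (i₀ : I)
  {X₀ Y₀ : Scheme.{u}} (g₀ : Y₀ ⟶ D.obj i₀) (f₀ : X₀ ⟶ Y₀)

include hc in
set_option backward.isDefEq.respectTransparency false in
/-- core step -/
theorem core [CompactSpace X₀] [QuasiSeparatedSpace X₀] [CompactSpace Y₀] [QuasiSeparatedSpace Y₀]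
    [LocallyOfFiniteType f₀] (V : Y₀.Opens) (hVc : IsCompact (V : Set Y₀))
    (H1 : ∀ x, (pullback.snd (c.π.app i₀) g₀).base ((LimFrame.limMap D c i₀ f₀ g₀).base x) ∈ V)
    (H2 : IsClosedImmersion (pullback.snd f₀
      ((pullback.snd (c.π.app i₀) g₀ ⁻¹ᵁ V).ι ≫ pullback.snd (c.π.app i₀) g₀))) :
    ∃ j : Over i₀, IsImmersion (stageMap D i₀ f₀ g₀ j) := by
  have hf₀c : QuasiCompact f₀ := inferInstance
  have hf₀q : QuasiSeparated f₀ := inferInstance
  let q := pullback.snd (c.π.app i₀) g₀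
  -- Step a
  have hVcons : IsConstructible (V : Set Y₀) := hVc.isConstructible V.2
  have hE : IsConstructible (f₀.base ⁻¹' (V : Set Y₀))ᶜ :=
    (Scheme.Hom.isConstructible_preimage f₀ hVcons).compl
  obtain ⟨k₁, hk₁⟩ := LimSurj.exists_preimage_eq_empty hc i₀ (f₀ ≫ g₀) _ hE (by
    rw [Set.eq_empty_iff_forall_notMem]
    intro z hz
    apply hz
    change f₀.base ((pullback.snd (c.π.app i₀) (f₀ ≫ g₀)).base z) ∈ (V : Set Y₀)
    have e1 : pullback.snd (c.π.app i₀) (f₀ ≫ g₀) ≫ f₀ =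
        (bcIso (c.π.app i₀) f₀ g₀).hom ≫ LimFrame.limMap D c i₀ f₀ g₀ ≫ q := by
      rw [bcIso_hom_snd_assoc]; simp [bcMap, q]
    rw [← Scheme.Hom.comp_apply, e1, Scheme.Hom.comp_apply, Scheme.Hom.comp_apply]
    exact H1 _)
  -- Step b
  have hVcs : CompactSpace ↥(V : Scheme.{u}) := isCompact_iff_compactSpace.mp hVc
  have hVq : QuasiSeparatedSpace ↥(V : Scheme.{u}) :=
    quasiSeparatedSpace_of_quasiSeparated V.ι
  have hVι : QuasiCompact V.ι := inferInstance
  let fV := pullback.snd f₀ V.ι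
  let gV := V.ι ≫ g₀
  have hTc : CompactSpace ↥(pullback f₀ V.ι) :=
    QuasiCompact.compactSpace_of_compactSpace (pullback.fst f₀ V.ι)
  have hTq : QuasiSeparatedSpace ↥(pullback f₀ V.ι) :=
    quasiSeparatedSpace_of_quasiSeparated (pullback.fst f₀ V.ι)
  have hcl : IsClosedImmersion (LimFrame.limMap D c i₀ fV gV) := by
    let w := pullback.snd (c.π.app i₀) gV
    let tV : pullback (c.π.app i₀) gV ⟶ pullback (c.π.app i₀) g₀ :=
      pullback.lift (pullback.fst _ _) (w ≫ V.ι) (by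
        rw [Category.assoc]; exact pullback.condition)
    have htV : tV ≫ q = w ≫ V.ι := by simp [tV, q]
    let r : pullback (c.π.app i₀) gV ⟶ (q ⁻¹ᵁ V : Scheme.{u}) :=
      IsOpenImmersion.lift (q ⁻¹ᵁ V).ι tV (by
        rintro _ ⟨y, rfl⟩
        rw [Scheme.Opens.range_ι]
        change q.base (tV.base y) ∈ (V : Set Y₀)
        rw [← Scheme.Hom.comp_apply, htV, Scheme.Hom.comp_apply]
        exact (w.base y).2)
    have hr : r ≫ (q ⁻¹ᵁ V).ι = tV := IsOpenImmersion.lift_fac _ _ _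
    refine (prop_snd_snd_iff (@IsClosedImmersion) f₀ V.ι w).mpr ?_
    exact prop_snd_of_fac (@IsClosedImmersion) f₀ _ _ r (by rw [reassoc_of% hr, htV]) H2
  obtain ⟨k₂, hk₂⟩ := LimClosed.isClosedImmersion_descends hc i₀ gV fV hcl
  -- Step c
  obtain ⟨k, φ₁, φ₂, -⟩ := IsCofilteredOrEmpty.cone_objs k₁ k₂
  refine ⟨k, ?_⟩
  have hk₂' : IsClosedImmersion (stageMap D i₀ fV gV k) :=
    stage_of_hom (@IsClosedImmersion) φ₂ hk₂
  let qk := pullback.snd (D.map k.hom) g₀
  let fk := stageMap D i₀ f₀ g₀ k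
  let Vk : (pullback (D.map k.hom) g₀).Opens := qk ⁻¹ᵁ V
  have hrange : ∀ x, fk.base x ∈ Vk := by
    intro x
    change qk.base (fk.base x) ∈ (V : Set Y₀)
    rw [← Scheme.Hom.comp_apply]
    have e3 : fk ≫ qk = (bcIso (D.map k.hom) f₀ g₀).inv ≫
        (pbDiag D i₀ (f₀ ≫ g₀)).map φ₁ ≫ pullback.snd (D.map k₁.hom) (f₀ ≫ g₀) ≫ f₀ := by
      rw [Iso.eq_inv_comp, bcIso_hom_snd_assoc]
      simp [pbDiag, bcMap, qk, fk]
    rw [e3]
    by_contra hcon
    have : ((pbDiag D i₀ (f₀ ≫ g₀)).map φ₁).base ((bcIso (D.map k.hom) f₀ g₀).inv.base x) ∈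
        (pullback.snd (D.map k₁.hom) (f₀ ≫ g₀)).base ⁻¹' (f₀.base ⁻¹' (V : Set Y₀))ᶜ := hcon
    rw [hk₁] at this
    exact this
  have hres : IsClosedImmersion (pullback.snd fk Vk.ι) := by
    refine (prop_snd_snd_iff (@IsClosedImmersion) f₀ qk Vk.ι).mpr ?_
    have h3 := (prop_snd_snd_iff (@IsClosedImmersion) f₀ V.ι
      (pullback.snd (D.map k.hom) gV)).mp hk₂'
    let r : (Vk : Scheme.{u}) ⟶ V := IsOpenImmersion.lift V.ι (Vk.ι ≫ qk) (by
      rintro _ ⟨y, rfl⟩
      rw [Scheme.Opens.range_ι]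
      exact y.2)
    have hr : r ≫ V.ι = Vk.ι ≫ qk := IsOpenImmersion.lift_fac _ _ _
    let s : (Vk : Scheme.{u}) ⟶ pullback (D.map k.hom) gV :=
      pullback.lift (Vk.ι ≫ pullback.fst _ _) r (by
        simp only [gV, Category.assoc]
        rw [reassoc_of% hr, pullback.condition])
    exact prop_snd_of_fac (@IsClosedImmersion) f₀ _ _ s (by simp [s, hr]) h3
  have hfst : IsIso (pullback.fst fk Vk.ι) := by
    apply isIso_of_isOpenImmersion_of_opensRange_eq_top
    apply TopologicalSpace.Opens.ext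
    rw [Scheme.Hom.coe_opensRange, TopologicalSpace.Opens.coe_top, Scheme.Pullback.range_fst,
      Set.eq_univ_iff_forall]
    intro x
    change fk.base x ∈ Set.range Vk.ι.base
    rw [Scheme.Opens.range_ι]
    exact hrange x
  have e4 : fk = inv (pullback.fst fk Vk.ι) ≫ pullback.snd fk Vk.ι ≫ Vk.ι := by
    rw [IsIso.eq_inv_comp, pullback.condition]
  change IsImmersion fk
  rw [e4]
  infer_instance

include hc in
set_option backward.isDefEq.respectTransparency false in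
theorem isImmersion_descends [CompactSpace X₀] [QuasiSeparatedSpace X₀] [CompactSpace Y₀]
    [QuasiSeparatedSpace Y₀] [LocallyOfFiniteType f₀]
    (h : IsImmersion (LimFrame.limMap D c i₀ f₀ g₀)) :
    ∃ j : Over i₀, IsImmersion (stageMap D i₀ f₀ g₀ j) := by
  have hf₀c : QuasiCompact f₀ := inferInstance
  have hf₀q : QuasiSeparated f₀ := inferInstance
  have hπ : IsAffineHom (c.π.app i₀) := isAffineHom_π_app D c hc i₀
  let q := pullback.snd (c.π.app i₀) g₀
  have hq : IsAffineHom q := MorphismProperty.pullback_snd _ _ hπ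
  have hfst : IsAffineHom (pullback.fst f₀ q) := MorphismProperty.pullback_fst _ _ hq
  have hXc : CompactSpace ↥(pullback f₀ q) :=
    QuasiCompact.compactSpace_of_compactSpace (pullback.fst f₀ q)
  have hA : ∀ {j k : Over i₀} (f : j ⟶ k), IsAffineHom ((pbDiag D i₀ g₀).map f) :=
    fun f ↦ isAffineHom_pbDiag_map i₀ g₀ f
  let F := LimFrame.limMap D c i₀ f₀ g₀
  let W := F.coborderRange
  have hK : IsCompact (Set.range F.base) := isCompact_range F.base.hom.continuous
  have hKW : Set.range F.base ⊆ (W : Set ↥(pullback (c.π.app i₀) g₀)) := subset_coborder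
  obtain ⟨U, hUo, hUc, hKU, hUW⟩ := exists_compact_open_between hK W.2 hKW
  let Uo : (pbCone D c i₀ g₀).pt.Opens := ⟨U, hUo⟩
  obtain ⟨j, V, hVc, hVU⟩ := exists_preimage_eq (pbDiag D i₀ g₀) (pbCone D c i₀ g₀)
    (pbConeIsLimit i₀ g₀ hc) Uo hUc
  obtain ⟨V', hV'def⟩ : ∃ V' : (pullback (D.map j.hom) g₀).Opens, V' = V := ⟨V, rfl⟩
  subst hV'def
  -- the restriction of `F` over `Uo` is a closed immersion
  have hUoW : Uo ≤ W := hUW
  have hFU : IsClosedImmersion (pullback.snd F Uo.ι) := by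
    have h1 : IsClosedImmersion (pullback.snd F W.ι) :=
      (prop_snd_comp_mono_iff (@IsClosedImmersion) F.liftCoborder W.ι F F.liftCoborder_ι).mpr
        inferInstance
    exact prop_snd_of_fac (@IsClosedImmersion) F W.ι Uo.ι (Scheme.homOfLE _ hUoW)
      (Scheme.homOfLE_ι _ hUoW) h1
  have hFU' := (prop_snd_snd_iff (@IsClosedImmersion) f₀ q Uo.ι).mp hFU
  -- rebased frame
  have hjA : IsAffineHom (D.map j.hom) := inferInstance
  let g₀' := pullback.fst (D.map j.hom) g₀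
  let qj := pullback.snd (D.map j.hom) g₀
  have hqj : IsAffineHom qj := MorphismProperty.pullback_snd _ _ hjA
  let f₀' := stageMap D i₀ f₀ g₀ j
  have hYjc : CompactSpace ↥(pullback (D.map j.hom) g₀) :=
    QuasiCompact.compactSpace_of_compactSpace qj
  have hYjq : QuasiSeparatedSpace ↥(pullback (D.map j.hom) g₀) :=
    quasiSeparatedSpace_of_quasiSeparated qj
  have hfstj : IsAffineHom (pullback.fst f₀ qj) := MorphismProperty.pullback_fst _ _ hqj
  have hXjc : CompactSpace ↥(pullback f₀ qj) :=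
    QuasiCompact.compactSpace_of_compactSpace (pullback.fst f₀ qj)
  have hXjq : QuasiSeparatedSpace ↥(pullback f₀ qj) :=
    quasiSeparatedSpace_of_quasiSeparated (pullback.fst f₀ qj)
  have hf₀' : LocallyOfFiniteType f₀' := by dsimp only [f₀']; infer_instance
  let q' := pullback.snd (c.π.app j.left) g₀'
  let t : pullback (c.π.app j.left) g₀' ⟶ pullback (c.π.app i₀) g₀ :=
    pullback.lift (pullback.fst _ _) (q' ≫ qj) (by
      rw [Category.assoc, ← pullback.condition, ← pullback.condition_assoc, c.w])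
  have ht1 : t ≫ q = q' ≫ qj := by simp [t, q]
  have ht2 : t ≫ (pbCone D c i₀ g₀).π.app j = q' := by
    apply pullback.hom_ext
    · simp only [t, pbCone, q', Category.assoc, pullback.lift_fst, pullback.lift_fst_assoc]
      exact pullback.condition
    · simp [t, pbCone, q', qj]
  have hmemU : ∀ y, t.base y ∈ (Uo : Set ↥(pbCone D c i₀ g₀).pt) ↔
      q'.base y ∈ (V' : Set ↥(pullback (D.map j.hom) g₀)) := by
    intro y
    rw [← hVU]
    have e : ((pbCone D c i₀ g₀).π.app j).base (t.base y) = q'.base y := by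
      rw [← ht2]; rfl
    change ((pbCone D c i₀ g₀).π.app j).base (t.base y) ∈
      (V' : Set ↥(pullback (D.map j.hom) g₀)) ↔ _
    rw [e]
  have H1 : ∀ x, q'.base ((LimFrame.limMap D c j.left f₀' g₀').base x) ∈ V' := by
    intro x
    refine (hmemU _).mp ?_
    apply hKU
    have hx : (LimFrame.limMap D c j.left f₀' g₀').base x ∈
        Set.range (pullback.snd (pullback.snd f₀ qj) q').base := ⟨x, rfl⟩
    rw [range_snd_snd] at hx
    have hx' : (q' ≫ qj).base ((LimFrame.limMap D c j.left f₀' g₀').base x) ∈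
        Set.range f₀.base := hx
    rw [← ht1, Scheme.Hom.comp_apply] at hx'
    have := Scheme.Pullback.range_snd f₀ q
    change t.base _ ∈ Set.range (pullback.snd f₀ q).base
    rw [show Set.range (pullback.snd f₀ q).base = q.base ⁻¹' Set.range f₀.base from this]
    exact hx'
  have H2 : IsClosedImmersion (pullback.snd f₀' ((q' ⁻¹ᵁ V').ι ≫ q')) := by
    refine (prop_snd_snd_iff (@IsClosedImmersion) f₀ qj ((q' ⁻¹ᵁ V').ι ≫ q')).mpr ?_
    let r' : (q' ⁻¹ᵁ V' : Scheme.{u}) ⟶ Uo :=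
      IsOpenImmersion.lift Uo.ι ((q' ⁻¹ᵁ V').ι ≫ t) (by
        rintro _ ⟨y, rfl⟩
        rw [Scheme.Opens.range_ι]
        change t.base ((q' ⁻¹ᵁ V').ι.base y) ∈ (Uo : Set ↥(pbCone D c i₀ g₀).pt)
        rw [hmemU]
        exact y.2)
    have hr' : r' ≫ Uo.ι = (q' ⁻¹ᵁ V').ι ≫ t := IsOpenImmersion.lift_fac _ _ _
    exact prop_snd_of_fac (@IsClosedImmersion) f₀ _ _ r'
      (by rw [reassoc_of% hr', ht1, Category.assoc]) hFU'
  obtain ⟨k, hk⟩ := core hc j.left g₀' f₀' V' hVc H1 H2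
  exact ⟨_, rebase_out j (@IsImmersion) k hk⟩

end Groth.Agent.Lead.LimImm
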