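import Groth.Agent.Lead.LimBC
import Groth.Agent.Lead.LimIso
import Groth.Agent.Lead.LimSurj
open CategoryTheory Limits AlgebraicGeometry Topology

namespace Groth.Agent.Lead.LimOpen
open Groth.Agent.Lead.LimPullback Groth.Agent.Lead.LimFrame Groth.Agent.Lead.LimBC
  Groth.Agent.Lead.LimIso Groth.Agent.Lead.LimHom
universe u

/-- range of an iterated base change -/
theorem range_snd_snd {X₀ Y₀ V W : Scheme.{u}} (f₀ : X₀ ⟶ Y₀) (v : V ⟶ Y₀) (w : W ⟶ V) :
    Set.range (pullback.snd (pullback.snd f₀ v) w).base =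
      (w ≫ v).base ⁻¹' Set.range f₀.base := by
  have h1 := Scheme.Pullback.range_snd (pullback.snd f₀ v) w
  have h2 := Scheme.Pullback.range_snd f₀ v
  ext y
  constructor
  · intro hy
    have : w.base y ∈ Set.range (pullback.snd f₀ v).base := by
      have := h1 ▸ hy; exact this
    have : w.base y ∈ v.base ⁻¹' Set.range f₀.base := h2 ▸ this
    simpa using this
  · intro hy
    have hy' : v.base (w.base y) ∈ Set.range f₀.base := by simpa using hy
    have : w.base y ∈ Set.range (pullback.snd f₀ v).base := by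
      have : w.base y ∈ v.base ⁻¹' Set.range f₀.base := hy'
      exact h2 ▸ this
    have : y ∈ w.base ⁻¹' Set.range (pullback.snd f₀ v).base := this
    exact h1 ▸ this

variable {I : Type u} [SmallCategory I] [IsCofiltered I] {D : I ⥤ Scheme.{u}} {c : Cone D}
  (hc : IsLimit c) [∀ {i j : I} (f : i ⟶ j), IsAffineHom (D.map f)] (i₀ : I)
  {X₀ Y₀ : Scheme.{u}} (g₀ : Y₀ ⟶ D.obj i₀) (f₀ : X₀ ⟶ Y₀)

include hc in
set_option backward.isDefEq.respectTransparency false in
/-- core step: the image of the limit map is the preimage of a compact open of `Y₀`. -/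
theorem core [CompactSpace (D.obj i₀)] [QuasiSeparatedSpace (D.obj i₀)]
    [LocallyOfFinitePresentation g₀] [QuasiCompact g₀] [QuasiSeparated g₀]
    [LocallyOfFinitePresentation (f₀ ≫ g₀)] [QuasiCompact (f₀ ≫ g₀)] [QuasiSeparated (f₀ ≫ g₀)]
    (h : IsOpenImmersion (LimFrame.limMap D c i₀ f₀ g₀)) (V : Y₀.Opens)
    (hVc : IsCompact (V : Set Y₀))
    (hV : Set.range (LimFrame.limMap D c i₀ f₀ g₀).base =
      (pullback.snd (c.π.app i₀) g₀).base ⁻¹' (V : Set Y₀)) :
    ∃ j : Over i₀, IsOpenImmersion (stageMap D i₀ f₀ g₀ j) := by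
  have hY₀c : CompactSpace Y₀ := QuasiCompact.compactSpace_of_compactSpace g₀
  have hY₀q : QuasiSeparatedSpace Y₀ := quasiSeparatedSpace_of_quasiSeparated g₀
  have hX₀c : CompactSpace X₀ := QuasiCompact.compactSpace_of_compactSpace (f₀ ≫ g₀)
  have hX₀q : QuasiSeparatedSpace X₀ := quasiSeparatedSpace_of_quasiSeparated (f₀ ≫ g₀)
  have hf₀ : LocallyOfFinitePresentation f₀ :=
    Groth.Agent.Helper2.LfpComp.locallyOfFinitePresentation_of_comp f₀ g₀ inferInstance
      inferInstance
  have hf₀c : QuasiCompact f₀ := QuasiCompact.of_comp f₀ g₀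
  have hf₀q : QuasiSeparated f₀ := QuasiSeparated.of_comp f₀ g₀
  let q := pullback.snd (c.π.app i₀) g₀
  -- Step a: eventually the stage maps land in the preimage of `V`
  have hVcons : IsConstructible (V : Set Y₀) := hVc.isConstructible V.2
  have hE : IsConstructible (f₀.base ⁻¹' (V : Set Y₀))ᶜ :=
    (Scheme.Hom.isConstructible_preimage f₀ hVcons).compl
  obtain ⟨k₁, hk₁⟩ := LimSurj.exists_preimage_eq_empty hc i₀ (f₀ ≫ g₀) _ hE (by
    rw [Set.eq_empty_iff_forall_notMem]
    intro z hz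
    apply hz
    change f₀.base ((pullback.snd (c.π.app i₀) (f₀ ≫ g₀)).base z) ∈ (V : Set Y₀)
    have e1 : pullback.snd (c.π.app i₀) (f₀ ≫ g₀) ≫ f₀ =
        (bcIso (c.π.app i₀) f₀ g₀).hom ≫ LimFrame.limMap D c i₀ f₀ g₀ ≫ q := by
      rw [bcIso_hom_snd_assoc]; simp [bcMap, q]
    rw [← Scheme.Hom.comp_apply, e1, Scheme.Hom.comp_apply, Scheme.Hom.comp_apply]
    have : (LimFrame.limMap D c i₀ f₀ g₀).base ((bcIso (c.π.app i₀) f₀ g₀).hom.base z) ∈
        q.base ⁻¹' (V : Set Y₀) := by
      rw [← hV]; exact ⟨_, rfl⟩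
    exact this)
  -- Step b: the restriction over `V` is eventually an isomorphism
  have hVcs : CompactSpace ↥(V : Scheme.{u}) := isCompact_iff_compactSpace.mp hVc
  have hVι : QuasiCompact V.ι := inferInstance
  let fV := pullback.snd f₀ V.ι
  let gV := V.ι ≫ g₀
  have hgV1 : LocallyOfFinitePresentation gV := by dsimp only [gV]; infer_instance
  have hgV2 : QuasiCompact gV := by dsimp only [gV]; infer_instance
  have hgV3 : QuasiSeparated gV := by dsimp only [gV]; infer_instance
  have e2 : fV ≫ gV = pullback.fst f₀ V.ι ≫ f₀ ≫ g₀ := by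
    simp only [fV, gV]; rw [pullback.condition_assoc]
  have hfV1 : LocallyOfFinitePresentation (fV ≫ gV) := by rw [e2]; infer_instance
  have hfV2 : QuasiCompact (fV ≫ gV) := by rw [e2]; infer_instance
  have hiso : IsIso (LimFrame.limMap D c i₀ fV gV) := by
    let w := pullback.snd (c.π.app i₀) gV
    let tV : pullback (c.π.app i₀) gV ⟶ pullback (c.π.app i₀) g₀ :=
      pullback.lift (pullback.fst _ _) (w ≫ V.ι) (by
        rw [Category.assoc]; exact pullback.condition)
    have htV : tV ≫ q = w ≫ V.ι := by simp [tV, q]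
    have hoi : IsOpenImmersion (LimFrame.limMap D c i₀ fV gV) := by
      refine (prop_snd_snd_iff (@IsOpenImmersion) f₀ V.ι w).mpr ?_
      exact prop_snd_of_fac (@IsOpenImmersion) f₀ q _ tV htV h
    apply isIso_of_isOpenImmersion_of_opensRange_eq_top
    apply TopologicalSpace.Opens.ext
    rw [Scheme.Hom.coe_opensRange, TopologicalSpace.Opens.coe_top]
    change Set.range (pullback.snd (pullback.snd f₀ V.ι) w).base = Set.univ
    rw [range_snd_snd, Set.eq_univ_iff_forall]
    intro y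
    change (w ≫ V.ι).base y ∈ Set.range f₀.base
    rw [← htV, Scheme.Hom.comp_apply]
    have h1 : tV.base y ∈ q.base ⁻¹' (V : Set Y₀) := by
      change q.base (tV.base y) ∈ (V : Set Y₀)
      rw [← Scheme.Hom.comp_apply, htV, Scheme.Hom.comp_apply]
      exact (w.base y).2
    rw [← hV] at h1
    obtain ⟨x, hx⟩ := h1
    rw [← hx]
    refine ⟨(pullback.fst f₀ q).base x, ?_⟩
    rw [← Scheme.Hom.comp_apply, ← Scheme.Hom.comp_apply, pullback.condition]
  obtain ⟨k₂, hk₂⟩ := LimIso.isIso_descends hc i₀ gV fV hiso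
  -- Step c: a common later stage
  obtain ⟨k, φ₁, φ₂, -⟩ := IsCofilteredOrEmpty.cone_objs k₁ k₂
  refine ⟨k, ?_⟩
  have hk₂' : IsIso (stageMap D i₀ fV gV k) :=
    stage_of_hom (MorphismProperty.isomorphisms Scheme.{u}) φ₂ hk₂
  let qk := pullback.snd (D.map k.hom) g₀
  let fk := stageMap D i₀ f₀ g₀ k
  let Vk : (pullback (D.map k.hom) g₀).Opens := qk ⁻¹ᵁ V
  -- the range of `fk` lies in `Vk`
  have hrange : ∀ x, fk.base x ∈ Vk := by
    intro x
    change qk.base (fk.base x) ∈ (V : Set Y₀)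
    rw [← Scheme.Hom.comp_apply]
    have e3 : fk ≫ qk = (bcIso (D.map k.hom) f₀ g₀).inv ≫
        (pbDiag D i₀ (f₀ ≫ g₀)).map φ₁ ≫ pullback.snd (D.map k₁.hom) (f₀ ≫ g₀) ≫ f₀ := by
      rw [Iso.eq_inv_comp, bcIso_hom_snd_assoc]
      simp [pbDiag, bcMap, qk, fk]
    rw [e3]
    by_contra hcon
    have : ((pbDiag D i₀ (f₀ ≫ g₀)).map φ₁).base ((bcIso (D.map k.hom) f₀ g₀).inv.base x) ∈
        (pullback.snd (D.map k₁.hom) (f₀ ≫ g₀)).base ⁻¹' (f₀.base ⁻¹' (V : Set Y₀))ᶜ := hcon
    rw [hk₁] at this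
    exact this
  -- the restriction of `fk` over `Vk` is an isomorphism
  have hres : IsIso (pullback.snd fk Vk.ι) := by
    refine (prop_snd_snd_iff (MorphismProperty.isomorphisms Scheme.{u}) f₀ qk Vk.ι).mpr ?_
    have h3 := (prop_snd_snd_iff (MorphismProperty.isomorphisms Scheme.{u}) f₀ V.ι
      (pullback.snd (D.map k.hom) gV)).mp hk₂'
    let r : (Vk : Scheme.{u}) ⟶ V := IsOpenImmersion.lift V.ι (Vk.ι ≫ qk) (by
      rintro _ ⟨y, rfl⟩
      rw [Scheme.Opens.range_ι]
      exact y.2)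
    have hr : r ≫ V.ι = Vk.ι ≫ qk := IsOpenImmersion.lift_fac _ _ _
    let s : (Vk : Scheme.{u}) ⟶ pullback (D.map k.hom) gV :=
      pullback.lift (Vk.ι ≫ pullback.fst _ _) r (by
        simp only [gV, Category.assoc]
        rw [reassoc_of% hr, pullback.condition])
    exact prop_snd_of_fac (MorphismProperty.isomorphisms Scheme.{u}) f₀ _ _ s
      (by simp [s, hr]) h3
  have hfst : IsIso (pullback.fst fk Vk.ι) := by
    apply isIso_of_isOpenImmersion_of_opensRange_eq_top
    apply TopologicalSpace.Opens.ext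
    rw [Scheme.Hom.coe_opensRange, TopologicalSpace.Opens.coe_top, Scheme.Pullback.range_fst,
      Set.eq_univ_iff_forall]
    intro x
    change fk.base x ∈ Set.range Vk.ι.base
    rw [Scheme.Opens.range_ι]
    exact hrange x
  have e4 : fk = inv (pullback.fst fk Vk.ι) ≫ pullback.snd fk Vk.ι ≫ Vk.ι := by
    rw [IsIso.eq_inv_comp, pullback.condition]
  change IsOpenImmersion fk
  rw [e4]
  infer_instance

include hc in
set_option backward.isDefEq.respectTransparency false in
theorem isOpenImmersion_descends [CompactSpace (D.obj i₀)] [QuasiSeparatedSpace (D.obj i₀)]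
    [LocallyOfFinitePresentation g₀] [QuasiCompact g₀] [QuasiSeparated g₀]
    [LocallyOfFinitePresentation (f₀ ≫ g₀)] [QuasiCompact (f₀ ≫ g₀)] [QuasiSeparated (f₀ ≫ g₀)]
    (h : IsOpenImmersion (LimFrame.limMap D c i₀ f₀ g₀)) :
    ∃ j : Over i₀, IsOpenImmersion (stageMap D i₀ f₀ g₀ j) := by
  have hX₀c : CompactSpace X₀ := QuasiCompact.compactSpace_of_compactSpace (f₀ ≫ g₀)
  have hf₀ : LocallyOfFinitePresentation f₀ :=
    Groth.Agent.Helper2.LfpComp.locallyOfFinitePresentation_of_comp f₀ g₀ inferInstance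
      inferInstance
  have hf₀c : QuasiCompact f₀ := QuasiCompact.of_comp f₀ g₀
  have hf₀q : QuasiSeparated f₀ := QuasiSeparated.of_comp f₀ g₀
  have hπ : IsAffineHom (c.π.app i₀) := isAffineHom_π_app D c hc i₀
  let q := pullback.snd (c.π.app i₀) g₀
  have hq : IsAffineHom q := MorphismProperty.pullback_snd _ _ hπ
  have hfst : IsAffineHom (pullback.fst f₀ q) := MorphismProperty.pullback_fst _ _ hq
  have hXc : CompactSpace ↥(pullback f₀ q) :=
    QuasiCompact.compactSpace_of_compactSpace (pullback.fst f₀ q)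
  have hA : ∀ {j k : Over i₀} (f : j ⟶ k), IsAffineHom ((pbDiag D i₀ g₀).map f) :=
    fun f ↦ isAffineHom_pbDiag_map i₀ g₀ f
  let U : (pbCone D c i₀ g₀).pt.Opens := (LimFrame.limMap D c i₀ f₀ g₀).opensRange
  have hU : IsCompact (U : Set ↥(pbCone D c i₀ g₀).pt) := by
    change IsCompact (Set.range (LimFrame.limMap D c i₀ f₀ g₀).base)
    exact isCompact_range (LimFrame.limMap D c i₀ f₀ g₀).base.hom.continuous
  obtain ⟨j, V, hVc, hVU⟩ := exists_preimage_eq (pbDiag D i₀ g₀) (pbCone D c i₀ g₀)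
    (pbConeIsLimit i₀ g₀ hc) U hU
  -- rebased frame
  obtain ⟨V', hV'def⟩ : ∃ V' : (pullback (D.map j.hom) g₀).Opens, V' = V := ⟨V, rfl⟩
  subst hV'def
  have hjA : IsAffineHom (D.map j.hom) := inferInstance
  have hjc : CompactSpace (D.obj j.left) := QuasiCompact.compactSpace_of_compactSpace (D.map j.hom)
  have hjq : QuasiSeparatedSpace (D.obj j.left) :=
    quasiSeparatedSpace_of_quasiSeparated (D.map j.hom)
  let g₀' := pullback.fst (D.map j.hom) g₀
  let qj := pullback.snd (D.map j.hom) g₀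
  let f₀' := stageMap D i₀ f₀ g₀ j
  have h1 : LocallyOfFinitePresentation (f₀' ≫ g₀') := by dsimp only [f₀', g₀']; infer_instance
  have h2 : QuasiCompact (f₀' ≫ g₀') := by dsimp only [f₀', g₀']; infer_instance
  have h3 : QuasiSeparated (f₀' ≫ g₀') := by dsimp only [f₀', g₀']; infer_instance
  have h' := rebase_in (c := c) j (@IsOpenImmersion) h
  let q' := pullback.snd (c.π.app j.left) g₀'
  let t : pullback (c.π.app j.left) g₀' ⟶ pullback (c.π.app i₀) g₀ :=
    pullback.lift (pullback.fst _ _) (q' ≫ qj) (by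
      rw [Category.assoc, ← pullback.condition, ← pullback.condition_assoc, c.w])
  have ht1 : t ≫ q = q' ≫ qj := by simp [t, q]
  have ht2 : t ≫ (pbCone D c i₀ g₀).π.app j = q' := by
    apply pullback.hom_ext
    · simp only [t, pbCone, q', Category.assoc, pullback.lift_fst, pullback.lift_fst_assoc]
      exact pullback.condition
    · simp [t, pbCone, q', qj]
  have hV' : Set.range (LimFrame.limMap D c j.left f₀' g₀').base =
      q'.base ⁻¹' (V' : Set ↥(pullback (D.map j.hom) g₀)) := by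
    change Set.range (pullback.snd (pullback.snd f₀ qj) q').base = _
    rw [range_snd_snd]
    ext y
    have hUy : t.base y ∈ (U : Set ↥(pbCone D c i₀ g₀).pt) ↔
        q.base (t.base y) ∈ Set.range f₀.base := by
      change t.base y ∈ Set.range (pullback.snd f₀ q).base ↔ _
      have := Scheme.Pullback.range_snd f₀ q
      rw [show Set.range (pullback.snd f₀ q).base = q.base ⁻¹' Set.range f₀.base from this]
      rfl
    have hVy : t.base y ∈ (U : Set ↥(pbCone D c i₀ g₀).pt) ↔ q'.base y ∈ (V' : Set ↥(pullback (D.map j.hom) g₀)) := by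
      rw [← hVU]
      have e : ((pbCone D c i₀ g₀).π.app j).base (t.base y) = q'.base y := by
        rw [← ht2]; rfl
      change ((pbCone D c i₀ g₀).π.app j).base (t.base y) ∈ (V' : Set ↥(pullback (D.map j.hom) g₀)) ↔ _
      rw [e]
    change (q' ≫ qj).base y ∈ Set.range f₀.base ↔ q'.base y ∈ (V' : Set ↥(pullback (D.map j.hom) g₀))
    rw [← ht1, Scheme.Hom.comp_apply, ← hUy, hVy]
  obtain ⟨k, hk⟩ := core hc j.left g₀' f₀' h' V' hVc hV'
  exact ⟨_, rebase_out j (@IsOpenImmersion) k hk⟩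

end Groth.Agent.Lead.LimOpen
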