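import Groth.Agent.Lead.LimRed
import Groth.Agent.Lead.LimOpen
import Groth.Agent.Lead.LimClosed
import Groth.Agent.Lead.LimImm
import Groth.Agent.Lead.LimSep
open CategoryTheory Limits AlgebraicGeometry

namespace Groth.Agent.Lead.LimCompact
open Groth.Agent.Lead.LimFrame Groth.Agent.Lead.LimPullback Groth.Agent.Lead.LimBC
  Groth.Agent.Lead.LimHom Groth.Agent.Lead.LimRed
universe u
variable {I : Type u} [SmallCategory I] [IsCofiltered I] {D : I ⥤ Scheme.{u}} {c : Cone D}
  (hc : IsLimit c) [∀ {i j : I} (f : i ⟶ j), IsAffineHom (D.map f)] (i₀ : I)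
  {X₀ Y₀ : Scheme.{u}} (g₀ : Y₀ ⟶ D.obj i₀) (f₀ : X₀ ⟶ Y₀)

include hc in
set_option backward.isDefEq.respectTransparency false in
/-- open immersion descent, `Y₀` qcqs, `f₀` of finite presentation; no hypothesis on the stage -/
theorem isOpenImmersion_descends_of_qcqs [CompactSpace Y₀] [QuasiSeparatedSpace Y₀]
    [LocallyOfFinitePresentation f₀] [QuasiCompact f₀] [QuasiSeparated f₀]
    (h : IsOpenImmersion (LimFrame.limMap D c i₀ f₀ g₀)) :
    ∃ j : Over i₀, IsOpenImmersion (stageMap D i₀ f₀ g₀ j) := by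
  refine reframe i₀ g₀ f₀ (@IsOpenImmersion) ?_ h
  have hA' : ∀ {j k : Over i₀} (f : j ⟶ k), IsAffineHom ((pbDiag D i₀ g₀).map f) :=
    fun f ↦ isAffineHom_pbDiag_map i₀ g₀ f
  have hC : CompactSpace ↥((pbDiag D i₀ g₀).obj (Over.mk (𝟙 i₀))) :=
    compactSpace_pbDiag D i₀ g₀ _
  have hQ : QuasiSeparatedSpace ↥((pbDiag D i₀ g₀).obj (Over.mk (𝟙 i₀))) :=
    quasiSeparatedSpace_pbDiag D i₀ g₀ _
  intro h1
  exact LimOpen.isOpenImmersion_descends (pbConeIsLimit i₀ g₀ hc) (Over.mk (𝟙 i₀))
    (gTop i₀ g₀) f₀ h1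

include hc in
set_option backward.isDefEq.respectTransparency false in
/-- open immersion descent, `Y₀` compact, `f₀` of finite presentation -/
theorem isOpenImmersion_descends_of_compact [CompactSpace Y₀]
    [LocallyOfFinitePresentation f₀] [QuasiCompact f₀] [QuasiSeparated f₀]
    (h : IsOpenImmersion (LimFrame.limMap D c i₀ f₀ g₀)) :
    ∃ j : Over i₀, IsOpenImmersion (stageMap D i₀ f₀ g₀ j) := by
  refine cover_reduction i₀ g₀ f₀ (@IsOpenImmersion) ?_ h
  intro V v _ _ hV
  exact isOpenImmersion_descends_of_qcqs hc i₀ (v ≫ g₀) (pullback.snd f₀ v) hV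

include hc in
set_option backward.isDefEq.respectTransparency false in
/-- closed immersion descent, `Y₀` compact, `f₀` of finite type and quasi-separated -/
theorem isClosedImmersion_descends_of_compact [CompactSpace Y₀]
    [LocallyOfFiniteType f₀] [QuasiCompact f₀] [QuasiSeparated f₀]
    (h : IsClosedImmersion (LimFrame.limMap D c i₀ f₀ g₀)) :
    ∃ j : Over i₀, IsClosedImmersion (stageMap D i₀ f₀ g₀ j) := by
  refine cover_reduction i₀ g₀ f₀ (@IsClosedImmersion) ?_ h
  intro V v _ _ hV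
  have h3 : CompactSpace ↥(pullback f₀ v) :=
    QuasiCompact.compactSpace_of_compactSpace (pullback.snd f₀ v)
  have h4 : QuasiSeparatedSpace ↥(pullback f₀ v) :=
    quasiSeparatedSpace_of_quasiSeparated (pullback.snd f₀ v)
  exact LimClosed.isClosedImmersion_descends hc i₀ (v ≫ g₀) (pullback.snd f₀ v) hV

include hc in
set_option backward.isDefEq.respectTransparency false in
/-- immersion descent, `Y₀` compact, `f₀` of finite type and quasi-separated -/
theorem isImmersion_descends_of_compact [CompactSpace Y₀]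
    [LocallyOfFiniteType f₀] [QuasiCompact f₀] [QuasiSeparated f₀]
    (h : IsImmersion (LimFrame.limMap D c i₀ f₀ g₀)) :
    ∃ j : Over i₀, IsImmersion (stageMap D i₀ f₀ g₀ j) := by
  refine cover_reduction i₀ g₀ f₀ (@IsImmersion) ?_ h
  intro V v _ _ hV
  have h3 : CompactSpace ↥(pullback f₀ v) :=
    QuasiCompact.compactSpace_of_compactSpace (pullback.snd f₀ v)
  have h4 : QuasiSeparatedSpace ↥(pullback f₀ v) :=
    quasiSeparatedSpace_of_quasiSeparated (pullback.snd f₀ v)
  exact LimImm.isImmersion_descends hc i₀ (v ≫ g₀) (pullback.snd f₀ v) hV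

include hc in
set_option backward.isDefEq.respectTransparency false in
/-- separatedness descent, `Y₀` compact, `f₀` quasi-compact and quasi-separated -/
theorem isSeparated_descends_of_compact [CompactSpace Y₀] [QuasiCompact f₀] [QuasiSeparated f₀]
    (h : IsSeparated (LimFrame.limMap D c i₀ f₀ g₀)) :
    ∃ j : Over i₀, IsSeparated (stageMap D i₀ f₀ g₀ j) := by
  refine cover_reduction i₀ g₀ f₀ (@IsSeparated) ?_ h
  intro V v _ _ hV
  have h3 : CompactSpace ↥(pullback f₀ v) :=
    QuasiCompact.compactSpace_of_compactSpace (pullback.snd f₀ v)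
  have h4 : QuasiSeparatedSpace ↥(pullback f₀ v) :=
    quasiSeparatedSpace_of_quasiSeparated (pullback.snd f₀ v)
  exact LimSep.isSeparated_descends hc i₀ (v ≫ g₀) (pullback.snd f₀ v) hV

/-! ### the frame over the stage itself -/

omit [IsCofiltered I] [∀ {i j : I} (f : i ⟶ j), IsAffineHom (D.map f)] in
set_option backward.isDefEq.respectTransparency false in
/-- base change of `ι₀ : Z₀ ⟶ S_{i₀}` along any `p`, in the frame form with `g₀ = 𝟙` -/
theorem prop_snd_id_iff (P : MorphismProperty Scheme.{u}) [P.IsStableUnderBaseChange]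
    {Z₀ S' : Scheme.{u}} (ι₀ : Z₀ ⟶ D.obj i₀) (p : S' ⟶ D.obj i₀) :
    P (pullback.snd ι₀ p) ↔ P (pullback.snd ι₀ (pullback.snd p (𝟙 (D.obj i₀)))) := by
  constructor
  · intro h
    exact prop_snd_of_fac P ι₀ p _ (pullback.fst p (𝟙 _)) (by rw [pullback.condition]; simp) h
  · intro h
    exact prop_snd_of_fac P ι₀ _ p (pullback.lift (𝟙 _) p (by simp)) (by simp) h

end Groth.Agent.Lead.LimCompact
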