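import Groth.Agent.Lead.LimExistProp
open CategoryTheory Limits AlgebraicGeometry

namespace Groth.Agent.Lead.LimExist
open Groth.Agent.Lead.LimPullback Groth.Agent.Lead.LimHom Groth.Agent.Lead.LimIsoDesc
  Groth.Agent.Lead.LimModel Groth.Agent.Lead.LimRed Groth.Agent.Lead.LimFrame
universe u
variable {I : Type u} [SmallCategory I] [IsCofiltered I] {D : I ⥤ Scheme.{u}} {c : Cone D}
  (hc : IsLimit c) [∀ {i j : I} (f : i ⟶ j), IsAffineHom (D.map f)]

include hc in
set_option backward.isDefEq.respectTransparency false in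
/-- existence of models with a property that descends over the stages above `i₀` -/
theorem exists_model_prop_over (P : MorphismProperty Scheme.{u}) [P.RespectsIso] (i₀ : I)
    (H : ∀ (k : I) (_ : k ⟶ i₀) {X₀ : Scheme.{u}} (f₀ : X₀ ⟶ D.obj k)
      [LocallyOfFinitePresentation f₀] [CompactSpace X₀] [QuasiSeparatedSpace X₀],
      P (LimFrame.limMap D c k f₀ (𝟙 _)) → ∃ j : Over k, P (stageMap D k f₀ (𝟙 _) j))
    {X : Scheme.{u}} (f : X ⟶ c.pt) [LocallyOfFinitePresentation f] [CompactSpace X]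
    [QuasiSeparatedSpace X] (hf : P f) :
    ∃ (j : I) (_ : j ⟶ i₀) (M : Model f j), P M.fi := by
  obtain ⟨j, ⟨M⟩⟩ := exists_model hc f
  obtain ⟨k, t, s, -⟩ := IsCofilteredOrEmpty.cone_objs j i₀
  let M' : Model f k := M.rebase (Over.mk t)
  have h1 : P (LimFrame.limMap D c k M'.fi (𝟙 _)) :=
    (lim_in k (𝟙 _) M'.fi P (IsPullback.id_vert (c.π.app k)) M'.sq).mp hf
  obtain ⟨⟨kl, ⟨⟨⟩⟩, kh⟩, hk⟩ := H k s M'.fi h1
  refine ⟨kl, kh ≫ s, M'.rebase (Over.mk kh), ?_⟩
  exact (stage_in k (𝟙 _) M'.fi P kh (IsPullback.id_vert (D.map kh))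
    (IsPullback.of_hasPullback (D.map kh) M'.fi).flip).mpr hk

include hc in
set_option backward.isDefEq.respectTransparency false in
/-- an open of a compact stage containing the image of the limit contains the image of a stage -/
theorem exists_map_eq_top_over (i : I) [CompactSpace (D.obj i)] (U : (D.obj i).Opens)
    (hU : c.π.app i ⁻¹ᵁ U = ⊤) : ∃ (j : I) (t : j ⟶ i), D.map t ⁻¹ᵁ U = ⊤ := by
  have hc' : IsLimit (c.whisker (Over.forget i)) :=
    (Functor.Initial.isLimitWhiskerEquiv (Over.forget i) c).symm hc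
  have hA : ∀ {j k : Over i} (f : j ⟶ k), IsAffineHom ((Over.forget i ⋙ D).map f) :=
    fun f ↦ inferInstanceAs (IsAffineHom (D.map f.left))
  have hC : ∀ j : Over i, CompactSpace ((Over.forget i ⋙ D).obj j) := fun j ↦
    QuasiCompact.compactSpace_of_compactSpace (D.map j.hom)
  obtain ⟨j, fji, hj⟩ := exists_map_eq_top (Over.forget i ⋙ D) (c.whisker (Over.forget i)) hc'
    (i := Over.mk (𝟙 i)) U hU
  refine ⟨j.left, j.hom, ?_⟩
  have : fji.left = j.hom := by simpa using fji.w
  rw [← this]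
  exact hj

end Groth.Agent.Lead.LimExist
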