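import Mathlib

set_option autoImplicit false
universe u
open CategoryTheory CategoryTheory.Limits AlgebraicGeometry

namespace Groth.Agent.Lead.ValSpec

open IsLocalRing

/-- a specialization in a scheme is realised by a valuation ring -/
theorem exists_valuationRing_of_specializes {Y : Scheme.{u}} {y' y : Y} (h : y' ⤳ y) :
    ∃ (V : Type u) (_ : CommRing V) (_ : IsDomain V) (_ : ValuationRing V)
      (g : Spec (CommRingCat.of V) ⟶ Y),
      g.base (closedPoint V) = y ∧ g.base (⊥ : PrimeSpectrum V) = y' := by
  let φ : Y.presheaf.stalk y ⟶ Y.residueField y' :=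
    Y.presheaf.stalkSpecializes h ≫ Y.residue y'
  obtain ⟨A, hA, hA_local⟩ := exists_factor_valuationRing φ.hom
  let ψ : Y.presheaf.stalk y ⟶ CommRingCat.of A :=
    CommRingCat.ofHom (φ.hom.codRestrict _ hA)
  refine ⟨A, inferInstance, inferInstance, inferInstance, Spec.map ψ ≫ Y.fromSpecStalk y, ?_, ?_⟩
  · rw [Scheme.Hom.comp_apply]
    have : Spec.map ψ (closedPoint A) = closedPoint (Y.presheaf.stalk y) :=
      comap_closedPoint (S := A) (φ.hom.codRestrict A.toSubring hA)
    rw [this, Y.fromSpecStalk_closedPoint]
  · have hw : Y.fromSpecResidueField y' =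
        Spec.map (CommRingCat.ofHom (algebraMap A (Y.residueField y'))) ≫
          Spec.map ψ ≫ Y.fromSpecStalk y := by
      rw [Scheme.fromSpecResidueField, ← Scheme.SpecMap_stalkSpecializes_fromSpecStalk h]
      simp_rw [← Spec.map_comp_assoc]
      rfl
    have h1 : (Spec.map (CommRingCat.ofHom (algebraMap A (Y.residueField y')))).base
        (closedPoint (Y.residueField y')) = (⊥ : PrimeSpectrum A) := by
      apply PrimeSpectrum.ext
      ext a
      have hbot : (closedPoint (Y.residueField y')).asIdeal = ⊥ := IsLocalRing.maximalIdeal_eq_bot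
      change algebraMap A (Y.residueField y') a ∈ (closedPoint (Y.residueField y')).asIdeal ↔
        a ∈ (⊥ : Ideal A)
      rw [hbot, Ideal.mem_bot, Ideal.mem_bot]
      constructor
      · intro ha
        exact Subtype.ext ha
      · intro ha
        rw [ha, map_zero]
    rw [← h1, ← Scheme.Hom.comp_apply, ← hw, Scheme.fromSpecResidueField_apply]

end Groth.Agent.Lead.ValSpec
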