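import Mathlib
import Groth.Agent.Lead.HCov
import Groth.Agent.Lead.ValSpec

set_option autoImplicit false
universe w u
open CategoryTheory CategoryTheory.Limits AlgebraicGeometry

namespace Groth.Agent.Lead.HCov

open IsLocalRing

/-- a morphism `Spec W ⟶ Spec V` of spectra of valuation rings preserving closed and generic
points comes from an extension of valuation rings -/
theorem isExtVal_of_points (V W : CommRingCat.{u}) [IsDomain V] [ValuationRing V] [IsDomain W]
    [ValuationRing W] (φ : V ⟶ W)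
    (h1 : Spec.map φ (closedPoint W) = closedPoint V)
    (h2 : Spec.map φ (⊥ : PrimeSpectrum W) = (⊥ : PrimeSpectrum V)) : HTop.IsExtVal V W φ := by
  constructor
  · rw [RingHom.injective_iff_ker_eq_bot]
    have := congrArg PrimeSpectrum.asIdeal h2
    exact this
  · refine ((local_hom_TFAE φ.hom).out 4 0).mp ?_
    have := congrArg PrimeSpectrum.asIdeal h1
    exact this

theorem hasValLift_of_flat {T : Scheme.{u}} (E : PreZeroHypercover.{w} T)
    (hflat : ∀ j, Flat (E.f j)) (hsurj : ∀ t : T, ∃ (j : E.I₀) (x : E.X j), E.f j x = t) :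
    HTop.HasValLift E := by
  intro V _ _ g
  obtain ⟨j, x, hx⟩ := hsurj (g (closedPoint V))
  haveI := hflat j
  obtain ⟨z, hz1, hz2⟩ := Scheme.Pullback.exists_preimage_pullback (f := g) (g := E.f j)
    (closedPoint V) x hx.symm
  haveI : Flat (pullback.fst g (E.f j)) := inferInstance
  have hgen : GeneralizingMap (pullback.fst g (E.f j)) := Flat.generalizingMap _
  have hsp : (⊥ : PrimeSpectrum V) ⤳ pullback.fst g (E.f j) z := by
    rw [hz1]; exact IsLocalRing.specializes_closedPoint _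
  obtain ⟨z', hz'z, hz'⟩ := hgen hsp
  obtain ⟨W, hW1, hW2, hW3, ℓ, hℓ1, hℓ2⟩ :=
    Groth.Agent.Lead.ValSpec.exists_valuationRing_of_specializes hz'z
  let φ : V ⟶ CommRingCat.of W := Spec.preimage (ℓ ≫ pullback.fst g (E.f j))
  have hφ : Spec.map φ = ℓ ≫ pullback.fst g (E.f j) := Spec.map_preimage _
  refine ⟨CommRingCat.of W, hW2, hW3, φ, ?_, j, ℓ ≫ pullback.snd g (E.f j), ?_⟩
  · apply isExtVal_of_points
    · rw [hφ, Scheme.Hom.comp_apply]
      erw [hℓ1]
      exact hz1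
    · rw [hφ, Scheme.Hom.comp_apply]
      erw [hℓ2]
      exact hz'
  · rw [Category.assoc, ← pullback.condition, ← Category.assoc, hφ]

theorem isStandardV_of_flat {T : Scheme.{u}} [IsAffine T] (E : PreZeroHypercover.{w} T)
    (hfin : Finite E.I₀) (haff : ∀ j, IsAffine (E.X j)) (hflat : ∀ j, Flat (E.f j))
    (hsurj : ∀ t : T, ∃ (j : E.I₀) (x : E.X j), E.f j x = t) : HTop.IsStandardV E :=
  ⟨inferInstance, hfin, haff, hasValLift_of_flat E hflat hsurj⟩

theorem isVCover_of_fpqc {T : Scheme.{u}} (𝒰 : Scheme.Cover Scheme.fpqcPrecoverage T) :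
    HTop.IsVCover 𝒰.toPreZeroHypercover := by
  intro U
  obtain ⟨n, a, V, hV, hU⟩ :=
    QuasiCompactCover.exists_isAffineOpen_of_isCompact 𝒰.toPreZeroHypercover U.2.isCompact
  have hrange : ∀ k, Set.range ((V k).ι ≫ 𝒰.f (a k)) ⊆ Set.range U.1.ι := by
    intro k
    rw [Scheme.Opens.range_ι]
    rintro _ ⟨x, rfl⟩
    rw [← hU]
    exact Set.mem_iUnion.mpr ⟨k, ⟨x.1, x.2, rfl⟩⟩
  let r : ∀ k, ((V k : (𝒰.X (a k)).Opens) : Scheme.{u}) ⟶ (U.1 : Scheme.{u}) :=
    fun k => IsOpenImmersion.lift U.1.ι ((V k).ι ≫ 𝒰.f (a k)) (hrange k)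
  have hr : ∀ k, r k ≫ U.1.ι = (V k).ι ≫ 𝒰.f (a k) := fun k => IsOpenImmersion.lift_fac _ _ _
  haveI : IsAffine (U.1 : Scheme.{u}) := U.2
  refine ⟨{ I₀ := Fin n, X := fun k => ((V k : (𝒰.X (a k)).Opens) : Scheme.{u}), f := r },
    isStandardV_of_flat _ (inferInstanceAs (Finite (Fin n))) (fun k => hV k) ?_ ?_,
    fun k => ⟨a k, (V k).ι, (hr k).symm⟩⟩
  · intro k
    haveI : Flat (𝒰.f (a k)) := 𝒰.forgetQc.map_prop (a k)
    haveI : Flat (r k ≫ U.1.ι) := by rw [hr]; infer_instance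
    exact MorphismProperty.of_postcomp (W := @Flat) (W' := @IsOpenImmersion) (r k) U.1.ι
      inferInstance inferInstance
  · intro t
    have ht : t.1 ∈ (U.1 : Set T) := t.2
    rw [← hU] at ht
    obtain ⟨k, x, hx, hxt⟩ := Set.mem_iUnion.mp ht
    refine ⟨k, ⟨x, hx⟩, ?_⟩
    apply U.1.ι.injective
    rw [← Scheme.Hom.comp_apply]
    show (r k ≫ U.1.ι) ⟨x, hx⟩ = _
    rw [hr]
    exact hxt

end Groth.Agent.Lead.HCov
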