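import Groth.Agent.Lead.SchDescent2
import Groth.Prelude.Def_Mor2
import Mathlib

/-!
# Lead: fpqc descent of finite locally free morphisms (and of their degree)
-/

set_option autoImplicit false
open CategoryTheory CategoryTheory.Limits AlgebraicGeometry MorphismProperty
universe u

namespace Groth.Agent.Lead.FinLocFreeDesc

theorem flat_codescendsAlong_faithfullyFlat :
    RingHom.CodescendsAlong RingHom.Flat RingHom.FaithfullyFlat := by
  refine .mk _ RingHom.Flat.respectsIso fun R S T _ _ _ _ _ h h' ↦ ?_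
  rw [RingHom.flat_algebraMap_iff] at h' ⊢
  rw [RingHom.faithfullyFlat_algebraMap_iff] at h
  exact Module.Flat.of_flat_tensorProduct R T S

theorem descendsAlong_flat_fpqc :
    DescendsAlong @Flat (@Surjective ⊓ @Flat ⊓ @QuasiCompact : MorphismProperty Scheme.{u}) :=
  HasRingHomProperty.descendsAlong_flat flat_codescendsAlong_faithfullyFlat

theorem main :
    MorphismProperty.DescendsAlong (fun _ _ f => Mor2.IsFinLocFree f : MorphismProperty Scheme.{u})
      (@Surjective ⊓ @Flat ⊓ @QuasiCompact : MorphismProperty Scheme.{u}) ∧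
    ∀ d : ℕ, MorphismProperty.DescendsAlong
      (fun _ _ f => Mor2.IsFinLocFreeOfDeg d f : MorphismProperty Scheme.{u})
      (@Surjective ⊓ @Flat ⊓ @QuasiCompact : MorphismProperty Scheme.{u}) := by
  haveI i1 := Groth.Agent.Lead.SchDescent2.descendsAlong_isFinite_fpqc.{u}
  haveI i2 := descendsAlong_flat_fpqc.{u}
  have h1 : MorphismProperty.DescendsAlong
      (fun _ _ f => Mor2.IsFinLocFree f : MorphismProperty Scheme.{u})
      (@Surjective ⊓ @Flat ⊓ @QuasiCompact : MorphismProperty Scheme.{u}) := by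
    constructor
    intro A X Y Z fst snd f g h hf hfst
    obtain ⟨hfin, hflat, hlfp⟩ := hfst
    exact ⟨of_isPullback_of_descendsAlong (P := @IsFinite) h hf hfin,
      of_isPullback_of_descendsAlong (P := @Flat) h hf hflat,
      of_isPullback_of_descendsAlong (P := @LocallyOfFinitePresentation) h hf hlfp⟩
  refine ⟨h1, fun d => ⟨?_⟩⟩
  intro A X Y Z fst snd f g h hf hfst
  obtain ⟨hflf, hrk⟩ := hfst
  have hg : Mor2.IsFinLocFree g := h1.of_isPullback h hf hflf
  refine ⟨hg, fun z => ?_⟩
  haveI : Surjective f := hf.1.1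
  obtain ⟨x, rfl⟩ := f.surjective z
  haveI : Flat g := hg.2.1
  haveI : IsFinite g := hg.1
  rw [← Scheme.Hom.finrank_of_isPullback snd fst g f h.flip x]
  exact hrk x

end Groth.Agent.Lead.FinLocFreeDesc
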