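import Mathlib

/-!
# The underlying space of a cofiltered limit of schemes with affine transition maps
-/

set_option autoImplicit false
universe u
open CategoryTheory AlgebraicGeometry Limits Topology

namespace Groth.Agent.Lead.LimTop

variable {I : Type u} [SmallCategory I]
    (D : I ⥤ Scheme.{u}) (c : Cone D) (hc : IsLimit c)

section resDiag

variable (x : ∀ l, D.obj l) (hx : ∀ {l l' : I} (f : l ⟶ l'), D.map f (x l) = x l')

/-- transition maps between spectra of residue fields -/
noncomputable def resMap {l l' : I} (f : l ⟶ l') :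
    Spec ((D.obj l).residueField (x l)) ⟶ Spec ((D.obj l').residueField (x l')) :=
  Spec.map ((D.map f).residueFieldMap (x l)) ≫
    Spec.map ((D.obj l').residueFieldCongr (hx f).symm).hom

lemma resMap_fromSpecResidueField {l l' : I} (f : l ⟶ l') :
    resMap D x hx f ≫ (D.obj l').fromSpecResidueField (x l') =
      (D.obj l).fromSpecResidueField (x l) ≫ D.map f := by
  rw [resMap, Category.assoc, Scheme.residueFieldCongr_fromSpecResidueField,
    Scheme.Hom.SpecMap_residueFieldMap_fromSpecResidueField]

/-- The diagram of spectra of residue fields at a compatible family of points. -/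
noncomputable def resDiag : I ⥤ Scheme.{u} where
  obj l := Spec ((D.obj l).residueField (x l))
  map {l l'} f := resMap D x hx f
  map_id l := by
    rw [← cancel_mono ((D.obj l).fromSpecResidueField (x l)), resMap_fromSpecResidueField]
    simp
  map_comp f g := by
    rw [← cancel_mono ((D.obj _).fromSpecResidueField (x _)), resMap_fromSpecResidueField,
      Category.assoc, resMap_fromSpecResidueField, ← Category.assoc, resMap_fromSpecResidueField]
    simp

/-- The natural transformation to the original diagram. -/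
noncomputable def resDiagι : resDiag D x hx ⟶ D where
  app l := (D.obj l).fromSpecResidueField (x l)
  naturality l l' f := resMap_fromSpecResidueField D x hx f

end resDiag

set_option backward.isDefEq.respectTransparency false in
include hc in
/-- Surjectivity of `|lim Dᵢ| → lim |Dᵢ|`. -/
lemma exists_point [IsCofiltered I]
    (x : ∀ l, D.obj l) (hx : ∀ {l l' : I} (f : l ⟶ l'), D.map f (x l) = x l') :
    ∃ s : c.pt, ∀ l, c.π.app l s = x l := by
  let F := resDiag D x hx
  have hFaff (l) : IsAffine (F.obj l) := inferInstanceAs (IsAffine (Spec _))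
  let e : F ⟶ (F ⋙ Scheme.Γ.rightOp) ⋙ Scheme.Spec := Functor.whiskerLeft F ΓSpec.adjunction.unit
  have (i : _) : IsIso (e.app i) := IsAffine.affine
  have : IsIso e := NatIso.isIso_of_isIso_app e
  let c' : LimitCone F := ⟨_, (IsLimit.postcomposeInvEquiv (asIso e) _).symm
    (isLimitOfPreserves Scheme.Spec (limit.isLimit (F ⋙ Scheme.Γ.rightOp)))⟩
  have hFA : ∀ {i j : I} (f : i ⟶ j), IsAffineHom (F.map f) := fun f ↦ inferInstance
  have hFne : ∀ i, Nonempty (F.obj i) := fun i ↦
    inferInstanceAs (Nonempty (Spec ((D.obj i).residueField (x i))))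
  have hFc : ∀ i, CompactSpace (F.obj i) := fun i ↦ inferInstance
  obtain ⟨t⟩ : Nonempty c'.cone.pt := Scheme.nonempty_of_isLimit F c'.cone c'.isLimit
  let g : c'.cone.pt ⟶ c.pt := hc.lift ((Cone.postcompose (resDiagι D x hx)).obj c'.cone)
  refine ⟨g t, fun l ↦ ?_⟩
  have h1 : g ≫ c.π.app l = c'.cone.π.app l ≫ (D.obj l).fromSpecResidueField (x l) :=
    hc.fac _ l
  have h2 : (g ≫ c.π.app l) t = x l := by
    rw [h1, Scheme.Hom.comp_apply]
    exact Scheme.fromSpecResidueField_apply (x l) _
  exact h2

include hc in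
/-- Injectivity of `|lim Dᵢ| → lim |Dᵢ|`. -/
lemma eq_of_forall_π_eq [IsCofiltered I] [∀ {i j : I} (f : i ⟶ j), IsAffineHom (D.map f)]
    {s s' : c.pt} (h : ∀ l, c.π.app l s = c.π.app l s') : s = s' := by
  by_contra hne
  have hB := isBasis_preimage_isAffineOpen D c hc
  rw [TopologicalSpace.Opens.IsBasis] at hB
  obtain ⟨W, hW, hxor⟩ := exists_isOpen_xor_mem hne
  rcases hxor with ⟨hs, hs'⟩ | ⟨hs', hs⟩
  · obtain ⟨_, ⟨_, ⟨l, V, hV, rfl⟩, rfl⟩, hsV, hVW⟩ := hB.exists_subset_of_mem_open hs hW
    apply hs'
    apply hVW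
    change c.π.app l s' ∈ V
    rw [← h l]
    exact hsV
  · obtain ⟨_, ⟨_, ⟨l, V, hV, rfl⟩, rfl⟩, hsV, hVW⟩ := hB.exists_subset_of_mem_open hs' hW
    apply hs
    apply hVW
    change c.π.app l s ∈ V
    rw [h l]
    exact hsV

include hc in
/-- The topology of the limit is the initial topology for the projections. -/
lemma topology_eq_iInf [IsCofiltered I] [∀ {i j : I} (f : i ⟶ j), IsAffineHom (D.map f)] :
    c.pt.carrier.str = ⨅ l, TopologicalSpace.induced ⇑(c.π.app l) (D.obj l).carrier.str := by
  apply le_antisymm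
  · exact le_iInf fun l ↦ (c.π.app l).continuous.le_induced
  · have hB := isBasis_preimage_isAffineOpen D c hc
    rw [TopologicalSpace.Opens.IsBasis] at hB
    refine le_trans ?_ hB.eq_generateFrom.ge
    apply le_generateFrom
    rintro _ ⟨_, ⟨l, V, hV, rfl⟩, rfl⟩
    have h1 : IsOpen[TopologicalSpace.induced ⇑(c.π.app l) (D.obj l).carrier.str]
        ((c.π.app l ⁻¹ᵁ V : c.pt.Opens) : Set c.pt) :=
      isOpen_induced_iff.mpr ⟨V, V.2, rfl⟩
    have h2 : (⨅ l, TopologicalSpace.induced ⇑(c.π.app l) (D.obj l).carrier.str) ≤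
        TopologicalSpace.induced ⇑(c.π.app l) (D.obj l).carrier.str := iInf_le _ l
    exact h2 _ h1

end Groth.Agent.Lead.LimTop
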