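import Groth.Agent.Lead.LimSurj
import Groth.Agent.Lead.LimIso
import Groth.Agent.Lead.LimImm
open CategoryTheory Limits AlgebraicGeometry Topology

namespace Groth.Agent.Lead.LimQF
open Groth.Agent.Lead.LimFrame Groth.Agent.Lead.LimPullback Groth.Agent.Lead.LimBC
  Groth.Agent.Lead.LimHom Groth.Agent.Lead.LimIso
universe u

section Pointwise
variable {X Y : Scheme.{u}} (f : X ⟶ Y)

/-- a morphism locally of finite type is quasi-finite at every point of a finite fibre -/
theorem quasiFiniteAt_of_finite_fiber [LocallyOfFiniteType f] (x : X)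
    (h : (f ⁻¹' {f x}).Finite) : f.QuasiFiniteAt x := by
  rw [Scheme.Hom.quasiFiniteAt_iff_isOpen_singleton_asFiber]
  let φ := f.fiberToSpecResidueField (f x)
  have hφ1 : LocallyOfFiniteType φ := MorphismProperty.pullback_snd _ _ inferInstance
  have hfin : Finite ↥(f.fiber (f x)) := by
    have : Finite ↥(f ⁻¹' {f x}) := h.to_subtype
    exact (f.fiberHomeo (f x)).toEquiv.finite_iff.mpr this
  have hφ : LocallyQuasiFinite φ :=
    LocallyQuasiFinite.of_finite_preimage_singleton φ (fun _ ↦ Set.toFinite _)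
  have hd : _root_.IsDiscrete (φ ⁻¹' {φ (f.asFiber x)}) := φ.isDiscrete_preimage_singleton _
  have e : φ ⁻¹' {φ (f.asFiber x)} = Set.univ := by
    ext z
    simp only [Set.mem_preimage, Set.mem_singleton_iff, Set.mem_univ, iff_true]
    rw [f.fiberToSpecResidueField_apply, f.fiberToSpecResidueField_apply]
  rw [e, isDiscrete_univ_iff] at hd
  exact isOpen_discrete _

end Pointwise

section BC
variable {X₀ Y₀ M : Scheme.{u}}

set_option backward.isDefEq.respectTransparency false in
/-- if the base change of `f₀` lands in an open `U` of the source over which `f₀` has `P`, the base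
change has `P` -/
theorem prop_snd_of_range_subset (P : MorphismProperty Scheme.{u}) [P.IsStableUnderBaseChange]
    (f₀ : X₀ ⟶ Y₀) (m : M ⟶ Y₀) (U : X₀.Opens) (hU : P (U.ι ≫ f₀))
    (hr : Set.range (pullback.fst f₀ m).base ⊆ (U : Set X₀)) : P (pullback.snd f₀ m) := by
  let r : pullback f₀ m ⟶ U := IsOpenImmersion.lift U.ι (pullback.fst f₀ m) (by
    rw [Scheme.Opens.range_ι]; exact hr)
  have hr' : r ≫ U.ι = pullback.fst f₀ m := IsOpenImmersion.lift_fac _ _ _
  have hpb : IsPullback r (pullback.snd f₀ m) (U.ι ≫ f₀) m := by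
    refine ⟨⟨by rw [reassoc_of% hr', pullback.condition]⟩, ⟨PullbackCone.IsLimit.mk _
      (fun s ↦ pullback.lift (s.fst ≫ U.ι) s.snd (by rw [Category.assoc, s.condition]))
      (fun s ↦ ?_) (fun s ↦ ?_) (fun s t h1 h2 ↦ ?_)⟩⟩
    · rw [← cancel_mono U.ι, Category.assoc, hr', pullback.lift_fst]
    · rw [pullback.lift_snd]
    · apply pullback.hom_ext
      · rw [pullback.lift_fst, ← h1, Category.assoc, hr']
      · rw [pullback.lift_snd, h2]
  exact P.of_isPullback hpb hU

end BC

variable {I : Type u} [SmallCategory I] [IsCofiltered I] {D : I ⥤ Scheme.{u}} {c : Cone D}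
  (hc : IsLimit c) [∀ {i j : I} (f : i ⟶ j), IsAffineHom (D.map f)] (i₀ : I)
  {X₀ Y₀ : Scheme.{u}} (g₀ : Y₀ ⟶ D.obj i₀) (f₀ : X₀ ⟶ Y₀)

include hc in
set_option backward.isDefEq.respectTransparency false in
theorem locallyQuasiFinite_descends [CompactSpace X₀] [QuasiSeparatedSpace X₀] [CompactSpace Y₀]
    [QuasiSeparatedSpace Y₀] [LocallyOfFiniteType f₀]
    (h : LocallyQuasiFinite (LimFrame.limMap D c i₀ f₀ g₀)) :
    ∃ j : Over i₀, LocallyQuasiFinite (stageMap D i₀ f₀ g₀ j) := by
  have hf₀c : QuasiCompact f₀ := inferInstance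
  have hπ : IsAffineHom (c.π.app i₀) := isAffineHom_π_app D c hc i₀
  let q := pullback.snd (c.π.app i₀) g₀
  have hq : IsAffineHom q := MorphismProperty.pullback_snd _ _ hπ
  let F := LimFrame.limMap D c i₀ f₀ g₀
  let pr := pullback.fst f₀ q
  have hpr : IsAffineHom pr := MorphismProperty.pullback_fst _ _ hq
  have hXc : CompactSpace ↥(pullback f₀ q) := QuasiCompact.compactSpace_of_compactSpace pr
  have hFc : QuasiCompact F := MorphismProperty.pullback_snd _ _ hf₀c
  -- (1) `f₀` is quasi-finite at every point of the image of `X`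
  have h1 : ∀ x : ↥(pullback f₀ q), f₀.QuasiFiniteAt (pr.base x) := by
    intro x
    apply quasiFiniteAt_of_finite_fiber
    have hfin : (F ⁻¹' {F.base x}).Finite := F.finite_preimage_singleton _
    refine (hfin.image pr.base).subset ?_
    intro x₀' hx₀'
    have hx₀'' : f₀.base x₀' = f₀.base (pr.base x) := hx₀'
    have e1 : f₀.base (pr.base x) = q.base (F.base x) := by
      rw [← Scheme.Hom.comp_apply, ← Scheme.Hom.comp_apply, pullback.condition]
    obtain ⟨z, hz1, hz2⟩ := Scheme.Pullback.exists_preimage_pullback x₀' (F.base x)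
      (hx₀''.trans e1)
    exact ⟨z, hz2, hz1⟩
  -- (2) a compact open inside the quasi-finite locus containing the image of `X`
  have hK : IsCompact (Set.range pr.base) := isCompact_range pr.base.hom.continuous
  have hKU : Set.range pr.base ⊆ (f₀.quasiFiniteLocus : Set X₀) := by
    rintro _ ⟨x, rfl⟩; exact h1 x
  obtain ⟨W, hWo, hWc, hKW, hWU⟩ :=
    LimImm.exists_compact_open_between hK f₀.quasiFiniteLocus.2 hKU
  have hE : IsConstructible Wᶜ := (hWc.isConstructible hWo).compl
  -- (3) the image of some `X_j` lies in `W`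
  have hemp : (pullback.snd (c.π.app i₀) (f₀ ≫ g₀)).base ⁻¹' Wᶜ = ∅ := by
    rw [Set.eq_empty_iff_forall_notMem]
    intro z hz
    apply hz
    apply hKW
    refine ⟨(bcIso (c.π.app i₀) f₀ g₀).hom.base z, ?_⟩
    rw [← Scheme.Hom.comp_apply, bcIso_hom_fst]
  obtain ⟨j, hj⟩ := LimSurj.exists_preimage_eq_empty hc i₀ (f₀ ≫ g₀) Wᶜ hE hemp
  refine ⟨j, ?_⟩
  refine prop_snd_of_range_subset (@LocallyQuasiFinite) f₀ _ f₀.quasiFiniteLocus inferInstance ?_
  rintro _ ⟨x, rfl⟩
  apply hWU
  by_contra hx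
  have : (bcIso (D.map j.hom) f₀ g₀).inv.base x ∈
      (pullback.snd (D.map j.hom) (f₀ ≫ g₀)).base ⁻¹' Wᶜ := by
    change (pullback.snd (D.map j.hom) (f₀ ≫ g₀)).base ((bcIso (D.map j.hom) f₀ g₀).inv.base x) ∈ Wᶜ
    rw [← Scheme.Hom.comp_apply, ← bcIso_hom_fst, Iso.inv_hom_id_assoc]
    exact hx
  rw [hj] at this
  exact this

end Groth.Agent.Lead.LimQF
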