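import Mathlib
import Groth.Prelude.Def_MoreMor

set_option autoImplicit false
universe u
open CategoryTheory CategoryTheory.Limits AlgebraicGeometry TopologicalSpace

/-!
# Lifting along first order thickenings for (affine-locally) formally etale morphisms
-/

namespace Groth.Agent.Lead.FEtLift

/-- A morphism from an affine scheme landing in an affine open factors through it. -/
theorem exists_factor {X : Scheme.{u}} {U : X.Opens} (hU : IsAffineOpen U) {R : CommRingCat.{u}}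
    (l : Spec R ⟶ X) (hl : Set.range l ⊆ U) :
    ∃ μ : Γ(X, U) ⟶ R, Spec.map μ ≫ hU.fromSpec = l := by
  have h1 : Set.range l ⊆ Set.range hU.fromSpec := by rw [hU.range_fromSpec]; exact hl
  refine ⟨Spec.preimage (IsOpenImmersion.lift hU.fromSpec l h1), ?_⟩
  rw [Spec.map_preimage, IsOpenImmersion.lift_fac]

theorem factor_unique {X : Scheme.{u}} {U : X.Opens} (hU : IsAffineOpen U) {R : CommRingCat.{u}}
    (μ₁ μ₂ : Γ(X, U) ⟶ R) (h : Spec.map μ₁ ≫ hU.fromSpec = Spec.map μ₂ ≫ hU.fromSpec) :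
    μ₁ = μ₂ := by
  rw [cancel_mono] at h
  exact Spec.map_injective h

/-- `Spec` of a surjection with nilpotent kernel is surjective on points. -/
theorem specMap_surjective_of_nilpotent {B B₀ : CommRingCat.{u}} (π : B ⟶ B₀)
    (hπ : Function.Surjective π.hom) (hker : IsNilpotent (RingHom.ker π.hom)) :
    Function.Surjective (Spec.map π) := by
  intro p
  let p' : PrimeSpectrum B := p
  have h1 : p' ∈ Set.range (PrimeSpectrum.comap π.hom) := by
    rw [range_comap_of_surjective _ _ hπ, PrimeSpectrum.mem_zeroLocus]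
    obtain ⟨n, hn⟩ := hker
    intro x hx
    have h2 : x ^ n ∈ (RingHom.ker π.hom) ^ n := Ideal.pow_mem_pow hx n
    rw [hn] at h2
    have h3 : x ^ n = 0 := by simpa using h2
    exact p'.2.mem_of_pow_mem n (h3 ▸ p'.asIdeal.zero_mem)
  obtain ⟨q, hq⟩ := h1
  exact ⟨q, hq⟩

theorem range_subset_of_comp {X : Scheme.{u}} {B B₀ : CommRingCat.{u}} (π : B ⟶ B₀)
    (hπ : Function.Surjective (Spec.map π)) (l : Spec B ⟶ X) (U : X.Opens)
    (h : Set.range (Spec.map π ≫ l) ⊆ U) : Set.range l ⊆ U := by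
  rintro _ ⟨p, rfl⟩
  obtain ⟨q, rfl⟩ := hπ p
  apply h
  exact ⟨q, by rw [Scheme.Hom.comp_apply]⟩

/-- the Spec of a quotient by a square-zero ideal is surjective on points -/
theorem specMap_mk_surjective {B : Type u} [CommRing B] (I : Ideal B) (hI : I ^ 2 = ⊥) :
    Function.Surjective (Spec.map (CommRingCat.ofHom (Ideal.Quotient.mk I))) := by
  apply specMap_surjective_of_nilpotent
  · exact Ideal.Quotient.mk_surjective
  · refine ⟨2, ?_⟩
    change (RingHom.ker (Ideal.Quotient.mk I)) ^ 2 = _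
    rw [Ideal.mk_ker, hI]
    rfl

/-- Theorem B (existence part): a formally smooth morphism (lifting property) induces
lifts of algebra maps on affine opens. Stated for use in both smooth and etale cases. -/
theorem exists_lift_of_exists {X Y : Scheme.{u}} (f : X ⟶ Y)
    (U : X.Opens) (V : Y.Opens) (hU : IsAffineOpen U) (hV : IsAffineOpen V) (hUV : U ≤ f ⁻¹ᵁ V)
    (B : Type u) [CommRing B] (I : Ideal B) (hI : I ^ 2 = ⊥)
    (β : Γ(Y, V) →+* B) (gbar : Γ(X, U) →+* B ⧸ I)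
    (l : Spec (CommRingCat.of B) ⟶ X)
    (hl1 : Spec.map (CommRingCat.ofHom (Ideal.Quotient.mk I)) ≫ l =
      Spec.map (CommRingCat.ofHom gbar) ≫ hU.fromSpec)
    (hl2 : l ≫ f = Spec.map (CommRingCat.ofHom β) ≫ hV.fromSpec) :
    ∃ g : Γ(X, U) →+* B, (Ideal.Quotient.mk I).comp g = gbar ∧
      g.comp (f.appLE V U hUV).hom = β ∧ Spec.map (CommRingCat.ofHom g) ≫ hU.fromSpec = l := by
  have hrange : Set.range l ⊆ U := by
    apply range_subset_of_comp _ (specMap_mk_surjective I hI)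
    rw [hl1]
    rintro _ ⟨p, rfl⟩
    rw [Scheme.Hom.comp_apply]
    have : hU.fromSpec (Spec.map (CommRingCat.ofHom gbar) p) ∈ Set.range hU.fromSpec :=
      ⟨_, rfl⟩
    rw [hU.range_fromSpec] at this
    exact this
  obtain ⟨μ, hμ⟩ := exists_factor hU l hrange
  refine ⟨μ.hom, ?_, ?_, ?_⟩
  · have h1 : μ ≫ CommRingCat.ofHom (Ideal.Quotient.mk I) = CommRingCat.ofHom gbar := by
      apply factor_unique hU
      rw [Spec.map_comp, Category.assoc, hμ, hl1]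
    have h2 := congrArg CommRingCat.Hom.hom h1
    simpa using h2
  · have h1 : f.appLE V U hUV ≫ μ = CommRingCat.ofHom β := by
      apply factor_unique hV
      rw [Spec.map_comp, Category.assoc, IsAffineOpen.SpecMap_appLE_fromSpec f hV hU hUV,
        ← Category.assoc, hμ, hl2]
    have h2 := congrArg CommRingCat.Hom.hom h1
    simpa using h2
  · exact hμ

/-- the commutative square attached to an algebra map into `B ⧸ I`. -/
theorem square_comm {X Y : Scheme.{u}} (f : X ⟶ Y)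
    (U : X.Opens) (V : Y.Opens) (hU : IsAffineOpen U) (hV : IsAffineOpen V) (hUV : U ≤ f ⁻¹ᵁ V)
    (B : Type u) [CommRing B] (I : Ideal B)
    (β : Γ(Y, V) →+* B) (gbar : Γ(X, U) →+* B ⧸ I)
    (hcomm : gbar.comp (f.appLE V U hUV).hom = (Ideal.Quotient.mk I).comp β) :
    Spec.map (CommRingCat.ofHom (Ideal.Quotient.mk I)) ≫
        (Spec.map (CommRingCat.ofHom β) ≫ hV.fromSpec) =
      (Spec.map (CommRingCat.ofHom gbar) ≫ hU.fromSpec) ≫ f := by
  rw [Category.assoc, ← IsAffineOpen.SpecMap_appLE_fromSpec f hV hU hUV, ← Category.assoc,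
    ← Category.assoc, ← Spec.map_comp, ← Spec.map_comp]
  congr 2
  ext x
  exact (congrArg (fun h => h x) hcomm).symm

/-- the lift attached to a ring map `Γ(X,U) → B` over `Γ(Y,V)` -/
theorem lift_comp {X Y : Scheme.{u}} (f : X ⟶ Y)
    (U : X.Opens) (V : Y.Opens) (hU : IsAffineOpen U) (hV : IsAffineOpen V) (hUV : U ≤ f ⁻¹ᵁ V)
    (B : Type u) [CommRing B]
    (β : Γ(Y, V) →+* B) (g : Γ(X, U) →+* B)
    (hg : g.comp (f.appLE V U hUV).hom = β) :
    (Spec.map (CommRingCat.ofHom g) ≫ hU.fromSpec) ≫ f =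
      Spec.map (CommRingCat.ofHom β) ≫ hV.fromSpec := by
  rw [Category.assoc, ← IsAffineOpen.SpecMap_appLE_fromSpec f hV hU hUV, ← Category.assoc,
    ← Spec.map_comp]
  congr 2
  ext x
  exact congrArg (fun h => h x) hg

theorem formallyEtale_appLE {X Y : Scheme.{u}} (f : X ⟶ Y) (hf : MoreMor.IsFormallyEtaleHom f)
    (U : X.Opens) (V : Y.Opens) (hU : IsAffineOpen U) (hV : IsAffineOpen V) (hUV : U ≤ f ⁻¹ᵁ V) :
    letI := (f.appLE V U hUV).hom.toAlgebra
    Algebra.FormallyEtale Γ(Y, V) Γ(X, U) := by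
  letI := (f.appLE V U hUV).hom.toAlgebra
  rw [Algebra.FormallyEtale.iff_comp_bijective]
  intro B _ _ I hI
  have halg : algebraMap Γ(Y, V) Γ(X, U) = (f.appLE V U hUV).hom := rfl
  constructor
  · intro g₁ g₂ h
    -- both give lifts of the same problem
    set gbar : Γ(X, U) →+* B ⧸ I :=
      (((Ideal.Quotient.mkₐ Γ(Y, V) I).comp g₁ : Γ(X, U) →ₐ[Γ(Y, V)] B ⧸ I) : Γ(X, U) →+* B ⧸ I)
      with hgbar
    have hcomm : gbar.comp (f.appLE V U hUV).hom =
        (Ideal.Quotient.mk I).comp (algebraMap Γ(Y, V) B) := by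
      ext x
      simp [hgbar, ← halg]
    obtain ⟨l, -, hluniq⟩ := hf B I hI _ _
      (square_comm f U V hU hV hUV B I (algebraMap Γ(Y, V) B) gbar hcomm)
    have hg₁ : (g₁ : Γ(X, U) →+* B).comp (f.appLE V U hUV).hom = algebraMap Γ(Y, V) B := by
      ext x; simp [← halg]
    have hg₂ : (g₂ : Γ(X, U) →+* B).comp (f.appLE V U hUV).hom = algebraMap Γ(Y, V) B := by
      ext x; simp [← halg]
    have e1 := hluniq (Spec.map (CommRingCat.ofHom (g₁ : Γ(X, U) →+* B)) ≫ hU.fromSpec)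
      ⟨by
        rw [← Category.assoc, ← Spec.map_comp]
        rfl, lift_comp f U V hU hV hUV B _ _ hg₁⟩
    have e2 := hluniq (Spec.map (CommRingCat.ofHom (g₂ : Γ(X, U) →+* B)) ≫ hU.fromSpec)
      ⟨by
        rw [← Category.assoc, ← Spec.map_comp]
        have : gbar = (((Ideal.Quotient.mkₐ Γ(Y, V) I).comp g₂ :
            Γ(X, U) →ₐ[Γ(Y, V)] B ⧸ I) : Γ(X, U) →+* B ⧸ I) := by
          rw [hgbar, h]
        rw [this]
        rfl, lift_comp f U V hU hV hUV B _ _ hg₂⟩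
    have e3 := factor_unique hU _ _ (e1.trans e2.symm)
    have e4 := congrArg CommRingCat.Hom.hom e3
    ext x
    exact congrArg (fun h => h x) e4
  · intro gbar
    have hcomm : (gbar : Γ(X, U) →+* B ⧸ I).comp (f.appLE V U hUV).hom =
        (Ideal.Quotient.mk I).comp (algebraMap Γ(Y, V) B) := by
      ext x
      simp [← halg]
    obtain ⟨l, ⟨hl1, hl2⟩, -⟩ := hf B I hI _ _
      (square_comm f U V hU hV hUV B I (algebraMap Γ(Y, V) B) gbar hcomm)
    obtain ⟨g, hg1, hg2, -⟩ := exists_lift_of_exists f U V hU hV hUV B I hI _ _ l hl1 hl2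
    refine ⟨{ g with commutes' := fun r => ?_ }, ?_⟩
    · have := congrArg (fun h => h r) hg2
      simpa [halg] using this
    · ext x
      exact congrArg (fun h => h x) hg1

/-- Gluing morphisms given compatibly on a basis of opens. -/
theorem exists_unique_glue {T' X : Scheme.{u}} (ℬ : Set T'.Opens)
    (hℬ : ∀ (x : T') (W : T'.Opens), x ∈ W → ∃ W₂ ∈ ℬ, x ∈ W₂ ∧ W₂ ≤ W)
    (l : ∀ W ∈ ℬ, (W : Scheme.{u}) ⟶ X)
    (hl : ∀ (W₁ : T'.Opens) (h₁ : W₁ ∈ ℬ) (W₂ : T'.Opens) (h₂ : W₂ ∈ ℬ) (h : W₂ ≤ W₁),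
      T'.homOfLE h ≫ l W₁ h₁ = l W₂ h₂) :
    ∃! g : T' ⟶ X, ∀ (W : T'.Opens) (hW : W ∈ ℬ), W.ι ≫ g = l W hW := by
  have hcov : IsOpenCover (fun W : ℬ => (W : T'.Opens)) := by
    apply IsOpenCover.mk
    rw [eq_top_iff]
    intro x _
    obtain ⟨W₂, hW₂, hx, -⟩ := hℬ x ⊤ trivial
    rw [Opens.mem_iSup]
    exact ⟨⟨W₂, hW₂⟩, hx⟩
  let 𝒰 : T'.OpenCover := T'.openCoverOfIsOpenCover _ hcov
  have hcompat : ∀ i j : ℬ, pullback.fst (𝒰.f i) (𝒰.f j) ≫ l i.1 i.2 =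
      pullback.snd (𝒰.f i) (𝒰.f j) ≫ l j.1 j.2 := by
    intro i j
    apply Scheme.hom_ext_of_forall
    intro z
    -- the point of T' below z
    set t : T' := (pullback.fst (𝒰.f i) (𝒰.f j) ≫ 𝒰.f i) z with ht
    have hti : t ∈ (i : T'.Opens) := by
      rw [ht, Scheme.Hom.comp_apply]
      exact (pullback.fst (𝒰.f i) (𝒰.f j) z).2
    have htj : t ∈ (j : T'.Opens) := by
      rw [ht, pullback.condition, Scheme.Hom.comp_apply]
      exact (pullback.snd (𝒰.f i) (𝒰.f j) z).2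
    obtain ⟨W₃, hW₃, htW₃, hle⟩ := hℬ t ((i : T'.Opens) ⊓ (j : T'.Opens)) ⟨hti, htj⟩
    let O : (pullback (𝒰.f i) (𝒰.f j)).Opens := (pullback.fst (𝒰.f i) (𝒰.f j) ≫ 𝒰.f i) ⁻¹ᵁ W₃
    refine ⟨O, htW₃, ?_⟩
    have hrange : Set.range (O.ι ≫ pullback.fst (𝒰.f i) (𝒰.f j) ≫ 𝒰.f i) ⊆ Set.range W₃.ι := by
      rintro _ ⟨y, rfl⟩
      rw [Scheme.Opens.range_ι]
      rw [Scheme.Hom.comp_apply]
      exact y.2
    let k : (O : Scheme.{u}) ⟶ (W₃ : Scheme.{u}) := IsOpenImmersion.lift W₃.ι _ hrange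
    have hk : k ≫ W₃.ι = O.ι ≫ pullback.fst (𝒰.f i) (𝒰.f j) ≫ 𝒰.f i :=
      IsOpenImmersion.lift_fac _ _ _
    have h1 : O.ι ≫ pullback.fst (𝒰.f i) (𝒰.f j) = k ≫ T'.homOfLE (hle.trans inf_le_left) := by
      rw [← cancel_mono (𝒰.f i)]
      change _ = (k ≫ T'.homOfLE _) ≫ (i : T'.Opens).ι
      rw [Category.assoc, Category.assoc, Scheme.homOfLE_ι, hk]
    have h2 : O.ι ≫ pullback.snd (𝒰.f i) (𝒰.f j) = k ≫ T'.homOfLE (hle.trans inf_le_right) := by
      rw [← cancel_mono (𝒰.f j)]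
      change _ = (k ≫ T'.homOfLE _) ≫ (j : T'.Opens).ι
      rw [Category.assoc, Category.assoc, Scheme.homOfLE_ι, hk, pullback.condition]
    have e1 : (k ≫ T'.homOfLE (hle.trans inf_le_left)) ≫ l i.1 i.2 = k ≫ l W₃ hW₃ := by
      rw [Category.assoc, hl _ i.2 W₃ hW₃]
    have e2 : (k ≫ T'.homOfLE (hle.trans inf_le_right)) ≫ l j.1 j.2 = k ≫ l W₃ hW₃ := by
      rw [Category.assoc, hl _ j.2 W₃ hW₃]
    have e3 : (O.ι ≫ pullback.fst (𝒰.f i) (𝒰.f j)) ≫ l i.1 i.2 = k ≫ l W₃ hW₃ :=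
      (congrArg (fun m => m ≫ l i.1 i.2) h1).trans e1
    have e4 : (O.ι ≫ pullback.snd (𝒰.f i) (𝒰.f j)) ≫ l j.1 j.2 = k ≫ l W₃ hW₃ :=
      (congrArg (fun m => m ≫ l j.1 j.2) h2).trans e2
    rw [← Category.assoc, ← Category.assoc]
    exact e3.trans e4.symm
  refine ⟨𝒰.glueMorphisms (fun i => l i.1 i.2) hcompat, ?_, ?_⟩
  · intro W hW
    exact 𝒰.ι_glueMorphisms (fun i => l i.1 i.2) hcompat ⟨W, hW⟩
  · intro g' hg'
    apply 𝒰.hom_ext
    intro i
    rw [𝒰.ι_glueMorphisms]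
    exact hg' i.1 i.2

/-- Ring-level unique lifting for a formally etale ring map. -/
theorem ring_lift {R S A A₀ : Type u} [CommRing R] [CommRing S] [CommRing A] [CommRing A₀]
    (φ : R →+* S) (hφ : letI := φ.toAlgebra; Algebra.FormallyEtale R S)
    (β : R →+* A) (π : A →+* A₀) (hπ : Function.Surjective π)
    (hker : IsNilpotent (RingHom.ker π)) (α : S →+* A₀) (hcomp : α.comp φ = π.comp β) :
    ∃! μ : S →+* A, π.comp μ = α ∧ μ.comp φ = β := by
  letI := φ.toAlgebra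
  letI := β.toAlgebra
  letI := (π.comp β).toAlgebra
  have hφa : algebraMap R S = φ := rfl
  have hβa : algebraMap R A = β := rfl
  have hπβa : algebraMap R A₀ = π.comp β := rfl
  let π' : A →ₐ[R] A₀ := { π with commutes' := fun r => rfl }
  have hα : ∀ r : R, α (algebraMap R S r) = algebraMap R A₀ r := fun r => by
    have := congrArg (fun h => h r) hcomp
    simpa [hφa, hπβa] using this
  let α' : S →ₐ[R] A₀ := { α with commutes' := hα }
  have hπ' : Function.Surjective π' := hπ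
  have hker' : IsNilpotent (RingHom.ker (π' : A →+* A₀)) := hker
  let μ' : S →ₐ[R] A := Algebra.FormallySmooth.liftOfSurjective α' π' hπ' hker'
  have hμ' : π'.comp μ' = α' := Algebra.FormallySmooth.comp_liftOfSurjective α' π' hπ' hker'
  refine ⟨(μ' : S →+* A), ⟨?_, ?_⟩, ?_⟩
  · ext x
    exact congrArg (fun h => h x) hμ'
  · ext r
    exact μ'.commutes r
  · rintro ν ⟨hν1, hν2⟩
    have hν : ∀ r : R, ν (algebraMap R S r) = algebraMap R A r := fun r => by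
      have := congrArg (fun h => h r) hν2
      simpa [hφa, hβa] using this
    let ν' : S →ₐ[R] A := { ν with commutes' := hν }
    have : ν' = μ' := by
      apply Algebra.FormallyUnramified.lift_unique_of_ringHom π hker
      ext x
      have e1 := congrArg (fun h => h x) hν1
      have e2 := congrArg (fun h => h x) hμ'
      simp only [RingHom.coe_comp, Function.comp_apply] at e1
      change π (ν x) = π (μ' x)
      rw [e1]
      exact e2.symm
    ext x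
    exact congrArg (fun h => h x) this

theorem specMap_app_fromSpec {T T' : Scheme.{u}} (t : T ⟶ T') [IsClosedImmersion t]
    (W : T'.Opens) (hW : IsAffineOpen W) :
    Spec.map (t.app W) ≫ hW.fromSpec = (hW.preimage t).fromSpec ≫ t := by
  have := IsAffineOpen.SpecMap_appLE_fromSpec t hW (hW.preimage t) le_rfl
  rwa [← Scheme.Hom.app_eq_appLE] at this

theorem ker_app_nilpotent {T T' : Scheme.{u}} (t : T ⟶ T') [IsClosedImmersion t]
    (hsq : t.ker * t.ker = ⊥) (W : T'.Opens) (hW : IsAffineOpen W) :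
    IsNilpotent (RingHom.ker (t.app W).hom) := by
  refine ⟨2, ?_⟩
  have h1 := Scheme.Hom.ker_apply t ⟨W, hW⟩
  have h2 : (t.ker * t.ker).ideal ⟨W, hW⟩ = (⊥ : T'.IdealSheafData).ideal ⟨W, hW⟩ := by rw [hsq]
  rw [Scheme.IdealSheafData.ideal_mul, Pi.mul_apply, h1, Scheme.IdealSheafData.ideal_bot] at h2
  rw [pow_two, h2]
  rfl

/-- local unique solvability (Spec form) -/
theorem local_unique {X Y T T' : Scheme.{u}} (f : X ⟶ Y)
    (t : T ⟶ T') [IsClosedImmersion t] (hsq : t.ker * t.ker = ⊥)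
    (a : T ⟶ X) (b : T' ⟶ Y) (w : t ≫ b = a ≫ f)
    (W : T'.Opens) (hW : IsAffineOpen W) (U : X.Opens) (V : Y.Opens)
    (hU : IsAffineOpen U) (hV : IsAffineOpen V)
    (hUV : U ≤ f ⁻¹ᵁ V) (haU : t ⁻¹ᵁ W ≤ a ⁻¹ᵁ U) (hbV : W ≤ b ⁻¹ᵁ V)
    (hfe : letI := (f.appLE V U hUV).hom.toAlgebra; Algebra.FormallyEtale Γ(Y, V) Γ(X, U)) :
    ∃! l : Spec Γ(T', W) ⟶ X,
      Spec.map (t.app W) ≫ l = (hW.preimage t).fromSpec ≫ a ∧ l ≫ f = hW.fromSpec ≫ b := by
  have hW₀ : IsAffineOpen (t ⁻¹ᵁ W) := hW.preimage t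
  set π := t.app W with hπdef
  set α := a.appLE U (t ⁻¹ᵁ W) haU with hαdef
  set β := b.appLE V W hbV with hβdef
  set φ := f.appLE V U hUV with hφdef
  have hπs : Function.Surjective π.hom := Scheme.Hom.app_surjective t W hW
  have hπn : IsNilpotent (RingHom.ker π.hom) := ker_app_nilpotent t hsq W hW
  have F1 : Spec.map π ≫ hW.fromSpec = hW₀.fromSpec ≫ t := specMap_app_fromSpec t W hW
  have Fα : Spec.map α ≫ hU.fromSpec = hW₀.fromSpec ≫ a :=
    IsAffineOpen.SpecMap_appLE_fromSpec a hU hW₀ haU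
  have Fβ : Spec.map β ≫ hV.fromSpec = hW.fromSpec ≫ b :=
    IsAffineOpen.SpecMap_appLE_fromSpec b hV hW hbV
  have Fφ : Spec.map φ ≫ hV.fromSpec = hU.fromSpec ≫ f :=
    IsAffineOpen.SpecMap_appLE_fromSpec f hV hU hUV
  have hcompat : φ ≫ α = β ≫ π := by
    apply factor_unique hV
    rw [Spec.map_comp, Spec.map_comp, Category.assoc, Category.assoc, Fφ, ← Category.assoc, Fα,
      Fβ, ← Category.assoc, F1, Category.assoc, Category.assoc, w]
  have hcomp' : α.hom.comp φ.hom = π.hom.comp β.hom := by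
    have := congrArg CommRingCat.Hom.hom hcompat
    simpa using this
  obtain ⟨μ, ⟨hμ1, hμ2⟩, hμuniq⟩ := ring_lift φ.hom hfe β.hom π.hom hπs hπn α.hom hcomp'
  have hμ1' : CommRingCat.ofHom μ ≫ π = α := by
    ext x; exact congrArg (fun h => h x) hμ1
  have hμ2' : φ ≫ CommRingCat.ofHom μ = β := by
    ext x; exact congrArg (fun h => h x) hμ2
  refine ⟨Spec.map (CommRingCat.ofHom μ) ≫ hU.fromSpec, ⟨?_, ?_⟩, ?_⟩
  · rw [← Category.assoc, ← Spec.map_comp, hμ1', Fα]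
  · rw [Category.assoc, ← Fφ, ← Category.assoc, ← Spec.map_comp, hμ2', Fβ]
  · rintro l' ⟨hl1, hl2⟩
    have hrange : Set.range l' ⊆ U := by
      apply range_subset_of_comp π (specMap_surjective_of_nilpotent π hπs hπn)
      rw [hl1]
      rintro _ ⟨p, rfl⟩
      rw [Scheme.Hom.comp_apply]
      have h1 : hW₀.fromSpec p ∈ Set.range hW₀.fromSpec := ⟨p, rfl⟩
      rw [hW₀.range_fromSpec] at h1
      exact haU h1
    obtain ⟨μ', hμ'⟩ := exists_factor hU l' hrange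
    have e1 : μ' ≫ π = α := by
      apply factor_unique hU
      rw [Spec.map_comp, Category.assoc, hμ', hl1, Fα]
    have e2 : φ ≫ μ' = β := by
      apply factor_unique hV
      rw [Spec.map_comp, Category.assoc, Fφ, ← Category.assoc, hμ', hl2, Fβ]
    have e3 : μ'.hom = μ := by
      apply hμuniq
      constructor
      · have := congrArg CommRingCat.Hom.hom e1
        simpa using this
      · have := congrArg CommRingCat.Hom.hom e2
        simpa using this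
    rw [← hμ', ← e3]
    rfl

theorem isoSpec_inv_restrict {T T' : Scheme.{u}} (t : T ⟶ T') [IsClosedImmersion t]
    (W : T'.Opens) (hW : IsAffineOpen W) :
    (hW.preimage t).isoSpec.inv ≫ (t ∣_ W) = Spec.map (t.app W) ≫ hW.isoSpec.inv := by
  rw [← cancel_mono W.ι, Category.assoc, Category.assoc, morphismRestrict_ι,
    IsAffineOpen.isoSpec_inv_ι, ← Category.assoc, IsAffineOpen.isoSpec_inv_ι,
    specMap_app_fromSpec]

theorem local_unique_W {X Y T T' : Scheme.{u}} (f : X ⟶ Y)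
    (t : T ⟶ T') [IsClosedImmersion t] (hsq : t.ker * t.ker = ⊥)
    (a : T ⟶ X) (b : T' ⟶ Y) (w : t ≫ b = a ≫ f)
    (W : T'.Opens) (hW : IsAffineOpen W) (U : X.Opens) (V : Y.Opens)
    (hU : IsAffineOpen U) (hV : IsAffineOpen V)
    (hUV : U ≤ f ⁻¹ᵁ V) (haU : t ⁻¹ᵁ W ≤ a ⁻¹ᵁ U) (hbV : W ≤ b ⁻¹ᵁ V)
    (hfe : letI := (f.appLE V U hUV).hom.toAlgebra; Algebra.FormallyEtale Γ(Y, V) Γ(X, U)) :
    ∃! l : (W : Scheme.{u}) ⟶ X, (t ∣_ W) ≫ l = (t ⁻¹ᵁ W).ι ≫ a ∧ l ≫ f = W.ι ≫ b := by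
  obtain ⟨l', ⟨h1, h2⟩, huniq⟩ := local_unique f t hsq a b w W hW U V hU hV hUV haU hbV hfe
  have key : ∀ l : (W : Scheme.{u}) ⟶ X,
      ((t ∣_ W) ≫ l = (t ⁻¹ᵁ W).ι ≫ a ∧ l ≫ f = W.ι ≫ b) ↔
      (Spec.map (t.app W) ≫ (hW.isoSpec.inv ≫ l) = (hW.preimage t).fromSpec ≫ a ∧
        (hW.isoSpec.inv ≫ l) ≫ f = hW.fromSpec ≫ b) := by
    intro l
    constructor
    · rintro ⟨e1, e2⟩
      constructor
      · rw [← Category.assoc, ← isoSpec_inv_restrict, Category.assoc, e1, ← Category.assoc,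
          IsAffineOpen.isoSpec_inv_ι]
      · rw [Category.assoc, e2, ← Category.assoc, IsAffineOpen.isoSpec_inv_ι]
    · rintro ⟨e1, e2⟩
      constructor
      · rw [← cancel_epi (hW.preimage t).isoSpec.inv, ← Category.assoc,
          isoSpec_inv_restrict t W hW,
          Category.assoc, e1, ← Category.assoc, IsAffineOpen.isoSpec_inv_ι]
      · rw [← cancel_epi hW.isoSpec.inv, ← Category.assoc, e2, ← Category.assoc,
          IsAffineOpen.isoSpec_inv_ι]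
  refine ⟨hW.isoSpec.hom ≫ l', ?_, ?_⟩
  · refine (key _).2 ?_
    rw [Iso.inv_hom_id_assoc]
    exact ⟨h1, h2⟩
  · intro l hl
    have hl' := (key l).1 hl
    have := huniq _ hl'
    rw [← this, Iso.hom_inv_id_assoc]

/-- restriction of a local solution is a local solution -/
theorem restrict_solution {X Y T T' : Scheme.{u}} (f : X ⟶ Y) (t : T ⟶ T')
    (a : T ⟶ X) (b : T' ⟶ Y) (W₁ W₂ : T'.Opens) (h : W₂ ≤ W₁) (l : (W₁ : Scheme.{u}) ⟶ X)
    (hl : (t ∣_ W₁) ≫ l = (t ⁻¹ᵁ W₁).ι ≫ a ∧ l ≫ f = W₁.ι ≫ b) :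
    (t ∣_ W₂) ≫ (T'.homOfLE h ≫ l) = (t ⁻¹ᵁ W₂).ι ≫ a ∧ (T'.homOfLE h ≫ l) ≫ f = W₂.ι ≫ b := by
  have h' : t ⁻¹ᵁ W₂ ≤ t ⁻¹ᵁ W₁ := fun x hx => h hx
  have key : (t ∣_ W₂) ≫ T'.homOfLE h = T.homOfLE h' ≫ (t ∣_ W₁) := by
    rw [← cancel_mono W₁.ι, Category.assoc, Category.assoc, Scheme.homOfLE_ι, morphismRestrict_ι,
      morphismRestrict_ι, ← Category.assoc, Scheme.homOfLE_ι]
  constructor
  · rw [← Category.assoc, key, Category.assoc, hl.1, ← Category.assoc, Scheme.homOfLE_ι]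
  · rw [Category.assoc, hl.2, ← Category.assoc, Scheme.homOfLE_ι]

/-- Theorem A: affine-locally formally etale morphisms lift uniquely along first order thickenings. -/
theorem exists_unique_lift {X Y T T' : Scheme.{u}} (f : X ⟶ Y)
    (hfe : ∀ (U : X.Opens) (V : Y.Opens) (_ : IsAffineOpen U) (_ : IsAffineOpen V)
      (hUV : U ≤ f ⁻¹ᵁ V),
      letI := (f.appLE V U hUV).hom.toAlgebra
      Algebra.FormallyEtale Γ(Y, V) Γ(X, U))
    (t : T ⟶ T') (ht : MoreMor.IsFirstOrderThickening t)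
    (a : T ⟶ X) (b : T' ⟶ Y) (w : t ≫ b = a ≫ f) :
    ∃! l : T' ⟶ X, t ≫ l = a ∧ l ≫ f = b := by
  obtain ⟨⟨hci, hsurj⟩, hsq⟩ := ht
  have hclosed : IsClosedMap t := t.isClosedEmbedding.isClosedMap
  have hinj : Function.Injective t := t.isClosedEmbedding.injective
  have hsurj' : Function.Surjective t := hsurj.surj
  have hopen : IsOpenMap t := by
    intro O hO
    have h1 : t '' O = (t '' Oᶜ)ᶜ := by
      ext y
      constructor
      · rintro ⟨x, hx, rfl⟩ ⟨x', hx', hxx'⟩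
        rw [hinj hxx'] at hx'
        exact hx' hx
      · intro hy
        obtain ⟨x, rfl⟩ := hsurj' y
        refine ⟨x, ?_, rfl⟩
        by_contra hxO
        exact hy ⟨x, hxO, rfl⟩
    rw [h1]
    exact (hclosed _ hO.isClosed_compl).isOpen_compl
  -- the basis
  let ℬ : Set T'.Opens := {W | IsAffineOpen W ∧ ∃ (U : X.Opens) (V : Y.Opens),
    IsAffineOpen U ∧ IsAffineOpen V ∧ U ≤ f ⁻¹ᵁ V ∧ t ⁻¹ᵁ W ≤ a ⁻¹ᵁ U ∧ W ≤ b ⁻¹ᵁ V}
  have hℬ : ∀ (x : T') (W : T'.Opens), x ∈ W → ∃ W₂ ∈ ℬ, x ∈ W₂ ∧ W₂ ≤ W := by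
    intro x' W₀ hx'
    obtain ⟨x, rfl⟩ := hsurj' x'
    obtain ⟨_, ⟨V, hV, rfl⟩, hbV, -⟩ := (Y.isBasis_affineOpens).exists_subset_of_mem_open
      (Set.mem_univ (b (t x))) isOpen_univ
    have hax : a x ∈ f ⁻¹ᵁ V := by
      change f (a x) ∈ V
      rw [← Scheme.Hom.comp_apply, ← w, Scheme.Hom.comp_apply]
      exact hbV
    obtain ⟨_, ⟨U, hU, rfl⟩, haU, hUV⟩ := (X.isBasis_affineOpens).exists_subset_of_mem_open
      hax (f ⁻¹ᵁ V).2
    let O : T'.Opens := ⟨t '' (a ⁻¹ᵁ U : Set T), hopen _ (a ⁻¹ᵁ U).2⟩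
    have hxO : t x ∈ W₀ ⊓ (b ⁻¹ᵁ V) ⊓ O := ⟨⟨hx', hbV⟩, ⟨x, haU, rfl⟩⟩
    obtain ⟨_, ⟨W, hW, rfl⟩, hxW, hWle⟩ := (T'.isBasis_affineOpens).exists_subset_of_mem_open
      hxO (W₀ ⊓ (b ⁻¹ᵁ V) ⊓ O).2
    refine ⟨W, ⟨hW, U, V, hU, hV, hUV, ?_, ?_⟩, hxW, ?_⟩
    · intro y hy
      obtain ⟨y', hy', hyy'⟩ := (hWle hy).2
      rw [← hinj hyy']
      exact hy'
    · intro y hy
      exact (hWle hy).1.2
    · intro y hy
      exact (hWle hy).1.1
  have hloc : ∀ W ∈ ℬ, ∃! l : (W : Scheme.{u}) ⟶ X,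
      (t ∣_ W) ≫ l = (t ⁻¹ᵁ W).ι ≫ a ∧ l ≫ f = W.ι ≫ b := by
    rintro W ⟨hW, U, V, hU, hV, hUV, haU, hbV⟩
    exact local_unique_W f t hsq a b w W hW U V hU hV hUV haU hbV (hfe U V hU hV hUV)
  choose l hl hluniq using hloc
  obtain ⟨g, hg, hguniq⟩ := exists_unique_glue ℬ hℬ l (by
    intro W₁ h₁ W₂ h₂ h
    exact hluniq W₂ h₂ _ (restrict_solution f t a b W₁ W₂ h _ (hl W₁ h₁)))
  refine ⟨g, ⟨?_, ?_⟩, ?_⟩
  · apply Scheme.hom_ext_of_forall
    intro x
    obtain ⟨W, hW, hxW, -⟩ := hℬ (t x) ⊤ trivial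
    refine ⟨t ⁻¹ᵁ W, hxW, ?_⟩
    rw [← Category.assoc, ← morphismRestrict_ι, Category.assoc, hg W hW, (hl W hW).1]
  · apply Scheme.hom_ext_of_forall
    intro x
    obtain ⟨W, hW, hxW, -⟩ := hℬ x ⊤ trivial
    refine ⟨W, hxW, ?_⟩
    rw [← Category.assoc, hg W hW, (hl W hW).2]
  · rintro g' ⟨hg'1, hg'2⟩
    apply hguniq
    intro W hW
    apply hluniq W hW
    constructor
    · rw [← Category.assoc, morphismRestrict_ι, Category.assoc, hg'1]
    · rw [Category.assoc, hg'2]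

end Groth.Agent.Lead.FEtLift
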