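import Groth.Agent.Lead.OmegaSecA
import Groth.Agent.Helper4.FPGlue
import Groth.Agent.Helper4.FTGlue
import Mathlib

/-!
# Lead: basic properties of the frozen sheaf of differentials
-/

set_option autoImplicit false
open CategoryTheory CategoryTheory.Limits AlgebraicGeometry Opposite TopologicalSpace TensorProduct
universe u

namespace Groth.Agent.Lead.OmegaSecB
open Scheme.Modules Groth.Agent.Helper4

variable {X Y : Scheme.{u}} (f : X ⟶ Y)

instance isQuasicoherent_omega : (Omega.sheaf f).IsQuasicoherent :=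
  StalkPull.isQuasicoherent_pullbackObj (pullback.diagonal f)
    (ClSub.idealMod (pullback.diagonal f).ker)

/-- every point has an affine open neighbourhood mapping into an affine open of the base -/
theorem exists_affine_pair (x : X) :
    ∃ (U : X.Opens) (V : Y.Opens), IsAffineOpen U ∧ IsAffineOpen V ∧ x ∈ U ∧ U ≤ f ⁻¹ᵁ V := by
  obtain ⟨_, ⟨V, hV : IsAffineOpen V, rfl⟩, hxV, -⟩ :=
    Y.isBasis_affineOpens.exists_subset_of_mem_open (Set.mem_univ (f x)) isOpen_univ
  obtain ⟨_, ⟨U, hU : IsAffineOpen U, rfl⟩, hxU, hUV⟩ :=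
    X.isBasis_affineOpens.exists_subset_of_mem_open
      (show x ∈ ((f ⁻¹ᵁ V : X.Opens) : Set X) from hxV) (f ⁻¹ᵁ V).isOpen
  exact ⟨U, V, hU, hV, hxU, hUV⟩

/-- refined version inside a given open -/
theorem exists_affine_pair_le (x : X) (W : X.Opens) (hx : x ∈ W) :
    ∃ (U : X.Opens) (V : Y.Opens), IsAffineOpen U ∧ IsAffineOpen V ∧ x ∈ U ∧ U ≤ f ⁻¹ᵁ V ∧
      U ≤ W := by
  obtain ⟨_, ⟨V, hV : IsAffineOpen V, rfl⟩, hxV, -⟩ :=
    Y.isBasis_affineOpens.exists_subset_of_mem_open (Set.mem_univ (f x)) isOpen_univ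
  obtain ⟨_, ⟨U, hU : IsAffineOpen U, rfl⟩, hxU, hUV⟩ :=
    X.isBasis_affineOpens.exists_subset_of_mem_open
      (show x ∈ ((f ⁻¹ᵁ V ⊓ W : X.Opens) : Set X) from ⟨hxV, hx⟩) (f ⁻¹ᵁ V ⊓ W).isOpen
  exact ⟨U, V, hU, hV, hxU, fun y hy => (hUV hy).1, fun y hy => (hUV hy).2⟩

theorem isFiniteType_omega [QuasiSeparated f] [LocallyOfFiniteType f] :
    SheafOfModules.IsFiniteType (R := X.ringCatSheaf) (Omega.sheaf f) := by
  apply FTGlue.isFiniteType_of_finite_sections
  intro x
  obtain ⟨U, V, hU, hV, hxU, e⟩ := exists_affine_pair f x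
  refine ⟨U, hU, hxU, ?_⟩
  letI := (f.appLE V U e).hom.toAlgebra
  obtain ⟨ε, -⟩ := OmegaSecA.exists_sectionsEquiv f hU hV e
  haveI : Algebra.FiniteType Γ(Y, V) Γ(X, U) := f.finiteType_appLE hV hU e
  exact Module.Finite.equiv ε.symm

theorem isFinitePresentation_omega [QuasiSeparated f] [LocallyOfFinitePresentation f] :
    SheafOfModules.IsFinitePresentation (R := X.ringCatSheaf) (Omega.sheaf f) := by
  apply FPGlue.isFinitePresentation_of_fp_sections
  intro x
  obtain ⟨U, V, hU, hV, hxU, e⟩ := exists_affine_pair f x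
  refine ⟨U, hU, hxU, ?_⟩
  letI := (f.appLE V U e).hom.toAlgebra
  obtain ⟨ε, -⟩ := OmegaSecA.exists_sectionsEquiv f hU hV e
  haveI : Algebra.FinitePresentation Γ(Y, V) Γ(X, U) := f.finitePresentation_appLE hV hU e
  exact Module.FinitePresentation.of_equiv ε.symm

end Groth.Agent.Lead.OmegaSecB
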