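import Groth.Agent.Lead.FittSheafA
import Groth.Agent.Lead.AnnSheaf
import Groth.Agent.Helper3.Fitt0
import Mathlib

/-!
# Lead: supports of Fitting ideal sheaves
-/

set_option autoImplicit false
open CategoryTheory AlgebraicGeometry Opposite TopologicalSpace
universe u

namespace Groth.Agent.Lead.FittSheafB
open Scheme.Modules Groth.Agent.Helper4 Groth.Agent.Helper7.FittLib

variable {X : Scheme.{u}} (F : X.Modules)

/-- membership of the support of the Fitting ideal sheaf, on an affine open -/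
theorem mem_support_iff [F.IsQuasicoherent]
    (hft : SheafOfModules.IsFiniteType (R := X.ringCatSheaf) F) (r : ℕ)
    {U : X.Opens} (hU : IsAffineOpen U) (x : X) (hx : x ∈ U) :
    x ∈ (Fitt.sheafIdeal F r).support ↔
      Fitt.ideal Γ(X, U) Γ(F, U) r ≤ (hU.primeIdealOf ⟨x, hx⟩).asIdeal := by
  have h := Scheme.IdealSheafData.mem_support_iff_of_mem (I := Fitt.sheafIdeal F r)
    (U := ⟨U, hU⟩) hx
  rw [FittSheafA.ideal_sheafIdeal F hft r ⟨U, hU⟩] at h
  rw [h, AnnSheaf.mem_zeroLocus_iff hU _ x hx, PrimeSpectrum.mem_zeroLocus]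
  exact Iff.rfl

theorem support_zero [F.IsQuasicoherent]
    (hft : SheafOfModules.IsFiniteType (R := X.ringCatSheaf) F) :
    ((Fitt.sheafIdeal F 0).support : Set X) = CohB1.support F := by
  ext x
  obtain ⟨_, ⟨U, hU : IsAffineOpen U, rfl⟩, hxU, -⟩ :=
    X.isBasis_affineOpens.exists_subset_of_mem_open (Set.mem_univ x) isOpen_univ
  haveI := SecDict.finite_sections hU F inferInstance hft
  rw [← SuppDict.mem_support_iff hU F x hxU, ← Groth.Agent.Helper3.FittLib.zeroLocus_ideal_zero,
    PrimeSpectrum.mem_zeroLocus]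
  exact mem_support_iff F hft 0 hU x hxU

theorem exists_notMem_support [F.IsQuasicoherent]
    (hft : SheafOfModules.IsFiniteType (R := X.ringCatSheaf) F) (x : X) :
    ∃ r : ℕ, x ∉ (Fitt.sheafIdeal F r).support := by
  obtain ⟨_, ⟨U, hU : IsAffineOpen U, rfl⟩, hxU, -⟩ :=
    X.isBasis_affineOpens.exists_subset_of_mem_open (Set.mem_univ x) isOpen_univ
  haveI := SecDict.finite_sections hU F inferInstance hft
  obtain ⟨n, s, hs⟩ := Module.Finite.exists_fin (R := Γ(X, U)) (M := Γ(F, U))
  refine ⟨n, ?_⟩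
  rw [mem_support_iff F hft n hU x hxU, fitt_eq_top_of_le s hs (by simp)]
  intro h
  exact (hU.primeIdealOf ⟨x, hxU⟩).isPrime.ne_top (top_le_iff.mp h)

end Groth.Agent.Lead.FittSheafB
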