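import Mathlib
import Groth.Prelude.Def_Omega3
import Groth.Prelude.Def_MoreMor
import Groth.Prelude.Def_FlatMod2
import Groth.Prelude.Def_Flat
import Groth.Agent.Lead.OmegaLocC
import Groth.Agent.Helper4.FinLocFree
import Groth.Agent.S2768
import Groth.Agent.S7408

set_option autoImplicit false
universe u
open CategoryTheory CategoryTheory.Limits AlgebraicGeometry TopologicalSpace

namespace Groth.Agent.Lead.SmOmegaA

variable {X Y : Scheme.{u}} (f : X ⟶ Y)

theorem appLE_congr (n : ℕ) : ∀ (V V' : Y.Opens) (U U' : X.Opens) (_ : V' = V) (_ : U' = U)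
    (e : U ≤ f ⁻¹ᵁ V) (e' : U' ≤ f ⁻¹ᵁ V'),
    (f.appLE V U e).hom.IsStandardSmoothOfRelativeDimension n →
      (f.appLE V' U' e').hom.IsStandardSmoothOfRelativeDimension n := by
  rintro V _ U _ rfl rfl e e' h
  exact h

theorem smoothRelDim_resLE {U : X.Opens} {V : Y.Opens} (hU : IsAffineOpen U) (hV : IsAffineOpen V)
    (e : U ≤ f ⁻¹ᵁ V) (n : ℕ)
    (h : (f.appLE V U e).hom.IsStandardSmoothOfRelativeDimension n) :
    SmoothOfRelativeDimension n (f.resLE V U e) := by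
  constructor
  intro x'
  haveI : IsAffine (U : Scheme.{u}) := hU
  haveI : IsAffine (V : Scheme.{u}) := hV
  refine ⟨⊤, isAffineOpen_top _, ⊤, isAffineOpen_top _, trivial, le_top, ?_⟩
  rw [Scheme.Hom.resLE_appLE]
  exact appLE_congr f n V _ U _ V.ι_image_top U.ι_image_top e _ h

theorem main [Smooth f] (Ω' : X.Modules) (d : OmegaSh.Der f Ω') (hd : OmegaSh.IsUniversal d)
    (x : ↥X) :
    ∃ (U : X.Opens) (n : ℕ), x ∈ U ∧ Nonempty (Ω'.restrict U.ι ≅ FlatMod.freeMod (↑U) n) ∧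
      FlatMor.fibreDimAt f x = (n : WithBot ℕ∞) := by
  obtain ⟨V, hV, U, hU, hxU, e, hss⟩ := Smooth.exists_isStandardSmooth f x
  letI alg := (f.appLE V U e).hom.toAlgebra
  have hss' : Algebra.IsStandardSmooth Γ(Y, V) Γ(X, U) := hss
  obtain ⟨ι, σ, hσ, hι, ⟨P⟩⟩ := hss'.out
  let n := P.dimension
  haveI hn : Algebra.IsStandardSmoothOfRelativeDimension n Γ(Y, V) Γ(X, U) :=
    P.isStandardSmoothOfRelativeDimension rfl
  haveI : Nonempty U := ⟨⟨x, hxU⟩⟩
  haveI : Nontrivial Γ(X, U) := Scheme.component_nontrivial X U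
  haveI : Algebra.IsStandardSmooth Γ(Y, V) Γ(X, U) := hss
  have hrank : Module.rank Γ(X, U) Ω[Γ(X, U)⁄Γ(Y, V)] = n :=
    Algebra.IsStandardSmoothOfRelativeDimension.rank_kaehlerDifferential n
  haveI : Algebra.FinitePresentation Γ(Y, V) Γ(X, U) := inferInstance
  haveI : Module.Finite Γ(X, U) Ω[Γ(X, U)⁄Γ(Y, V)] := inferInstance
  have hfin : Module.finrank Γ(X, U) Ω[Γ(X, U)⁄Γ(Y, V)] = n :=
    Module.finrank_eq_of_rank_eq hrank
  let b₀ : Module.Basis (Fin n) Γ(X, U) Ω[Γ(X, U)⁄Γ(Y, V)] :=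
    Module.finBasisOfFinrankEq _ _ hfin
  obtain ⟨ε, -⟩ := OmegaLocC.exists_sectionsEquiv f d hd hU hV e
  let b : Module.Basis (Fin n) Γ(X, U) Γ(Ω', U) := b₀.map ε.symm
  haveI := OmegaLocB.isQuasicoherent_of_isUniversal f d hd
  refine ⟨U, n, hxU, ?_, ?_⟩
  · exact (Groth.Agent.Helper4.FinLocFree.isFreeAlong_fromSpec_of_basis hU Ω' b).of_fromSpec hU
  · haveI := smoothRelDim_resLE f hU hV e n hn
    have h1 := Groth.Agent.S7408.result f (f.resLE V U e) U.ι V.ι (by simp) ⟨x, hxU⟩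
    have h2 := Groth.Agent.S2768.result n (f.resLE V U e) ⟨x, hxU⟩
    rw [← h2, ← h1]
    rfl

end Groth.Agent.Lead.SmOmegaA
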