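import Mathlib
import Groth.Prelude
import Groth.Agent.Lead.SmOmegaA
import Groth.Agent.Helper2.FiberSmooth2
import Groth.Agent.Helper2.Miracle
import Groth.Agent.Helper2.RegSeq
import Groth.Agent.Helper2.RegCM
import Groth.Agent.Helper2.StalkField
import Groth.Agent.Helper2.RegSmooth2
import Groth.Agent.Lead.FittSheafD
import Groth.Agent.Lead.OmegaLocB

set_option autoImplicit false
set_option linter.style.haveILetI false
set_option linter.unusedSectionVars false
set_option linter.unusedVariables false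

universe u
open CategoryTheory CategoryTheory.Limits AlgebraicGeometry TopologicalSpace

namespace Groth.Agent.Lead.SmOmegaB
open Groth.Agent.Helper4 Groth.Agent.Lead

variable {X Y : Scheme.{u}} (f : X ⟶ Y)

theorem stalk_iff {P : ∀ {R S : Type u} [CommRing R] [CommRing S], (R →+* S) → Prop}
    (hP : RingHom.RespectsIso @P) {U : X.Opens} {V : Y.Opens} (e : U ≤ f ⁻¹ᵁ V) (x : X)
    (hx : x ∈ U) :
    P ((f.resLE V U e).stalkMap ⟨x, hx⟩).hom ↔ P (f.stalkMap x).hom :=
  hP.arrow_mk_iso_iff (Scheme.Hom.resLEStalkMap f e ⟨x, hx⟩)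

section Alg
open IsLocalRing

/-- regular closed fibre + regular base + dimension formula gives flatness -/
theorem flat_of_regular_fibre_dim (A B : Type u) [CommRing A] [CommRing B] [IsRegularLocalRing A]
    [IsLocalRing B] [IsNoetherianRing B] [Algebra A B] [IsLocalHom (algebraMap A B)]
    (hreg : IsRegularLocalRing (B ⧸ (maximalIdeal A).map (algebraMap A B)))
    (hdim : ringKrullDim B =
      ringKrullDim (B ⧸ (maximalIdeal A).map (algebraMap A B)) + ringKrullDim A) :
    Module.Flat A B := by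
  obtain ⟨xs, hlen, hxs⟩ := Groth.Agent.Helper2.Miracle.exists_list A
  have hle : (maximalIdeal A).map (algebraMap A B) ≤ maximalIdeal B :=
    ((IsLocalRing.local_hom_TFAE (algebraMap A B)).out 0 2).mp
      (inferInstance : IsLocalHom (algebraMap A B))
  have hmem : ∀ i : Fin xs.length, algebraMap A B (xs.get i) ∈ maximalIdeal B := by
    intro i
    have h1 : xs.get i ∈ maximalIdeal A := by
      rw [← hxs]
      exact Ideal.subset_span (List.get_mem _ _)
    exact hle (Ideal.mem_map_of_mem _ h1)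
  let x : Fin xs.length → maximalIdeal B := fun i => ⟨algebraMap A B (xs.get i), hmem i⟩
  have hspan : Ideal.span (Set.range fun i => (x i : B)) =
      (maximalIdeal A).map (algebraMap A B) := by
    rw [← hxs]
    unfold Ideal.ofList
    rw [Ideal.map_span]
    congr 1
    ext b
    simp only [Set.mem_range, Set.mem_image, Set.mem_ofPred_eq]
    constructor
    · rintro ⟨i, rfl⟩
      exact ⟨xs.get i, List.get_mem _ _, rfl⟩
    · rintro ⟨a, ha, rfl⟩
      obtain ⟨i, rfl⟩ := List.mem_iff_get.mp ha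
      exact ⟨i, rfl⟩
  have hdim' : ringKrullDim (B ⧸ Ideal.span (Set.range fun i => (x i : B))) +
      (xs.length : ℕ) = ringKrullDim B := by
    rw [hspan, hdim, hlen]
  have hreg' : IsRegularLocalRing (B ⧸ Ideal.span (Set.range fun i => (x i : B))) := by
    rw [hspan]
    exact hreg
  obtain ⟨hB, -⟩ :=
    Groth.Agent.Helper2.RegSeq.regular_of_quotient_regular xs.length x hdim' hreg'
  haveI : LocCoh.IsCohenMacaulayLocalRing B :=
    { supportDim_eq_depth := Groth.Agent.Helper2.RegCM.cm_of_isRegularLocalRing B }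
  apply Groth.Agent.Helper2.Miracle.flat_of_cm_ring
  rw [hdim, add_comm]

theorem quot_equiv_of_comm {A B A' B' : Type u} [CommRing A] [CommRing B] [CommRing A']
    [CommRing B'] [IsLocalRing A] [IsLocalRing A']
    (φ : A →+* B) (φ' : A' →+* B') (α : A ≃+* A') (β : B ≃+* B')
    (h : ∀ a, β (φ a) = φ' (α a)) :
    Nonempty ((B ⧸ Ideal.map φ (maximalIdeal A)) ≃+* (B' ⧸ Ideal.map φ' (maximalIdeal A'))) := by
  refine ⟨Ideal.quotientEquiv _ _ β ?_⟩
  have hα : maximalIdeal A' = Ideal.map (α : A →+* A') (maximalIdeal A) := by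
    rw [Ideal.map_comap_of_equiv]
    ext a'
    simp only [Ideal.mem_comap, IsLocalRing.mem_maximalIdeal, mem_nonunits_iff]
    rw [← MulEquiv.isUnit_map α.symm.toMulEquiv]
    rfl
  rw [hα, Ideal.map_map, Ideal.map_map]
  congr 1
  ext a
  exact (h a).symm

end Alg

theorem regular_stalk_of_mem_smoothLocus (K : Type u) [Field K] (Z : Scheme.{u})
    (g : Z ⟶ Spec (CommRingCat.of K)) [LocallyOfFinitePresentation g] (z : Z)
    (hz : z ∈ g.smoothLocus) : IsRegularLocalRing (Z.presheaf.stalk z) := by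
  obtain ⟨A, _, _, _, q, _, ⟨e⟩, hiff⟩ :=
    Groth.Agent.Helper2.StalkField.exists_algebra_stalk K Z g z
  have := Groth.Agent.Helper2.RegSmooth2.isRegularLocalRing_of_isSmoothAt K A q (hiff.1 hz)
  exact IsRegularLocalRing.of_ringEquiv e.symm

/-- local version of `SmOmegaA.main`: on a standard smooth affine pair. -/
theorem main' (Ω' : X.Modules) (d : OmegaSh.Der f Ω') (hd : OmegaSh.IsUniversal d)
    (x : ↥X) {U : X.Opens} {V : Y.Opens} (hV : IsAffineOpen V) (hU : IsAffineOpen U)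
    (hxU : x ∈ U) (e : U ≤ f ⁻¹ᵁ V) (hss : (f.appLE V U e).hom.IsStandardSmooth) :
    ∃ (U : X.Opens) (n : ℕ), x ∈ U ∧ Nonempty (Ω'.restrict U.ι ≅ FlatMod.freeMod (↑U) n) ∧
      FlatMor.fibreDimAt f x = (n : WithBot ℕ∞) := by
  letI alg := (f.appLE V U e).hom.toAlgebra
  have hss' : Algebra.IsStandardSmooth Γ(Y, V) Γ(X, U) := hss
  obtain ⟨ι, σ, hσ, hι, ⟨P⟩⟩ := hss'.out
  let n := P.dimension
  haveI hn : Algebra.IsStandardSmoothOfRelativeDimension n Γ(Y, V) Γ(X, U) :=
    P.isStandardSmoothOfRelativeDimension rfl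
  haveI : Nonempty U := ⟨⟨x, hxU⟩⟩
  haveI : Nontrivial Γ(X, U) := Scheme.component_nontrivial X U
  haveI : Algebra.IsStandardSmooth Γ(Y, V) Γ(X, U) := hss
  have hrank : Module.rank Γ(X, U) Ω[Γ(X, U)⁄Γ(Y, V)] = n :=
    Algebra.IsStandardSmoothOfRelativeDimension.rank_kaehlerDifferential n
  haveI : Algebra.FinitePresentation Γ(Y, V) Γ(X, U) := inferInstance
  haveI : Module.Finite Γ(X, U) Ω[Γ(X, U)⁄Γ(Y, V)] := inferInstance
  have hfin : Module.finrank Γ(X, U) Ω[Γ(X, U)⁄Γ(Y, V)] = n :=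
    Module.finrank_eq_of_rank_eq hrank
  let b₀ : Module.Basis (Fin n) Γ(X, U) Ω[Γ(X, U)⁄Γ(Y, V)] :=
    Module.finBasisOfFinrankEq _ _ hfin
  obtain ⟨ε, -⟩ := OmegaLocC.exists_sectionsEquiv f d hd hU hV e
  let b : Module.Basis (Fin n) Γ(X, U) Γ(Ω', U) := b₀.map ε.symm
  haveI := OmegaLocB.isQuasicoherent_of_isUniversal f d hd
  refine ⟨U, n, hxU, ?_, ?_⟩
  · exact (Groth.Agent.Helper4.FinLocFree.isFreeAlong_fromSpec_of_basis hU Ω' b).of_fromSpec hU
  · haveI := SmOmegaA.smoothRelDim_resLE f hU hV e n hn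
    have h1 := Groth.Agent.S7408.result f (f.resLE V U e) U.ι V.ι (by simp) ⟨x, hxU⟩
    have h2 := Groth.Agent.S2768.result n (f.resLE V U e) ⟨x, hxU⟩
    rw [← h2, ← h1]
    rfl

theorem fwd [LocallyOfFinitePresentation f] (Ω' : X.Modules) (d : OmegaSh.Der f Ω')
    (hd : OmegaSh.IsUniversal d) (x : ↥X) (hx : x ∈ f.smoothLocus) :
    (f.stalkMap x).hom.Flat ∧
    ∃ (U : X.Opens) (n : ℕ), x ∈ U ∧ Nonempty (Ω'.restrict U.ι ≅ FlatMod.freeMod (↑U) n) ∧
      FlatMor.fibreDimAt f x = (n : WithBot ℕ∞) := by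
  haveI hlfp : LocallyOfFinitePresentation (f.fiberToSpecResidueField (f x)) :=
    inferInstanceAs (LocallyOfFinitePresentation (pullback.snd f (Y.fromSpecResidueField (f x))))
  refine ⟨((Groth.Agent.Helper2.FiberSmooth2.mem_smoothLocus_iff_flat_and_fiber f x).mp hx).1, ?_⟩
  obtain ⟨V, hV, U, hU, hUV, hxU, H⟩ := exists_smooth_of_formallySmooth_stalk f x hx
  haveI : IsAffine (U : Scheme.{u}) := hU
  haveI : IsAffine (V : Scheme.{u}) := hV
  haveI hsm : Smooth (f.resLE V U hUV) := by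
    rw [HasRingHomProperty.iff_of_isAffine (P := @Smooth)]
    exact (RingHom.Smooth.propertyIsLocal.respectsIso.arrow_mk_iso_iff
      (arrowResLEAppIso f V U hUV)).mpr H
  obtain ⟨V', hV', U', hU', hxU', e', hss⟩ :=
    Smooth.exists_isStandardSmooth (f.resLE V U hUV) ⟨x, hxU⟩
  rw [Scheme.Hom.resLE_appLE] at hss
  exact main' f Ω' d hd x (hV'.image_of_isOpenImmersion V.ι) (hU'.image_of_isOpenImmersion U.ι)
    ⟨⟨x, hxU⟩, hxU', rfl⟩ _ hss

end Groth.Agent.Lead.SmOmegaB
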