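import Mathlib
import Groth.Prelude
import Groth.Agent.Lead.SmOmegaB
import Groth.Agent.Helper5.JacDimC
import Groth.Agent.Helper5.CMFib1
import Groth.Agent.Lead.OmegaSecE
import Groth.Agent.Helper3.FibIrr1
import Groth.Agent.Helper2.SmoothDense

set_option autoImplicit false
set_option linter.style.haveILetI false
set_option linter.unusedSectionVars false
set_option linter.unusedVariables false

universe u
open CategoryTheory CategoryTheory.Limits AlgebraicGeometry TopologicalSpace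

namespace Groth.Agent.Lead.SmOmegaC
open Groth.Agent.Helper4 Groth.Agent.Lead

variable {X Y : Scheme.{u}} (f : X ⟶ Y)

instance lfp_fiberTo {X S : Scheme.{u}} (f : X ⟶ S) [LocallyOfFinitePresentation f] (s : S) :
    LocallyOfFinitePresentation (f.fiberToSpecResidueField s) :=
  inferInstanceAs (LocallyOfFinitePresentation (pullback.snd f (S.fromSpecResidueField s)))

/-- Jacobian criterion on the fibre. -/
theorem fib_smooth_of_notMem {U V : Scheme.{u}} (f₀ : U ⟶ V) [LocallyOfFinitePresentation f₀]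
    [QuasiSeparated f₀] (x₀ : U) (n : ℕ)
    (hns : x₀ ∉ (Fitt.sheafIdeal (Omega.sheaf f₀) n).support)
    (hloc : FlatMor.fibreDimAt f₀ x₀ = (n : WithBot ℕ∞)) :
    f₀.asFiber x₀ ∈ (f₀.fiberToSpecResidueField (f₀ x₀)).smoothLocus := by
  haveI hqs' : QuasiSeparated (f₀.fiberToSpecResidueField (f₀ x₀)) :=
    inferInstanceAs (QuasiSeparated (pullback.snd f₀ (V.fromSpecResidueField (f₀ x₀))))
  have hfield : IsField (V.residueField (f₀ x₀)) :=
    Field.toIsField (IsLocalRing.ResidueField (V.presheaf.stalk (f₀ x₀)))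
  have h1 : x₀ ∈ (Fitt.sheafIdeal (Omega.sheaf f₀) n).support ↔
      f₀.asFiber x₀ ∈
        (Fitt.sheafIdeal (Omega.sheaf (f₀.fiberToSpecResidueField (f₀ x₀))) n).support := by
    have hm := OmegaSecE.main f₀ (V.fromSpecResidueField (f₀ x₀)) n
    have hm' : (Fitt.sheafIdeal (Omega.sheaf f₀) n).comap (f₀.fiberι (f₀ x₀)) =
        Fitt.sheafIdeal (Omega.sheaf (f₀.fiberToSpecResidueField (f₀ x₀))) n := hm
    rw [← hm', Scheme.IdealSheafData.support_comap]
    show _ ↔ f₀.fiberι (f₀ x₀) (f₀.asFiber x₀) ∈ (Fitt.sheafIdeal (Omega.sheaf f₀) n).support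
    rw [f₀.fiberι_asFiber x₀]
  have hloc' : FlatMor.localDim (f₀.fiber (f₀ x₀)) (f₀.asFiber x₀) = (n : WithBot ℕ∞) := hloc
  have hsf := Groth.Agent.Helper5.JacDimC.sf (V.residueField (f₀ x₀)) hfield
    (f₀.fiberToSpecResidueField (f₀ x₀)) (f₀.asFiber x₀) n hloc'
  by_contra hc
  exact hns (h1.mpr (hsf.mpr hc))

/-- the fibre is smooth at `x` when the differentials are free of rank the local fibre dimension;
stated for an affine pair around `x`. -/
theorem fib_smooth [LocallyOfFinitePresentation f] (Ω' : X.Modules) (d : OmegaSh.Der f Ω')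
    (hd : OmegaSh.IsUniversal d) (x : ↥X)
    (U₁ : X.Opens) (n : ℕ) (hxU₁ : x ∈ U₁)
    (φ₁ : Nonempty (Ω'.restrict U₁.ι ≅ FlatMod.freeMod (↑U₁) n))
    (hdim : FlatMor.fibreDimAt f x = (n : WithBot ℕ∞)) :
    ∃ (U : X.Opens) (V : Y.Opens) (_ : IsAffineOpen U) (_ : IsAffineOpen V) (hxU : x ∈ U)
      (hUV : U ≤ f ⁻¹ᵁ V),
      (f.resLE V U hUV).asFiber ⟨x, hxU⟩ ∈
        ((f.resLE V U hUV).fiberToSpecResidueField ((f.resLE V U hUV) ⟨x, hxU⟩)).smoothLocus := by
  obtain ⟨U, V, hU, hV, hxU, hUV, hUU₁⟩ := OmegaSecB.exists_affine_pair_le f x U₁ hxU₁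
  refine ⟨U, V, hU, hV, hxU, hUV, ?_⟩
  haveI hqs := OmegaLocB.quasiSeparated_resLE f hUV hU hV
  obtain ⟨φ, -⟩ := OmegaLocB.exists_iso_restrict f hUV hU hV d hd
  have hfree : FlatMod.IsFinLocFreeOfRank n (Omega.sheaf (f.resLE V U hUV)) := by
    intro y
    obtain ⟨i₁⟩ := φ₁
    have h1 : FinLocFree.IsFreeAlong Ω' U₁.ι n := ⟨i₁⟩
    have h2 : FinLocFree.IsFreeAlong Ω' U.ι n := h1.of_le hUU₁
    obtain ⟨i₂⟩ := h2
    refine ⟨⊤, trivial, ⟨?_⟩⟩
    exact (Scheme.Modules.restrictFunctor _).mapIso (φ.symm ≪≫ i₂) ≪≫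
      FinLocFree.restrictFreeIso _ n
  have hfitt := FittSheafD.fitt_of_isFinLocFreeOfRank (Omega.sheaf (f.resLE V U hUV))
    (OmegaSecB.isFiniteType_omega (f.resLE V U hUV)) n hfree n
  rw [if_neg (lt_irrefl n)] at hfitt
  have hns : (⟨x, hxU⟩ : ↥(U : Scheme.{u})) ∉
      (Fitt.sheafIdeal (Omega.sheaf (f.resLE V U hUV)) n).support := by
    rw [hfitt, Scheme.IdealSheafData.support_top]
    exact fun h => h
  have h7 := Groth.Agent.S7408.result f (f.resLE V U hUV) U.ι V.ι (by simp) ⟨x, hxU⟩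
  exact fib_smooth_of_notMem (f.resLE V U hUV) ⟨x, hxU⟩ n hns (h7.symm.trans hdim)

theorem bwd [LocallyOfFinitePresentation f] (Ω' : X.Modules) (d : OmegaSh.Der f Ω')
    (hd : OmegaSh.IsUniversal d) (x : ↥X) (hflat : (f.stalkMap x).hom.Flat)
    (U₁ : X.Opens) (n : ℕ) (hxU₁ : x ∈ U₁)
    (φ₁ : Nonempty (Ω'.restrict U₁.ι ≅ FlatMod.freeMod (↑U₁) n))
    (hdim : FlatMor.fibreDimAt f x = (n : WithBot ℕ∞)) : x ∈ f.smoothLocus := by
  obtain ⟨U, V, hU, hV, hxU, hUV, hfib⟩ := fib_smooth f Ω' d hd x U₁ n hxU₁ φ₁ hdim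
  have hflat₀ : ((f.resLE V U hUV).stalkMap ⟨x, hxU⟩).hom.Flat :=
    (SmOmegaB.stalk_iff f RingHom.Flat.respectsIso hUV x hxU).mpr hflat
  have hsm₀ : (⟨x, hxU⟩ : ↥(U : Scheme.{u})) ∈ (f.resLE V U hUV).smoothLocus :=
    (Groth.Agent.Helper2.FiberSmooth2.mem_smoothLocus_iff_flat_and_fiber
      (f.resLE V U hUV) ⟨x, hxU⟩).mpr ⟨hflat₀, hfib⟩
  exact Scheme.Hom.mem_smoothLocus.mpr
    ((SmOmegaB.stalk_iff f RingHom.FormallySmooth.respectsIso hUV x hxU).mp
      (Scheme.Hom.mem_smoothLocus.mp hsm₀))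

theorem main [LocallyOfFinitePresentation f] (Ω' : X.Modules) (d : OmegaSh.Der f Ω')
    (hd : OmegaSh.IsUniversal d) (x : ↥X) :
    x ∈ f.smoothLocus ↔ (f.stalkMap x).hom.Flat ∧
      ∃ (U : X.Opens) (n : ℕ), x ∈ U ∧ Nonempty (Ω'.restrict U.ι ≅ FlatMod.freeMod (↑U) n) ∧
        FlatMor.fibreDimAt f x = (n : WithBot ℕ∞) :=
  ⟨fun hx => SmOmegaB.fwd f Ω' d hd x hx,
    fun ⟨hflat, U₁, n, hxU₁, φ₁, hdim⟩ => bwd f Ω' d hd x hflat U₁ n hxU₁ φ₁ hdim⟩

/-- over a field, the local fibre dimension of an irreducible scheme is its dimension. -/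
theorem fibreDimAt_eq_of_field (k : Type u) [Field k] (X : Scheme.{u})
    (f : X ⟶ Spec (CommRingCat.of k)) [LocallyOfFiniteType f] [IrreducibleSpace ↥X] (x : X) :
    FlatMor.fibreDimAt f x = topologicalKrullDim ↥X := by
  have huniv : (f ⁻¹' {f x} : Set X) = Set.univ := by
    ext y
    simp only [Set.mem_preimage, Set.mem_singleton_iff, Set.mem_univ, iff_true]
    exact @Subsingleton.elim (PrimeSpectrum k) _ _ _
  have hirr : IsIrreducible (f ⁻¹' {f x}) := by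
    rw [huniv]
    exact IrreducibleSpace.isIrreducible_univ X
  rw [Groth.Agent.Helper3.FibIrr1.fibreDimAt_eq_of_irreducible f x hirr, huniv]
  exact (Homeomorph.Set.univ X).isHomeomorph.topologicalKrullDim_eq

theorem s12422 (k : Type u) [Field k] [IsAlgClosed k] (n : ℕ) (X : Scheme.{u})
    (f : X ⟶ Spec (CommRingCat.of k)) [IrreducibleSpace ↥X] [LocallyOfFiniteType f]
    (hn : topologicalKrullDim ↥X = (n : WithBot ℕ∞)) (Ω : X.Modules)
    (d : OmegaSh.Der f Ω) (hd : OmegaSh.IsUniversal d) :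
    FlatMod.IsFinLocFreeOfRank n Ω ↔ ∀ x : ↥X, IsRegularLocalRing ↑(X.presheaf.stalk x) := by
  haveI : LocallyOfFinitePresentation f := inferInstance
  haveI : PerfectField k := inferInstance
  have hfd : ∀ x : X, FlatMor.fibreDimAt f x = (n : WithBot ℕ∞) := fun x => by
    rw [fibreDimAt_eq_of_field k X f x, hn]
  haveI : Flat f := inferInstance
  constructor
  · intro h x
    obtain ⟨U, hxU, φ⟩ := h x
    have hx : x ∈ f.smoothLocus := bwd f Ω d hd x (Flat.stalkMap f x) U n hxU φ (hfd x)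
    exact (Groth.Agent.Helper2.SmoothDense.mem_smoothLocus_iff_regular k X f x).mp hx
  · intro h x
    have hx : x ∈ f.smoothLocus :=
      (Groth.Agent.Helper2.SmoothDense.mem_smoothLocus_iff_regular k X f x).mpr (h x)
    obtain ⟨-, U, m, hxU, φ, hm⟩ := SmOmegaB.fwd f Ω d hd x hx
    have hmn : m = n := by
      rw [hfd x] at hm
      exact_mod_cast hm.symm
    subst hmn
    exact ⟨U, hxU, φ⟩

section RegBase
open IsLocalRing

theorem flat_of_regular_base {X S : Scheme.{u}} (f : X ⟶ S) [IsLocallyNoetherian S]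
    [LocallyOfFinitePresentation f] (Ω' : X.Modules) (d : OmegaSh.Der f Ω')
    (hd : OmegaSh.IsUniversal d) (x : X)
    (hregS : IsRegularLocalRing (S.presheaf.stalk (f x)))
    (hdimx : ringKrullDim (X.presheaf.stalk x) =
      ringKrullDim ((f.fiber (f x)).presheaf.stalk (f.asFiber x)) +
        ringKrullDim (S.presheaf.stalk (f x)))
    (U₁ : X.Opens) (n : ℕ) (hxU₁ : x ∈ U₁)
    (φ₁ : Nonempty (Ω'.restrict U₁.ι ≅ FlatMod.freeMod (↑U₁) n))
    (hdim : FlatMor.fibreDimAt f x = (n : WithBot ℕ∞)) : (f.stalkMap x).hom.Flat := by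
  obtain ⟨U, V, hU, hV, hxU, hUV, hfib⟩ := fib_smooth f Ω' d hd x U₁ n hxU₁ φ₁ hdim
  have hreg₀ : IsRegularLocalRing
      (((f.resLE V U hUV).fiber ((f.resLE V U hUV) ⟨x, hxU⟩)).presheaf.stalk
        ((f.resLE V U hUV).asFiber ⟨x, hxU⟩)) :=
    @SmOmegaB.regular_stalk_of_mem_smoothLocus
      (IsLocalRing.ResidueField ((V : Scheme.{u}).presheaf.stalk ((f.resLE V U hUV) ⟨x, hxU⟩)))
      _ _ ((f.resLE V U hUV).fiberToSpecResidueField ((f.resLE V U hUV) ⟨x, hxU⟩))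
      (lfp_fiberTo _ _) _ hfib
  obtain ⟨e₀⟩ := Groth.Agent.Helper5.CMFib.fibre_stalk_equiv' (f.resLE V U hUV) ⟨x, hxU⟩
  have hreg₀' := IsRegularLocalRing.of_ringEquiv e₀.symm
  let ar := Scheme.Hom.resLEStalkMap f hUV ⟨x, hxU⟩
  obtain ⟨q⟩ := SmOmegaB.quot_equiv_of_comm ((f.resLE V U hUV).stalkMap ⟨x, hxU⟩).hom
    (f.stalkMap x).hom (Arrow.leftFunc.mapIso ar).commRingCatIsoToRingEquiv
    (Arrow.rightFunc.mapIso ar).commRingCatIsoToRingEquiv (by
      intro a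
      have hw := ar.hom.w
      exact (ConcreteCategory.congr_hom hw a).symm)
  have hregq : IsRegularLocalRing (X.presheaf.stalk x ⧸
      Ideal.map (f.stalkMap x).hom (maximalIdeal (S.presheaf.stalk (f x)))) :=
    IsRegularLocalRing.of_ringEquiv q
  letI := (f.stalkMap x).hom.toAlgebra
  haveI : IsLocalHom (algebraMap (S.presheaf.stalk (f x)) (X.presheaf.stalk x)) :=
    (inferInstance : IsLocalHom (f.stalkMap x).hom)
  haveI : IsLocallyNoetherian X := LocallyOfFiniteType.isLocallyNoetherian f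
  haveI : IsNoetherianRing (X.presheaf.stalk x) := inferInstance
  obtain ⟨e⟩ := Groth.Agent.Helper5.CMFib.fibre_stalk_equiv' f x
  exact SmOmegaB.flat_of_regular_fibre_dim (S.presheaf.stalk (f x)) (X.presheaf.stalk x) hregq
    (by
      rw [hdimx]
      exact congrArg (· + ringKrullDim (S.presheaf.stalk (f x)))
        (ringKrullDim_eq_of_ringEquiv e).symm)

theorem s11581 {X S : Scheme.{u}} (f : X ⟶ S) [IsLocallyNoetherian S]
    (hreg : ∀ s : S, IsRegularLocalRing (S.presheaf.stalk s))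
    [LocallyOfFinitePresentation f] (Ω' : X.Modules)
    (d : OmegaSh.Der f Ω') (hd : OmegaSh.IsUniversal d) (x : X)
    (hdim : ringKrullDim (X.presheaf.stalk x) =
      ringKrullDim ((f.fiber (f x)).presheaf.stalk (f.asFiber x)) +
        ringKrullDim (S.presheaf.stalk (f x))) :
    x ∈ f.smoothLocus ↔ ∃ (U : X.Opens) (n : ℕ), x ∈ U ∧
      Nonempty (Ω'.restrict U.ι ≅ FlatMod.freeMod (↑U) n) ∧
        FlatMor.fibreDimAt f x = (n : WithBot ℕ∞) := by
  constructor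
  · intro hx
    exact (SmOmegaB.fwd f Ω' d hd x hx).2
  · rintro ⟨U₁, n, hxU₁, φ₁, hd'⟩
    exact bwd f Ω' d hd x
      (flat_of_regular_base f Ω' d hd x (hreg (f x)) hdim U₁ n hxU₁ φ₁ hd') U₁ n hxU₁ φ₁ hd'

end RegBase

end Groth.Agent.Lead.SmOmegaC
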