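import Groth.Agent.Lead.OmegaSeqC
import Mathlib

/-!
# Lead: the canonical map of differentials for a square with étale horizontal maps is an iso
-/

set_option autoImplicit false
set_option backward.isDefEq.respectTransparency false
set_option backward.isDefEq.respectTransparency.types false
open CategoryTheory CategoryTheory.Limits AlgebraicGeometry Opposite TopologicalSpace TensorProduct
universe u

namespace Groth.Agent.Lead.OmegaSeqD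
open Scheme.Modules OmegaSh Groth.Agent.Helper4 Groth.Agent.Lead.BCMap

section Algebra
variable (A₁ A₂ B₁ B₂ : Type u) [CommRing A₁] [CommRing A₂] [CommRing B₁] [CommRing B₂]
  [Algebra A₁ A₂] [Algebra A₁ B₁] [Algebra A₂ B₂] [Algebra B₁ B₂] [Algebra A₁ B₂]
  [IsScalarTower A₁ A₂ B₂] [IsScalarTower A₁ B₁ B₂]

/-- `Ω[B₂/A₁] → Ω[B₂/A₂]` is bijective if `A₂` is formally unramified over `A₁`. -/
theorem map_bijective_of_formallyUnramified [Algebra.FormallyUnramified A₁ A₂] :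
    Function.Bijective (KaehlerDifferential.map A₁ A₂ B₂ B₂) := by
  refine ⟨?_, KaehlerDifferential.map_surjective A₁ A₂ B₂⟩
  rw [injective_iff_map_eq_zero]
  intro x hx
  obtain ⟨y, rfl⟩ := (KaehlerDifferential.exact_mapBaseChange_map A₁ A₂ B₂ x).mp hx
  haveI : Subsingleton (B₂ ⊗[A₂] Ω[A₂⁄A₁]) := inferInstance
  rw [Subsingleton.elim y 0, map_zero]

/-- the comparison map `B₂ ⊗ Ω[B₁/A₁] → Ω[B₂/A₂]` -/
noncomputable def compMap : B₂ ⊗[B₁] Ω[B₁⁄A₁] →ₗ[B₂] Ω[B₂⁄A₂] :=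
  (KaehlerDifferential.map A₁ A₂ B₂ B₂) ∘ₗ (KaehlerDifferential.mapBaseChange A₁ B₁ B₂)

theorem compMap_tmul_D (s : B₁) :
    compMap A₁ A₂ B₁ B₂ (1 ⊗ₜ KaehlerDifferential.D A₁ B₁ s) =
      KaehlerDifferential.D A₂ B₂ (algebraMap B₁ B₂ s) := by
  rw [compMap, LinearMap.comp_apply, KaehlerDifferential.mapBaseChange_tmul, one_smul,
    KaehlerDifferential.map_D, KaehlerDifferential.map_D]
  rfl

theorem compMap_bijective [Algebra.FormallyEtale A₁ A₂] [Algebra.FormallyEtale B₁ B₂] :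
    Function.Bijective (compMap A₁ A₂ B₁ B₂) :=
  (map_bijective_of_formallyUnramified A₁ A₂ B₂).comp
    (KaehlerDifferential.tensorKaehlerEquivOfFormallyEtale A₁ B₁ B₂).bijective

end Algebra

section Etale
variable {X₁ S₁ X₂ S₂ : Scheme.{u}} (p₁ : X₁ ⟶ S₁) (p₂ : X₂ ⟶ S₂) (f : X₂ ⟶ X₁) (g : S₂ ⟶ S₁)
  [Etale f] [Etale g] (hsq : f ≫ p₁ = p₂ ≫ g)
  {Ω₁ : X₁.Modules} (d₁ : Der p₁ Ω₁) (hd₁ : IsUniversal d₁)
  {Ω₂ : X₂.Modules} (d₂ : Der p₂ Ω₂) (hd₂ : IsUniversal d₂)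
  (c : (Scheme.Modules.pullback f).obj Ω₁ ⟶ Ω₂) (hc : IsDiffCompat f d₁ d₂ c)

include hsq hd₁ hd₂ hc in
/-- S9776 -/
theorem isIso_of_etale : IsIso c := by
  haveI := OmegaLocB.isQuasicoherent_of_isUniversal p₁ d₁ hd₁
  haveI := OmegaLocB.isQuasicoherent_of_isUniversal p₂ d₂ hd₂
  haveI := StalkPull.isQuasicoherent_pullbackObj f Ω₁
  apply QcohLocal.isIso_of_app_bijective_of_affine_cover
  intro x
  obtain ⟨U₁, V₁, hU₁, hV₁, hxU₁, e₁⟩ := OmegaSecB.exists_affine_pair p₁ (f x)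
  have hz2 : g (p₂ x) ∈ V₁ := by
    have : g (p₂ x) = p₁ (f x) := by
      rw [← Scheme.Hom.comp_apply, ← Scheme.Hom.comp_apply, hsq]
    rw [this]
    exact e₁ hxU₁
  obtain ⟨_, ⟨V₂, hV₂ : IsAffineOpen V₂, rfl⟩, hzV₂, eV⟩ :=
    S₂.isBasis_affineOpens.exists_subset_of_mem_open
      (show p₂ x ∈ ((g ⁻¹ᵁ V₁ : S₂.Opens) : Set S₂) from hz2) (g ⁻¹ᵁ V₁).isOpen
  obtain ⟨_, ⟨U₂, hU₂ : IsAffineOpen U₂, rfl⟩, hxU₂, hU₂le⟩ :=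
    X₂.isBasis_affineOpens.exists_subset_of_mem_open
      (show x ∈ ((f ⁻¹ᵁ U₁ ⊓ p₂ ⁻¹ᵁ V₂ : X₂.Opens) : Set X₂) from ⟨hxU₁, hzV₂⟩)
      (f ⁻¹ᵁ U₁ ⊓ p₂ ⁻¹ᵁ V₂).isOpen
  have eU : U₂ ≤ f ⁻¹ᵁ U₁ := fun y hy => (hU₂le hy).1
  have e₂ : U₂ ≤ p₂ ⁻¹ᵁ V₂ := fun y hy => (hU₂le hy).2
  refine ⟨U₂, hU₂, hxU₂, ?_⟩
  letI algA : Algebra Γ(S₁, V₁) Γ(S₂, V₂) := (g.appLE V₁ V₂ eV).hom.toAlgebra
  letI algAB₁ : Algebra Γ(S₁, V₁) Γ(X₁, U₁) := (p₁.appLE V₁ U₁ e₁).hom.toAlgebra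
  letI algAB₂ : Algebra Γ(S₂, V₂) Γ(X₂, U₂) := (p₂.appLE V₂ U₂ e₂).hom.toAlgebra
  letI algB : Algebra Γ(X₁, U₁) Γ(X₂, U₂) := (f.appLE U₁ U₂ eU).hom.toAlgebra
  letI algAB : Algebra Γ(S₁, V₁) Γ(X₂, U₂) :=
    ((f.appLE U₁ U₂ eU).hom.comp (p₁.appLE V₁ U₁ e₁).hom).toAlgebra
  haveI t1 : IsScalarTower Γ(S₁, V₁) Γ(X₁, U₁) Γ(X₂, U₂) := IsScalarTower.of_algebraMap_eq' rfl
  haveI t2 : IsScalarTower Γ(S₁, V₁) Γ(S₂, V₂) Γ(X₂, U₂) := by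
    apply IsScalarTower.of_algebraMap_eq'
    change (f.appLE U₁ U₂ eU).hom.comp (p₁.appLE V₁ U₁ e₁).hom =
      (p₂.appLE V₂ U₂ e₂).hom.comp (g.appLE V₁ V₂ eV).hom
    rw [← CommRingCat.hom_comp, ← CommRingCat.hom_comp, Scheme.Hom.appLE_comp_appLE,
      Scheme.Hom.appLE_comp_appLE]
    exact congrArg CommRingCat.Hom.hom (OmegaSh.appLE_congr_hom hsq _ _)
  haveI : Algebra.FormallyEtale Γ(S₁, V₁) Γ(S₂, V₂) := by
    have h := HasRingHomProperty.appLE (P := @Etale) g inferInstance ⟨V₁, hV₁⟩ ⟨V₂, hV₂⟩ eV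
    have h' : Algebra.Etale Γ(S₁, V₁) Γ(S₂, V₂) := h
    infer_instance
  haveI : Algebra.FormallyEtale Γ(X₁, U₁) Γ(X₂, U₂) := by
    have h := HasRingHomProperty.appLE (P := @Etale) f inferInstance ⟨U₁, hU₁⟩ ⟨U₂, hU₂⟩ eU
    have h' : Algebra.Etale Γ(X₁, U₁) Γ(X₂, U₂) := h
    infer_instance
  obtain ⟨ε, hε⟩ := OmegaLocC.exists_sectionsEquiv p₁ d₁ hd₁ hU₁ hV₁ e₁
  obtain ⟨ε', hε'⟩ := OmegaLocC.exists_sectionsEquiv p₂ d₂ hd₂ hU₂ hV₂ e₂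
  letI : Module Γ(X₁, U₁) Γ((Scheme.Modules.pullback f).obj Ω₁, U₂) :=
    Module.compHom _ (f.appLE U₁ U₂ eU).hom
  haveI : IsScalarTower Γ(X₁, U₁) Γ(X₂, U₂) Γ((Scheme.Modules.pullback f).obj Ω₁, U₂) :=
    IsScalarTower.of_compHom _ _ _
  obtain ⟨ρ, hb, hρ⟩ := OmegaSeqC.exists_rho f d₁ d₂ c hc hU₁ hU₂ eU
  have hb' : IsBaseChange Γ(X₂, U₂) (ρ ∘ₗ ε.symm.toLinearMap) :=
    IsBaseChange.comp_equiv ε.symm ρ hb
  let L : Γ((Scheme.Modules.pullback f).obj Ω₁, U₂) →ₗ[Γ(X₂, U₂)] Ω[Γ(X₂, U₂)⁄Γ(S₂, V₂)] :=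
    ε'.toLinearMap ∘ₗ OmegaSeqA.appLin c U₂
  have key : ∀ m ∈ Set.range (KaehlerDifferential.D Γ(S₁, V₁) Γ(X₁, U₁)),
      L ((ρ ∘ₗ ε.symm.toLinearMap) m) =
        compMap Γ(S₁, V₁) Γ(S₂, V₂) Γ(X₁, U₁) Γ(X₂, U₂) (1 ⊗ₜ m) := by
    rintro _ ⟨s, rfl⟩
    change ε' (c.app _ (ρ (ε.symm (KaehlerDifferential.D Γ(S₁, V₁) Γ(X₁, U₁) s)))) = _
    rw [← hε s, LinearEquiv.symm_apply_apply, hρ, hε', hε, compMap_tmul_D]
    rfl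
  have hbij := compMap_bijective Γ(S₁, V₁) Γ(S₂, V₂) Γ(X₁, U₁) Γ(X₂, U₂)
  have hinj := OmegaSeqC.injective_of_comp_equiv (ρ ∘ₗ ε.symm.toLinearMap) hb' L _
    (Set.range (KaehlerDifferential.D Γ(S₁, V₁) Γ(X₁, U₁)))
    (KaehlerDifferential.span_range_derivation _ _) key hbij.1
  have hsurj := OmegaSeqC.surjective_of_comp_equiv (ρ ∘ₗ ε.symm.toLinearMap) hb' L _
    (Set.range (KaehlerDifferential.D Γ(S₁, V₁) Γ(X₁, U₁)))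
    (KaehlerDifferential.span_range_derivation _ _) key hbij.2
  constructor
  · intro a b hab
    exact hinj (by change ε' (c.app _ a) = ε' (c.app _ b); rw [hab])
  · intro t
    obtain ⟨r, hr⟩ := hsurj (ε' t)
    exact ⟨r, ε'.injective hr⟩

end Etale

end Groth.Agent.Lead.OmegaSeqD
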