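import Groth.Agent.Lead.OmegaLocC
import Groth.Agent.Lead.LocalLift
import Mathlib

/-!
# Lead: the first exact sequence of differentials `f^*Ω_{Y/Z} → Ω_{X/Z} → Ω_{X/Y} → 0`
for abstract sheaves of differentials
-/

set_option autoImplicit false
set_option backward.isDefEq.respectTransparency false
set_option backward.isDefEq.respectTransparency.types false
open CategoryTheory CategoryTheory.Limits AlgebraicGeometry Opposite TopologicalSpace TensorProduct
universe u

namespace Groth.Agent.Lead.OmegaSeqA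
open Scheme.Modules OmegaSh Groth.Agent.Helper4

section General
variable {X Y : Scheme.{u}} (f : X ⟶ Y)

theorem unit_pullbackId_hom (M : X.Modules) :
    (pullbackPushforwardAdjunction (𝟙 X)).unit.app M ≫
      (pushforward (𝟙 X)).map ((pullbackId X).hom.app M) = (pushforwardId X).inv.app M := by
  have h := congr($(conjugateEquiv_pullbackId_hom X).app M)
  rw [conjugateEquiv_apply_app] at h
  simpa using h

theorem pullbackId_hom_pullSect (M : X.Modules) (U : X.Opens) (m : Γ(M, U)) :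
    ((pullbackId X).hom.app M).app U (pullSect (𝟙 X) M U m) = m := by
  have h := congr($(unit_pullbackId_hom M).app U)
  exact congr($h m)

theorem pullSect_id (M : X.Modules) (U : X.Opens) (m : Γ(M, U)) :
    pullSect (𝟙 X) M U m = ((pullbackId X).inv.app M).app U m := by
  have h := pullbackId_hom_pullSect M U m
  have h2 : ((pullbackId X).inv.app M).app U (((pullbackId X).hom.app M).app U
      (pullSect (𝟙 X) M U m)) = pullSect (𝟙 X) M U m := by
    change ((pullbackId X).hom.app M ≫ (pullbackId X).inv.app M).app U _ = _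
    rw [Iso.hom_inv_id_app]
    rfl
  rw [← h2, h]

/-- the sections of an abstract sheaf of differentials over an affine pair are spanned by the
`d s`. -/
theorem span_d {Ω' : X.Modules} (d : Der f Ω') (hd : IsUniversal d) {U : X.Opens} {V : Y.Opens}
    (hU : IsAffineOpen U) (hV : IsAffineOpen V) (e : U ≤ f ⁻¹ᵁ V) :
    Submodule.span Γ(X, U) (Set.range (d.app U)) = ⊤ := by
  letI := (f.appLE V U e).hom.toAlgebra
  obtain ⟨ε, hε⟩ := OmegaLocC.exists_sectionsEquiv f d hd hU hV e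
  have h1 := KaehlerDifferential.span_range_derivation Γ(Y, V) Γ(X, U)
  apply_fun Submodule.map ε.symm.toLinearMap at h1
  rw [Submodule.map_top, LinearMap.range_eq_top.mpr ε.symm.surjective, Submodule.map_span] at h1
  rw [← h1]
  congr 1
  ext m
  constructor
  · rintro ⟨s, rfl⟩
    exact ⟨_, ⟨s, rfl⟩, by rw [← hε s]; exact ε.symm_apply_apply _⟩
  · rintro ⟨_, ⟨s, rfl⟩, rfl⟩
    exact ⟨s, by rw [← hε s]; exact (ε.symm_apply_apply _).symm⟩

/-- the map on sections as a linear map -/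
noncomputable def appLin {F G : X.Modules} (φ : F ⟶ G) (U : X.Opens) :
    Γ(F, U) →ₗ[Γ(X, U)] Γ(G, U) where
  toFun := φ.app U
  map_add' := map_add _
  map_smul' r m := Scheme.Modules.Hom.app_smul φ r m

theorem app_surjective_of_d {Ω' M : X.Modules} (d : Der f Ω') (hd : IsUniversal d)
    {U : X.Opens} {V : Y.Opens} (hU : IsAffineOpen U) (hV : IsAffineOpen V) (e : U ≤ f ⁻¹ᵁ V)
    (c : M ⟶ Ω') (h : ∀ s : Γ(X, U), ∃ m, c.app U m = d.app U s) :
    Function.Surjective (c.app U) := by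
  intro t
  have ht : t ∈ Submodule.span Γ(X, U) (Set.range (d.app U)) := by
    rw [span_d f d hd hU hV e]; trivial
  induction ht using Submodule.span_induction with
  | mem x hx => obtain ⟨s, rfl⟩ := hx; exact h s
  | zero => exact ⟨0, map_zero _⟩
  | add x y _ _ hx hy =>
    obtain ⟨a, ha⟩ := hx
    obtain ⟨b, hb⟩ := hy
    exact ⟨a + b, by rw [map_add, ha, hb]⟩
  | smul r x _ hx =>
    obtain ⟨a, ha⟩ := hx
    exact ⟨r • a, by rw [Scheme.Modules.Hom.app_smul, ha]⟩

/-- maps out of the pullback of a sheaf of differentials are determined by their values on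
pulled-back differentials -/
theorem pullback_hom_ext {X' : Scheme.{u}} (h : X' ⟶ X) {Ω : X.Modules} (d : Der f Ω)
    (hd : IsUniversal d) {F : X'.Modules} (a b : (Scheme.Modules.pullback h).obj Ω ⟶ F)
    (hab : ∀ (U : X.Opens) (s : Γ(X, U)),
      a.app (h ⁻¹ᵁ U) (pullSect h Ω U (d.app U s)) =
        b.app (h ⁻¹ᵁ U) (pullSect h Ω U (d.app U s))) : a = b := by
  apply ((pullbackPushforwardAdjunction h).homEquiv _ _).injective
  obtain ⟨γ, -, hγ⟩ := hd _ (d.postcomp ((pullbackPushforwardAdjunction h).homEquiv _ _ b).val)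
  rw [hγ _ rfl]
  apply hγ
  rw [DerA.postcomp_eq_iff]
  intro U s
  have h1 : ((pullbackPushforwardAdjunction h).homEquiv _ _ a).app U (d.app U s) =
      a.app (h ⁻¹ᵁ U) (pullSect h Ω U (d.app U s)) := by
    rw [Adjunction.homEquiv_unit]; rfl
  have h2 : ((pullbackPushforwardAdjunction h).homEquiv _ _ b).app U (d.app U s) =
      b.app (h ⁻¹ᵁ U) (pullSect h Ω U (d.app U s)) := by
    rw [Adjunction.homEquiv_unit]; rfl
  rw [h1, hab, ← h2]
  rfl

end General

section Algebra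
variable (A B C : Type u) [CommRing A] [CommRing B] [CommRing C] [Algebra A B] [Algebra B C]
  [Algebra A C] [IsScalarTower A B C]

/-- the kernel of `Ω[C/A] → Ω[C/B]` is spanned by the `d b`, `b ∈ B`. -/
theorem ker_map_le_span :
    LinearMap.ker (KaehlerDifferential.map A B C C) ≤
      Submodule.span C (Set.range fun b : B => KaehlerDifferential.D A C (algebraMap B C b)) := by
  rw [← KaehlerDifferential.range_mapBaseChange]
  rintro _ ⟨z, rfl⟩
  induction z using TensorProduct.induction_on with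
  | zero => simp
  | add x y hx hy => rw [map_add]; exact add_mem hx hy
  | tmul c ω =>
    rw [KaehlerDifferential.mapBaseChange_tmul]
    apply Submodule.smul_mem
    have hω : ω ∈ Submodule.span B (Set.range (KaehlerDifferential.D A B)) := by
      rw [KaehlerDifferential.span_range_derivation]; trivial
    induction hω using Submodule.span_induction with
    | mem x hx =>
      obtain ⟨b, rfl⟩ := hx
      rw [KaehlerDifferential.map_D]
      exact Submodule.subset_span ⟨b, rfl⟩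
    | zero => simp
    | add x y _ _ hx hy => rw [map_add]; exact add_mem hx hy
    | smul r x _ hx =>
      rw [LinearMap.map_smul_of_tower, algebra_compatible_smul C r]
      exact Submodule.smul_mem _ _ hx

end Algebra

section Comp
variable {X Y Z : Scheme.{u}} (f : X ⟶ Y) (g : Y ⟶ Z)

theorem exists_affine_triple (x : X) (T : X.Opens) (hx : x ∈ T) :
    ∃ (U : X.Opens) (V : Y.Opens) (W : Z.Opens), IsAffineOpen U ∧ IsAffineOpen V ∧
      IsAffineOpen W ∧ x ∈ U ∧ U ≤ T ∧ U ≤ f ⁻¹ᵁ V ∧ V ≤ g ⁻¹ᵁ W := by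
  obtain ⟨V, W, hV, hW, hxV, hVW⟩ := OmegaSecB.exists_affine_pair g (f x)
  obtain ⟨_, ⟨U, hU : IsAffineOpen U, rfl⟩, hxU, hUV⟩ :=
    X.isBasis_affineOpens.exists_subset_of_mem_open
      (show x ∈ ((f ⁻¹ᵁ V ⊓ T : X.Opens) : Set X) from ⟨hxV, hx⟩) (f ⁻¹ᵁ V ⊓ T).isOpen
  exact ⟨U, V, W, hU, hV, hW, hxU, fun y hy => (hUV hy).2, fun y hy => (hUV hy).1, hVW⟩

variable {ΩY : Y.Modules} (dY : Der g ΩY)
  {ΩX : X.Modules} (dX : Der (f ≫ g) ΩX)
  {ΩXY : X.Modules} (dXY : Der f ΩXY)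
  (c₁ : (Scheme.Modules.pullback f).obj ΩY ⟶ ΩX) (hc₁ : IsDiffCompat f dY dX c₁)
  (c₂ : (Scheme.Modules.pullback (𝟙 X)).obj ΩX ⟶ ΩXY) (hc₂ : IsDiffCompat (𝟙 X) dX dXY c₂)

include hc₂ in
theorem c₂_d (U : X.Opens) (s : Γ(X, U)) :
    ((pullbackId X).inv.app ΩX ≫ c₂).app U (dX.app U s) = dXY.app U s := by
  change c₂.app U (((pullbackId X).inv.app ΩX).app U (dX.app U s)) = _
  rw [← pullSect_id]
  exact hc₂ U s

include hc₁ in
theorem c₁_d {U : X.Opens} {V : Y.Opens} (e : U ≤ f ⁻¹ᵁ V) (b : Γ(Y, V)) :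
    c₁.app U (((Scheme.Modules.pullback f).obj ΩY).presheaf.map (homOfLE e).op
      (pullSect f ΩY V (dY.app V b))) = dX.app U (f.appLE V U e b) := by
  have h1 := congr($(c₁.mapPresheaf.naturality (homOfLE e).op) (pullSect f ΩY V (dY.app V b)))
  refine h1.trans ?_
  change ΩX.presheaf.map (homOfLE e).op (c₁.app (f ⁻¹ᵁ V) (pullSect f ΩY V (dY.app V b))) = _
  rw [hc₁ V b]
  exact (DerA.der_map dX (homOfLE e) _).symm

variable (hY : IsUniversal dY) (hX : IsUniversal dX) (hXY : IsUniversal dXY)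

include hc₂ hXY in
theorem epi_c₂' : Epi ((pullbackId X).inv.app ΩX ≫ c₂) := by
  apply Groth.Agent.Lead.LocalLift.epi_of_local_lift
  intro T t x hx
  obtain ⟨U, V, hU, hV, hxU, hUV, hUT⟩ := OmegaSecB.exists_affine_pair_le f x T hx
  refine ⟨U, hUT, hxU, ?_⟩
  exact app_surjective_of_d f dXY hXY hU hV hUV _
    (fun s => ⟨dX.app U s, c₂_d f g dX dXY c₂ hc₂ U s⟩) _

include hc₂ hXY in
theorem epi_c₂ : Epi c₂ := by
  haveI := epi_c₂' f g dX dXY c₂ hc₂ hXY
  have h : c₂ = (pullbackId X).hom.app ΩX ≫ ((pullbackId X).inv.app ΩX ≫ c₂) := by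
    rw [Iso.hom_inv_id_app_assoc]
  rw [h]
  infer_instance

include hc₁ hc₂ hY in
theorem comp_zero : c₁ ≫ ((pullbackId X).inv.app ΩX ≫ c₂) = 0 := by
  apply pullback_hom_ext g f dY hY
  intro V b
  change ((pullbackId X).inv.app ΩX ≫ c₂).app (f ⁻¹ᵁ V)
    (c₁.app (f ⁻¹ᵁ V) (pullSect f ΩY V (dY.app V b))) = 0
  rw [hc₁ V b, c₂_d f g dX dXY c₂ hc₂]
  exact DerA.der_app_eq_zero f dXY V b

include hc₁ hc₂ hX hXY in
theorem exact (w : c₁ ≫ ((pullbackId X).inv.app ΩX ≫ c₂) = 0) :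
    (ShortComplex.mk c₁ ((pullbackId X).inv.app ΩX ≫ c₂) w).Exact := by
  apply Groth.Agent.Lead.LocalLift.exact_of_local_lift
  intro T t ht x hx
  obtain ⟨U, V, W, hU, hV, hW, hxU, hUT, hUV, hVW⟩ := exists_affine_triple f g x T hx
  refine ⟨U, hUT, hxU, ?_⟩
  have hUW : U ≤ (f ≫ g) ⁻¹ᵁ W := fun y hy => hVW (hUV hy)
  letI algAB := (g.appLE W V hVW).hom.toAlgebra
  letI algBC := (f.appLE V U hUV).hom.toAlgebra
  letI algAC := ((f ≫ g).appLE W U hUW).hom.toAlgebra
  haveI : IsScalarTower Γ(Z, W) Γ(Y, V) Γ(X, U) := IsScalarTower.of_algebraMap_eq' (by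
    change ((f ≫ g).appLE W U hUW).hom = (f.appLE V U hUV).hom.comp (g.appLE W V hVW).hom
    rw [← CommRingCat.hom_comp, Scheme.Hom.appLE_comp_appLE])
  obtain ⟨εX, hεX⟩ := OmegaLocC.exists_sectionsEquiv (f ≫ g) dX hX hU hW hUW
  obtain ⟨εXY, hεXY⟩ := OmegaLocC.exists_sectionsEquiv f dXY hXY hU hV hUV
  have ht' : ((pullbackId X).inv.app ΩX ≫ c₂).app U (ΩX.presheaf.map (homOfLE hUT).op t) = 0 := by
    have h1 := congr($(((pullbackId X).inv.app ΩX ≫ c₂).mapPresheaf.naturality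
      (homOfLE hUT).op) t)
    refine h1.trans ?_
    change ΩXY.presheaf.map (homOfLE hUT).op (((pullbackId X).inv.app ΩX ≫ c₂).app T t) = 0
    have ht0 : ((pullbackId X).inv.app ΩX ≫ c₂).app T t = 0 := ht
    rw [ht0, map_zero]
  have key : ∀ m : Γ(ΩX, U),
      KaehlerDifferential.map Γ(Z, W) Γ(Y, V) Γ(X, U) Γ(X, U) (εX m) =
        εXY (((pullbackId X).inv.app ΩX ≫ c₂).app U m) := by
    intro m
    have hm : m ∈ Submodule.span Γ(X, U) (Set.range (dX.app U)) := by
      rw [span_d (f ≫ g) dX hX hU hW hUW]; trivial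
    induction hm using Submodule.span_induction with
    | mem x hx =>
      obtain ⟨s, rfl⟩ := hx
      rw [hεX, KaehlerDifferential.map_D, c₂_d f g dX dXY c₂ hc₂, hεXY]
      rfl
    | zero => simp
    | add x y _ _ hx hy => rw [map_add, map_add, hx, hy, map_add, map_add]
    | smul r x _ hx =>
      rw [_root_.map_smul, _root_.map_smul, hx, Scheme.Modules.Hom.app_smul, _root_.map_smul]
  have hker : εX (ΩX.presheaf.map (homOfLE hUT).op t) ∈
      LinearMap.ker (KaehlerDifferential.map Γ(Z, W) Γ(Y, V) Γ(X, U) Γ(X, U)) := by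
    rw [LinearMap.mem_ker, key, ht', map_zero]
  have hspan := ker_map_le_span _ _ _ hker
  suffices H : ∀ ω ∈ Submodule.span Γ(X, U) (Set.range fun b : Γ(Y, V) =>
      KaehlerDifferential.D Γ(Z, W) Γ(X, U) (algebraMap Γ(Y, V) Γ(X, U) b)),
      ∃ r : Γ((Scheme.Modules.pullback f).obj ΩY, U), c₁.app U r = εX.symm ω by
    obtain ⟨r, hr⟩ := H _ hspan
    exact ⟨r, by rw [hr, LinearEquiv.symm_apply_apply]⟩
  intro ω hω
  induction hω using Submodule.span_induction with
  | mem x hx =>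
    obtain ⟨b, rfl⟩ := hx
    refine ⟨_, (c₁_d f g dY dX c₁ hc₁ hUV b).trans ?_⟩
    change _ = εX.symm (KaehlerDifferential.D Γ(Z, W) Γ(X, U) (algebraMap Γ(Y, V) Γ(X, U) b))
    rw [← hεX, LinearEquiv.symm_apply_apply]
    rfl
  | zero => exact ⟨0, by simp⟩
  | add x y _ _ hx hy =>
    obtain ⟨a, ha⟩ := hx
    obtain ⟨b, hb⟩ := hy
    exact ⟨a + b, by rw [map_add, ha, hb, map_add]⟩
  | smul r x _ hx =>
    obtain ⟨a, ha⟩ := hx
    exact ⟨r • a, by rw [Scheme.Modules.Hom.app_smul, ha, _root_.map_smul]⟩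

include hc₁ hc₂ hY hX hXY in
/-- S5975 -/
theorem main : Epi c₂ ∧
    imageSubobject c₁ = kernelSubobject ((pullbackId X).inv.app ΩX ≫ c₂) := by
  refine ⟨epi_c₂ f g dX dXY c₂ hc₂ hXY, ?_⟩
  have w := comp_zero f g dY dX dXY c₁ hc₁ c₂ hc₂ hY
  exact (ShortComplex.exact_iff_image_eq_kernel _).mp
    (exact f g dY dX dXY c₁ hc₁ c₂ hc₂ hX hXY w)

end Comp

end Groth.Agent.Lead.OmegaSeqA
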