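import Mathlib
import Groth.Prelude.Def_CohB1
import Groth.Agent.Helper1.GM5

/-!
# The standard chart `D₊(X_n)` of `P^n`: `(k[X_0..X_n]_{X_n})_0 ≃ k[X_0..X_{n-1}]`
-/

set_option autoImplicit false
set_option linter.unusedSectionVars false
set_option linter.style.haveILetI false

namespace Groth.Agent.Lead.ZPn

open HomogeneousLocalization MvPolynomial Groth.Agent.Helper1.GMH

universe u

variable (n : ℕ) (k : Type u) [CommRing k]

/-- the last variable -/
noncomputable abbrev xl : MvPolynomial (Fin (n + 1)) k := X (Fin.last n)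

lemma xl_mem : xl n k ∈ CohB1.polyGrading n k 1 := isHomogeneous_X k _

/-- dehomogenization `X_last ↦ 1` -/
noncomputable def φ₁ : MvPolynomial (Fin (n + 1)) k →ₐ[k] MvPolynomial (Fin n) k :=
  aeval (Fin.lastCases (1 : MvPolynomial (Fin n) k) (fun i => X i))

@[simp] lemma φ₁_X_castSucc (i : Fin n) : φ₁ n k (X i.castSucc) = X i := by
  simp [φ₁]

@[simp] lemma φ₁_X_last : φ₁ n k (X (Fin.last n)) = 1 := by
  simp [φ₁]

@[simp] lemma φ₁_C (c : k) : φ₁ n k (C c) = C c := by
  simp [φ₁]

/-- the chart map `k[X_0..X_{n-1}] → (k[X_0..X_n]_{X_n})_0` -/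
noncomputable def ψ : MvPolynomial (Fin n) k →+* Away (CohB1.polyGrading n k) (xl n k) :=
  (dh₀ (xl_mem n k)).comp
    (rename Fin.castSucc : MvPolynomial (Fin n) k →ₐ[k] MvPolynomial (Fin (n + 1)) k).toRingHom

lemma ψ_apply (p : MvPolynomial (Fin n) k) :
    ψ n k p = dh₀ (xl_mem n k) (rename Fin.castSucc p) := rfl

lemma dh₀_xl : dh₀ (xl_mem n k) (xl n k) = 1 := by
  apply HomogeneousLocalization.val_injective
  rw [val_dh₀_of_mem (xl_mem n k) (xl_mem n k), HomogeneousLocalization.val_one]
  have : (⟨xl n k ^ 1, 1, rfl⟩ : Submonoid.powers (xl n k)) = ⟨xl n k, 1, pow_one _⟩ :=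
    Subtype.ext (pow_one _)
  rw [this]
  exact Localization.mk_self (⟨xl n k, 1, pow_one _⟩ : Submonoid.powers (xl n k))

lemma dh₀_eq : dh₀ (xl_mem n k) = (ψ n k).comp (φ₁ n k).toRingHom := by
  apply MvPolynomial.ringHom_ext
  · intro c
    show _ = ψ n k (φ₁ n k (C c))
    rw [φ₁_C, ψ_apply, rename_C]
  · intro i
    show _ = ψ n k (φ₁ n k (X i))
    induction i using Fin.lastCases with
    | last =>
      rw [φ₁_X_last, map_one]
      exact dh₀_xl n k
    | cast j =>
      rw [φ₁_X_castSucc, ψ_apply, rename_X]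

lemma ψ_surjective : Function.Surjective (ψ n k) := by
  intro z
  obtain ⟨a, ha⟩ := dh₀_surjective (xl_mem n k) z
  refine ⟨φ₁ n k a, ?_⟩
  rw [← ha, dh₀_eq]
  rfl

/-- the retraction `k[X_0..X_n]_{X_n} → k[X_0..X_{n-1}]` -/
noncomputable def r : Localization.Away (xl n k) →+* MvPolynomial (Fin n) k :=
  IsLocalization.Away.lift (xl n k) (g := (φ₁ n k).toRingHom)
    (by show IsUnit (φ₁ n k (X (Fin.last n))); rw [φ₁_X_last]; exact isUnit_one)

lemma r_mk (a : MvPolynomial (Fin (n + 1)) k) (i : ℕ) :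
    r n k (Localization.mk a (⟨xl n k ^ i, i, rfl⟩ : Submonoid.powers (xl n k))) = φ₁ n k a := by
  have h1 : Localization.mk a (⟨xl n k ^ i, i, rfl⟩ : Submonoid.powers (xl n k)) *
      algebraMap _ (Localization.Away (xl n k)) (xl n k ^ i) =
      algebraMap _ (Localization.Away (xl n k)) a := by
    rw [← Localization.mk_one_eq_algebraMap, ← Localization.mk_one_eq_algebraMap,
      Localization.mk_mul, mul_one]
    exact Localization.mk_eq_mk_iff.mpr (Localization.r_of_eq (by simp [mul_comm]))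
  have h2 := congrArg (r n k) h1
  rw [map_mul] at h2
  have h3 : ∀ b, r n k (algebraMap _ (Localization.Away (xl n k)) b) = φ₁ n k b := fun b =>
    IsLocalization.Away.lift_eq (xl n k) _ b
  rw [h3, h3, map_pow, φ₁_X_last, one_pow, mul_one] at h2
  exact h2

lemma r_val_ψ (p : MvPolynomial (Fin n) k) : r n k (ψ n k p).val = p := by
  have key : ((r n k).comp (algebraMap (Away (CohB1.polyGrading n k) (xl n k))
      (Localization.Away (xl n k)))).comp (ψ n k) = RingHom.id _ := by
    apply MvPolynomial.ringHom_ext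
    · intro c
      show r n k (ψ n k (C c)).val = C c
      rw [ψ_apply, rename_C,
        val_dh₀_of_mem (xl_mem n k) (isHomogeneous_C _ c : C c ∈ CohB1.polyGrading n k 0), r_mk,
        φ₁_C]
    · intro j
      show r n k (ψ n k (X j)).val = X j
      rw [ψ_apply, rename_X,
        val_dh₀_of_mem (xl_mem n k) (isHomogeneous_X k _ : X j.castSucc ∈ CohB1.polyGrading n k 1),
        r_mk, φ₁_X_castSucc]
  exact congrArg (fun f => f p) key

lemma ψ_injective : Function.Injective (ψ n k) := by
  intro p q h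
  rw [← r_val_ψ n k p, ← r_val_ψ n k q, h]

/-- the chart isomorphism -/
noncomputable def chartEquiv :
    MvPolynomial (Fin n) k ≃+* Away (CohB1.polyGrading n k) (xl n k) :=
  RingEquiv.ofBijective (ψ n k) ⟨ψ_injective n k, ψ_surjective n k⟩

lemma chartEquiv_apply (p) : chartEquiv n k p = ψ n k p := rfl

lemma ψ_C (c : k) : ψ n k (C c) =
    fromZeroRingHom (CohB1.polyGrading n k) _ (algebraMap k (CohB1.polyGrading n k 0) c) := by
  apply HomogeneousLocalization.val_injective
  rw [ψ_apply, rename_C,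
    val_dh₀_of_mem (xl_mem n k) (isHomogeneous_C _ c : C c ∈ CohB1.polyGrading n k 0)]
  show _ = Localization.mk _ 1
  rw [SetLike.GradeZero.coe_algebraMap, MvPolynomial.algebraMap_eq]
  congr 1

lemma chartEquiv_symm_fromZero (c : k) :
    (chartEquiv n k).symm (fromZeroRingHom (CohB1.polyGrading n k) _
      (algebraMap k (CohB1.polyGrading n k 0) c)) = C c := by
  rw [← ψ_C, ← chartEquiv_apply, RingEquiv.symm_apply_apply]

end Groth.Agent.Lead.ZPn
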