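import Mathlib

set_option autoImplicit false
universe u
open IsLocalRing

namespace Groth.Agent.Lead.UnrStalkA

section
variable (A B Ap Bq : Type u) [CommRing A] [CommRing B] [CommRing Ap] [CommRing Bq]
  [Algebra A B] [Algebra A Ap] [Algebra B Bq] [Algebra Ap Bq] [Algebra A Bq]
  [IsScalarTower A B Bq] [IsScalarTower A Ap Bq]
  (p : Ideal A) [p.IsPrime] (q : Ideal B) [q.IsPrime]
  [IsLocalization.AtPrime Ap p] [IsLocalization.AtPrime Bq q]
  [IsLocalRing Ap] [IsLocalRing Bq] [IsLocalHom (algebraMap Ap Bq)] [Algebra.FiniteType A B]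

include p q in
theorem subsingleton_iff {N : Type u} [AddCommGroup N] [Module B N] (g : Ω[B⁄A] →ₗ[B] N)
    [IsLocalizedModule q.primeCompl g] :
    Subsingleton N ↔
      ((maximalIdeal Ap).map (algebraMap Ap Bq) = maximalIdeal Bq ∧
        Module.Finite (ResidueField Ap) (ResidueField Bq) ∧
        Algebra.IsSeparable (ResidueField Ap) (ResidueField Bq)) := by
  have h1 : Subsingleton N ↔ Subsingleton Ω[Bq⁄A] :=
    (IsLocalizedModule.linearEquiv q.primeCompl g
      (KaehlerDifferential.map A A B Bq)).toEquiv.subsingleton_congr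
  haveI : Algebra.FormallyUnramified A Ap :=
    Algebra.FormallyUnramified.of_isLocalization p.primeCompl
  haveI : Algebra.EssFiniteType B Bq := Algebra.EssFiniteType.of_isLocalization Bq q.primeCompl
  haveI : Algebra.EssFiniteType A Bq := Algebra.EssFiniteType.comp A B Bq
  haveI : Algebra.EssFiniteType Ap Bq := Algebra.EssFiniteType.of_comp A Ap Bq
  have h2 : Subsingleton Ω[Bq⁄A] ↔ Algebra.FormallyUnramified Ap Bq := by
    constructor
    · intro h
      haveI : Algebra.FormallyUnramified A Bq := ⟨h⟩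
      exact Algebra.FormallyUnramified.of_restrictScalars A Ap Bq
    · intro h
      haveI := h
      haveI : Algebra.FormallyUnramified A Bq := Algebra.FormallyUnramified.comp A Ap Bq
      infer_instance
  rw [h1, h2, Algebra.FormallyUnramified.iff_map_maximalIdeal_eq]
  constructor
  · rintro ⟨hsep, hmap⟩
    haveI : Algebra.FormallyUnramified Ap Bq :=
      Algebra.FormallyUnramified.iff_map_maximalIdeal_eq.mpr ⟨hsep, hmap⟩
    exact ⟨hmap, inferInstance, hsep⟩
  · rintro ⟨hmap, _, hsep⟩
    exact ⟨hsep, hmap⟩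

end

end Groth.Agent.Lead.UnrStalkA
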