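import Mathlib
import Groth.Prelude.Def_Omega4
import Groth.Agent.Lead.UnrStalkA
import Groth.Agent.Lead.OmegaSecB
import Groth.Agent.Helper4.StalkDict

set_option autoImplicit false
universe u
open CategoryTheory AlgebraicGeometry Opposite TopologicalSpace

namespace Groth.Agent.Lead.UnrStalkB
open Groth.Agent.Helper4

theorem main {X S : Scheme.{u}} (f : X ⟶ S) [LocallyOfFiniteType f] [QuasiSeparated f] (x : X) :
    Subsingleton ((Omega.sheaf f).presheaf.stalk x) ↔
      ((IsLocalRing.maximalIdeal (S.presheaf.stalk (f.base x))).map (f.stalkMap x).hom =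
          IsLocalRing.maximalIdeal (X.presheaf.stalk x) ∧
        (f.residueFieldMap x).hom.Finite ∧
        @Algebra.IsSeparable (S.residueField (f.base x)) (X.residueField x) _ _
          (f.residueFieldMap x).hom.toAlgebra) := by
  obtain ⟨U, V, hU, hV, hxU, e⟩ := OmegaSecB.exists_affine_pair f x
  have hsV : f.base x ∈ V := e hxU
  letI algAB := (f.appLE V U e).hom.toAlgebra
  letI algBq := X.presheaf.algebra_section_stalk ⟨x, hxU⟩
  letI algAp := S.presheaf.algebra_section_stalk ⟨f.base x, hsV⟩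
  letI algApBq := (f.stalkMap x).hom.toAlgebra
  letI algABq : Algebra Γ(S, V) (X.presheaf.stalk x) :=
    ((algebraMap Γ(X, U) (X.presheaf.stalk x)).comp (algebraMap Γ(S, V) Γ(X, U))).toAlgebra
  haveI : IsScalarTower Γ(S, V) Γ(X, U) (X.presheaf.stalk x) :=
    IsScalarTower.of_algebraMap_eq (fun _ => rfl)
  haveI : IsScalarTower Γ(S, V) (S.presheaf.stalk (f.base x)) (X.presheaf.stalk x) := by
    refine IsScalarTower.of_algebraMap_eq (fun a => ?_)
    change X.presheaf.germ U x hxU (f.appLE V U e a) =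
      f.stalkMap x (S.presheaf.germ V (f.base x) hsV a)
    rw [Scheme.Hom.germ_stalkMap_apply, Scheme.Hom.appLE]
    simp only [CommRingCat.comp_apply]
    exact X.presheaf.germ_res_apply (homOfLE e) x hxU _
  haveI := hU.isLocalization_stalk ⟨x, hxU⟩
  haveI := hV.isLocalization_stalk ⟨f.base x, hsV⟩
  haveI : IsLocalHom (algebraMap (S.presheaf.stalk (f.base x)) (X.presheaf.stalk x)) :=
    inferInstanceAs (IsLocalHom (f.stalkMap x).hom)
  haveI : Algebra.FiniteType Γ(S, V) Γ(X, U) := f.finiteType_appLE hV hU e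
  obtain ⟨ε, -⟩ := OmegaSecA.exists_sectionsEquiv f hU hV e
  letI := StalkDict.sectionModStalk (Omega.sheaf f) x hxU
  haveI := StalkDict.isLocalizedModule_germ hU (Omega.sheaf f) x hxU
  let g : Ω[Γ(X, U)⁄Γ(S, V)] →ₗ[Γ(X, U)] (Omega.sheaf f).presheaf.stalk x :=
    (StalkDict.germLin (Omega.sheaf f) x hxU).comp ε.symm.toLinearMap
  haveI : IsLocalizedModule (hU.primeIdealOf ⟨x, hxU⟩).asIdeal.primeCompl g :=
    IsLocalizedModule.of_linearEquiv_right _ _ ε.symm
  have key := UnrStalkA.subsingleton_iff Γ(S, V) Γ(X, U) (S.presheaf.stalk (f.base x))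
    (X.presheaf.stalk x) (hV.primeIdealOf ⟨_, hsV⟩).asIdeal (hU.primeIdealOf ⟨x, hxU⟩).asIdeal g
  rw [key]
  have halg : (f.residueFieldMap x).hom.toAlgebra =
      (show Algebra (S.residueField (f.base x)) (X.residueField x) from
        IsLocalRing.ResidueField.instAlgebra) := by
    apply Algebra.algebra_ext
    intro r
    obtain ⟨a, rfl⟩ := IsLocalRing.residue_surjective r
    rfl
  rw [RingHom.Finite, halg]
  exact Iff.rfl

end Groth.Agent.Lead.UnrStalkB
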