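import Groth.Agent.Lead.OmegaSecB
import Groth.Agent.Lead.FittSheafB
import Groth.Agent.Lead.CartProdA
import Mathlib

/-!
# Lead: the support of the sheaf of differentials is the ramification locus
-/

set_option autoImplicit false
open CategoryTheory CategoryTheory.Limits AlgebraicGeometry Opposite TopologicalSpace TensorProduct
universe u

namespace Groth.Agent.Lead.OmegaSecC
open Scheme.Modules Groth.Agent.Helper4

variable {X Y : Scheme.{u}} (f : X ⟶ Y)

section Pair
variable {U : X.Opens} (hU : IsAffineOpen U) {V : Y.Opens} (hV : IsAffineOpen V)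
  (e : U ≤ f ⁻¹ᵁ V)

include hU hV in
theorem formallyUnramified_appLE_iff [QuasiSeparated f] :
    (f.appLE V U e).hom.FormallyUnramified ↔ Subsingleton Γ(Omega.sheaf f, U) := by
  letI := (f.appLE V U e).hom.toAlgebra
  obtain ⟨ε, -⟩ := OmegaSecA.exists_sectionsEquiv f hU hV e
  change Algebra.FormallyUnramified Γ(Y, V) Γ(X, U) ↔ _
  rw [Algebra.formallyUnramified_iff]
  exact ε.toEquiv.subsingleton_congr.symm

include hU hV in
/-- formal unramifiedness of `U → Y` in terms of the ring map -/
theorem formallyUnramified_ι_comp_iff :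
    FormallyUnramified (U.ι ≫ f) ↔ (f.appLE V U e).hom.FormallyUnramified := by
  haveI : IsAffine (U : Scheme.{u}) := hU
  haveI : IsAffine (V : Scheme.{u}) := hV
  have h1 : U.ι ≫ f = f.resLE V U e ≫ V.ι := (Scheme.Hom.resLE_comp_ι f e).symm
  have h2 : FormallyUnramified (f.resLE V U e) ↔ (f.appLE V U e).hom.FormallyUnramified := by
    rw [HasRingHomProperty.iff_of_isAffine (P := @FormallyUnramified)]
    exact (RingHom.FormallyUnramified.respectsIso).arrow_mk_iso_iff (arrowResLEAppIso f V U e)
  rw [← h2, h1]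
  constructor
  · intro h
    exact FormallyUnramified.of_comp (f.resLE V U e) V.ι
  · intro h
    exact MorphismProperty.comp_mem _ _ _ h inferInstance

end Pair

/-- `f` is formally unramified on an open neighbourhood of `x` iff it is so on an affine pair -/
theorem exists_formallyUnramified_iff (x : X) :
    (∃ U : X.Opens, x ∈ U ∧ FormallyUnramified (U.ι ≫ f)) ↔
      ∃ (U : X.Opens) (V : Y.Opens) (_ : IsAffineOpen U) (_ : IsAffineOpen V)
        (e : U ≤ f ⁻¹ᵁ V), x ∈ U ∧ (f.appLE V U e).hom.FormallyUnramified := by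
  constructor
  · rintro ⟨U', hxU', h⟩
    obtain ⟨U, V, hU, hV, hxU, e, hUU'⟩ := OmegaSecB.exists_affine_pair_le f x U' hxU'
    refine ⟨U, V, hU, hV, e, hxU, ?_⟩
    rw [← formallyUnramified_ι_comp_iff f hU hV e]
    have h1 : U.ι ≫ f = X.homOfLE hUU' ≫ U'.ι ≫ f := by
      rw [← Category.assoc, Scheme.homOfLE_ι]
    rw [h1]
    exact MorphismProperty.comp_mem _ _ _ inferInstance h
  · rintro ⟨U, V, hU, hV, e, hxU, h⟩
    exact ⟨U, hxU, (formallyUnramified_ι_comp_iff f hU hV e).mpr h⟩

/-- a finite module whose localization at a point of an affine open vanishes is zero on a basic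
open neighbourhood -/
theorem exists_basicOpen_subsingleton (F : X.Modules) [F.IsQuasicoherent]
    {U : X.Opens} (hU : IsAffineOpen U) [Module.Finite Γ(X, U) Γ(F, U)] (x : X) (hx : x ∈ U)
    (h : x ∉ CohB1.support F) :
    ∃ g : Γ(X, U), x ∈ X.basicOpen g ∧ Subsingleton Γ(F, X.basicOpen g) := by
  rw [← SuppDict.mem_support_iff hU F x hx, Module.support_eq_zeroLocus,
    PrimeSpectrum.mem_zeroLocus, Set.not_subset] at h
  obtain ⟨g, hg, hgp⟩ := h
  refine ⟨g, ?_, ?_⟩
  · have := (CartProdA.mem_primeIdealOf_iff ⟨U, hU⟩ x hx g).not.mp hgp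
    rwa [not_not] at this
  · have hunit : IsUnit (X.presheaf.map (homOfLE <| X.basicOpen_le g).op g) :=
      RingedSpace.isUnit_res_basicOpen _ g
    refine subsingleton_of_forall_eq 0 fun t => ?_
    obtain ⟨n, m, hnm⟩ := StalkDict.exists_pow_smul_eq_res hU F g t
    have hm : F.presheaf.map (homOfLE <| X.basicOpen_le g).op m = 0 := by
      have h1 : g • m = 0 := Module.mem_annihilator.mp hg m
      have h2 := congrArg (F.presheaf.map (homOfLE <| X.basicOpen_le g).op) h1
      rw [Scheme.Modules.map_smul, map_zero] at h2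
      obtain ⟨v, hv⟩ := hunit
      rw [← hv] at h2
      have := congrArg (fun z => (↑v⁻¹ : Γ(X, X.basicOpen g)) • z) h2
      simpa [smul_smul] using this
    rw [hm] at hnm
    have hu : IsUnit (X.presheaf.map (homOfLE <| X.basicOpen_le g).op (g ^ n)) := by
      rw [map_pow]; exact hunit.pow n
    obtain ⟨v, hv⟩ := hu
    rw [← hv] at hnm
    have := congrArg (fun z => (↑v⁻¹ : Γ(X, X.basicOpen g)) • z) hnm
    simpa [smul_smul] using this

/-- **the support of `Ω_{X/Y}` is the ramification locus** -/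
theorem notMem_support_iff [QuasiSeparated f] [LocallyOfFiniteType f] (x : X) :
    x ∉ CohB1.support (Omega.sheaf f) ↔
      ∃ U : X.Opens, x ∈ U ∧ FormallyUnramified (U.ι ≫ f) := by
  rw [exists_formallyUnramified_iff]
  have hft := OmegaSecB.isFiniteType_omega f
  constructor
  · intro h
    obtain ⟨U₀, V, hU₀, hV, hxU₀, e⟩ := OmegaSecB.exists_affine_pair f x
    haveI := SecDict.finite_sections hU₀ (Omega.sheaf f) inferInstance hft
    obtain ⟨g, hxg, hsub⟩ := exists_basicOpen_subsingleton (Omega.sheaf f) hU₀ x hxU₀ h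
    have e' : X.basicOpen g ≤ f ⁻¹ᵁ V := (X.basicOpen_le g).trans e
    exact ⟨X.basicOpen g, V, hU₀.basicOpen g, hV, e', hxg,
      (formallyUnramified_appLE_iff f (hU₀.basicOpen g) hV e').mpr hsub⟩
  · rintro ⟨U, V, hU, hV, e, hxU, h⟩
    haveI := (formallyUnramified_appLE_iff f hU hV e).mp h
    rw [← SuppDict.mem_support_iff hU (Omega.sheaf f) x hxU, Module.mem_support_iff]
    intro hnt
    exact not_subsingleton _ (inferInstance :
      Subsingleton (LocalizedModule (hU.primeIdealOf ⟨x, hxU⟩).asIdeal.primeCompl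
        Γ(Omega.sheaf f, U)))

theorem main [QuasiSeparated f] [LocallyOfFiniteType f] (x : X) :
    x ∈ (Fitt.sheafIdeal (Omega.sheaf f) 0).support ↔
      ¬ ∃ U : X.Opens, x ∈ U ∧ FormallyUnramified (U.ι ≫ f) := by
  rw [← notMem_support_iff, not_not]
  have := FittSheafB.support_zero (Omega.sheaf f) (OmegaSecB.isFiniteType_omega f)
  exact Set.ext_iff.mp this x

end Groth.Agent.Lead.OmegaSecC
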