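import Groth.Prelude
import Groth.Agent.Helper2.FibFlatDict
import Mathlib

set_option autoImplicit false
universe u
open CategoryTheory CategoryTheory.Limits AlgebraicGeometry TopologicalSpace

namespace Groth.Agent.Lead.SmNbhd

variable {X Y : Scheme.{u}} (f : X ⟶ Y) (x : X)

/-- the comparison map `O_{X,x} ⟶ O_{X_s, x₀}` with `s = f x`, `x₀ = asFiber x`. -/
noncomputable def psi : X.presheaf.stalk x ⟶ (f.fiber (f x)).presheaf.stalk (f.asFiber x) :=
  (X.presheaf.stalkCongr (.of_eq (f.fiberι_asFiber x))).inv ≫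
    (f.fiberι (f x)).stalkMap (f.asFiber x)

theorem psi_surjective : Function.Surjective (psi f x).hom :=
  (Groth.Agent.Helper2.FibFlatDict.ker_transport f (f x) (f.asFiber x) x
    (f.fiberι_asFiber x)).1

theorem ker_psi : RingHom.ker (psi f x).hom =
    Ideal.map (f.stalkMap x).hom (IsLocalRing.maximalIdeal (Y.presheaf.stalk (f x))) :=
  (Groth.Agent.Helper2.FibFlatDict.ker_transport f (f x) (f.asFiber x) x
    (f.fiberι_asFiber x)).2

/-- compatibility of `psi` with the structure maps from the residue field. -/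
theorem stalkMap_psi :
    f.stalkMap x ≫ psi f x =
      Y.residue (f x) ≫ (Scheme.ΓSpecIso (Y.residueField (f x))).inv ≫
        (f.fiberToSpecResidueField (f x)).appTop ≫
          (f.fiber (f x)).presheaf.germ ⊤ (f.asFiber x) trivial := by
  apply Spec.map_injective
  rw [← cancel_mono (Y.fromSpecStalk (f x))]
  have hsq : f.fiberι (f x) ≫ f = f.fiberToSpecResidueField (f x) ≫
      Y.fromSpecResidueField (f x) := pullback.condition
  have hL : Spec.map (f.stalkMap x ≫ psi f x) ≫ Y.fromSpecStalk (f x) =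
      (f.fiber (f x)).fromSpecStalk (f.asFiber x) ≫ f.fiberι (f x) ≫ f := by
    rw [Spec.map_comp, Category.assoc, Scheme.SpecMap_stalkMap_fromSpecStalk]
    unfold psi
    rw [Spec.map_comp, Category.assoc]
    have h1 : Spec.map (X.presheaf.stalkCongr (.of_eq (f.fiberι_asFiber x))).inv ≫
        X.fromSpecStalk x = X.fromSpecStalk (f.fiberι (f x) (f.asFiber x)) :=
      Scheme.SpecMap_stalkSpecializes_fromSpecStalk
        (Inseparable.of_eq (f.fiberι_asFiber x)).le
    rw [reassoc_of% h1, ← Category.assoc, Scheme.SpecMap_stalkMap_fromSpecStalk, Category.assoc]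
  have hR : Spec.map (Y.residue (f x) ≫ (Scheme.ΓSpecIso (Y.residueField (f x))).inv ≫
        (f.fiberToSpecResidueField (f x)).appTop ≫
          (f.fiber (f x)).presheaf.germ ⊤ (f.asFiber x) trivial) ≫ Y.fromSpecStalk (f x) =
      (f.fiber (f x)).fromSpecStalk (f.asFiber x) ≫ f.fiberToSpecResidueField (f x) ≫
        Y.fromSpecResidueField (f x) := by
    simp only [Spec.map_comp, Category.assoc]
    rw [← Scheme.fromSpecStalk_toSpecΓ_assoc, ← Scheme.toSpecΓ_naturality_assoc,
      toSpecΓ_SpecMap_ΓSpecIso_inv_assoc]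
    rfl
  rw [hL, hR, hsq]

end Groth.Agent.Lead.SmNbhd
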