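import Groth.Prelude
import Groth.Agent.Lead.SmNbhdA
import Groth.Agent.Helper2.RegSch3
import Mathlib

set_option autoImplicit false
set_option linter.style.haveILetI false
universe u
open CategoryTheory CategoryTheory.Limits AlgebraicGeometry TopologicalSpace

namespace Groth.Agent.Lead.SmNbhd

variable {X Y : Scheme.{u}} (f : X ⟶ Y) (x : X)

/-- the algebra structure used in S5028 -/
noncomputable abbrev fibAlg :
    Algebra (IsLocalRing.ResidueField (Y.presheaf.stalk (f.base x)))
      (X.presheaf.stalk x ⧸ (IsLocalRing.maximalIdeal (Y.presheaf.stalk (f.base x))).map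
        (f.stalkMap x).hom) :=
  (Ideal.quotientMap ((IsLocalRing.maximalIdeal (Y.presheaf.stalk (f.base x))).map
    (f.stalkMap x).hom) (f.stalkMap x).hom Ideal.le_comap_map).toAlgebra

/-- the fibre as a scheme over the residue field -/
noncomputable abbrev fibOver :
    (f.fiber (f x)).Over (Spec (CommRingCat.of (Y.residueField (f x)))) :=
  ⟨f.fiberToSpecResidueField (f x)⟩

/-- the ring isomorphism `O_{X,x}/𝔪O_{X,x} ≃ O_{X_s,x₀}` -/
noncomputable def fibEquiv :
    (X.presheaf.stalk x ⧸ (IsLocalRing.maximalIdeal (Y.presheaf.stalk (f.base x))).map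
        (f.stalkMap x).hom) ≃+* (f.fiber (f x)).presheaf.stalk (f.asFiber x) :=
  (Ideal.quotEquivOfEq (ker_psi f x).symm).trans
    (RingHom.quotientKerEquivOfSurjective (psi_surjective f x))

theorem fibEquiv_mk (b : X.presheaf.stalk x) :
    fibEquiv f x (Ideal.Quotient.mk _ b) = (psi f x).hom b := rfl

attribute [local instance] Curv2.stalkAlgebra in
theorem fibEquiv_commutes (c : IsLocalRing.ResidueField (Y.presheaf.stalk (f.base x))) :
    letI := fibAlg f x
    letI := fibOver f x
    fibEquiv f x (algebraMap _ _ c) =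
      algebraMap (Y.residueField (f x)) ((f.fiber (f x)).presheaf.stalk (f.asFiber x)) c := by
  letI := fibAlg f x
  letI := fibOver f x
  obtain ⟨a, rfl⟩ := Ideal.Quotient.mk_surjective c
  have h1 : algebraMap (IsLocalRing.ResidueField (Y.presheaf.stalk (f.base x)))
      (X.presheaf.stalk x ⧸ (IsLocalRing.maximalIdeal (Y.presheaf.stalk (f.base x))).map
        (f.stalkMap x).hom) (Ideal.Quotient.mk _ a) =
      Ideal.Quotient.mk _ ((f.stalkMap x).hom a) := rfl
  rw [h1, fibEquiv_mk]
  have h2 := congrArg (fun φ => φ.hom a) (stalkMap_psi f x)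
  simp only [CommRingCat.hom_comp, RingHom.comp_apply] at h2
  rw [h2]
  rfl

attribute [local instance] Curv2.stalkAlgebra in
/-- the fibre local ring is geometrically regular iff the fibre is smooth at the point -/
theorem geomReg_iff [LocallyOfFinitePresentation (f.fiberToSpecResidueField (f x))] :
    letI := fibAlg f x
    CAlg.IsGeometricallyRegular (IsLocalRing.ResidueField (Y.presheaf.stalk (f.base x)))
      (X.presheaf.stalk x ⧸ (IsLocalRing.maximalIdeal (Y.presheaf.stalk (f.base x))).map
        (f.stalkMap x).hom) ↔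
      f.asFiber x ∈ (f.fiberToSpecResidueField (f x)).smoothLocus := by
  letI : Algebra (Y.residueField (f x))
      (X.presheaf.stalk x ⧸ (IsLocalRing.maximalIdeal (Y.presheaf.stalk (f.base x))).map
        (f.stalkMap x).hom) := fibAlg f x
  letI := fibOver f x
  haveI : LocallyOfFinitePresentation
      ((f.fiber (f x)) ↘ Spec (CommRingCat.of (Y.residueField (f x)))) :=
    inferInstanceAs (LocallyOfFinitePresentation (f.fiberToSpecResidueField (f x)))
  obtain ⟨A, _, _, _, q, _, ⟨e⟩, hiff⟩ :=
    Groth.Agent.Helper2.RegSch3.exists_algebra_stalk (Y.residueField (f x)) (f.fiber (f x))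
      (f.asFiber x)
  let ε : (X.presheaf.stalk x ⧸ (IsLocalRing.maximalIdeal (Y.presheaf.stalk (f.base x))).map
        (f.stalkMap x).hom) ≃ₐ[Y.residueField (f x)]
      (f.fiber (f x)).presheaf.stalk (f.asFiber x) :=
    AlgEquiv.ofRingEquiv (f := fibEquiv f x) (fibEquiv_commutes f x)
  have hiff' : f.asFiber x ∈ (f.fiberToSpecResidueField (f x)).smoothLocus ↔
      Algebra.IsSmoothAt (Y.residueField (f x)) q := hiff
  rw [hiff']
  change CAlg.IsGeometricallyRegular (Y.residueField (f x))
      (X.presheaf.stalk x ⧸ (IsLocalRing.maximalIdeal (Y.presheaf.stalk (f.base x))).map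
        (f.stalkMap x).hom) ↔ _
  constructor
  · intro h
    exact Groth.Agent.Helper2.RegSch3.isSmoothAt_of_geomRegular (Y.residueField (f x)) A q
      (Groth.Agent.Helper2.RegSch3.geomRegular_congr (Y.residueField (f x)) (ε.trans e) h)
  · intro h
    exact Groth.Agent.Helper2.RegSch3.geomRegular_congr (Y.residueField (f x)) (ε.trans e).symm
      (Groth.Agent.Helper2.RegSch3.geomRegular_of_isSmoothAt (Y.residueField (f x)) A q h)

theorem lfp_fiber [LocallyOfFiniteType f] (y : Y) :
    LocallyOfFinitePresentation (f.fiberToSpecResidueField y) := by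
  haveI : LocallyOfFiniteType (f.fiberToSpecResidueField y) :=
    MorphismProperty.pullback_snd (P := @LocallyOfFiniteType) _ _ inferInstance
  infer_instance

end Groth.Agent.Lead.SmNbhd
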