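import Groth.Prelude
import Groth.Agent.Lead.SmNbhdB
import Groth.Agent.Helper2.FiberSmooth2
import Groth.Agent.Helper2.SmoothRegSch
import Groth.Agent.Helper3.LscC
import Groth.Agent.Helper5.ChevE
import Groth.Agent.Helper5.GeomRed
import Groth.Agent.Helper5.SecNbK
import Groth.Agent.Helper5.UOFlat17
import Mathlib

set_option autoImplicit false
set_option linter.style.haveILetI false
universe u
open CategoryTheory CategoryTheory.Limits AlgebraicGeometry TopologicalSpace

namespace Groth.Agent.Lead.SmNbhd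

variable {X Y : Scheme.{u}} (f : X ⟶ Y) (x : X)

/-- smoothness of the fibre at a point gives geometric reducedness there -/
theorem geomReducedAt_of_mem_smoothLocus {k : Type u} [Field k] {Z : Scheme.{u}}
    (g : Z ⟶ Spec (CommRingCat.of k)) [LocallyOfFinitePresentation g] (z : Z)
    (hz : z ∈ g.smoothLocus) : FBase.IsGeomReducedAt g z := by
  obtain ⟨U, hzU, hU⟩ := (Groth.Agent.Helper2.PtDesc.smooth_nbhd_iff g z).mpr hz
  haveI : GeometricallyReduced (U.ι ≫ g) :=
    Groth.Agent.Helper2.SmoothRegSch.geometricallyReduced_of_smooth k U (U.ι ≫ g)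
  have h1 := Groth.Agent.Helper5.SecNb.geomReducedAt_of_geometricallyReduced (U.ι ≫ g) ⟨z, hzU⟩
  exact Groth.Agent.Helper5.GeomRed.geomReducedAt_of_comp_etale g U.ι ⟨z, hzU⟩ h1

theorem main [IsLocallyNoetherian Y] [LocallyOfFiniteType f]
    (hred : _root_.IsReduced (Y.presheaf.stalk (f.base x))) :
    letI := fibAlg f x
    (∃ U : X.Opens, x ∈ U ∧ Smooth (U.ι ≫ f)) ↔
      (∃ W : X.Opens, x ∈ W ∧ ∀ x' ∈ W, f.base x' = f.base x → EGA43.IsUnivOpenAt f x') ∧
        CAlg.IsGeometricallyRegular (IsLocalRing.ResidueField (Y.presheaf.stalk (f.base x)))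
          (X.presheaf.stalk x ⧸ (IsLocalRing.maximalIdeal (Y.presheaf.stalk (f.base x))).map
            (f.stalkMap x).hom) := by
  haveI : LocallyOfFinitePresentation f := inferInstance
  haveI := lfp_fiber f (f x)
  have hD := geomReg_iff f x
  constructor
  · rintro ⟨U, hxU, hU⟩
    have hx : x ∈ f.smoothLocus := (Groth.Agent.Helper2.PtDesc.smooth_nbhd_iff f x).mp ⟨U, hxU, hU⟩
    refine ⟨⟨U, hxU, fun x' hx' _ => ?_⟩,
      hD.mpr ((Groth.Agent.Helper2.FiberSmooth2.mem_smoothLocus_iff_flat_and_fiber f x).mp hx).2⟩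
    haveI : UniversallyOpen (U.ι ≫ f) := inferInstance
    have h1 := Groth.Agent.Helper3.Lsc.isUnivOpenAt_of_universallyOpen (U.ι ≫ f) ⟨x', hx'⟩
    exact Groth.Agent.Helper5.Chev.isUnivOpenAt_of_comp U.ι f ⟨x', hx'⟩ h1
  · rintro ⟨⟨W, hxW, hW⟩, hreg⟩
    have hsm : f.asFiber x ∈ (f.fiberToSpecResidueField (f x)).smoothLocus := hD.mp hreg
    have hgr : FBase.IsGeomReducedAt (f.fiberToSpecResidueField (f.base x)) (f.asFiber x) :=
      @geomReducedAt_of_mem_smoothLocus (Y.residueField (f x)) _ _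
        (f.fiberToSpecResidueField (f x)) (lfp_fiber f (f x)) (f.asFiber x) hsm
    have hopen : ∀ z : ↥(f.fiber (f.base x)), f.asFiber x ∈ closure {z} →
        (∀ z' : ↥(f.fiber (f.base x)), z ∈ closure {z'} → z' = z) →
        EGA43.IsUnivOpenAt f ((f.fiberι (f.base x)).base z) := by
      intro z hz _
      apply hW
      · have hsp : z ⤳ f.asFiber x := specializes_iff_mem_closure.mpr hz
        have h2 := hsp.map (f.fiberι (f x)).continuous
        have h3 : (f.fiberι (f x)) (f.asFiber x) = x := f.fiberι_asFiber x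
        rw [h3] at h2
        exact h2.mem_open W.2 hxW
      · exact Groth.Agent.Helper5.FibStalk.fiberι_apply f (f x) z
    obtain ⟨U, hxU, hflat, -⟩ := Groth.Agent.Helper5.UOFlat.s3408 f x hopen hgr hred
    have hfl : (f.stalkMap x).hom.Flat := by
      rw [← Groth.Agent.Helper3.StalkNbhd.stalkMap_ι_comp_iff RingHom.Flat.respectsIso f U x hxU]
      exact (Flat.iff_flat_stalkMap (U.ι ≫ f)).mp hflat ⟨x, hxU⟩
    have hx : x ∈ f.smoothLocus :=
      (Groth.Agent.Helper2.FiberSmooth2.mem_smoothLocus_iff_flat_and_fiber f x).mpr ⟨hfl, hsm⟩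
    exact (Groth.Agent.Helper2.PtDesc.smooth_nbhd_iff f x).mpr hx

end Groth.Agent.Lead.SmNbhd
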