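import Groth.Agent.Lead.LimDiag
import Groth.Agent.Lead.LimIso
open CategoryTheory Limits AlgebraicGeometry

namespace Groth.Agent.Lead.LimMono
open Groth.Agent.Lead.LimPullback Groth.Agent.Lead.LimFrame Groth.Agent.Lead.LimDiag
universe u
variable {I : Type u} [SmallCategory I] [IsCofiltered I] {D : I ⥤ Scheme.{u}} {c : Cone D}
  (hc : IsLimit c) [∀ {i j : I} (f : i ⟶ j), IsAffineHom (D.map f)] (i₀ : I)
  {X₀ Y₀ : Scheme.{u}} (g₀ : Y₀ ⟶ D.obj i₀) (f₀ : X₀ ⟶ Y₀)

omit [IsCofiltered I] [∀ {i j : I} (f : i ⟶ j), IsAffineHom (D.map f)] in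
/-- finite presentation hypotheses pass to the diagonal frame -/
theorem diag_hyps [LocallyOfFinitePresentation g₀] [QuasiCompact g₀] [QuasiSeparated g₀]
    [LocallyOfFinitePresentation (f₀ ≫ g₀)] [QuasiCompact (f₀ ≫ g₀)] [QuasiSeparated (f₀ ≫ g₀)] :
    LocallyOfFinitePresentation (diagBase f₀ g₀) ∧ QuasiCompact (diagBase f₀ g₀) ∧
    QuasiSeparated (diagBase f₀ g₀) ∧
    LocallyOfFinitePresentation (pullback.diagonal f₀ ≫ diagBase f₀ g₀) ∧
    QuasiCompact (pullback.diagonal f₀ ≫ diagBase f₀ g₀) ∧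
    QuasiSeparated (pullback.diagonal f₀ ≫ diagBase f₀ g₀) := by
  have hf₀ : LocallyOfFinitePresentation f₀ :=
    Groth.Agent.Helper2.LfpComp.locallyOfFinitePresentation_of_comp f₀ g₀ inferInstance
      inferInstance
  have hf₀c : QuasiCompact f₀ := QuasiCompact.of_comp f₀ g₀
  have hf₀q : QuasiSeparated f₀ := QuasiSeparated.of_comp f₀ g₀
  have e : pullback.diagonal f₀ ≫ diagBase f₀ g₀ = f₀ ≫ g₀ := by simp [diagBase]
  refine ⟨?_, ?_, ?_, ?_, ?_, ?_⟩
  · dsimp only [diagBase]; infer_instance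
  · dsimp only [diagBase]; infer_instance
  · dsimp only [diagBase]; infer_instance
  · rw [e]; infer_instance
  · rw [e]; infer_instance
  · rw [e]; infer_instance

include hc in
set_option backward.isDefEq.respectTransparency false in
theorem mono_descends [CompactSpace (D.obj i₀)] [QuasiSeparatedSpace (D.obj i₀)]
    [LocallyOfFinitePresentation g₀] [QuasiCompact g₀] [QuasiSeparated g₀]
    [LocallyOfFinitePresentation (f₀ ≫ g₀)] [QuasiCompact (f₀ ≫ g₀)] [QuasiSeparated (f₀ ≫ g₀)]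
    (h : Mono (limMap D c i₀ f₀ g₀)) :
    ∃ j : Over i₀, Mono (stageMap D i₀ f₀ g₀ j) := by
  obtain ⟨h1, h2, h3, h4, h5, h6⟩ := diag_hyps i₀ g₀ f₀
  have hΔ : IsIso (pullback.diagonal (limMap D c i₀ f₀ g₀)) :=
    (pullback.isIso_diagonal_iff _).mpr h
  have h7 : IsIso (limMap D c i₀ (pullback.diagonal f₀) (diagBase f₀ g₀)) :=
    of_diagonal_bc (c.π.app i₀) f₀ g₀ (MorphismProperty.isomorphisms Scheme.{u}) hΔ
  obtain ⟨j, hj⟩ := LimIso.isIso_descends hc i₀ (diagBase f₀ g₀) (pullback.diagonal f₀) h7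
  refine ⟨j, (pullback.isIso_diagonal_iff _).mp ?_⟩
  exact diagonal_bc_of (D.map j.hom) f₀ g₀ (MorphismProperty.isomorphisms Scheme.{u}) hj

end Groth.Agent.Lead.LimMono
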