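import Mathlib
import Groth.Prelude.Def_MoreMor
universe u
open CategoryTheory Limits MorphismProperty AlgebraicGeometry TopologicalSpace

namespace Groth.Agent.Lead.QAff

set_option backward.isDefEq.respectTransparency.types false in
/-- Key criterion: a quasi-compact scheme covered by basic opens `X_r` (`r` a global section)
which are quasi-affine schemes is quasi-affine. -/
theorem isQuasiAffine_of_forall_exists (X : Scheme.{u}) [CompactSpace X]
    (H : ∀ x : X, ∃ r : Γ(X, ⊤), x ∈ X.basicOpen r ∧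
      (X.basicOpen r : Scheme.{u}).IsQuasiAffine) : X.IsQuasiAffine := by
  have hqs : QuasiSeparatedSpace X := by
    choose r hxr hr using H
    refine .of_isOpenCover (U := (X.basicOpen <| r ·))
      (eq_top_iff.mpr fun x _ ↦ Opens.mem_iSup.mpr ⟨x, hxr x⟩)
      (fun _ ↦ isRetrocompact_basicOpen _) (fun x ↦ ?_)
    have := hr x
    have : QuasiSeparatedSpace (X.basicOpen (r x) : Scheme.{u}) := inferInstance
    exact (isQuasiSeparated_iff_quasiSeparatedSpace _ (X.basicOpen (r x)).2).mpr this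
  refine Scheme.IsQuasiAffine.of_forall_exists_mem_basicOpen X fun x ↦ ?_
  obtain ⟨r, hxr, hr⟩ := H x
  set U : X.Opens := X.basicOpen r with hU
  obtain ⟨_, ⟨_, ⟨s, hs, rfl⟩, rfl⟩, hxs, -⟩ := (Scheme.IsQuasiAffine.isBasis_basicOpen
    (U : Scheme.{u})).exists_subset_of_mem_open (Set.mem_univ (⟨x, hxr⟩ : U)) isOpen_univ
  obtain ⟨n, y, hy⟩ := exists_eq_pow_mul_of_isCompact_of_isQuasiSeparated X ⊤
    isCompact_univ isQuasiSeparated_univ r (U.topIso.hom s)
  have key : X.basicOpen (y * r) = U.ι ''ᵁ ((U : Scheme.{u}).basicOpen s) := by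
    have e1 : U.ι ''ᵁ ((U : Scheme.{u}).basicOpen s) = X.basicOpen (U.topIso.hom s) := by
      have := Scheme.Opens.ι_image_basicOpen_topIso_inv (U := U) (U.topIso.hom s)
      rw [← this]
      congr 2
      exact (U.topIso.hom_inv_id_apply s).symm
    rw [e1]
    have e2 : X.basicOpen (y |_ X.basicOpen r) = X.basicOpen (U.topIso.hom s) := by
      rw [hy, Scheme.basicOpen_mul]
      have hu : IsUnit ((r |_ X.basicOpen r) ^ n) :=
        IsUnit.pow _ (RingedSpace.isUnit_res_basicOpen _ r)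
      rw [X.basicOpen_of_isUnit hu]
      exact inf_eq_right.mpr (X.basicOpen_le _)
    rw [← e2, Scheme.basicOpen_mul]
    dsimp only [TopCat.Presheaf.restrictOpenCommRingCat_apply]
    rw [Scheme.basicOpen_res, inf_comm]
  refine ⟨y * r, ?_, ?_⟩
  · rw [key]
    exact hs.image_of_isOpenImmersion U.ι
  · rw [key]
    exact ⟨⟨x, hxr⟩, hxs, rfl⟩

lemma isQuasiAffine_of_iso {X Y : Scheme.{u}} (e : X ≅ Y) [Y.IsQuasiAffine] : X.IsQuasiAffine :=
  Scheme.IsQuasiAffine.of_isAffineHom e.hom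

lemma isQuasiAffine_of_eq {X : Scheme.{u}} {U V : X.Opens} (h : U = V)
    (hV : (V : Scheme.{u}).IsQuasiAffine) : (U : Scheme.{u}).IsQuasiAffine := by
  subst h; exact hV

/-- Criterion for an open subscheme. -/
theorem opens_isQuasiAffine_of_forall_exists {X : Scheme.{u}} (U : X.Opens)
    (hU : IsCompact (U : Set X))
    (H : ∀ x ∈ U, ∃ r : Γ(X, U), x ∈ X.basicOpen r ∧
      (X.basicOpen r : Scheme.{u}).IsQuasiAffine) : (U : Scheme.{u}).IsQuasiAffine := by
  have : CompactSpace (U : Scheme.{u}) := isCompact_iff_compactSpace.mp hU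
  refine isQuasiAffine_of_forall_exists (U : Scheme.{u}) fun x ↦ ?_
  obtain ⟨r, hxr, hr⟩ := H x.1 x.2
  have key := Scheme.Opens.ι_image_basicOpen_topIso_inv (U := U) r
  refine ⟨U.topIso.inv r, ?_, ?_⟩
  · have : (U.ι x) ∈ U.ι ''ᵁ ((U : Scheme.{u}).basicOpen (U.topIso.inv r)) := by
      rw [key]; exact hxr
    obtain ⟨x', hx', hxx'⟩ := this
    have : x' = x := U.ι.isOpenEmbedding.injective hxx'
    rw [← this]; exact hx'
  · have : ((U.ι ''ᵁ ((U : Scheme.{u}).basicOpen (U.topIso.inv r)) : X.Opens) :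
        Scheme.{u}).IsQuasiAffine := isQuasiAffine_of_eq key hr
    exact isQuasiAffine_of_iso (U.ι.isoImage _)

/-- Reformulation of ind-quasi-affineness in terms of opens of the source. -/
theorem isIndQuasiAffineHom_iff {X Y : Scheme.{u}} (f : X ⟶ Y) :
    MoreMor.IsIndQuasiAffineHom f ↔ ∀ V : Y.Opens, IsAffineOpen V → ∀ U : X.Opens,
      U ≤ f ⁻¹ᵁ V → IsCompact (U : Set X) → (U : Scheme.{u}).IsQuasiAffine := by
  constructor
  · intro h V hV U hUV hU
    have hc : IsCompact (((f ⁻¹ᵁ V).ι ⁻¹ᵁ U : (f ⁻¹ᵁ V).toScheme.Opens) : Set (f ⁻¹ᵁ V).toScheme) := by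
      have h1 : ((f ⁻¹ᵁ V).ι ⁻¹ᵁ U : Set (f ⁻¹ᵁ V).toScheme) = (f ⁻¹ᵁ V).ι ⁻¹' (U : Set X) := rfl
      rw [h1]
      apply (f ⁻¹ᵁ V).ι.isOpenEmbedding.isInducing.isCompact_preimage' hU
      rw [Scheme.Opens.range_ι]
      exact hUV
    have := h V hV _ hc
    exact isQuasiAffine_of_iso (Scheme.Opens.isoOfLE hUV).symm
  · intro h V hV U hU
    have hc : IsCompact (((f ⁻¹ᵁ V).ι ''ᵁ U : X.Opens) : Set X) := by
      have h1 : (((f ⁻¹ᵁ V).ι ''ᵁ U : X.Opens) : Set X) = (f ⁻¹ᵁ V).ι '' (U : Set _) := rfl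
      rw [h1]
      exact hU.image (f ⁻¹ᵁ V).ι.continuous
    have := h V hV ((f ⁻¹ᵁ V).ι ''ᵁ U) ((f ⁻¹ᵁ V).ι_image_le U) hc
    exact isQuasiAffine_of_iso ((f ⁻¹ᵁ V).ι.isoImage U)

end Groth.Agent.Lead.QAff
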