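import Mathlib
import Groth.Agent.Lead.QAff
universe u
open CategoryTheory Limits MorphismProperty AlgebraicGeometry TopologicalSpace

namespace Groth.Agent.Lead.QAff

lemma opens_isQuasiAffine_of_le {X : Scheme.{u}} {U₁ U₂ : X.Opens} (h : U₁ ≤ U₂)
    (hc : IsCompact (U₁ : Set X)) (h₂ : (U₂ : Scheme.{u}).IsQuasiAffine) :
    (U₁ : Scheme.{u}).IsQuasiAffine := by
  have : CompactSpace (U₁ : Scheme.{u}) := isCompact_iff_compactSpace.mp hc
  exact Scheme.IsQuasiAffine.of_isImmersion (X.homOfLE h)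

/-- Base change of a quasi-affine open along a morphism of affine opens. -/
theorem isQuasiAffine_of_isPullback_affine {X Y S T : Scheme.{u}} {f : T ⟶ S} {g : Y ⟶ X}
    {iX : X ⟶ S} {iY : Y ⟶ T} (H : IsPullback g iY iX f) {US : S.Opens} {UT : T.Opens}
    {UX : X.Opens} (hUS : IsAffineOpen US) (hUT : IsAffineOpen UT) (hUST : UT ≤ f ⁻¹ᵁ US)
    (hUSX : UX ≤ iX ⁻¹ᵁ US) (hX : (UX : Scheme.{u}).IsQuasiAffine) :
    ((g ⁻¹ᵁ UX ⊓ iY ⁻¹ᵁ UT : Y.Opens) : Scheme.{u}).IsQuasiAffine := by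
  have hpb := Scheme.Hom.isPullback_resLE H hUST hUSX (UY := g ⁻¹ᵁ UX ⊓ iY ⁻¹ᵁ UT) rfl
  have : IsAffine (US : Scheme.{u}) := hUS
  have : IsAffine (UT : Scheme.{u}) := hUT
  have : IsAffineHom (f.resLE US UT hUST) := inferInstance
  have : IsAffineHom (g.resLE UX (g ⁻¹ᵁ UX ⊓ iY ⁻¹ᵁ UT) inf_le_left) :=
    MorphismProperty.of_isPullback hpb.flip this
  exact Scheme.IsQuasiAffine.of_isAffineHom (g.resLE UX (g ⁻¹ᵁ UX ⊓ iY ⁻¹ᵁ UT) inf_le_left)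

end Groth.Agent.Lead.QAff
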