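import Mathlib
import Groth.Agent.Lead.QAff2
import Groth.Agent.Lead.SchDescent2
universe u
open CategoryTheory Limits MorphismProperty AlgebraicGeometry TopologicalSpace

namespace Groth.Agent.Lead.QAff
open Groth.Agent.Lead.SchDescent Groth.Agent.Lead.SchDescent2

set_option backward.isDefEq.respectTransparency.types false in
/-- Key lemma: quasi-affineness descends along a flat surjective morphism of affine schemes, for
quasi-compact source. -/
theorem isQuasiAffine_of_isPullback {X Y' S₀ T : Scheme.{u}} {f : T ⟶ S₀} {g' : Y' ⟶ X}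
    {iX : X ⟶ S₀} {iY : Y' ⟶ T} (H : IsPullback g' iY iX f) [IsAffine S₀] [IsAffine T]
    [Y'.IsQuasiAffine] [Flat f] [Surjective f] [CompactSpace X] : X.IsQuasiAffine := by
  have hQf0 : (@Surjective ⊓ @Flat ⊓ @QuasiCompact : MorphismProperty Scheme.{u}) f :=
    ⟨⟨inferInstance, inferInstance⟩, inferInstance⟩
  -- quasi-separatedness descends
  have hqsY : QuasiSeparated iY := inferInstance
  have hqsX : QuasiSeparated iX :=
    of_isPullback_of_descendsAlong (P := @QuasiSeparated)
      (Q := (@Surjective ⊓ @Flat ⊓ @QuasiCompact : MorphismProperty Scheme.{u})) H.flip hQf0 hqsY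
  have : QuasiSeparatedSpace X := by
    rw [HasAffineProperty.iff_of_isAffine (P := @QuasiSeparated)] at hqsX
    exact hqsX
  have hiso : IsIso (pushoutSection H (US := ⊤) (UT := ⊤) (UX := ⊤) (UY := ⊤)
      (by simp) (by simp) (by simp)) := by
    apply isIso_pushoutSection_of_isQuasiSeparated_of_flat_right
    · exact isAffineOpen_top S₀
    · exact isAffineOpen_top T
    · exact isCompact_univ
    · exact isQuasiSeparated_univ
  have hpo := (isIso_pushoutSection_iff H _ _ _).mp hiso
  simp only [appLE_top_top] at hpo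
  have t : IsPullback (Spec.map iY.appTop) (Spec.map g'.appTop) (Spec.map f.appTop)
      (Spec.map iX.appTop) := by
    have := hpo.op.map Scheme.Spec
    exact this
  have s0 : IsPullback g' (iY ≫ T.toSpecΓ) (iX ≫ S₀.toSpecΓ) (Spec.map f.appTop) := by
    refine IsPullback.of_iso H (Iso.refl _) (Iso.refl _) (asIso T.toSpecΓ) (asIso S₀.toSpecΓ)
      (by simp) (by simp) (by simp) ?_
    simp [Scheme.toSpecΓ_naturality]
  have s1 : IsPullback (Y'.toSpecΓ ≫ Spec.map iY.appTop) g' (Spec.map f.appTop)
      (X.toSpecΓ ≫ Spec.map iX.appTop) := by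
    rw [← Scheme.toSpecΓ_naturality, ← Scheme.toSpecΓ_naturality]
    exact s0.flip
  have left := IsPullback.of_right s1 (Scheme.toSpecΓ_naturality g').symm t
  have hQf : (@Surjective ⊓ @Flat ⊓ @QuasiCompact : MorphismProperty Scheme.{u})
      (Spec.map f.appTop) := by
    have e : CategoryTheory.Arrow.mk f ≅ CategoryTheory.Arrow.mk (Spec.map f.appTop) :=
      CategoryTheory.Arrow.isoMk T.isoSpec S₀.isoSpec
        (by simp [Scheme.isoSpec, Scheme.toSpecΓ_naturality])
    rw [← (@Surjective ⊓ @Flat ⊓ @QuasiCompact : MorphismProperty Scheme.{u}).arrow_mk_iso_iff e]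
    exact hQf0
  have hQ : (@Surjective ⊓ @Flat ⊓ @QuasiCompact : MorphismProperty Scheme.{u})
      (Spec.map g'.appTop) :=
    (@Surjective ⊓ @Flat ⊓ @QuasiCompact : MorphismProperty Scheme.{u}).of_isPullback t hQf
  have : IsOpenImmersion X.toSpecΓ :=
    of_isPullback_of_descendsAlong (P := @IsOpenImmersion)
      (Q := (@Surjective ⊓ @Flat ⊓ @QuasiCompact : MorphismProperty Scheme.{u})) left hQ
      (inferInstanceAs (IsOpenImmersion Y'.toSpecΓ))
  constructor

end Groth.Agent.Lead.QAff
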