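import Mathlib
import Groth.Agent.Lead.QAff3
import Groth.Agent.S1397
import Groth.Agent.S1398
import Groth.Agent.S1400
universe u
open CategoryTheory Limits MorphismProperty AlgebraicGeometry TopologicalSpace

namespace Groth.Agent.Lead.QAff
open Groth.Agent.Lead.SchDescent Groth.Agent.Lead.SchDescent2

/-- ind-quasi-affine morphisms as a morphism property -/
def indQA : MorphismProperty Scheme.{u} := fun _ _ f => MoreMor.IsIndQuasiAffineHom f

lemma indQA_iff {X Y : Scheme.{u}} (f : X ⟶ Y) : indQA f ↔ MoreMor.IsIndQuasiAffineHom f := Iff.rfl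

instance : indQA.{u}.IsStableUnderComposition where
  comp_mem f g hf hg := Groth.Agent.S1397.result f g hf hg

instance : indQA.{u}.RespectsIso :=
  respectsIso_of_isStableUnderComposition (fun _ _ f (hf : IsIso f) =>
    (Groth.Agent.S1398.result f).1 inferInstance)

instance : indQA.{u}.IsStableUnderBaseChange where
  of_isPullback {X Y Y' S f g f' g'} sq hg := Groth.Agent.S1400.result g g' f' f sq hg

/-- translation lemma for restrictions -/
theorem indQA_morphismRestrict_iff {X Y : Scheme.{u}} (f : X ⟶ Y) (U₀ : Y.Opens) :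
    indQA (f ∣_ U₀) ↔ ∀ V : Y.Opens, IsAffineOpen V → V ≤ U₀ → ∀ U : X.Opens,
      U ≤ f ⁻¹ᵁ V → IsCompact (U : Set X) → (U : Scheme.{u}).IsQuasiAffine := by
  rw [indQA_iff, isIndQuasiAffineHom_iff]
  have hι : ∀ y : (f ⁻¹ᵁ U₀ : Scheme.{u}), U₀.ι ((f ∣_ U₀) y) = f ((f ⁻¹ᵁ U₀).ι y) := by
    intro y
    have h2 : ((f ∣_ U₀) ≫ U₀.ι) y = ((f ⁻¹ᵁ U₀).ι ≫ f) y := by rw [morphismRestrict_ι]
    simpa using h2
  constructor
  · intro h V hV hVU₀ U hUV hU
    have hUU₀ : U ≤ f ⁻¹ᵁ U₀ := hUV.trans (f.preimage_mono hVU₀)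
    have hV₁ : IsAffineOpen (U₀.ι ⁻¹ᵁ V) := by
      rw [← U₀.ι.isAffineOpen_iff_of_isOpenImmersion,
        Scheme.Hom.image_preimage_eq_opensRange_inf, Scheme.Opens.opensRange_ι,
        inf_eq_right.mpr hVU₀]
      exact hV
    have hc : IsCompact (((f ⁻¹ᵁ U₀).ι ⁻¹ᵁ U : (f ⁻¹ᵁ U₀).toScheme.Opens) :
        Set (f ⁻¹ᵁ U₀).toScheme) := by
      have h1 : ((f ⁻¹ᵁ U₀).ι ⁻¹ᵁ U : Set (f ⁻¹ᵁ U₀).toScheme) =
        (f ⁻¹ᵁ U₀).ι ⁻¹' (U : Set X) := rfl
      rw [h1]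
      apply (f ⁻¹ᵁ U₀).ι.isOpenEmbedding.isInducing.isCompact_preimage' hU
      rw [Scheme.Opens.range_ι]
      exact hUU₀
    have := h (U₀.ι ⁻¹ᵁ V) hV₁ ((f ⁻¹ᵁ U₀).ι ⁻¹ᵁ U) (by
      intro y hy
      change U₀.ι ((f ∣_ U₀) y) ∈ V
      rw [hι]
      exact hUV hy) hc
    exact isQuasiAffine_of_iso (Scheme.Opens.isoOfLE hUU₀).symm
  · intro h V₁ hV₁ U₁ hUV₁ hU₁
    have hc : IsCompact (((f ⁻¹ᵁ U₀).ι ''ᵁ U₁ : X.Opens) : Set X) := by
      have h1 : (((f ⁻¹ᵁ U₀).ι ''ᵁ U₁ : X.Opens) : Set X) = (f ⁻¹ᵁ U₀).ι '' (U₁ : Set _) := rfl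
      rw [h1]
      exact hU₁.image (f ⁻¹ᵁ U₀).ι.continuous
    have := h (U₀.ι ''ᵁ V₁) (hV₁.image_of_isOpenImmersion U₀.ι) (U₀.ι_image_le V₁)
      ((f ⁻¹ᵁ U₀).ι ''ᵁ U₁) (by
        rintro _ ⟨y, hy, rfl⟩
        refine ⟨(f ∣_ U₀) y, hUV₁ hy, ?_⟩
        exact hι y) hc
    exact isQuasiAffine_of_iso ((f ⁻¹ᵁ U₀).ι.isoImage U₁)

instance : IsZariskiLocalAtTarget indQA.{u} := by
  refine IsZariskiLocalAtTarget.mk' ?_ ?_
  · intro X Y f U₀ hf
    rw [indQA_morphismRestrict_iff]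
    rw [indQA_iff, isIndQuasiAffineHom_iff] at hf
    intro V hV _ U hUV hU
    exact hf V hV U hUV hU
  · intro X Y f ι U₀ hU₀ h
    rw [indQA_iff, isIndQuasiAffineHom_iff]
    intro V hV U hUV hU
    refine opens_isQuasiAffine_of_forall_exists U hU fun x hx ↦ ?_
    obtain ⟨i, hi⟩ : ∃ i, f x ∈ U₀ i := by
      have : f x ∈ (⨆ i, U₀ i : Y.Opens) := by rw [hU₀]; trivial
      exact Opens.mem_iSup.mp this
    have hfx : f x ∈ V ⊓ U₀ i := ⟨hUV hx, hi⟩
    obtain ⟨s, hsle, hxs⟩ := hV.exists_basicOpen_le (V := V ⊓ U₀ i) ⟨f x, hfx⟩ (hUV hx)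
    set r : Γ(X, U) := X.presheaf.map (homOfLE hUV).op (f.app V s) with hr
    have hbo : X.basicOpen r = U ⊓ f ⁻¹ᵁ (Y.basicOpen s) := by
      rw [hr, Scheme.basicOpen_res, Scheme.preimage_basicOpen]
    refine ⟨r, ?_, ?_⟩
    · rw [hbo]; exact ⟨hx, hxs⟩
    · refine (indQA_morphismRestrict_iff f (U₀ i)).mp (h i) (Y.basicOpen s) (hV.basicOpen s)
        (fun y hy => (hsle hy).2) (X.basicOpen r) ?_ (isCompact_basicOpen X hU r)
      rw [hbo]
      exact inf_le_right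

end Groth.Agent.Lead.QAff

namespace Groth.Agent.Lead.QAff
open Groth.Agent.Lead.SchDescent Groth.Agent.Lead.SchDescent2

set_option backward.isDefEq.respectTransparency.types false in
instance indQA_descendsAlong_fpqc :
    DescendsAlong indQA.{u} (@Surjective ⊓ @Flat ⊓ @QuasiCompact : MorphismProperty Scheme.{u}) := by
  refine IsZariskiLocalAtTarget.descendsAlong_inf_quasiCompact _ _ ?_ ?_
  · rw [inf_comm]
    exact inf_le_inf le_rfl (IsLocalIso.le_of_isZariskiLocalAtSource _)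
  intro R S Y φ g ⟨hs, hfl⟩ hfst
  have : Surjective (Spec.map φ) := hs
  have : Flat (Spec.map φ) := hfl
  rw [indQA_iff, isIndQuasiAffineHom_iff] at hfst ⊢
  intro V hV U hUV hU
  have hc : CompactSpace (U : Scheme.{u}) := isCompact_iff_compactSpace.mp hU
  have sqA : IsPullback (pullback.snd (Spec.map φ) g) (pullback.fst (Spec.map φ) g) g
      (Spec.map φ) := (IsPullback.of_hasPullback (Spec.map φ) g).flip
  have sqB := isPullback_morphismRestrict (pullback.snd (Spec.map φ) g) U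
  have sq := sqB.paste_vert sqA
  have haff : IsAffineHom (pullback.snd (Spec.map φ) g ∣_ U) :=
    MorphismProperty.of_isPullback sq.flip (inferInstanceAs (IsAffineHom (Spec.map φ)))
  have hc' : CompactSpace ((pullback.snd (Spec.map φ) g ⁻¹ᵁ U : Scheme.{u})) :=
    QuasiCompact.compactSpace_of_compactSpace (pullback.snd (Spec.map φ) g ∣_ U)
  have hqa : ((pullback.snd (Spec.map φ) g ⁻¹ᵁ U : Scheme.{u})).IsQuasiAffine :=
    hfst ⊤ (isAffineOpen_top _) _ (by simp) (isCompact_iff_compactSpace.mpr hc')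
  exact isQuasiAffine_of_isPullback sq

end Groth.Agent.Lead.QAff
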