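import Mathlib
import Groth.Agent.Lead.QAff4
import Groth.Agent.S1399
import Groth.Prelude.Def_Mor2
universe u
open CategoryTheory Limits MorphismProperty AlgebraicGeometry TopologicalSpace

namespace Groth.Agent.Lead.QAff

theorem isQuasiAffineHom_iff {X Y : Scheme.{u}} (f : X ⟶ Y) :
    MoreMor.IsQuasiAffineHom f ↔ QuasiCompact f ∧ MoreMor.IsIndQuasiAffineHom f := by
  constructor
  · intro h
    exact ⟨h.1, (Groth.Agent.S1398.result f).2 h⟩
  · rintro ⟨hqc, h2⟩
    rw [isIndQuasiAffineHom_iff] at h2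
    refine ⟨hqc, fun V hV => ?_⟩
    exact h2 V hV (f ⁻¹ᵁ V) le_rfl (hqc.isCompact_preimage _ V.2 hV.isCompact)

theorem mor2_isQuasiAffine_iff {X Y : Scheme.{u}} (f : X ⟶ Y) :
    Mor2.IsQuasiAffine f ↔ QuasiCompact f ∧ MoreMor.IsIndQuasiAffineHom f :=
  isQuasiAffineHom_iff f

end Groth.Agent.Lead.QAff
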