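import Groth.Agent.Lead.LimRed
import Groth.Agent.Lead.QAff5
open CategoryTheory Limits AlgebraicGeometry

namespace Groth.Agent.Lead.LimQAff
open Groth.Agent.Lead.LimFrame Groth.Agent.Lead.LimPullback Groth.Agent.Lead.LimBC
  Groth.Agent.Lead.LimHom Groth.Agent.Lead.LimRed Groth.Agent.Lead.QAff
universe u

/-- quasi-affine morphisms as a morphism property -/
def QA : MorphismProperty Scheme.{u} := fun _ _ f => Mor2.IsQuasiAffine f

lemma QA_iff {X Y : Scheme.{u}} (f : X ⟶ Y) : QA f ↔ Mor2.IsQuasiAffine f := Iff.rfl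

lemma QA_eq : QA.{u} = (@QuasiCompact ⊓ indQA : MorphismProperty Scheme.{u}) := by
  ext X Y f
  exact mor2_isQuasiAffine_iff f

instance : QA.{u}.IsStableUnderBaseChange := by rw [QA_eq]; infer_instance

instance : IsZariskiLocalAtTarget QA.{u} := by rw [QA_eq]; infer_instance

/-- a quasi-compact morphism with quasi-affine source is quasi-affine -/
lemma QA_of_isQuasiAffine {X Y : Scheme.{u}} (f : X ⟶ Y) [QuasiCompact f] [X.IsQuasiAffine] :
    QA f := by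
  refine ⟨inferInstance, fun V hV ↦ ?_⟩
  have : CompactSpace ↥(f ⁻¹ᵁ V : Scheme.{u}) :=
    isCompact_iff_compactSpace.mp (QuasiCompact.isCompact_preimage (f := f) _ V.2 hV.isCompact)
  exact Scheme.IsQuasiAffine.of_isImmersion (f ⁻¹ᵁ V).ι

/-- the source of a quasi-affine morphism to an affine scheme is quasi-affine -/
lemma isQuasiAffine_of_QA {X Y : Scheme.{u}} (f : X ⟶ Y) [IsAffine Y] (h : QA f) :
    X.IsQuasiAffine := by
  have h1 := h.2 ⊤ (isAffineOpen_top Y)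
  have e : (f ⁻¹ᵁ ⊤ : X.Opens) = ⊤ := rfl
  rw [e] at h1
  exact isQuasiAffine_of_iso X.topIso.symm


/-- transport of quasi-affineness along a pasting of pullback squares -/
lemma isQuasiAffine_pullback_comp {B S' X₀ Y₀ : Scheme.{u}} (p : S' ⟶ B) (g₀ : Y₀ ⟶ B)
    (f₀ : X₀ ⟶ Y₀) :
    (pullback p (f₀ ≫ g₀)).IsQuasiAffine ↔ (pullback f₀ (pullback.snd p g₀)).IsQuasiAffine := by
  have h1 : IsPullback (pullback.snd f₀ (pullback.snd p g₀) ≫ pullback.fst p g₀)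
      (pullback.fst f₀ (pullback.snd p g₀)) p (f₀ ≫ g₀) :=
    ((IsPullback.of_hasPullback f₀ (pullback.snd p g₀)).paste_vert
      (IsPullback.of_hasPullback p g₀).flip).flip
  let e := h1.isoPullback
  exact ⟨fun _ ↦ isQuasiAffine_of_iso e, fun _ ↦ isQuasiAffine_of_iso e.symm⟩

variable {I : Type u} [SmallCategory I] [IsCofiltered I] {D : I ⥤ Scheme.{u}} {c : Cone D}
  (hc : IsLimit c) [∀ {i j : I} (f : i ⟶ j), IsAffineHom (D.map f)] (i₀ : I)
  {X₀ Y₀ : Scheme.{u}} (g₀ : Y₀ ⟶ D.obj i₀) (f₀ : X₀ ⟶ Y₀)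

include hc in
set_option backward.isDefEq.respectTransparency false in
/-- descent of quasi-affineness over an affine base -/
theorem QA_descends_of_isAffine [IsAffine Y₀] [QuasiCompact f₀] [QuasiSeparated f₀]
    (h : QA (limMap D c i₀ f₀ g₀)) : ∃ j : Over i₀, QA (stageMap D i₀ f₀ g₀ j) := by
  have hπ : IsAffineHom (c.π.app i₀) := isAffineHom_π_app D c hc i₀
  have hX₀c : CompactSpace X₀ := QuasiCompact.compactSpace_of_compactSpace f₀
  have hX₀q : QuasiSeparatedSpace X₀ := quasiSeparatedSpace_of_quasiSeparated f₀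
  have hA : ∀ {j k : Over i₀} (f : j ⟶ k), IsAffineHom ((pbDiag D i₀ (f₀ ≫ g₀)).map f) :=
    fun f ↦ isAffineHom_pbDiag_map i₀ (f₀ ≫ g₀) f
  have hC : ∀ j : Over i₀, CompactSpace ↥((pbDiag D i₀ (f₀ ≫ g₀)).obj j) :=
    fun j ↦ compactSpace_pbDiag D i₀ (f₀ ≫ g₀) j
  have hQ : ∀ j : Over i₀, QuasiSeparatedSpace ↥((pbDiag D i₀ (f₀ ≫ g₀)).obj j) :=
    fun j ↦ quasiSeparatedSpace_pbDiag D i₀ (f₀ ≫ g₀) j
  have haff : IsAffine (pullback (c.π.app i₀) g₀) :=
    isAffine_of_isAffineHom (pullback.snd (c.π.app i₀) g₀)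
  have h1 : (pullback f₀ (pullback.snd (c.π.app i₀) g₀)).IsQuasiAffine :=
    isQuasiAffine_of_QA _ h
  have h2 : (pbCone D c i₀ (f₀ ≫ g₀)).pt.IsQuasiAffine :=
    (isQuasiAffine_pullback_comp (c.π.app i₀) g₀ f₀).mpr h1
  obtain ⟨j, hj⟩ := Scheme.exists_isQuasiAffine_of_isLimit (pbDiag D i₀ (f₀ ≫ g₀))
    (pbCone D c i₀ (f₀ ≫ g₀)) (pbConeIsLimit i₀ (f₀ ≫ g₀) hc)
  refine ⟨j, ?_⟩
  have h3 : (pullback f₀ (pullback.snd (D.map j.hom) g₀)).IsQuasiAffine :=
    (isQuasiAffine_pullback_comp (D.map j.hom) g₀ f₀).mp hj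
  exact QA_of_isQuasiAffine _

include hc in
/-- descent of quasi-affineness -/
theorem QA_descends [CompactSpace Y₀] [QuasiCompact f₀] [QuasiSeparated f₀]
    (h : QA (limMap D c i₀ f₀ g₀)) : ∃ j : Over i₀, QA (stageMap D i₀ f₀ g₀ j) :=
  cover_reduction i₀ g₀ f₀ QA
    (fun v _ _ h ↦ QA_descends_of_isAffine hc i₀ (v ≫ g₀) (pullback.snd f₀ v) h) h

end Groth.Agent.Lead.LimQAff
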