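import Mathlib
open CategoryTheory Limits AlgebraicGeometry

namespace Groth.Agent.Lead.DiagBCLim
universe u

section Cat
variable {C : Type*} [Category C] [HasPullbacks C] {X Y U : C} (f : X ⟶ Y) (i : U ⟶ Y)

/-- the comparison map on diagonal objects for a base change -/
noncomputable abbrev diagMap :
    pullback (pullback.snd f i) (pullback.snd f i) ⟶ pullback f f :=
  pullback.map _ _ f f (pullback.fst f i) (pullback.fst f i) i pullback.condition.symm
    pullback.condition.symm

set_option backward.isDefEq.respectTransparency false in
/-- the diagonal of a base change is the base change of the diagonal -/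
theorem isPullback_diag : IsPullback (pullback.fst f i) (pullback.diagonal (pullback.snd f i))
    (pullback.diagonal f) (diagMap f i) := by
  have hcomm : pullback.fst f i ≫ pullback.diagonal f =
      pullback.diagonal (pullback.snd f i) ≫ diagMap f i := by
    apply pullback.hom_ext <;> simp [diagMap]
  refine ⟨⟨hcomm⟩, ⟨PullbackCone.IsLimit.mk _
    (fun s => s.snd ≫ pullback.fst (pullback.snd f i) (pullback.snd f i)) ?_ ?_ ?_⟩⟩
  · intro s
    have := congr($(s.condition) ≫ pullback.fst f f)
    simp only [Category.assoc, pullback.diagonal_fst, Category.comp_id, diagMap,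
      pullback.lift_fst] at this
    rw [Category.assoc, ← this]
  · intro s
    have h1 := congr($(s.condition) ≫ pullback.fst f f)
    have h2 := congr($(s.condition) ≫ pullback.snd f f)
    simp only [Category.assoc, pullback.diagonal_fst, pullback.diagonal_snd, Category.comp_id,
      diagMap, pullback.lift_fst, pullback.lift_snd] at h1 h2
    have key : s.snd ≫ pullback.fst (pullback.snd f i) (pullback.snd f i) =
        s.snd ≫ pullback.snd (pullback.snd f i) (pullback.snd f i) := by
      apply pullback.hom_ext
      · rw [Category.assoc, Category.assoc, ← h1, ← h2]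
      · rw [Category.assoc, Category.assoc, pullback.condition]
    apply pullback.hom_ext
    · simp
    · simp [key]
  · intro s m h1 h2
    rw [← h2]
    simp

end Cat

/-- pointwise consequence: a point of the diagonal object of the base change whose image lies in
the range of the diagonal lies in the range of the diagonal. -/
theorem mem_range_diagonal {X Y U : Scheme.{u}} (f : X ⟶ Y) (i : U ⟶ Y)
    (w : ↥(pullback (pullback.snd f i) (pullback.snd f i)))
    (hw : (diagMap f i).base w ∈ Set.range (pullback.diagonal f).base) :
    w ∈ Set.range (pullback.diagonal (pullback.snd f i)).base := by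
  obtain ⟨x, hx⟩ := hw
  have hP := isPullback_diag f i
  obtain ⟨z, -, hz⟩ := Scheme.Pullback.exists_preimage_pullback x w hx
  refine ⟨(hP.isoPullback.inv).base z, ?_⟩
  rw [← Scheme.Hom.comp_apply, hP.isoPullback_inv_snd]
  exact hz

end Groth.Agent.Lead.DiagBCLim
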