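import Groth.Agent.Lead.LimSurj
import Groth.Agent.Lead.DiagBCLim
open CategoryTheory Limits AlgebraicGeometry Topology

namespace Groth.Agent.Lead.LimUInj
open Groth.Agent.Lead.LimPullback Groth.Agent.Lead.LimFrame Groth.Agent.Lead.DiagBCLim
universe u
variable {I : Type u} [SmallCategory I] [IsCofiltered I] {D : I ⥤ Scheme.{u}} {c : Cone D}
  (hc : IsLimit c) [∀ {i j : I} (f : i ⟶ j), IsAffineHom (D.map f)] (i₀ : I)
  {X₀ Y₀ : Scheme.{u}} (g₀ : Y₀ ⟶ D.obj i₀) (f₀ : X₀ ⟶ Y₀)

include hc in
set_option backward.isDefEq.respectTransparency false in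
theorem univInj_descends [CompactSpace (D.obj i₀)] [QuasiSeparatedSpace (D.obj i₀)]
    [LocallyOfFinitePresentation g₀] [QuasiCompact g₀] [QuasiSeparated g₀]
    [LocallyOfFinitePresentation (f₀ ≫ g₀)] [QuasiCompact (f₀ ≫ g₀)] [QuasiSeparated (f₀ ≫ g₀)]
    (h : UniversallyInjective (limMap D c i₀ f₀ g₀)) :
    ∃ j : Over i₀, UniversallyInjective (stageMap D i₀ f₀ g₀ j) := by
  have hX₀c : CompactSpace X₀ := QuasiCompact.compactSpace_of_compactSpace (f₀ ≫ g₀)
  have hX₀q : QuasiSeparatedSpace X₀ := quasiSeparatedSpace_of_quasiSeparated (f₀ ≫ g₀)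
  have hf₀ : LocallyOfFinitePresentation f₀ :=
    Groth.Agent.Helper2.LfpComp.locallyOfFinitePresentation_of_comp f₀ g₀ inferInstance
      inferInstance
  have hf₀c : QuasiCompact f₀ := QuasiCompact.of_comp f₀ g₀
  have hf₀q : QuasiSeparated f₀ := QuasiSeparated.of_comp f₀ g₀
  let g₀' : pullback f₀ f₀ ⟶ D.obj i₀ := pullback.fst f₀ f₀ ≫ f₀ ≫ g₀
  have hZc : CompactSpace ↥(pullback f₀ f₀) :=
    QuasiCompact.compactSpace_of_compactSpace (pullback.fst f₀ f₀)
  have hZq : QuasiSeparatedSpace ↥(pullback f₀ f₀) :=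
    quasiSeparatedSpace_of_quasiSeparated (pullback.fst f₀ f₀)
  have hg₀' : LocallyOfFinitePresentation g₀' := by dsimp only [g₀']; infer_instance
  have hΔ : LocallyOfFinitePresentation (pullback.diagonal f₀) :=
    Groth.Agent.Helper2.LfpComp.locallyOfFinitePresentation_of_comp (pullback.diagonal f₀) g₀'
      (by simp only [g₀', pullback.diagonal_fst_assoc]; infer_instance) inferInstance
  have hΔc : QuasiCompact (pullback.diagonal f₀) := hf₀q.1
  have hE : IsConstructible (Set.range (pullback.diagonal f₀).base)ᶜ := by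
    have := Scheme.Hom.isConstructible_image (pullback.diagonal f₀) (s := Set.univ)
      IsConstructible.univ
    rw [Set.image_univ] at this
    exact this.compl
  have hdiag : Surjective (pullback.diagonal (limMap D c i₀ f₀ g₀)) := by
    have := h
    rw [universallyInjective_eq_diagonal] at this
    exact this
  -- the comparison from the base change of the diagonal object
  let q := pullback.snd (c.π.app i₀) g₀
  let y : pullback (c.π.app i₀) g₀' ⟶ pullback (c.π.app i₀) g₀ :=
    pullback.lift (pullback.fst _ _) (pullback.snd _ g₀' ≫ pullback.fst f₀ f₀ ≫ f₀)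
      (by rw [pullback.condition]; simp [g₀'])
  let x₁ : pullback (c.π.app i₀) g₀' ⟶ pullback f₀ q :=
    pullback.lift (pullback.snd _ g₀' ≫ pullback.fst f₀ f₀) y (by simp [y, q])
  let x₂ : pullback (c.π.app i₀) g₀' ⟶ pullback f₀ q :=
    pullback.lift (pullback.snd _ g₀' ≫ pullback.snd f₀ f₀) y
      (by simp [y, q, pullback.condition])
  let s : pullback (c.π.app i₀) g₀' ⟶ pullback (pullback.snd f₀ q) (pullback.snd f₀ q) :=
    pullback.lift x₁ x₂ (by simp [x₁, x₂])
  have hs : s ≫ diagMap f₀ q = pullback.snd _ g₀' := by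
    apply pullback.hom_ext <;> simp [s, x₁, x₂, diagMap]
  obtain ⟨j, hj⟩ := LimSurj.exists_preimage_eq_empty hc i₀ g₀' _ hE (by
    rw [Set.eq_empty_iff_forall_notMem]
    intro z hz
    apply hz
    obtain ⟨x, hx⟩ := hdiag.surj (s.base z)
    refine ⟨(pullback.fst f₀ q).base x, ?_⟩
    rw [← hs, Scheme.Hom.comp_apply, ← hx, ← Scheme.Hom.comp_apply, ← Scheme.Hom.comp_apply,
      (isPullback_diag f₀ q).w])
  refine ⟨j, ?_⟩
  rw [universallyInjective_eq_diagonal]
  change Surjective (pullback.diagonal (stageMap D i₀ f₀ g₀ j))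
  refine ⟨fun w ↦ ?_⟩
  let qj := pullback.snd (D.map j.hom) g₀
  apply mem_range_diagonal f₀ qj w
  by_contra hcon
  let t : pullback (pullback.snd f₀ qj) (pullback.snd f₀ qj) ⟶ pullback (D.map j.hom) g₀' :=
    pullback.lift (pullback.fst _ _ ≫ pullback.snd f₀ qj ≫ pullback.fst (D.map j.hom) g₀)
      (diagMap f₀ qj) (by
        simp only [Category.assoc, pullback.condition, diagMap, g₀', pullback.lift_fst_assoc]
        simp [qj, pullback.condition_assoc])
  have ht : t ≫ pullback.snd (D.map j.hom) g₀' = diagMap f₀ qj := by simp [t]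
  have : t.base w ∈ (pullback.snd (D.map j.hom) g₀').base ⁻¹'
      (Set.range (pullback.diagonal f₀).base)ᶜ := by
    change (pullback.snd (D.map j.hom) g₀').base (t.base w) ∈
      (Set.range (pullback.diagonal f₀).base)ᶜ
    rw [← Scheme.Hom.comp_apply, ht]
    exact hcon
  rw [hj] at this
  exact this

end Groth.Agent.Lead.LimUInj
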