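import Mathlib.AlgebraicGeometry.Morphisms.QuasiCompact
import Mathlib.RingTheory.Ideal.MinimalPrime.Localization
import Mathlib.RingTheory.Spectrum.Prime.Topology

set_option autoImplicit false
universe u

namespace Groth.Agent.Lead.QcClosure

open AlgebraicGeometry CategoryTheory TopologicalSpace

/-- ring level: a point in the closure of the range of `comap φ` is a specialization of a point
of the range -/
theorem affine_core {A B : Type*} [CommRing A] [CommRing B] (φ : A →+* B) (p : PrimeSpectrum A)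
    (hp : p ∈ closure (Set.range (PrimeSpectrum.comap φ))) :
    ∃ q : PrimeSpectrum B, PrimeSpectrum.comap φ q ⤳ p := by
  rw [PrimeSpectrum.closure_range_comap] at hp
  have hle : RingHom.ker φ ≤ p.asIdeal := hp
  obtain ⟨𝔮, h𝔮min, h𝔮le⟩ := Ideal.exists_minimalPrimes_le hle
  have h𝔮min' : 𝔮 ∈ ((⊥ : Ideal B).comap φ).minimalPrimes := by
    rwa [← RingHom.ker_eq_comap_bot]
  obtain ⟨p', hp', -, hcomap⟩ := Ideal.exists_comap_eq_of_mem_minimalPrimes φ 𝔮 h𝔮min'
  refine ⟨⟨p', hp'⟩, ?_⟩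
  rw [← PrimeSpectrum.le_iff_specializes]
  change (PrimeSpectrum.comap φ ⟨p', hp'⟩).asIdeal ≤ p.asIdeal
  rw [PrimeSpectrum.comap_asIdeal, hcomap]
  exact h𝔮le

/-- For a quasi-compact morphism, every point of the closure of the image is a specialization of
a point of the image. -/
theorem exists_specializes_of_mem_closure_range {X Y : Scheme.{u}} (f : X ⟶ Y) [QuasiCompact f]
    (z : Y) (hz : z ∈ closure (Set.range f.base)) : ∃ x : X, f x ⤳ z := by
  obtain ⟨V, hV, hzV, -⟩ := exists_isAffineOpen_mem_and_subset (x := z) (U := ⊤) trivial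
  have hcomp : IsCompact (f ⁻¹ᵁ V : Set X) := f.isCompact_preimage hV.isCompact
  obtain ⟨s, hs, hsU⟩ := isCompact_iff_finite_and_eq_biUnion_affineOpens.mp hcomp
  -- z lies in the closure of f '' (f ⁻¹ V)
  have hz1 : z ∈ closure (f.base '' (f ⁻¹ᵁ V : Set X)) := by
    rw [mem_closure_iff] at hz ⊢
    intro W hW hzW
    obtain ⟨y, ⟨hyW, hyV⟩, ⟨x, rfl⟩⟩ := hz (W ∩ V) (hW.inter V.isOpen) ⟨hzW, hzV⟩
    exact ⟨f x, hyW, ⟨x, hyV, rfl⟩⟩
  have hUeq : (f ⁻¹ᵁ V : Set X) = ⋃ i ∈ s, ((i : X.Opens) : Set X) := by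
    rw [hsU]; simp
  rw [hUeq, Set.image_iUnion₂, hs.closure_biUnion] at hz1
  obtain ⟨U, hUs, hzU⟩ := Set.mem_iUnion₂.mp hz1
  have hUV : (U : X.Opens) ≤ f ⁻¹ᵁ V := by
    rw [hsU]; exact le_iSup₂ (f := fun (i : X.affineOpens) (_ : i ∈ s) => (i : X.Opens)) U hUs
  have hU : IsAffineOpen (U : X.Opens) := U.2
  let φ := f.appLE V U hUV
  have hfac : Spec.map φ ≫ hV.fromSpec = hU.fromSpec ≫ f :=
    IsAffineOpen.SpecMap_appLE_fromSpec f hV hU hUV
  let p : ↥(Spec Γ(Y, V)) := hV.primeIdealOf ⟨z, hzV⟩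
  have hp : hV.fromSpec p = z := hV.fromSpec_primeIdealOf ⟨z, hzV⟩
  let R : Set ↥(Spec Γ(Y, V)) := Set.range (Spec.map φ).base
  have himg : f.base '' ((U : X.Opens) : Set X) = hV.fromSpec.base '' R := by
    rw [← hU.range_fromSpec, ← Set.range_comp, ← Set.range_comp]
    have h1 : (f.base ∘ hU.fromSpec.base : _ → _) = (hU.fromSpec ≫ f).base := rfl
    have h2 : (hV.fromSpec.base ∘ (Spec.map φ).base : _ → _) = (Spec.map φ ≫ hV.fromSpec).base := rfl
    rw [h1, h2, hfac]
  have hp' : p ∈ closure R := by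
    have hcl := hV.fromSpec.isOpenEmbedding.isEmbedding.closure_eq_preimage_closure_image R
    have hmem : p ∈ hV.fromSpec.base ⁻¹' closure (hV.fromSpec.base '' R) := by
      rw [Set.mem_preimage]
      have : hV.fromSpec.base p = z := hp
      rw [this, ← himg]
      exact hzU
    exact (Set.ext_iff.mp hcl p).mpr hmem
  obtain ⟨q, hq⟩ := affine_core φ.hom p hp'
  refine ⟨hU.fromSpec q, ?_⟩
  have h1 : f (hU.fromSpec q) = hV.fromSpec ((Spec.map φ) q) := by
    rw [← Scheme.Hom.comp_apply, ← Scheme.Hom.comp_apply, hfac]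
  rw [h1, ← hp]
  exact Specializes.map (f := hV.fromSpec.base) hq hV.fromSpec.continuous

end Groth.Agent.Lead.QcClosure
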