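import Mathlib
import Groth.Prelude.Def_MoreMor
import Groth.Agent.Lead.FEtLift

set_option autoImplicit false
universe u
open CategoryTheory CategoryTheory.Limits AlgebraicGeometry TopologicalSpace

namespace Groth.Agent.Lead.FEtLift

/-- `Spec (A ⧸ I) ⟶ Spec A` is a first order thickening when `I ^ 2 = ⊥`. -/
theorem isFirstOrderThickening_specMap_mk {A : Type u} [CommRing A] (I : Ideal A) (hI : I ^ 2 = ⊥) :
    MoreMor.IsFirstOrderThickening (Spec.map (CommRingCat.ofHom (Ideal.Quotient.mk I))) := by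
  have hci : IsClosedImmersion (Spec.map (CommRingCat.ofHom (Ideal.Quotient.mk I))) :=
    IsClosedImmersion.spec_of_surjective _ Ideal.Quotient.mk_surjective
  refine ⟨⟨hci, ⟨specMap_mk_surjective I hI⟩⟩, ?_⟩
  apply Scheme.IdealSheafData.ext_of_isAffine
  rw [Scheme.IdealSheafData.ideal_mul, Pi.mul_apply, Scheme.IdealSheafData.ideal_bot,
    Scheme.Hom.ker_apply]
  rw [Pi.bot_apply, eq_bot_iff, Ideal.mul_le]
  intro x hx y hy
  rw [RingHom.mem_ker] at hx hy
  have hnat := Scheme.ΓSpecIso_naturality (CommRingCat.ofHom (Ideal.Quotient.mk I))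
  have key : ∀ z, ((Spec.map (CommRingCat.ofHom (Ideal.Quotient.mk I))).appTop.hom z = 0) →
      (Scheme.ΓSpecIso (CommRingCat.of A)).hom.hom z ∈ I := by
    intro z hz
    have h1 := congrArg (fun h => h.hom z) hnat
    simp only [CommRingCat.hom_comp, RingHom.coe_comp, Function.comp_apply] at h1
    rw [hz, map_zero] at h1
    have h2 : Ideal.Quotient.mk I ((Scheme.ΓSpecIso (CommRingCat.of A)).hom.hom z) = 0 := h1.symm
    exact Ideal.Quotient.eq_zero_iff_mem.1 h2
  have hx' := key x hx
  have hy' := key y hy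
  have hxy : (Scheme.ΓSpecIso (CommRingCat.of A)).hom.hom (x * y) ∈ I ^ 2 := by
    rw [map_mul, pow_two]
    exact Ideal.mul_mem_mul hx' hy'
  rw [hI] at hxy
  have h3 : (Scheme.ΓSpecIso (CommRingCat.of A)).hom.hom (x * y) = 0 := by simpa using hxy
  have hinj : Function.Injective (Scheme.ΓSpecIso (CommRingCat.of A)).hom.hom :=
    (ConcreteCategory.bijective_of_isIso (Scheme.ΓSpecIso (CommRingCat.of A)).hom).1
  have h4 : x * y = 0 := hinj (by rw [h3, map_zero])
  rw [h4]
  exact Submodule.zero_mem _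

/-- S1487 as a library statement. -/
theorem isFormallyEtaleHom_iff {X Y : Scheme.{u}} (f : X ⟶ Y) :
    MoreMor.IsFormallyEtaleHom f ↔ ∀ (U : X.Opens) (V : Y.Opens) (hU : IsAffineOpen U) (hV : IsAffineOpen V) (hUV : U ≤ f ⁻¹ᵁ V),
      letI := (f.appLE V U hUV).hom.toAlgebra
      Algebra.FormallyEtale Γ(Y, V) Γ(X, U) := by
  constructor
  · intro hf U V hU hV hUV
    exact formallyEtale_appLE f hf U V hU hV hUV
  · intro hfe A _ I hI a b comm
    exact exists_unique_lift f hfe _ (isFirstOrderThickening_specMap_mk I hI) a b comm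

end Groth.Agent.Lead.FEtLift
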