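import Mathlib
import Groth.Agent.Lead.FD9
import Groth.Agent.Lead.FD10

/-!
# FD11: finite presentation descends along faithfully flat finitely presented maps
-/

set_option autoImplicit false
universe u
open TensorProduct

namespace Groth.Agent.Lead.FD11

/-- If the extension of `I` along `f` is finitely generated, it is already the extension of a
finitely generated subideal. -/
lemma exists_fg_le_map_eq {A B : Type*} [CommRing A] [CommRing B] (f : A →+* B) (I : Ideal A)
    (h : (I.map f).FG) : ∃ I' : Ideal A, I' ≤ I ∧ I'.FG ∧ I'.map f = I.map f := by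
  classical
  have h' : (Submodule.span B (f '' (I : Set A))).FG := h
  obtain ⟨s', hs', hspan⟩ := (Submodule.fg_span_iff_fg_span_finset_subset _).mp h'
  obtain ⟨t, ht, rfl⟩ := Finset.subset_set_image_iff.mp hs'
  refine ⟨Ideal.span (t : Set A), Ideal.span_le.mpr ht, ⟨t, rfl⟩, ?_⟩
  rw [Ideal.map_span]
  have : I.map f = Submodule.span B (f '' (I : Set A)) := rfl
  rw [this, hspan]
  simp [Ideal.span]

/-- If `D` is a faithfully flat `C`-algebra, an ideal of `C` whose extension to `D` is finitely
generated is finitely generated. -/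
lemma fg_of_map_fg {C D : Type*} [CommRing C] [CommRing D] [Algebra C D]
    [Module.FaithfullyFlat C D] (I : Ideal C) (h : (I.map (algebraMap C D)).FG) : I.FG := by
  obtain ⟨I', hle, hfg, hmap⟩ := exists_fg_le_map_eq (algebraMap C D) I h
  have : I' = I := by
    rw [← Ideal.comap_map_eq_self_of_faithfullyFlat (B := D) I',
      ← Ideal.comap_map_eq_self_of_faithfullyFlat (B := D) I, hmap]
  exact this ▸ hfg


/-- Abstract form of the descent argument. -/
theorem fp_of_ker_eq_map {R C A B D : Type u} [CommRing R] [CommRing C] [CommRing A] [CommRing B]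
    [CommRing D] [Algebra R C] [Algebra R A] [Algebra R B] [Algebra R D] [Algebra C D]
    [IsScalarTower R C D] [Algebra.FinitePresentation R C] [Algebra.FinitePresentation C D]
    [Algebra.FinitePresentation R B] [Module.FaithfullyFlat C D]
    (ψ : C →ₐ[R] A) (hψ : Function.Surjective ψ) (θ : D →ₐ[R] B) (hθ : Function.Surjective θ)
    (hker : RingHom.ker θ.toRingHom = (RingHom.ker ψ.toRingHom).map (algebraMap C D)) :
    Algebra.FinitePresentation R A := by
  haveI : Algebra.FinitePresentation R D := Algebra.FinitePresentation.trans R C D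
  have h1 : (RingHom.ker θ.toRingHom).FG := Algebra.FinitePresentation.ker_fG_of_surjective θ hθ
  rw [hker] at h1
  exact Algebra.FinitePresentation.of_surjective hψ (fg_of_map_fg _ h1)

/-- Generic form: `Pl → A` surjective with `Pl` finitely presented over `R`. -/
theorem fp_of_surjective_of_faithfullyFlat {R Pl A B : Type u} [CommRing R] [CommRing Pl]
    [CommRing A] [CommRing B] [Algebra R Pl] [Algebra R A] [Algebra Pl A] [IsScalarTower R Pl A]
    [Algebra A B] [Algebra R B] [IsScalarTower R A B] [Algebra Pl B] [IsScalarTower Pl A B]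
    [Algebra.FinitePresentation R Pl] (hsurj : Function.Surjective (algebraMap Pl A))
    [Algebra.FinitePresentation R B] [Module.FaithfullyFlat A B]
    [Algebra.FinitePresentation A B] : Algebra.FinitePresentation R A := by
  classical
  let P := Algebra.Presentation.ofFinitePresentation A B
  haveI : P.HasCoeffs Pl := ⟨fun x _ => hsurj x⟩
  let e : A ⊗[Pl] P.ModelOfHasCoeffs Pl ≃ₐ[A] B := P.tensorModelOfHasCoeffsEquiv Pl
  haveI : Module.FaithfullyFlat A (A ⊗[Pl] P.ModelOfHasCoeffs Pl) :=
    Module.FaithfullyFlat.of_linearEquiv A B e.toLinearEquiv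
  obtain ⟨C, _, _, _, ψ, hC⟩ := FD10.exists_fp_faithfullyFlat (A₀ := Pl) (P.ModelOfHasCoeffs Pl) A
  have hψ : Function.Surjective ψ := fun a => by
    obtain ⟨p, rfl⟩ := hsurj a
    exact ⟨algebraMap Pl C p, by simp⟩
  letI : Algebra R C := ((algebraMap Pl C).comp (algebraMap R Pl)).toAlgebra
  haveI : IsScalarTower R Pl C := IsScalarTower.of_algebraMap_eq (fun _ => rfl)
  haveI : Algebra.FinitePresentation R C := Algebra.FinitePresentation.trans R Pl C
  haveI : SMulCommClass Pl R C := inferInstance
  haveI : IsScalarTower R C (C ⊗[Pl] P.ModelOfHasCoeffs Pl) := inferInstance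
  let θ₀ : C ⊗[Pl] P.ModelOfHasCoeffs Pl →ₐ[Pl] A ⊗[Pl] P.ModelOfHasCoeffs Pl :=
    Algebra.TensorProduct.map ψ (AlgHom.id Pl (P.ModelOfHasCoeffs Pl))
  have hθ₀ : Function.Surjective θ₀ :=
    Algebra.TensorProduct.map_surjective ψ (AlgHom.id Pl _) hψ Function.surjective_id
  have hk₀ : RingHom.ker θ₀ = (RingHom.ker ψ).map
      (Algebra.TensorProduct.includeLeft : C →ₐ[Pl] C ⊗[Pl] P.ModelOfHasCoeffs Pl) :=
    Algebra.TensorProduct.rTensor_ker ψ hψ
  let ψR : C →ₐ[R] A :=
    { ψ.toRingHom with
      commutes' := fun r => by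
        change ψ (algebraMap Pl C (algebraMap R Pl r)) = _
        rw [ψ.commutes, ← IsScalarTower.algebraMap_apply] }
  let θ : C ⊗[Pl] P.ModelOfHasCoeffs Pl →ₐ[R] B :=
    { e.toAlgHom.toRingHom.comp θ₀.toRingHom with
      commutes' := fun r => by
        change e (θ₀ ((algebraMap R C r) ⊗ₜ 1)) = _
        change e ((ψ (algebraMap Pl C (algebraMap R Pl r))) ⊗ₜ 1) = _
        rw [ψ.commutes, ← IsScalarTower.algebraMap_apply R Pl A]
        have : ((algebraMap R A r) ⊗ₜ[Pl] (1 : P.ModelOfHasCoeffs Pl)) =
            (algebraMap R A r) • (1 : A ⊗[Pl] P.ModelOfHasCoeffs Pl) := by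
          rw [Algebra.TensorProduct.one_def, TensorProduct.smul_tmul', smul_eq_mul, mul_one]
        rw [this, map_smul, map_one, Algebra.smul_def, mul_one,
          ← IsScalarTower.algebraMap_apply] }
  refine fp_of_ker_eq_map (D := C ⊗[Pl] P.ModelOfHasCoeffs Pl) ψR hψ θ
    (e.surjective.comp hθ₀) ?_
  have h1 : RingHom.ker θ.toRingHom = RingHom.ker θ₀ := by
    ext x
    simp only [RingHom.mem_ker]
    change e (θ₀ x) = 0 ↔ θ₀ x = 0
    exact map_eq_zero_iff e e.injective
  rw [h1, hk₀]
  rfl

/-- Finite presentation of `A` over `R` can be tested after a faithfully flat finitely presented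
extension `A → B`. -/
theorem finitePresentation_of_faithfullyFlat {R A B : Type u} [CommRing R] [CommRing A]
    [CommRing B] [Algebra R A] [Algebra A B] [Algebra R B] [IsScalarTower R A B]
    [Algebra.FinitePresentation R B] [Module.FaithfullyFlat A B]
    [Algebra.FinitePresentation A B] : Algebra.FinitePresentation R A := by
  haveI : Algebra.FiniteType R A := FD9.finiteType_of_faithfullyFlat (R := R) (A := A) (B := B)
  obtain ⟨n, φ, hφ⟩ := Algebra.FiniteType.iff_quotient_mvPolynomial''.mp
    (inferInstance : Algebra.FiniteType R A)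
  letI : Algebra (MvPolynomial (Fin n) R) A := φ.toRingHom.toAlgebra
  haveI : IsScalarTower R (MvPolynomial (Fin n) R) A :=
    IsScalarTower.of_algebraMap_eq (fun r => (φ.commutes r).symm)
  letI : Algebra (MvPolynomial (Fin n) R) B := ((algebraMap A B).comp φ.toRingHom).toAlgebra
  haveI : IsScalarTower (MvPolynomial (Fin n) R) A B :=
    IsScalarTower.of_algebraMap_eq (fun _ => rfl)
  exact fp_of_surjective_of_faithfullyFlat (R := R) (Pl := MvPolynomial (Fin n) R) (A := A)
    (B := B) hφ

end Groth.Agent.Lead.FD11
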