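import Mathlib

/-!
# FD13: descending ring-hom-local properties along pointwise fppf covers of the source
-/

set_option autoImplicit false
universe u

open AlgebraicGeometry CategoryTheory

namespace Groth.Agent.Lead.FD13

/-- Surjectivity on spectra of `f.appLE V W` when `V ⊆ f(W)`. -/
lemma comap_appLE_surjective {X Y : Scheme.{u}} (f : X ⟶ Y) {V : Y.Opens} {W : X.Opens}
    (hV : IsAffineOpen V) (hW : IsAffineOpen W) (e : W ≤ f ⁻¹ᵁ V)
    (hsurj : ∀ y ∈ V, ∃ x ∈ W, f x = y) :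
    Function.Surjective (PrimeSpectrum.comap (f.appLE V W e).hom) := by
  intro p
  have hy : hV.fromSpec p ∈ V := by
    have : hV.fromSpec p ∈ Set.range hV.fromSpec := ⟨p, rfl⟩
    rw [hV.range_fromSpec] at this
    exact this
  obtain ⟨x, hxW, hx⟩ := hsurj _ hy
  have : x ∈ Set.range hW.fromSpec := by rw [hW.range_fromSpec]; exact hxW
  obtain ⟨q, rfl⟩ := this
  refine ⟨q, ?_⟩
  apply hV.fromSpec.isOpenEmbedding.injective
  have h := IsAffineOpen.SpecMap_appLE_fromSpec f hV hW e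
  have h2 : (Spec.map (f.appLE V W e) ≫ hV.fromSpec) q = (hW.fromSpec ≫ f) q := by rw [h]
  rw [← hx]
  exact h2

/-- Generic descent of a ring-hom-induced property along a pointwise fppf cover of the source. -/
theorem of_pointwise_fppf (Q : MorphismProperty Scheme.{u})
    {P : ∀ {R S : Type u} [CommRing R] [CommRing S], (R →+* S) → Prop}
    [HasRingHomProperty Q P]
    (hPs : RingHom.StableUnderCompositionWithLocalizationAwaySource P)
    (hP : ∀ {R A B : Type u} [CommRing R] [CommRing A] [CommRing B] (φ : R →+* A) (ψ : A →+* B),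
      ψ.Flat → Function.Surjective (PrimeSpectrum.comap ψ) → ψ.FinitePresentation →
      P (ψ.comp φ) → P φ)
    {Y Z : Scheme.{u}} (g : Y ⟶ Z)
    (H : ∀ y : Y, ∃ (X : Scheme.{u}) (f : X ⟶ Y) (_ : Flat f)
      (_ : LocallyOfFinitePresentation f), y ∈ Set.range f ∧ Q (f ≫ g)) : Q g := by
  rw [HasRingHomProperty.iff_exists_appLE (P := Q) hPs]
  intro y
  obtain ⟨X, f, _, _, ⟨x, rfl⟩, hfg⟩ := H y
  -- affine open of `Z` around `g (f x)`
  obtain ⟨U₀, hU₀, hgy, -⟩ := TopologicalSpace.Opens.isBasis_iff_nbhd.mp Z.isBasis_affineOpens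
    (TopologicalSpace.Opens.mem_top (g (f x)))
  obtain ⟨V₀, hV₀, hy, eV₀⟩ := TopologicalSpace.Opens.isBasis_iff_nbhd.mp Y.isBasis_affineOpens
    (show f x ∈ g ⁻¹ᵁ U₀ from hgy)
  obtain ⟨W₀, hW₀, hx, eW₀⟩ := TopologicalSpace.Opens.isBasis_iff_nbhd.mp X.isBasis_affineOpens
    (show x ∈ f ⁻¹ᵁ V₀ from hy)
  -- the image of `W₀` is open
  let T : Y.Opens := ⟨f '' (W₀ : Set X), f.isOpenMap _ W₀.2⟩
  have hyT : f x ∈ T := ⟨x, hx, rfl⟩
  obtain ⟨s, hsT, hys⟩ := hV₀.exists_basicOpen_le ⟨f x, hyT⟩ hy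
  have hV : IsAffineOpen (Y.basicOpen s) := hV₀.basicOpen s
  have hW : IsAffineOpen (X.basicOpen (f.appLE V₀ W₀ eW₀ s)) := hW₀.basicOpen _
  have hWeq : X.basicOpen (f.appLE V₀ W₀ eW₀ s) = W₀ ⊓ f ⁻¹ᵁ (Y.basicOpen s) := by
    simp [Scheme.Hom.appLE, ← Scheme.preimage_basicOpen]
  have e' : X.basicOpen (f.appLE V₀ W₀ eW₀ s) ≤ f ⁻¹ᵁ (Y.basicOpen s) := by
    rw [hWeq]; exact inf_le_right
  have eVU : Y.basicOpen s ≤ g ⁻¹ᵁ U₀ := (Y.basicOpen_le s).trans eV₀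
  refine ⟨⟨U₀, hU₀⟩, ⟨Y.basicOpen s, hV⟩, hys, eVU, ?_⟩
  refine hP (g.appLE U₀ (Y.basicOpen s) eVU).hom (f.appLE (Y.basicOpen s) _ e').hom ?_ ?_ ?_ ?_
  · exact HasRingHomProperty.appLE (P := @Flat) f inferInstance ⟨_, hV⟩ ⟨_, hW⟩ e'
  · refine comap_appLE_surjective f hV hW e' ?_
    intro y' hy'
    obtain ⟨x', hx'W, rfl⟩ := hsT hy'
    refine ⟨x', ?_, rfl⟩
    rw [hWeq]
    exact ⟨hx'W, hy'⟩
  · exact HasRingHomProperty.appLE (P := @LocallyOfFinitePresentation) f inferInstance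
      ⟨_, hV⟩ ⟨_, hW⟩ e'
  · have := HasRingHomProperty.appLE (P := Q) (f ≫ g) hfg ⟨U₀, hU₀⟩ ⟨_, hW⟩
      (e'.trans (by
        intro z hz
        exact eVU hz))
    rw [← Scheme.Hom.appLE_comp_appLE _ _ _ _ _ eVU e'] at this
    exact this

end Groth.Agent.Lead.FD13
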