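import Mathlib
import Groth.Agent.Lead.FD11
import Groth.Agent.Lead.FD13

/-!
# FD14: locally of finite type / finite presentation descend along fppf covers of the source
-/

set_option autoImplicit false
universe u

open AlgebraicGeometry CategoryTheory

namespace Groth.Agent.Lead.FD14

lemma finiteType_source : RingHom.StableUnderCompositionWithLocalizationAwaySource
    @RingHom.FiniteType := by
  intro R S T _ _ _ _ r _ f hf
  refine hf.comp ?_
  have : Algebra.FiniteType R S := IsLocalization.finiteType_of_monoid_fg (.powers r) S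
  exact RingHom.finiteType_algebraMap.mpr this

lemma finitePresentation_source : RingHom.StableUnderCompositionWithLocalizationAwaySource
    @RingHom.FinitePresentation := by
  intro R S T _ _ _ _ r _ f hf
  refine hf.comp ?_
  have : Algebra.FinitePresentation R S := IsLocalization.Away.finitePresentation r
  exact RingHom.finitePresentation_algebraMap.mpr this

lemma finiteType_descent {R A B : Type u} [CommRing R] [CommRing A] [CommRing B] (φ : R →+* A)
    (ψ : A →+* B) (h1 : ψ.Flat) (h2 : Function.Surjective (PrimeSpectrum.comap ψ))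
    (h3 : ψ.FinitePresentation) (h4 : (ψ.comp φ).FiniteType) : φ.FiniteType := by
  algebraize [φ, ψ, ψ.comp φ]
  have : Module.FaithfullyFlat A B := Module.FaithfullyFlat.of_comap_surjective h2
  exact FD9.finiteType_of_faithfullyFlat (R := R) (A := A) (B := B)

lemma finitePresentation_descent {R A B : Type u} [CommRing R] [CommRing A] [CommRing B]
    (φ : R →+* A) (ψ : A →+* B) (h1 : ψ.Flat) (h2 : Function.Surjective (PrimeSpectrum.comap ψ))
    (h3 : ψ.FinitePresentation) (h4 : (ψ.comp φ).FinitePresentation) : φ.FinitePresentation := by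
  algebraize [φ, ψ, ψ.comp φ]
  have : Module.FaithfullyFlat A B := Module.FaithfullyFlat.of_comap_surjective h2
  exact FD11.finitePresentation_of_faithfullyFlat (R := R) (A := A) (B := B)

theorem locallyOfFiniteType_of_pointwise {Y Z : Scheme.{u}} (g : Y ⟶ Z)
    (H : ∀ y : Y, ∃ (X : Scheme.{u}) (f : X ⟶ Y) (_ : Flat f)
      (_ : LocallyOfFinitePresentation f), y ∈ Set.range f ∧ LocallyOfFiniteType (f ≫ g)) :
    LocallyOfFiniteType g :=
  FD13.of_pointwise_fppf @LocallyOfFiniteType finiteType_source finiteType_descent g H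

theorem locallyOfFinitePresentation_of_pointwise {Y Z : Scheme.{u}} (g : Y ⟶ Z)
    (H : ∀ y : Y, ∃ (X : Scheme.{u}) (f : X ⟶ Y) (_ : Flat f)
      (_ : LocallyOfFinitePresentation f), y ∈ Set.range f ∧
        LocallyOfFinitePresentation (f ≫ g)) :
    LocallyOfFinitePresentation g :=
  FD13.of_pointwise_fppf @LocallyOfFinitePresentation finitePresentation_source
    finitePresentation_descent g H

theorem locallyOfFiniteType_of_fppf_comp {X Y Z : Scheme.{u}} (f : X ⟶ Y) (g : Y ⟶ Z)
    [Surjective f] [Flat f] [LocallyOfFinitePresentation f] [LocallyOfFiniteType (f ≫ g)] :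
    LocallyOfFiniteType g :=
  locallyOfFiniteType_of_pointwise g fun y =>
    ⟨X, f, inferInstance, inferInstance, f.surjective y, inferInstance⟩

theorem locallyOfFinitePresentation_of_fppf_comp {X Y S : Scheme.{u}} (f : X ⟶ Y) (q : Y ⟶ S)
    [Surjective f] [Flat f] [LocallyOfFinitePresentation f]
    [LocallyOfFinitePresentation (f ≫ q)] : LocallyOfFinitePresentation q :=
  locallyOfFinitePresentation_of_pointwise q fun y =>
    ⟨X, f, inferInstance, inferInstance, f.surjective y, inferInstance⟩

theorem locallyOfFiniteType_iff_of_mem_fppfPrecoverage {X Y : Scheme.{u}} (f : X ⟶ Y)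
    {R : Presieve X} (hR : R ∈ Scheme.fppfPrecoverage X) :
    LocallyOfFiniteType f ↔ ∀ ⦃U : Scheme.{u}⦄ ⦃g : U ⟶ X⦄, R g → LocallyOfFiniteType (g ≫ f) := by
  have hR1 : ∀ x : X, ∃ (U : Scheme.{u}) (g : U ⟶ X), R g ∧ x ∈ Set.range g := by
    have := hR.1
    rw [Presieve.mem_comap_jointlySurjectivePrecoverage_iff] at this
    exact this
  have hR2 : ∀ {U : Scheme.{u}} (g : U ⟶ X), R g → Flat g ∧ LocallyOfFinitePresentation g :=
    fun g hg => hR.2 hg
  constructor
  · intro hf U g hg
    obtain ⟨h1, h2⟩ := hR2 g hg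
    infer_instance
  · intro h
    refine locallyOfFiniteType_of_pointwise f fun x => ?_
    obtain ⟨U, g, hg, hx⟩ := hR1 x
    exact ⟨U, g, (hR2 g hg).1, (hR2 g hg).2, hx, h hg⟩

theorem locallyOfFiniteType_isLocalAtSource_fppf :
    MorphismProperty.IsLocalAtSource (@LocallyOfFiniteType : MorphismProperty Scheme.{u})
      Scheme.fppfPrecoverage :=
  MorphismProperty.IsLocalAtSource.mk_of_iff fun {X Y} {f} {R} hR =>
    locallyOfFiniteType_iff_of_mem_fppfPrecoverage f hR

theorem locallyOfFinitePresentation_iff_of_mem_fppfPrecoverage {X Y : Scheme.{u}} (f : X ⟶ Y)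
    {R : Presieve X} (hR : R ∈ Scheme.fppfPrecoverage X) :
    LocallyOfFinitePresentation f ↔
      ∀ ⦃U : Scheme.{u}⦄ ⦃g : U ⟶ X⦄, R g → LocallyOfFinitePresentation (g ≫ f) := by
  have hR1 : ∀ x : X, ∃ (U : Scheme.{u}) (g : U ⟶ X), R g ∧ x ∈ Set.range g := by
    have := hR.1
    rw [Presieve.mem_comap_jointlySurjectivePrecoverage_iff] at this
    exact this
  have hR2 : ∀ {U : Scheme.{u}} (g : U ⟶ X), R g → Flat g ∧ LocallyOfFinitePresentation g :=
    fun g hg => hR.2 hg
  constructor
  · intro hf U g hg
    obtain ⟨h1, h2⟩ := hR2 g hg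
    infer_instance
  · intro h
    refine locallyOfFinitePresentation_of_pointwise f fun x => ?_
    obtain ⟨U, g, hg, hx⟩ := hR1 x
    exact ⟨U, g, (hR2 g hg).1, (hR2 g hg).2, hx, h hg⟩

theorem locallyOfFinitePresentation_isLocalAtSource_fppf :
    MorphismProperty.IsLocalAtSource (@LocallyOfFinitePresentation : MorphismProperty Scheme.{u})
      Scheme.fppfPrecoverage :=
  MorphismProperty.IsLocalAtSource.mk_of_iff fun {X Y} {f} {R} hR =>
    locallyOfFinitePresentation_iff_of_mem_fppfPrecoverage f hR

end Groth.Agent.Lead.FD14
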