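import Mathlib

set_option autoImplicit false

namespace Groth.Agent.Lead.KSwapA
open CategoryTheory Category Limits CochainComplex HomologicalComplex HomComplex mappingCone

variable {C : Type*} [Category C] [Preadditive C] [HasBinaryBiproducts C]
variable {K : CochainComplex C ℤ} (α β : K ⟶ K) (comm : α ≫ β = β ≫ α)

/-- the endomorphism of `cone α` induced by `β` -/
noncomputable def ind : mappingCone α ⟶ mappingCone α := mappingCone.map α α β β comm

@[reassoc (attr := simp)]
lemma inr_f_ind_f (p : ℤ) : (inr α).f p ≫ (ind α β comm).f p = β.f p ≫ (inr α).f p := by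
  simp [ind, mappingCone.map]

@[reassoc (attr := simp)]
lemma inl_v_ind_f (p q : ℤ) (h : p + (-1) = q) :
    (inl α).v p q h ≫ (ind α β comm).f q = β.f p ≫ (inl α).v p q h := by
  simp [ind, mappingCone.map]

@[reassoc (attr := simp)]
lemma ind_f_fst_v (p q : ℤ) (h : p + 1 = q) :
    (ind α β comm).f p ≫ (fst α).1.v p q h = (fst α).1.v p q h ≫ β.f q := by
  rw [ext_from_iff _ q p h]
  simp

@[reassoc (attr := simp)]
lemma ind_f_snd_v (p : ℤ) :
    (ind α β comm).f p ≫ (snd α).v p p (add_zero p) = (snd α).v p p (add_zero p) ≫ β.f p := by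
  rw [ext_from_iff _ (p + 1) p rfl]
  simp

lemma inr_ind : inr α ≫ ind α β comm = β ≫ inr α := by
  ext p; simp

/-- the `inr` part of the swap -/
noncomputable def δ₀ : mappingCone α ⟶ mappingCone (ind β α comm.symm) :=
  mappingCone.map α (ind β α comm.symm) (inr β) (inr β) (inr_ind β α comm.symm).symm

@[reassoc (attr := simp)]
lemma inr_f_δ₀_f (p : ℤ) : (inr α).f p ≫ (δ₀ α β comm).f p =
    (inr β).f p ≫ (inr (ind β α comm.symm)).f p := by
  simp [δ₀, mappingCone.map]

@[reassoc (attr := simp)]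
lemma inl_v_δ₀_f (p q : ℤ) (h : p + (-1) = q) :
    (inl α).v p q h ≫ (δ₀ α β comm).f q =
      (inr β).f p ≫ (inl (ind β α comm.symm)).v p q h := by
  simp [δ₀, mappingCone.map]

/-- the `inl` part of the swap -/
noncomputable def γ : Cochain (mappingCone α) (mappingCone (ind β α comm.symm)) (-1) :=
  Cochain.mk (fun p q hpq =>
    -(fst α).1.v p (p + 1) rfl ≫ (inl β).v (p + 1) p (by omega) ≫
        (inl (ind β α comm.symm)).v p q hpq +
      (snd α).v p p (add_zero p) ≫ (inl β).v p q hpq ≫ (inr (ind β α comm.symm)).f q)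

lemma γ_spec : δ (-1) 0 (γ α β comm) = Cochain.ofHom (ind α β comm ≫ δ₀ α β comm) := by
  ext p
  rw [δ_v (-1) 0 (by simp) _ p p (by simp) (p - 1) (p + 1) rfl rfl]
  rw [ext_from_iff _ (p + 1) _ rfl, ext_to_iff _ _ (p + 1) rfl, ext_to_iff _ _ (p + 1) rfl]
  simp [γ, inl_v_d β (p + 1) p (p + 1 + 1) (by omega) (by omega),
    inl_v_d_assoc β p (p - 1) (p + 1) (by omega) (by omega),
    inl_v_d_assoc α (p + 1) p (p + 1 + 1) (by omega) (by omega)]

/-- the swap morphism `cone (β on cone α) ⟶ cone (α on cone β)` -/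
noncomputable def swapHom : mappingCone (ind α β comm) ⟶ mappingCone (ind β α comm.symm) :=
  desc _ (γ α β comm) (δ₀ α β comm) (γ_spec α β comm)

lemma swapHom_swapHom : swapHom α β comm ≫ swapHom β α comm.symm = 𝟙 _ := by
  ext n
  rw [ext_from_iff _ (n + 1) _ rfl, ext_from_iff _ (n + 1 + 1) _ rfl, ext_from_iff _ (n + 1) _ rfl]
  simp [swapHom, γ]

/-- the swap isomorphism `cone (β on cone α) ≅ cone (α on cone β)` -/
noncomputable def swapIso : mappingCone (ind α β comm) ≅ mappingCone (ind β α comm.symm) where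
  hom := swapHom α β comm
  inv := swapHom β α comm.symm
  hom_inv_id := swapHom_swapHom α β comm
  inv_hom_id := swapHom_swapHom β α comm.symm

section linear
variable {R : Type*} [CommRing R] [Linear R C]

lemma smul_id_comm (a b : R) (L : CochainComplex C ℤ) :
    (a • 𝟙 L) ≫ (b • 𝟙 L) = (b • 𝟙 L) ≫ (a • 𝟙 L) := by
  simp only [Linear.smul_comp, Linear.comp_smul, Category.id_comp]
  exact smul_comm b a _

lemma ind_smul (a b : R) (L : CochainComplex C ℤ) :
    ind (a • 𝟙 L) (b • 𝟙 L) (smul_id_comm a b L) =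
      b • 𝟙 (mappingCone (a • 𝟙 L)) := by
  ext n
  rw [ext_from_iff _ (n + 1) _ rfl]
  simp

/-- iterated cones of scalar multiplications commute -/
noncomputable def smulSwapIso (a b : R) (L : CochainComplex C ℤ) :
    mappingCone (b • 𝟙 (mappingCone (a • 𝟙 L))) ≅ mappingCone (a • 𝟙 (mappingCone (b • 𝟙 L))) :=
  eqToIso (by rw [ind_smul]) ≪≫ swapIso (a • 𝟙 L) (b • 𝟙 L) (smul_id_comm a b L) ≪≫
    eqToIso (by rw [ind_smul])

end linear

end Groth.Agent.Lead.KSwapA
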