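import Mathlib
import Groth.Prelude.Def_ega3
import Groth.Prelude.Def_LCI2
import Groth.Agent.Helper1.KoszulBasic
import Groth.Agent.Lead.KoszulFunA
import Groth.Agent.Lead.KoszulFunC
import Groth.Agent.Lead.KSwapA

set_option autoImplicit false

namespace Groth.Agent.Lead.KSwapB
open CategoryTheory Category Limits CochainComplex HomologicalComplex HomComplex CohIII
open Groth.Agent.Helper1.Koszul

universe u
variable {A : Type u} [CommRing A]

attribute [local instance] HasDerivedCategory.standard

/-- two complexes are isomorphic in the derived category -/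
def DEq (K L : CochainComplex (ModuleCat.{u} A) ℤ) : Prop :=
  Nonempty (DerivedCategory.Q.obj K ≅ DerivedCategory.Q.obj L)

namespace DEq
variable {K L M : CochainComplex (ModuleCat.{u} A) ℤ}

lemma refl (K : CochainComplex (ModuleCat.{u} A) ℤ) : DEq K K := ⟨Iso.refl _⟩

lemma symm (h : DEq K L) : DEq L K := ⟨h.some.symm⟩

lemma trans (h : DEq K L) (h' : DEq L M) : DEq K M := ⟨h.some ≪≫ h'.some⟩

lemma of_iso (e : K ≅ L) : DEq K L := ⟨DerivedCategory.Q.mapIso e⟩

lemma of_eq (e : K = L) : DEq K L := by subst e; exact refl _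

set_option maxHeartbeats 400000 in
lemma isZero_homology_iff (h : DEq K L) (n : ℤ) :
    IsZero (K.homology n) ↔ IsZero (L.homology n) := by
  obtain ⟨e⟩ := h
  have e1 := (DerivedCategory.homologyFunctorFactors (ModuleCat.{u} A) n).app K
  have e2 := (DerivedCategory.homologyFunctorFactors (ModuleCat.{u} A) n).app L
  have e3 := (DerivedCategory.homologyFunctor (ModuleCat.{u} A) n).mapIso e
  exact (e1.symm ≪≫ e3 ≪≫ e2).isZero_iff

lemma Q_map_eq_of_homotopy {K L : CochainComplex (ModuleCat.{u} A) ℤ} (f g : K ⟶ L)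
    (H : Homotopy f g) : DerivedCategory.Q.map f = DerivedCategory.Q.map g := by
  have h1 := DerivedCategory.quotientCompQhIso_hom_naturality f
  have h2 := DerivedCategory.quotientCompQhIso_hom_naturality g
  rw [HomotopyCategory.eq_of_homotopy _ _ H] at h1
  exact (cancel_epi _).1 (h1.symm.trans h2)

set_option maxHeartbeats 400000 in
lemma cone_gen {K₁ L₁ K₂ L₂ : CochainComplex (ModuleCat.{u} A) ℤ} (φ : K₁ ⟶ L₁) (ψ : K₂ ⟶ L₂)
    (e₁ : DerivedCategory.Q.obj K₁ ≅ DerivedCategory.Q.obj K₂)
    (e₂ : DerivedCategory.Q.obj L₁ ≅ DerivedCategory.Q.obj L₂)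
    (comm : DerivedCategory.Q.map φ ≫ e₂.hom = e₁.hom ≫ DerivedCategory.Q.map ψ) :
    DEq (mappingCone φ) (mappingCone ψ) := by
  have hK := DerivedCategory.mappingCone_triangle_distinguished φ
  have hL := DerivedCategory.mappingCone_triangle_distinguished ψ
  exact ⟨Pretriangulated.Triangle.π₃.mapIso
    (Pretriangulated.isoTriangleOfIso₁₂ _ _ hK hL e₁ e₂ comm)⟩

lemma cone (h : DEq K L) (a : A) :
    DEq (mappingCone (a • 𝟙 K)) (mappingCone (a • 𝟙 L)) := by
  obtain ⟨e⟩ := h
  refine cone_gen _ _ e e ?_
  rw [Functor.map_smul, Functor.map_smul, CategoryTheory.Functor.map_id,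
    CategoryTheory.Functor.map_id, Linear.smul_comp,
    Linear.comp_smul, Category.id_comp, Category.comp_id]

lemma cone_of_homotopy {K L : CochainComplex (ModuleCat.{u} A) ℤ} (φ ψ : K ⟶ L)
    (H : Homotopy φ ψ) : DEq (mappingCone φ) (mappingCone ψ) := by
  refine cone_gen _ _ (Iso.refl _) (Iso.refl _) ?_
  rw [Iso.refl_hom, Iso.refl_hom, Category.comp_id, Category.id_comp]
  exact Q_map_eq_of_homotopy _ _ H

end DEq

section koszul
variable (M : ModuleCat.{u} A)

/-- the Koszul complex does not depend on the order of the elements -/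
theorem nonempty_iso_of_perm {l l' : List A} (h : l.Perm l') :
    Nonempty (koszulCx M l ≅ koszulCx M l') := by
  induction h with
  | nil => exact ⟨Iso.refl _⟩
  | cons x _ ih =>
    obtain ⟨e⟩ := ih
    exact ⟨KoszulFunA.coneIso _ _ e e (smul_id_comm x e.hom)⟩
  | swap x y l => exact ⟨KSwapA.smulSwapIso (R := A) x y (koszulCx M l)⟩
  | trans _ _ ih₁ ih₂ => exact ⟨ih₁.some ≪≫ ih₂.some⟩

/-- elements of the ideal of the tail can be replaced by zeros -/
theorem deq_replicate_zero (f : List A) : ∀ g : List A,
    (∀ x ∈ g, x ∈ Ideal.span {a | a ∈ f}) →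
      DEq (koszulCx M (g ++ f)) (koszulCx M (List.replicate g.length 0 ++ f))
  | [], _ => DEq.refl _
  | x :: g, hg => by
    have ih := deq_replicate_zero f g (fun y hy => hg y (List.mem_cons_of_mem _ hy))
    have hx : x ∈ Ideal.span {a | a ∈ g ++ f} :=
      Ideal.span_mono (fun a ha => List.mem_append_right _ ha) (hg x List.mem_cons_self)
    obtain ⟨H⟩ := span_le_nullIdeal M (g ++ f) hx
    have H' : Homotopy (x • 𝟙 (koszulCx M (g ++ f))) ((0 : A) • 𝟙 (koszulCx M (g ++ f))) :=
      H.trans (Homotopy.ofEq (zero_smul _ _).symm)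
    exact (DEq.cone_of_homotopy _ _ H').trans (ih.cone 0)

/-- homology of the cone of the zero map -/
theorem isZero_homology_cone_zero (K : CochainComplex (ModuleCat.{u} A) ℤ) (n : ℤ) :
    IsZero ((mappingCone ((0 : A) • 𝟙 K)).homology n) ↔
      IsZero (K.homology n) ∧ IsZero (K.homology (n + 1)) := by
  simp only [ModuleCat.isZero_iff_subsingleton]
  constructor
  · intro h
    constructor
    · refine ⟨fun x y => ?_⟩
      have hx : ∀ z : K.homology n, z = 0 := fun z => by
        obtain ⟨w, hw⟩ := exists_of_ι_eq_zero K 0 n z (Subsingleton.elim _ _)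
        rw [← hw, zero_smul]
      rw [hx x, hx y]
    · refine ⟨fun x y => ?_⟩
      have hx : ∀ z : K.homology (n + 1), z = 0 := fun z => by
        obtain ⟨w, hw⟩ := exists_of_smul_eq_zero K 0 n (n + 1) rfl z (zero_smul _ _)
        rw [← hw, Subsingleton.elim w 0, map_zero]
      rw [hx x, hx y]
  · rintro ⟨h1, h2⟩
    refine ⟨fun x y => ?_⟩
    have hx : ∀ z : (mappingCone ((0 : A) • 𝟙 K)).homology n, z = 0 := fun z => by
      obtain ⟨w, hw⟩ := exists_of_bd_eq_zero K 0 n (n + 1) rfl z (Subsingleton.elim _ _)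
      rw [← hw, Subsingleton.elim w 0, map_zero]
    rw [hx x, hx y]

/-- vanishing of Koszul cohomology below degree `-s` -/
def LowVanish (l : List A) (s : ℕ) : Prop :=
  ∀ n : ℤ, n < -(s : ℤ) → IsZero ((koszulCx M l).homology n)

theorem lowVanish_zero_cons (l : List A) (s : ℕ) :
    LowVanish M (0 :: l) (s + 1) ↔ LowVanish M l s := by
  unfold LowVanish
  constructor
  · intro h n hn
    have := (isZero_homology_cone_zero (koszulCx M l) (n - 1)).1
      (h (n - 1) (by push_cast; omega))
    have h2 := this.2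
    rwa [sub_add_cancel] at h2
  · intro h n hn
    exact (isZero_homology_cone_zero (koszulCx M l) n).2
      ⟨h n (by push_cast at hn; omega), h (n + 1) (by push_cast at hn; omega)⟩

theorem lowVanish_replicate (l : List A) (t : ℕ) : ∀ s : ℕ,
    LowVanish M (List.replicate s 0 ++ l) (s + t) ↔ LowVanish M l t
  | 0 => by simp
  | s + 1 => by
    rw [List.replicate_succ, List.cons_append, show s + 1 + t = (s + t) + 1 by omega,
      lowVanish_zero_cons, lowVanish_replicate l t s]

theorem DEq.lowVanish {l l' : List A} (h : DEq (koszulCx M l) (koszulCx M l')) (s : ℕ) :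
    LowVanish M l s ↔ LowVanish M l' s :=
  forall_congr' fun n => imp_congr_right fun _ => h.isZero_homology_iff n

/-- **change of generators**: two sequences of the same length generating the same ideal have
simultaneously vanishing Koszul cohomology in negative degrees -/
theorem lowVanish_congr (f g : List A) (hlen : f.length = g.length)
    (hspan : Ideal.span {a | a ∈ f} = Ideal.span {a | a ∈ g}) :
    LowVanish M f 0 ↔ LowVanish M g 0 := by
  have h1 : DEq (koszulCx M (g ++ f)) (koszulCx M (List.replicate g.length 0 ++ f)) :=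
    deq_replicate_zero M f g (fun x hx => hspan ▸ Ideal.subset_span hx)
  have h2 : DEq (koszulCx M (f ++ g)) (koszulCx M (List.replicate f.length 0 ++ g)) :=
    deq_replicate_zero M g f (fun x hx => hspan ▸ Ideal.subset_span hx)
  have h3 : DEq (koszulCx M (g ++ f)) (koszulCx M (f ++ g)) :=
    DEq.of_iso (nonempty_iso_of_perm M List.perm_append_comm).some
  have e1 := lowVanish_replicate M f 0 g.length
  have e2 := lowVanish_replicate M g 0 f.length
  rw [add_zero] at e1 e2
  rw [← e1, ← e2, ← h1.lowVanish M, ← h2.lowVanish M, hlen]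
  exact h3.lowVanish M g.length

end koszul

section main

theorem isKoszulRegularSeq_iff_lowVanish (l : List A) :
    LCI.IsKoszulRegularSeq A l ↔ LowVanish (ModuleCat.of A A) l 0 := by
  rw [KoszulFunC.isKoszulRegularSeq_iff]
  constructor
  · intro h n hn
    exact h n (by simp at hn; omega)
  · intro h n hn
    rcases lt_or_gt_of_ne hn with h1 | h1
    · exact h n (by simpa using h1)
    · exact isZero_homology_of_isZero_X n (isZero_X_of_pos _ l n h1)

/-- **change of generators for Koszul-regular sequences** -/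
theorem isKoszulRegularSeq_congr (f g : List A) (hlen : f.length = g.length)
    (hspan : Ideal.span {a | a ∈ f} = Ideal.span {a | a ∈ g}) :
    LCI.IsKoszulRegularSeq A f ↔ LCI.IsKoszulRegularSeq A g := by
  rw [isKoszulRegularSeq_iff_lowVanish, isKoszulRegularSeq_iff_lowVanish]
  exact lowVanish_congr _ f g hlen hspan

end main

end Groth.Agent.Lead.KSwapB
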