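import Mathlib
import Groth.Prelude.Def_ega3
import Groth.Prelude.Def_LCI2
import Groth.Agent.Helper1.KoszulBasic
import Groth.Agent.Helper1.KoszulTop
import Groth.Agent.Lead.KoszulFunE
import Groth.Agent.Lead.KSwapB

set_option autoImplicit false

/-!
# Koszul-regular sequences and quotients: the converse of concatenation
-/

namespace Groth.Agent.Lead.KSwapC
open CategoryTheory Limits CochainComplex HomologicalComplex HomComplex CohIII
open Groth.Agent.Lead.KoszulFunA Groth.Agent.Lead.KoszulFunB Groth.Agent.Lead.KoszulFunC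
open Groth.Agent.Lead.KoszulFunD Groth.Agent.Lead.KoszulFunE
open Groth.Agent.Helper1.Koszul

universe u

section A
variable {A : Type u} [CommRing A]

lemma isZero_homology_of_quasiIso' {K L : CochainComplex (ModuleCat.{u} A) ℤ} (φ : K ⟶ L)
    (h : QuasiIso φ) (i : ℤ) (hK : IsZero (K.homology i)) : IsZero (L.homology i) := by
  haveI := h
  exact hK.of_iso (asIso (homologyMap φ i)).symm

/-- converse of concatenation -/
theorem unconcat (f g : List A)
    (hf : ∀ i : ℤ, i ≠ 0 → IsZero ((koszulCx (ModuleCat.of A A) f).homology i))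
    (N : ModuleCat.{u} A) (e0 : (koszulCx (ModuleCat.of A A) f).homology 0 ≅ N)
    (hgf : ∀ i : ℤ, i ≠ 0 → IsZero ((koszulCx (ModuleCat.of A A) (g ++ f)).homology i)) :
    ∀ i : ℤ, i ≠ 0 → IsZero ((koszulCx N g).homology i) := by
  intro i hi
  obtain ⟨M, ψ, hψ, ⟨eM⟩⟩ := exists_quasiIso_single (koszulCx (ModuleCat.of A A) f)
    (fun n hn => isZero_X_of_pos _ f n hn) hf
  have h1 := quasiIso_kCmap ψ hψ g
  have h4 : IsZero ((kC (koszulCx (ModuleCat.of A A) f) g).homology i) :=
    (isZero_homology_congr (kC_koszulCx (ModuleCat.of A A) f g) i).mpr (hgf i hi)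
  have h3 := isZero_homology_of_quasiIso' _ h1 i h4
  have h2 : IsZero ((koszulCx M g).homology i) :=
    (isZero_homology_congr (kC_single M g) i).mp h3
  exact h2.of_iso ((HomologicalComplex.homologyFunctor _ _ i).mapIso
      (kIso (eM.symm ≪≫ e0) g)).symm

end A

variable {A B : Type u} [CommRing A] [CommRing B] (φ : A →+* B)

/-- if `g ++ f` and `f` are Koszul-regular, the image of `g` in the quotient by `f` is
Koszul-regular -/
theorem isKoszulRegularSeq_map_of_append (hφ : Function.Surjective φ) (f g : List A)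
    (hker : RingHom.ker φ = Ideal.ofList f)
    (hf : LCI.IsKoszulRegularSeq A f) (hgf : LCI.IsKoszulRegularSeq A (g ++ f)) :
    LCI.IsKoszulRegularSeq B (g.map φ) := by
  rw [isKoszulRegularSeq_iff] at hf hgf ⊢
  obtain ⟨e0⟩ := nonempty_homology_zero_iso φ hφ f hker
  have h := unconcat f g hf _ e0 hgf
  intro i hi
  obtain ⟨e⟩ := nonempty_map_koszulCx_iso _ _ (forall₂_map φ g) (ModuleCat.of B B)
  apply isZero_homology_of_map (ModuleCat.restrictScalars.{u} φ)
  exact (h i hi).of_iso ((HomologicalComplex.homologyFunctor _ _ i).mapIso e)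

end Groth.Agent.Lead.KSwapC
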