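import Groth.Agent.Lead.LimClosure
open CategoryTheory Limits AlgebraicGeometry Topology

namespace Groth.Agent.Lead.LimProInd
open Groth.Agent.Lead.LimPullback Groth.Agent.Lead.ProConsLib Groth.Agent.Lead.LimClosure
universe u

variable {I : Type u} [SmallCategory I] [IsCofiltered I] {D : I ⥤ Scheme.{u}} {c : Cone D}
  (hc : IsLimit c) [∀ {i j : I} (f : i ⟶ j), IsAffineHom (D.map f)] (i₀ : I)

include hc in
theorem subset_iff_eventually [CompactSpace (D.obj i₀)] (E F : ∀ i : I, Set (D.obj i))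
    (hE : ∀ i, ProCons.IsProConstructible (E i)) (hF : ∀ i, ProCons.IsIndConstructible (F i))
    (hEm : ∀ (i j : I) (φ : i ⟶ j), E i ⊆ ⇑(D.map φ) ⁻¹' E j)
    (hFm : ∀ (i j : I) (φ : i ⟶ j), ⇑(D.map φ) ⁻¹' F j ⊆ F i) :
    (⋂ i, ⇑(c.π.app i) ⁻¹' E i : Set c.pt) ⊆ (⋃ i, ⇑(c.π.app i) ⁻¹' F i : Set c.pt) ↔
      ∃ (i : I) (_ : i ⟶ i₀), ∀ (j : I) (_ : j ⟶ i), E j ⊆ F j := by
  classical
  have hπ : IsAffineHom (c.π.app i₀) := isAffineHom_π_app D c hc i₀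
  have hcpt : CompactSpace c.pt := QuasiCompact.compactSpace_of_compactSpace (c.π.app i₀)
  have hw : ∀ {i j : I} (φ : i ⟶ j) (s : c.pt), (D.map φ) ((c.π.app i) s) = (c.π.app j) s := by
    intro i j φ s
    rw [← Scheme.Hom.comp_apply, c.w]
  constructor
  · intro h
    -- the ind-constructible cover of the limit
    let G : Bool × I → Set c.pt := fun o ↦
      if o.1 then (⇑(c.π.app o.2) ⁻¹' E o.2)ᶜ else ⇑(c.π.app o.2) ⁻¹' F o.2
    have hG : ∀ o, ProCons.IsIndConstructible (G o) := by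
      rintro ⟨b, i⟩
      cases b
      · exact Groth.Agent.Helper7.PC.ind_preimage (c.π.app i) _ (hF i)
      · exact (pro_iff_ind_compl _).mp (Groth.Agent.Helper7.PC.pro_preimage (c.π.app i) _ (hE i))
    have hcov : (Set.univ : Set c.pt) ⊆ ⋃ o, G o := by
      intro s _
      by_cases hs : s ∈ ⋂ i, ⇑(c.π.app i) ⁻¹' E i
      · obtain ⟨i, hi⟩ := Set.mem_iUnion.mp (h hs)
        exact Set.mem_iUnion.mpr ⟨(false, i), hi⟩
      · simp only [Set.mem_iInter, not_forall] at hs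
        obtain ⟨i, hi⟩ := hs
        exact Set.mem_iUnion.mpr ⟨(true, i), hi⟩
    obtain ⟨J, hJ⟩ := exists_finite_subcover' pro_univ G hG hcov
    obtain ⟨i₁, hi₁⟩ := IsCofiltered.inf_objs_exists (insert i₀ (J.image Prod.snd))
    have h0 : Nonempty (i₁ ⟶ i₀) := hi₁ (Finset.mem_insert_self _ _)
    have hk : ∀ o ∈ J, Nonempty (i₁ ⟶ o.2) := fun o ho ↦
      hi₁ (Finset.mem_insert_of_mem (Finset.mem_image_of_mem _ ho))
    have hcpt₁ : CompactSpace (D.obj i₁) :=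
      QuasiCompact.compactSpace_of_compactSpace (D.map h0.some)
    have hpro : ProCons.IsProConstructible (E i₁ ∩ (F i₁)ᶜ) :=
      pro_inter (hE i₁) ((ind_iff_pro_compl _).mp (hF i₁))
    have hemp : (c.π.app i₁).base ⁻¹' (E i₁ ∩ (F i₁)ᶜ) = ∅ := by
      ext s
      simp only [Set.mem_preimage, Set.mem_inter_iff, Set.mem_compl_iff,
        Set.mem_empty_iff_false, iff_false, not_and, not_not]
      intro hsE
      obtain ⟨o, ho⟩ := Set.mem_iUnion.mp (hJ (Set.mem_univ s))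
      obtain ⟨hoJ, hso⟩ := Set.mem_iUnion.mp ho
      obtain ⟨b, i⟩ := o
      obtain ⟨φ⟩ := hk _ hoJ
      cases b
      · apply hFm _ _ φ
        change (D.map φ) ((c.π.app i₁) s) ∈ F i
        rw [hw]
        exact hso
      · exfalso
        apply hso
        change (c.π.app i) s ∈ E i
        rw [← hw φ]
        exact hEm _ _ φ hsE
    obtain ⟨i₂, ψ, hi₂⟩ := exists_preimage_eq_empty' hc i₁ _ hpro hemp
    refine ⟨i₂, ψ ≫ h0.some, fun j θ x hx ↦ ?_⟩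
    by_contra hxF
    have h1 : (D.map (θ ≫ ψ)) x ∈ E i₁ := hEm _ _ (θ ≫ ψ) hx
    have h2 : (D.map (θ ≫ ψ)) x ∉ F i₁ := fun h' ↦ hxF (hFm _ _ (θ ≫ ψ) h')
    have h3 : (D.map θ) x ∈ (D.map ψ).base ⁻¹' (E i₁ ∩ (F i₁)ᶜ) := by
      change (D.map ψ) ((D.map θ) x) ∈ (E i₁ ∩ (F i₁)ᶜ)
      rw [← Scheme.Hom.comp_apply, ← D.map_comp]
      exact ⟨h1, h2⟩
    rw [hi₂] at h3
    exact h3
  · rintro ⟨i, -, h⟩ s hs
    rw [Set.mem_iInter] at hs
    exact Set.mem_iUnion.mpr ⟨i, h i (𝟙 i) (hs i)⟩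

end Groth.Agent.Lead.LimProInd
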