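import Groth.Agent.S1460
import Groth.Agent.S9358
import Groth.Agent.S0402
import Groth.Agent.S7408
import Mathlib
set_option autoImplicit false
universe u
open AlgebraicGeometry CategoryTheory Limits

namespace Groth.Agent.Lead.FibDimRetro

theorem isCompact_inter_affine {X S : Scheme.{u}} (f : X ⟶ S) [LocallyOfFinitePresentation f]
    (n : ℕ) (W : X.Opens) (T : S.Opens) (hW : IsAffineOpen W) (hT : IsAffineOpen T)
    (e : W ≤ f ⁻¹ᵁ T) : IsCompact ({x : X | FlatMor.fibreDimAt f x ≤ n} ∩ (W : Set X)) := by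
  let f' := f.resLE T W e
  haveI : IsAffine (W : Scheme.{u}) := hW
  haveI : IsAffine (T : Scheme.{u}) := hT
  obtain ⟨X₀, S₀, f₀, g, g', hX₀, hS₀, hpb, hft, hlft⟩ := Groth.Agent.S1460.result f'
  haveI : IsNoetherianRing Γ(S₀, ⊤) := Algebra.FiniteType.isNoetherianRing ℤ _
  haveI : IsLocallyNoetherian S₀ := isLocallyNoetherian_of_isOpenImmersion S₀.isoSpec.hom
  haveI : IsLocallyNoetherian X₀ := LocallyOfFiniteType.isLocallyNoetherian f₀
  haveI : CompactSpace X₀ := inferInstance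
  haveI : IsNoetherian X₀ := {}
  haveI : TopologicalSpace.NoetherianSpace X₀ := inferInstance
  let U₀ : Set X₀ := {x | FlatMor.fibreDimAt f₀ x ≤ n}
  have hU₀c : IsCompact U₀ := TopologicalSpace.NoetherianSpace.isCompact U₀
  have hU₀o : IsOpen U₀ := Groth.Agent.S0402.result f₀ n
  have hpre : IsCompact (g' ⁻¹' U₀) := QuasiCompact.isCompact_preimage (f := g') _ hU₀o hU₀c
  have h1 : g' ⁻¹' U₀ = {w | FlatMor.fibreDimAt f' w ≤ n} := by
    ext w
    simp only [Set.mem_preimage, Set.mem_setOf_eq, U₀]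
    rw [(Groth.Agent.S9358.result f₀ g g' f' hpb n).1 w]
  have comm : f' ≫ T.ι = W.ι ≫ f := Scheme.Hom.resLE_comp_ι f e
  have h2 : {x : X | FlatMor.fibreDimAt f x ≤ n} ∩ (W : Set X) =
      W.ι '' {w | FlatMor.fibreDimAt f' w ≤ n} := by
    ext x
    constructor
    · rintro ⟨hx, hxW⟩
      refine ⟨⟨x, hxW⟩, ?_, rfl⟩
      show FlatMor.fibreDimAt f' ⟨x, hxW⟩ ≤ n
      rw [← Groth.Agent.S7408.result f f' W.ι T.ι comm ⟨x, hxW⟩]
      exact hx
    · rintro ⟨w, hw, rfl⟩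
      refine ⟨?_, w.2⟩
      show FlatMor.fibreDimAt f (W.ι w) ≤ n
      rw [Groth.Agent.S7408.result f f' W.ι T.ι comm w]
      exact hw
  rw [h2, ← h1]
  exact hpre.image W.ι.continuous

theorem main {X S : Scheme.{u}} (f : X ⟶ S) [LocallyOfFinitePresentation f] (n : ℕ) :
    IsRetrocompact {x : X | FlatMor.fibreDimAt f x ≤ n} := by
  intro V hVc hVo
  -- local affine neighbourhoods
  have hloc : ∀ x : V, ∃ W : X.Opens, x.1 ∈ W ∧ (W : Set X) ⊆ V ∧
      IsCompact ({x : X | FlatMor.fibreDimAt f x ≤ n} ∩ (W : Set X)) := by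
    intro x
    obtain ⟨T, hT, hxT, -⟩ := exists_isAffineOpen_mem_and_subset (X := S) (x := f x.1)
      (U := ⊤) trivial
    let O : X.Opens := (f ⁻¹ᵁ T) ⊓ ⟨V, hVo⟩
    have hxO : x.1 ∈ O := ⟨hxT, x.2⟩
    obtain ⟨W, hW, hxW, hWO⟩ := exists_isAffineOpen_mem_and_subset (X := X) (x := x.1) (U := O) hxO
    refine ⟨W, hxW, fun y hy => (hWO hy).2, ?_⟩
    exact isCompact_inter_affine f n W T hW hT (fun y hy => (hWO hy).1)
  choose W hxW hWV hWc using hloc
  obtain ⟨t, ht⟩ := hVc.elim_finite_subcover (fun x : V => ((W x : X.Opens) : Set X))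
    (fun x => (W x).isOpen) (fun y hy => Set.mem_iUnion.mpr ⟨⟨y, hy⟩, hxW ⟨y, hy⟩⟩)
  have heq : {x : X | FlatMor.fibreDimAt f x ≤ n} ∩ V =
      ⋃ x ∈ t, ({x : X | FlatMor.fibreDimAt f x ≤ n} ∩ ((W x : X.Opens) : Set X)) := by
    ext y
    simp only [Set.mem_inter_iff, Set.mem_iUnion, exists_prop]
    constructor
    · rintro ⟨hy1, hy2⟩
      obtain ⟨x, hxt, hyx⟩ := Set.mem_iUnion₂.mp (ht hy2)
      exact ⟨x, hxt, hy1, hyx⟩
    · rintro ⟨x, hxt, hy1, hyx⟩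
      exact ⟨hy1, hWV x hyx⟩
  rw [heq]
  exact t.finite_toSet.isCompact_biUnion fun x _ => hWc x

end Groth.Agent.Lead.FibDimRetro
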