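import Mathlib
universe u
open TensorProduct

namespace Groth.Agent.Lead.QFDescent

attribute [-instance] Module.Free.instFaithfulSMulOfNontrivial Algebra.IsIntegral.isLocalHom

set_option backward.isDefEq.respectTransparency.types false in
theorem quasiFinite_of_faithfullyFlat (R A S : Type u) [CommRing R] [CommRing A] [CommRing S]
    [Algebra R A] [Algebra R S] [Module.FaithfullyFlat R A]
    [Algebra.QuasiFinite A (A ⊗[R] S)] : Algebra.QuasiFinite R S := by
  refine ⟨fun p hp ↦ ?_⟩
  obtain ⟨P, hP, hPp⟩ := Ideal.exists_isPrime_liesOver_of_faithfullyFlat (B := A) p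
  have hpeq : p = P.under R := hPp.over
  subst hpeq
  let p := P.under R
  let := Localization.AtPrime.algebraOfLiesOver p P
  let e : P.Fiber (A ⊗[R] S) ≃ₐ[P.ResidueField] P.ResidueField ⊗[p.ResidueField] (p.Fiber S) :=
    (Algebra.TensorProduct.cancelBaseChange _ _ _ _ _).trans
      (Algebra.TensorProduct.cancelBaseChange _ _ _ _ _).symm
  have : Module.Finite P.ResidueField (P.ResidueField ⊗[p.ResidueField] (p.Fiber S)) :=
    .of_surjective e.toLinearMap e.surjective
  exact Module.Finite.of_finite_tensorProduct_of_faithfullyFlat P.ResidueField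

end Groth.Agent.Lead.QFDescent

namespace Groth.Agent.Lead.QFDescent
open CategoryTheory Limits MorphismProperty AlgebraicGeometry

lemma quasiFinite_codescendsAlong_faithfullyFlat :
    RingHom.CodescendsAlong RingHom.QuasiFinite RingHom.FaithfullyFlat := by
  refine .mk _ RingHom.QuasiFinite.respectsIso fun R S T _ _ _ _ _ h h' ↦ ?_
  rw [RingHom.quasiFinite_algebraMap] at h' ⊢
  rw [RingHom.faithfullyFlat_algebraMap_iff] at h
  exact quasiFinite_of_faithfullyFlat R S T

instance descendsAlong_locallyQuasiFinite_fpqc :
    DescendsAlong @LocallyQuasiFinite (@Surjective ⊓ @Flat ⊓ @QuasiCompact : MorphismProperty Scheme.{u}) :=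
  HasRingHomProperty.descendsAlong_flat quasiFinite_codescendsAlong_faithfullyFlat

end Groth.Agent.Lead.QFDescent
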