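import Mathlib
import Groth.Agent.Lead.Hartogs2
import Groth.Agent.Lead.PuncSec
import Groth.Agent.Helper4.FinLocFree6
import Groth.Prelude.Def_Pi1

set_option autoImplicit false
universe u
open CategoryTheory CategoryTheory.Limits AlgebraicGeometry TopologicalSpace Opposite

namespace Groth.Agent.Lead.FEtFF
open Groth.Agent.Helper4

section Affine

/-- maps to an affine scheme extend uniquely along a morphism inducing an iso on global sections -/
theorem existsUnique_of_isIso_appTop {W Y Z : Scheme.{u}} [IsAffine Z] (p : W ⟶ Y)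
    [IsIso p.appTop] (c : W ⟶ Z) : ∃! a : Y ⟶ Z, p ≫ a = c := by
  refine ⟨Hartogs2.ofAppTop (c.appTop ≫ inv p.appTop), ?_, ?_⟩
  · apply ext_of_isAffine
    rw [Scheme.Hom.comp_appTop, Hartogs2.ofAppTop_appTop, Category.assoc, IsIso.inv_hom_id,
      Category.comp_id]
  · intro g hg
    apply ext_of_isAffine
    rw [Hartogs2.ofAppTop_appTop, ← hg, Scheme.Hom.comp_appTop, Category.assoc, IsIso.hom_inv_id,
      Category.comp_id]

end Affine

section Key

variable {X : Scheme.{u}} (U : X.Opens)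
  (h : ∀ V : X.Opens, Function.Bijective (X.presheaf.map (homOfLE (inf_le_left : V ⊓ U ≤ V)).op))

include h in
theorem bijective_res_preimage {Y : Scheme.{u}} (f : Y ⟶ X) [IsFinite f] [Flat f]
    [LocallyOfFinitePresentation f] :
    Function.Bijective (Y.presheaf.map (homOfLE (le_top : f ⁻¹ᵁ U ≤ ⊤)).op) := by
  have hE := FinLocFree6.isFinLocFree_push_of_finite_flat_lfp f
  have h1 := ExtFree.bij_of_isFinLocFree _ hE U h ⊤
  have h2 : Function.Bijective (Y.presheaf.map
      (homOfLE (show f ⁻¹ᵁ (⊤ ⊓ U) ≤ f ⁻¹ᵁ ⊤ from fun _ hx => trivial)).op) := h1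
  have e2 : f ⁻¹ᵁ (⊤ ⊓ U) = f ⁻¹ᵁ U := by rw [top_inf_eq]
  exact (ExtFree.bij_congrO rfl e2 _ le_top).mp h2

include h in
theorem isIso_fst_appTop {Y : Scheme.{u}} (f : Y ⟶ X) [IsFinite f] [Flat f]
    [LocallyOfFinitePresentation f] :
    IsIso (pullback.fst f U.ι).appTop := by
  have h1 := bijective_res_preimage U h f
  have e2 : (f ⁻¹ᵁ U).ι ''ᵁ ((f ⁻¹ᵁ U).ι ⁻¹ᵁ ⊤) = f ⁻¹ᵁ U := by
    rw [Scheme.Hom.image_preimage_eq_opensRange_inf, Scheme.Opens.opensRange_ι, inf_top_eq]
  have h2 := (ExtFree.bij_congrO rfl e2 ((f ⁻¹ᵁ U).ι.image_preimage_le ⊤) le_top).mpr h1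
  have h3 : (f ⁻¹ᵁ U).ι.appTop = Y.presheaf.map (homOfLE ((f ⁻¹ᵁ U).ι.image_preimage_le ⊤)).op :=
    Scheme.Opens.ι_app (f ⁻¹ᵁ U) ⊤
  haveI : IsIso (f ⁻¹ᵁ U).ι.appTop := by
    rw [h3]
    exact (ConcreteCategory.isIso_iff_bijective _).mpr h2
  have h4 : pullback.fst f U.ι = (pullbackRestrictIsoRestrict f U).hom ≫ (f ⁻¹ᵁ U).ι :=
    (pullbackRestrictIsoRestrict_hom_ι f U).symm
  rw [h4, Scheme.Hom.comp_appTop]
  haveI : IsIso (pullbackRestrictIsoRestrict f U).hom.appTop :=
    inferInstanceAs (IsIso ((pullbackRestrictIsoRestrict f U).hom.app ⊤))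
  exact IsIso.comp_isIso

end Key

section Main

variable {X : Scheme.{u}} [IsAffine X] (U : X.Opens)
  (h : ∀ V : X.Opens, Function.Bijective (X.presheaf.map (homOfLE (inf_le_left : V ⊓ U ≤ V)).op))

theorem restrict_map_left_fst {Y Y' : FEt.Cat X} (ψ : Y ⟶ Y') :
    ((FEt.restrict U.ι).map ψ).left ≫ pullback.fst Y'.hom U.ι =
      pullback.fst Y.hom U.ι ≫ ψ.left := pullback.lift_fst _ _ _

theorem restrict_map_left_snd {Y Y' : FEt.Cat X} (ψ : Y ⟶ Y') :
    ((FEt.restrict U.ι).map ψ).left ≫ pullback.snd Y'.hom U.ι =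
      pullback.snd Y.hom U.ι := pullback.lift_snd _ _ _

include h in
theorem faithful : (FEt.restrict U.ι).Faithful := by
  refine ⟨fun {Y Y'} ψ₁ ψ₂ hψ => ?_⟩
  haveI : IsFinite Y.hom := Y.prop.1
  haveI : Etale Y.hom := Y.prop.2
  haveI : IsFinite Y'.hom := Y'.prop.1
  haveI : IsAffine Y'.left := @isAffine_of_isAffineHom Y'.left X Y'.hom _ ‹_›
  haveI := isIso_fst_appTop U h Y.hom
  have h1 : pullback.fst Y.hom U.ι ≫ ψ₁.left = pullback.fst Y.hom U.ι ≫ ψ₂.left := by
    rw [← restrict_map_left_fst, ← restrict_map_left_fst, hψ]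
  obtain ⟨a, -, ha⟩ := existsUnique_of_isIso_appTop (Z := Y'.left) (pullback.fst Y.hom U.ι)
    (pullback.fst Y.hom U.ι ≫ ψ₁.left)
  have e1 := ha ψ₁.left rfl
  have e2 := ha ψ₂.left h1.symm
  ext : 1
  rw [e1, e2]

include h in
theorem full : (FEt.restrict U.ι).Full := by
  refine ⟨fun {Y Y'} φ => ?_⟩
  haveI : IsFinite Y.hom := Y.prop.1
  haveI : Etale Y.hom := Y.prop.2
  haveI : IsFinite Y'.hom := Y'.prop.1
  haveI : IsAffine Y'.left := @isAffine_of_isAffineHom Y'.left X Y'.hom _ ‹_›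
  haveI := isIso_fst_appTop U h Y.hom
  let φl : pullback Y.hom U.ι ⟶ pullback Y'.hom U.ι := φ.left
  let f : Y.left ⟶ X := Y.hom
  let f' : Y'.left ⟶ X := Y'.hom
  have hφ : φl ≫ pullback.snd f' U.ι = pullback.snd f U.ι := by
    have := MorphismProperty.Over.w φ
    exact this
  obtain ⟨a, ha, -⟩ := existsUnique_of_isIso_appTop (Y := Y.left) (Z := Y'.left)
    (pullback.fst f U.ι) (φl ≫ pullback.fst f' U.ι)
  have hw : a ≫ f' = f := by
    obtain ⟨b, -, hb⟩ := existsUnique_of_isIso_appTop (Y := Y.left) (Z := X) (pullback.fst f U.ι)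
      (pullback.fst f U.ι ≫ f)
    have e1 := hb f rfl
    have e2 := hb (a ≫ f') (by
      show pullback.fst f U.ι ≫ a ≫ f' = pullback.fst f U.ι ≫ f
      calc pullback.fst f U.ι ≫ a ≫ f'
          = (pullback.fst f U.ι ≫ a) ≫ f' := (Category.assoc _ _ _).symm
        _ = (φl ≫ pullback.fst f' U.ι) ≫ f' := by rw [ha]
        _ = φl ≫ (pullback.fst f' U.ι ≫ f') := Category.assoc _ _ _
        _ = φl ≫ (pullback.snd f' U.ι ≫ U.ι) := by rw [pullback.condition]
        _ = (φl ≫ pullback.snd f' U.ι) ≫ U.ι := (Category.assoc _ _ _).symm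
        _ = pullback.snd f U.ι ≫ U.ι := congrArg (· ≫ U.ι) hφ
        _ = pullback.fst f U.ι ≫ f := pullback.condition.symm)
    rw [e1, e2]
  refine ⟨MorphismProperty.Over.homMk a hw trivial, ?_⟩
  ext : 1
  apply pullback.hom_ext
  · exact (restrict_map_left_fst U _).trans ha
  · exact (restrict_map_left_snd U _).trans hφ.symm

end Main

section Punctured

variable (A : Type u) [CommRing A] [IsNoetherianRing A] [IsLocalRing A]

theorem hartogs_punctured (hA : (2 : ℕ∞) ≤ LocCoh.depth A A) (V : (Spec (CommRingCat.of A)).Opens) :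
    Function.Bijective ((Spec (CommRingCat.of A)).presheaf.map
      (homOfLE (inf_le_left : V ⊓ FEt.puncturedSpec A ≤ V)).op) := by
  have hU : ∀ x : (Spec (CommRingCat.of A)), x ∉ FEt.puncturedSpec A → (2 : ℕ∞) ≤
      LocCoh.depth ((Spec (CommRingCat.of A)).presheaf.stalk x)
        ((Spec (CommRingCat.of A)).presheaf.stalk x) := by
    intro x hx
    have hx1 : x = IsLocalRing.closedPoint A := by
      by_contra hne
      exact hx hne
    subst hx1
    let e0 : A ≃+* Localization.AtPrime (IsLocalRing.closedPoint A).asIdeal :=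
      (IsLocalization.atUnits A (IsLocalRing.closedPoint A).asIdeal.primeCompl (by
        intro y hy
        have : y ∉ IsLocalRing.maximalIdeal A := hy
        rw [IsLocalRing.mem_maximalIdeal, mem_nonunits_iff, not_not] at this
        exact this)).toRingEquiv
    let e : A ≃+* ((Spec (CommRingCat.of A)).presheaf.stalk (IsLocalRing.closedPoint A)) :=
      e0.trans (AlgebraicGeometry.StructureSheaf.stalkIso A (IsLocalRing.closedPoint A)).toRingEquiv
    rw [← PuncSec.depth_eq_of_ringEquiv e]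
    exact hA
  exact Hartogs2.bijective_res (FEt.puncturedSpec A) hU V

/-- S0258 -/
theorem main (hA : (2 : ℕ∞) ≤ LocCoh.depth A A) :
    (FEt.restrict (FEt.puncturedSpec A).ι).Full ∧ (FEt.restrict (FEt.puncturedSpec A).ι).Faithful :=
  ⟨full _ (hartogs_punctured A hA), faithful _ (hartogs_punctured A hA)⟩

/-- S0263 -/
theorem main_sections (hA : (2 : ℕ∞) ≤ LocCoh.depth A A)
    (V : FEt.Cat (FEt.puncturedSpec A : Scheme.{u}))
    (hV : ∃ Y : FEt.Cat (Spec (CommRingCat.of A)),
      Nonempty ((FEt.restrict (FEt.puncturedSpec A).ι).obj Y ≅ V)) :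
    ((Scheme.ΓSpecIso (CommRingCat.of A)).inv ≫ (V.hom ≫ (FEt.puncturedSpec A).ι).appTop).hom.Finite ∧
    ((Scheme.ΓSpecIso (CommRingCat.of A)).inv ≫ (V.hom ≫ (FEt.puncturedSpec A).ι).appTop).hom.Etale := by
  obtain ⟨Y, ⟨e⟩⟩ := hV
  let U : (Spec (CommRingCat.of A)).Opens := FEt.puncturedSpec A
  have h := hartogs_punctured A hA
  let f : Y.left ⟶ Spec (CommRingCat.of A) := Y.hom
  haveI : IsFinite f := Y.prop.1
  haveI : Etale f := Y.prop.2
  haveI : IsAffine Y.left := isAffine_of_isAffineHom f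
  haveI := isIso_fst_appTop U h f
  let el : V.left ⟶ pullback f U.ι := e.inv.left
  haveI : IsIso el := by
    have : IsIso e.inv.left := inferInstance
    exact this
  have hw : el ≫ pullback.snd f U.ι = V.hom := MorphismProperty.Over.w e.inv
  have key : (V.hom ≫ U.ι).appTop = f.appTop ≫ (pullback.fst f U.ι).appTop ≫ el.appTop := by
    have : V.hom ≫ U.ι = el ≫ pullback.fst f U.ι ≫ f := by
      rw [← hw, Category.assoc, pullback.condition]
    rw [this, Scheme.Hom.comp_appTop, Scheme.Hom.comp_appTop, Category.assoc]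
  haveI : IsIso el.appTop := inferInstanceAs (IsIso (el.app ⊤))
  let θ : Γ(Y.left, ⊤) ⟶ Γ(V.left, ⊤) := (pullback.fst f U.ι).appTop ≫ el.appTop
  haveI : IsIso θ := IsIso.comp_isIso
  have hθ : Function.Bijective θ.hom := (ConcreteCategory.isIso_iff_bijective θ).mp inferInstance
  have hiso : Function.Bijective (Scheme.ΓSpecIso (CommRingCat.of A)).inv.hom :=
    (ConcreteCategory.isIso_iff_bijective _).mp inferInstance
  have heq : ((Scheme.ΓSpecIso (CommRingCat.of A)).inv ≫ (V.hom ≫ U.ι).appTop).hom =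
      θ.hom.comp (f.appTop.hom.comp (Scheme.ΓSpecIso (CommRingCat.of A)).inv.hom) := by
    rw [key]
    rfl
  rw [heq]
  constructor
  · apply RingHom.Finite.comp (RingHom.Finite.of_surjective _ hθ.2)
    exact RingHom.Finite.comp (Scheme.Hom.finite_appTop f) (RingHom.Finite.of_surjective _ hiso.2)
  · apply RingHom.Etale.stableUnderComposition _ _ _ (RingHom.Etale.of_bijective hθ)
    apply RingHom.Etale.stableUnderComposition _ _ (RingHom.Etale.of_bijective hiso)
    exact (HasRingHomProperty.iff_of_isAffine (P := @Etale)).mp inferInstance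

end Punctured

end Groth.Agent.Lead.FEtFF
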