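import Groth.Agent.Lead.LimHom
open CategoryTheory Limits AlgebraicGeometry

namespace Groth.Agent.Lead.LimIsoDesc
open Groth.Agent.Lead.LimPullback Groth.Agent.Lead.LimHom
universe u
variable {I : Type u} [SmallCategory I] [IsCofiltered I] {D : I ⥤ Scheme.{u}} {c : Cone D}
  (hc : IsLimit c) [∀ {i j : I} (f : i ⟶ j), IsAffineHom (D.map f)] (i : I)
  {X₀ Y₀ : Scheme.{u}} (a₀ : X₀ ⟶ D.obj i) (b₀ : Y₀ ⟶ D.obj i)

omit [IsCofiltered I] [∀ {i j : I} (f : i ⟶ j), IsAffineHom (D.map f)] in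
set_option backward.isDefEq.respectTransparency false in
@[reassoc (attr := simp)]
lemma pbDiag_map_fst {j k : Over i} (φ : j ⟶ k) :
    (pbDiag D i a₀).map φ ≫ pullback.fst (D.map k.hom) a₀ =
      pullback.fst (D.map j.hom) a₀ ≫ D.map φ.left := by
  simp [pbDiag]

omit [IsCofiltered I] [∀ {i j : I} (f : i ⟶ j), IsAffineHom (D.map f)] in
set_option backward.isDefEq.respectTransparency false in
@[reassoc (attr := simp)]
lemma pbDiag_map_snd {j k : Over i} (φ : j ⟶ k) :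
    (pbDiag D i a₀).map φ ≫ pullback.snd (D.map k.hom) a₀ = pullback.snd (D.map j.hom) a₀ := by
  simp [pbDiag]

omit [IsCofiltered I] [∀ {i j : I} (f : i ⟶ j), IsAffineHom (D.map f)] in
set_option backward.isDefEq.respectTransparency false in
@[reassoc (attr := simp)]
lemma pbCone_π_fst (j : Over i) :
    (pbCone D c i a₀).π.app j ≫ pullback.fst (D.map j.hom) a₀ =
      pullback.fst (c.π.app i) a₀ ≫ c.π.app j.left := by
  simp [pbCone]

omit [IsCofiltered I] [∀ {i j : I} (f : i ⟶ j), IsAffineHom (D.map f)] in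
set_option backward.isDefEq.respectTransparency false in
@[reassoc (attr := simp)]
lemma pbCone_π_snd (j : Over i) :
    (pbCone D c i a₀).π.app j ≫ pullback.snd (D.map j.hom) a₀ = pullback.snd (c.π.app i) a₀ := by
  simp [pbCone]

set_option backward.isDefEq.respectTransparency false in
/-- a morphism of stages over the base stage induced by a morphism to `Y₀` -/
noncomputable def stageHom (j : Over i) (g : (pbDiag D i a₀).obj j ⟶ Y₀)
    (hg : g ≫ b₀ = pullback.snd (D.map j.hom) a₀ ≫ a₀) :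
    (pbDiag D i a₀).obj j ⟶ (pbDiag D i b₀).obj j :=
  pullback.lift (pullback.fst (D.map j.hom) a₀) g (by rw [hg]; exact pullback.condition)

omit [IsCofiltered I] [∀ {i j : I} (f : i ⟶ j), IsAffineHom (D.map f)] in
set_option backward.isDefEq.respectTransparency false in
@[reassoc (attr := simp)]
lemma stageHom_fst (j : Over i) (g : (pbDiag D i a₀).obj j ⟶ Y₀)
    (hg : g ≫ b₀ = pullback.snd (D.map j.hom) a₀ ≫ a₀) :
    stageHom i a₀ b₀ j g hg ≫ pullback.fst (D.map j.hom) b₀ = pullback.fst (D.map j.hom) a₀ := by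
  simp [stageHom]

omit [IsCofiltered I] [∀ {i j : I} (f : i ⟶ j), IsAffineHom (D.map f)] in
set_option backward.isDefEq.respectTransparency false in
@[reassoc (attr := simp)]
lemma stageHom_snd (j : Over i) (g : (pbDiag D i a₀).obj j ⟶ Y₀)
    (hg : g ≫ b₀ = pullback.snd (D.map j.hom) a₀ ≫ a₀) :
    stageHom i a₀ b₀ j g hg ≫ pullback.snd (D.map j.hom) b₀ = g := by
  simp [stageHom]

omit [IsCofiltered I] [∀ {i j : I} (f : i ⟶ j), IsAffineHom (D.map f)] in
set_option backward.isDefEq.respectTransparency false in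
lemma comp_cond {j k : Over i} (φ : k ⟶ j) (g : (pbDiag D i a₀).obj j ⟶ Y₀)
    (hg : g ≫ b₀ = pullback.snd (D.map j.hom) a₀ ≫ a₀) :
    ((pbDiag D i a₀).map φ ≫ g) ≫ b₀ = pullback.snd (D.map k.hom) a₀ ≫ a₀ := by
  rw [Category.assoc, hg, pbDiag_map_snd_assoc]

omit [IsCofiltered I] [∀ {i j : I} (f : i ⟶ j), IsAffineHom (D.map f)] in
set_option backward.isDefEq.respectTransparency false in
lemma stageHom_naturality {j k : Over i} (φ : k ⟶ j) (g : (pbDiag D i a₀).obj j ⟶ Y₀)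
    (hg : g ≫ b₀ = pullback.snd (D.map j.hom) a₀ ≫ a₀) :
    stageHom i a₀ b₀ k ((pbDiag D i a₀).map φ ≫ g) (comp_cond i a₀ b₀ φ g hg) ≫
      (pbDiag D i b₀).map φ = (pbDiag D i a₀).map φ ≫ stageHom i a₀ b₀ j g hg := by
  apply pullback.hom_ext
  · simp
  · simp


omit [IsCofiltered I] [∀ {i j : I} (f : i ⟶ j), IsAffineHom (D.map f)] in
set_option backward.isDefEq.respectTransparency false in
lemma pbCone_π_stageHom (m : pullback (c.π.app i) a₀ ⟶ pullback (c.π.app i) b₀)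
    (hm : m ≫ pullback.fst (c.π.app i) b₀ = pullback.fst (c.π.app i) a₀)
    (j : Over i) (g : (pbDiag D i a₀).obj j ⟶ Y₀)
    (hg : g ≫ b₀ = pullback.snd (D.map j.hom) a₀ ≫ a₀)
    (hg' : (pbCone D c i a₀).π.app j ≫ g = m ≫ pullback.snd (c.π.app i) b₀) :
    (pbCone D c i a₀).π.app j ≫ stageHom i a₀ b₀ j g hg = m ≫ (pbCone D c i b₀).π.app j := by
  apply pullback.hom_ext
  · simp [reassoc_of% hm]
  · simp [hg']

include hc in
set_option backward.isDefEq.respectTransparency false in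
/-- if `m ≫ n = 𝟙` on the limit then the stage lifts compose to the identity eventually -/
lemma exists_stageHom_comp_eq [CompactSpace X₀] [LocallyOfFiniteType a₀]
    (m : pullback (c.π.app i) a₀ ⟶ pullback (c.π.app i) b₀)
    (n : pullback (c.π.app i) b₀ ⟶ pullback (c.π.app i) a₀)
    (hm : m ≫ pullback.fst (c.π.app i) b₀ = pullback.fst (c.π.app i) a₀)
    (hmn : m ≫ n = 𝟙 _)
    (j : Over i) (g : (pbDiag D i a₀).obj j ⟶ Y₀)
    (hg : g ≫ b₀ = pullback.snd (D.map j.hom) a₀ ≫ a₀)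
    (hg' : (pbCone D c i a₀).π.app j ≫ g = m ≫ pullback.snd (c.π.app i) b₀)
    (h : (pbDiag D i b₀).obj j ⟶ X₀)
    (hh : h ≫ a₀ = pullback.snd (D.map j.hom) b₀ ≫ b₀)
    (hh' : (pbCone D c i b₀).π.app j ≫ h = n ≫ pullback.snd (c.π.app i) a₀) :
    ∃ (k : Over i) (ψ : k ⟶ j), (pbDiag D i a₀).map ψ ≫ stageHom i a₀ b₀ j g hg ≫ h =
      pullback.snd (D.map k.hom) a₀ := by
  obtain ⟨k, ψ, hk⟩ := hom_eq_eventually D c hc i a₀ a₀ j (stageHom i a₀ b₀ j g hg ≫ h)
    (pullback.snd (D.map j.hom) a₀) (by rw [Category.assoc, hh, stageHom_snd_assoc, hg]) rfl (by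
      rw [reassoc_of% pbCone_π_stageHom i a₀ b₀ m hm j g hg hg', hh', reassoc_of% hmn]
      simp)
  exact ⟨k, ψ, by rw [hk]; simp⟩

include hc in
set_option backward.isDefEq.respectTransparency false in
/-- descent of isomorphisms between schemes of finite presentation over a stage -/
theorem exists_iso_descend [CompactSpace X₀] [QuasiSeparatedSpace X₀] [CompactSpace Y₀]
    [QuasiSeparatedSpace Y₀] [LocallyOfFinitePresentation a₀] [LocallyOfFinitePresentation b₀]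
    (e : pullback (c.π.app i) a₀ ≅ pullback (c.π.app i) b₀)
    (he : e.hom ≫ pullback.fst (c.π.app i) b₀ = pullback.fst (c.π.app i) a₀) :
    ∃ (j : Over i) (ej : pullback (D.map j.hom) a₀ ≅ pullback (D.map j.hom) b₀),
      ej.hom ≫ pullback.fst (D.map j.hom) b₀ = pullback.fst (D.map j.hom) a₀ ∧
      (pbCone D c i a₀).π.app j ≫ ej.hom = e.hom ≫ (pbCone D c i b₀).π.app j := by
  have he' : e.inv ≫ pullback.fst (c.π.app i) a₀ = pullback.fst (c.π.app i) b₀ := by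
    rw [← he, Iso.inv_hom_id_assoc]
  obtain ⟨j₁, g₁, hg₁', hg₁⟩ := exists_hom_descend D c hc i a₀ b₀
    (e.hom ≫ pullback.snd (c.π.app i) b₀) (by
      rw [Category.assoc, ← pullback.condition, reassoc_of% he, pullback.condition])
  obtain ⟨j₂, h₂, hh₂', hh₂⟩ := exists_hom_descend D c hc i b₀ a₀
    (e.inv ≫ pullback.snd (c.π.app i) a₀) (by
      rw [Category.assoc, ← pullback.condition, reassoc_of% he', pullback.condition])
  obtain ⟨j, φ₁, φ₂, -⟩ := IsCofilteredOrEmpty.cone_objs j₁ j₂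
  -- common stage
  let g := (pbDiag D i a₀).map φ₁ ≫ g₁
  have hg : g ≫ b₀ = pullback.snd (D.map j.hom) a₀ ≫ a₀ := comp_cond i a₀ b₀ φ₁ g₁ hg₁
  have hg' : (pbCone D c i a₀).π.app j ≫ g = e.hom ≫ pullback.snd (c.π.app i) b₀ := by
    rw [← hg₁', ← (pbCone D c i a₀).w φ₁, Category.assoc]
  let h := (pbDiag D i b₀).map φ₂ ≫ h₂
  have hh : h ≫ a₀ = pullback.snd (D.map j.hom) b₀ ≫ b₀ := comp_cond i b₀ a₀ φ₂ h₂ hh₂
  have hh' : (pbCone D c i b₀).π.app j ≫ h = e.inv ≫ pullback.snd (c.π.app i) a₀ := by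
    rw [← hh₂', ← (pbCone D c i b₀).w φ₂, Category.assoc]
  -- first composite
  obtain ⟨k₁, ψ₁, hk₁⟩ := exists_stageHom_comp_eq hc i a₀ b₀ e.hom e.inv he e.hom_inv_id j g hg hg'
    h hh hh'
  let g' := (pbDiag D i a₀).map ψ₁ ≫ g
  have hg1 : g' ≫ b₀ = pullback.snd (D.map k₁.hom) a₀ ≫ a₀ := comp_cond i a₀ b₀ ψ₁ g hg
  have hg1' : (pbCone D c i a₀).π.app k₁ ≫ g' = e.hom ≫ pullback.snd (c.π.app i) b₀ := by
    rw [← hg', ← (pbCone D c i a₀).w ψ₁, Category.assoc]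
  let h' := (pbDiag D i b₀).map ψ₁ ≫ h
  have hh1 : h' ≫ a₀ = pullback.snd (D.map k₁.hom) b₀ ≫ b₀ := comp_cond i b₀ a₀ ψ₁ h hh
  have hh1' : (pbCone D c i b₀).π.app k₁ ≫ h' = e.inv ≫ pullback.snd (c.π.app i) a₀ := by
    rw [← hh', ← (pbCone D c i b₀).w ψ₁, Category.assoc]
  have h1 : stageHom i a₀ b₀ k₁ g' hg1 ≫ h' = pullback.snd (D.map k₁.hom) a₀ := by
    rw [reassoc_of% stageHom_naturality i a₀ b₀ ψ₁ g hg, hk₁]
  -- second composite
  obtain ⟨k, ψ, hk⟩ := exists_stageHom_comp_eq hc i b₀ a₀ e.inv e.hom he' e.inv_hom_id k₁ h' hh1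
    hh1' g' hg1 hg1'
  let g'' := (pbDiag D i a₀).map ψ ≫ g'
  have hg2 : g'' ≫ b₀ = pullback.snd (D.map k.hom) a₀ ≫ a₀ := comp_cond i a₀ b₀ ψ g' hg1
  have hg2' : (pbCone D c i a₀).π.app k ≫ g'' = e.hom ≫ pullback.snd (c.π.app i) b₀ := by
    rw [← hg1', ← (pbCone D c i a₀).w ψ, Category.assoc]
  let h'' := (pbDiag D i b₀).map ψ ≫ h'
  have hh2 : h'' ≫ a₀ = pullback.snd (D.map k.hom) b₀ ≫ b₀ := comp_cond i b₀ a₀ ψ h' hh1
  have h2 : stageHom i b₀ a₀ k h'' hh2 ≫ g'' = pullback.snd (D.map k.hom) b₀ := by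
    rw [reassoc_of% stageHom_naturality i b₀ a₀ ψ h' hh1, hk]
  have h3 : stageHom i a₀ b₀ k g'' hg2 ≫ h'' = pullback.snd (D.map k.hom) a₀ := by
    rw [reassoc_of% stageHom_naturality i a₀ b₀ ψ g' hg1, h1]
    simp
  refine ⟨k, ⟨stageHom i a₀ b₀ k g'' hg2, stageHom i b₀ a₀ k h'' hh2, ?_, ?_⟩, ?_, ?_⟩
  · apply pullback.hom_ext
    · simp
    · rw [Category.assoc, stageHom_snd, h3]; simp
  · apply pullback.hom_ext
    · simp
    · rw [Category.assoc, stageHom_snd, h2]; simp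
  · simp
  · exact pbCone_π_stageHom i a₀ b₀ e.hom he k g'' hg2 hg2'

end Groth.Agent.Lead.LimIsoDesc
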