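import Mathlib
open CategoryTheory Limits AlgebraicGeometry

namespace Groth.Agent.Lead.Glue2
universe u

section Cover2
variable {Y A B : Scheme.{u}} (a : A ⟶ Y) (b : B ⟶ Y) [IsOpenImmersion a] [IsOpenImmersion b]

/-- two-member open cover -/
noncomputable def cover2 (h : ∀ y : Y, y ∈ Set.range a ∨ y ∈ Set.range b) : Y.OpenCover :=
  Scheme.Cover.mkOfCovers Bool (fun j ↦ cond j A B)
    (fun j ↦ match j with
      | true => a
      | false => b)
    (fun y ↦ by
      rcases h y with ⟨x, hx⟩ | ⟨x, hx⟩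
      exacts [⟨true, x, hx⟩, ⟨false, x, hx⟩])
    (fun j ↦ by cases j <;> (dsimp only; infer_instance))

end Cover2

section Span
variable {U₁ V₁ W₁ : Scheme.{u}} (α : W₁ ⟶ U₁) (β : W₁ ⟶ V₁) [IsOpenImmersion α] [IsOpenImmersion β]

instance spanOI {i j : WalkingSpan} (t : i ⟶ j) : IsOpenImmersion ((span α β).map t) := by
  obtain (a | (a | a)) := t
  · simp only [WidePushoutShape.hom_id, CategoryTheory.Functor.map_id]
    infer_instance
  · simpa
  · simpa

instance : HasPushout α β := inferInstanceAs (HasColimit (span α β))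

instance : IsOpenImmersion (pushout.inl α β) :=
  inferInstanceAs (IsOpenImmersion (colimit.ι (span α β) WalkingSpan.left))

instance : IsOpenImmersion (pushout.inr α β) :=
  inferInstanceAs (IsOpenImmersion (colimit.ι (span α β) WalkingSpan.right))

lemma inl_or_inr (y : ↑(pushout α β)) :
    y ∈ Set.range (pushout.inl α β) ∨ y ∈ Set.range (pushout.inr α β) := by
  obtain ⟨i, x, rfl⟩ := Scheme.IsLocallyDirected.ι_jointly_surjective (span α β) y
  rcases i with _ | (_ | _)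
  · left
    refine ⟨α x, ?_⟩
    have := colimit.w (span α β) (WidePushoutShape.Hom.init WalkingPair.left)
    rw [← this]
    simp
    rfl
  · left; exact ⟨x, rfl⟩
  · right; exact ⟨x, rfl⟩

lemma inl_eq_inr {x : U₁} {y : V₁} (h : (pushout.inl α β) x = (pushout.inr α β) y) :
    ∃ w : W₁, α w = x ∧ β w = y := by
  obtain ⟨k, fi, fj, w, h1, h2⟩ := (Scheme.IsLocallyDirected.ι_eq_ι_iff (span α β)
    (i := WalkingSpan.left) (j := WalkingSpan.right)).mp h
  rcases k with _ | (_ | _)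
  · obtain (a | a) := fi
    obtain (b | b) := fj
    exact ⟨w, h1, h2⟩
  · exact nomatch fj
  · exact nomatch fi

end Span

section Props
variable {Y A B : Scheme.{u}} (a : A ⟶ Y) (b : B ⟶ Y) [IsOpenImmersion a] [IsOpenImmersion b]
  (hab : ∀ y : Y, y ∈ Set.range a ∨ y ∈ Set.range b)

omit [IsOpenImmersion a] [IsOpenImmersion b] in
include hab in
lemma compactSpace_of_cover2 [CompactSpace A] [CompactSpace B] : CompactSpace Y := by
  constructor
  have : (Set.univ : Set Y) = Set.range a ∪ Set.range b := by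
    ext y; simpa using hab y
  rw [this]
  exact (isCompact_range a.continuous).union (isCompact_range b.continuous)

include hab in
lemma prop_of_cover2 (P : MorphismProperty Scheme.{u}) [IsZariskiLocalAtSource P] {T : Scheme.{u}}
    (h : Y ⟶ T) (ha : P (a ≫ h)) (hb : P (b ≫ h)) : P h := by
  refine IsZariskiLocalAtSource.of_openCover (cover2 a b hab) ?_
  rintro (_ | _)
  · exact hb
  · exact ha

include hab in
lemma quasiSeparatedSpace_of_cover2 [QuasiSeparatedSpace A] [QuasiSeparatedSpace B]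
    {W : Scheme.{u}} [CompactSpace W] (α : W ⟶ A) (β : W ⟶ B) (hαβ : α ≫ a = β ≫ b)
    (hint : ∀ x y, a x = b y → ∃ w, α w = x ∧ β w = y) : QuasiSeparatedSpace Y := by
  have hRa : IsQuasiSeparated (Set.range a) := by
    rw [← Set.image_univ, ← a.isOpenEmbedding.isQuasiSeparated_iff]
    exact isQuasiSeparated_univ
  have hRb : IsQuasiSeparated (Set.range b) := by
    rw [← Set.image_univ, ← b.isOpenEmbedding.isQuasiSeparated_iff]
    exact isQuasiSeparated_univ
  have hoa : IsOpen (Set.range a) := a.isOpenEmbedding.isOpen_range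
  have hob : IsOpen (Set.range b) := b.isOpenEmbedding.isOpen_range
  have hw : Set.range a ∩ Set.range b = Set.range (α ≫ a) := by
    ext y
    constructor
    · rintro ⟨⟨x, rfl⟩, ⟨y, hy⟩⟩
      obtain ⟨w, rfl, -⟩ := hint x y hy.symm
      exact ⟨w, by simp⟩
    · rintro ⟨w, rfl⟩
      refine ⟨⟨α w, by simp⟩, ⟨β w, ?_⟩⟩
      rw [← Scheme.Hom.comp_apply, ← hαβ]
  have hwc : IsCompact (Set.range a ∩ Set.range b) := by
    rw [hw]; exact isCompact_range (α ≫ a).continuous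
  have hwo : IsOpen (Set.range a ∩ Set.range b) := hoa.inter hob
  -- key compactness statement
  have key : ∀ Z₁ Z₂ : Set Y, IsOpen Z₁ → IsCompact Z₁ → IsOpen Z₂ → IsCompact Z₂ →
      Z₁ ⊆ Set.range a → Z₂ ⊆ Set.range b → IsCompact (Z₁ ∩ Z₂) := by
    intro Z₁ Z₂ o₁ c₁ o₂ c₂ h₁ h₂
    have e : Z₁ ∩ Z₂ = (Z₁ ∩ (Set.range a ∩ Set.range b)) ∩ (Z₂ ∩ (Set.range a ∩ Set.range b)) := by
      ext y
      constructor
      · rintro ⟨y1, y2⟩
        exact ⟨⟨y1, h₁ y1, h₂ y2⟩, ⟨y2, h₁ y1, h₂ y2⟩⟩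
      · rintro ⟨⟨y1, -⟩, ⟨y2, -⟩⟩
        exact ⟨y1, y2⟩
    rw [e]
    have d₁ : IsCompact (Z₁ ∩ (Set.range a ∩ Set.range b)) :=
      hRa _ _ h₁ o₁ c₁ Set.inter_subset_left hwo hwc
    have d₂ : IsCompact (Z₂ ∩ (Set.range a ∩ Set.range b)) :=
      hRb _ _ h₂ o₂ c₂ Set.inter_subset_right hwo hwc
    exact hRa _ _ (Set.inter_subset_left.trans h₁) (o₁.inter hwo) d₁
      (Set.inter_subset_right.trans Set.inter_subset_left) (o₂.inter hwo) d₂
  let J := {Z : Y.affineOpens // (Z.1 : Set Y) ⊆ Set.range a ∨ (Z.1 : Set Y) ⊆ Set.range b}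
  refine Scheme.quasiSeparatedSpace_of_isOpenCover (I := J) (fun Z ↦ Z.1.1) ?_ (fun Z ↦ Z.1.2) ?_
  · refine TopologicalSpace.IsOpenCover.mk (top_le_iff.mp fun y _ ↦ ?_)
    rcases hab y with hy | hy
    · obtain ⟨_, ⟨Z, hZa, rfl⟩, hyZ, hZ⟩ :=
        Y.isBasis_affineOpens.exists_subset_of_mem_open hy hoa
      exact TopologicalSpace.Opens.mem_iSup.mpr ⟨⟨⟨Z, hZa⟩, Or.inl hZ⟩, hyZ⟩
    · obtain ⟨_, ⟨Z, hZa, rfl⟩, hyZ, hZ⟩ :=
        Y.isBasis_affineOpens.exists_subset_of_mem_open hy hob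
      exact TopologicalSpace.Opens.mem_iSup.mpr ⟨⟨⟨Z, hZa⟩, Or.inr hZ⟩, hyZ⟩
  · rintro ⟨Z₁, h₁ | h₁⟩ ⟨Z₂, h₂ | h₂⟩
    · exact hRa _ _ h₁ Z₁.1.2 Z₁.2.isCompact h₂ Z₂.1.2 Z₂.2.isCompact
    · exact key _ _ Z₁.1.2 Z₁.2.isCompact Z₂.1.2 Z₂.2.isCompact h₁ h₂
    · rw [Set.inter_comm]
      exact key _ _ Z₂.1.2 Z₂.2.isCompact Z₁.1.2 Z₁.2.isCompact h₂ h₁
    · exact hRb _ _ h₁ Z₁.1.2 Z₁.2.isCompact h₂ Z₂.1.2 Z₂.2.isCompact

end Props

section Main
variable {X S T U V : Scheme.{u}} (f : X ⟶ S) (π : S ⟶ T)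
    (u : U ⟶ X) (v : V ⟶ X) [IsOpenImmersion u] [IsOpenImmersion v]
    (huv : ∀ x : X, x ∈ Set.range u ∨ x ∈ Set.range v)
    {U₁ V₁ W₁ : Scheme.{u}} (p : U₁ ⟶ T) (q : V₁ ⟶ T) (α : W₁ ⟶ U₁) (β : W₁ ⟶ V₁)
    [IsOpenImmersion α] [IsOpenImmersion β] (hpq : α ≫ p = β ≫ q)
    (gU : U ⟶ U₁) (gV : V ⟶ V₁) (sqU : IsPullback gU (u ≫ f) p π)
    (sqV : IsPullback gV (v ≫ f) q π)
    (gW : pullback u v ⟶ W₁) (hWα : gW ≫ α = pullback.fst u v ≫ gU)
    (hWβ : gW ≫ β = pullback.snd u v ≫ gV)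
    (hα : gU ⁻¹ᵁ α.opensRange = u ⁻¹ᵁ v.opensRange)
    (hβ : gV ⁻¹ᵁ β.opensRange = v ⁻¹ᵁ u.opensRange)

include huv sqU sqV hWα hWβ hα hβ in
set_option backward.isDefEq.respectTransparency false in
theorem glue_isPullback : ∃ (g : X ⟶ pushout α β), u ≫ g = gU ≫ pushout.inl α β ∧
    v ≫ g = gV ≫ pushout.inr α β ∧ IsPullback g f (pushout.desc p q hpq) π := by
  have compat : pullback.fst u v ≫ gU ≫ pushout.inl α β =
      pullback.snd u v ≫ gV ≫ pushout.inr α β := by
    rw [← reassoc_of% hWα, ← reassoc_of% hWβ, pushout.condition]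
  let F : ∀ j : Bool, (cover2 u v huv).X j ⟶ pushout α β := fun j ↦
    match j with
    | true => gU ≫ pushout.inl α β
    | false => gV ≫ pushout.inr α β
  have hF : ∀ x y, pullback.fst ((cover2 u v huv).f x) ((cover2 u v huv).f y) ≫ F x =
      pullback.snd _ _ ≫ F y := by
    rintro (_ | _) (_ | _)
    · change pullback.fst v v ≫ _ = pullback.snd v v ≫ _
      rw [fst_eq_snd_of_mono_eq]
    · change pullback.fst v u ≫ gV ≫ pushout.inr α β = pullback.snd v u ≫ gU ≫ pushout.inl α β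
      rw [← pullbackSymmetry_hom_comp_snd v u, ← pullbackSymmetry_hom_comp_fst v u,
        Category.assoc, Category.assoc, compat]
    · exact compat
    · change pullback.fst u u ≫ _ = pullback.snd u u ≫ _
      rw [fst_eq_snd_of_mono_eq]
  let g : X ⟶ pushout α β := (cover2 u v huv).glueMorphisms F hF
  have hgu : u ≫ g = gU ≫ pushout.inl α β := (cover2 u v huv).ι_glueMorphisms F hF true
  have hgv : v ≫ g = gV ≫ pushout.inr α β := (cover2 u v huv).ι_glueMorphisms F hF false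
  have Ha : g ⁻¹ᵁ (pushout.inl α β).opensRange = u.opensRange := by
    ext x
    constructor
    · intro hx
      rcases huv x with hxu | ⟨y, rfl⟩
      · exact hxu
      · have e1 : g (v y) = pushout.inr α β (gV y) := by
          rw [← Scheme.Hom.comp_apply, hgv, Scheme.Hom.comp_apply]
        obtain ⟨z, hz⟩ := hx
        obtain ⟨w, hw1, hw2⟩ := inl_eq_inr α β (hz.trans e1)
        have : y ∈ gV ⁻¹ᵁ β.opensRange := ⟨w, hw2⟩
        rw [hβ] at this
        exact this
    · rintro ⟨y, rfl⟩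
      exact ⟨gU y, by rw [← Scheme.Hom.comp_apply, ← hgu, Scheme.Hom.comp_apply]⟩
  have Hb : g ⁻¹ᵁ (pushout.inr α β).opensRange = v.opensRange := by
    ext x
    constructor
    · intro hx
      rcases huv x with ⟨y, rfl⟩ | hxv
      · have e1 : g (u y) = pushout.inl α β (gU y) := by
          rw [← Scheme.Hom.comp_apply, hgu, Scheme.Hom.comp_apply]
        obtain ⟨z, hz⟩ := hx
        obtain ⟨w, hw1, hw2⟩ := inl_eq_inr α β (e1.symm.trans hz.symm)
        have : y ∈ gU ⁻¹ᵁ α.opensRange := ⟨w, hw1⟩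
        rw [hα] at this
        exact this
      · exact hxv
    · rintro ⟨y, rfl⟩
      exact ⟨gV y, by rw [← Scheme.Hom.comp_apply, ← hgv, Scheme.Hom.comp_apply]⟩
  refine ⟨g, hgu, hgv, Scheme.isPullback_of_openCover g f (pushout.desc p q hpq) π
    (cover2 (pushout.inl α β) (pushout.inr α β) (inl_or_inr α β)) ?_⟩
  rintro (_ | _)
  · change IsPullback (pullback.snd g (pushout.inr α β)) (pullback.fst g (pushout.inr α β) ≫ f)
      (pushout.inr α β ≫ pushout.desc p q hpq) π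
    have pV : IsPullback gV v (pushout.inr α β) g :=
      IsOpenImmersion.isPullback gV v (pushout.inr α β) g hgv Hb
    refine IsPullback.of_iso sqV pV.flip.isoPullback (Iso.refl _) (Iso.refl _) (Iso.refl _)
      ?_ ?_ ?_ ?_
    · simp
    · simp
    · simp
    · simp
  · change IsPullback (pullback.snd g (pushout.inl α β)) (pullback.fst g (pushout.inl α β) ≫ f)
      (pushout.inl α β ≫ pushout.desc p q hpq) π
    have pU : IsPullback gU u (pushout.inl α β) g :=
      IsOpenImmersion.isPullback gU u (pushout.inl α β) g hgu Ha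
    refine IsPullback.of_iso sqU pU.flip.isoPullback (Iso.refl _) (Iso.refl _) (Iso.refl _)
      ?_ ?_ ?_ ?_
    · simp
    · simp
    · simp
    · simp

end Main

end Groth.Agent.Lead.Glue2
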