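import Groth.Agent.Lead.HomGlueA
import Mathlib
open CategoryTheory Limits AlgebraicGeometry TopologicalSpace Opposite

namespace Groth.Agent.Lead.HomGlueB
universe u

variable {X : Scheme.{u}} (x : X)

/-- affine open neighbourhoods of `x` -/
def Nb : Type u := {V : X.Opens // IsAffineOpen V ∧ x ∈ V}

instance : Preorder (Nb x) := inferInstanceAs (Preorder {V : X.Opens // IsAffineOpen V ∧ x ∈ V})

variable {x} in
lemma Nb.aff (V : Nb x) : IsAffineOpen V.1 := V.2.1
variable {x} in
lemma Nb.mem (V : Nb x) : x ∈ V.1 := V.2.2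

lemma exists_nb_le (O : X.Opens) (hx : x ∈ O) : ∃ V : Nb x, V.1 ≤ O := by
  obtain ⟨W, hW, hxW, hWO⟩ := exists_isAffineOpen_mem_and_subset hx
  exact ⟨⟨W, hW, hxW⟩, hWO⟩

instance : Nonempty (Nb x) := by
  obtain ⟨V, -⟩ := exists_nb_le x ⊤ trivial
  exact ⟨V⟩

instance : IsDirected (Nb x) (· ≥ ·) := by
  refine ⟨fun V V' ↦ ?_⟩
  obtain ⟨V'', h⟩ := exists_nb_le x (V.1 ⊓ V'.1) ⟨V.mem, V'.mem⟩
  exact ⟨V'', h.trans inf_le_left, h.trans inf_le_right⟩

/-- the diagram of rings of sections over affine neighbourhoods -/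
def ringDiag : (Nb x)ᵒᵖ ⥤ CommRingCat.{u} where
  obj V := Γ(X, V.unop.1)
  map {V V'} f := X.presheaf.map (homOfLE (show V'.unop.1 ≤ V.unop.1 from f.unop.le)).op
  map_id V := X.presheaf.map_id _
  map_comp f g := by
    rw [← X.presheaf.map_comp]
    rfl

/-- the cocone of germs -/
noncomputable def ringCocone : Cocone (ringDiag x) where
  pt := X.presheaf.stalk x
  ι :=
    { app := fun V ↦ X.presheaf.germ V.unop.1 x V.unop.mem
      naturality := by
        intro V V' f
        dsimp only [Functor.const_obj_obj, Functor.const_obj_map]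
        rw [Category.comp_id]
        exact X.presheaf.germ_res _ x _ }

lemma ringCocone_isColimit : Nonempty (IsColimit (ringCocone x)) := by
  have : ReflectsFilteredColimits (forget CommRingCat.{u}) :=
    ⟨fun _ ↦ reflectsColimitsOfShape_of_reflectsIsomorphisms⟩
  refine ReflectsColimit.reflects (F := forget _) (Types.FilteredColimit.isColimitOf' _ _ ?_ ?_)
  · intro (r : X.presheaf.stalk x)
    obtain ⟨O, hxO, s, rfl⟩ := X.presheaf.germ_exist (x := x) r
    obtain ⟨V, hVO⟩ := exists_nb_le x O hxO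
    refine ⟨op V, X.presheaf.map (homOfLE hVO).op s, ?_⟩
    exact (X.presheaf.germ_res_apply (homOfLE hVO) x V.mem s).symm
  · intro V (s : Γ(X, V.unop.1)) (t : Γ(X, V.unop.1)) hst
    obtain ⟨O, hxO, i₁, i₂, h⟩ := X.presheaf.germ_eq x V.unop.mem V.unop.mem s t hst
    obtain ⟨V', hV'O⟩ := exists_nb_le x O hxO
    have hle : V' ≤ V.unop := hV'O.trans i₁.le
    refine ⟨op V', (homOfLE hle).op, ?_⟩
    have := congrArg (X.presheaf.map (homOfLE hV'O).op) h
    simp only [← CommRingCat.comp_apply, ← Functor.map_comp] at this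
    exact this

/-- the diagram of affine neighbourhoods -/
noncomputable def D : Nb x ⥤ Scheme.{u} := (ringDiag x).rightOp ⋙ Scheme.Spec

/-- the cone with apex `Spec 𝒪_{X,x}` -/
noncomputable def cone : Cone (D x) :=
  Scheme.Spec.mapCone (coneRightOpOfCocone (ringCocone x))

lemma cone_isLimit : Nonempty (IsLimit (cone x)) := by
  obtain ⟨h⟩ := ringCocone_isColimit x
  exact ⟨isLimitOfPreserves Scheme.Spec (isLimitConeRightOpOfCocone _ h)⟩


lemma D_obj (V : Nb x) : (D x).obj V = Spec Γ(X, V.1) := rfl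

lemma D_map {V V' : Nb x} (f : V ⟶ V') :
    (D x).map f = Spec.map (X.presheaf.map (homOfLE (show V.1 ≤ V'.1 from f.le)).op) := rfl

lemma cone_pt : (cone x).pt = Spec (X.presheaf.stalk x) := rfl

lemma cone_π (V : Nb x) : (cone x).π.app V = Spec.map (X.presheaf.germ V.1 x V.mem) := rfl

instance (V : Nb x) : IsAffine ((D x).obj V) := inferInstanceAs (IsAffine (Spec Γ(X, V.1)))

instance {V V' : Nb x} (f : V ⟶ V') : IsAffineHom ((D x).map f) :=
  inferInstanceAs (IsAffineHom (Spec.map (X.presheaf.map (homOfLE (show V.1 ≤ V'.1 from f.le)).op)))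

/-- the open immersion of the affine neighbourhood -/
noncomputable def fs (V : Nb x) : (D x).obj V ⟶ X := V.aff.fromSpec

instance (V : Nb x) : IsOpenImmersion (fs x V) :=
  inferInstanceAs (IsOpenImmersion V.aff.fromSpec)

lemma range_fs (V : Nb x) : Set.range (fs x V) = V.1 := V.aff.range_fromSpec

lemma opensRange_fs (V : Nb x) : (fs x V).opensRange = V.1 := V.aff.opensRange_fromSpec

lemma D_map_fs {V V' : Nb x} (f : V ⟶ V') : (D x).map f ≫ fs x V' = fs x V :=
  V'.aff.map_fromSpec V.aff (homOfLE (show V.1 ≤ V'.1 from f.le)).op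

lemma cone_π_fs (V : Nb x) : (cone x).π.app V ≫ fs x V = X.fromSpecStalk x :=
  V.aff.fromSpecStalk_eq_fromSpecStalk V.mem


section Ext
variable {Y S : Scheme.{u}} (p : X ⟶ S) (q : Y ⟶ S)

/-- the structure maps to `S` -/
noncomputable def tS : D x ⟶ (Functor.const (Nb x)).obj S where
  app V := fs x V ≫ p
  naturality V V' f := by
    dsimp only [Functor.const_obj_obj, Functor.const_obj_map]
    rw [Category.comp_id, ← Category.assoc, D_map_fs]

lemma tS_app (V : Nb x) : (tS x p).app V = fs x V ≫ p := rfl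

lemma exists_extension [LocallyOfFinitePresentation q] (b : Spec (X.presheaf.stalk x) ⟶ Y)
    (hb : b ≫ q = X.fromSpecStalk x ≫ p) :
    ∃ (V : Nb x) (b₁ : (D x).obj V ⟶ Y), (cone x).π.app V ≫ b₁ = b ∧ b₁ ≫ q = fs x V ≫ p := by
  obtain ⟨hc⟩ := cone_isLimit x
  have hcomp : ∀ V : Nb x, CompactSpace ((D x).obj V) := fun V ↦ inferInstance
  have hqs : ∀ V : Nb x, QuasiSeparatedSpace ((D x).obj V) := fun V ↦ inferInstance
  obtain ⟨V, b₁, h1, h2⟩ := Scheme.exists_π_app_comp_eq_of_locallyOfFinitePresentation (D x)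
    (tS x p) q (cone x) hc b (by
      ext V : 2
      change (cone x).π.app V ≫ fs x V ≫ p = b ≫ q
      exact ((Category.assoc _ _ _).symm.trans (congrArg (· ≫ p) (cone_π_fs x V))).trans hb.symm)
  exact ⟨V, b₁, h1, h2⟩

end Ext

end Groth.Agent.Lead.HomGlueB
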