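import Groth.Agent.Lead.LimHom
open CategoryTheory Limits AlgebraicGeometry

namespace Groth.Agent.Lead.LimFaithful
open Groth.Agent.Lead.LimPullback Groth.Agent.Lead.LimHom
universe u
variable {I : Type u} [SmallCategory I] [IsCofiltered I] (D : I ⥤ Scheme.{u}) (c : Cone D)
  (hc : IsLimit c) [∀ {i j : I} (f : i ⟶ j), IsAffineHom (D.map f)] (i : I)
  {Xi : Scheme.{u}} (xi : Xi ⟶ D.obj i)

include hc in
set_option backward.isDefEq.respectTransparency false in
/-- faithfulness in the "pullback.fst" form -/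
theorem hom_eq_eventually' [CompactSpace Xi] {Z : Scheme.{u}} (z : Z ⟶ D.obj i)
    [LocallyOfFiniteType z] (a b : Xi ⟶ Z) (ha : a ≫ z = xi) (hb : b ≫ z = xi)
    (h : pullback.fst xi (c.π.app i) ≫ a = pullback.fst xi (c.π.app i) ≫ b) :
    ∃ (j : I) (t : j ⟶ i), pullback.fst xi (D.map t) ≫ a = pullback.fst xi (D.map t) ≫ b := by
  obtain ⟨j, θ, hj⟩ := hom_eq_eventually D c hc i xi z (Over.mk (𝟙 i))
    (pullback.snd (D.map (𝟙 i)) xi ≫ a) (pullback.snd (D.map (𝟙 i)) xi ≫ b)
    (by rw [Category.assoc, ha]; rfl) (by rw [Category.assoc, hb]; rfl)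
    (by
      have e : (pbCone D c i xi).π.app (Over.mk (𝟙 i)) ≫ pullback.snd (D.map (𝟙 i)) xi =
          (pullbackSymmetry _ _).hom ≫ pullback.fst xi (c.π.app i) := by
        simp [pbCone]
      rw [← Category.assoc, ← Category.assoc, e, Category.assoc, Category.assoc, h])
  refine ⟨j.left, j.hom, ?_⟩
  have e2 : (pbDiag D i xi).map θ ≫ pullback.snd (D.map (𝟙 i)) xi =
      (pullbackSymmetry _ _).hom ≫ pullback.fst xi (D.map j.hom) := by
    simp [pbDiag]
  rw [← Category.assoc, ← Category.assoc, e2, Category.assoc, Category.assoc,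
    Iso.cancel_iso_hom_left] at hj
  exact hj

end Groth.Agent.Lead.LimFaithful
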