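import Groth.Agent.Lead.LimFinite
import Groth.Agent.Lead.LimSmooth
import Groth.Agent.Lead.LimExistOver
import Groth.Agent.Lead.LimFaithful
open CategoryTheory Limits AlgebraicGeometry

namespace Groth.Agent.Lead.LimFEt
universe u
variable {I : Type u} [SmallCategory I] [IsCofiltered I] {D : I ⥤ Scheme.{u}} {c : Cone D}
  (hc : IsLimit c) [∀ {i j : I} (f : i ⟶ j), IsAffineHom (D.map f)]

include hc in
/-- a finite étale cover of the limit comes from a stage -/
theorem exists_fet_model [∀ i, CompactSpace (D.obj i)] [∀ i, QuasiSeparatedSpace (D.obj i)]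
    {V : Scheme.{u}} (v : V ⟶ c.pt) [IsFinite v] [Etale v] :
    ∃ (j : I) (Vj : Scheme.{u}) (vj : Vj ⟶ D.obj j) (g : V ⟶ Vj),
      IsFinite vj ∧ Etale vj ∧ IsPullback g v vj (c.π.app j) := by
  obtain ⟨i₀⟩ := IsCofiltered.nonempty (C := I)
  have hπ : IsAffineHom (c.π.app i₀) := isAffineHom_π_app D c hc i₀
  have hcpt : CompactSpace c.pt := QuasiCompact.compactSpace_of_compactSpace (c.π.app i₀)
  have hqs : QuasiSeparatedSpace c.pt := quasiSeparatedSpace_of_quasiSeparated (c.π.app i₀)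
  have : CompactSpace V := QuasiCompact.compactSpace_of_compactSpace v
  have : QuasiSeparatedSpace V := quasiSeparatedSpace_of_quasiSeparated v
  obtain ⟨j, t, M, hM⟩ := Groth.Agent.Lead.LimExist.exists_model_prop_over hc
    (@IsFinite ⊓ @Etale) i₀
    (fun k s X₀ f₀ _ _ _ h ↦ by
      obtain ⟨j₁, h1⟩ := Groth.Agent.Lead.LimFinite.isFinite_descends hc k (𝟙 _) f₀ h.1
      obtain ⟨j₂, h2⟩ := Groth.Agent.Lead.LimSmooth.etale_descends hc k (𝟙 _) f₀ h.2
      obtain ⟨j, u₁, u₂, -⟩ := IsCofilteredOrEmpty.cone_objs j₁ j₂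
      exact ⟨j, Groth.Agent.Lead.LimBC.stage_of_hom @IsFinite u₁ h1,
        Groth.Agent.Lead.LimBC.stage_of_hom @Etale u₂ h2⟩)
    v ⟨inferInstance, inferInstance⟩
  exact ⟨j, M.Xi, M.fi, M.g, hM.1, hM.2, M.sq⟩

end Groth.Agent.Lead.LimFEt
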