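import Mathlib
import Groth.Agent.Lead.Hartogs2

/-!
# Gluing unique local extensions of morphisms (general test morphism `w : W ⟶ Y`)

Generalization of `Lead.FFGlue`: instead of an open subscheme `W ⊆ Y` whose pieces have the same
global functions, we take an arbitrary morphism `w : W ⟶ Y` and assume that over every affine open
`V` of the base, morphisms `W_V ⟶ Z_V` over `V` extend uniquely to `Y_V ⟶ Z_V` over `V`.
-/

set_option autoImplicit false
universe u
open CategoryTheory CategoryTheory.Limits AlgebraicGeometry TopologicalSpace Opposite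

namespace Groth.Agent.Lead.FFGlue2

section Glue

variable {W Y Z S : Scheme.{u}} (f : Y ⟶ S) (g : Z ⟶ S) (w : W ⟶ Y)

/-- the piece of `W` over the affine open `V` of `S` -/
noncomputable abbrev pV (V : S.affineOpens) :
    pullback w (pullback.fst f V.1.ι) ⟶ pullback f V.1.ι :=
  pullback.snd w (pullback.fst f V.1.ι)

/-- local unique extension property over every affine open of the base -/
def LocalEU : Prop :=
  ∀ (V : S.affineOpens) (c' : pullback w (pullback.fst f V.1.ι) ⟶ pullback g V.1.ι),
    c' ≫ pullback.snd g V.1.ι = pV f w V ≫ pullback.snd f V.1.ι →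
    ∃! a : pullback f V.1.ι ⟶ pullback g V.1.ι,
      a ≫ pullback.snd g V.1.ι = pullback.snd f V.1.ι ∧ pV f w V ≫ a = c'

variable (hW : LocalEU f g w) (c : W ⟶ Z) (hc : c ≫ g = w ≫ f)

include hc in
theorem cV_cond (V : S.affineOpens) :
    (pullback.fst w (pullback.fst f V.1.ι) ≫ c) ≫ g =
      (pV f w V ≫ pullback.snd f V.1.ι) ≫ V.1.ι := by
  rw [Category.assoc, hc, ← Category.assoc, pullback.condition, Category.assoc, Category.assoc,
    pullback.condition]

/-- the restriction of `c` over `V` -/
noncomputable def cV (V : S.affineOpens) :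
    pullback w (pullback.fst f V.1.ι) ⟶ pullback g V.1.ι :=
  pullback.lift (pullback.fst w (pullback.fst f V.1.ι) ≫ c) (pV f w V ≫ pullback.snd f V.1.ι)
    (cV_cond f g w c hc V)

include hW in
theorem exists_aV (V : S.affineOpens) :
    ∃! a : pullback f V.1.ι ⟶ pullback g V.1.ι,
      a ≫ pullback.snd g V.1.ι = pullback.snd f V.1.ι ∧ pV f w V ≫ a = cV f g w c hc V :=
  hW V (cV f g w c hc V) (pullback.lift_snd _ _ _)

/-- the extension over `V` -/
noncomputable def gV (V : S.affineOpens) : pullback f V.1.ι ⟶ Z :=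
  (exists_aV f g w hW c hc V).exists.choose ≫ pullback.fst g V.1.ι

theorem pV_gV (V : S.affineOpens) :
    pV f w V ≫ gV f g w hW c hc V = pullback.fst w (pullback.fst f V.1.ι) ≫ c := by
  have h1 := (exists_aV f g w hW c hc V).exists.choose_spec.2
  rw [gV, ← Category.assoc, h1, cV, pullback.lift_fst]

/-- characterization of `gV` -/
theorem eq_gV (V : S.affineOpens) (b : pullback f V.1.ι ⟶ Z)
    (hb1 : b ≫ g = pullback.fst f V.1.ι ≫ f)
    (hb2 : pV f w V ≫ b = pullback.fst w (pullback.fst f V.1.ι) ≫ c) :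
    b = gV f g w hW c hc V := by
  let b' : pullback f V.1.ι ⟶ pullback g V.1.ι :=
    pullback.lift b (pullback.snd f V.1.ι) (by rw [hb1, pullback.condition])
  have hb' : b' ≫ pullback.snd g V.1.ι = pullback.snd f V.1.ι ∧
      pV f w V ≫ b' = cV f g w c hc V := by
    refine ⟨pullback.lift_snd _ _ _, ?_⟩
    apply pullback.hom_ext
    · rw [Category.assoc, pullback.lift_fst, hb2, cV, pullback.lift_fst]
    · rw [Category.assoc, pullback.lift_snd, cV, pullback.lift_snd]
  have h1 := (exists_aV f g w hW c hc V).unique hb'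
    (exists_aV f g w hW c hc V).exists.choose_spec
  rw [gV, ← h1, pullback.lift_fst]

theorem gV_comp (V : S.affineOpens) :
    gV f g w hW c hc V ≫ g = pullback.fst f V.1.ι ≫ f := by
  have h2 := (exists_aV f g w hW c hc V).exists.choose_spec.1
  rw [gV, Category.assoc, pullback.condition, ← Category.assoc, h2, pullback.condition]

/-- the cover of `Y` by the preimages of affine opens of `S` -/
noncomputable abbrev cov : Y.OpenCover := S.directedAffineCover.pullback₁ f

/-- transition maps -/
noncomputable def tr {V V' : S.affineOpens} (hVV' : V ≤ V') :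
    pullback f V.1.ι ⟶ pullback f V'.1.ι :=
  pullback.map f V.1.ι f V'.1.ι (𝟙 _) (S.homOfLE hVV') (𝟙 _) (by simp) (by simp)

theorem tr_fst {V V' : S.affineOpens} (hVV' : V ≤ V') :
    tr f hVV' ≫ pullback.fst f V'.1.ι = pullback.fst f V.1.ι := by
  rw [tr, pullback.lift_fst, Category.comp_id]

theorem tr_gV {V V' : S.affineOpens} (hVV' : V ≤ V') :
    tr f hVV' ≫ gV f g w hW c hc V' = gV f g w hW c hc V := by
  apply eq_gV
  · rw [Category.assoc, gV_comp, ← Category.assoc, tr_fst]
  · let q : pullback w (pullback.fst f V.1.ι) ⟶ pullback w (pullback.fst f V'.1.ι) :=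
      pullback.lift (pullback.fst w (pullback.fst f V.1.ι))
        (pV f w V ≫ tr f hVV')
        (by rw [Category.assoc, tr_fst]; exact pullback.condition)
    have hq1 : q ≫ pV f w V' = pV f w V ≫ tr f hVV' := pullback.lift_snd _ _ _
    have hq2 : q ≫ pullback.fst w (pullback.fst f V'.1.ι) =
        pullback.fst w (pullback.fst f V.1.ι) := pullback.lift_fst _ _ _
    rw [← Category.assoc, ← hq1, Category.assoc, pV_gV, ← Category.assoc, hq2]

theorem trans_eq_tr {V V' : S.affineOpens} (hij : V ⟶ V') :
    Scheme.Cover.trans (cov f) hij = tr f (leOfHom hij) := by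
  have hle : V ≤ V' := leOfHom hij
  have e : hij = homOfLE hle := Subsingleton.elim _ _
  subst e
  rfl

include hW hc in
/-- Morphisms `W ⟶ Z` over `S` extend uniquely along `w : W ⟶ Y` if they do so over every affine
open of `S`. -/
theorem existsUnique_extension :
    ∃! a : Y ⟶ Z, a ≫ g = f ∧ w ≫ a = c := by
  let a : Y ⟶ Z := Scheme.OpenCover.glueMorphismsOfLocallyDirected (cov f)
    (fun V => gV f g w hW c hc V) (fun {V V'} hij => by
      have h1 := trans_eq_tr f hij
      have h2 := tr_gV f g w hW c hc (leOfHom hij)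
      exact (congrArg (· ≫ gV f g w hW c hc V') h1).trans h2)
  have ha : ∀ V : S.affineOpens, pullback.fst f V.1.ι ≫ a = gV f g w hW c hc V := fun V =>
    Scheme.OpenCover.map_glueMorphismsOfLocallyDirected (cov f) _ _ V
  refine ⟨a, ⟨?_, ?_⟩, ?_⟩
  · apply (cov f).hom_ext
    intro V
    change pullback.fst f V.1.ι ≫ a ≫ g = pullback.fst f V.1.ι ≫ f
    rw [← Category.assoc, ha, gV_comp]
  · apply ((cov f).pullback₁ w).hom_ext
    intro V
    change pullback.fst w (pullback.fst f V.1.ι) ≫ w ≫ a =
      pullback.fst w (pullback.fst f V.1.ι) ≫ c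
    rw [← Category.assoc, pullback.condition, Category.assoc, ha]
    exact pV_gV f g w hW c hc V
  · rintro a' ⟨ha1, ha2⟩
    apply (cov f).hom_ext
    intro V
    change pullback.fst f V.1.ι ≫ a' = pullback.fst f V.1.ι ≫ a
    rw [ha]
    apply eq_gV
    · rw [Category.assoc, ha1]
    · change pullback.snd w (pullback.fst f V.1.ι) ≫ pullback.fst f V.1.ι ≫ a' = _
      rw [← Category.assoc, ← pullback.condition, Category.assoc, ha2]

end Glue

section Local

variable {W' Y' Z' V' : Scheme.{u}} [IsAffine Y'] [IsAffine Z'] [IsAffine V']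

/-- cancellation of a morphism inducing an injection on global functions, for affine targets -/
theorem cancel_of_injective_appTop {T : Scheme.{u}} [IsAffine T] (q : W' ⟶ Y')
    (hinj : Function.Injective q.appTop.hom) (x y : Y' ⟶ T) (hxy : q ≫ x = q ≫ y) : x = y := by
  apply ext_of_isAffine
  have h1 : (q ≫ x).appTop = (q ≫ y).appTop := by rw [hxy]
  rw [Scheme.Hom.comp_appTop, Scheme.Hom.comp_appTop] at h1
  ext t
  apply hinj
  exact congrArg (fun φ => φ.hom t) h1

/-- Local unique extension from injectivity and integral closedness on global functions. -/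
theorem existsUnique_of_integral (q : W' ⟶ Y') (hf : Y' ⟶ V') (hg : Z' ⟶ V') [IsFinite hg]
    (hinj : Function.Injective q.appTop.hom)
    (hint : ∀ r : Γ(W', ⊤), ((q ≫ hf).appTop.hom).IsIntegralElem r →
      r ∈ Set.range q.appTop.hom)
    (c' : W' ⟶ Z') (hc' : c' ≫ hg = q ≫ hf) :
    ∃! a : Y' ⟶ Z', a ≫ hg = hf ∧ q ≫ a = c' := by
  have hfin : hg.appTop.hom.Finite := (HasAffineProperty.iff_of_isAffine (P := @IsFinite)).mp
    (inferInstance : IsFinite hg) |>.2
  have hmem : ∀ z : Γ(Z', ⊤), c'.appTop.hom z ∈ q.appTop.hom.range := by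
    intro z
    apply hint
    obtain ⟨p, hp, hpz⟩ := hfin.to_isIntegral z
    refine ⟨p, hp, ?_⟩
    have h1 : (q ≫ hf).appTop.hom = c'.appTop.hom.comp hg.appTop.hom := by
      rw [← hc', Scheme.Hom.comp_appTop]; rfl
    rw [h1, ← Polynomial.hom_eval₂, hpz, map_zero]
  let e : Γ(Y', ⊤) ≃+* q.appTop.hom.range :=
    RingEquiv.ofBijective q.appTop.hom.rangeRestrict
      ⟨fun x y hxy => hinj (congrArg Subtype.val hxy), q.appTop.hom.rangeRestrict_surjective⟩
  let α : Γ(Z', ⊤) →+* Γ(Y', ⊤) :=
    e.symm.toRingHom.comp (c'.appTop.hom.codRestrict q.appTop.hom.range hmem)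
  have hα : ∀ z, q.appTop.hom (α z) = c'.appTop.hom z := by
    intro z
    have h1 : e (α z) = c'.appTop.hom.codRestrict q.appTop.hom.range hmem z :=
      e.apply_symm_apply _
    exact congrArg Subtype.val h1
  let a : Y' ⟶ Z' := Hartogs2.ofAppTop (CommRingCat.ofHom α)
  have ha : a.appTop = CommRingCat.ofHom α := Hartogs2.ofAppTop_appTop _
  have hqa : q ≫ a = c' := by
    apply ext_of_isAffine
    rw [Scheme.Hom.comp_appTop, ha]
    ext z
    exact hα z
  refine ⟨a, ⟨?_, hqa⟩, ?_⟩
  · apply cancel_of_injective_appTop q hinj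
    rw [← Category.assoc, hqa, hc']
  · rintro a' ⟨-, ha'⟩
    exact cancel_of_injective_appTop q hinj _ _ (ha'.trans hqa.symm)

end Local

end Groth.Agent.Lead.FFGlue2
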