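import Mathlib
import Groth.Agent.Helper2.WEIntF

/-!
# Integral elements of a localization of a weakly étale algebra over a normal domain
-/

set_option autoImplicit false
universe u
open TensorProduct

namespace Groth.Agent.Lead.NormFF

/-- Let `A` be a normal domain, `B` a weakly étale `A`-algebra, `g ≠ 0` in `A`. Every element of
`B_g` which is integral over `A` comes from `B`. -/
theorem exists_of_isIntegral_away (A : Type u) [CommRing A] [IsDomain A] [IsIntegrallyClosed A]
    (B : Type u) [CommRing B] [Algebra A B] [Algebra.WeaklyEtale A B]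
    (g : A) (hg : g ≠ 0) (Bg : Type u) [CommRing Bg] [Algebra B Bg] [Algebra A Bg]
    [IsScalarTower A B Bg] [IsLocalization.Away (algebraMap A B g) Bg] (x : Bg)
    (hx : IsIntegral A x) : ∃ b : B, algebraMap B Bg b = x := by
  classical
  let K := FractionRing A
  let ι : B →+* B ⊗[A] K := algebraMap B (B ⊗[A] K)
  have hι : Function.Injective ι :=
    Algebra.TensorProduct.includeLeft_injective (S := A) (IsFractionRing.injective A K)
  have hu : IsUnit (ι (algebraMap A B g)) := by
    have hgK : IsUnit (algebraMap A K g) :=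
      IsUnit.mk0 _ ((map_ne_zero_iff _ (IsFractionRing.injective A K)).mpr hg)
    have h1 : ι (algebraMap A B g) =
        (Algebra.TensorProduct.includeRight : K →ₐ[A] B ⊗[A] K) (algebraMap A K g) := by
      rw [AlgHom.commutes]
      exact (IsScalarTower.algebraMap_apply A B (B ⊗[A] K) g).symm
    rw [h1]
    exact hgK.map _
  let lam : Bg →+* B ⊗[A] K := IsLocalization.Away.lift (algebraMap A B g) hu
  have hlam : ∀ b, lam (algebraMap B Bg b) = ι b := fun b => IsLocalization.Away.lift_eq _ hu b
  have hinj : Function.Injective lam := by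
    rw [injective_iff_map_eq_zero]
    intro u hu0
    obtain ⟨⟨b, ⟨_, n, rfl⟩⟩, hb⟩ :=
      IsLocalization.surj (Submonoid.powers (algebraMap A B g)) u
    have h1 : ι b = 0 := by
      rw [← hlam, ← hb, map_mul, hu0, zero_mul]
    have h2 : b = 0 := hι (by rw [h1, map_zero])
    have h3 : IsUnit (algebraMap B Bg ((algebraMap A B g) ^ n)) :=
      IsLocalization.map_units Bg (⟨_, n, rfl⟩ : Submonoid.powers (algebraMap A B g))
    rw [h2, map_zero] at hb
    exact (h3.mul_left_eq_zero).mp hb
  have hint : IsIntegral B (lam x) := by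
    have h1 : IsIntegral A (lam x) := by
      refine IsIntegral.map_of_comp_eq (RingHom.id A) lam ?_ hx
      ext a
      simp only [RingHom.comp_apply, RingHom.id_apply]
      rw [IsScalarTower.algebraMap_apply A B Bg, hlam]
      exact IsScalarTower.algebraMap_apply A B (B ⊗[A] K) a
    exact h1.tower_top
  haveI := Groth.Agent.Helper2.WEInt.s1967 A K B
  obtain ⟨b₀, hb₀⟩ := IsIntegrallyClosedIn.isIntegral_iff.mp hint
  refine ⟨b₀, hinj ?_⟩
  rw [hlam]
  exact hb₀

end Groth.Agent.Lead.NormFF
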