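import Mathlib
import Groth.Agent.Lead.NormFFA

/-!
# Sections of a flat / étale affine scheme over a normal integral affine base

`h : Y' ⟶ V'` with `Y'`, `V'` affine, `V'` integral.  Torsion-freeness of `𝒪_{Y'}` over
`Γ(V', ⊤)` for flat `h`, and: sections over an open `O ⊇ h⁻¹ D(g)` which are integral over
`Γ(V', ⊤)` extend to global sections when `h` is étale and `Γ(V', ⊤)` is integrally closed.
-/

set_option autoImplicit false
set_option linter.unusedSectionVars false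
set_option linter.style.haveILetI false
universe u
open CategoryTheory CategoryTheory.Limits AlgebraicGeometry TopologicalSpace Opposite

namespace Groth.Agent.Lead.NormFF

section Core

variable {Y' V' : Scheme.{u}} [IsAffine V'] [IsIntegral V'] (h : Y' ⟶ V')

/-- restriction of the pullback of a global function on the base -/
noncomputable abbrev pb (g : Γ(V', ⊤)) (O : Y'.Opens) : Γ(Y', O) :=
  Y'.presheaf.map (homOfLE (le_top : O ≤ ⊤)).op (h.appTop g)

omit [IsAffine V'] [IsIntegral V'] in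
theorem res_res {O D E : Y'.Opens} (hDO : D ≤ O) (hED : E ≤ D) (s : Γ(Y', O)) :
    Y'.presheaf.map (homOfLE hED).op (Y'.presheaf.map (homOfLE hDO).op s) =
      Y'.presheaf.map (homOfLE (hED.trans hDO)).op s := by
  rw [← ConcreteCategory.comp_apply, ← Functor.map_comp]
  rfl

theorem pb_res (g : Γ(V', ⊤)) {O D : Y'.Opens} (hDO : D ≤ O) :
    Y'.presheaf.map (homOfLE hDO).op (pb h g O) = pb h g D := by
  rw [pb, pb, ← ConcreteCategory.comp_apply, ← Functor.map_comp]
  rfl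

theorem pb_pow (g : Γ(V', ⊤)) (O : Y'.Opens) (n : ℕ) : pb h (g ^ n) O = pb h g O ^ n := by
  rw [pb, pb, map_pow, map_pow]

/-- torsion-freeness on affine opens -/
theorem eq_zero_of_mul_eq_zero_affine [Flat h] (g : Γ(V', ⊤)) (hg : g ≠ 0) {D : Y'.Opens}
    (hD : IsAffineOpen D) (t : Γ(Y', D)) (ht : pb h g D * t = 0) : t = 0 := by
  have hfl := HasRingHomProperty.appLE (P := @Flat) h inferInstance
    ⟨⊤, isAffineOpen_top V'⟩ ⟨D, hD⟩ le_top
  letI := (h.appLE ⊤ D le_top).hom.toAlgebra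
  haveI : Module.Flat Γ(V', ⊤) Γ(Y', D) := hfl
  have hreg := Module.Flat.isSMulRegular_of_nonZeroDivisors (M := Γ(Y', D))
    (mem_nonZeroDivisors_of_ne_zero hg)
  apply hreg
  show g • t = g • (0 : Γ(Y', D))
  rw [smul_zero, Algebra.smul_def]
  exact ht

/-- torsion-freeness on arbitrary opens -/
theorem eq_zero_of_mul_eq_zero [Flat h] (g : Γ(V', ⊤)) (hg : g ≠ 0) (O : Y'.Opens)
    (s : Γ(Y', O)) (hs : pb h g O * s = 0) : s = 0 := by
  apply Y'.IsSheaf.section_ext (U := op O)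
  intro y hy
  obtain ⟨D, hD, hyD, hDO⟩ := Opens.isBasis_iff_nbhd.mp Y'.isBasis_affineOpens hy
  refine ⟨D, hDO, hyD, ?_⟩
  rw [map_zero]
  apply eq_zero_of_mul_eq_zero_affine h g hg hD
  have h1 := congrArg (Y'.presheaf.map (homOfLE hDO).op) hs
  rw [map_mul, map_zero, pb_res] at h1
  exact h1

/-- a section vanishing on `h⁻¹ D(g)` vanishes -/
theorem eq_zero_of_res_basicOpen [Flat h] (g : Γ(V', ⊤)) (hg : g ≠ 0) (O : Y'.Opens)
    (hO : Y'.basicOpen (h.appTop g) ≤ O) (s : Γ(Y', O))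
    (hs : Y'.presheaf.map (homOfLE hO).op s = 0) : s = 0 := by
  apply Y'.IsSheaf.section_ext (U := op O)
  intro y hy
  obtain ⟨D, hD, hyD, hDO⟩ := Opens.isBasis_iff_nbhd.mp Y'.isBasis_affineOpens hy
  refine ⟨D, hDO, hyD, ?_⟩
  rw [map_zero]
  set t := Y'.presheaf.map (homOfLE hDO).op s with ht
  have hle : Y'.basicOpen (pb h g D) ≤ Y'.basicOpen (h.appTop g) := by
    rw [pb, Scheme.basicOpen_res]
    exact inf_le_right
  have h0 : Y'.presheaf.map (homOfLE (Y'.basicOpen_le (pb h g D))).op t = 0 := by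
    have h1 : Y'.presheaf.map (homOfLE (Y'.basicOpen_le (pb h g D))).op t =
        Y'.presheaf.map (homOfLE hle).op (Y'.presheaf.map (homOfLE hO).op s) := by
      rw [ht, ← ConcreteCategory.comp_apply, ← Functor.map_comp,
        ← ConcreteCategory.comp_apply, ← Functor.map_comp]
      rfl
    rw [h1, hs, map_zero]
  obtain ⟨n, hn⟩ := exists_pow_mul_eq_zero_of_res_basicOpen_eq_zero_of_isAffineOpen Y' hD t
    (pb h g D) h0
  apply eq_zero_of_mul_eq_zero_affine h (g ^ n) (pow_ne_zero n hg) hD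
  rw [pb_pow]
  exact hn

/-- restriction to an open containing `h⁻¹ D(g)` is injective -/
theorem res_injective [Flat h] (g : Γ(V', ⊤)) (hg : g ≠ 0) (O : Y'.Opens)
    (hO : Y'.basicOpen (h.appTop g) ≤ O) :
    Function.Injective (Y'.presheaf.map (homOfLE (le_top : O ≤ ⊤)).op).hom := by
  rw [injective_iff_map_eq_zero]
  intro b hb
  apply eq_zero_of_res_basicOpen h g hg ⊤ le_top b
  have h1 : Y'.presheaf.map (homOfLE (le_top : Y'.basicOpen (h.appTop g) ≤ ⊤)).op b =
      Y'.presheaf.map (homOfLE hO).op (Y'.presheaf.map (homOfLE (le_top : O ≤ ⊤)).op b) := by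
    rw [← ConcreteCategory.comp_apply, ← Functor.map_comp]
    rfl
  rw [h1]
  have hb' : Y'.presheaf.map (homOfLE (le_top : O ≤ ⊤)).op b = 0 := hb
  rw [hb', map_zero]

/-- integral sections over an open containing `h⁻¹ D(g)` extend -/
theorem exists_of_integral [IsAffine Y'] [Etale h] [IsIntegrallyClosed Γ(V', ⊤)]
    (g : Γ(V', ⊤)) (hg : g ≠ 0) (O : Y'.Opens)
    (hO : Y'.basicOpen (h.appTop g) ≤ O) (r : Γ(Y', O))
    (hr : ((Y'.presheaf.map (homOfLE (le_top : O ≤ ⊤)).op).hom.comp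
      h.appTop.hom).IsIntegralElem r) :
    ∃ b : Γ(Y', ⊤), Y'.presheaf.map (homOfLE (le_top : O ≤ ⊤)).op b = r := by
  have het : RingHom.Etale h.appTop.hom :=
    (HasRingHomProperty.iff_of_isAffine (P := @Etale)).mp inferInstance
  letI : Algebra Γ(V', ⊤) Γ(Y', ⊤) := h.appTop.hom.toAlgebra
  haveI : Algebra.Etale Γ(V', ⊤) Γ(Y', ⊤) := het
  letI : Algebra Γ(V', ⊤) Γ(Y', Y'.basicOpen (h.appTop g)) :=
    ((algebraMap Γ(Y', ⊤) Γ(Y', Y'.basicOpen (h.appTop g))).comp
      (algebraMap Γ(V', ⊤) Γ(Y', ⊤))).toAlgebra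
  haveI : IsScalarTower Γ(V', ⊤) Γ(Y', ⊤) Γ(Y', Y'.basicOpen (h.appTop g)) :=
    IsScalarTower.of_algebraMap_eq (fun _ => rfl)
  haveI : IsLocalization.Away (algebraMap Γ(V', ⊤) Γ(Y', ⊤) g)
      Γ(Y', Y'.basicOpen (h.appTop g)) :=
    (isAffineOpen_top Y').isLocalization_basicOpen (h.appTop g)
  set x : Γ(Y', Y'.basicOpen (h.appTop g)) := Y'.presheaf.map (homOfLE hO).op r with hx
  have hxi : IsIntegral Γ(V', ⊤) x := by
    obtain ⟨p, hp, hpr⟩ := hr
    refine ⟨p, hp, ?_⟩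
    have h1 : algebraMap Γ(V', ⊤) Γ(Y', Y'.basicOpen (h.appTop g)) =
        (Y'.presheaf.map (homOfLE hO).op).hom.comp
          ((Y'.presheaf.map (homOfLE (le_top : O ≤ ⊤)).op).hom.comp h.appTop.hom) := by
      ext a
      change Y'.presheaf.map (homOfLE _).op (h.appTop a) =
        Y'.presheaf.map (homOfLE hO).op (Y'.presheaf.map (homOfLE _).op (h.appTop a))
      rw [res_res]
    rw [h1, hx]
    have h2 := Polynomial.hom_eval₂ p
      ((Y'.presheaf.map (homOfLE (le_top : O ≤ ⊤)).op).hom.comp h.appTop.hom)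
      (Y'.presheaf.map (homOfLE hO).op).hom r
    rw [hpr, map_zero] at h2
    exact h2.symm
  obtain ⟨b, hb⟩ := exists_of_isIntegral_away Γ(V', ⊤) Γ(Y', ⊤) g hg
    Γ(Y', Y'.basicOpen (h.appTop g)) x hxi
  refine ⟨b, ?_⟩
  have h3 : Y'.presheaf.map (homOfLE (le_top : O ≤ ⊤)).op b - r = 0 := by
    apply eq_zero_of_res_basicOpen h g hg O hO
    rw [map_sub, sub_eq_zero]
    have h4 : Y'.presheaf.map (homOfLE hO).op (Y'.presheaf.map (homOfLE (le_top : O ≤ ⊤)).op b) =
        algebraMap Γ(Y', ⊤) Γ(Y', Y'.basicOpen (h.appTop g)) b := by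
      rw [← ConcreteCategory.comp_apply, ← Functor.map_comp]
      rfl
    rw [h4, hb]
  exact sub_eq_zero.mp h3

end Core

end Groth.Agent.Lead.NormFF
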