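import Mathlib
import Groth.Agent.Helper2.WEIntH
import Groth.Agent.Lead.NormFFB
import Groth.Agent.Lead.FFGlue2
import Groth.Prelude.Def_Pi1

/-!
# Restriction of finite étale covers of a normal integral scheme to a nonempty open is
fully faithful (S0244)
-/

set_option autoImplicit false
set_option linter.unusedSectionVars false
set_option linter.style.haveILetI false
universe u
open CategoryTheory CategoryTheory.Limits AlgebraicGeometry TopologicalSpace Opposite

namespace Groth.Agent.Lead.NormFF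

/-- integrally closed coordinate rings from integrally closed stalks
(copied from `Helper5/NormKA.isIntegrallyClosed_of_stalks`, helper5, to avoid heavy imports) -/
theorem isIntegrallyClosed_of_stalks {X : Scheme.{u}} (U : X.Opens) (hU : IsAffineOpen U)
    [IsDomain Γ(X, U)]
    (h : ∀ x ∈ U, IsIntegrallyClosed (X.presheaf.stalk x)) : IsIntegrallyClosed Γ(X, U) := by
  apply IsIntegrallyClosed.of_localization_maximal
  intro p _ hp
  have hmem : hU.fromSpec ⟨p, hp.isPrime⟩ ∈ U := by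
    have : hU.fromSpec ⟨p, hp.isPrime⟩ ∈ Set.range hU.fromSpec := Set.mem_range_self _
    rw [hU.range_fromSpec] at this
    exact this
  have hQ : hU.primeIdealOf ⟨hU.fromSpec ⟨p, hp.isPrime⟩, hmem⟩ = ⟨p, hp.isPrime⟩ :=
    hU.fromSpec.isOpenEmbedding.injective (hU.fromSpec_primeIdealOf ⟨_, hmem⟩)
  letI : Algebra Γ(X, U) (X.presheaf.stalk (hU.fromSpec ⟨p, hp.isPrime⟩)) :=
    X.presheaf.algebra_section_stalk ⟨_, hmem⟩
  haveI h1 : IsLocalization.AtPrime (X.presheaf.stalk (hU.fromSpec ⟨p, hp.isPrime⟩))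
      (hU.primeIdealOf ⟨hU.fromSpec ⟨p, hp.isPrime⟩, hmem⟩).asIdeal :=
    hU.isLocalization_stalk ⟨_, hmem⟩
  rw [hQ] at h1
  haveI : IsLocalization.AtPrime (X.presheaf.stalk (hU.fromSpec ⟨p, hp.isPrime⟩)) p := h1
  haveI := h _ hmem
  exact IsIntegrallyClosed.of_equiv
    (IsLocalization.algEquiv p.primeCompl (X.presheaf.stalk (hU.fromSpec ⟨p, hp.isPrime⟩))
      (Localization.AtPrime p)).toRingEquiv

section Transfer

variable {W' Y' V' : Scheme.{u}} [IsAffine V'] [IsIntegral V'] (h : Y' ⟶ V')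
  (q : W' ⟶ Y') [IsOpenImmersion q]

theorem appTop_eq :
    q.appTop = Y'.presheaf.map (homOfLE (le_top : q ''ᵁ ⊤ ≤ ⊤)).op ≫ (q.appIso ⊤).hom := by
  rw [Scheme.Hom.appIso_hom', Scheme.Hom.map_appLE]
  exact Scheme.Hom.app_eq_appLE q

theorem injective_appTop [Flat h] (g : Γ(V', ⊤)) (hg : g ≠ 0)
    (hq : Y'.basicOpen (h.appTop g) ≤ q ''ᵁ ⊤) : Function.Injective q.appTop.hom := by
  rw [appTop_eq]
  intro a b hab
  apply res_injective h g hg (q ''ᵁ ⊤) hq
  have h1 : Function.Injective (q.appIso ⊤).hom.hom :=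
    ((ConcreteCategory.isIso_iff_bijective (q.appIso ⊤).hom).mp inferInstance).1
  exact h1 hab

theorem range_of_integral [IsAffine Y'] [Etale h] [IsIntegrallyClosed Γ(V', ⊤)]
    (g : Γ(V', ⊤)) (hg : g ≠ 0) (hq : Y'.basicOpen (h.appTop g) ≤ q ''ᵁ ⊤)
    (r : Γ(W', ⊤)) (hr : ((q ≫ h).appTop.hom).IsIntegralElem r) :
    r ∈ Set.range q.appTop.hom := by
  set r' : Γ(Y', q ''ᵁ ⊤) := (q.appIso ⊤).inv r with hr'
  have hint : ((Y'.presheaf.map (homOfLE (le_top : q ''ᵁ ⊤ ≤ ⊤)).op).hom.comp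
      h.appTop.hom).IsIntegralElem r' := by
    obtain ⟨p, hp, hpr⟩ := hr
    refine ⟨p, hp, ?_⟩
    have h1 : (Y'.presheaf.map (homOfLE (le_top : q ''ᵁ ⊤ ≤ ⊤)).op).hom.comp h.appTop.hom =
        (q.appIso ⊤).inv.hom.comp (q ≫ h).appTop.hom := by
      ext a
      change Y'.presheaf.map (homOfLE _).op (h.appTop a) =
        (q.appIso ⊤).inv ((q ≫ h).appTop a)
      rw [Scheme.Hom.comp_appTop, appTop_eq q]
      simp
    rw [h1, hr']
    have h2 := Polynomial.hom_eval₂ p (q ≫ h).appTop.hom (q.appIso ⊤).inv.hom r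
    rw [hpr, map_zero] at h2
    exact h2.symm
  obtain ⟨b, hb⟩ := exists_of_integral h g hg (q ''ᵁ ⊤) hq r' hint
  refine ⟨b, ?_⟩
  rw [appTop_eq q]
  change (q.appIso ⊤).hom (Y'.presheaf.map (homOfLE _).op b) = r
  rw [hb, hr']
  simp

end Transfer

section LocalEU

variable {X : Scheme.{u}} [IsIntegral X] (hX : Pi1.IsNormalScheme X) (U : X.Opens)
  (hU : (U : Set X).Nonempty)
  {Y Z : Scheme.{u}} (f : Y ⟶ X) (g : Z ⟶ X) [IsFinite f] [Etale f] [IsFinite g]

include hX hU in
theorem localEU : FFGlue2.LocalEU f g (pullback.fst f U.ι) := by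
  intro V c' hc'
  rcases isEmpty_or_nonempty ↥(V.1 : Scheme.{u}) with hVe | hVne
  · -- empty affine open
    haveI : IsEmpty ↥(pullback f V.1.ι) :=
      Function.isEmpty (pullback.snd f V.1.ι)
    haveI : IsEmpty ↥(pullback (pullback.fst f U.ι) (pullback.fst f V.1.ι)) :=
      Function.isEmpty (FFGlue2.pV f (pullback.fst f U.ι) V)
    refine ⟨(isInitialOfIsEmpty (X := pullback f V.1.ι)).to _, ⟨?_, ?_⟩, ?_⟩
    · exact (isInitialOfIsEmpty (X := pullback f V.1.ι)).hom_ext _ _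
    · exact (isInitialOfIsEmpty
        (X := pullback (pullback.fst f U.ι) (pullback.fst f V.1.ι))).hom_ext _ _
    · intro a' _
      exact (isInitialOfIsEmpty (X := pullback f V.1.ι)).hom_ext _ _
  · haveI : IsAffine (V.1 : Scheme.{u}) := V.2
    haveI : IsIntegral (V.1 : Scheme.{u}) := inferInstance
    haveI : IsAffine (pullback f V.1.ι) := isAffine_of_isAffineHom (pullback.snd f V.1.ι)
    haveI : IsAffine (pullback g V.1.ι) := isAffine_of_isAffineHom (pullback.snd g V.1.ι)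
    have hVn : Pi1.IsNormalScheme (V.1 : Scheme.{u}) :=
      Groth.Agent.Helper2.WEInt.s7180 V.1.ι hX
    haveI : IsIntegrallyClosed Γ((V.1 : Scheme.{u}), ⊤) :=
      isIntegrallyClosed_of_stalks ⊤ (isAffineOpen_top _) (fun x _ => (hVn x).2)
    -- a point of `U ∩ V`
    obtain ⟨v⟩ := hVne
    obtain ⟨x, hxU, hxV⟩ : ((U : Set X) ∩ (V.1 : Set X)).Nonempty :=
      nonempty_preirreducible_inter U.isOpen V.1.isOpen hU ⟨v.1, v.2⟩
    let x' : ↥(V.1 : Scheme.{u}) := ⟨x, hxV⟩
    have hx' : x' ∈ V.1.ι ⁻¹ᵁ U := hxU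
    obtain ⟨γ, hγ1, hγ2⟩ := (isAffineOpen_top (V.1 : Scheme.{u})).exists_basicOpen_le
      (V := V.1.ι ⁻¹ᵁ U) ⟨x', hx'⟩ trivial
    have hγ0 : γ ≠ 0 := by
      rintro rfl
      rw [Scheme.basicOpen_zero] at hγ2
      exact hγ2
    have hq : (pullback f V.1.ι).basicOpen ((pullback.snd f V.1.ι).appTop γ) ≤
        (FFGlue2.pV f (pullback.fst f U.ι) V) ''ᵁ ⊤ := by
      rw [← Scheme.preimage_basicOpen_top]
      intro y hy
      have hy1 : (pullback.snd f V.1.ι) y ∈ V.1.ι ⁻¹ᵁ U := hγ1 hy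
      have hy2 : f (pullback.fst f V.1.ι y) ∈ U := by
        have h1 : f (pullback.fst f V.1.ι y) = V.1.ι (pullback.snd f V.1.ι y) := by
          rw [← Scheme.Hom.comp_apply, ← Scheme.Hom.comp_apply, pullback.condition]
        rw [h1]
        exact hy1
      have hy3 : pullback.fst f V.1.ι y ∈ Set.range (pullback.fst f U.ι) := by
        rw [Scheme.Pullback.range_fst]
        simpa using hy2
      have hy4 : y ∈ Set.range (pullback.snd (pullback.fst f U.ι) (pullback.fst f V.1.ι)) := by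
        rw [Scheme.Pullback.range_snd]
        exact hy3
      obtain ⟨z, hz⟩ := hy4
      exact ⟨z, trivial, hz⟩
    exact FFGlue2.existsUnique_of_integral (FFGlue2.pV f (pullback.fst f U.ι) V)
      (pullback.snd f V.1.ι) (pullback.snd g V.1.ι)
      (injective_appTop (pullback.snd f V.1.ι) _ γ hγ0 hq)
      (fun r hr => range_of_integral (pullback.snd f V.1.ι) _ γ hγ0 hq r hr) c' hc'

end LocalEU

section Main

theorem restrict_map_left_fst {X T : Scheme.{u}} (j : T ⟶ X) {Y Y' : FEt.Cat X} (ψ : Y ⟶ Y') :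
    ((FEt.restrict j).map ψ).left ≫ pullback.fst Y'.hom j =
      pullback.fst Y.hom j ≫ ψ.left := pullback.lift_fst _ _ _

theorem restrict_map_left_snd {X T : Scheme.{u}} (j : T ⟶ X) {Y Y' : FEt.Cat X} (ψ : Y ⟶ Y') :
    ((FEt.restrict j).map ψ).left ≫ pullback.snd Y'.hom j =
      pullback.snd Y.hom j := pullback.lift_snd _ _ _

/-- full faithfulness of restriction along `j` from unique extension along `pullback.fst _ j` -/
theorem full_faithful_of_localEU {X T : Scheme.{u}} (j : T ⟶ X)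
    (hEU : ∀ (Y Y' : FEt.Cat X), FFGlue2.LocalEU Y.hom Y'.hom (pullback.fst Y.hom j)) :
    (FEt.restrict j).Full ∧ (FEt.restrict j).Faithful := by
  constructor
  · refine ⟨fun {Y Y'} φ => ?_⟩
    let φl : pullback Y.hom j ⟶ pullback Y'.hom j := φ.left
    let f : Y.left ⟶ X := Y.hom
    let f' : Y'.left ⟶ X := Y'.hom
    have hφ : φl ≫ pullback.snd f' j = pullback.snd f j := by
      have := MorphismProperty.Over.w φ
      exact this
    let c : pullback f j ⟶ Y'.left := φl ≫ pullback.fst f' j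
    have hc : c ≫ f' = pullback.fst f j ≫ f := by
      calc c ≫ f' = φl ≫ (pullback.fst f' j ≫ f') := Category.assoc _ _ _
        _ = φl ≫ (pullback.snd f' j ≫ j) := by rw [pullback.condition]
        _ = (φl ≫ pullback.snd f' j) ≫ j := (Category.assoc _ _ _).symm
        _ = pullback.snd f j ≫ j := congrArg (· ≫ j) hφ
        _ = pullback.fst f j ≫ f := pullback.condition.symm
    obtain ⟨a, ⟨ha1, ha2⟩, -⟩ := FFGlue2.existsUnique_extension f f' (pullback.fst f j)
      (hEU Y Y') c hc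
    refine ⟨MorphismProperty.Over.homMk a ha1 trivial, ?_⟩
    ext : 1
    apply pullback.hom_ext
    · refine (restrict_map_left_fst j _).trans ?_
      exact ha2
    · exact (restrict_map_left_snd j _).trans hφ.symm
  · refine ⟨fun {Y Y'} ψ₁ ψ₂ hψ => ?_⟩
    let f : Y.left ⟶ X := Y.hom
    let f' : Y'.left ⟶ X := Y'.hom
    have h1 : pullback.fst f j ≫ ψ₁.left = pullback.fst f j ≫ ψ₂.left := by
      rw [← restrict_map_left_fst, ← restrict_map_left_fst, hψ]
    have hw1 : ψ₁.left ≫ f' = f := MorphismProperty.Over.w ψ₁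
    have hw2 : ψ₂.left ≫ f' = f := MorphismProperty.Over.w ψ₂
    obtain ⟨a, -, ha⟩ := FFGlue2.existsUnique_extension f f' (pullback.fst f j)
      (hEU Y Y') (pullback.fst f j ≫ ψ₁.left) (by rw [Category.assoc, hw1])
    have e1 := ha ψ₁.left ⟨hw1, rfl⟩
    have e2 := ha ψ₂.left ⟨hw2, h1.symm⟩
    ext : 1
    rw [e1, e2]

/-- S0244 -/
theorem main {X : Scheme.{u}} [IsIntegral X] (hX : Pi1.IsNormalScheme X) (U : X.Opens)
    (hU : (U : Set X).Nonempty) : (FEt.restrict U.ι).Full ∧ (FEt.restrict U.ι).Faithful := by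
  apply full_faithful_of_localEU
  intro Y Y'
  haveI : IsFinite Y.hom := Y.prop.1
  haveI : Etale Y.hom := Y.prop.2
  haveI : IsFinite Y'.hom := Y'.prop.1
  exact localEU hX U hU Y.hom Y'.hom

end Main

end Groth.Agent.Lead.NormFF
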