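import Mathlib
import Groth.Agent.Lead.HomGlueB

open CategoryTheory Limits AlgebraicGeometry

namespace Groth.Agent.Lead.CDec
universe u

/-- a section over the residue field of a point with trivial residue field extension -/
lemma exists_residue_section {X Y : Scheme.{u}} (f : X ⟶ Y)
    (hcd : ∀ y : Y, ∃ x : X, f x = y ∧ Function.Bijective (f.residueFieldMap x)) (y : Y) :
    ∃ σ : Spec (Y.residueField y) ⟶ X, σ ≫ f = Y.fromSpecResidueField y := by
  obtain ⟨x, rfl, hx⟩ := hcd y
  have : IsIso (f.residueFieldMap x) := (ConcreteCategory.isIso_iff_bijective _).mpr hx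
  refine ⟨Spec.map (inv (f.residueFieldMap x)) ≫ X.fromSpecResidueField x, ?_⟩
  rw [Category.assoc, ← Scheme.Hom.SpecMap_residueFieldMap_fromSpecResidueField,
    ← Spec.map_comp_assoc, IsIso.hom_inv_id, Spec.map_id, Category.id_comp]

/-- a section over a field-valued point -/
lemma exists_field_section {X Y : Scheme.{u}} (f : X ⟶ Y)
    (hcd : ∀ y : Y, ∃ x : X, f x = y ∧ Function.Bijective (f.residueFieldMap x))
    (K : Type u) [Field K] (g : Spec (.of K) ⟶ Y) :
    ∃ b : Spec (.of K) ⟶ X, b ≫ f = g := by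
  obtain ⟨σ, hσ⟩ := exists_residue_section f hcd (g (IsLocalRing.closedPoint K))
  refine ⟨Spec.map (Scheme.descResidueField (Scheme.stalkClosedPointTo g)) ≫ σ, ?_⟩
  rw [Category.assoc, hσ, Scheme.descResidueField_stalkClosedPointTo_fromSpecResidueField]

/-- extension of the section over the generic point of an integral scheme -/
lemma exists_section_generic {X Y T : Scheme.{u}} (f : X ⟶ Y) [LocallyOfFinitePresentation f]
    (hcd : ∀ y : Y, ∃ x : X, f x = y ∧ Function.Bijective (f.residueFieldMap x))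
    [IsIntegral T] (ι : T ⟶ Y) :
    ∃ (W : T.Opens) (hW : IsAffineOpen W) (_ : genericPoint T ∈ W) (s : Spec Γ(T, W) ⟶ X),
      s ≫ f = hW.fromSpec ≫ ι := by
  obtain ⟨b, hb⟩ := exists_field_section f hcd T.functionField
    (T.fromSpecStalk (genericPoint T) ≫ ι)
  obtain ⟨V, b₁, -, h2⟩ := HomGlueB.exists_extension (genericPoint T) ι f b hb
  exact ⟨V.1, V.aff, V.mem, b₁, h2⟩

end Groth.Agent.Lead.CDec
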