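import Mathlib
import Groth.Agent.Lead.CDecA
import Groth.Agent.S7379

open CategoryTheory Limits AlgebraicGeometry

namespace Groth.Agent.Lead.CDec
universe u

/-- integral closed subscheme through a point, inside an affine open -/
lemma exists_integral_through {Y : Scheme.{u}} (y : Y) :
    ∃ (R : CommRingCat.{u}) (φ : Spec R ⟶ Y) (_ : IsOpenImmersion φ) (T : Scheme.{u})
      (_ : IsIntegral T) (ιT : T ⟶ Spec R) (_ : IsClosedImmersion ιT),
      φ (ιT (genericPoint T)) = y := by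
  obtain ⟨V, hV, hyV, -⟩ := exists_isAffineOpen_mem_and_subset (x := y) (U := ⊤) trivial
  let p : PrimeSpectrum Γ(Y, V) := hV.primeIdealOf ⟨y, hyV⟩
  have hp : hV.fromSpec p = y := hV.fromSpec_primeIdealOf ⟨y, hyV⟩
  let A : CommRingCat.{u} := CommRingCat.of (Γ(Y, V) ⧸ p.asIdeal)
  haveI : IsDomain A := inferInstanceAs (IsDomain (Γ(Y, V) ⧸ p.asIdeal))
  let q : Γ(Y, V) ⟶ A := CommRingCat.ofHom (Ideal.Quotient.mk p.asIdeal)
  have hq : Function.Surjective q.hom := Ideal.Quotient.mk_surjective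
  haveI : IsClosedImmersion (Spec.map q) := IsClosedImmersion.spec_of_surjective q hq
  refine ⟨Γ(Y, V), hV.fromSpec, inferInstance, Spec A, inferInstance, Spec.map q, inferInstance, ?_⟩
  rw [← hp]
  congr 1
  rw [genericPoint_eq_bot_of_affine]
  apply PrimeSpectrum.ext
  change Ideal.comap (Ideal.Quotient.mk p.asIdeal) ⊥ = p.asIdeal
  rw [← RingHom.ker_eq_comap_bot, Ideal.mk_ker]

end Groth.Agent.Lead.CDec

namespace Groth.Agent.Lead.CDec
universe u

set_option maxHeartbeats 1600000 in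
set_option backward.isDefEq.respectTransparency false in
theorem exists_local_piece {X Y : Scheme.{u}} (f : X ⟶ Y) [LocallyOfFinitePresentation f]
    [QuasiSeparatedSpace Y]
    (hcd : ∀ y : Y, ∃ x : X, f x = y ∧ Function.Bijective (f.residueFieldMap x)) (y : Y) :
    ∃ (Z : Scheme.{u}) (z : Z ⟶ Y) (s : Z ⟶ X), s ≫ f = z ∧ y ∈ Set.range z ∧ IsImmersion z ∧
      LocallyOfFinitePresentation z ∧ QuasiCompact z ∧ QuasiSeparated z := by
  obtain ⟨R, φ, hφ, T, hT, ιT, hιT, hy⟩ := exists_integral_through y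
  obtain ⟨W, hW, hηW, s, hs⟩ := exists_section_generic f hcd (ιT ≫ φ)
  -- an affine open `U` of `Spec R` around the image of the generic point with `ιT⁻¹ U ≤ W`
  obtain ⟨U₀, hU₀o, hU₀⟩ := ιT.isEmbedding.isInducing.isOpen_iff.mp W.isOpen
  have hη₀ : ιT (genericPoint T) ∈ U₀ := by
    have : genericPoint T ∈ ιT ⁻¹' U₀ := by rw [hU₀]; exact hηW
    exact this
  obtain ⟨_, ⟨U', hU, rfl⟩, hηU, hUU₀⟩ :=
    (Spec R).isBasis_affineOpens.exists_subset_of_mem_open hη₀ hU₀o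
  obtain ⟨U, rfl⟩ : ∃ U : (Spec R).Opens, U = U' := ⟨U', rfl⟩
  have hle : ιT ⁻¹ᵁ U ≤ W := by
    intro t ht
    have : t ∈ ιT ⁻¹' U₀ := hUU₀ ht
    rw [hU₀] at this
    exact this
  haveI : IsAffine U.toScheme := hU
  -- the restricted section
  let sU : (ιT ⁻¹ᵁ U).toScheme ⟶ X := T.homOfLE hle ≫ hW.isoSpec.hom ≫ s
  have hsU : sU ≫ f = (ιT ⁻¹ᵁ U).ι ≫ ιT ≫ φ := by
    change (T.homOfLE hle ≫ hW.isoSpec.hom ≫ s) ≫ f = _
    have h1 : hW.isoSpec.hom ≫ hW.fromSpec = W.ι := by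
      rw [IsAffineOpen.fromSpec, Iso.hom_inv_id_assoc]
    rw [Category.assoc, Category.assoc, hs, reassoc_of% h1, Scheme.homOfLE_ι_assoc]
  -- approximation of the closed immersion
  obtain ⟨Λ, _, _, _, D, c, hc, hD, ⟨e⟩⟩ := Groth.Agent.S7379.result (ιT ∣_ U)
  haveI : IsDirected Λ (· ≤ ·) := ‹IsDirected Λ (fun a b => a ≤ b)›
  haveI : IsCofiltered Λᵒᵖ := inferInstance
  haveI hci : ∀ i, IsClosedImmersion (D.obj i).hom := fun i ↦ (hD i).1
  haveI hfp : ∀ i, LocallyOfFinitePresentation (D.obj i).hom := fun i ↦ (hD i).2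
  let D' : Λᵒᵖ ⥤ Scheme.{u} := D ⋙ Over.forget _
  let c' : Cone D' := (Over.forget _).mapCone c
  have hc' : IsLimit c' := isLimitOfPreserves _ hc
  haveI haff : ∀ {i j : Λᵒᵖ} (a : i ⟶ j), IsAffineHom (D'.map a) := by
    intro i j a
    have h1 : (D.map a).left ≫ (D.obj j).hom = (D.obj i).hom := Over.w (D.map a)
    haveI : IsClosedImmersion ((D.map a).left ≫ (D.obj j).hom) := by rw [h1]; infer_instance
    haveI : IsClosedImmersion (D.map a).left := IsClosedImmersion.of_comp _ (D.obj j).hom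
    exact inferInstanceAs (IsAffineHom (D.map a).left)
  haveI hA : ∀ i, IsAffine (D'.obj i) := fun i ↦ isAffine_of_isAffineHom (D.obj i).hom
  haveI : ∀ i, CompactSpace (D'.obj i) := fun i ↦ inferInstance
  haveI : ∀ i, QuasiSeparatedSpace (D'.obj i) := fun i ↦ inferInstance
  let t : D' ⟶ (Functor.const Λᵒᵖ).obj Y :=
    { app := fun i ↦ (D.obj i).hom ≫ U.ι ≫ φ
      naturality := fun i j a ↦ by
        have h1 : (D.map a).left ≫ (D.obj j).hom = (D.obj i).hom := Over.w (D.map a)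
        simp only [Functor.const_obj_obj, Functor.const_obj_map, Category.comp_id]
        change (D.map a).left ≫ (D.obj j).hom ≫ U.ι ≫ φ = _
        rw [reassoc_of% h1] }
  let a : c'.pt ⟶ X := e.hom.left ≫ sU
  have hce : c.pt.hom = e.hom.left ≫ (ιT ∣_ U) := (Over.w e.hom).symm
  have ha : c'.π ≫ t = (Functor.const _).map (a ≫ f) := by
    ext i : 2
    have h1 : (c.π.app i).left ≫ (D.obj i).hom = c.pt.hom := Over.w (c.π.app i)
    change (c.π.app i).left ≫ (D.obj i).hom ≫ U.ι ≫ φ = (e.hom.left ≫ sU) ≫ f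
    rw [reassoc_of% h1, hce, Category.assoc, Category.assoc, hsU, morphismRestrict_ι_assoc]
  obtain ⟨i, g', hg1, hg2⟩ :=
    Scheme.exists_π_app_comp_eq_of_locallyOfFinitePresentation D' t f c' hc' a ha
  refine ⟨(D.obj i).left, (D.obj i).hom ≫ U.ι ≫ φ, g', hg2, ?_, inferInstance, inferInstance,
    inferInstance, inferInstance⟩
  let ηU : (ιT ⁻¹ᵁ U).toScheme := ⟨genericPoint T, hηU⟩
  refine ⟨(c.π.app i).left (e.inv.left ηU), ?_⟩
  have h1 : (c.π.app i).left ≫ (D.obj i).hom = c.pt.hom := Over.w (c.π.app i)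
  have h2 : e.inv.left ≫ e.hom.left = 𝟙 _ := by
    rw [← Over.comp_left, Iso.inv_hom_id]; rfl
  have key : e.inv.left ≫ (c.π.app i).left ≫ (D.obj i).hom ≫ U.ι ≫ φ =
      (ιT ⁻¹ᵁ U).ι ≫ ιT ≫ φ := by
    rw [reassoc_of% h1, hce, Category.assoc, reassoc_of% h2, morphismRestrict_ι_assoc]
  have := congr($(key) ηU)
  rw [Scheme.Hom.comp_apply, Scheme.Hom.comp_apply] at this
  refine this.trans ?_
  exact hy

end Groth.Agent.Lead.CDec
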