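import Mathlib

/-! Finite type points of schemes: helper lemmas. -/

set_option autoImplicit false
universe u

open AlgebraicGeometry CategoryTheory

namespace Groth.Agent.Lead.FtPts

/-- a point closed in an affine open (indeed any open) neighbourhood is a finite type point -/
theorem ft_of_isClosed_in_open (S : Scheme.{u}) (U : S.Opens) (x : U)
    (hx : IsClosed ({x} : Set ↥U)) :
    LocallyOfFiniteType (S.fromSpecResidueField (U.ι x)) := by
  have h1 : IsClosedImmersion (U.toScheme.fromSpecResidueField x) :=
    isClosed_singleton_iff_isClosedImmersion.mp hx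
  have h2 : LocallyOfFiniteType (U.toScheme.fromSpecResidueField x ≫ U.ι) := inferInstance
  rw [← Scheme.Hom.SpecMap_residueFieldMap_fromSpecResidueField] at h2
  exact (MorphismProperty.cancel_left_of_respectsIso @LocallyOfFiniteType _ _).mp h2

open Polynomial in
/-- ALG2: a domain `D` with a field `L ⊇ D` finitely generated as `D`-algebra:
some `D_g` (`g ≠ 0`) is a field. -/
theorem exists_away_isField {D L : Type*} [CommRing D] [IsDomain D] [Field L] [Algebra D L]
    (hinj : Function.Injective (algebraMap D L)) [hft : Algebra.FiniteType D L] :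
    ∃ g : D, g ≠ 0 ∧ IsField (Localization.Away g) := by
  classical
  let K := FractionRing D
  letI : Algebra K L := (IsFractionRing.lift hinj).toAlgebra
  haveI : IsScalarTower D K L := IsScalarTower.of_algebraMap_eq fun x => by
    simp [RingHom.algebraMap_toAlgebra]
  haveI : Algebra.FiniteType K L := Algebra.FiniteType.of_restrictScalars_finiteType D K L
  haveI : Module.Finite K L := finite_of_finite_type_of_isJacobsonRing K L
  haveI : Algebra.IsIntegral K L := inferInstance
  obtain ⟨t, ht⟩ := hft.out
  have hd : ∀ x : L, ∃ d : nonZeroDivisors D, IsIntegral D (d • x) := fun x =>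
    IsIntegral.exists_multiple_integral_of_isLocalization (Rₘ := K) (nonZeroDivisors D) x
      (Algebra.IsIntegral.isIntegral (R := K) x)
  choose d hdx using hd
  let g : D := ∏ x ∈ t, (d x : D)
  have hg : g ≠ 0 := by
    rw [Finset.prod_ne_zero_iff]
    intro x _
    exact nonZeroDivisors.ne_zero (d x).2
  refine ⟨g, hg, ?_⟩
  have hgu : IsUnit (algebraMap D L g) := by
    rw [isUnit_iff_ne_zero]
    exact fun h => hg (hinj (by rw [h, map_zero]))
  let ψ : Localization.Away g →+* L := IsLocalization.Away.lift g hgu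
  letI : Algebra (Localization.Away g) L := ψ.toAlgebra
  haveI : IsScalarTower D (Localization.Away g) L := IsScalarTower.of_algebraMap_eq fun x => by
    simp [RingHom.algebraMap_toAlgebra, ψ]
  have hψinj : Function.Injective (algebraMap (Localization.Away g) L) := by
    rw [RingHom.algebraMap_toAlgebra]
    refine (IsLocalization.lift_injective_iff _).mpr fun a b => ?_
    exact ⟨fun h => by
      rw [IsScalarTower.algebraMap_apply D (Localization.Away g) L, h,
        ← IsScalarTower.algebraMap_apply D (Localization.Away g) L], fun h => by rw [hinj h]⟩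
  -- L is integral over D_g
  have hint : ∀ x ∈ t, IsIntegral (Localization.Away g) x := by
    intro x hx
    have h1 : IsIntegral (Localization.Away g) ((d x : D) • x) := (hdx x).tower_top
    have hdvd : (d x : D) ∣ g := Finset.dvd_prod_of_mem _ hx
    have hu : IsUnit (algebraMap D (Localization.Away g) (d x : D)) :=
      isUnit_of_dvd_unit (map_dvd _ hdvd) (IsLocalization.Away.algebraMap_isUnit g)
    obtain ⟨v, hv⟩ := hu
    have h2 : x = algebraMap (Localization.Away g) L (↑v⁻¹) * ((d x : D) • x) := by
      rw [Algebra.smul_def, IsScalarTower.algebraMap_apply D (Localization.Away g) L, ← hv,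
        ← mul_assoc, ← map_mul, Units.inv_mul, map_one, one_mul]
    rw [h2]
    exact isIntegral_algebraMap.mul h1
  haveI : Algebra.IsIntegral (Localization.Away g) L := by
    constructor
    intro x
    have hx : x ∈ Algebra.adjoin D (t : Set L) := by rw [ht]; trivial
    have hle : Algebra.adjoin D (t : Set L) ≤
        (integralClosure (Localization.Away g) L).restrictScalars D :=
      Algebra.adjoin_le fun y hy => hint y hy
    exact hle hx
  exact isField_of_isIntegral_of_isField hψinj (Field.toIsField L)

/-- GL: a finite type ring hom to a field: the kernel is a maximal point of `V(ker) ∩ D(g)`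
for some `g ∉ ker`. -/
theorem exists_notMem_ker_forall_prime {R L : Type*} [CommRing R] [Field L] (φ : R →+* L)
    (hφ : φ.FiniteType) :
    ∃ g : R, φ g ≠ 0 ∧ ∀ q : Ideal R, q.IsPrime → g ∉ q → RingHom.ker φ ≤ q →
      q = RingHom.ker φ := by
  let D := R ⧸ RingHom.ker φ
  haveI : (RingHom.ker φ).IsPrime := RingHom.ker_isPrime φ
  haveI : IsDomain D := Ideal.Quotient.isDomain _
  let φ' : D →+* L := RingHom.kerLift φ
  have hφ'inj : Function.Injective φ' := RingHom.kerLift_injective φ
  letI : Algebra D L := φ'.toAlgebra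
  have hcomp : φ'.comp (Ideal.Quotient.mk (RingHom.ker φ)) = φ := by
    ext x; rfl
  haveI : Algebra.FiniteType D L := by
    have : φ'.FiniteType := RingHom.FiniteType.of_comp_finiteType (f := Ideal.Quotient.mk _)
      (by rw [hcomp]; exact hφ)
    exact this
  obtain ⟨g', hg', hF⟩ := exists_away_isField (D := D) (L := L) hφ'inj
  obtain ⟨g, rfl⟩ := Ideal.Quotient.mk_surjective g'
  refine ⟨g, fun h => hg' ?_, fun q hq hgq hle => ?_⟩
  · rw [Ideal.Quotient.eq_zero_iff_mem]; exact h
  · have hsurj : Function.Surjective (Ideal.Quotient.mk (RingHom.ker φ)) :=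
      Ideal.Quotient.mk_surjective
    have hker : RingHom.ker (Ideal.Quotient.mk (RingHom.ker φ)) ≤ q := by
      rw [Ideal.mk_ker]; exact hle
    let q' := q.map (Ideal.Quotient.mk (RingHom.ker φ))
    have hq' : q'.IsPrime := Ideal.map_isPrime_of_surjective hsurj hker
    have hcm : q'.comap (Ideal.Quotient.mk (RingHom.ker φ)) = q := by
      rw [Ideal.comap_map_of_surjective _ hsurj, ← RingHom.ker_eq_comap_bot]
      exact sup_eq_left.mpr hker
    have hgq' : Ideal.Quotient.mk (RingHom.ker φ) g ∉ q' := by
      intro h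
      apply hgq
      rw [← hcm]; exact h
    have hdisj : Disjoint (Submonoid.powers (Ideal.Quotient.mk (RingHom.ker φ) g) : Set D) q' := by
      rw [Set.disjoint_left]
      rintro _ ⟨n, rfl⟩ hn
      exact hgq' (hq'.mem_of_pow_mem n hn)
    have hJ := IsLocalization.isPrime_of_isPrime_disjoint
      (Submonoid.powers (Ideal.Quotient.mk (RingHom.ker φ) g))
      (Localization.Away (Ideal.Quotient.mk (RingHom.ker φ) g)) q' hq' hdisj
    have hJbot : Ideal.map (algebraMap D (Localization.Away (Ideal.Quotient.mk (RingHom.ker φ) g))) q'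
        = ⊥ := by
      letI := hF.toField
      exact (Ideal.eq_bot_or_top _).resolve_right hJ.ne_top
    have hq'bot : q' = ⊥ := by
      rw [← IsLocalization.under_map_of_isPrime_disjoint
        (Submonoid.powers (Ideal.Quotient.mk (RingHom.ker φ) g))
        (Localization.Away (Ideal.Quotient.mk (RingHom.ker φ) g)) hq' hdisj, hJbot,
        Ideal.under, ← RingHom.ker_eq_comap_bot]
      rw [RingHom.ker_eq_bot_iff_eq_zero]
      intro x hx
      exact (IsLocalization.to_map_eq_zero_iff _
        (powers_le_nonZeroDivisors_of_noZeroDivisors hg')).mp hx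
    apply le_antisymm _ hle
    rw [← hcm, hq'bot, ← RingHom.ker_eq_comap_bot, Ideal.mk_ker]

/-- GG: the image point of a locally finite type morphism from the spectrum of a field is closed
in some affine open neighbourhood. -/
theorem exists_affineOpen_isClosed_of_lft {S : Scheme.{u}} {L : Type u} [Field L]
    (h : Spec (.of L) ⟶ S) [LocallyOfFiniteType h] :
    ∃ U : S.Opens, IsAffineOpen U ∧ ∃ hs : h (IsLocalRing.closedPoint L) ∈ U,
      IsClosed ({⟨h (IsLocalRing.closedPoint L), hs⟩} : Set ↥U) := by
  set pt : Spec (.of L) := IsLocalRing.closedPoint L with hpt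
  set s := h pt with hs
  obtain ⟨U₀, hU₀, hsU₀, -⟩ := exists_isAffineOpen_mem_and_subset (x := s) (U := ⊤) trivial
  let j := hU₀.fromSpec
  have hrange : Set.range h ⊆ Set.range j := by
    rintro _ ⟨x, rfl⟩
    rw [hU₀.range_fromSpec]
    have : x = pt := Subsingleton.elim _ _
    rw [this]; exact hsU₀
  let h₀ : Spec (.of L) ⟶ Spec Γ(S, U₀) := IsOpenImmersion.lift j h hrange
  have hh₀ : h₀ ≫ j = h := IsOpenImmersion.lift_fac _ _ _
  haveI : LocallyOfFiniteType (h₀ ≫ j) := by rw [hh₀]; infer_instance
  haveI : LocallyOfFiniteType h₀ := locallyOfFiniteType_of_comp h₀ j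
  obtain ⟨φ, hφ⟩ := Spec.map_surjective h₀
  have hft : φ.hom.FiniteType := by
    rw [← HasRingHomProperty.Spec_iff (P := @LocallyOfFiniteType), hφ]; infer_instance
  obtain ⟨g, hg, hprime⟩ := exists_notMem_ker_forall_prime φ.hom hft
  -- the point h₀ pt as a prime
  have hker : (h₀ pt).asIdeal = RingHom.ker φ.hom := by
    rw [← hφ]
    change Ideal.comap φ.hom (IsLocalRing.maximalIdeal L) = _
    rw [IsLocalRing.maximalIdeal_eq_bot, ← RingHom.ker_eq_comap_bot]
  have hjs : j (h₀ pt) = s := by
    rw [← Scheme.Hom.comp_apply, hh₀]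
  have hpre : j ⁻¹ᵁ S.basicOpen g = PrimeSpectrum.basicOpen g := hU₀.fromSpec_preimage_basicOpen g
  have hsU : s ∈ S.basicOpen g := by
    rw [← hjs]
    change h₀ pt ∈ j ⁻¹ᵁ S.basicOpen g
    rw [hpre]
    change g ∉ (h₀ pt).asIdeal
    rw [hker]
    exact hg
  refine ⟨S.basicOpen g, hU₀.basicOpen g, hsU, ?_⟩
  rw [← closure_subset_iff_isClosed]
  intro y hy
  have hspec : (⟨s, hsU⟩ : ↥(S.basicOpen g)) ⤳ y := specializes_iff_mem_closure.mpr hy
  have hspec' : s ⤳ y.1 := hspec.map continuous_subtype_val
  have hyU₀ : y.1 ∈ U₀ := S.basicOpen_le g y.2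
  obtain ⟨z, hz⟩ : y.1 ∈ Set.range j := by rw [hU₀.range_fromSpec]; exact hyU₀
  have hspec'' : h₀ pt ⤳ z := by
    rw [← j.isOpenEmbedding.isInducing.specializes_iff, hjs, hz]
    exact hspec'
  have hle : (h₀ pt).asIdeal ≤ z.asIdeal := (PrimeSpectrum.le_iff_specializes _ _).mpr hspec''
  have hgz : g ∉ z.asIdeal := by
    have : z ∈ j ⁻¹ᵁ S.basicOpen g := by
      change j z ∈ S.basicOpen g
      rw [hz]; exact y.2
    rw [hpre] at this
    exact this
  have hzeq : z.asIdeal = RingHom.ker φ.hom := hprime z.asIdeal z.2 hgz (hker ▸ hle)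
  have hzpt : z = h₀ pt := PrimeSpectrum.ext (by rw [hzeq, hker])
  rw [Set.mem_singleton_iff]
  apply Subtype.ext
  change y.1 = s
  rw [← hz, hzpt, hjs]


/-- the image of a finite type point under a morphism `h : Spec L ⟶ S` locally of finite type -/
theorem ft_of_lft_from_field {S : Scheme.{u}} {L : Type u} [Field L]
    (h : Spec (.of L) ⟶ S) [LocallyOfFiniteType h] :
    LocallyOfFiniteType (S.fromSpecResidueField (h (IsLocalRing.closedPoint L))) := by
  obtain ⟨U, -, hs, hcl⟩ := exists_affineOpen_isClosed_of_lft h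
  exact ft_of_isClosed_in_open S U ⟨_, hs⟩ hcl

/-- finite type points map to finite type points under morphisms locally of finite type -/
theorem ft_image {T S : Scheme.{u}} (f : T ⟶ S) [LocallyOfFiniteType f] (t : T)
    (ht : LocallyOfFiniteType (T.fromSpecResidueField t)) :
    LocallyOfFiniteType (S.fromSpecResidueField (f t)) := by
  have h1 := ft_of_lft_from_field (L := T.residueField t) (T.fromSpecResidueField t ≫ f)
  have e : (T.fromSpecResidueField t ≫ f) (IsLocalRing.closedPoint (T.residueField t)) = f t := by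
    rw [Scheme.Hom.comp_apply, Scheme.fromSpecResidueField_apply]
  rwa [e] at h1

/-- finite type points are those closed in an affine open neighbourhood -/
theorem ft_iff (S : Scheme.{u}) (s : S) :
    LocallyOfFiniteType (S.fromSpecResidueField s) ↔
      ∃ U : S.Opens, IsAffineOpen U ∧ ∃ hs : s ∈ U, IsClosed ({⟨s, hs⟩} : Set ↥U) := by
  constructor
  · intro h
    obtain ⟨U, hU, hs, hcl⟩ := exists_affineOpen_isClosed_of_lft (L := S.residueField s)
      (S.fromSpecResidueField s)
    have e : (S.fromSpecResidueField s) (IsLocalRing.closedPoint (S.residueField s)) = s :=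
      Scheme.fromSpecResidueField_apply _ _
    have key : ∀ x : S, x = s → (∃ hs : x ∈ U, IsClosed ({⟨x, hs⟩} : Set ↥U)) →
        ∃ hs : s ∈ U, IsClosed ({⟨s, hs⟩} : Set ↥U) := by
      rintro x rfl hx; exact hx
    exact ⟨U, hU, key _ e ⟨hs, hcl⟩⟩
  · rintro ⟨U, -, hs, hcl⟩
    exact ft_of_isClosed_in_open S U ⟨s, hs⟩ hcl

end Groth.Agent.Lead.FtPts
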