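import Mathlib
import Groth.Prelude.Def_Flat
open AlgebraicGeometry CategoryTheory Limits MorphismProperty

universe u

namespace Groth.Agent.Lead

instance isHomeomorph_isStableUnderComposition :
    IsStableUnderComposition (topologically (fun f => IsHomeomorph f) : MorphismProperty Scheme.{u}) where
  comp_mem f g hf hg := IsHomeomorph.comp (f := f) (g := g) hg hf

instance : IsStableUnderComposition (FlatMor.IsUnivHomeo : MorphismProperty Scheme.{u}) := by
  unfold FlatMor.IsUnivHomeo
  infer_instance

instance : IsStableUnderBaseChange (FlatMor.IsUnivHomeo : MorphismProperty Scheme.{u}) := by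
  unfold FlatMor.IsUnivHomeo
  infer_instance

instance : RespectsIso (FlatMor.IsUnivHomeo : MorphismProperty Scheme.{u}) := by
  unfold FlatMor.IsUnivHomeo
  infer_instance

lemma isUnivHomeo_of_isIso {X Y : Scheme.{u}} (f : X ⟶ Y) [IsIso f] : FlatMor.IsUnivHomeo f := by
  intro X' Y' i₁ i₂ f' H
  have : IsIso f' := MorphismProperty.of_isPullback (P := isomorphisms Scheme) H.flip ‹IsIso f›
  exact (TopCat.homeoOfIso (Scheme.forgetToTop.mapIso (asIso f'))).isHomeomorph

instance : IsMultiplicative (FlatMor.IsUnivHomeo : MorphismProperty Scheme.{u}) where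
  id_mem X := isUnivHomeo_of_isIso (𝟙 X)

/-- A surjective closed immersion is a universal homeomorphism. -/
lemma isUnivHomeo_of_isClosedImmersion_of_surjective {X X' : Scheme.{u}} (i : X ⟶ X')
    [h1 : IsClosedImmersion i] [h2 : Surjective i] : FlatMor.IsUnivHomeo i := by
  intro Y Y' i₁ i₂ f' hf
  have hf1 : IsClosedImmersion f' := MorphismProperty.of_isPullback hf.flip h1
  have hf2 : Surjective f' := MorphismProperty.of_isPullback hf.flip h2
  exact isHomeomorph_iff_isEmbedding_surjective.mpr
      ⟨f'.isClosedEmbedding.isEmbedding, hf2.1⟩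

lemma universallyInjective_of_isUnivHomeo {X Y : Scheme.{u}} {f : X ⟶ Y} (hf : FlatMor.IsUnivHomeo f) :
    UniversallyInjective f := by
  constructor
  intro X' Y' i₁ i₂ f' H
  exact (hf i₁ i₂ f' H).injective

lemma surjective_of_isUnivHomeo {X Y : Scheme.{u}} {f : X ⟶ Y} (hf : FlatMor.IsUnivHomeo f) :
    Surjective f :=
  ⟨(hf (𝟙 _) (𝟙 _) f IsPullback.of_id_snd).surjective⟩

lemma isUnivHomeo_diagonal {X Y : Scheme.{u}} {f : X ⟶ Y} (hf : FlatMor.IsUnivHomeo f) :
    FlatMor.IsUnivHomeo (pullback.diagonal f) := by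
  have h1 : UniversallyInjective f := universallyInjective_of_isUnivHomeo hf
  have h2 : Surjective (pullback.diagonal f) := (UniversallyInjective.iff_diagonal f).mp h1
  have h3 : IsClosedImmersion (pullback.diagonal f) :=
    IsClosedImmersion.of_isPreimmersion _ (by
      rw [h2.1.range_eq]; exact isClosed_univ)
  exact isUnivHomeo_of_isClosedImmersion_of_surjective _

instance : HasOfPostcompProperty (FlatMor.IsUnivHomeo : MorphismProperty Scheme.{u})
    FlatMor.IsUnivHomeo := by
  rw [hasOfPostcompProperty_iff_le_diagonal]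
  intro X Y f hf
  exact isUnivHomeo_diagonal hf

theorem isUnivHomeo_two_out_of_three {X Y Z : Scheme.{u}} (g : X ⟶ Y) (h : Y ⟶ Z) :
    (FlatMor.IsUnivHomeo (g ≫ h) → FlatMor.IsUnivHomeo g → FlatMor.IsUnivHomeo h) ∧
    (FlatMor.IsUnivHomeo (g ≫ h) → FlatMor.IsUnivHomeo h → FlatMor.IsUnivHomeo g) := by
  constructor
  · intro hgh hg
    intro X' Y' i₁ i₂ f' H
    have h1 := hgh _ _ _ ((IsPullback.of_hasPullback i₁ g).paste_horiz H)
    have h2 := hg _ _ _ (IsPullback.of_hasPullback i₁ g)
    -- f' = (fst ≫ f') ∘ fst⁻¹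
    have h3 : IsHomeomorph (pullback.fst i₁ g ≫ f') := h1
    have h4 : IsHomeomorph (pullback.fst i₁ g) := h2
    have : (f' : X' → Y') = (pullback.fst i₁ g ≫ f') ∘ (h4.homeomorph).symm := by
      funext x
      simp only [Function.comp_apply, Scheme.Hom.comp_apply]
      congr 1
      exact ((h4.homeomorph).apply_symm_apply x).symm
    show IsHomeomorph f'
    rw [this]
    exact h3.comp (h4.homeomorph).symm.isHomeomorph
  · intro hgh hh
    exact MorphismProperty.of_postcomp (W := FlatMor.IsUnivHomeo) (W' := FlatMor.IsUnivHomeo) g h hh hgh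

end Groth.Agent.Lead
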