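import Mathlib

/-! # Two-sided ideals of `A ⊗ K` for `K` central simple -/

set_option autoImplicit false
universe u v w

namespace Groth.Agent.Lead.TensorIdeal

open TensorProduct Module

variable {k : Type u} [Field k] {A : Type v} [Ring A] [Algebra k A] {K : Type w} [Ring K]
  [Algebra k K]

/-- coordinates of an element of `A ⊗ K` with respect to a `k`-basis of `A`. -/
noncomputable def coords {ι : Type*} [DecidableEq ι] (b : Basis ι k A) :
    A ⊗[k] K ≃ₗ[k] (ι →₀ K) :=
  TensorProduct.equivFinsuppOfBasisLeft b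

theorem coords_tmul {ι : Type*} [DecidableEq ι] (b : Basis ι k A) (a : A) (c : K) (i : ι) :
    coords b (a ⊗ₜ[k] c) i = b.repr a i • c :=
  TensorProduct.equivFinsuppOfBasisLeft_apply_tmul_apply b a c i

theorem coords_mul_left {ι : Type*} [DecidableEq ι] (b : Basis ι k A) (u : K) (x : A ⊗[k] K)
    (i : ι) : coords b (((1 : A) ⊗ₜ[k] u) * x) i = u * coords b x i := by
  induction x with
  | zero => simp
  | tmul a c =>
    rw [Algebra.TensorProduct.tmul_mul_tmul, one_mul, coords_tmul, coords_tmul, mul_smul_comm]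
  | add x y hx hy => rw [mul_add, map_add, Finsupp.add_apply, hx, hy, map_add, Finsupp.add_apply,
      mul_add]

theorem coords_mul_right {ι : Type*} [DecidableEq ι] (b : Basis ι k A) (v : K) (x : A ⊗[k] K)
    (i : ι) : coords b (x * ((1 : A) ⊗ₜ[k] v)) i = coords b x i * v := by
  induction x with
  | zero => simp
  | tmul a c =>
    rw [Algebra.TensorProduct.tmul_mul_tmul, mul_one, coords_tmul, coords_tmul, smul_mul_assoc]
  | add x y hx hy => rw [add_mul, map_add, Finsupp.add_apply, hx, hy, map_add, Finsupp.add_apply,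
      add_mul]

theorem eq_sum_coords {ι : Type*} [DecidableEq ι] (b : Basis ι k A) (x : A ⊗[k] K) :
    x = (coords b x).sum fun i c => b i ⊗ₜ[k] c := by
  conv_lhs => rw [← (coords b).symm_apply_apply x]
  exact TensorProduct.equivFinsuppOfBasisLeft_symm_apply b _

/-- Core lemma: an element of a two-sided ideal `I` of `A ⊗ K` whose coordinates vanish on `S`
is zero, provided that all `a` with `a ⊗ 1 ∈ I` are supported in `S`. -/
theorem eq_zero_of_mem [IsSimpleRing K] [Algebra.IsCentral k K] {ι : Type*} [DecidableEq ι]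
    (b : Basis ι k A) (S : Set ι) (I : TwoSidedIdeal (A ⊗[k] K))
    (hJ : ∀ a : A, a ⊗ₜ[k] (1 : K) ∈ I → ∀ i, i ∉ S → b.repr a i = 0) :
    ∀ x ∈ I, (∀ i ∈ S, coords b x i = 0) → x = 0 := by
  classical
  intro x
  induction' hn : (coords b x).support.card using Nat.strong_induction_on with n IH generalizing x
  intro hxI hxS
  by_contra hx0
  have hne : coords b x ≠ 0 := fun h => hx0 ((coords b).map_eq_zero_iff.1 h)
  obtain ⟨i0, hi0⟩ := Finsupp.support_nonempty_iff.2 hne
  have hi0' : coords b x i0 ≠ 0 := Finsupp.mem_support_iff.1 hi0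
  let 𝔍 : TwoSidedIdeal K := TwoSidedIdeal.mk'
    {c | ∃ x' ∈ I, (∀ i, coords b x i = 0 → coords b x' i = 0) ∧ coords b x' i0 = c}
    ⟨0, I.zero_mem, fun i _ => by simp, by simp⟩
    (by
      rintro c d ⟨x', hx', hs', rfl⟩ ⟨x'', hx'', hs'', rfl⟩
      refine ⟨x' + x'', I.add_mem hx' hx'', fun i hi => ?_, by simp⟩
      rw [map_add, Finsupp.add_apply, hs' i hi, hs'' i hi, add_zero])
    (by
      rintro c ⟨x', hx', hs', rfl⟩
      refine ⟨-x', I.neg_mem hx', fun i hi => ?_, by simp⟩
      rw [map_neg, Finsupp.neg_apply, hs' i hi, neg_zero])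
    (by
      rintro u c ⟨x', hx', hs', rfl⟩
      refine ⟨((1 : A) ⊗ₜ[k] u) * x', I.mul_mem_left _ _ hx', fun i hi => ?_, ?_⟩
      · rw [coords_mul_left, hs' i hi, mul_zero]
      · rw [coords_mul_left])
    (by
      rintro c v ⟨x', hx', hs', rfl⟩
      refine ⟨x' * ((1 : A) ⊗ₜ[k] v), I.mul_mem_right _ _ hx', fun i hi => ?_, ?_⟩
      · rw [coords_mul_right, hs' i hi, zero_mul]
      · rw [coords_mul_right])
  have h1 : (1 : K) ∈ 𝔍 := IsSimpleRing.one_mem_of_ne_zero_mem 𝔍 hi0'
    ((TwoSidedIdeal.mem_mk' _ _ _ _ _ _ _).2 ⟨x, hxI, fun i h => h, rfl⟩)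
  obtain ⟨x', hx'I, hx'supp, hx'1⟩ := (TwoSidedIdeal.mem_mk' _ _ _ _ _ _ _).1 h1
  have hcomm : ∀ c : K, ∀ i, c * coords b x' i = coords b x' i * c := by
    intro c
    set y := ((1 : A) ⊗ₜ[k] c) * x' - x' * ((1 : A) ⊗ₜ[k] c) with hy
    have hyI : y ∈ I := I.sub_mem (I.mul_mem_left _ _ hx'I) (I.mul_mem_right _ _ hx'I)
    have hycoord : ∀ i, coords b y i = c * coords b x' i - coords b x' i * c := by
      intro i
      rw [hy, map_sub, Finsupp.sub_apply, coords_mul_left, coords_mul_right]
    have hysupp : (coords b y).support ⊂ (coords b x).support := by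
      rw [Finset.ssubset_iff_of_subset]
      · refine ⟨i0, hi0, ?_⟩
        rw [Finsupp.mem_support_iff, not_not, hycoord, hx'1, mul_one, one_mul, sub_self]
      · intro i hi
        rw [Finsupp.mem_support_iff] at hi ⊢
        intro h0
        apply hi
        rw [hycoord, hx'supp i h0, mul_zero, zero_mul, sub_zero]
    have hy0 : y = 0 := IH _ (hn ▸ Finset.card_lt_card hysupp) y rfl hyI (fun i hi => by
      rw [hycoord, hx'supp i (hxS i hi), mul_zero, zero_mul, sub_zero])
    intro i
    have := hycoord i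
    rw [hy0, map_zero, Finsupp.zero_apply] at this
    exact sub_eq_zero.1 this.symm
  have hcentral : ∀ i, ∃ μ : k, algebraMap k K μ = coords b x' i := by
    intro i
    have hmem : coords b x' i ∈ Subalgebra.center k K := by
      rw [Subalgebra.mem_center_iff]
      intro c
      exact hcomm c i
    rw [Algebra.IsCentral.center_eq_bot] at hmem
    exact Algebra.mem_bot.1 hmem
  choose μ hμ using hcentral
  have ha : (∑ i ∈ (coords b x').support, μ i • b i) ⊗ₜ[k] (1 : K) = x' := by
    conv_rhs => rw [eq_sum_coords b x']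
    rw [TensorProduct.sum_tmul, Finsupp.sum]
    refine Finset.sum_congr rfl fun i _ => ?_
    rw [← hμ i, Algebra.algebraMap_eq_smul_one, TensorProduct.smul_tmul]
  have hi0S : i0 ∉ S := fun h => hi0' (hxS i0 h)
  have h0 := hJ _ (by rw [ha]; exact hx'I) i0 hi0S
  have h2 : coords b x' i0 = 0 := by
    rw [← ha, coords_tmul, h0, zero_smul]
  rw [hx'1] at h2
  exact one_ne_zero h2

/-- Every two-sided ideal of `A ⊗ K` (with `K` central simple over `k`) is generated by the
elements `a ⊗ 1` it contains. -/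
theorem ideal_eq_span [IsSimpleRing K] [Algebra.IsCentral k K] (I : TwoSidedIdeal (A ⊗[k] K)) :
    I = TwoSidedIdeal.span ((fun a : A => a ⊗ₜ[k] (1 : K)) '' {a : A | a ⊗ₜ[k] (1 : K) ∈ I}) := by
  classical
  let J : Submodule k A :=
    { carrier := {a : A | a ⊗ₜ[k] (1 : K) ∈ I}
      add_mem' := by
        intro a a' ha ha'
        change (a + a') ⊗ₜ[k] (1 : K) ∈ I
        rw [TensorProduct.add_tmul]
        exact I.add_mem ha ha'
      zero_mem' := by
        change (0 : A) ⊗ₜ[k] (1 : K) ∈ I
        rw [TensorProduct.zero_tmul]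
        exact I.zero_mem
      smul_mem' := by
        intro c a ha
        change (c • a) ⊗ₜ[k] (1 : K) ∈ I
        have : (c • a) ⊗ₜ[k] (1 : K) = ((c • (1 : A)) ⊗ₜ[k] (1 : K)) * (a ⊗ₜ[k] (1 : K)) := by
          rw [Algebra.TensorProduct.tmul_mul_tmul, smul_mul_assoc, one_mul, one_mul]
        rw [this]
        exact I.mul_mem_left _ _ ha }
  have hJmem : ∀ a : A, a ∈ J ↔ a ⊗ₜ[k] (1 : K) ∈ I := fun a => Iff.rfl
  obtain ⟨V, hV⟩ := Submodule.exists_isCompl J
  let bJ := Basis.ofVectorSpace k J
  let bV := Basis.ofVectorSpace k V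
  let b : Basis (Basis.ofVectorSpaceIndex k J ⊕ Basis.ofVectorSpaceIndex k V) k A :=
    (bJ.prod bV).map (Submodule.prodEquivOfIsCompl J V hV)
  have hb_inl : ∀ j, b (Sum.inl j) = (bJ j : A) := by
    intro j
    change Submodule.prodEquivOfIsCompl J V hV ((bJ.prod bV) (Sum.inl j)) = _
    rw [Submodule.coe_prodEquivOfIsCompl', Basis.prod_apply_inl_fst, Basis.prod_apply_inl_snd]
    simp
  have hrepr : ∀ a : A, a ∈ J → ∀ i, i ∉ {i | i.isLeft = true} → b.repr a i = 0 := by
    intro a ha i hi
    cases i with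
    | inl j => exact absurd rfl hi
    | inr j =>
      change (bJ.prod bV).repr ((Submodule.prodEquivOfIsCompl J V hV).symm a) (Sum.inr j) = 0
      have : (Submodule.prodEquivOfIsCompl J V hV).symm a = ((⟨a, ha⟩ : ↥J), 0) :=
        Submodule.prodEquivOfIsCompl_symm_apply_left J V hV ⟨a, ha⟩
      rw [this, Basis.prod_repr_inr]
      simp
  apply le_antisymm
  · intro x hx
    set c := coords b x with hc
    set xJ : A ⊗[k] K := (coords b).symm (c.filter fun i => i.isLeft = true) with hxJ
    set xV : A ⊗[k] K := (coords b).symm (c.filter fun i => ¬ i.isLeft = true) with hxV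
    have hsum : x = xJ + xV := by
      rw [hxJ, hxV, ← map_add, Finsupp.filter_add_filter_not, hc, LinearEquiv.symm_apply_apply]
    have hxJmem : xJ ∈ TwoSidedIdeal.span
        ((fun a : A => a ⊗ₜ[k] (1 : K)) '' {a : A | a ⊗ₜ[k] (1 : K) ∈ I}) := by
      rw [hxJ]
      change (TensorProduct.equivFinsuppOfBasisLeft b).symm _ ∈ _
      rw [TensorProduct.equivFinsuppOfBasisLeft_symm_apply, Finsupp.sum]
      refine sum_mem fun i hi => ?_
      rw [Finsupp.support_filter, Finset.mem_filter] at hi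
      cases i with
      | inr j => simp at hi
      | inl j =>
        have h1 : b (Sum.inl j) ⊗ₜ[k] ((c.filter fun i => i.isLeft = true) (Sum.inl j)) =
            (b (Sum.inl j) ⊗ₜ[k] (1 : K)) *
              ((1 : A) ⊗ₜ[k] ((c.filter fun i => i.isLeft = true) (Sum.inl j))) := by
          rw [Algebra.TensorProduct.tmul_mul_tmul, mul_one, one_mul]
        rw [h1]
        apply TwoSidedIdeal.mul_mem_right
        apply TwoSidedIdeal.subset_span
        refine ⟨b (Sum.inl j), ?_, rfl⟩
        rw [hb_inl]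
        exact (bJ j).2
    have hspanI : TwoSidedIdeal.span
        ((fun a : A => a ⊗ₜ[k] (1 : K)) '' {a : A | a ⊗ₜ[k] (1 : K) ∈ I}) ≤ I := by
      rw [TwoSidedIdeal.span_le]
      rintro _ ⟨a, ha, rfl⟩
      exact ha
    have hxVI : xV ∈ I := by
      have : xV = x - xJ := by rw [hsum]; abel
      rw [this]
      exact I.sub_mem hx (hspanI hxJmem)
    have hxV0 : xV = 0 := by
      apply eq_zero_of_mem b {i | i.isLeft = true} I (fun a ha => hrepr a ha) xV hxVI
      intro i hi
      rw [hxV, LinearEquiv.apply_symm_apply]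
      exact Finsupp.filter_apply_neg _ _ (not_not.2 hi)
    rw [hsum, hxV0, add_zero]
    exact hxJmem
  · rw [TwoSidedIdeal.span_le]
    rintro _ ⟨a, ha, rfl⟩
    exact ha

end Groth.Agent.Lead.TensorIdeal
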