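import Mathlib
import Groth.Agent.Lead.TensorIdeal

/-! # Base change of central simple algebras along a field extension -/

set_option autoImplicit false
universe u v w

namespace Groth.Agent.Lead.CSA

open Module TensorProduct Groth.Agent.Lead.TensorIdeal

variable (k : Type u) [Field k] (K : Type w) [Field K] [Algebra k K] (A : Type v) [Ring A]
  [Algebra k A]

/-- base change of a central algebra is central. -/
theorem isCentral_baseChange [Algebra.IsCentral k A] : Algebra.IsCentral K (K ⊗[k] A) := by
  classical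
  constructor
  intro z hz
  rw [Subalgebra.mem_center_iff] at hz
  let b := Basis.ofVectorSpace k K
  have hcentral : ∀ i, ∃ μ : k, algebraMap k A μ = coords b z i := by
    intro i
    have hmem : coords b z i ∈ Subalgebra.center k A := by
      rw [Subalgebra.mem_center_iff]
      intro c
      rw [← coords_mul_left, ← coords_mul_right, hz]
    rw [Algebra.IsCentral.center_eq_bot] at hmem
    exact Algebra.mem_bot.1 hmem
  choose μ hμ using hcentral
  rw [Algebra.mem_bot]
  refine ⟨∑ i ∈ (coords b z).support, μ i • b i, ?_⟩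
  rw [Algebra.TensorProduct.algebraMap_apply, Algebra.algebraMap_self_apply]
  conv_rhs => rw [eq_sum_coords b z]
  rw [TensorProduct.sum_tmul, Finsupp.sum]
  refine Finset.sum_congr rfl fun i _ => ?_
  rw [← hμ i, Algebra.algebraMap_eq_smul_one, TensorProduct.smul_tmul]

/-- finite-dimensionality descends along base change. -/
theorem finite_of_baseChange (h : Module.Finite K (K ⊗[k] A)) : Module.Finite k A := by
  rw [← Module.rank_lt_aleph0_iff] at h ⊢
  rw [Module.rank_baseChange] at h
  exact Cardinal.lift_lt_aleph0.1 h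

variable {k K A}

theorem one_tmul_injective : Function.Injective (fun a : A => (1 : K) ⊗ₜ[k] a) := by
  have := Algebra.TensorProduct.includeRight_injective (R := k) (A := K) (B := A)
    (FaithfulSMul.algebraMap_injective k K)
  exact this

variable (k K A)

/-- centrality descends along base change. -/
theorem isCentral_of_baseChange (h : Algebra.IsCentral K (K ⊗[k] A)) : Algebra.IsCentral k A := by
  classical
  constructor
  intro a ha
  rw [Subalgebra.mem_center_iff] at ha
  have h1 : (1 : K) ⊗ₜ[k] a ∈ Subalgebra.center K (K ⊗[k] A) := by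
    rw [Subalgebra.mem_center_iff]
    intro z
    induction z with
    | zero => simp
    | tmul c x =>
      rw [Algebra.TensorProduct.tmul_mul_tmul, Algebra.TensorProduct.tmul_mul_tmul, ha x, mul_one,
        one_mul]
    | add x y hx hy => rw [add_mul, mul_add, hx, hy]
  obtain ⟨c, hc⟩ := Algebra.mem_bot.1 (h.out h1)
  rw [Algebra.TensorProduct.algebraMap_apply, Algebra.algebraMap_self_apply] at hc
  -- hc : c ⊗ 1 = 1 ⊗ a
  rw [Algebra.mem_bot]
  by_contra hnot
  have hnot' : a ∉ (Submodule.span k {(1 : A)}) := by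
    intro hmem
    rw [Submodule.mem_span_singleton] at hmem
    obtain ⟨r, hr⟩ := hmem
    exact hnot ⟨r, by rw [Algebra.algebraMap_eq_smul_one, hr]⟩
  obtain ⟨f, hf, hf'⟩ := Submodule.exists_dual_map_eq_bot_of_notMem hnot' inferInstance
  have hf1 : f 1 = 0 := by
    have : f 1 ∈ (Submodule.span k {(1 : A)}).map f :=
      ⟨1, Submodule.mem_span_singleton_self 1, rfl⟩
    rw [hf'] at this
    exact this
  have h2 := congrArg (TensorProduct.rid k K ∘ (LinearMap.lTensor K f)) hc
  simp only [Function.comp_apply, LinearMap.lTensor_tmul, TensorProduct.rid_tmul, hf1, zero_smul]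
    at h2
  have h3 : f a • (1 : K) = 0 := h2.symm
  rw [smul_eq_zero] at h3
  rcases h3 with h3 | h3
  · exact hf h3
  · exact one_ne_zero h3

/-- simplicity descends along base change. -/
theorem isSimpleRing_of_baseChange (h : IsSimpleRing (K ⊗[k] A)) : IsSimpleRing A := by
  have hnt : Nontrivial A := by
    by_contra hcon
    rw [not_nontrivial_iff_subsingleton] at hcon
    have : Subsingleton (K ⊗[k] A) := by
      refine ⟨fun x y => ?_⟩
      have h0 : ∀ z : K ⊗[k] A, z = 0 := by
        intro z
        induction z with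
        | zero => rfl
        | tmul c a => rw [Subsingleton.elim a 0, TensorProduct.tmul_zero]
        | add x y hx hy => rw [hx, hy, add_zero]
      rw [h0 x, h0 y]
    exact not_subsingleton (K ⊗[k] A) this
  apply IsSimpleRing.of_eq_bot_or_eq_top
  intro I
  by_cases hI : I = ⊥
  · exact Or.inl hI
  right
  have hex : ∃ i ∈ I, i ≠ 0 := by
    by_contra hcon
    apply hI
    rw [eq_bot_iff]
    intro x hx
    by_contra hx0
    exact hcon ⟨x, hx, hx0⟩
  obtain ⟨i, hiI, hi0⟩ := hex
  by_contra htop
  have hQnt : Nontrivial I.ringCon.Quotient := by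
    refine ⟨⟨(1 : A), (0 : A), fun h10 => ?_⟩⟩
    have h1 : (1 : A) ∈ I := by
      rw [TwoSidedIdeal.mem_iff]
      exact (RingCon.eq _).1 h10
    apply htop
    rw [eq_top_iff]
    intro x _
    have := I.mul_mem_left x 1 h1
    rwa [mul_one] at this
  let f : K ⊗[k] A →ₐ[k] K ⊗[k] I.ringCon.Quotient :=
    Algebra.TensorProduct.map (AlgHom.id k K) (RingCon.mkₐ k I.ringCon)
  have hKQ : Nontrivial (K ⊗[k] I.ringCon.Quotient) := by
    refine ⟨⟨(1 : K) ⊗ₜ[k] (1 : I.ringCon.Quotient), (1 : K) ⊗ₜ[k] (0 : I.ringCon.Quotient),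
      fun h10 => ?_⟩⟩
    exact one_ne_zero (one_tmul_injective h10)
  have hfinj : Function.Injective f := RingHom.injective f.toRingHom
  have h1 : f ((1 : K) ⊗ₜ[k] i) = 0 := by
    change Algebra.TensorProduct.map (AlgHom.id k K) (RingCon.mkₐ k I.ringCon) ((1 : K) ⊗ₜ[k] i) = 0
    rw [Algebra.TensorProduct.map_tmul]
    have : (RingCon.mkₐ k I.ringCon) i = 0 := by
      change ((i : A) : I.ringCon.Quotient) = ((0 : A) : I.ringCon.Quotient)
      rw [RingCon.eq]
      exact (TwoSidedIdeal.mem_iff I i).1 hiI
    rw [this, TensorProduct.tmul_zero]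
  have h2 : (1 : K) ⊗ₜ[k] i = 0 := hfinj (by rw [h1, map_zero])
  have h3 : (1 : K) ⊗ₜ[k] i = (1 : K) ⊗ₜ[k] (0 : A) := by rw [h2, TensorProduct.tmul_zero]
  exact hi0 (one_tmul_injective h3)

end Groth.Agent.Lead.CSA
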