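import Mathlib
import Groth.Agent.Lead.CSA6

/-! # Central simple algebras over separably closed fields are matrix algebras
(the first three lemmas are taken from helper5's `Groth/Agent/Helper5/CSA.lean`) -/

set_option autoImplicit false
universe u v w
open scoped TensorProduct

namespace Groth.Agent.Lead.CSA

/-- A central division algebra, algebraic over a separably closed field, is trivial. -/
theorem bot_eq_top_of_isSepClosed (k : Type u) [Field k] [IsSepClosed k]
    (D : Type v) [DivisionRing D] [Algebra k D] [Algebra.IsAlgebraic k D] [Algebra.IsCentral k D] :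
    (⊥ : Subalgebra k D) = ⊤ := by
  by_contra hne
  obtain ⟨x, hx, hsep⟩ := JacobsonNoether.exists_separable_and_not_isCentral' hne
  apply hx
  have hint : IsIntegral k x := (Algebra.IsAlgebraic.isAlgebraic x).isIntegral
  have h : (minpoly k x).degree = 1 :=
    IsSepClosed.degree_eq_one_of_irreducible k (minpoly.irreducible hint) hsep
  have := minpoly.mem_range_of_degree_eq_one k x h
  rwa [Algebra.mem_bot]

theorem isCentral_of_matrix (k : Type u) [Field k] (D : Type v) [Ring D] [Algebra k D]
    (n : ℕ) [NeZero n] [Algebra.IsCentral k (Matrix (Fin n) (Fin n) D)] : Algebra.IsCentral k D := by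
  constructor
  intro d hd
  have h1 : Matrix.scalarAlgHom (Fin n) k d ∈ Subalgebra.center k (Matrix (Fin n) (Fin n) D) := by
    rw [Matrix.subalgebraCenter_eq_scalarAlgHom_map]
    exact ⟨d, hd, rfl⟩
  obtain ⟨c, hc⟩ := Algebra.IsCentral.out (K := k) h1
  refine ⟨c, ?_⟩
  have := congrFun (congrFun hc 0) 0
  simpa [Matrix.algebraMap_matrix_apply] using this

theorem exists_algEquiv_matrix_of_isSepClosed (k : Type u) [Field k] [IsSepClosed k]
    (A : Type v) [Ring A] [Algebra k A] [Algebra.IsCentral k A] [IsSimpleRing A]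
    [FiniteDimensional k A] :
    ∃ n : ℕ, n ≠ 0 ∧ Nonempty (A ≃ₐ[k] Matrix (Fin n) (Fin n) k) := by
  have : IsArtinianRing A := IsArtinianRing.of_finite k A
  obtain ⟨n, hn, D, _, _, _, ⟨e⟩⟩ := IsSimpleRing.exists_algEquiv_matrix_divisionRing_finite k A
  have : Algebra.IsCentral k (Matrix (Fin n) (Fin n) D) := Algebra.IsCentral.of_algEquiv k _ _ e
  have : Algebra.IsCentral k D := isCentral_of_matrix k D n
  have : Algebra.IsAlgebraic k D := Algebra.IsAlgebraic.of_finite k D
  have h := bot_eq_top_of_isSepClosed k D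
  let e1 : D ≃ₐ[k] k :=
    (Subalgebra.topEquiv.symm.trans (Subalgebra.equivOfEq _ _ h.symm)).trans (Algebra.botEquiv k D)
  exact ⟨n, NeZero.ne n, ⟨e.trans e1.mapMatrix⟩⟩

end Groth.Agent.Lead.CSA
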