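import Mathlib

/-! # Modules over simple Artinian algebras are classified by dimension -/

set_option autoImplicit false
universe u v w

namespace Groth.Agent.Lead.CSA

open Module

variable {k : Type u} [Field k] {R : Type v} [Ring R] [Algebra k R] [IsSimpleRing R]
  [IsArtinianRing R]

/-- Any two simple submodules (of possibly different modules) over a simple Artinian ring are
isomorphic. -/
theorem simple_iso {M₁ M₂ : Type w} [AddCommGroup M₁] [Module R M₁] [AddCommGroup M₂] [Module R M₂]
    (S₁ : Submodule R M₁) (S₂ : Submodule R M₂) [IsSimpleModule R S₁] [IsSimpleModule R S₂] :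
    Nonempty (S₁ ≃ₗ[R] S₂) := by
  have hiso := IsSimpleRing.isIsotypic R (M₁ × M₂)
  let T₁ : Submodule R (M₁ × M₂) := S₁.map (LinearMap.inl R M₁ M₂)
  let T₂ : Submodule R (M₁ × M₂) := S₂.map (LinearMap.inr R M₁ M₂)
  let e₁ : S₁ ≃ₗ[R] T₁ := S₁.equivMapOfInjective _ LinearMap.inl_injective
  let e₂ : S₂ ≃ₗ[R] T₂ := S₂.equivMapOfInjective _ LinearMap.inr_injective
  have : IsSimpleModule R T₁ := IsSimpleModule.congr e₁.symm
  have : IsSimpleModule R T₂ := IsSimpleModule.congr e₂.symm
  obtain ⟨e⟩ := hiso T₂ T₁
  exact ⟨e₁.trans (e.trans e₂.symm)⟩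

/-- Finite-dimensional modules over a finite-dimensional simple algebra with the same dimension
are isomorphic. -/
theorem nonempty_linearEquiv_of_finrank_eq {M₁ M₂ : Type w} [AddCommGroup M₁] [Module R M₁]
    [Module k M₁] [IsScalarTower k R M₁] [AddCommGroup M₂] [Module R M₂] [Module k M₂]
    [IsScalarTower k R M₂] [Module.Finite k M₁] [Module.Finite k M₂]
    (h : finrank k M₁ = finrank k M₂) : Nonempty (M₁ ≃ₗ[R] M₂) := by
  classical
  by_cases hnt : Nontrivial M₁
  · have hnt2 : Nontrivial M₂ := by
      apply Module.nontrivial_of_finrank_pos (R := k)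
      rw [← h]
      exact Module.finrank_pos
    have : Module.Finite R M₁ := Module.Finite.of_restrictScalars_finite k R M₁
    have : Module.Finite R M₂ := Module.Finite.of_restrictScalars_finite k R M₂
    obtain ⟨n₁, _, S₁, hS₁, ⟨e₁⟩⟩ := (IsSimpleRing.isIsotypic R M₁).linearEquiv_fun
    obtain ⟨n₂, _, S₂, hS₂, ⟨e₂⟩⟩ := (IsSimpleRing.isIsotypic R M₂).linearEquiv_fun
    obtain ⟨e⟩ := simple_iso S₁ S₂
    have : Module.Finite k S₁ :=
      Module.Finite.of_injective ((S₁.subtype).restrictScalars k) Subtype.val_injective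
    have : Module.Finite k S₂ :=
      Module.Finite.of_injective ((S₂.subtype).restrictScalars k) Subtype.val_injective
    have hd : finrank k S₁ = finrank k S₂ := (e.restrictScalars k).finrank_eq
    have h1 : finrank k M₁ = n₁ * finrank k S₁ := by
      rw [(e₁.restrictScalars k).finrank_eq, Module.finrank_pi_fintype]
      simp
    have h2 : finrank k M₂ = n₂ * finrank k S₂ := by
      rw [(e₂.restrictScalars k).finrank_eq, Module.finrank_pi_fintype]
      simp
    have hpos : 0 < finrank k S₁ := by
      have : Nontrivial S₁ := IsSimpleModule.nontrivial R S₁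
      exact Module.finrank_pos
    have hn : n₁ = n₂ := by
      rw [h1, h2, ← hd] at h
      exact Nat.eq_of_mul_eq_mul_right hpos h
    subst hn
    exact ⟨e₁.trans ((LinearEquiv.piCongrRight fun _ => e).trans e₂.symm)⟩
  · rw [not_nontrivial_iff_subsingleton] at hnt
    have h0 : finrank k M₂ = 0 := by rw [← h]; exact Module.finrank_zero_of_subsingleton
    have : Subsingleton M₂ := (Module.finrank_zero_iff (R := k)).1 h0
    exact ⟨{ toFun := fun _ => 0, invFun := fun _ => 0, map_add' := by simp,
             map_smul' := by simp, left_inv := fun _ => Subsingleton.elim _ _,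
             right_inv := fun _ => Subsingleton.elim _ _ }⟩

end Groth.Agent.Lead.CSA
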