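import Mathlib
import Groth.Agent.Lead.CSA1

/-! # `A` as a `B ⊗ Aᵐᵒᵖ`-module via an algebra map `f : B → A` -/

set_option autoImplicit false
universe u v w

namespace Groth.Agent.Lead.CSA

open Module TensorProduct MulOpposite

variable {k : Type u} [Field k] {A : Type v} [Ring A] [Algebra k A] {B : Type w} [Ring B]
  [Algebra k B]

/-- `A` viewed as a `B ⊗ Aᵐᵒᵖ`-module via `f`. -/
def Tw (_f : B →ₐ[k] A) : Type v := A

namespace Tw

variable (f : B →ₐ[k] A)

instance : AddCommGroup (Tw f) := inferInstanceAs (AddCommGroup A)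
instance : Module k (Tw f) := inferInstanceAs (Module k A)
instance : Module Aᵐᵒᵖ (Tw f) := inferInstanceAs (Module Aᵐᵒᵖ A)
instance : Module B (Tw f) := Module.compHom A f.toRingHom

/-- the identity map `A → Tw f`. -/
def of : A ≃ₗ[k] Tw f := LinearEquiv.refl k A

theorem smul_B (b : B) (x : Tw f) : b • x = of f (f b * (of f).symm x) := rfl
theorem smul_Aop (a : Aᵐᵒᵖ) (x : Tw f) : a • x = of f ((of f).symm x * a.unop) := rfl

instance : SMulCommClass B Aᵐᵒᵖ (Tw f) :=
  ⟨fun b a x => by
    let x' : A := x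
    change f b * (x' * a.unop) = (f b * x') * a.unop
    rw [mul_assoc]⟩

instance : IsScalarTower k B (Tw f) :=
  ⟨fun c b x => by
    let x' : A := x
    change f (c • b) * x' = c • (f b * x')
    rw [map_smul, smul_mul_assoc]⟩

instance : IsScalarTower k Aᵐᵒᵖ (Tw f) :=
  ⟨fun c a x => by
    let x' : A := x
    change x' * (c • a).unop = c • (x' * a.unop)
    rw [MulOpposite.unop_smul, mul_smul_comm]⟩

noncomputable instance : Module (B ⊗[k] Aᵐᵒᵖ) (Tw f) := TensorProduct.Algebra.module

theorem smul_tmul (b : B) (a : Aᵐᵒᵖ) (x : Tw f) :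
    (b ⊗ₜ[k] a) • x = of f (f b * (of f).symm x * a.unop) := by
  change b • a • x = _
  rw [smul_B, smul_Aop]
  let x' : A := x
  change f b * (x' * a.unop) = f b * x' * a.unop
  rw [mul_assoc]

instance : IsScalarTower k (B ⊗[k] Aᵐᵒᵖ) (Tw f) :=
  ⟨fun c s x => by
    induction s with
    | zero =>
      rw [smul_zero, zero_smul (B ⊗[k] Aᵐᵒᵖ) x, smul_zero]
    | tmul b a =>
      rw [TensorProduct.smul_tmul', smul_tmul, smul_tmul, map_smul, smul_mul_assoc,
        smul_mul_assoc, map_smul]
    | add s t hs ht => rw [smul_add, add_smul, add_smul, hs, ht, smul_add]⟩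

instance [Module.Finite k A] : Module.Finite k (Tw f) := inferInstanceAs (Module.Finite k A)

end Tw

end Groth.Agent.Lead.CSA
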