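import Mathlib
import Groth.Agent.Lead.CSA2

/-! # The centralizer as an endomorphism ring -/

set_option autoImplicit false
universe u v w

namespace Groth.Agent.Lead.CSA

open Module TensorProduct MulOpposite

section EndSimple

variable {k : Type u} [Field k] {R : Type v} [Ring R] [Algebra k R] [IsSimpleRing R]
  [IsArtinianRing R]

/-- The endomorphism ring of a nonzero finite module over a simple Artinian ring is simple. -/
theorem isSimpleRing_end {M : Type w} [AddCommGroup M] [Module R M] [Module.Finite R M]
    [Nontrivial M] : IsSimpleRing (Module.End R M) := by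
  classical
  obtain ⟨n, _, S₁, hS₁, ⟨e⟩⟩ := (IsSimpleRing.isIsotypic R M).linearEquiv_fun
  have e1 : Module.End R M ≃+* Matrix (Fin n) (Fin n) (Module.End R S₁) :=
    e.conjRingEquiv.trans (endVecRingEquivMatrixEnd (Fin n) R S₁)
  exact IsSimpleRing.of_ringEquiv e1.symm inferInstance

end EndSimple

variable {k : Type u} [Field k] {A : Type v} [Ring A] [Algebra k A]

/-- left multiplication by an element of the centralizer of `B`, as an endomorphism of `A` over
`B ⊗ Aᵐᵒᵖ`. -/
noncomputable def centralizerToEnd (B : Subalgebra k A) :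
    Subalgebra.centralizer k (B : Set A) →ₗ[k] Module.End (B ⊗[k] Aᵐᵒᵖ) (Tw B.val) where
  toFun c :=
    { toFun := fun x => Tw.of B.val ((c : A) * (Tw.of B.val).symm x)
      map_add' := fun x y => by rw [map_add, mul_add, map_add]
      map_smul' := fun s x => by
        induction s with
        | zero =>
          rw [RingHom.id_apply, zero_smul (↥B ⊗[k] Aᵐᵒᵖ) x,
            zero_smul (↥B ⊗[k] Aᵐᵒᵖ) (Tw.of B.val ((c : A) * (Tw.of B.val).symm x)), map_zero,
            mul_zero, map_zero]
        | tmul b a =>
          rw [RingHom.id_apply, Tw.smul_tmul, Tw.smul_tmul, LinearEquiv.symm_apply_apply,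
            LinearEquiv.symm_apply_apply]
          congr 1
          have hc : (b : A) * (c : A) = (c : A) * (b : A) :=
            (Subalgebra.mem_centralizer_iff k).1 c.2 b b.2
          change (c : A) * ((b : A) * _ * _) = (b : A) * ((c : A) * _) * _
          rw [← mul_assoc, ← mul_assoc, ← mul_assoc, hc]
        | add s t hs ht =>
          rw [RingHom.id_apply] at hs ht ⊢
          rw [add_smul, map_add, mul_add, map_add, hs, ht, add_smul] }
  map_add' c d := by
    ext x
    change Tw.of B.val (((c + d : Subalgebra.centralizer k (B : Set A)) : A) * _) = _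
    rw [Subalgebra.coe_add, add_mul, map_add]
    rfl
  map_smul' r c := by
    ext x
    change Tw.of B.val (((r • c : Subalgebra.centralizer k (B : Set A)) : A) * _) = _
    rw [Subalgebra.coe_smul, smul_mul_assoc, map_smul]
    rfl

theorem centralizerToEnd_apply (B : Subalgebra k A) (c : Subalgebra.centralizer k (B : Set A))
    (x : Tw B.val) :
    centralizerToEnd B c x = Tw.of B.val ((c : A) * (Tw.of B.val).symm x) := rfl

theorem centralizerToEnd_mul (B : Subalgebra k A) (c d : Subalgebra.centralizer k (B : Set A)) :
    centralizerToEnd B (c * d) = centralizerToEnd B c * centralizerToEnd B d := by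
  ext x
  rw [Module.End.mul_apply, centralizerToEnd_apply, centralizerToEnd_apply, centralizerToEnd_apply,
    LinearEquiv.symm_apply_apply, Subalgebra.coe_mul, mul_assoc]

theorem centralizerToEnd_one (B : Subalgebra k A) : centralizerToEnd B 1 = 1 := by
  ext x
  rw [centralizerToEnd_apply, Subalgebra.coe_one, one_mul, LinearEquiv.apply_symm_apply]
  rfl

theorem centralizerToEnd_injective (B : Subalgebra k A) :
    Function.Injective (centralizerToEnd B) := by
  intro c d h
  have h1 := LinearMap.congr_fun h (Tw.of B.val 1)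
  rw [centralizerToEnd_apply, centralizerToEnd_apply, LinearEquiv.symm_apply_apply, mul_one,
    mul_one] at h1
  exact Subtype.ext ((Tw.of B.val).injective h1)

theorem centralizerToEnd_surjective (B : Subalgebra k A) :
    Function.Surjective (centralizerToEnd B) := by
  intro φ
  set c : A := (Tw.of B.val).symm (φ (Tw.of B.val 1)) with hc
  have hφ : ∀ x : A, φ (Tw.of B.val x) = Tw.of B.val (c * x) := by
    intro x
    have h1 : Tw.of B.val x = ((1 : B) ⊗ₜ[k] (op x)) • Tw.of B.val 1 := by
      rw [Tw.smul_tmul]
      simp
    rw [h1, map_smul, Tw.smul_tmul]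
    simp [hc]
  have hcB : c ∈ Subalgebra.centralizer k (B : Set A) := by
    rw [Subalgebra.mem_centralizer_iff]
    intro b hb
    have h1 : Tw.of B.val b = ((⟨b, hb⟩ : B) ⊗ₜ[k] (1 : Aᵐᵒᵖ)) • Tw.of B.val 1 := by
      rw [Tw.smul_tmul]
      simp
    have h2 := hφ b
    rw [h1, map_smul, Tw.smul_tmul] at h2
    have h3 := (Tw.of B.val).injective h2
    simp only [unop_one, mul_one, Subalgebra.coe_val] at h3
    rw [← h3, hc]
  refine ⟨⟨c, hcB⟩, ?_⟩
  ext x
  rw [centralizerToEnd_apply]
  have := hφ ((Tw.of B.val).symm x)
  rw [LinearEquiv.apply_symm_apply] at this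
  exact this.symm

/-- The centralizer of `B` is isomorphic to `End_{B ⊗ Aᵐᵒᵖ}(A)`. -/
noncomputable def centralizerEquivEnd (B : Subalgebra k A) :
    Subalgebra.centralizer k (B : Set A) ≃+* Module.End (B ⊗[k] Aᵐᵒᵖ) (Tw B.val) :=
  RingEquiv.ofBijective
    ({ toFun := centralizerToEnd B
       map_one' := centralizerToEnd_one B
       map_mul' := centralizerToEnd_mul B
       map_zero' := map_zero _
       map_add' := map_add _ } :
      Subalgebra.centralizer k (B : Set A) →+* Module.End (B ⊗[k] Aᵐᵒᵖ) (Tw B.val))
    ⟨centralizerToEnd_injective B, centralizerToEnd_surjective B⟩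

noncomputable def centralizerLinearEquivEnd (B : Subalgebra k A) :
    Subalgebra.centralizer k (B : Set A) ≃ₗ[k] Module.End (B ⊗[k] Aᵐᵒᵖ) (Tw B.val) :=
  LinearEquiv.ofBijective (centralizerToEnd B)
    ⟨centralizerToEnd_injective B, centralizerToEnd_surjective B⟩

end Groth.Agent.Lead.CSA
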