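import Mathlib
import Groth.Agent.Lead.CSA3

/-! # Dimension of the endomorphism ring of a module over a simple algebra -/

set_option autoImplicit false
universe u v w w'

namespace Groth.Agent.Lead.CSA

open Module

variable {k : Type u} [Field k] {R : Type v} [Ring R] [Algebra k R] [IsSimpleRing R]

/-- universe-polymorphic version of `simple_iso`. -/
theorem simple_iso' [IsArtinianRing R] {M₁ : Type w} {M₂ : Type w'} [AddCommGroup M₁] [Module R M₁]
    [AddCommGroup M₂] [Module R M₂]
    (S₁ : Submodule R M₁) (S₂ : Submodule R M₂) [IsSimpleModule R S₁] [IsSimpleModule R S₂] :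
    Nonempty (S₁ ≃ₗ[R] S₂) := by
  have hiso := IsSimpleRing.isIsotypic R (M₁ × M₂)
  let T₁ : Submodule R (M₁ × M₂) := S₁.map (LinearMap.inl R M₁ M₂)
  let T₂ : Submodule R (M₁ × M₂) := S₂.map (LinearMap.inr R M₁ M₂)
  let e₁ : S₁ ≃ₗ[R] T₁ := S₁.equivMapOfInjective _ LinearMap.inl_injective
  let e₂ : S₂ ≃ₗ[R] T₂ := S₂.equivMapOfInjective _ LinearMap.inr_injective
  have : IsSimpleModule R T₁ := IsSimpleModule.congr e₁.symm
  have : IsSimpleModule R T₂ := IsSimpleModule.congr e₂.symm
  obtain ⟨e⟩ := hiso T₂ T₁
  exact ⟨e₁.trans (e.trans e₂.symm)⟩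

/-- For a finite-dimensional simple `k`-algebra `R` and a finite-dimensional `R`-module `M`,
`dim End_R(M) * dim R = (dim M)^2`. -/
theorem finrank_end_mul_finrank [Module.Finite k R] {M : Type w} [AddCommGroup M] [Module R M]
    [Module k M] [IsScalarTower k R M] [Module.Finite k M] :
    finrank k (Module.End R M) * finrank k R = finrank k M ^ 2 := by
  classical
  have : IsArtinianRing R := IsArtinianRing.of_finite k R
  by_cases hnt : Nontrivial M
  · have : Module.Finite R M := Module.Finite.of_restrictScalars_finite k R M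
    obtain ⟨s, _, S₁, hS₁, ⟨e⟩⟩ := (IsSimpleRing.isIsotypic R M).linearEquiv_fun
    obtain ⟨r, hr, S₂, hS₂, ⟨e'⟩⟩ := (IsSimpleRing.isIsotypic R R).linearEquiv_fun
    obtain ⟨σ⟩ := simple_iso' S₁ S₂
    have : Module.Finite k S₁ :=
      Module.Finite.of_injective ((S₁.subtype).restrictScalars k) Subtype.val_injective
    have : Module.Finite k S₂ :=
      Module.Finite.of_injective ((S₂.subtype).restrictScalars k) Subtype.val_injective
    have hm : finrank k S₁ = finrank k S₂ := (σ.restrictScalars k).finrank_eq
    have hd : finrank k (Module.End R S₁) = finrank k (Module.End R S₂) :=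
      (σ.conjAlgEquiv k).toLinearEquiv.finrank_eq
    have dM : finrank k M = s * finrank k S₁ := by
      rw [(e.restrictScalars k).finrank_eq, Module.finrank_pi_fintype]
      simp
    have dR : finrank k R = r * finrank k S₂ := by
      rw [(e'.restrictScalars k).finrank_eq, Module.finrank_pi_fintype]
      simp
    have dEM : finrank k (Module.End R M) = s * s * finrank k (Module.End R S₁) := by
      rw [((e.conjAlgEquiv k).trans (endVecAlgEquivMatrixEnd (Fin s) k R S₁)).toLinearEquiv.finrank_eq,
        Module.finrank_matrix]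
      simp
    have dER : finrank k (Module.End R R) = r * r * finrank k (Module.End R S₂) := by
      rw [((e'.conjAlgEquiv k).trans (endVecAlgEquivMatrixEnd (Fin r) k R S₂)).toLinearEquiv.finrank_eq,
        Module.finrank_matrix]
      simp
    have dER' : finrank k (Module.End R R) = finrank k R := by
      rw [← (AlgEquiv.moduleEndSelf k (A := R)).toLinearEquiv.finrank_eq,
        ← (MulOpposite.opLinearEquiv k (M := R)).finrank_eq]
    have hr0 : 0 < r := Nat.pos_of_ne_zero (NeZero.ne r)
    have hmd : finrank k S₂ = r * finrank k (Module.End R S₂) := by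
      have h1 : r * finrank k S₂ = r * (r * finrank k (Module.End R S₂)) := by
        rw [← dR, ← dER', dER, mul_assoc]
      exact Nat.eq_of_mul_eq_mul_left hr0 h1
    rw [dEM, dR, dM, hm, hd, hmd]
    ring
  · rw [not_nontrivial_iff_subsingleton] at hnt
    have h0 : finrank k M = 0 := Module.finrank_zero_of_subsingleton
    have : Subsingleton (Module.End R M) := ⟨fun f g => LinearMap.ext fun x => Subsingleton.elim _ _⟩
    have h1 : finrank k (Module.End R M) = 0 := Module.finrank_zero_of_subsingleton
    rw [h0, h1]
    simp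

end Groth.Agent.Lead.CSA
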