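import Mathlib
import Groth.Agent.Lead.CSA4

/-! # Column vectors as the simple module of a matrix ring over a division ring -/

set_option autoImplicit false
universe u v w

namespace Groth.Agent.Lead.CSA

open Module Matrix MulOpposite

variable {k : Type u} [Field k] {D : Type v} [DivisionRing D] [Algebra k D]

/-- the matrix whose `i0`-th column is `w * c` (rows indexed by `i`), other columns zero. -/
def colMatrix {n : ℕ} (i0 : Fin n) (w : Fin n → D) : Matrix (Fin n) (Fin n) D :=
  fun i j => if j = i0 then w i else 0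

theorem colMatrix_mulVec {n : ℕ} (i0 : Fin n) (w v : Fin n → D) :
    colMatrix i0 w *ᵥ v = fun i => w i * v i0 := by
  funext i
  simp [colMatrix, Matrix.mulVec, dotProduct]

theorem isSimpleModule_vec {n : ℕ} (hn : n ≠ 0) :
    IsSimpleModule (Matrix (Fin n) (Fin n) D) (Fin n → D) := by
  have : NeZero n := ⟨hn⟩
  rw [isSimpleModule_iff_toSpanSingleton_surjective]
  refine ⟨inferInstance, fun v hv w => ?_⟩
  have hex : ∃ j, v j ≠ 0 := by
    by_contra hcon
    apply hv
    funext j
    by_contra hj
    exact hcon ⟨j, hj⟩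
  obtain ⟨j, hj⟩ := hex
  refine ⟨colMatrix j (fun i => w i * (v j)⁻¹), ?_⟩
  rw [LinearMap.toSpanSingleton_apply, Matrix.smul_eq_mulVec, colMatrix_mulVec]
  funext i
  rw [mul_assoc, inv_mul_cancel₀ hj, mul_one]

/-- right multiplication by `d` on column vectors, as an endomorphism over the matrix ring. -/
def rightMulEnd (n : ℕ) :
    Dᵐᵒᵖ →ₐ[k] Module.End (Matrix (Fin n) (Fin n) D) (Fin n → D) where
  toFun d :=
    { toFun := fun v i => v i * d.unop
      map_add' := fun v w => by funext i; simp [add_mul]
      map_smul' := fun M v => by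
        funext i
        simp only [Matrix.smul_eq_mulVec, Matrix.mulVec, dotProduct, RingHom.id_apply,
          Finset.sum_mul, mul_assoc] }
  map_one' := by ext v i; simp
  map_mul' d d' := by
    ext v i
    simp [mul_assoc]
  map_zero' := by ext v i; simp
  map_add' d d' := by ext v i; simp [mul_add]
  commutes' r := by
    ext v i
    change v i * (algebraMap k Dᵐᵒᵖ r).unop = (algebraMap k (Module.End _ _) r) v i
    rw [Module.algebraMap_end_apply, Pi.smul_apply, MulOpposite.algebraMap_apply, unop_op,
      Algebra.smul_def, Algebra.commutes]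

theorem rightMulEnd_apply (n : ℕ) (d : Dᵐᵒᵖ) (v : Fin n → D) (i : Fin n) :
    rightMulEnd (k := k) n d v i = v i * d.unop := rfl

theorem rightMulEnd_bijective {n : ℕ} (hn : n ≠ 0) :
    Function.Bijective (rightMulEnd (k := k) (D := D) n) := by
  classical
  let i0 : Fin n := ⟨0, Nat.pos_of_ne_zero hn⟩
  constructor
  · intro d d' h
    have h1 := congrFun (LinearMap.congr_fun h (Pi.single i0 1)) i0
    rw [rightMulEnd_apply, rightMulEnd_apply, Pi.single_eq_same, one_mul, one_mul] at h1
    exact MulOpposite.unop_injective h1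
  · intro φ
    refine ⟨op (φ (Pi.single i0 1) i0), ?_⟩
    ext v i
    rw [rightMulEnd_apply, unop_op]
    have hv : v = colMatrix i0 v • (Pi.single i0 (1 : D) : Fin n → D) := by
      rw [Matrix.smul_eq_mulVec, colMatrix_mulVec]
      funext i
      rw [Pi.single_eq_same, mul_one]
    conv_rhs => rw [hv, map_smul, Matrix.smul_eq_mulVec, colMatrix_mulVec]

/-- `End_{M_n(D)}(D^n) ≅ Dᵐᵒᵖ`. -/
noncomputable def endVecEquiv {n : ℕ} (hn : n ≠ 0) :
    Dᵐᵒᵖ ≃ₐ[k] Module.End (Matrix (Fin n) (Fin n) D) (Fin n → D) :=
  AlgEquiv.ofBijective (rightMulEnd n) (rightMulEnd_bijective hn)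

end Groth.Agent.Lead.CSA
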