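import Mathlib
import Groth.Prelude.Def_Curves
import Groth.Agent.Lead.CSA7
import Groth.Agent.S0190

/-! Descent of a splitting `K ⊗ A ≃ M_n(K)` to an intermediate field containing the
matrix entries of the images of a basis. -/

set_option autoImplicit false
universe u v w
open scoped TensorProduct

namespace Groth.Agent.Lead.CSA

section descend

variable (k : Type u) [Field k] (A : Type v) [Ring A] [Algebra k A]
variable (K : Type u) [Field K] [Algebra k K] (n : ℕ)
variable (e : K ⊗[k] A ≃ₐ[K] Matrix (Fin n) (Fin n) K) (F : IntermediateField k K)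

/-- the `k`-algebra map `A → M_n(K)`. -/
noncomputable def dg0 : A →ₐ[k] Matrix (Fin n) (Fin n) K :=
  (e.toAlgHom.restrictScalars k).comp Algebra.TensorProduct.includeRight

theorem dg0_apply (a : A) : dg0 k A K n e a = e (1 ⊗ₜ a) := rfl

/-- `M_n(F)` as a `k`-subalgebra of `M_n(K)`. -/
noncomputable def dS : Subalgebra k (Matrix (Fin n) (Fin n) K) :=
  (AlgHom.mapMatrix (m := Fin n) F.val).range

theorem mem_dS_iff (M : Matrix (Fin n) (Fin n) K) :
    M ∈ dS k K n F ↔ ∀ p q, M p q ∈ F := by
  constructor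
  · rintro ⟨N, rfl⟩ p q
    simp
  · intro h
    refine ⟨Matrix.of fun p q => ⟨M p q, h p q⟩, ?_⟩
    ext p q
    simp

theorem mapMatrix_val_injective :
    Function.Injective (AlgHom.mapMatrix (m := Fin n) F.val) := by
  intro M N h
  ext p q
  have := congrFun (congrFun h p) q
  simpa using this

variable {ι : Type*} (b : Module.Basis ι k A)

include b in
theorem dg0_mem (hF : ∀ i p q, e (1 ⊗ₜ b i) p q ∈ F) (a : A) :
    dg0 k A K n e a ∈ dS k K n F := by
  have ha : a ∈ Submodule.span k (Set.range b) := by rw [b.span_eq]; trivial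
  induction ha using Submodule.span_induction with
  | mem x hx =>
    obtain ⟨i, rfl⟩ := hx
    rw [mem_dS_iff]
    intro p q
    exact hF i p q
  | zero => rw [map_zero]; exact Subalgebra.zero_mem _
  | add x y _ _ hx hy => rw [map_add]; exact Subalgebra.add_mem _ hx hy
  | smul c x _ hx => rw [map_smul]; exact Subalgebra.smul_mem _ hx c

/-- the descended map `A → M_n(F)`. -/
noncomputable def dg (hF : ∀ i p q, e (1 ⊗ₜ b i) p q ∈ F) : A →ₐ[k] Matrix (Fin n) (Fin n) F :=
  (AlgEquiv.ofInjective (AlgHom.mapMatrix (m := Fin n) F.val)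
      (mapMatrix_val_injective k K n F)).symm.toAlgHom.comp
    ((dg0 k A K n e).codRestrict (dS k K n F) (dg0_mem k A K n e F b hF))

theorem dg_spec (hF : ∀ i p q, e (1 ⊗ₜ b i) p q ∈ F) (a : A) :
    AlgHom.mapMatrix (m := Fin n) F.val (dg k A K n e F b hF a) = e (1 ⊗ₜ a) := by
  unfold dg
  have := (AlgEquiv.ofInjective (AlgHom.mapMatrix (m := Fin n) F.val)
      (mapMatrix_val_injective k K n F)).apply_symm_apply
        ((dg0 k A K n e).codRestrict (dS k K n F) (dg0_mem k A K n e F b hF) a)
  have h2 := congrArg Subtype.val this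
  rw [AlgEquiv.ofInjective_apply] at h2
  exact h2

/-- the descended map `F ⊗ A → M_n(F)`. -/
noncomputable def df (hF : ∀ i p q, e (1 ⊗ₜ b i) p q ∈ F) :
    F ⊗[k] A →ₐ[F] Matrix (Fin n) (Fin n) F :=
  Algebra.TensorProduct.lift (Algebra.ofId F (Matrix (Fin n) (Fin n) F)) (dg k A K n e F b hF)
    (fun x y => by
      rw [Algebra.ofId_apply]
      exact Algebra.commute_algebraMap_left x _)

theorem df_tmul (hF : ∀ i p q, e (1 ⊗ₜ b i) p q ∈ F) (x : F) (a : A) :
    df k A K n e F b hF (x ⊗ₜ a) = x • dg k A K n e F b hF a := by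
  unfold df
  rw [Algebra.TensorProduct.lift_tmul, Algebra.ofId_apply, Algebra.smul_def]

end descend

end Groth.Agent.Lead.CSA

namespace Groth.Agent.Lead.CSA

section descend2

variable (k : Type u) [Field k] (A : Type v) [Ring A] [Algebra k A]
variable (K : Type u) [Field K] [Algebra k K] (n : ℕ)
variable (e : K ⊗[k] A ≃ₐ[K] Matrix (Fin n) (Fin n) K) (F : IntermediateField k K)
variable {ι : Type*} (b : Module.Basis ι k A)

include e b in
theorem splits_of_entries_mem [Algebra.IsCentral k A] [IsSimpleRing A] [FiniteDimensional k A]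
    (hn : n ≠ 0) (hF : ∀ i p q, e (1 ⊗ₜ b i) p q ∈ F) : Curves.Splits k A F := by
  haveI : NeZero n := ⟨hn⟩
  refine ⟨n, hn, ?_⟩
  have hs : IsSimpleRing (F ⊗[k] A) := Groth.Agent.S0190.result k F A
  have hinj : Function.Injective (df k A K n e F b hF) :=
    RingHom.injective (df k A K n e F b hF).toRingHom
  have h1 : Module.finrank F (F ⊗[k] A) = Module.finrank k A := Module.finrank_baseChange
  have h2 : Module.finrank K (K ⊗[k] A) = Module.finrank k A := Module.finrank_baseChange
  have h3 : Module.finrank K (K ⊗[k] A) = n * n := by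
    rw [e.toLinearEquiv.finrank_eq, Module.finrank_matrix]
    simp
  have h4 : Module.finrank F (Matrix (Fin n) (Fin n) F) = n * n := by
    rw [Module.finrank_matrix]
    simp
  have hdim : Module.finrank F (F ⊗[k] A) = Module.finrank F (Matrix (Fin n) (Fin n) F) := by
    rw [h1, ← h2, h3, h4]
  have hsurj : Function.Surjective (df k A K n e F b hF) :=
    (LinearMap.injective_iff_surjective_of_finrank_eq_finrank
      (f := (df k A K n e F b hF).toLinearMap) hdim).mp hinj
  exact ⟨AlgEquiv.ofBijective (df k A K n e F b hF) ⟨hinj, hsurj⟩⟩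

end descend2

end Groth.Agent.Lead.CSA
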