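import Mathlib
import Groth.Prelude.Def_W4c2submetdescSubtr
import Groth.Agent.Lead.ProConsLib7

open CategoryTheory Limits AlgebraicGeometry

namespace Groth.Agent.Lead.SubtrLim
universe u

/-- the closure of the range of a quasi-compact morphism consists of specializations -/
lemma exists_specializes_of_mem_closure_range {Z X : Scheme.{u}} (g : Z ⟶ X) [QuasiCompact g]
    {x : X} (hx : x ∈ closure (Set.range g)) : ∃ z, g z ⤳ x := by
  have h1 : ProCons.IsProConstructible (Set.range g) := by
    rw [← Set.image_univ]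
    exact ProConsLib.pro_image g ProConsLib.pro_univ
  obtain ⟨_, ⟨z, rfl⟩, hz⟩ := ProConsLib.exists_specializes_of_mem_closure h1 hx
  exact ⟨z, hz⟩

lemma quasiCompact_fromSpecResidueField (Y : Scheme.{u}) (y : Y) :
    QuasiCompact (Y.fromSpecResidueField y) :=
  ⟨fun U _ _ ↦ (Set.toFinite _).isCompact⟩

lemma exists_preimage_of_isPullback {P X Y S : Scheme.{u}} {fst : P ⟶ X} {snd : P ⟶ Y}
    {f : X ⟶ S} {g : Y ⟶ S} (h : IsPullback fst snd f g) (x : X) (y : Y) (e : f x = g y) :
    ∃ z : P, fst z = x ∧ snd z = y := by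
  obtain ⟨w, hw1, hw2⟩ := Scheme.Pullback.exists_preimage_pullback x y e
  refine ⟨h.isoPullback.inv w, ?_, ?_⟩
  · rw [← Scheme.Hom.comp_apply, h.isoPullback_inv_fst, hw1]
  · rw [← Scheme.Hom.comp_apply, h.isoPullback_inv_snd, hw2]

/-- points of the fibre `pullback f (fromSpecResidueField y)` -/
lemma fibre_fst_apply {X Y : Scheme.{u}} (f : X ⟶ Y) (y : Y)
    (z : ↑(pullback f (Y.fromSpecResidueField y))) :
    f (pullback.fst f (Y.fromSpecResidueField y) z) = y := by
  rw [← Scheme.Hom.comp_apply, pullback.condition, Scheme.Hom.comp_apply]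
  have := Scheme.range_fromSpecResidueField y
  have h2 : Y.fromSpecResidueField y (pullback.snd f (Y.fromSpecResidueField y) z) ∈
      Set.range (Y.fromSpecResidueField y) := ⟨_, rfl⟩
  rw [this] at h2
  exact h2

lemma fibre_surj {X Y : Scheme.{u}} (f : X ⟶ Y) (y : Y) (x : X) (hx : f x = y) :
    ∃ z : ↑(pullback f (Y.fromSpecResidueField y)),
      pullback.fst f (Y.fromSpecResidueField y) z = x := by
  have : y ∈ Set.range (Y.fromSpecResidueField y) := by
    rw [Scheme.range_fromSpecResidueField]; rfl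
  obtain ⟨s, hs⟩ := this
  obtain ⟨z, hz, -⟩ := Scheme.Pullback.exists_preimage_pullback (f := f)
    (g := Y.fromSpecResidueField y) x s (by rw [hx, hs])
  exact ⟨z, hz⟩

end Groth.Agent.Lead.SubtrLim
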