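import Mathlib
import Groth.Prelude.Def_W4c2submetdescSubtr
import Groth.Agent.Lead.SubtrLimA

open CategoryTheory Limits AlgebraicGeometry

namespace Groth.Agent.Lead.SubtrLim
universe u

set_option maxHeartbeats 800000 in
theorem core {J : Type u} [SmallCategory J] [IsCofiltered J] (DX : J ⥤ Scheme.{u})
    [∀ {i j : J} (a : i ⟶ j), IsAffineHom (DX.map a)] (cX : Cone DX) (hcX : IsLimit cX)
    {Y : Scheme.{u}} (f : cX.pt ⟶ Y) [QuasiCompact f]
    (Yj : J → Scheme.{u}) (fj : ∀ j, DX.obj j ⟶ Yj j) (pj : ∀ j, Y ⟶ Yj j)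
    (hpb : ∀ j, IsPullback (cX.π.app j) f (fj j) (pj j))
    (hS : ∀ j, ∃ (j' : J) (_ : j' ⟶ j), Subtr.IsSSubtrusive (fj j')) :
    Subtr.IsSSubtrusive f := by
  classical
  intro y y' hyy'
  by_contra hcon
  push Not at hcon
  have := quasiCompact_fromSpecResidueField Y y
  have := quasiCompact_fromSpecResidueField Y y'
  let σ : pullback f (Y.fromSpecResidueField y) ⟶ cX.pt := pullback.fst f _
  let σ' : pullback f (Y.fromSpecResidueField y') ⟶ cX.pt := pullback.fst f _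
  have hσ : ∀ z, f (σ z) = y := fibre_fst_apply f y
  have hσ' : ∀ z, f (σ' z) = y' := fibre_fst_apply f y'
  have h1 : ∀ z, σ z ∉ closure (Set.range σ') := by
    intro z hz
    obtain ⟨z', hz'⟩ := exists_specializes_of_mem_closure_range σ' hz
    exact hcon (σ z) (σ' z') hz' (hσ z) (hσ' z')
  have h2 : ∀ z, ∃ (j : J) (V : (DX.obj j).Opens), cX.π.app j (σ z) ∈ V ∧
      ∀ z', cX.π.app j (σ' z') ∉ V := by
    intro z
    let W : cX.pt.Opens := ⟨(closure (Set.range σ'))ᶜ, isClosed_closure.isOpen_compl⟩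
    obtain ⟨_, ⟨j, V, hV, rfl⟩, hzV, hVsub⟩ :=
      TopologicalSpace.Opens.isBasis_iff_nbhd.mp (isBasis_preimage_isAffineOpen DX cX hcX)
        (show σ z ∈ W from h1 z)
    exact ⟨j, V, hzV, fun z' hz' ↦ hVsub hz' (subset_closure ⟨z', rfl⟩)⟩
  choose jz Vz hVz1 hVz2 using h2
  have hcpt : CompactSpace ↑(pullback f (Y.fromSpecResidueField y)) := inferInstance
  obtain ⟨t, ht⟩ := isCompact_univ.elim_finite_subcover
    (fun z ↦ ((σ ≫ cX.π.app (jz z)) ⁻¹ᵁ (Vz z) : Set ↑(pullback f (Y.fromSpecResidueField y))))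
    (fun z ↦ ((σ ≫ cX.π.app (jz z)) ⁻¹ᵁ (Vz z)).isOpen)
    (fun z _ ↦ Set.mem_iUnion.mpr ⟨z, hVz1 z⟩)
  obtain ⟨j, hj⟩ := IsCofiltered.inf_objs_exists (t.image jz)
  obtain ⟨j', a, hSj'⟩ := hS j
  obtain ⟨x, x', hx'x, hx, hx'⟩ := hSj' (hyy'.map (pj j').continuous)
  obtain ⟨w, hw1, hw2⟩ := exists_preimage_of_isPullback (hpb j') x y hx
  obtain ⟨w', hw1', hw2'⟩ := exists_preimage_of_isPullback (hpb j') x' y' hx'
  obtain ⟨z, hz⟩ := fibre_surj f y w hw2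
  obtain ⟨z', hz'⟩ := fibre_surj f y' w' hw2'
  have hzt := ht (Set.mem_univ z)
  simp only [Set.mem_iUnion] at hzt
  obtain ⟨z₀, hz₀t, hz₀⟩ := hzt
  have b : j ⟶ jz z₀ := (hj (Finset.mem_image_of_mem jz hz₀t)).some
  -- the image of x in stage jz z₀ lies in Vz z₀
  have e1 : DX.map (a ≫ b) x = cX.π.app (jz z₀) (σ z) := by
    rw [← hw1, ← hz, ← Scheme.Hom.comp_apply, cX.w]
  have e2 : DX.map (a ≫ b) x' = cX.π.app (jz z₀) (σ' z') := by
    rw [← hw1', ← hz', ← Scheme.Hom.comp_apply, cX.w]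
  have h3 : DX.map (a ≫ b) x ∈ Vz z₀ := by
    rw [e1]; exact hz₀
  have h4 : DX.map (a ≫ b) x' ∈ Vz z₀ :=
    (hx'x.map (DX.map (a ≫ b)).continuous).mem_open (Vz z₀).isOpen h3
  rw [e2] at h4
  exact hVz2 z₀ z' h4

end Groth.Agent.Lead.SubtrLim
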