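import Mathlib
import Groth.Prelude.Def_W4c2submetdescSubtr
import Groth.Agent.Lead.SubtrLimB
import Groth.Agent.Lead.LimPullback

open CategoryTheory Limits AlgebraicGeometry

namespace Groth.Agent.Lead.SubtrLim
universe u

lemma isSSubtrusive_iso_comp {X' X Y : Scheme.{u}} (e : X' ≅ X) (g : X ⟶ Y)
    (hg : Subtr.IsSSubtrusive g) : Subtr.IsSSubtrusive (e.hom ≫ g) := by
  intro y y' hyy'
  obtain ⟨x, x', hx'x, hx, hx'⟩ := hg hyy'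
  refine ⟨e.inv x, e.inv x', hx'x.map e.inv.continuous, ?_, ?_⟩
  · rw [← Scheme.Hom.comp_apply, Iso.inv_hom_id_assoc, hx]
  · rw [← Scheme.Hom.comp_apply, Iso.inv_hom_id_assoc, hx']

lemma isSSubtrusive_of_iso_comp {X' X Y : Scheme.{u}} (e : X' ≅ X) (g : X ⟶ Y)
    (hg : Subtr.IsSSubtrusive (e.hom ≫ g)) : Subtr.IsSSubtrusive g := by
  intro y y' hyy'
  obtain ⟨x, x', hx'x, hx, hx'⟩ := hg hyy'
  exact ⟨e.hom x, e.hom x', hx'x.map e.hom.continuous, hx, hx'⟩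

variable {I : Type u} [SmallCategory I] (D : I ⥤ Scheme.{u}) (c : Cone D) (i₀ : I)
  {X₀ Y₀ : Scheme.{u}} (f₀ : X₀ ⟶ Y₀) (g₀ : Y₀ ⟶ D.obj i₀)

/-- the comparison iso -/
noncomputable def E {T : Scheme.{u}} (h : T ⟶ D.obj i₀) :
    pullback h (f₀ ≫ g₀) ≅ pullback f₀ (pullback.fst g₀ h) :=
  pullbackSymmetry h (f₀ ≫ g₀) ≪≫ (pullbackRightPullbackFstIso g₀ h f₀).symm

@[reassoc (attr := simp)]
lemma E_hom_fst {T : Scheme.{u}} (h : T ⟶ D.obj i₀) :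
    (E D i₀ f₀ g₀ h).hom ≫ pullback.fst f₀ (pullback.fst g₀ h) = pullback.snd h (f₀ ≫ g₀) := by
  simp [E]

@[reassoc (attr := simp)]
lemma E_hom_snd_fst {T : Scheme.{u}} (h : T ⟶ D.obj i₀) :
    (E D i₀ f₀ g₀ h).hom ≫ pullback.snd f₀ (pullback.fst g₀ h) ≫ pullback.fst g₀ h =
      pullback.snd h (f₀ ≫ g₀) ≫ f₀ := by
  simp [E]

@[reassoc (attr := simp)]
lemma E_hom_snd_snd {T : Scheme.{u}} (h : T ⟶ D.obj i₀) :
    (E D i₀ f₀ g₀ h).hom ≫ pullback.snd f₀ (pullback.fst g₀ h) ≫ pullback.snd g₀ h =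
      pullback.fst h (f₀ ≫ g₀) := by
  simp [E]

lemma isPullback_E {T : Scheme.{u}} (h : T ⟶ D.obj i₀) :
    IsPullback (pullback.snd h (f₀ ≫ g₀))
      ((E D i₀ f₀ g₀ h).hom ≫ pullback.snd f₀ (pullback.fst g₀ h)) f₀ (pullback.fst g₀ h) := by
  refine IsPullback.of_iso_pullback ⟨?_⟩ (E D i₀ f₀ g₀ h) (by simp) rfl
  simp

end Groth.Agent.Lead.SubtrLim

namespace Groth.Agent.Lead.SubtrLim
universe u
open LimPullback

variable {I : Type u} [SmallCategory I] [IsCofiltered I] (D : I ⥤ Scheme.{u}) (c : Cone D)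
  (hc : IsLimit c) (i₀ : I)
  {X₀ Y₀ : Scheme.{u}} (f₀ : X₀ ⟶ Y₀) (g₀ : Y₀ ⟶ D.obj i₀)

/-- the projection from `Y` to the stage `Y_a` -/
noncomputable def pY (a : Over i₀) : pullback g₀ (c.π.app i₀) ⟶ pullback g₀ (D.map a.hom) :=
  pullback.map g₀ (c.π.app i₀) g₀ (D.map a.hom) (𝟙 _) (c.π.app a.left) (𝟙 _) (by simp) (by simp)

set_option backward.isDefEq.respectTransparency false in
lemma hpb (a : Over i₀) :
    IsPullback ((pbCone D c i₀ (f₀ ≫ g₀)).π.app a)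
      ((E D i₀ f₀ g₀ (c.π.app i₀)).hom ≫ pullback.snd f₀ (pullback.fst g₀ (c.π.app i₀)))
      ((E D i₀ f₀ g₀ (D.map a.hom)).hom ≫ pullback.snd f₀ (pullback.fst g₀ (D.map a.hom)))
      (pY D c i₀ g₀ a) := by
  refine IsPullback.of_right ?_ ?_ (isPullback_E D i₀ f₀ g₀ (D.map a.hom))
  · have e1 : (pbCone D c i₀ (f₀ ≫ g₀)).π.app a ≫ pullback.snd (D.map a.hom) (f₀ ≫ g₀) =
        pullback.snd (c.π.app i₀) (f₀ ≫ g₀) := by simp [pbCone]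
    have e2 : pY D c i₀ g₀ a ≫ pullback.fst g₀ (D.map a.hom) = pullback.fst g₀ (c.π.app i₀) := by
      simp [pY]
    rw [e1, e2]
    exact isPullback_E D i₀ f₀ g₀ (c.π.app i₀)
  · apply pullback.hom_ext
    · simp [pY, pbCone]
    · simp [pY, pbCone]

include hc in
theorem main [∀ (i j : I) (a : i ⟶ j), IsAffineHom (D.map a)] [QuasiCompact f₀]
    (h : ∃ (i₁ : I) (ψ : i₁ ⟶ i₀), ∀ (i : I) (φ : i ⟶ i₁),
      Subtr.IsSSubtrusive (pullback.snd f₀ (pullback.fst g₀ (D.map (φ ≫ ψ))))) :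
    Subtr.IsSSubtrusive (pullback.snd f₀ (pullback.fst g₀ (c.π.app i₀))) := by
  have hA : ∀ {i j : I} (f : i ⟶ j), IsAffineHom (D.map f) := fun f ↦ inferInstance
  have hA' : ∀ {j k : Over i₀} (t : j ⟶ k), IsAffineHom ((pbDiag D i₀ (f₀ ≫ g₀)).map t) :=
    fun t ↦ isAffineHom_pbDiag_map i₀ (f₀ ≫ g₀) t
  apply isSSubtrusive_of_iso_comp (E D i₀ f₀ g₀ (c.π.app i₀))
  have hqc : QuasiCompact ((E D i₀ f₀ g₀ (c.π.app i₀)).hom ≫
      pullback.snd f₀ (pullback.fst g₀ (c.π.app i₀))) := inferInstance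
  refine core (pbDiag D i₀ (f₀ ≫ g₀)) (pbCone D c i₀ (f₀ ≫ g₀)) (pbConeIsLimit i₀ (f₀ ≫ g₀) hc)
    ((E D i₀ f₀ g₀ (c.π.app i₀)).hom ≫ pullback.snd f₀ (pullback.fst g₀ (c.π.app i₀)))
    (fun a ↦ pullback g₀ (D.map a.hom))
    (fun a ↦ (E D i₀ f₀ g₀ (D.map a.hom)).hom ≫ pullback.snd f₀ (pullback.fst g₀ (D.map a.hom)))
    (fun a ↦ pY D c i₀ g₀ a) (fun a ↦ hpb D c i₀ f₀ g₀ a) ?_
  intro a
  obtain ⟨i₁, ψ, hψ⟩ := h
  let i' := IsCofiltered.min a.left i₁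
  let u : i' ⟶ a.left := IsCofiltered.minToLeft _ _
  let v : i' ⟶ i₁ := IsCofiltered.minToRight _ _
  let i'' := IsCofiltered.eq (u ≫ a.hom) (v ≫ ψ)
  let w : i'' ⟶ i' := IsCofiltered.eqHom _ _
  have hw : w ≫ u ≫ a.hom = w ≫ v ≫ ψ := IsCofiltered.eq_condition _ _
  refine ⟨Over.mk ((w ≫ v) ≫ ψ), Over.homMk (w ≫ u) (by simp [hw]), ?_⟩
  exact isSSubtrusive_iso_comp _ _ (hψ i'' (w ≫ v))

end Groth.Agent.Lead.SubtrLim
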