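import Mathlib
import Groth.Agent.Lead.HCovFlat

set_option autoImplicit false
universe w u
open CategoryTheory CategoryTheory.Limits AlgebraicGeometry

namespace Groth.Agent.Lead.HCov

open IsLocalRing

/-- a valuation ring realising a specialisation in a scheme over `Spec V` through which
the closed and generic points of `Spec V` lift gives an extension of valuation rings -/
theorem exists_ext_of_specializes {Z : Scheme.{u}} (V : CommRingCat.{u}) [IsDomain V]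
    [ValuationRing V] (q : Z ⟶ Spec V) {w' w : Z} (hw : w' ⤳ w)
    (h1 : q w = closedPoint V) (h2 : q w' = (⊥ : PrimeSpectrum V)) :
    ∃ (W : CommRingCat.{u}) (_ : IsDomain W) (_ : ValuationRing W) (φ : V ⟶ W),
      HTop.IsExtVal V W φ ∧ ∃ ℓ : Spec W ⟶ Z, ℓ ≫ q = Spec.map φ := by
  obtain ⟨W, hW1, hW2, hW3, ℓ, hℓ1, hℓ2⟩ :=
    Groth.Agent.Lead.ValSpec.exists_valuationRing_of_specializes hw
  let φ : V ⟶ CommRingCat.of W := Spec.preimage (ℓ ≫ q)
  have hφ : Spec.map φ = ℓ ≫ q := Spec.map_preimage _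
  refine ⟨CommRingCat.of W, hW2, hW3, φ, ?_, ℓ, hφ.symm⟩
  apply isExtVal_of_points
  · rw [hφ, Scheme.Hom.comp_apply]
    erw [hℓ1]
    exact h1
  · rw [hφ, Scheme.Hom.comp_apply]
    erw [hℓ2]
    exact h2

theorem hasValLift_singleton_iff {X Y : Scheme.{u}} (f : X ⟶ Y) :
    HTop.HasValLift (PreZeroHypercover.singleton.{w} f) ↔
      ∀ (Z : Scheme.{u}) (g : Z ⟶ Y) (z' z : Z), z' ⤳ z →
        ∃ w' w : ↑(pullback g f), w' ⤳ w ∧ pullback.fst g f w' = z' ∧ pullback.fst g f w = z := by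
  constructor
  · intro h Z g z' z hz
    obtain ⟨V, hV1, hV2, hV3, v, hv1, hv2⟩ :=
      Groth.Agent.Lead.ValSpec.exists_valuationRing_of_specializes hz
    obtain ⟨W, hW1, hW2, φ, ⟨hφ1, hφ2⟩, j, ℓ, hℓ⟩ := h (CommRingCat.of V) (v ≫ g)
    let ℓ' : Spec W ⟶ X := ℓ
    have hℓ' : ℓ' ≫ f = Spec.map φ ≫ v ≫ g := hℓ
    let c : Spec W ⟶ pullback g f := pullback.lift (Spec.map φ ≫ v) ℓ'
      ((Category.assoc _ _ _).trans hℓ'.symm)
    have hc : c ≫ pullback.fst g f = Spec.map φ ≫ v := pullback.lift_fst _ _ _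
    refine ⟨c (⊥ : PrimeSpectrum W), c (closedPoint W), ?_, ?_, ?_⟩
    · exact (IsLocalRing.specializes_closedPoint (⊥ : PrimeSpectrum W)).map c.continuous
    · rw [← Scheme.Hom.comp_apply, hc, Scheme.Hom.comp_apply]
      have : Spec.map φ (⊥ : PrimeSpectrum W) = (⊥ : PrimeSpectrum V) := by
        apply PrimeSpectrum.ext
        exact (RingHom.injective_iff_ker_eq_bot _).mp hφ1
      erw [this]
      exact hv2
    · rw [← Scheme.Hom.comp_apply, hc, Scheme.Hom.comp_apply]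
      have : Spec.map φ (closedPoint W) = closedPoint V := by
        haveI := hφ2
        exact comap_closedPoint φ.hom
      erw [this]
      exact hv1
  · intro h V _ _ g
    obtain ⟨w', w, hw, hw'1, hw1⟩ := h (Spec V) g (⊥ : PrimeSpectrum V) (closedPoint V)
      (IsLocalRing.specializes_closedPoint _)
    obtain ⟨W, hW1, hW2, φ, hφ, ℓ, hℓ⟩ :=
      exists_ext_of_specializes V (pullback.fst g f) hw hw1 hw'1
    refine ⟨W, hW1, hW2, φ, hφ, PUnit.unit, ℓ ≫ pullback.snd g f, ?_⟩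
    show (ℓ ≫ pullback.snd g f) ≫ f = _
    rw [Category.assoc, ← pullback.condition, ← Category.assoc, hℓ]

theorem hasValLift_of_isVCover {T : Scheme.{u}} (E : PreZeroHypercover.{w} T)
    (hE : HTop.IsVCover E) : HTop.HasValLift E := by
  intro V _ _ g
  obtain ⟨U, hU, hxU, -⟩ :=
    exists_isAffineOpen_mem_and_subset (x := g (closedPoint V)) (U := ⊤) trivial
  have hrange : Set.range g ⊆ Set.range U.ι := by
    rw [Scheme.Opens.range_ι]
    exact range_subset_of_closedPoint_mem V g U U.2 hxU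
  let gU : Spec V ⟶ U := IsOpenImmersion.lift U.ι g hrange
  have hgU : gU ≫ U.ι = g := IsOpenImmersion.lift_fac _ _ _
  obtain ⟨F, hF, hr⟩ := hE ⟨U, hU⟩
  obtain ⟨W, hW1, hW2, φ, hφ, k, g', hg'⟩ := hF.lift V gU
  obtain ⟨i, h, hh⟩ := hr k
  refine ⟨W, hW1, hW2, φ, hφ, i, g' ≫ h, ?_⟩
  rw [Category.assoc, hh, ← Category.assoc, hg', Category.assoc, hgU]

/-- the valuation lifting property restricts to opens of the target -/
theorem hasValLift_restrict {X Y : Scheme.{u}} (f : X ⟶ Y)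
    (h : HTop.HasValLift (PreZeroHypercover.singleton.{w} f)) (U : Y.Opens) :
    HTop.HasValLift (PreZeroHypercover.singleton.{w} (f ∣_ U)) := by
  intro V _ _ g
  obtain ⟨W, hW1, hW2, φ, hφ, j, ℓ, hℓ⟩ := h V (g ≫ U.ι)
  let ℓ' : Spec W ⟶ X := ℓ
  have hℓ' : ℓ' ≫ f = Spec.map φ ≫ g ≫ U.ι := hℓ
  have hrange : Set.range ℓ' ⊆ Set.range (f ⁻¹ᵁ U).ι := by
    rw [Scheme.Opens.range_ι]
    rintro _ ⟨p, rfl⟩
    show f (ℓ' p) ∈ U
    rw [← Scheme.Hom.comp_apply, hℓ', Scheme.Hom.comp_apply, Scheme.Hom.comp_apply]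
    exact (g (Spec.map φ p)).2
  let m : Spec W ⟶ (f ⁻¹ᵁ U : X.Opens) := IsOpenImmersion.lift (f ⁻¹ᵁ U).ι ℓ' hrange
  have hm : m ≫ (f ⁻¹ᵁ U).ι = ℓ' := IsOpenImmersion.lift_fac _ _ _
  refine ⟨W, hW1, hW2, φ, hφ, PUnit.unit, m, ?_⟩
  show m ≫ (f ∣_ U) = Spec.map φ ≫ g
  rw [← cancel_mono U.ι, Category.assoc, morphismRestrict_ι, ← Category.assoc, hm, hℓ',
    Category.assoc]

/-- over an affine base, a quasi-compact morphism with the valuation lifting property is refined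
by a standard V covering -/
theorem exists_isStandardV_of_hasValLift {T Z : Scheme.{u}} [IsAffine T] [CompactSpace Z]
    (p : Z ⟶ T) (h : HTop.HasValLift (PreZeroHypercover.singleton.{w} p)) :
    ∃ F : PreZeroHypercover.{0} T, HTop.IsStandardV F ∧
      ∀ k : F.I₀, ∃ h' : F.X k ⟶ Z, h' ≫ p = F.f k := by
  let 𝒰 : Z.OpenCover := Z.affineCover.finiteSubcover
  haveI : Finite 𝒰.I₀ := Finite.of_fintype _
  let n := Nat.card 𝒰.I₀
  let e : Fin n ≃ 𝒰.I₀ := (Finite.equivFin 𝒰.I₀).symm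
  refine ⟨{ I₀ := Fin n, X := fun k => 𝒰.X (e k), f := fun k => 𝒰.f (e k) ≫ p }, ?_, ?_⟩
  · refine ⟨inferInstance, inferInstanceAs (Finite (Fin n)), ?_, ?_⟩
    · intro k
      exact inferInstanceAs (IsAffine (Z.affineCover.X _))
    · intro V _ _ g
      obtain ⟨W, hW1, hW2, φ, hφ, j, ℓ, hℓ⟩ := h V g
      let ℓ' : Spec W ⟶ Z := ℓ
      have hℓ' : ℓ' ≫ p = Spec.map φ ≫ g := hℓ
      obtain ⟨i, y, hy⟩ := 𝒰.exists_eq (ℓ' (closedPoint W))
      obtain ⟨k, rfl⟩ := e.surjective i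
      have hrange : Set.range ℓ' ⊆ Set.range (𝒰.f (e k)) :=
        range_subset_of_closedPoint_mem W ℓ' _ (𝒰.f (e k)).isOpenEmbedding.isOpen_range ⟨y, hy⟩
      refine ⟨W, hW1, hW2, φ, hφ, k, IsOpenImmersion.lift (𝒰.f (e k)) ℓ' hrange, ?_⟩
      show _ ≫ (𝒰.f (e k) ≫ p) = _
      rw [← Category.assoc, IsOpenImmersion.lift_fac, hℓ']
  · intro k
    exact ⟨𝒰.f (e k), rfl⟩

theorem isVCover_singleton_of_hasValLift {X Y : Scheme.{u}} (f : X ⟶ Y) [QuasiCompact f]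
    (h : HTop.HasValLift (PreZeroHypercover.singleton.{w} f)) :
    HTop.IsVCover (PreZeroHypercover.singleton.{w} f) := by
  intro U
  haveI : IsAffine ((U : Y.Opens) : Scheme.{u}) := U.2
  haveI : CompactSpace ((f ⁻¹ᵁ U.1 : X.Opens) : Scheme.{u}) :=
    isCompact_iff_compactSpace.mp (QuasiCompact.isCompact_preimage (f := f) _ U.1.2 U.2.isCompact)
  obtain ⟨F, hF, hh⟩ := exists_isStandardV_of_hasValLift (f ∣_ U.1) (hasValLift_restrict f h U.1)
  refine ⟨F, hF, fun k => ?_⟩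
  obtain ⟨h', hk⟩ := hh k
  refine ⟨PUnit.unit, h' ≫ (f ⁻¹ᵁ U.1).ι, ?_⟩
  show (h' ≫ (f ⁻¹ᵁ U.1).ι) ≫ f = F.f k ≫ U.1.ι
  rw [Category.assoc, ← morphismRestrict_ι, ← Category.assoc, hk]

end Groth.Agent.Lead.HCov
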