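import Mathlib

set_option autoImplicit false
universe u
open CategoryTheory CategoryTheory.Limits AlgebraicGeometry

namespace Groth.Agent.Lead.QuotSL

/-- image of a closed set under a quasi-compact morphism is closed as soon as it is stable under
specialization -/
theorem isClosed_image_of_stableUnderSpecialization {X Y : Scheme.{u}} (f : X ⟶ Y) [QuasiCompact f]
    (Z : Set X) (hZ : IsClosed Z) (H : StableUnderSpecialization (f '' Z)) :
    IsClosed (f '' Z) := by
  wlog hY : ∃ R, Y = Spec R generalizing X Y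
  · let 𝒰 := Y.affineCover
    rw [← isOpen_compl_iff, 𝒰.isOpenCover_opensRange.isOpen_iff_inter]
    intro i
    rw [Scheme.Hom.coe_opensRange, ← Set.image_preimage_eq_inter_range]
    apply (𝒰.f i).isOpenEmbedding.isOpenMap
    rw [Set.preimage_compl, isOpen_compl_iff]
    have key : (𝒰.f i) ⁻¹' (f '' Z) =
        (pullback.fst (𝒰.f i) f) '' ((pullback.snd (𝒰.f i) f) ⁻¹' Z) := by
      ext y
      constructor
      · rintro ⟨x, hx, hxy⟩
        obtain ⟨z, hz1, hz2⟩ := Scheme.Pullback.exists_preimage_pullback (f := 𝒰.f i) (g := f)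
          y x hxy.symm
        exact ⟨z, by simpa [hz2] using hx, hz1⟩
      · rintro ⟨z, hz, rfl⟩
        refine ⟨pullback.snd (𝒰.f i) f z, hz, ?_⟩
        rw [← Scheme.Hom.comp_apply, ← pullback.condition, Scheme.Hom.comp_apply]
    rw [key]
    refine this (pullback.fst (𝒰.f i) f) _ (hZ.preimage (Scheme.Hom.continuous _)) ?_ ⟨_, rfl⟩
    rw [← key]
    exact H.preimage (𝒰.f i).continuous
  obtain ⟨S, rfl⟩ := hY
  wlog hX : ∃ R, X = Spec R generalizing X
  · obtain ⟨R, g, hg⟩ := compactSpace_iff_exists.mp (QuasiCompact.compactSpace_of_compactSpace f)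
    have inst : QuasiCompact (g ≫ f) := HasAffineProperty.iff_of_isAffine.mpr (by infer_instance)
    have := this (g ⁻¹' Z) (hZ.preimage g.continuous) (g ≫ f)
    simp_rw [Scheme.Hom.comp_base, TopCat.comp_app, ← Set.image_image,
      Set.image_preimage_eq _ hg] at this
    exact this H ⟨_, rfl⟩
  obtain ⟨R, rfl⟩ := hX
  obtain ⟨φ, rfl⟩ := Spec.homEquiv.symm.surjective f
  exact PrimeSpectrum.isClosed_image_of_stableUnderSpecialization φ.hom Z hZ H

/-- a quasi-compact morphism along which specializations lift (weakly) is a quotient map. -/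
theorem isQuotientMap_of_specializations_lift {X Y : Scheme.{u}} (f : X ⟶ Y) [QuasiCompact f]
    (H : ∀ y' y : Y, y' ⤳ y → ∃ x' x : X, x' ⤳ x ∧ f x' = y' ∧ f x = y) :
    Topology.IsQuotientMap f := by
  have hsurj : Function.Surjective f := by
    intro y
    obtain ⟨x', x, -, -, hx⟩ := H y y specializes_rfl
    exact ⟨x, hx⟩
  rw [Topology.isQuotientMap_iff_isClosed]
  refine ⟨hsurj, fun s => ⟨fun hs => hs.preimage f.continuous, fun hs => ?_⟩⟩
  rw [← Set.image_preimage_eq s hsurj]
  refine isClosed_image_of_stableUnderSpecialization f _ hs ?_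
  rw [Set.image_preimage_eq s hsurj]
  intro y' y hy hy'
  obtain ⟨x', x, hx, hx', hxy⟩ := H y' y hy
  have h1 : x' ∈ f ⁻¹' s := by show f x' ∈ s; rw [hx']; exact hy'
  have h2 : x ∈ f ⁻¹' s := hs.stableUnderSpecialization hx h1
  rw [← hxy]; exact h2

end Groth.Agent.Lead.QuotSL
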