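import Mathlib

/-! Localization of a fibre product of rings at an element. -/

namespace Groth.Agent.Lead.FibreLoc

theorem inj {R B A' : Type*} [CommRing R] [CommRing B] [CommRing A']
    (π₁ : R →+* B) (π₂ : R →+* A')
    (r : R)
    {R' B' A'' : Type*} [CommRing R'] [CommRing B'] [CommRing A'']
    [Algebra R R'] [Algebra B B'] [Algebra A' A'']
    [IsLocalization.Away r R'] [IsLocalization.Away (π₁ r) B'] [IsLocalization.Away (π₂ r) A'']
    (π₁' : R' →+* B') (π₂' : R' →+* A'')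
    (h₁ : ∀ x, π₁' (algebraMap R R' x) = algebraMap B B' (π₁ x))
    (h₂ : ∀ x, π₂' (algebraMap R R' x) = algebraMap A' A'' (π₂ x))
    (Rinj : ∀ x y, π₁ x = π₁ y → π₂ x = π₂ y → x = y) (s t : R')
    (e₁ : π₁' s = π₁' t) (e₂ : π₂' s = π₂' t) : s = t := by
  suffices H : ∀ s : R', π₁' s = 0 → π₂' s = 0 → s = 0 by
    have := H (s - t) (by rw [map_sub, e₁, sub_self]) (by rw [map_sub, e₂, sub_self])
    exact sub_eq_zero.mp this
  intro s e₁ e₂
  obtain ⟨n, x, hx⟩ := IsLocalization.Away.surj r s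
  have hu : IsUnit (algebraMap R R' r) := IsLocalization.Away.algebraMap_isUnit r
  have hB : algebraMap B B' (π₁ x) = algebraMap B B' 0 := by
    rw [← h₁, ← hx, map_mul, e₁, zero_mul, map_zero]
  have hA : algebraMap A' A'' (π₂ x) = algebraMap A' A'' 0 := by
    rw [← h₂, ← hx, map_mul, e₂, zero_mul, map_zero]
  obtain ⟨m, hm⟩ := IsLocalization.Away.exists_of_eq (π₁ r) hB
  obtain ⟨m', hm'⟩ := IsLocalization.Away.exists_of_eq (π₂ r) hA
  have hz : r ^ (m + m') * x = 0 := by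
    apply Rinj
    · rw [map_mul, map_pow, map_zero, pow_add, mul_assoc, mul_comm _ (π₁ x), ← mul_assoc, hm]
      ring
    · rw [map_mul, map_pow, map_zero, pow_add, mul_assoc, hm']
      ring
  have hz' : algebraMap R R' r ^ (m + m') * algebraMap R R' x = 0 := by
    rw [← map_pow, ← map_mul, hz, map_zero]
  have hx0 : algebraMap R R' x = 0 := by
    rcases (hu.pow (m + m')) with ⟨v, hv⟩
    rw [← hv] at hz'
    exact (Units.mul_right_eq_zero v).mp hz'
  rw [hx0] at hx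
  rcases (hu.pow n) with ⟨v, hv⟩
  rw [← hv] at hx
  exact (Units.mul_left_eq_zero v).mp hx

theorem surj {R B A' A : Type*} [CommRing R] [CommRing B] [CommRing A'] [CommRing A]
    (π₁ : R →+* B) (π₂ : R →+* A') (q : B →+* A) (p : A' →+* A)
    (comm : ∀ x, q (π₁ x) = p (π₂ x))
    (r : R)
    {R' B' A'' A''' : Type*} [CommRing R'] [CommRing B'] [CommRing A''] [CommRing A''']
    [Algebra R R'] [Algebra B B'] [Algebra A' A''] [Algebra A A''']
    [IsLocalization.Away r R'] [IsLocalization.Away (π₁ r) B'] [IsLocalization.Away (π₂ r) A'']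
    [IsLocalization.Away (p (π₂ r)) A''']
    (π₁' : R' →+* B') (π₂' : R' →+* A'') (q' : B' →+* A''') (p' : A'' →+* A''')
    (h₁ : ∀ x, π₁' (algebraMap R R' x) = algebraMap B B' (π₁ x))
    (h₂ : ∀ x, π₂' (algebraMap R R' x) = algebraMap A' A'' (π₂ x))
    (hq : ∀ x, q' (algebraMap B B' x) = algebraMap A A''' (q x))
    (hp : ∀ x, p' (algebraMap A' A'' x) = algebraMap A A''' (p x))
    (Rsurj : ∀ b a', q b = p a' → ∃ x, π₁ x = b ∧ π₂ x = a') (sB : B') (sA : A'')
    (e : q' sB = p' sA) : ∃ s : R', π₁' s = sB ∧ π₂' s = sA := by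
  obtain ⟨n, β, hβ⟩ := IsLocalization.Away.surj (π₁ r) sB
  obtain ⟨n', α, hα⟩ := IsLocalization.Away.surj (π₂ r) sA
  -- common exponent N = n + n'
  have hβ₁ : sB * algebraMap B B' (π₁ r) ^ (n + n') = algebraMap B B' (β * π₁ r ^ n') := by
    rw [pow_add, ← mul_assoc, hβ, map_mul, map_pow]
  have hα₁ : sA * algebraMap A' A'' (π₂ r) ^ (n + n') = algebraMap A' A'' (α * π₂ r ^ n) := by
    rw [pow_add, mul_comm (algebraMap A' A'' (π₂ r) ^ n), ← mul_assoc, hα, map_mul, map_pow]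
  have hA : algebraMap A A''' (q (β * π₁ r ^ n')) = algebraMap A A''' (p (α * π₂ r ^ n)) := by
    rw [← hq, ← hp, ← hβ₁, ← hα₁, map_mul, map_mul, map_pow, map_pow, hq, hp, e, comm]
  obtain ⟨k, hk⟩ := IsLocalization.Away.exists_of_eq (p (π₂ r)) hA
  obtain ⟨x, hx₁, hx₂⟩ := Rsurj (π₁ r ^ k * (β * π₁ r ^ n')) (π₂ r ^ k * (α * π₂ r ^ n)) (by
    calc q (π₁ r ^ k * (β * π₁ r ^ n')) = p (π₂ r) ^ k * q (β * π₁ r ^ n') := by
          rw [map_mul, map_pow, comm]
      _ = p (π₂ r) ^ k * p (α * π₂ r ^ n) := hk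
      _ = p (π₂ r ^ k * (α * π₂ r ^ n)) := by simp only [map_mul, map_pow])
  have hu : IsUnit (algebraMap R R' r) := IsLocalization.Away.algebraMap_isUnit r
  obtain ⟨v, hv⟩ := hu.pow (n + n' + k)
  refine ⟨algebraMap R R' x * ↑v⁻¹, ?_, ?_⟩
  · have huB : IsUnit (algebraMap B B' (π₁ r) ^ (n + n' + k)) :=
      (IsLocalization.Away.algebraMap_isUnit (π₁ r)).pow _
    apply huB.mul_left_injective
    show π₁' (algebraMap R R' x * ↑v⁻¹) * algebraMap B B' (π₁ r) ^ (n + n' + k) =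
      sB * algebraMap B B' (π₁ r) ^ (n + n' + k)
    have e1 : algebraMap B B' (π₁ r) ^ (n + n' + k) = π₁' (v : R') := by
      rw [hv, map_pow, h₁]
    have key : π₁' (algebraMap R R' x * ↑v⁻¹) * π₁' (v : R') = algebraMap B B' (π₁ x) := by
      rw [← map_mul, mul_assoc, Units.inv_mul, mul_one, h₁]
    calc π₁' (algebraMap R R' x * ↑v⁻¹) * algebraMap B B' (π₁ r) ^ (n + n' + k)
        = π₁' (algebraMap R R' x * ↑v⁻¹) * π₁' (v : R') := by rw [e1]
      _ = algebraMap B B' (π₁ x) := key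
      _ = algebraMap B B' (π₁ r ^ k * (β * π₁ r ^ n')) := by rw [hx₁]
      _ = algebraMap B B' (π₁ r) ^ k * algebraMap B B' (β * π₁ r ^ n') := by
          rw [map_mul, map_pow]
      _ = algebraMap B B' (π₁ r) ^ k * (sB * algebraMap B B' (π₁ r) ^ (n + n')) := by rw [hβ₁]
      _ = sB * algebraMap B B' (π₁ r) ^ (n + n' + k) := by ring
  · have huA : IsUnit (algebraMap A' A'' (π₂ r) ^ (n + n' + k)) :=
      (IsLocalization.Away.algebraMap_isUnit (π₂ r)).pow _
    apply huA.mul_left_injective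
    show π₂' (algebraMap R R' x * ↑v⁻¹) * algebraMap A' A'' (π₂ r) ^ (n + n' + k) =
      sA * algebraMap A' A'' (π₂ r) ^ (n + n' + k)
    have e1 : algebraMap A' A'' (π₂ r) ^ (n + n' + k) = π₂' (v : R') := by
      rw [hv, map_pow, h₂]
    have key : π₂' (algebraMap R R' x * ↑v⁻¹) * π₂' (v : R') = algebraMap A' A'' (π₂ x) := by
      rw [← map_mul, mul_assoc, Units.inv_mul, mul_one, h₂]
    calc π₂' (algebraMap R R' x * ↑v⁻¹) * algebraMap A' A'' (π₂ r) ^ (n + n' + k)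
        = π₂' (algebraMap R R' x * ↑v⁻¹) * π₂' (v : R') := by rw [e1]
      _ = algebraMap A' A'' (π₂ x) := key
      _ = algebraMap A' A'' (π₂ r ^ k * (α * π₂ r ^ n)) := by rw [hx₂]
      _ = algebraMap A' A'' (π₂ r) ^ k * algebraMap A' A'' (α * π₂ r ^ n) := by
          rw [map_mul, map_pow]
      _ = algebraMap A' A'' (π₂ r) ^ k * (sA * algebraMap A' A'' (π₂ r) ^ (n + n')) := by rw [hα₁]
      _ = sA * algebraMap A' A'' (π₂ r) ^ (n + n' + k) := by ring

end Groth.Agent.Lead.FibreLoc
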