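import Groth.Agent.Lead.SchPushoutE
import Mathlib

/-! Pushouts of schemes, part F: Spec of a fibre product of rings is a pushout of schemes. -/

set_option autoImplicit false
open CategoryTheory AlgebraicGeometry TopologicalSpace Opposite Limits
universe u

namespace Groth.Agent.Lead.SchPushout

section SpecSquare
variable {R B A' A : CommRingCat.{u}} (π₁ : R ⟶ B) (π₂ : R ⟶ A') (q : B ⟶ A) (p : A' ⟶ A)
  (comm : π₁ ≫ q = π₂ ≫ p)
  (Rinj : ∀ x y : R, π₁ x = π₁ y → π₂ x = π₂ y → x = y)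
  (Rsurj : ∀ (b : B) (a' : A'), q b = p a' → ∃ x : R, π₁ x = b ∧ π₂ x = a')
  (hp : Function.Surjective p)

include comm Rinj Rsurj hp in
theorem spec_top :
    (∀ (T : Type u) [TopologicalSpace T] (f : Spec A' → T) (g : Spec B → T), Continuous f →
      Continuous g → (∀ z, f (Spec.map p z) = g (Spec.map q z)) →
      ∃ h : Spec R → T, Continuous h ∧ (∀ x, h (Spec.map π₂ x) = f x) ∧
        (∀ y, h (Spec.map π₁ y) = g y)) ∧
    (∀ x : Spec R, (∃ y, Spec.map π₂ y = x) ∨ (∃ y, Spec.map π₁ y = x)) := by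
  have cx := comm_apply π₁ π₂ q p comm
  letI : Algebra R B := π₁.hom.toAlgebra
  letI : Algebra R A' := π₂.hom.toAlgebra
  letI : Algebra B A := q.hom.toAlgebra
  letI : Algebra A' A := p.hom.toAlgebra
  letI : Algebra R A := (q.hom.comp π₁.hom).toAlgebra
  haveI : IsScalarTower R B A := IsScalarTower.of_algebraMap_eq (fun x => rfl)
  haveI : IsScalarTower R A' A := IsScalarTower.of_algebraMap_eq (fun x => cx x)
  have hsq : EtMil.IsFibreSquare R B A' A := by
    refine ⟨hp, fun b a' h => ?_⟩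
    obtain ⟨x, hx1, hx2⟩ := Rsurj b a' h
    exact ⟨x, ⟨hx1, hx2⟩, fun y hy => Rinj _ _ (hy.1.trans hx1.symm) (hy.2.trans hx2.symm)⟩
  constructor
  · intro T _ f g hf hg hfg
    obtain ⟨d, hd, hd1, hd2⟩ := Groth.Agent.Helper2.SpecPushout.exists_desc
      (X := PrimeSpectrum B) (Y := PrimeSpectrum A') (Z := PrimeSpectrum A)
      (P := PrimeSpectrum R)
      (PrimeSpectrum.comap (algebraMap B A)) (PrimeSpectrum.comap (algebraMap A' A))
      (PrimeSpectrum.comap (algebraMap R B)) (PrimeSpectrum.comap (algebraMap R A'))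
      (fun x => Groth.Agent.Helper2.SpecPushout.cond_a hsq x)
      (PrimeSpectrum.comap_injective_of_surjective _ (Groth.Agent.Helper7.EtMilH.surjB hsq))
      (fun y₁ y₂ h => Groth.Agent.Helper2.SpecPushout.cond_c hsq y₁ y₂ h)
      (fun x y h => Groth.Agent.Helper2.SpecPushout.cond_d hsq x y h)
      (fun S h1 h2 => Groth.Agent.Helper2.SpecPushout.cond_e hsq S h1 h2)
      g f hg hf (fun z => (hfg z).symm)
    exact ⟨d, hd, hd2, hd1⟩
  · intro x
    rcases Groth.Agent.Helper2.SpecPushout.cond_a hsq x with ⟨y, hy⟩ | ⟨y, hy⟩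
    · exact Or.inr ⟨y, hy⟩
    · exact Or.inl ⟨y, hy⟩

include comm Rinj Rsurj hp in
theorem spec_isPushout :
    IsPushout (Spec.map p) (Spec.map q) (Spec.map π₂) (Spec.map π₁) := by
  obtain ⟨hT, hS⟩ := spec_top π₁ π₂ q p comm Rinj Rsurj hp
  refine isPushout (Spec.map p) (Spec.map q) (Spec.map π₂) (Spec.map π₁)
    (spec_w π₁ π₂ q p comm) hT hS
    (Set.range fun r : R => (PrimeSpectrum.basicOpen r : (Spec R).Opens))
    PrimeSpectrum.isBasis_basic_opens ?_
  rintro _ ⟨r, rfl⟩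
  exact spec_AT π₁ π₂ q p comm Rinj Rsurj r

end SpecSquare

end Groth.Agent.Lead.SchPushout
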