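import Mathlib
import Groth.Prelude.Def_W4c2gaugesfzipsQuiet

set_option autoImplicit false
set_option linter.style.haveILetI false
universe u
open Polynomial TensorProduct

namespace Groth.Agent.Lead.QuietBC

open Quiet

theorem isRootTower_of_algEquiv (p : ℕ) : ∀ (n : ℕ) (A B B' : Type u) [CommRing A] [CommRing B]
    [CommRing B'] [Algebra A B] [Algebra A B'] (_ : B ≃ₐ[A] B'),
    IsRootTower p n A B → IsRootTower p n A B'
  | 0, A, B, B', _, _, _, _, _, e, h => by
      obtain ⟨e0⟩ := h
      exact ⟨e.symm.trans e0⟩
  | n + 1, A, B, B', _, _, _, _, _, e, h => by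
      obtain ⟨a, inst, tower, hB⟩ := h
      letI := inst
      letI : Algebra (RootRing p A a) B' :=
        (e.toRingEquiv.toRingHom.comp (algebraMap (RootRing p A a) B)).toAlgebra
      haveI : IsScalarTower A (RootRing p A a) B' := IsScalarTower.of_algebraMap_eq (fun x => by
        change algebraMap A B' x = e (algebraMap _ B (algebraMap A _ x))
        rw [← IsScalarTower.algebraMap_apply A _ B, e.commutes])
      let e' : B ≃ₐ[RootRing p A a] B' := { e.toRingEquiv with commutes' := fun r => rfl }
      exact ⟨a, inferInstance, inferInstance, isRootTower_of_algEquiv p n _ B B' e' hB⟩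

end Groth.Agent.Lead.QuietBC
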