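import Mathlib
import Groth.Prelude.Def_W4c2gaugesfzipsQuiet
import Groth.Agent.Lead.QuietA

set_option autoImplicit false
set_option linter.style.haveILetI false
universe u
open Polynomial TensorProduct

namespace Groth.Agent.Lead.QuietBC

open Quiet

section step

variable (p : ℕ) {A : Type u} [CommRing A] (a : A) (A' : Type u) [CommRing A'] [Algebra A A']

/-- the comparison map `A[x]/(x^p - a) → A'[x]/(x^p - a')` -/
noncomputable def theta : RootRing p A a →+* RootRing p A' (algebraMap A A' a) :=
  AdjoinRoot.lift ((AdjoinRoot.of _).comp (algebraMap A A')) (AdjoinRoot.root _) (by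
    have := AdjoinRoot.eval₂_root (X ^ p - C (algebraMap A A' a) : A'[X])
    simp only [eval₂_sub, eval₂_pow, eval₂_X, eval₂_C] at this
    simp only [eval₂_sub, eval₂_pow, eval₂_X, eval₂_C, RingHom.comp_apply]
    exact this)

@[simp] theorem theta_of (x : A) :
    theta p a A' (AdjoinRoot.of _ x) = AdjoinRoot.of _ (algebraMap A A' x) := by
  simp [theta]

@[simp] theorem theta_root : theta p a A' (AdjoinRoot.root _) = AdjoinRoot.root _ := by
  simp [theta]

variable (B : Type u) [CommRing B] [Algebra A B] [Algebra (RootRing p A a) B]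
  [IsScalarTower A (RootRing p A a) B]

/-- the structure map `A'[x]/(x^p - a') → A' ⊗ B` -/
noncomputable def phi : RootRing p A' (algebraMap A A' a) →+* A' ⊗[A] B :=
  AdjoinRoot.lift (algebraMap A' (A' ⊗[A] B))
    ((1 : A') ⊗ₜ[A] algebraMap (RootRing p A a) B (AdjoinRoot.root _)) (by
    simp only [eval₂_sub, eval₂_pow, eval₂_X, eval₂_C]
    rw [Algebra.TensorProduct.tmul_pow, one_pow, ← map_pow]
    have h1 : (AdjoinRoot.root (X ^ p - C a : A[X])) ^ p = AdjoinRoot.of _ a := by
      have := AdjoinRoot.eval₂_root (X ^ p - C a : A[X])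
      simp only [eval₂_sub, eval₂_pow, eval₂_X, eval₂_C] at this
      exact sub_eq_zero.mp this
    rw [h1]
    have h2 : algebraMap (RootRing p A a) B (AdjoinRoot.of _ a) = algebraMap A B a :=
      (IsScalarTower.algebraMap_apply A (RootRing p A a) B a).symm
    rw [h2, Algebra.TensorProduct.algebraMap_apply, Algebra.algebraMap_eq_smul_one a,
      TensorProduct.tmul_smul, TensorProduct.smul_tmul', ← Algebra.algebraMap_eq_smul_one]
    simp)

@[simp] theorem phi_of (x : A') :
    phi p a A' B (AdjoinRoot.of _ x) = x ⊗ₜ[A] (1 : B) := by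
  simp [phi, Algebra.TensorProduct.algebraMap_apply]

@[simp] theorem phi_root : phi p a A' B (AdjoinRoot.root _) =
    (1 : A') ⊗ₜ[A] algebraMap (RootRing p A a) B (AdjoinRoot.root _) := by
  simp [phi]

/-- key compatibility -/
theorem phi_theta (r : RootRing p A a) :
    phi p a A' B (theta p a A' r) = (1 : A') ⊗ₜ[A] algebraMap (RootRing p A a) B r := by
  let h1 : RootRing p A a →ₐ[A] A' ⊗[A] B :=
    { toRingHom := (phi p a A' B).comp (theta p a A')
      commutes' := fun x => by
        change phi p a A' B (theta p a A' (AdjoinRoot.of _ x)) = _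
        rw [theta_of, phi_of, Algebra.TensorProduct.algebraMap_apply] }
  let h2 : RootRing p A a →ₐ[A] A' ⊗[A] B :=
    { toRingHom := (Algebra.TensorProduct.includeRight : B →ₐ[A] A' ⊗[A] B).toRingHom.comp
        (algebraMap (RootRing p A a) B)
      commutes' := fun x => by
        change (1 : A') ⊗ₜ[A] algebraMap (RootRing p A a) B (AdjoinRoot.of _ x) = _
        have h0 : algebraMap (RootRing p A a) B (AdjoinRoot.of _ x) = algebraMap A B x :=
          (IsScalarTower.algebraMap_apply A (RootRing p A a) B x).symm
        rw [h0,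
          Algebra.TensorProduct.algebraMap_apply, Algebra.algebraMap_eq_smul_one x,
          TensorProduct.tmul_smul, TensorProduct.smul_tmul', ← Algebra.algebraMap_eq_smul_one] }
  have : h1 = h2 := AdjoinRoot.algHom_ext (by
    change phi p a A' B (theta p a A' (AdjoinRoot.root _)) =
      (1 : A') ⊗ₜ[A] algebraMap (RootRing p A a) B (AdjoinRoot.root _)
    rw [theta_root, phi_root])
  exact congrArg (fun h : RootRing p A a →ₐ[A] A' ⊗[A] B => h r) this

end step

end Groth.Agent.Lead.QuietBC
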