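import Mathlib
import Groth.Prelude.Def_W4c2gaugesfzipsQuiet
import Groth.Agent.Lead.QuietB

set_option autoImplicit false
set_option linter.style.haveILetI false
universe u
open Polynomial TensorProduct

namespace Groth.Agent.Lead.QuietBC

open Quiet

section step

variable (p : ℕ) {A : Type u} [CommRing A] (a : A) (A' : Type u) [CommRing A'] [Algebra A A']
variable (B : Type u) [CommRing B] [Algebra A B] [Algebra (RootRing p A a) B]
  [IsScalarTower A (RootRing p A a) B]

theorem step (n : ℕ)
    (ih : letI := (theta p a A').toAlgebra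
      IsRootTower p n (RootRing p A' (algebraMap A A' a))
        (RootRing p A' (algebraMap A A' a) ⊗[RootRing p A a] B)) :
    IsRootTower p (n + 1) A' (A' ⊗[A] B) := by
  letI algRR' : Algebra (RootRing p A a) (RootRing p A' (algebraMap A A' a)) :=
    (theta p a A').toAlgebra
  letI algR'T : Algebra (RootRing p A' (algebraMap A A' a)) (A' ⊗[A] B) := (phi p a A' B).toAlgebra
  letI algRT : Algebra (RootRing p A a) (A' ⊗[A] B) :=
    ((phi p a A' B).comp (theta p a A')).toAlgebra
  haveI : IsScalarTower (RootRing p A a) (RootRing p A' (algebraMap A A' a)) (A' ⊗[A] B) :=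
    IsScalarTower.of_algebraMap_eq (fun _ => rfl)
  haveI towerA' : IsScalarTower A' (RootRing p A' (algebraMap A A' a)) (A' ⊗[A] B) :=
    IsScalarTower.of_algebraMap_eq (fun x => by
      change algebraMap A' (A' ⊗[A] B) x = phi p a A' B (AdjoinRoot.of _ x)
      rw [phi_of, Algebra.TensorProduct.algebraMap_apply]; simp)
  -- the forward map
  let g : B →ₐ[RootRing p A a] A' ⊗[A] B :=
    { toRingHom := (Algebra.TensorProduct.includeRight : B →ₐ[A] A' ⊗[A] B).toRingHom
      commutes' := fun r => (phi_theta p a A' B r).symm }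
  let F : RootRing p A' (algebraMap A A' a) ⊗[RootRing p A a] B →ₐ[RootRing p A' (algebraMap A A' a)]
      A' ⊗[A] B :=
    Algebra.TensorProduct.lift (Algebra.ofId _ _) g (fun _ _ => Commute.all _ _)
  have hF : ∀ (r' : RootRing p A' (algebraMap A A' a)) (b : B),
      F (r' ⊗ₜ b) = phi p a A' B r' * ((1 : A') ⊗ₜ[A] b) := fun r' b => by
    simp only [F, Algebra.TensorProduct.lift_tmul]
    rfl
  -- the backward map
  let g' : B →ₐ[A] RootRing p A' (algebraMap A A' a) ⊗[RootRing p A a] B :=
    { toRingHom := (Algebra.TensorProduct.includeRight :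
        B →ₐ[RootRing p A a] RootRing p A' (algebraMap A A' a) ⊗[RootRing p A a] B).toRingHom
      commutes' := fun x => by
        change (1 : RootRing p A' (algebraMap A A' a)) ⊗ₜ[RootRing p A a] algebraMap A B x = _
        rw [Algebra.TensorProduct.algebraMap_apply,
          IsScalarTower.algebraMap_apply A (RootRing p A a) B x,
          Algebra.algebraMap_eq_smul_one (algebraMap A (RootRing p A a) x),
          TensorProduct.tmul_smul, TensorProduct.smul_tmul', Algebra.smul_def, mul_one]
        congr 1
        exact theta_of p a A' x }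
  let G : A' ⊗[A] B →ₐ[A'] RootRing p A' (algebraMap A A' a) ⊗[RootRing p A a] B :=
    Algebra.TensorProduct.lift (Algebra.ofId _ _) g' (fun _ _ => Commute.all _ _)
  have hG : ∀ (x : A') (b : B), G (x ⊗ₜ b) = (AdjoinRoot.of _ x) ⊗ₜ[RootRing p A a] b := fun x b => by
    simp only [G, Algebra.TensorProduct.lift_tmul]
    change ((AdjoinRoot.of _ x) ⊗ₜ[RootRing p A a] (1 : B)) *
      ((1 : RootRing p A' (algebraMap A A' a)) ⊗ₜ[RootRing p A a] b) = _
    rw [Algebra.TensorProduct.tmul_mul_tmul, mul_one, one_mul]
  -- G ∘ phi = includeLeft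
  have hGphi : ∀ r' : RootRing p A' (algebraMap A A' a),
      G (phi p a A' B r') = r' ⊗ₜ[RootRing p A a] (1 : B) := by
    intro r'
    let k1 : RootRing p A' (algebraMap A A' a) →ₐ[A']
        RootRing p A' (algebraMap A A' a) ⊗[RootRing p A a] B :=
      { toRingHom := G.toRingHom.comp (phi p a A' B)
        commutes' := fun x => by
          change G (phi p a A' B (AdjoinRoot.of _ x)) = _
          rw [phi_of, hG]; rfl }
    let k2 : RootRing p A' (algebraMap A A' a) →ₐ[A']
        RootRing p A' (algebraMap A A' a) ⊗[RootRing p A a] B :=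
      { toRingHom := algebraMap _ _
        commutes' := fun x => rfl }
    have : k1 = k2 := AdjoinRoot.algHom_ext (by
      change G (phi p a A' B (AdjoinRoot.root _)) =
        (AdjoinRoot.root _) ⊗ₜ[RootRing p A a] (1 : B)
      rw [phi_root, hG, map_one,
        Algebra.algebraMap_eq_smul_one (AdjoinRoot.root (X ^ p - C a : A[X])),
        TensorProduct.tmul_smul, TensorProduct.smul_tmul', Algebra.smul_def, mul_one]
      congr 1
      exact theta_root p a A')
    exact congrArg (fun k : RootRing p A' (algebraMap A A' a) →ₐ[A'] _ => k r') this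
  have hGF : ∀ q, G (F q) = q := by
    intro q
    induction q using TensorProduct.induction_on with
    | zero => simp
    | tmul r' b =>
      rw [hF, map_mul, hGphi, hG, map_one, Algebra.TensorProduct.tmul_mul_tmul, mul_one, one_mul]
    | add x y hx hy => rw [map_add, map_add, hx, hy]
  have hFG : ∀ t, F (G t) = t := by
    intro t
    induction t using TensorProduct.induction_on with
    | zero => simp
    | tmul x b =>
      rw [hG, hF, phi_of, Algebra.TensorProduct.tmul_mul_tmul, mul_one, one_mul]
    | add x y hx hy => rw [map_add, map_add, hx, hy]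
  let e : (RootRing p A' (algebraMap A A' a) ⊗[RootRing p A a] B) ≃ₐ[RootRing p A' (algebraMap A A' a)]
      A' ⊗[A] B :=
    AlgEquiv.ofBijective F ⟨Function.LeftInverse.injective hGF, Function.RightInverse.surjective hFG⟩
  exact ⟨algebraMap A A' a, algR'T, towerA', isRootTower_of_algEquiv p n _ _ _ e ih⟩

end step

/-- **base change of root towers** -/
theorem isRootTower_baseChange (p : ℕ) : ∀ (n : ℕ) (A B : Type u) [CommRing A] [CommRing B]
    [Algebra A B] (A' : Type u) [CommRing A'] [Algebra A A'],
    IsRootTower p n A B → IsRootTower p n A' (A' ⊗[A] B)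
  | 0, A, B, _, _, _, A', _, _, h => by
      obtain ⟨e0⟩ := h
      exact ⟨(Algebra.TensorProduct.congr (AlgEquiv.refl : A' ≃ₐ[A'] A') e0).trans
        (Algebra.TensorProduct.rid A A' A')⟩
  | n + 1, A, B, _, _, _, A', _, _, h => by
      obtain ⟨a, inst, tower, hB⟩ := h
      letI := inst
      haveI := tower
      letI := (theta p a A').toAlgebra
      exact step p a A' B n (isRootTower_baseChange p n _ B _ hB)

end Groth.Agent.Lead.QuietBC
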