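import Mathlib
import Groth.Prelude.Def_W4c2gaugesfzipsQuiet
import Groth.Agent.Lead.QuietC

set_option autoImplicit false
set_option linter.style.haveILetI false
universe u
open CategoryTheory Limits AlgebraicGeometry TensorProduct

namespace Groth.Agent.Lead.QuietBC

open Quiet

/-- base change of `p`-th root morphisms -/
theorem isPthRoot_of_isPullback (p : ℕ) {V Z T P : Scheme.{u}} (r : V ⟶ Z) (h : T ⟶ Z)
    (h' : P ⟶ V) (r' : P ⟶ T) (H : IsPullback h' r' r h) (hr : IsPthRoot p r) :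
    IsPthRoot p r' := by
  intro t
  obtain ⟨U, hzU, hUaff, hn⟩ := hr (h t)
  obtain ⟨W, hW, htW, hWU⟩ := exists_isAffineOpen_mem_and_subset (x := t) (U := h ⁻¹ᵁ U.1) hzU
  have hUY : r' ⁻¹ᵁ W = h' ⁻¹ᵁ (r ⁻¹ᵁ U.1) ⊓ r' ⁻¹ᵁ W := by
    refine (inf_eq_right.mpr ?_).symm
    calc r' ⁻¹ᵁ W ≤ r' ⁻¹ᵁ (h ⁻¹ᵁ U.1) := r'.preimage_mono hWU
      _ = h' ⁻¹ᵁ (r ⁻¹ᵁ U.1) := by
        rw [← Scheme.Hom.comp_preimage, ← Scheme.Hom.comp_preimage, H.w]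
  have hUSX : r ⁻¹ᵁ U.1 ≤ r ⁻¹ᵁ U.1 := le_rfl
  have hiso := isIso_pushoutSection_of_isAffineOpen H hWU hUSX hUY U.2 hW hUaff
  have hpush := (isIso_pushoutSection_iff H hWU hUSX hUY).mp hiso
  have hWaff : IsAffineOpen (r' ⁻¹ᵁ W) := by
    haveI : IsAffine (U.1 : Scheme.{u}) := U.2
    haveI : IsAffine (W : Scheme.{u}) := hW
    haveI : IsAffine ((r ⁻¹ᵁ U.1 : V.Opens) : Scheme.{u}) := hUaff
    exact .of_isIso (Scheme.Hom.isPullback_resLE H hWU hUSX hUY).isoPullback.hom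
  refine ⟨⟨W, hW⟩, htW, hWaff, ?_⟩
  -- algebra structures
  letI algAB : Algebra Γ(Z, U.1) Γ(V, r ⁻¹ᵁ U.1) := (r.app U.1).hom.toAlgebra
  obtain ⟨n, hn⟩ := hn
  letI algAA' : Algebra Γ(Z, U.1) Γ(T, W) := (h.appLE U.1 W hWU).hom.toAlgebra
  letI algA'S : Algebra Γ(T, W) Γ(P, r' ⁻¹ᵁ W) := (r'.app W).hom.toAlgebra
  letI algBS : Algebra Γ(V, r ⁻¹ᵁ U.1) Γ(P, r' ⁻¹ᵁ W) :=
    (h'.appLE (r ⁻¹ᵁ U.1) (r' ⁻¹ᵁ W) (by rw [hUY]; exact inf_le_left)).hom.toAlgebra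
  letI algAS : Algebra Γ(Z, U.1) Γ(P, r' ⁻¹ᵁ W) :=
    ((r'.app W).hom.comp (h.appLE U.1 W hWU).hom).toAlgebra
  haveI : IsScalarTower Γ(Z, U.1) Γ(T, W) Γ(P, r' ⁻¹ᵁ W) :=
    IsScalarTower.of_algebraMap_eq (fun _ => rfl)
  have hpush' : IsPushout (r.app U.1) (h.appLE U.1 W hWU)
      (h'.appLE (r ⁻¹ᵁ U.1) (r' ⁻¹ᵁ W) (by rw [hUY]; exact inf_le_left)) (r'.app W) := by
    have := hpush
    rwa [Scheme.Hom.appLE_eq_app, Scheme.Hom.appLE_eq_app] at this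
  haveI : IsScalarTower Γ(Z, U.1) Γ(V, r ⁻¹ᵁ U.1) Γ(P, r' ⁻¹ᵁ W) :=
    IsScalarTower.of_algebraMap_eq (fun x => by
      have := congrArg (fun φ => φ.hom x) hpush'.w
      simp only [CommRingCat.hom_comp, RingHom.comp_apply] at this
      exact this.symm)
  have hP : Algebra.IsPushout Γ(Z, U.1) Γ(T, W) Γ(V, r ⁻¹ᵁ U.1) Γ(P, r' ⁻¹ᵁ W) := by
    rw [← CommRingCat.isPushout_iff_isPushout]
    exact hpush'.flip
  have hT := isRootTower_baseChange p n Γ(Z, U.1) Γ(V, r ⁻¹ᵁ U.1) Γ(T, W) hn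
  exact ⟨n, isRootTower_of_algEquiv p n _ _ _
    (Algebra.IsPushout.equiv Γ(Z, U.1) Γ(T, W) Γ(V, r ⁻¹ᵁ U.1) Γ(P, r' ⁻¹ᵁ W)) hT⟩

/-- base change of quasi-étale morphisms -/
theorem isQuiet_of_isPullback (p : ℕ) {X Y X' Y' : Scheme.{u}} (f : Y ⟶ X) (g : X' ⟶ X)
    (f' : Y' ⟶ X') (g' : Y' ⟶ Y) (H : IsPullback g' f' f g) (hf : IsQuiet p f) :
    IsQuiet p f' := by
  intro y'
  obtain ⟨V, Y₁, r, e, hyV, hr, he, hre⟩ := hf (g' y')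
  haveI := he
  have hw : ((g' ∣_ V) ≫ r) ≫ e = ((g' ⁻¹ᵁ V).ι ≫ f') ≫ g := by
    rw [Category.assoc, hre, ← Category.assoc, morphismRestrict_ι, Category.assoc, H.w,
      Category.assoc]
  obtain ⟨r', hr'⟩ : ∃ r', r' = pullback.lift ((g' ∣_ V) ≫ r) ((g' ⁻¹ᵁ V).ι ≫ f') hw := ⟨_, rfl⟩
  have h1 : r' ≫ pullback.fst e g = (g' ∣_ V) ≫ r := by rw [hr', pullback.lift_fst]
  have h2 : r' ≫ pullback.snd e g = (g' ⁻¹ᵁ V).ι ≫ f' := by rw [hr', pullback.lift_snd]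
  refine ⟨g' ⁻¹ᵁ V, pullback e g, r', pullback.snd e g, hyV, ?_, inferInstance, h2⟩
  have outer : IsPullback (r' ≫ pullback.snd e g) (g' ∣_ V) g (r ≫ e) := by
    rw [h2, hre]
    exact (isPullback_morphismRestrict g' V).flip.paste_horiz H.flip
  have left : IsPullback r' (g' ∣_ V) (pullback.fst e g) r :=
    IsPullback.of_right outer h1 (IsPullback.of_hasPullback e g).flip
  exact isPthRoot_of_isPullback p r (pullback.fst e g) (g' ∣_ V) r' left.flip hr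

end Groth.Agent.Lead.QuietBC
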