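import Mathlib
import Groth.Prelude.Def_DCoh2
import Groth.Agent.Lead.PerfLib

/-!
# Perfect objects: locally a bounded complex of finite free modules (S0923)
-/

set_option autoImplicit false
universe u
open CategoryTheory CategoryTheory.Limits AlgebraicGeometry

attribute [local instance] HasDerivedCategory.standard

namespace Groth.Agent.Lead.PerfLib
open Scheme.Modules Groth.Agent.Lead.LocLift Groth.Agent.Helper4.FinLocFree

variable {X : Scheme.{u}}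

theorem isPerfect_iff_free (E : DCoh.D X) :
    DCoh.IsPerfect E ↔ ∀ x : X, ∃ V : X.Opens, x ∈ V ∧ ∀ F : CochainComplex X.Modules ℤ,
      Nonempty (DCoh.toD X F ≅ E) →
        ∃ (P : CochainComplex (V : Scheme.{u}).Modules ℤ) (a b : ℤ), DCoh.VanishesOutside P a b ∧
          (∀ i : ℤ, ∃ n : ℕ, Nonempty (P.X i ≅ FlatMod.freeMod (V : Scheme.{u}) n)) ∧
          Nonempty (DerivedCategory.Q.obj ((DCoh.restrictCx V).obj F) ≅ DerivedCategory.Q.obj P) := by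
  constructor
  · intro hE x
    obtain ⟨V₀, hxV₀, hV₀⟩ := hE x
    -- a representative
    let F₀ : CochainComplex X.Modules ℤ := DerivedCategory.Q.objPreimage E
    let e₀ : DerivedCategory.Q.obj F₀ ≅ E := DerivedCategory.Q.objObjPreimageIso E
    obtain ⟨E₀, ⟨⟨a, b, hvan⟩, hfree⟩, ⟨φ₀⟩⟩ := hV₀ F₀ ⟨e₀⟩
    obtain ⟨W, hxW, hW⟩ := exists_free_nhd E₀ a b hvan hfree (⟨x, hxV₀⟩ : ↥V₀)
    -- the open `V` of `X` and the morphism `k : V ⟶ V₀`
    let j' : (W : Scheme.{u}) ⟶ X := W.ι ≫ V₀.ι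
    let V : X.Opens := j'.opensRange
    let k : (V : Scheme.{u}) ⟶ (V₀ : Scheme.{u}) := j'.isoOpensRange.inv ≫ W.ι
    have hk : V.ι = k ≫ V₀.ι := by
      simp only [k, Category.assoc]
      exact (Scheme.Hom.isoOpensRange_inv_comp j').symm
    refine ⟨V, ⟨⟨⟨x, hxV₀⟩, hxW⟩, rfl⟩, ?_⟩
    intro F ⟨e⟩
    refine ⟨(Rc k).obj E₀, a, b, ?_, ?_, ⟨?_⟩⟩
    · intro i hi
      exact Functor.map_isZero (restrictFunctor k) (hvan i hi)
    · intro i
      obtain ⟨n, hn⟩ := hW i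
      exact ⟨n, IsFreeAlong.comp W.ι hn j'.isoOpensRange.inv⟩
    · -- the isomorphism in `D(V)`
      have i1 : DerivedCategory.Q.obj ((Rc V₀.ι).obj F) ≅ DerivedCategory.Q.obj E₀ :=
        qRestrictIso V₀.ι (e ≪≫ e₀.symm) ≪≫ φ₀
      exact DerivedCategory.Q.mapIso (rcCompIso V₀.ι k V.ι hk F) ≪≫ qRestrictIso k i1
  · intro h x
    obtain ⟨V, hxV, hV⟩ := h x
    refine ⟨V, hxV, fun F hF => ?_⟩
    obtain ⟨P, a, b, hvan, hfree, hiso⟩ := hV F hF
    refine ⟨P, ⟨⟨a, b, hvan⟩, fun i => ?_⟩, hiso⟩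
    obtain ⟨n, ⟨e⟩⟩ := hfree i
    exact Groth.Agent.Helper4.FinLocFree2.isFinLocFree_of_iso e.symm
      (Groth.Agent.Helper4.FinLocFree2.isFinLocFree_freeMod n)

end Groth.Agent.Lead.PerfLib
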