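import Mathlib
import Groth.Prelude.Def_CohTop
import Groth.Agent.Lead.CohTopB

namespace Groth.Agent.Lead.CohTopB
open CategoryTheory TopologicalSpace Opposite Limits Abelian
universe u
variable {X : TopCat.{u}}

section const
variable (X) (A : Type u) [AddCommGroup A]

/-- the constant presheaf -/
noncomputable abbrev constP : (Opens X)ᵒᵖ ⥤ AddCommGrpCat.{u} :=
  (Functor.const (Opens X)ᵒᵖ).obj (AddCommGrpCat.of A)

/-- the sheafification map of the constant presheaf -/
noncomputable abbrev constη : constP X A ⟶ (CohTop.const X A).obj :=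
  toSheafify (Opens.grothendieckTopology X) (constP X A)

variable {X A}

lemma constη_naturality {U V : Opens X} (i : V ⟶ U) (a : A) :
    (CohTop.const X A).obj.map i.op ((constη X A).app (op U) a) = (constη X A).app (op V) a := by
  have := (constη X A).naturality i.op
  have h2 := congrArg (fun φ => φ a) this
  simp only [AddCommGrpCat.hom_comp, AddMonoidHom.coe_comp, Function.comp_apply] at h2
  exact h2.symm

lemma constη_injective_of_nonempty {W : Opens X} (hW : (W : Set X).Nonempty) (a b : A)
    (h : (constη X A).app (op W) a = (constη X A).app (op W) b) : a = b := by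
  have hinj : Presheaf.IsLocallyInjective (Opens.grothendieckTopology X) (constη X A) := by
    show Presheaf.IsLocallyInjective _ (toSheafify (Opens.grothendieckTopology X) (constP X A))
    infer_instance
  have hmem := Presheaf.equalizerSieve_mem (Opens.grothendieckTopology X) (constη X A)
    (X := op W) a b h
  obtain ⟨z, hz⟩ := hW
  obtain ⟨W', i', hi', -⟩ := hmem z hz
  exact hi'

lemma constη_surjective_of_nonempty [IrreducibleSpace X] {U : Opens X} (hU : (U : Set X).Nonempty) :
    Function.Surjective ((constη X A).app (op U)) := by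
  intro s
  have hsurj : Presheaf.IsLocallySurjective (Opens.grothendieckTopology X) (constη X A) := by
    show Presheaf.IsLocallySurjective _ (toSheafify (Opens.grothendieckTopology X) (constP X A))
    infer_instance
  have hmem0 := Presheaf.imageSieve_mem (Opens.grothendieckTopology X) (constη X A) (U := op U) s
  have hmem : ∀ x (hx : x ∈ U), ∃ (V : Opens X) (i : V ⟶ U),
      (∃ t : A, (constη X A).app (op V) t = (CohTop.const X A).obj.map i.op s) ∧ x ∈ V := hmem0
  choose V i hi hxV using hmem
  choose a ha using hi
  -- all `a x hx` are equal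
  have hall : ∀ x hx y hy, a x hx = a y hy := by
    intro x hx y hy
    have hW : ((V x hx ⊓ V y hy : Opens X) : Set X).Nonempty :=
      nonempty_preirreducible_inter (V x hx).2 (V y hy).2 ⟨x, hxV x hx⟩ ⟨y, hxV y hy⟩
    apply constη_injective_of_nonempty hW
    have e1 := congrArg ((CohTop.const X A).obj.map (homOfLE (inf_le_left : V x hx ⊓ V y hy ≤ V x hx)).op) (ha x hx)
    have e2 := congrArg ((CohTop.const X A).obj.map (homOfLE (inf_le_right : V x hx ⊓ V y hy ≤ V y hy)).op) (ha y hy)
    rw [constη_naturality] at e1 e2
    rw [e1, e2, ← ConcreteCategory.comp_apply, ← ConcreteCategory.comp_apply, ← Functor.map_comp,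
      ← Functor.map_comp]
    rfl
  obtain ⟨x₀, hx₀⟩ := hU
  refine ⟨a x₀ hx₀, ?_⟩
  refine TopCat.Sheaf.eq_of_locally_eq' (CohTop.const X A) (fun x : U => V x.1 x.2) U
    (fun x => i x.1 x.2) ?_ _ _ ?_
  · intro x hx
    exact Opens.mem_iSup.mpr ⟨⟨x, hx⟩, hxV x hx⟩
  · rintro ⟨x, hx⟩
    rw [constη_naturality, hall x₀ hx₀ x hx]
    exact ha x hx

instance const_isFlasque [IrreducibleSpace X] : TopCat.Sheaf.IsFlasque (CohTop.const X A) where
  epi {U V} i := by
    rw [AddCommGrpCat.epi_iff_surjective]
    intro t
    by_cases hV : ((V.unop : Opens X) : Set X).Nonempty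
    · have hU : ((U.unop : Opens X) : Set X).Nonempty := hV.mono i.unop.le
      obtain ⟨a, rfl⟩ := constη_surjective_of_nonempty hV t
      exact ⟨(constη X A).app (op U.unop) a, constη_naturality i.unop a⟩
    · refine ⟨0, ?_⟩
      rw [map_zero]
      refine TopCat.Sheaf.eq_of_locally_eq' (CohTop.const X A) (fun x : PEmpty.{u + 1} => x.elim)
        V.unop (fun x => x.elim) ?_ _ _ (fun x => x.elim)
      intro x hx
      exact (hV ⟨x, hx⟩).elim

end const

end Groth.Agent.Lead.CohTopB
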