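import Mathlib
import Groth.Prelude.Def_CohTop
import Groth.Agent.Lead.CohTopB

namespace Groth.Agent.Lead.CohTopB
open CategoryTheory TopologicalSpace Opposite Limits Abelian
universe u
variable {X : TopCat.{u}}

lemma res_eq (F : CohTop.Ab X) (n : ℕ) {U V : Opens X} (h : V ≤ U) (ξ : CohTop.HU F n U) :
    CohTop.res F n h ξ = (Ext.mk₀ (freeMap (homOfLE h))).comp (ξ : Ext (freeU U) F n) (zero_add n) :=
  rfl

open TopCat.Presheaf in
theorem kill_class_zero (U : Opens X) (S : ShortComplex (CohTop.Ab X)) (hS : S.ShortExact)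
    [Injective S.X₂] (ξ : Ext (freeU U) S.X₁ 1) :
    ∃ (ι : Type u) (V : ι → Opens X) (hV : ∀ i, V i ≤ U), iSup V = U ∧
      ∀ i, (Ext.mk₀ (freeMap (homOfLE (hV i)))).comp ξ (zero_add _) = 0 := by
  have h0 : ξ.comp (Ext.mk₀ S.f) (add_zero 1) = 0 := Ext.eq_zero_of_injective _
  obtain ⟨x₃, hx₃⟩ := Ext.covariant_sequence_exact₁ _ hS ξ h0 (zero_add 1)
  obtain ⟨q, rfl⟩ := (Ext.mk₀_bijective _ S.X₃).2 x₃
  have hls := (TopCat.Sheaf.isLocallySurjective_iff_epi S.g).mpr hS.epi_g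
  have hloc := (isLocallySurjective_iff S.g.hom).mp hls U (homEquiv U _ q)
  choose W hW ht hxW using hloc
  choose t ht using ht
  refine ⟨U, fun x => W x.1 x.2, fun x => hW x.1 x.2, ?_, ?_⟩
  · apply le_antisymm
    · exact iSup_le fun x => hW x.1 x.2
    · intro x hx
      exact Opens.mem_iSup.mpr ⟨⟨x, hx⟩, hxW x hx⟩
  · intro x
    have hq : freeMap (homOfLE (hW x.1 x.2)) ≫ q =
        (homEquiv (W x.1 x.2) _).symm (t x.1 x.2) ≫ S.g := by
      apply (homEquiv (W x.1 x.2) _).injective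
      rw [homEquiv_map, homEquiv_comp, Equiv.apply_symm_apply, ht]
      rfl
    rw [← hx₃, ← Ext.comp_assoc_of_second_deg_zero, Ext.mk₀_comp_mk₀, hq, ← Ext.mk₀_comp_mk₀,
      Ext.comp_assoc_of_second_deg_zero, hS.comp_extClass, Ext.comp_zero]

theorem kill_class_succ (U : Opens X) (n : ℕ) (S : ShortComplex (CohTop.Ab X)) (hS : S.ShortExact)
    [Injective S.X₂] (ξ : Ext (freeU U) S.X₁ (n + 1 + 1))
    (ih : ∀ x₃ : Ext (freeU U) S.X₃ (n + 1),
      ∃ (ι : Type u) (V : ι → Opens X) (hV : ∀ i, V i ≤ U), iSup V = U ∧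
      ∀ i, (Ext.mk₀ (freeMap (homOfLE (hV i)))).comp x₃ (zero_add _) = 0) :
    ∃ (ι : Type u) (V : ι → Opens X) (hV : ∀ i, V i ≤ U), iSup V = U ∧
      ∀ i, (Ext.mk₀ (freeMap (homOfLE (hV i)))).comp ξ (zero_add _) = 0 := by
  have h0 : ξ.comp (Ext.mk₀ S.f) (add_zero _) = 0 := Ext.eq_zero_of_injective _
  obtain ⟨x₃, hx₃⟩ := Ext.covariant_sequence_exact₁ _ hS ξ h0 rfl
  obtain ⟨ι, V, hV, hsup, hz⟩ := ih x₃
  refine ⟨ι, V, hV, hsup, fun i => ?_⟩
  rw [← hx₃, ← Ext.comp_assoc (a₁₂ := n + 1) (a₂₃ := n + 1 + 1) (a := n + 1 + 1)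
    _ _ _ (zero_add _) rfl (by omega), hz i, Ext.zero_comp]

theorem kill_class (U : Opens X) (n : ℕ) : ∀ (F : CohTop.Ab X) (ξ : Ext (freeU U) F (n + 1)),
    ∃ (ι : Type u) (V : ι → Opens X) (hV : ∀ i, V i ≤ U), iSup V = U ∧
      ∀ i, (Ext.mk₀ (freeMap (homOfLE (hV i)))).comp ξ (zero_add _) = 0 := by
  induction n with
  | zero =>
    intro F ξ
    exact kill_class_zero U (injSC F) (injSC_shortExact F) ξ
  | succ n ih =>
    intro F ξ
    exact kill_class_succ U n (injSC F) (injSC_shortExact F) ξ (ih _)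

end Groth.Agent.Lead.CohTopB
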