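import Mathlib
import Groth.Prelude.Def_EtBase

set_option autoImplicit false
universe u

open AlgebraicGeometry CategoryTheory CategoryTheory.Limits Opposite

namespace Groth.Agent.Lead.SubFinal

theorem hom_left_w (S : Scheme.{u}) (W : S.Opens) (U : S.Etale) (g : U ⟶ Scheme.Etale.mk W.ι) :
    (g.left : U.left ⟶ (W : Scheme)) ≫ W.ι = U.hom := Over.w g.hom

/-- morphisms to an open subscheme in the small étale site -/
theorem nonempty_hom_iff (S : Scheme.{u}) (W : S.Opens) (U : S.Etale) :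
    Nonempty (U ⟶ Scheme.Etale.mk W.ι) ↔ Set.range U.hom ⊆ (W : Set S) := by
  constructor
  · rintro ⟨g⟩
    rintro _ ⟨x, rfl⟩
    rw [← hom_left_w S W U g, Scheme.Hom.comp_apply]
    exact ((g.left : U.left ⟶ (W : Scheme)) x).2
  · intro h
    have hsub : Set.range U.hom ⊆ Set.range W.ι := by
      rw [Scheme.Opens.range_ι]; exact h
    let l : U.left ⟶ (W : Scheme) := IsOpenImmersion.lift W.ι U.hom hsub
    have hl : l ≫ W.ι = U.hom := IsOpenImmersion.lift_fac _ _ _
    exact ⟨MorphismProperty.Over.homMk l hl⟩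

instance subsingleton_hom (S : Scheme.{u}) (W : S.Opens) (U : S.Etale) :
    Subsingleton (U ⟶ Scheme.Etale.mk W.ι) := by
  constructor
  intro g g'
  apply MorphismProperty.Over.Hom.ext
  show (g.left : U.left ⟶ (W : Scheme)) = g'.left
  exact (cancel_mono W.ι).mp ((hom_left_w S W U g).trans (hom_left_w S W U g').symm)

/-- the open subset attached to a subsheaf of the final sheaf -/
def W (S : Scheme.{u}) (F : (S.Etale)ᵒᵖ ⥤ Type u) : S.Opens :=
  ⟨{s | ∃ U : S.Etale, Nonempty (F.obj (op U)) ∧ s ∈ Set.range U.hom}, by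
    rw [isOpen_iff_forall_mem_open]
    rintro s ⟨U, hU, hs⟩
    exact ⟨Set.range U.hom, fun t ht => ⟨U, hU, ht⟩, U.hom.isOpenMap.isOpen_range, hs⟩⟩

theorem nonempty_sections_iff (S : Scheme.{u}) (F : Sheaf S.smallEtaleTopology (Type u))
    (hF : ∀ U : S.Etale, Subsingleton (F.obj.obj (op U))) (U : S.Etale) :
    Nonempty (F.obj.obj (op U)) ↔ Set.range U.hom ⊆ (W S F.obj : Set S) := by
  constructor
  · intro h s hs
    exact ⟨U, h, hs⟩
  · intro h
    have hx : ∀ x : U.left, ∃ V : S.Etale, Nonempty (F.obj.obj (op V)) ∧ U.hom x ∈ Set.range V.hom :=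
      fun x => h ⟨x, rfl⟩
    choose V hV1 hV2 using hx
    let Z : U.left → S.Etale := fun x => Scheme.Etale.mk (pullback.fst U.hom (V x).hom ≫ U.hom)
    let f : ∀ x, Z x ⟶ U := fun x => MorphismProperty.Over.homMk (pullback.fst U.hom (V x).hom) rfl
    let g : ∀ x, Z x ⟶ V x := fun x => MorphismProperty.Over.homMk (pullback.snd U.hom (V x).hom)
      pullback.condition.symm
    have hcov : Sieve.ofArrows _ f ∈ S.smallEtaleTopology U := by
      rw [Scheme.ofArrows_mem_smallEtaleTopology_iff]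
      apply Set.eq_univ_of_forall
      intro x
      obtain ⟨y, hy⟩ := hV2 x
      obtain ⟨t, ht1, ht2⟩ := Scheme.Pullback.exists_preimage_pullback (f := U.hom) (g := (V x).hom) x y hy.symm
      exact Set.mem_iUnion.mpr ⟨x, t, ht1⟩
    have hZ : ∀ x, Nonempty (F.obj.obj (op (Z x))) := fun x =>
      (hV1 x).map (fun s => F.obj.map (g x).op s)
    have hsh : Presieve.IsSheaf S.smallEtaleTopology F.obj := (isSheaf_iff_isSheaf_of_type _ _).mp F.cond
    have hsf : Presieve.IsSheafFor F.obj (Sieve.ofArrows _ f).arrows := hsh _ hcov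
    have hne : ∀ ⦃Y : S.Etale⦄ (k : Y ⟶ U), (Sieve.ofArrows _ f).arrows k → Nonempty (F.obj.obj (op Y)) := by
      intro Y k hk
      obtain ⟨Y', h', k', hk', rfl⟩ := hk
      obtain ⟨x⟩ := hk'
      exact (hZ x).map (fun s => F.obj.map h'.op s)
    let fam : Presieve.FamilyOfElements F.obj (Sieve.ofArrows _ f).arrows :=
      fun Y k hk => Classical.choice (hne k hk)
    have hcompat : fam.Compatible := by
      intro Y₁ Y₂ Y₃ g₁ g₂ f₁ f₂ h₁ h₂ _
      exact (hF Y₃).elim _ _
    obtain ⟨s, -⟩ := hsf fam hcompat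
    exact ⟨s⟩

theorem nonempty_iso_iff (S : Scheme.{u}) (F : (S.Etale)ᵒᵖ ⥤ Type u)
    (hF : ∀ U : S.Etale, Subsingleton (F.obj (op U))) (W' : S.Opens) :
    Nonempty (F ≅ yoneda.obj (Scheme.Etale.mk W'.ι)) ↔
      ∀ U : S.Etale, Nonempty (F.obj (op U)) ↔ Set.range U.hom ⊆ (W' : Set S) := by
  constructor
  · rintro ⟨e⟩ U
    rw [← nonempty_hom_iff]
    constructor
    · rintro ⟨s⟩
      exact ⟨(e.hom.app (op U)) s⟩
    · rintro ⟨g⟩
      exact ⟨(e.inv.app (op U)) g⟩
  · intro h
    have h' : ∀ U : S.Etale, Nonempty (F.obj (op U)) ↔ Nonempty (U ⟶ Scheme.Etale.mk W'.ι) := by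
      intro U; rw [nonempty_hom_iff]; exact h U
    refine ⟨NatIso.ofComponents (fun U => Equiv.toIso
      { toFun := fun s => Classical.choice ((h' U.unop).mp ⟨s⟩)
        invFun := fun g => Classical.choice ((h' U.unop).mpr ⟨g⟩)
        left_inv := fun s => (hF U.unop).elim _ _
        right_inv := fun g => (subsingleton_hom S W' U.unop).elim _ _ }) ?_⟩
    intro U V k
    ext s
    exact (subsingleton_hom S W' V.unop).elim _ _

theorem main (S : Scheme.{u}) (F : Sheaf S.smallEtaleTopology (Type u))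
    (hF : ∀ U : S.Etale, Subsingleton (F.obj.obj (op U))) :
    ∃! W : S.Opens, Nonempty (F.obj ≅ yoneda.obj (Scheme.Etale.mk W.ι)) := by
  refine ⟨W S F.obj, ?_, ?_⟩
  · show Nonempty (F.obj ≅ yoneda.obj (Scheme.Etale.mk (W S F.obj).ι))
    rw [nonempty_iso_iff S F.obj hF]
    exact nonempty_sections_iff S F hF
  · intro W' hW'
    have hW'2 : Nonempty (F.obj ≅ yoneda.obj (Scheme.Etale.mk W'.ι)) := hW'
    rw [nonempty_iso_iff S F.obj hF] at hW'2
    apply TopologicalSpace.Opens.ext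
    apply Set.Subset.antisymm
    · intro s hs
      refine ⟨Scheme.Etale.mk W'.ι, (hW'2 _).mpr ?_, ?_⟩
      · show Set.range W'.ι ⊆ _
        rw [Scheme.Opens.range_ι]
      · show s ∈ Set.range W'.ι
        rw [Scheme.Opens.range_ι]; exact hs
    · rintro s ⟨U, hU, hs⟩
      exact (hW'2 U).mp hU hs

end Groth.Agent.Lead.SubFinal
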