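import Groth.Agent.Lead.HomDescA
import Groth.Agent.Lead.HomDescB
import Groth.Agent.Lead.ModDict8
import Groth.Agent.Lead.ModDict6

set_option autoImplicit false
open CategoryTheory AlgebraicGeometry Opposite TopologicalSpace TensorProduct
universe u

namespace Groth.Agent.Lead.HomDesc
open Scheme.Modules Groth.Agent.Lead.BCMap

section general
variable {X Y : Scheme.{u}} (f : X ⟶ Y) (F : Y.Modules)

/-- the algebra structure on the sections over the preimage -/
@[reducible] noncomputable def algApp (U : Y.Opens) : Algebra Γ(Y, U) Γ(X, f ⁻¹ᵁ U) :=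
  (f.app U).hom.toAlgebra

attribute [local instance] algApp

theorem algebraMap_algApp (U : Y.Opens) (a : Γ(Y, U)) :
    algebraMap Γ(Y, U) Γ(X, f ⁻¹ᵁ U) a = f.app U a := rfl

theorem pbSec_smul' (U : Y.Opens) (a : Γ(Y, U)) (n : Γ(F, U)) :
    pbSec f F U (f ⁻¹ᵁ U) le_rfl (a • n) = f.app U a • pbSec f F U (f ⁻¹ᵁ U) le_rfl n := by
  rw [pbSec_smul, Scheme.Hom.appLE_eq_app]

/-- the comparison map from the abstract base change to the sections of the pullback -/
noncomputable def eGen (U : Y.Opens) :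
    Γ(F, U) ⊗[Γ(Y, U)] Γ(X, f ⁻¹ᵁ U) →+ Γ((Scheme.Modules.pullback f).obj F, f ⁻¹ᵁ U) :=
  TensorProduct.liftAddHom
    { toFun := fun n =>
        { toFun := fun b => b • pbSec f F U (f ⁻¹ᵁ U) le_rfl n
          map_zero' := zero_smul _ _
          map_add' := fun b b' => add_smul _ _ _ }
      map_zero' := by
        ext b
        simp
      map_add' := fun n n' => by
        ext b
        simp }
    (fun a n b => by
      change b • pbSec f F U (f ⁻¹ᵁ U) le_rfl (a • n) = (a • b) • pbSec f F U (f ⁻¹ᵁ U) le_rfl n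
      rw [pbSec_smul', Algebra.smul_def, algebraMap_algApp, mul_comm, mul_smul])

@[simp] theorem eGen_tmul (U : Y.Opens) (n : Γ(F, U)) (b : Γ(X, f ⁻¹ᵁ U)) :
    eGen f F U (n ⊗ₜ b) = b • pbSec f F U (f ⁻¹ᵁ U) le_rfl n := rfl

theorem eGen_smul (U : Y.Opens) (a : Γ(Y, U)) (z : Γ(F, U) ⊗[Γ(Y, U)] Γ(X, f ⁻¹ᵁ U)) :
    eGen f F U (a • z) = f.app U a • eGen f F U z := by
  induction z using TensorProduct.induction_on with
  | zero => simp
  | tmul n b =>
    rw [TensorProduct.smul_tmul', eGen_tmul, eGen_tmul, pbSec_smul', smul_comm]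
  | add z₁ z₂ h₁ h₂ => rw [smul_add, map_add, map_add, h₁, h₂, smul_add]

include F in
theorem exists_isBaseChange_pbSec_hom [F.IsQuasicoherent] {U : Y.Opens} (hU : IsAffineOpen U)
    {V : X.Opens} (hV : IsAffineOpen V) (e : V ≤ f ⁻¹ᵁ U) (ψ : Γ(Y, U) →+* Γ(X, V))
    (hψ : ψ = (f.appLE U V e).hom) :
    letI := ψ.toAlgebra
    letI : Module Γ(Y, U) Γ((Scheme.Modules.pullback f).obj F, V) := Module.compHom _ ψ
    haveI : IsScalarTower Γ(Y, U) Γ(X, V) Γ((Scheme.Modules.pullback f).obj F, V) :=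
      IsScalarTower.of_compHom _ _ _
    ∃ ρ : Γ(F, U) →ₗ[Γ(Y, U)] Γ((Scheme.Modules.pullback f).obj F, V),
      (∀ m, ρ m = pbSec f F U V e m) ∧ IsBaseChange Γ(X, V) ρ := by
  subst hψ
  exact exists_isBaseChange_pbSec f F hU hV e

theorem eGen_bijective [F.IsQuasicoherent] {U : Y.Opens} (hU : IsAffineOpen U)
    (hV : IsAffineOpen (f ⁻¹ᵁ U)) : Function.Bijective (eGen f F U) := by
  letI : Module Γ(Y, U) Γ((Scheme.Modules.pullback f).obj F, f ⁻¹ᵁ U) :=
    Module.compHom _ (f.app U).hom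
  haveI : IsScalarTower Γ(Y, U) Γ(X, f ⁻¹ᵁ U) Γ((Scheme.Modules.pullback f).obj F, f ⁻¹ᵁ U) :=
    IsScalarTower.of_compHom _ _ _
  obtain ⟨ρ, hρ, hb⟩ := exists_isBaseChange_pbSec_hom f F hU hV le_rfl (f.app U).hom
    (by rw [Scheme.Hom.appLE_eq_app])
  have key : ∀ z, eGen f F U z = hb.equiv (TensorProduct.comm _ _ _ z) := by
    intro z
    induction z using TensorProduct.induction_on with
    | zero => simp
    | tmul n b =>
      rw [eGen_tmul, TensorProduct.comm_tmul, hb.equiv_tmul, hρ]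
    | add z₁ z₂ h₁ h₂ => rw [map_add, h₁, h₂, map_add, map_add]
  have : (eGen f F U : _ → _) = fun z => hb.equiv (TensorProduct.comm _ _ _ z) := funext key
  rw [this]
  exact hb.equiv.bijective.comp (TensorProduct.comm _ _ _).bijective

theorem preimage_le {U U' : Y.Opens} (h : U' ≤ U) : f ⁻¹ᵁ U' ≤ f ⁻¹ᵁ U := fun _ hx => h hx

theorem app_res {U U' : Y.Opens} (h : U' ≤ U) (a : Γ(Y, U)) :
    X.presheaf.map (homOfLE (preimage_le f h)).op (f.app U a) =
      f.app U' (Y.presheaf.map (homOfLE h).op a) := by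
  have := f.naturality (homOfLE h).op
  exact (congrArg (fun φ => φ.hom a) this).symm

/-- restriction of abstract tensors -/
noncomputable def rGen {U U' : Y.Opens} (h : U' ≤ U) :
    Γ(F, U) ⊗[Γ(Y, U)] Γ(X, f ⁻¹ᵁ U) →+ Γ(F, U') ⊗[Γ(Y, U')] Γ(X, f ⁻¹ᵁ U') :=
  TensorProduct.liftAddHom
    { toFun := fun n =>
        { toFun := fun b => (F.presheaf.map (homOfLE h).op n) ⊗ₜ[Γ(Y, U')]
            (X.presheaf.map (homOfLE (preimage_le f h)).op b)
          map_zero' := by rw [map_zero, TensorProduct.tmul_zero]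
          map_add' := fun b b' => by rw [map_add, TensorProduct.tmul_add] }
      map_zero' := by
        ext b
        simp
      map_add' := fun n n' => by
        ext b
        simp [TensorProduct.add_tmul] }
    (fun a n b => by
      change (F.presheaf.map (homOfLE h).op (a • n)) ⊗ₜ[Γ(Y, U')]
          (X.presheaf.map (homOfLE (preimage_le f h)).op b) =
        (F.presheaf.map (homOfLE h).op n) ⊗ₜ[Γ(Y, U')]
          (X.presheaf.map (homOfLE (preimage_le f h)).op (a • b))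
      rw [Scheme.Modules.map_smul, Algebra.smul_def, algebraMap_algApp, map_mul, app_res,
        TensorProduct.smul_tmul, Algebra.smul_def, algebraMap_algApp])

@[simp] theorem rGen_tmul {U U' : Y.Opens} (h : U' ≤ U) (n : Γ(F, U)) (b : Γ(X, f ⁻¹ᵁ U)) :
    rGen f F h (n ⊗ₜ b) = (F.presheaf.map (homOfLE h).op n) ⊗ₜ[Γ(Y, U')]
      (X.presheaf.map (homOfLE (preimage_le f h)).op b) := rfl

theorem eGen_res {U U' : Y.Opens} (h : U' ≤ U) (z : Γ(F, U) ⊗[Γ(Y, U)] Γ(X, f ⁻¹ᵁ U)) :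
    ((Scheme.Modules.pullback f).obj F).presheaf.map (homOfLE (preimage_le f h)).op
      (eGen f F U z) = eGen f F U' (rGen f F h z) := by
  induction z using TensorProduct.induction_on with
  | zero => simp
  | tmul n b =>
    rw [eGen_tmul, rGen_tmul, eGen_tmul, Scheme.Modules.map_smul]
    congr 1
    exact (pbSec_res f F le_rfl le_rfl h (preimage_le f h) n).symm
  | add z₁ z₂ h₁ h₂ => rw [map_add, map_add, map_add, map_add, h₁, h₂]

end general

section tower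
open Groth.Agent.Lead.ModDict Limits
variable {I : Type u} [SmallCategory I] [IsCofiltered I] (D : I ⥤ Scheme.{u}) (c : Cone D)
  [∀ {i j : I} (f : i ⟶ j), IsAffineHom (D.map f)] (i₀ : I) (G₀ : (D.obj i₀).Modules)

attribute [local instance] algApp Stage.algB Stage.algBj

/-- the transition from a stage to the limit on sections of the pulled back module -/
noncomputable def tau (j : Over i₀) (U : (D.obj i₀).Opens) :
    Γ((Scheme.Modules.pullback (D.map j.hom)).obj G₀, D.map j.hom ⁻¹ᵁ U) →+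
      Γ((Scheme.Modules.pullback (c.π.app i₀)).obj G₀, c.π.app i₀ ⁻¹ᵁ U) :=
  ((((pullbackπIso D c i₀ j.hom).hom.app G₀).app (c.π.app i₀ ⁻¹ᵁ U)).hom).comp
    (pbSec (c.π.app j.left) ((Scheme.Modules.pullback (D.map j.hom)).obj G₀)
      (D.map j.hom ⁻¹ᵁ U) (c.π.app i₀ ⁻¹ᵁ U) (le_lim D c i₀ U j))

theorem tau_apply (j : Over i₀) (U : (D.obj i₀).Opens)
    (y : Γ((Scheme.Modules.pullback (D.map j.hom)).obj G₀, D.map j.hom ⁻¹ᵁ U)) :
    tau D c i₀ G₀ j U y = ((pullbackπIso D c i₀ j.hom).hom.app G₀).app (c.π.app i₀ ⁻¹ᵁ U)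
      (pbSec (c.π.app j.left) ((Scheme.Modules.pullback (D.map j.hom)).obj G₀)
        (D.map j.hom ⁻¹ᵁ U) (c.π.app i₀ ⁻¹ᵁ U) (le_lim D c i₀ U j) y) := rfl

theorem tau_pbSec (j : Over i₀) (U : (D.obj i₀).Opens) (n : Γ(G₀, U)) :
    tau D c i₀ G₀ j U (pbSec (D.map j.hom) G₀ U (D.map j.hom ⁻¹ᵁ U) le_rfl n) =
      pbSec (c.π.app i₀) G₀ U (c.π.app i₀ ⁻¹ᵁ U) le_rfl n := by
  rw [tau_apply]
  have e : c.π.app i₀ ⁻¹ᵁ U ≤ (c.π.app j.left ≫ D.map j.hom) ⁻¹ᵁ U := by
    rw [c.w]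
  have h1 := pbSec_comp (c.π.app j.left) (D.map j.hom) G₀ (U := U) le_rfl
    (le_lim D c i₀ U j) e n
  have h2 := pbSec_congr (c.w j.hom) G₀ e le_rfl n
  rw [← h2, ← h1]
  rfl

theorem tau_smul (j : Over i₀) (U : (D.obj i₀).Opens) (b : Γ(D.obj j.left, D.map j.hom ⁻¹ᵁ U))
    (y : Γ((Scheme.Modules.pullback (D.map j.hom)).obj G₀, D.map j.hom ⁻¹ᵁ U)) :
    tau D c i₀ G₀ j U (b • y) =
      (c.π.app j.left).appLE _ _ (le_lim D c i₀ U j) b • tau D c i₀ G₀ j U y := by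
  rw [tau_apply, tau_apply, pbSec_smul, Hom.app_smul]

theorem tau_res (j : Over i₀) {U U' : (D.obj i₀).Opens} (h : U' ≤ U)
    (y : Γ((Scheme.Modules.pullback (D.map j.hom)).obj G₀, D.map j.hom ⁻¹ᵁ U)) :
    ((Scheme.Modules.pullback (c.π.app i₀)).obj G₀).presheaf.map
        (homOfLE (preimage_le (c.π.app i₀) h)).op (tau D c i₀ G₀ j U y) =
      tau D c i₀ G₀ j U' (((Scheme.Modules.pullback (D.map j.hom)).obj G₀).presheaf.map
        (homOfLE (preimage_le (D.map j.hom) h)).op y) := by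
  rw [tau_apply, tau_apply]
  rw [← Groth.Agent.Helper4.StalkExact.app_res]
  congr 1
  exact (pbSec_res (c.π.app j.left) _ (le_lim D c i₀ U j) (le_lim D c i₀ U' j)
    (preimage_le (D.map j.hom) h) (preimage_le (c.π.app i₀) h) y).symm

theorem tau_eGen (j : Over i₀) (U : (D.obj i₀).Opens)
    (z : Γ(G₀, U) ⊗[Stage.A D i₀ U] Stage.Bj D i₀ U j) :
    tau D c i₀ G₀ j U (eGen (D.map j.hom) G₀ U z) =
      eGen (c.π.app i₀) G₀ U ((Stage.p D c i₀ U j).toLinearMap.lTensor Γ(G₀, U) z) := by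
  induction z using TensorProduct.induction_on with
  | zero => simp
  | tmul n b =>
    rw [eGen_tmul, LinearMap.lTensor_tmul, tau_smul, tau_pbSec]
    rfl
  | add z₁ z₂ h₁ h₂ => rw [map_add, map_add, map_add, map_add, h₁, h₂]

theorem res_appLE {X Y : Scheme.{u}} (f : X ⟶ Y) {V V' : Y.Opens} {W W' : X.Opens}
    (e : W ≤ f ⁻¹ᵁ V) (e' : W' ≤ f ⁻¹ᵁ V') (hV : V' ≤ V) (hW : W' ≤ W) (b : Γ(Y, V)) :
    X.presheaf.map (homOfLE hW).op (f.appLE V W e b) =
      f.appLE V' W' e' (Y.presheaf.map (homOfLE hV).op b) := by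
  have h1 := Scheme.Hom.appLE_map f e (homOfLE hW).op
  have h2 := Scheme.Hom.map_appLE f e' (homOfLE hV).op
  have h1' := congrArg (fun φ => φ.hom b) h1
  have h2' := congrArg (fun φ => φ.hom b) h2
  exact h1'.trans h2'.symm

theorem rGen_p (j : Over i₀) {U U' : (D.obj i₀).Opens} (h : U' ≤ U)
    (z : Γ(G₀, U) ⊗[Stage.A D i₀ U] Stage.Bj D i₀ U j) :
    rGen (c.π.app i₀) G₀ h ((Stage.p D c i₀ U j).toLinearMap.lTensor Γ(G₀, U) z) =
      (Stage.p D c i₀ U' j).toLinearMap.lTensor Γ(G₀, U') (rGen (D.map j.hom) G₀ h z) := by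
  induction z using TensorProduct.induction_on with
  | zero => simp
  | tmul n b =>
    rw [LinearMap.lTensor_tmul, rGen_tmul, rGen_tmul, LinearMap.lTensor_tmul]
    congr 1
    exact res_appLE (c.π.app j.left) _ _ (preimage_le (D.map j.hom) h)
      (preimage_le (c.π.app i₀) h) b
  | add z₁ z₂ h₁ h₂ => rw [map_add, map_add, map_add, map_add, h₁, h₂]

theorem rGen_tr {j j' : Over i₀} (g : j' ⟶ j) {U U' : (D.obj i₀).Opens} (h : U' ≤ U)
    (z : Γ(G₀, U) ⊗[Stage.A D i₀ U] Stage.Bj D i₀ U j) :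
    rGen (D.map j'.hom) G₀ h ((Stage.tr D i₀ U g).toLinearMap.lTensor Γ(G₀, U) z) =
      (Stage.tr D i₀ U' g).toLinearMap.lTensor Γ(G₀, U') (rGen (D.map j.hom) G₀ h z) := by
  induction z using TensorProduct.induction_on with
  | zero => simp
  | tmul n b =>
    rw [LinearMap.lTensor_tmul, rGen_tmul, rGen_tmul, LinearMap.lTensor_tmul]
    congr 1
    exact res_appLE (D.map g.left) _ _ (preimage_le (D.map j.hom) h)
      (preimage_le (D.map j'.hom) h) b
  | add z₁ z₂ h₁ h₂ => rw [map_add, map_add, map_add, map_add, h₁, h₂]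

theorem local_lift (hc : IsLimit c) [G₀.IsQuasicoherent] {U : (D.obj i₀).Opens}
    (hU : IsAffineOpen U) {M : Type u} [AddCommGroup M] [Module Γ(D.obj i₀, U) M]
    [Module.FinitePresentation Γ(D.obj i₀, U) M]
    (ϑ : M →+ Γ((Scheme.Modules.pullback (c.π.app i₀)).obj G₀, c.π.app i₀ ⁻¹ᵁ U))
    (hϑ : ∀ (a : Γ(D.obj i₀, U)) (m : M), ϑ (a • m) = (c.π.app i₀).app U a • ϑ m)
    (j₀ : Over i₀) :
    ∃ (j : Over i₀) (_ : j ⟶ j₀)
      (ν : M →ₗ[Γ(D.obj i₀, U)] Γ(G₀, U) ⊗[Stage.A D i₀ U] Stage.Bj D i₀ U j),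
      ∀ m, tau D c i₀ G₀ j U (eGen (D.map j.hom) G₀ U (ν m)) = ϑ m := by
  haveI := isAffineHom_π_app D c hc i₀
  have hbij := eGen_bijective (c.π.app i₀) G₀ hU (hU.preimage (c.π.app i₀))
  let E := Equiv.ofBijective _ hbij
  have hE : ∀ y, eGen (c.π.app i₀) G₀ U (E.symm y) = y := E.apply_symm_apply
  let θ : M →ₗ[Γ(D.obj i₀, U)] Γ(G₀, U) ⊗[Stage.A D i₀ U] Stage.B D c i₀ U :=
    { toFun := fun m => E.symm (ϑ m)
      map_add' := fun m m' => by
        apply hbij.1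
        rw [hE, AddMonoidHom.map_add (eGen (c.π.app i₀) G₀ U), hE, hE, map_add]
      map_smul' := fun a m => by
        apply hbij.1
        rw [hE, RingHom.id_apply, eGen_smul, hE, hϑ] }
  obtain ⟨j, t, ⟨g, rfl⟩, ν, hν⟩ := hom_lift (Stage.isStageSystem D c i₀ hc hU) θ j₀
  refine ⟨j, g, ν, fun m => ?_⟩
  rw [tau_eGen]
  have := congrArg (fun φ => φ m) hν
  simp only [LinearMap.comp_apply] at this
  rw [this]
  exact hE (ϑ m)

theorem tr_comp (U : (D.obj i₀).Opens) {j j' j'' : Over i₀} (g : j' ⟶ j) (w : j'' ⟶ j') :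
    Stage.tr D i₀ U (w ≫ g) = (Stage.tr D i₀ U w).comp (Stage.tr D i₀ U g) := by
  refine AlgHom.ext fun b => ?_
  change (D.map (w ≫ g).left).appLE _ _ _ b = ((D.map g.left).appLE _ _ (le_tr D i₀ U g) ≫
      (D.map w.left).appLE _ _ (le_tr D i₀ U w)) b
  rw [appLE_appLE_of_eq (h := D.map (w ≫ g).left) (by rw [Over.comp_left, D.map_comp])]

/-- stability of the lifting property under passing to a later stage -/
theorem tau_eGen_tr {j j' : Over i₀} (g : j' ⟶ j) (U : (D.obj i₀).Opens)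
    (z : Γ(G₀, U) ⊗[Stage.A D i₀ U] Stage.Bj D i₀ U j) :
    tau D c i₀ G₀ j' U (eGen (D.map j'.hom) G₀ U
        ((Stage.tr D i₀ U g).toLinearMap.lTensor Γ(G₀, U) z)) =
      tau D c i₀ G₀ j U (eGen (D.map j.hom) G₀ U z) := by
  rw [tau_eGen, tau_eGen, ← LinearMap.comp_apply, ← LinearMap.lTensor_comp,
    ← AlgHom.comp_toLinearMap, Stage.compat]

/-- two abstract tensors at a stage with the same image in the limit agree at a later stage -/
theorem local_eq_stage (hc : IsLimit c) [G₀.IsQuasicoherent] {U : (D.obj i₀).Opens}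
    (hU : IsAffineOpen U) (j : Over i₀) {n : ℕ}
    (z z' : Fin n → Γ(G₀, U) ⊗[Stage.A D i₀ U] Stage.Bj D i₀ U j)
    (h : ∀ k, tau D c i₀ G₀ j U (eGen (D.map j.hom) G₀ U (z k)) =
      tau D c i₀ G₀ j U (eGen (D.map j.hom) G₀ U (z' k))) :
    ∃ (j' : Over i₀) (g : j' ⟶ j), ∀ k,
      (Stage.tr D i₀ U g).toLinearMap.lTensor Γ(G₀, U) (z k) =
        (Stage.tr D i₀ U g).toLinearMap.lTensor Γ(G₀, U) (z' k) := by
  haveI := isAffineHom_π_app D c hc i₀
  have hbij := eGen_bijective (c.π.app i₀) G₀ hU (hU.preimage (c.π.app i₀))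
  obtain ⟨j', t, ⟨g, rfl⟩, hk⟩ := lTensor_eq_zero_stage_fin (Stage.isStageSystem D c i₀ hc hU)
    n j (fun k => z k - z' k) (by
      intro k
      have := h k
      rw [tau_eGen, tau_eGen] at this
      have h2 := hbij.1 this
      rw [map_sub, h2, sub_self])
  refine ⟨j', g, fun k => ?_⟩
  have := hk k
  rwa [map_sub, sub_eq_zero] at this

end tower

end Groth.Agent.Lead.HomDesc
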