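import Mathlib
import Groth.Prelude.Def_CohTop

/-!
# Abelian sheaves on a space: monomorphisms, epimorphisms and exactness from sections
-/

set_option autoImplicit false
universe u
open CategoryTheory CategoryTheory.Limits TopologicalSpace Opposite

namespace Groth.Agent.Lead.AbLocal

variable {X : TopCat.{u}}

theorem mono_of_injective {F G : CohTop.Ab X} (φ : F ⟶ G)
    (h : ∀ U : Opens X, Function.Injective (φ.hom.app (op U))) : Mono φ := by
  haveI : ∀ V, Mono (φ.hom.app V) := by
    intro V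
    rw [AddCommGrpCat.mono_iff_injective]
    exact h V.unop
  haveI : Mono φ.hom := NatTrans.mono_of_mono_app _
  exact (sheafToPresheaf _ _).mono_of_mono_map (f := φ) this

theorem injective_of_mono {F G : CohTop.Ab X} (φ : F ⟶ G) [Mono φ] (U : Opens X) :
    Function.Injective (φ.hom.app (op U)) := by
  haveI : Mono φ.hom := (inferInstance : Mono ((sheafToPresheaf _ _).map φ))
  haveI : Mono (φ.hom.app (op U)) := inferInstance
  exact (AddCommGrpCat.mono_iff_injective _).mp inferInstance

theorem epi_of_local_lift {F G : CohTop.Ab X} (φ : F ⟶ G)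
    (h : ∀ (T : Opens X) (t : G.obj.obj (op T)) (x : X), x ∈ T → ∃ (W : Opens X) (hW : W ≤ T),
      x ∈ W ∧ ∃ s : F.obj.obj (op W), φ.hom.app (op W) s = G.obj.map (homOfLE hW).op t) :
    Epi φ := by
  refine (TopCat.Sheaf.isLocallySurjective_iff_epi φ).mp ?_
  rw [TopCat.Presheaf.isLocallySurjective_iff]
  intro T t x hx
  obtain ⟨W, hW, hxW, s, hs⟩ := h T t x hx
  exact ⟨W, hW, ⟨s, hs⟩, hxW⟩

theorem exact_of_local_lift (S : ShortComplex (CohTop.Ab X))
    (h : ∀ (T : Opens X) (t : S.X₂.obj.obj (op T)), S.g.hom.app (op T) t = 0 → ∀ x : X, x ∈ T →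
      ∃ (W : Opens X) (hW : W ≤ T), x ∈ W ∧
        ∃ r : S.X₁.obj.obj (op W), S.f.hom.app (op W) r = S.X₂.obj.map (homOfLE hW).op t) :
    S.Exact := by
  rw [S.exact_iff_epi_kernel_lift]
  apply epi_of_local_lift
  intro T k x hx
  have ht : S.g.hom.app (op T) ((kernel.ι S.g).hom.app (op T) k) = 0 := by
    have h1 : (kernel.ι S.g ≫ S.g).hom.app (op T) k = 0 := by
      rw [kernel.condition]
      rfl
    exact h1
  obtain ⟨W, hW, hxW, r, hr⟩ := h T _ ht x hx
  refine ⟨W, hW, hxW, r, ?_⟩
  apply injective_of_mono (kernel.ι S.g) W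
  have h2 : (kernel.ι S.g).hom.app (op W) ((kernel.lift S.g S.f S.zero).hom.app (op W) r) =
      S.f.hom.app (op W) r := by
    have h3 : (kernel.lift S.g S.f S.zero ≫ kernel.ι S.g).hom.app (op W) r =
        S.f.hom.app (op W) r := by
      rw [kernel.lift_ι]
    exact h3
  rw [h2, hr]
  exact (NatTrans.naturality_apply (kernel.ι S.g).hom (homOfLE hW).op k).symm

end Groth.Agent.Lead.AbLocal
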