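import Groth.Agent.Lead.OmegaSeqC
import Groth.Agent.Lead.OmegaUnivA
import Mathlib

set_option autoImplicit false
set_option backward.isDefEq.respectTransparency false
set_option backward.isDefEq.respectTransparency.types false
open CategoryTheory CategoryTheory.Limits AlgebraicGeometry Opposite TopologicalSpace
universe u

namespace Groth.Agent.Lead.GrpOmegaB

open Scheme.Modules OmegaSh

/-- two cartesian squares `(pr₁, pr₂)`, `(pr₁, ν)` over `f` and a section `Δ` of `pr₂` give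
`Ω ≅ (Δ ≫ ν)^* Ω`. -/
theorem nonempty_iso_of_two_squares {X S P : Scheme.{u}} (f : X ⟶ S) (pr₁ pr₂ ν : P ⟶ X)
    (h₂ : IsPullback pr₂ pr₁ f f) (hν : IsPullback ν pr₁ f f) (Δ : X ⟶ P)
    (hΔ₂ : Δ ≫ pr₂ = 𝟙 X) {Ω : X.Modules} (d : Der f Ω) (hd : IsUniversal d)
    {ΩP : P.Modules} (dP : Der pr₁ ΩP) (hdP : IsUniversal dP) :
    Nonempty (Ω ≅ (Scheme.Modules.pullback (Δ ≫ ν)).obj Ω) := by
  obtain ⟨c₁, hc₁, -⟩ := DerA.existsUnique_diffCompat f pr₁ pr₂ f h₂.w.symm Ω d hd ΩP dP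
  obtain ⟨c₂, hc₂, -⟩ := DerA.existsUnique_diffCompat f pr₁ ν f hν.w.symm Ω d hd ΩP dP
  haveI : IsIso c₁ := OmegaSeqC.isIso_of_isPullback f f pr₂ pr₁ h₂ d hd dP hdP c₁ hc₁
  haveI : IsIso c₂ := OmegaSeqC.isIso_of_isPullback f f ν pr₁ hν d hd dP hdP c₂ hc₂
  let e₁ : (Scheme.Modules.pullback pr₂).obj Ω ≅ (Scheme.Modules.pullback ν).obj Ω :=
    asIso c₁ ≪≫ (asIso c₂).symm
  let e₂ : (Scheme.Modules.pullback Δ).obj ((Scheme.Modules.pullback pr₂).obj Ω) ≅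
      (Scheme.Modules.pullback Δ).obj ((Scheme.Modules.pullback ν).obj Ω) :=
    (Scheme.Modules.pullback Δ).mapIso e₁
  exact ⟨((pullbackId X).app Ω).symm ≪≫ ((pullbackCongr hΔ₂).app Ω).symm ≪≫
    ((pullbackComp Δ pr₂).app Ω).symm ≪≫ e₂ ≪≫ (pullbackComp Δ ν).app Ω⟩

end Groth.Agent.Lead.GrpOmegaB
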