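import Groth.Agent.Lead.OmegaCnF
import Mathlib

set_option autoImplicit false
set_option backward.isDefEq.respectTransparency false
set_option backward.isDefEq.respectTransparency.types false
open CategoryTheory CategoryTheory.Limits AlgebraicGeometry Opposite TopologicalSpace
universe u

namespace Groth.Agent.Lead.GrpOmegaC

open Scheme.Modules OmegaSh Groth.Agent.Helper4 Groth.Agent.Lead.BCMap

section Phi
variable {Z X Y : Scheme.{u}} (i : Z ⟶ X) [QuasiCompact i] (f : X ⟶ Y) {Ω' : X.Modules}
  (d : Der f Ω')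

/-- the additive map `σ ↦ i^*(d σ)` on sections of the ideal of `i` -/
noncomputable def betaApp (U : X.Opens) :
    Γ(ClSub.idealMod i.ker, U) →+ Γ((Scheme.Modules.pullback i).obj Ω', i ⁻¹ᵁ U) :=
  ((pullSect i Ω' U).hom).comp ((d.app U).comp (idealSect i.ker U))

omit [QuasiCompact i] in
theorem betaApp_apply (U : X.Opens) (σ : Γ(ClSub.idealMod i.ker, U)) :
    betaApp i f d U σ = pullSect i Ω' U (d.app U (idealSect i.ker U σ)) := rfl

theorem betaApp_smul (U : X.Opens) (r : Γ(X, U)) (σ : Γ(ClSub.idealMod i.ker, U)) :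
    betaApp i f d U (r • σ) = i.app U r • betaApp i f d U σ := by
  rw [betaApp_apply, betaApp_apply, OmegaCnC.idealSect_smul]
  have h1 : d.app U (r * idealSect i.ker U σ) =
      r • d.app U (idealSect i.ker U σ) + idealSect i.ker U σ • d.app U r :=
    d.d_mul (X := op U) r (idealSect i.ker U σ)
  rw [h1, map_add, ← OmegaCnB.pbSec_self, ← OmegaCnB.pbSec_self, ← OmegaCnB.pbSec_self,
    pbSec_smul, pbSec_smul, Scheme.Hom.appLE_eq_app,
    OmegaCnF.app_idealSect_general i U σ, zero_smul, add_zero]

omit [QuasiCompact i] in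
theorem betaApp_res {U V : X.Opens} (h : V ≤ U) (σ : Γ(ClSub.idealMod i.ker, U)) :
    betaApp i f d V ((ClSub.idealMod i.ker).presheaf.map (homOfLE h).op σ) =
      ((Scheme.Modules.pullback i).obj Ω').presheaf.map (homOfLE (i.preimage_mono h)).op
        (betaApp i f d U σ) := by
  rw [betaApp_apply, betaApp_apply]
  have h1 : idealSect i.ker V ((ClSub.idealMod i.ker).presheaf.map (homOfLE h).op σ) =
      X.presheaf.map (homOfLE h).op (idealSect i.ker U σ) :=
    StalkExact.app_res (ClSub.idealModι i.ker) (homOfLE h) σ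
  have h2 : d.app V (X.presheaf.map (homOfLE h).op (idealSect i.ker U σ)) =
      Ω'.presheaf.map (homOfLE h).op (d.app U (idealSect i.ker U σ)) :=
    DerA.der_map d (homOfLE h) _
  rw [h1, h2]
  have h3 := pbSec_res i Ω' (le_refl (i ⁻¹ᵁ U)) (le_refl (i ⁻¹ᵁ V)) h (i.preimage_mono h)
    (d.app U (idealSect i.ker U σ))
  rw [OmegaCnB.pbSec_self, OmegaCnB.pbSec_self] at h3
  exact h3

/-- `σ ↦ i^*(d σ)` as a morphism of `O_X`-modules `𝓘 ⟶ i_* i^* Ω'` -/
noncomputable def beta :
    ClSub.idealMod i.ker ⟶ (pushforward i).obj ((Scheme.Modules.pullback i).obj Ω') :=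
  ⟨PresheafOfModules.homMk
    { app := fun U => AddCommGrpCat.ofHom (betaApp i f d U.unop)
      naturality := fun U V g => by
        ext σ
        exact (betaApp_res i f d g.unop.le σ) }
    (fun U r σ => betaApp_smul i f d U.unop r σ)⟩

theorem beta_app (U : X.Opens) (σ : Γ(ClSub.idealMod i.ker, U)) :
    (beta i f d).app U σ = pullSect i Ω' U (d.app U (idealSect i.ker U σ)) := rfl

/-- existence of the canonical map `C_{Z/X} ⟶ i^*Ω'` induced by a derivation -/
theorem exists_isConormalDiff :
    ∃ φ : Omega.conormal i ⟶ (Scheme.Modules.pullback i).obj Ω', IsConormalDiff i d φ := by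
  refine ⟨((pullbackPushforwardAdjunction i).homEquiv _ _).symm (beta i f d), ?_⟩
  intro U σ
  have h1 : ((pullbackPushforwardAdjunction i).homEquiv _ _
      (((pullbackPushforwardAdjunction i).homEquiv _ _).symm (beta i f d))).app U σ =
      (((pullbackPushforwardAdjunction i).homEquiv _ _).symm (beta i f d)).app (i ⁻¹ᵁ U)
        (pullSect i (ClSub.idealMod i.ker) U σ) := by
    rw [Adjunction.homEquiv_unit]; rfl
  rw [Equiv.apply_symm_apply] at h1
  exact h1.symm.trans (beta_app i f d U σ)

end Phi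

end Groth.Agent.Lead.GrpOmegaC
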