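import Groth.Agent.Lead.OmegaCnD
import Groth.Agent.Lead.OmegaUnivA
import Mathlib

set_option autoImplicit false
set_option backward.isDefEq.respectTransparency false
set_option backward.isDefEq.respectTransparency.types false
open CategoryTheory CategoryTheory.Limits AlgebraicGeometry Opposite TopologicalSpace
universe u

namespace Groth.Agent.Lead.GrpOmegaD

open Scheme.Modules OmegaSh Groth.Agent.Helper4

/-- for a section `e` of a quasi-separated `f`, a canonical map `C_{S/X} ⟶ e^*Ω_{X/S}` is an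
isomorphism -/
theorem isIso_of_section {X S : Scheme.{u}} (f : X ⟶ S) [QuasiSeparated f] (e : S ⟶ X)
    (he : e ≫ f = 𝟙 S) [IsImmersion e] [QuasiCompact e] {Ω : X.Modules} (d : Der f Ω)
    (hd : IsUniversal d)
    (φ : Omega.conormal e ⟶ (Scheme.Modules.pullback e).obj Ω) (hφ : IsConormalDiff e d φ) :
    IsIso φ := by
  haveI : QuasiSeparated (e ≫ f) := by rw [he]; infer_instance
  have hZ := OmegaUnivA.isUniversal (e ≫ f)
  obtain ⟨c, hc, -⟩ := DerA.existsUnique_diffCompat f (e ≫ f) e (𝟙 S) (Category.comp_id _) Ω d hd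
    (Omega.sheaf (e ≫ f)) (dOmega (e ≫ f))
  have hgS : f ≫ e ≫ f = f := by rw [he, Category.comp_id]
  obtain ⟨w, hex, ⟨r, hr⟩, -⟩ := OmegaCnD.split f e f he hgS d (dOmega (e ≫ f)) hZ c hc hd φ hφ
  haveI : FormallyUnramified (e ≫ f) := by rw [he]; infer_instance
  have hz : IsZero (Omega.sheaf (e ≫ f)) :=
    (OmegaLocB.formallyUnramified_iff_isZero (e ≫ f) (dOmega (e ≫ f)) hZ).mp inferInstance
  have hc0 : c = 0 := hz.eq_of_tgt _ _
  haveI : Epi φ := hex.epi_f hc0
  haveI : Mono φ := mono_of_mono_fac hr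
  exact isIso_of_mono_of_epi φ

end Groth.Agent.Lead.GrpOmegaD
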