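import Groth.Agent.Helper4.PullUnit
import Groth.Agent.Helper4.QcohLimits
import Groth.Agent.Lead.StalkPull
import Mathlib

set_option autoImplicit false
set_option backward.isDefEq.respectTransparency false
set_option backward.isDefEq.respectTransparency.types false
universe u v
open CategoryTheory AlgebraicGeometry

namespace Groth.Agent.Lead.GrpOmegaF

open Scheme.Modules CategoryTheory.Limits

/-- pullback of a free module is free -/
theorem nonempty_pullback_free_iso {X Y : Scheme.{u}} (h : X ⟶ Y) (I : Type u) :
    Nonempty ((Scheme.Modules.pullback h).obj (∐ fun _ : I => Coh.structureModule Y) ≅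
      ∐ fun _ : I => Coh.structureModule X) := by
  haveI : (Scheme.Modules.pullback h).IsLeftAdjoint :=
    (Scheme.Modules.pullbackPushforwardAdjunction h).isLeftAdjoint
  exact ⟨PreservesCoproduct.iso (Scheme.Modules.pullback h) (fun _ : I => Coh.structureModule Y) ≪≫
    Sigma.mapIso (fun _ => Groth.Agent.Helper4.PullUnit.pullbackUnitIso h)⟩

/-- a quasi-coherent module over the spectrum of a field is free -/
theorem exists_free_iso_of_field (K : Type u) [Field K]
    (M : (Spec (CommRingCat.of K)).Modules) [M.IsQuasicoherent] :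
    ∃ I : Type u, Nonempty (M ≅ ∐ fun _ : I => Coh.structureModule (Spec (CommRingCat.of K))) := by
  haveI := Scheme.Modules.isIso_fromTildeΓ_of_isQuasicoherent M
  let N : ModuleCat.{u} (CommRingCat.of K) := (modulesSpecToSheaf.obj M).presheaf.obj (.op ⊤)
  haveI : Module.Free K N := Module.Free.of_divisionRing K N
  let b := Module.Free.chooseBasis K N
  refine ⟨Module.Free.ChooseBasisIndex K N, ⟨?_⟩⟩
  let e1 : N ≅ ModuleCat.of (CommRingCat.of K) (Module.Free.ChooseBasisIndex K N →₀ K) :=
    b.repr.toModuleIso
  let e0 : M ≅ tilde N := (asIso (Scheme.Modules.fromTildeΓ (R := CommRingCat.of K) M)).symm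
  let e2 : tilde N ≅ tilde (ModuleCat.of (CommRingCat.of K)
      (Module.Free.ChooseBasisIndex K N →₀ K)) := (tilde.functor (CommRingCat.of K)).mapIso e1
  exact e0 ≪≫ e2 ≪≫ tildeFinsupp _

end Groth.Agent.Lead.GrpOmegaF
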