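import Groth.Agent.Lead.GrpOmegaA
import Groth.Agent.Lead.GrpOmegaB
import Groth.Agent.Lead.GrpOmegaC
import Groth.Agent.Lead.GrpOmegaD
import Groth.Agent.Lead.GrpOmegaF
import Mathlib

set_option autoImplicit false
set_option backward.isDefEq.respectTransparency false
set_option backward.isDefEq.respectTransparency.types false
universe u v
open CategoryTheory MonoidalCategory CartesianMonoidalCategory MonObj GrpObj AlgebraicGeometry

namespace Groth.Agent.Lead.GrpOmegaE

open Scheme.Modules OmegaSh CategoryTheory.Limits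

theorem unit_comp (S : Scheme.{u}) (G : Over S) [GrpObj G] : η[G].left ≫ G.hom = 𝟙 S := by
  have := Over.w η[G]
  simp

/-- the conormal sheaf of the unit section is the pullback of the differentials -/
theorem conormal_iso (S : Scheme.{u}) (G : Over S) [GrpObj G] [QuasiSeparated G.hom] :
    Nonempty (Omega.conormal η[G].left ≅
      (Scheme.Modules.pullback η[G].left).obj (Omega.sheaf G.hom)) := by
  have he := unit_comp S G
  haveI : IsImmersion (η[G].left ≫ G.hom) := by
    rw [he]; exact (inferInstance : IsImmersion (𝟙 S))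
  haveI : IsImmersion η[G].left := IsImmersion.of_comp η[G].left G.hom
  haveI : QuasiCompact (η[G].left ≫ G.hom) := by
    rw [he]; exact (inferInstance : QuasiCompact (𝟙 S))
  haveI : QuasiCompact η[G].left := QuasiCompact.of_comp η[G].left G.hom
  have hU := OmegaUnivA.isUniversal G.hom
  obtain ⟨φ, hφ⟩ := GrpOmegaC.exists_isConormalDiff η[G].left G.hom (dOmega G.hom)
  haveI : IsIso φ := GrpOmegaD.isIso_of_section G.hom η[G].left he (dOmega G.hom) hU φ hφ
  exact ⟨asIso φ⟩

theorem part1 (S : Scheme.{u}) (G : Over S) [GrpObj G] [QuasiSeparated G.hom] :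
    Nonempty (Omega.sheaf G.hom ≅
      (Scheme.Modules.pullback G.hom).obj (Omega.conormal η[G].left)) := by
  -- the two squares
  have sqν := (GrpOmegaA.nu_isPullback G).map (Over.forget S)
  simp only [Over.forget_obj, Over.forget_map] at sqν
  have h₂ : IsPullback (snd G G).left (fst G G).left G.hom G.hom :=
    (IsPullback.of_hasPullback G.hom G.hom).flip
  have hΔ₂ : (lift (𝟙 G) (𝟙 G)).left ≫ (snd G G).left = 𝟙 G.left := by
    rw [← Over.comp_left, lift_snd]; rfl
  have hΔν : (lift (𝟙 G) (𝟙 G)).left ≫ (lift (fst G G ≫ ι) (snd G G) ≫ μ).left =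
      G.hom ≫ η[G].left := by
    rw [← Over.comp_left, GrpOmegaA.diag_nu]; rfl
  haveI : QuasiSeparated (fst G G).left :=
    MorphismProperty.of_isPullback (P := @QuasiSeparated) h₂ inferInstance
  have hU := OmegaUnivA.isUniversal G.hom
  have hUP := OmegaUnivA.isUniversal (fst G G).left
  obtain ⟨e₁⟩ := GrpOmegaB.nonempty_iso_of_two_squares G.hom (fst G G).left (snd G G).left
    (lift (fst G G ≫ ι) (snd G G) ≫ μ).left h₂ sqν.flip (lift (𝟙 G) (𝟙 G)).left hΔ₂
    (dOmega G.hom) hU (dOmega (fst G G).left) hUP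
  obtain ⟨φ⟩ := conormal_iso S G
  exact ⟨e₁ ≪≫ (pullbackCongr hΔν).app _ ≪≫ ((pullbackComp G.hom η[G].left).app _).symm ≪≫
    (Scheme.Modules.pullback G.hom).mapIso φ.symm⟩

theorem part2 (S : Scheme.{u}) (G : Over S) [GrpObj G] [QuasiSeparated G.hom]
    (K : Type u) [Field K] (a : S ≅ Spec (CommRingCat.of K)) :
    ∃ I : Type u, Nonempty (Omega.sheaf G.hom ≅ ∐ fun _ : I => Coh.structureModule G.left) := by
  obtain ⟨e₁⟩ := part1 S G
  obtain ⟨φ⟩ := conormal_iso S G
  haveI : (Omega.sheaf G.hom).IsQuasicoherent :=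
    OmegaLocB.isQuasicoherent_of_isUniversal G.hom (dOmega G.hom) (OmegaUnivA.isUniversal G.hom)
  haveI := StalkPull.isQuasicoherent_pullbackObj η[G].left (Omega.sheaf G.hom)
  haveI : (Omega.conormal η[G].left).IsQuasicoherent :=
    Groth.Agent.Helper4.QcohLimits.isQuasicoherent_of_iso φ.symm
  haveI := StalkPull.isQuasicoherent_pullbackObj a.inv (Omega.conormal η[G].left)
  obtain ⟨I, ⟨e₂⟩⟩ := GrpOmegaF.exists_free_iso_of_field K
    ((Scheme.Modules.pullback a.inv).obj (Omega.conormal η[G].left))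
  obtain ⟨e₃⟩ := GrpOmegaF.nonempty_pullback_free_iso a.hom I
  obtain ⟨e₄⟩ := GrpOmegaF.nonempty_pullback_free_iso G.hom I
  have e₅ : Omega.conormal η[G].left ≅ ∐ fun _ : I => Coh.structureModule S :=
    ((pullbackId S).app _).symm ≪≫ ((pullbackCongr a.hom_inv_id).app _).symm ≪≫
      ((pullbackComp a.hom a.inv).app _).symm ≪≫ (Scheme.Modules.pullback a.hom).mapIso e₂ ≪≫ e₃
  exact ⟨I, ⟨e₁ ≪≫ (Scheme.Modules.pullback G.hom).mapIso e₅ ≪≫ e₄⟩⟩

end Groth.Agent.Lead.GrpOmegaE
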