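import Mathlib
import Groth.Prelude
import Groth.Agent.Lead.GrpOmegaE
import Groth.Agent.Lead.SmOmegaB
import Groth.Agent.Lead.LocLift6
import Groth.Agent.Lead.PullFF
import Groth.Agent.S7795
import Groth.Agent.Helper1.SS15
import Groth.Agent.Helper1.UF8

set_option autoImplicit false
set_option linter.style.haveILetI false
set_option linter.deprecated false
set_option linter.unusedSectionVars false
set_option backward.isDefEq.respectTransparency false
set_option backward.isDefEq.respectTransparency.types false
universe u
open CategoryTheory MonoidalCategory CartesianMonoidalCategory MonObj GrpObj AlgebraicGeometry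

namespace Groth.Agent.Lead.AbOmega
open Scheme.Modules OmegaSh CategoryTheory.Limits Opposite

/-- if `e ≫ f = 𝟙`, then pushing forward along `f` the unit of `e` at a pulled back module is an
isomorphism as soon as the unit of `f` is one -/
theorem isIso_push_map_unit {A B : Scheme.{u}} (f : A ⟶ B) (e : B ⟶ A) (he : e ≫ f = 𝟙 B)
    (N : B.Modules) [IsIso ((pullbackPushforwardAdjunction f).unit.app N)] :
    IsIso ((Scheme.Modules.pushforward f).map
      ((pullbackPushforwardAdjunction e).unit.app ((Scheme.Modules.pullback f).obj N))) := by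
  let adj := (pullbackPushforwardAdjunction f).comp (pullbackPushforwardAdjunction e)
  have iL : Scheme.Modules.pullback f ⋙ Scheme.Modules.pullback e ≅ 𝟭 _ :=
    pullbackComp e f ≪≫ pullbackCongr he ≪≫ pullbackId B
  haveI : (Scheme.Modules.pullback f ⋙ Scheme.Modules.pullback e).Full :=
    Functor.Full.of_iso iL.symm
  haveI : (Scheme.Modules.pullback f ⋙ Scheme.Modules.pullback e).Faithful :=
    Functor.Faithful.of_iso iL.symm
  haveI : IsIso adj.unit := adj.unit_isIso_of_L_fully_faithful
  have h : adj.unit.app N = (pullbackPushforwardAdjunction f).unit.app N ≫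
      (Scheme.Modules.pushforward f).map
        ((pullbackPushforwardAdjunction e).unit.app ((Scheme.Modules.pullback f).obj N)) :=
    Adjunction.comp_unit_app _ _ _
  have h2 : IsIso ((pullbackPushforwardAdjunction f).unit.app N ≫
      (Scheme.Modules.pushforward f).map
        ((pullbackPushforwardAdjunction e).unit.app ((Scheme.Modules.pullback f).obj N))) := by
    rw [← h]; infer_instance
  haveI := h2
  exact IsIso.of_isIso_comp_left ((pullbackPushforwardAdjunction f).unit.app N) _

section
variable {S : Scheme.{u}} (X : Over S) [GrpObj X] [IsProper X.hom] [Flat X.hom]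
  [LocallyOfFinitePresentation X.hom] [GeometricallyReduced X.hom] [GeometricallyConnected X.hom]

theorem smooth : Smooth X.hom := Groth.Agent.S7795.result X

theorem isFinLocFree_omega : FlatMod.IsFinLocFree (Omega.sheaf X.hom) := by
  haveI := smooth X
  intro x
  have hx : x ∈ X.hom.smoothLocus := by rw [Scheme.Hom.smoothLocus_eq_top]; trivial
  obtain ⟨-, U, n, hxU, hiso, -⟩ := SmOmegaB.fwd X.hom (Omega.sheaf X.hom) (dOmega X.hom)
    (OmegaUnivA.isUniversal X.hom) x hx
  exact ⟨U, n, hxU, hiso⟩

theorem bijective_app (V : S.Opens) : Function.Bijective (X.hom.app V) := by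
  have h := fun s => Groth.Agent.Helper1.SS.isIso_appTop_of_geometrically X.hom s
  haveI := Groth.Agent.Helper1.UF.isIso_app_of_isIso X.hom h V
  exact (ConcreteCategory.isIso_iff_bijective _).mp inferInstance

theorem isFinLocFree_pullback_omega :
    FlatMod.IsFinLocFree ((Scheme.Modules.pullback η[X].left).obj (Omega.sheaf X.hom)) :=
  LocLift.isFinLocFree_pullback η[X].left (isFinLocFree_omega X)

theorem isFinLocFree_conormal : FlatMod.IsFinLocFree (Omega.conormal η[X].left) := by
  obtain ⟨φ⟩ := GrpOmegaE.conormal_iso S X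
  exact Groth.Agent.Helper4.FinLocFree2.isFinLocFree_of_iso φ.symm (isFinLocFree_pullback_omega X)

theorem isIso_unit_conormal :
    IsIso ((pullbackPushforwardAdjunction X.hom).unit.app (Omega.conormal η[X].left)) :=
  PullFF.isIso_unit_of_isFinLocFree X.hom (fun V => bijective_app X V) _ (isFinLocFree_conormal X)

/-- S7839 -/
theorem s7839 :
    FlatMod.IsFinLocFree ((Scheme.Modules.pullback η[X].left).obj (Omega.sheaf X.hom)) ∧
      Nonempty ((Coh.push X.hom).obj (Omega.sheaf X.hom) ≅
        (Scheme.Modules.pullback η[X].left).obj (Omega.sheaf X.hom)) := by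
  refine ⟨isFinLocFree_pullback_omega X, ?_⟩
  obtain ⟨φ⟩ := GrpOmegaE.conormal_iso S X
  obtain ⟨ψ⟩ := GrpOmegaE.part1 S X
  haveI := isIso_unit_conormal X
  exact ⟨(Scheme.Modules.pushforward X.hom).mapIso ψ ≪≫
    (asIso ((pullbackPushforwardAdjunction X.hom).unit.app (Omega.conormal η[X].left))).symm ≪≫ φ⟩

/-- S15144 -/
theorem s15144 :
    Function.Bijective
      (((Scheme.Modules.pullbackPushforwardAdjunction η[X].left).unit.app
        (Omega.sheaf X.hom)).val.app (op ⊤)).hom := by
  obtain ⟨ψ⟩ := GrpOmegaE.part1 S X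
  haveI := isIso_unit_conormal X
  have hiso := isIso_push_map_unit X.hom η[X].left (GrpOmegaE.unit_comp S X)
    (Omega.conormal η[X].left)
  set u := (Scheme.Modules.pullbackPushforwardAdjunction η[X].left).unit with hu
  set F := (Scheme.Modules.pullback X.hom).obj (Omega.conormal η[X].left) with hF
  -- bijectivity for `F`
  haveI hdF : IsIso ((u.app F).app ⊤) := by
    rw [Scheme.Modules.Hom.isIso_iff_isIso_app] at hiso
    exact hiso ⊤
  -- naturality
  have hnat : ψ.hom ≫ u.app F = u.app (Omega.sheaf X.hom) ≫
      (Scheme.Modules.pullback η[X].left ⋙ Scheme.Modules.pushforward η[X].left).map ψ.hom :=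
    u.naturality ψ.hom
  have key : (u.app (Omega.sheaf X.hom)).app ⊤ = ψ.hom.app ⊤ ≫ (u.app F).app ⊤ ≫
      inv (((Scheme.Modules.pullback η[X].left ⋙
        Scheme.Modules.pushforward η[X].left).map ψ.hom).app ⊤) := by
    rw [← Category.assoc, ← Scheme.Modules.Hom.comp_app, hnat, Scheme.Modules.Hom.comp_app,
      Category.assoc, IsIso.hom_inv_id, Category.comp_id]
  have hfin : IsIso ((u.app (Omega.sheaf X.hom)).app ⊤) := by rw [key]; infer_instance
  have hfinal := (ConcreteCategory.isIso_iff_bijective ((u.app (Omega.sheaf X.hom)).app ⊤)).mp hfin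
  exact hfinal

end
end Groth.Agent.Lead.AbOmega
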