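import Groth.Agent.Lead.IntAvoid
import Groth.Agent.Lead.LiftPow2
import Mathlib

/-! Affine opens adapted to a closed immersion and an integral morphism. -/

set_option autoImplicit false
open CategoryTheory AlgebraicGeometry TopologicalSpace Opposite
universe u

namespace Groth.Agent.Lead.AdaptOpen
open Groth.Agent.Lead.LiftPow (res res_res res_self)

section PtIdeal
variable (X : Scheme.{u}) (U : X.Opens) (x : X) (hx : x ∈ U)

/-- the prime ideal of the sections over `U` vanishing at `x` -/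
noncomputable def ptIdeal : Ideal Γ(X, U) :=
  Ideal.comap (X.presheaf.germ U x hx).hom (IsLocalRing.maximalIdeal (X.presheaf.stalk x))

instance : (ptIdeal X U x hx).IsPrime := by
  unfold ptIdeal
  exact Ideal.comap_isPrime _ _

variable {X U x hx} in
lemma mem_ptIdeal (f : Γ(X, U)) : f ∈ ptIdeal X U x hx ↔ x ∉ X.basicOpen f := by
  rw [ptIdeal, Ideal.mem_comap, IsLocalRing.mem_maximalIdeal, mem_nonunits_iff,
    Scheme.mem_basicOpen _ _ _ hx]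

end PtIdeal

lemma comap_ptIdeal {Z Y : Scheme.{u}} (j : Z ⟶ Y) (V : Y.Opens) (z : Z) (hz : z ∈ j ⁻¹ᵁ V)
    (y : Y) (hy : y ∈ V) (hzy : j z = y) :
    (ptIdeal Z (j ⁻¹ᵁ V) z hz).comap (j.app V).hom = ptIdeal Y V y hy := by
  ext b
  rw [Ideal.mem_comap, mem_ptIdeal, mem_ptIdeal]
  have : Z.basicOpen ((j.app V).hom b) = j ⁻¹ᵁ Y.basicOpen b := (Scheme.preimage_basicOpen j b).symm
  rw [this]
  subst hzy
  rfl

variable {Z : Scheme.{u}}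

lemma basicOpen_res' {U V : Z.Opens} (h : U ≤ V) (f : Γ(Z, V)) :
    Z.basicOpen (res h f) = U ⊓ Z.basicOpen f := Scheme.basicOpen_res _ _ _

/-- the `N`-trick -/
lemma trick {W O : Z.Opens} (hW : IsAffineOpen W) (hO : IsAffineOpen O) (hWO : W ≤ O)
    (g : Γ(Z, O)) (hg : Z.basicOpen g ≤ W) (b : Γ(Z, W)) :
    ∃ (N : ℕ) (d : Γ(Z, O)), res hWO d = (res hWO g) ^ N * b := by
  obtain ⟨n, d, hd⟩ := LiftPow.exists_eq_pow_mul O hO g (res hg b)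
  have hbo : Z.basicOpen g = Z.basicOpen (res hWO g) := by
    rw [basicOpen_res']; exact (inf_eq_right.mpr hg).symm
  have hz : res hg (res hWO d - (res hWO g) ^ n * b) = 0 := by
    rw [map_sub, map_mul, map_pow, res_res, res_res, hd, sub_self]
  obtain ⟨m, hm⟩ := LiftPow.exists_pow_mul_eq_zero' hW.isCompact
    (res hWO d - (res hWO g) ^ n * b) (res hWO g) hbo hg hz
  refine ⟨m + n, g ^ m * d, ?_⟩
  rw [map_mul, map_pow]
  linear_combination hm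

/-- restrictions to `W` of sections over `O` whose basic open lies in `W` -/
def goodSet {W O : Z.Opens} (hWO : W ≤ O) : Set Γ(Z, W) :=
  {b | ∃ d : Γ(Z, O), Z.basicOpen d ≤ W ∧ res hWO d = b}

lemma good {W O : Z.Opens} (hW : IsAffineOpen W) (hO : IsAffineOpen O) (hWO : W ≤ O) :
    IntAvoid.Good (goodSet hWO) where
  zero := ⟨0, by simp, map_zero _⟩
  add := by
    rintro a b ⟨d₁, h₁, rfl⟩ ⟨d₂, h₂, rfl⟩
    exact ⟨d₁ + d₂, (Z.basicOpen_add_le d₁ d₂).trans (sup_le h₁ h₂), map_add _ _ _⟩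
  mul := by
    rintro a b ⟨d₁, h₁, rfl⟩ ⟨d₂, h₂, rfl⟩
    exact ⟨d₁ * d₂, by rw [Scheme.basicOpen_mul]; exact inf_le_left.trans h₁, map_mul _ _ _⟩
  trick := by
    rintro u ⟨g, hg, rfl⟩ b
    obtain ⟨N, d, hd⟩ := trick hW hO hWO g hg b
    exact ⟨N + 1, g * d, by rw [Scheme.basicOpen_mul]; exact inf_le_left.trans hg,
      by rw [map_mul, hd]; ring⟩

lemma span_goodSet {W O : Z.Opens} (hW : IsAffineOpen W) (hO : IsAffineOpen O) (hWO : W ≤ O) :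
    Ideal.span (goodSet hWO) = ⊤ := by
  by_contra hne
  obtain ⟨𝔪, h𝔪, hle⟩ := Ideal.exists_le_maximal _ hne
  have h𝔪p : 𝔪.IsPrime := h𝔪.isPrime
  let pt : Spec Γ(Z, W) := ⟨𝔪, h𝔪p⟩
  have hzW : hW.fromSpec pt ∈ W := by
    have : hW.fromSpec pt ∈ Set.range hW.fromSpec := ⟨pt, rfl⟩
    rw [hW.range_fromSpec] at this
    exact this
  obtain ⟨f, hfW, hzf⟩ := hO.exists_basicOpen_le ⟨hW.fromSpec pt, hzW⟩ (hWO hzW)
  have hmem : res hWO f ∈ 𝔪 := hle (Ideal.subset_span ⟨f, hfW, rfl⟩)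
  have hz2 : hW.fromSpec pt ∈ Z.basicOpen (res hWO f) := by
    rw [basicOpen_res']
    exact ⟨hzW, hzf⟩
  have hz3 : pt ∈ hW.fromSpec ⁻¹ᵁ Z.basicOpen (res hWO f) := hz2
  rw [hW.fromSpec_preimage_basicOpen] at hz3
  exact hz3 hmem

section Closed
variable {Y : Scheme.{u}} (j : Z ⟶ Y) [UniversallyClosed j]

lemma exists_affine_nhd (y : Y) (O : Z.Opens) (h : j ⁻¹' {y} ⊆ (O : Set Z)) :
    ∃ V : Y.Opens, IsAffineOpen V ∧ y ∈ V ∧ j ⁻¹ᵁ V ≤ O := by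
  have hcl : IsClosed (j '' (O : Set Z)ᶜ) := j.isClosedMap _ O.isOpen.isClosed_compl
  have hy : y ∈ (j '' (O : Set Z)ᶜ)ᶜ := by
    rintro ⟨z, hz, rfl⟩
    exact hz (h rfl)
  obtain ⟨V, hV, hyV, hVs⟩ := Opens.isBasis_iff_nbhd.mp Y.isBasis_affineOpens
    (U := ⟨_, hcl.isOpen_compl⟩) hy
  refine ⟨V, hV, hyV, ?_⟩
  intro z hz
  by_contra hzO
  exact hVs hz ⟨z, hzO, rfl⟩

lemma exists_basicOpen_nhd (y : Y) (V : Y.Opens) (hV : IsAffineOpen V) (hyV : y ∈ V) (O : Z.Opens)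
    (h : j ⁻¹' {y} ⊆ (O : Set Z)) :
    ∃ f : Γ(Y, V), y ∈ Y.basicOpen f ∧ j ⁻¹ᵁ (Y.basicOpen f) ≤ O := by
  have hcl : IsClosed (j '' (O : Set Z)ᶜ) := j.isClosedMap _ O.isOpen.isClosed_compl
  have hy : y ∈ (j '' (O : Set Z)ᶜ)ᶜ := by
    rintro ⟨z, hz, rfl⟩
    exact hz (h rfl)
  obtain ⟨f, hf, hyf⟩ := hV.exists_basicOpen_le (V := ⟨_, hcl.isOpen_compl⟩) ⟨y, hy⟩ hyV
  refine ⟨f, hyf, ?_⟩
  intro z hz
  by_contra hzO
  exact hf hz ⟨z, hzO, rfl⟩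

end Closed

theorem main {X Y : Scheme.{u}} (i : Z ⟶ X) [IsClosedImmersion i] (j : Z ⟶ Y) [IsIntegralHom j]
    (U : X.Opens) (hU : IsAffineOpen U) (y : Y) (hy : j ⁻¹' {y} ⊆ (i ⁻¹ᵁ U : Set Z)) :
    ∃ (U' : X.Opens) (V : Y.Opens), IsAffineOpen U' ∧ IsAffineOpen V ∧ y ∈ V ∧
      i ⁻¹ᵁ U' = j ⁻¹ᵁ V := by
  obtain ⟨V₁, hV₁, hyV₁, hWO⟩ := exists_affine_nhd j y (i ⁻¹ᵁ U) hy
  have hO : IsAffineOpen (i ⁻¹ᵁ U) := hU.preimage i
  have hW : IsAffineOpen (j ⁻¹ᵁ V₁) := hV₁.preimage j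
  have hψ : (j.app V₁).hom.IsIntegral := j.isIntegral_app V₁ hV₁
  obtain ⟨u, ⟨g, hgW, rfl⟩, hu⟩ := IntAvoid.key (j.app V₁).hom hψ (ptIdeal Y V₁ y hyV₁)
    (good hW hO hWO) (span_goodSet hW hO hWO)
  have hΦ : j ⁻¹' {y} ⊆ (Z.basicOpen g : Set Z) := by
    intro z hz
    have hzy : j z = y := hz
    have hzW : z ∈ j ⁻¹ᵁ V₁ := by
      show j z ∈ V₁
      rw [hzy]; exact hyV₁
    have h1 := hu (ptIdeal Z (j ⁻¹ᵁ V₁) z hzW) inferInstance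
      (comap_ptIdeal j V₁ z hzW y hyV₁ hzy)
    rw [mem_ptIdeal, not_not, basicOpen_res'] at h1
    exact h1.2
  obtain ⟨h, hyh, hjh⟩ := exists_basicOpen_nhd j y V₁ hV₁ hyV₁ (Z.basicOpen g) hΦ
  have hbh' : Z.basicOpen ((j.app V₁).hom h) = j ⁻¹ᵁ Y.basicOpen h :=
    (Scheme.preimage_basicOpen j h).symm
  have hle : Z.basicOpen ((j.app V₁).hom h) ≤ Z.basicOpen g := hbh'.le.trans hjh
  obtain ⟨n, d₀, hd₀⟩ := LiftPow.exists_eq_pow_mul (i ⁻¹ᵁ U) hO g (res hgW ((j.app V₁).hom h))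
  have hfinal : Z.basicOpen (g * d₀) = Z.basicOpen ((j.app V₁).hom h) := by
    have h1 : Z.basicOpen (res (Z.basicOpen_le g) d₀) = Z.basicOpen g ⊓ Z.basicOpen d₀ :=
      basicOpen_res' _ _
    have hunit : IsUnit (res (Z.basicOpen_le g) g) := RingedSpace.isUnit_res_basicOpen _ g
    have h2 : Z.basicOpen ((res (Z.basicOpen_le g) g) ^ n * res hgW ((j.app V₁).hom h)) =
        Z.basicOpen ((j.app V₁).hom h) := by
      rw [Scheme.basicOpen_mul, Scheme.basicOpen_of_isUnit _ (hunit.pow n), basicOpen_res',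
        ← inf_assoc, inf_idem]
      exact inf_eq_right.mpr hle
    rw [Scheme.basicOpen_mul, ← h1, hd₀, h2]
  obtain ⟨a, ha⟩ := i.app_surjective U hU (g * d₀)
  refine ⟨X.basicOpen a, Y.basicOpen h, hU.basicOpen a, hV₁.basicOpen h, hyh, ?_⟩
  rw [Scheme.preimage_basicOpen, ← hbh', ← hfinal, ← ha]

end Groth.Agent.Lead.AdaptOpen
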