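import Mathlib
import Groth.Agent.Lead.AffHomA
import Groth.Agent.Lead.OmegaUnivA

set_option autoImplicit false
set_option backward.isDefEq.respectTransparency false
set_option backward.isDefEq.respectTransparency.types false
universe u
open CategoryTheory AlgebraicGeometry TopologicalSpace Opposite

namespace Groth.Agent.Lead.AffDerA

open Scheme.Modules OmegaSh

variable {X S : Scheme.{u}} [IsAffine X] [IsAffine S] (f : X ⟶ S) (F : X.Modules)

theorem le_pre : (⊤ : X.Opens) ≤ f ⁻¹ᵁ (⊤ : S.Opens) := le_of_eq rfl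

/-- two module maps out of `Ω` agreeing on the `d s` over `⊤` are equal -/
theorem omega_hom_ext {α β : Omega.sheaf f ⟶ F}
    (h : ∀ s : Γ(X, ⊤), α.app ⊤ ((dOmega f).app ⊤ s) = β.app ⊤ ((dOmega f).app ⊤ s)) : α = β := by
  apply AffHomA.hom_ext
  intro m
  have hm : m ∈ Submodule.span Γ(X, ⊤) (Set.range ((dOmega f).app ⊤)) := by
    rw [OmegaUnivA.span_dOmega f (isAffineOpen_top X) (isAffineOpen_top S) (le_pre f)]
    trivial
  induction hm using Submodule.span_induction with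
  | mem x hx =>
    obtain ⟨s, rfl⟩ := hx
    exact h s
  | zero => rw [map_zero, map_zero]
  | add x y _ _ hx hy => rw [map_add, map_add, hx, hy]
  | smul a x _ hx => rw [Hom.app_smul, Hom.app_smul, hx]

theorem injective_app_top : Function.Injective (fun D : OmegaSh.Der f F => D.app ⊤) := by
  intro D₁ D₂ h
  obtain ⟨α₁, h₁, -⟩ := OmegaUnivA.isUniversal f F D₁
  obtain ⟨α₂, h₂, -⟩ := OmegaUnivA.isUniversal f F D₂
  have e : α₁ = α₂ := by
    apply omega_hom_ext
    intro s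
    have a1 := (DerA.postcomp_eq_iff (dOmega f) D₁ α₁).mp h₁ ⊤ s
    have a2 := (DerA.postcomp_eq_iff (dOmega f) D₂ α₂).mp h₂ ⊤ s
    rw [a1, a2]
    exact congrFun (congrArg DFunLike.coe h) s
  rw [← h₁, ← h₂, e]

theorem exists_der (δ : Γ(X, ⊤) →+ Γ(F, ⊤))
    (h1 : ∀ a b : Γ(X, ⊤), δ (a * b) = a • δ b + b • δ a)
    (h2 : ∀ c : Γ(S, ⊤), δ (f.appLE ⊤ ⊤ (le_pre f) c) = 0) :
    ∃ D : OmegaSh.Der f F, D.app ⊤ = δ := by
  letI := (f.appLE ⊤ ⊤ (le_pre f)).hom.toAlgebra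
  obtain ⟨ε, hε⟩ := OmegaSecA.exists_sectionsEquiv f (isAffineOpen_top X) (isAffineOpen_top S)
    (le_pre f)
  letI : Module Γ(S, ⊤) Γ(F, ⊤) := Module.compHom _ (algebraMap Γ(S, ⊤) Γ(X, ⊤))
  haveI : IsScalarTower Γ(S, ⊤) Γ(X, ⊤) Γ(F, ⊤) := ⟨fun a b m => by
    change (a • b) • m = algebraMap Γ(S, ⊤) Γ(X, ⊤) a • b • m
    rw [Algebra.smul_def, mul_smul]⟩
  have h0 : δ 1 = 0 := by
    have := h1 1 1
    rw [mul_one, one_smul] at this
    have h' : δ 1 + δ 1 = δ 1 + 0 := by rw [add_zero]; exact this.symm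
    exact add_left_cancel h'
  let D' : Derivation Γ(S, ⊤) Γ(X, ⊤) Γ(F, ⊤) :=
    { toFun := fun s => δ s
      map_add' := fun a b => map_add _ a b
      map_smul' := fun a b => by
        change δ (a • b) = algebraMap Γ(S, ⊤) Γ(X, ⊤) a • δ b
        rw [Algebra.smul_def, h1]
        have : δ (algebraMap Γ(S, ⊤) Γ(X, ⊤) a) = 0 := h2 a
        rw [this, smul_zero, add_zero]
      map_one_eq_zero' := h0
      leibniz' := fun a b => h1 a b }
  let l := D'.liftKaehlerDifferential ∘ₗ ε.toLinearMap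
  obtain ⟨α, hα⟩ := AffHomA.exists_hom (Omega.sheaf f) F l.toAddMonoidHom
    (fun r m => l.map_smul r m)
  refine ⟨(dOmega f).postcomp α.val, ?_⟩
  ext s
  change α.app ⊤ ((dOmega f).app ⊤ s) = δ s
  rw [hα]
  change D'.liftKaehlerDifferential (ε ((dOmega f).app ⊤ s)) = _
  rw [hε, Derivation.liftKaehlerDifferential_comp_D]
  rfl

theorem appLE_top : f.appLE ⊤ ⊤ (le_pre f) = f.appTop := by
  have := f.appLE_eq_app (U := ⊤)
  exact this

end Groth.Agent.Lead.AffDerA
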