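import Mathlib
import Groth.Agent.Lead.AffDerA

set_option autoImplicit false
set_option backward.isDefEq.respectTransparency false
set_option backward.isDefEq.respectTransparency.types false
universe u
open CategoryTheory AlgebraicGeometry TopologicalSpace Opposite

namespace Groth.Agent.Lead.AffDerB

open Scheme.Modules OmegaSh

variable (A : Type u) [CommRing A] (B : CommRingCat.{u}) [Algebra A B]
  (L : ModuleCat.{u} B) [Module A L] [IsScalarTower A B L]

/-- the morphism `Spec B → Spec A` -/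
noncomputable abbrev fAB : Spec B ⟶ Spec (CommRingCat.of A) :=
  Spec.map (CommRingCat.ofHom (algebraMap A B))

/-- the module `L^~` -/
noncomputable abbrev FL : (Spec B).Modules := tilde L

/-- `B → Γ(Spec B, ⊤)` -/
noncomputable abbrev γinv : B →+* Γ(Spec B, ⊤) :=
  (Scheme.ΓSpecIso B).inv.hom

/-- `Γ(Spec B, ⊤) → B` -/
noncomputable abbrev γhom : Γ(Spec B, ⊤) →+* B :=
  (Scheme.ΓSpecIso B).hom.hom

theorem γinv_hom (s : Γ(Spec B, ⊤)) : γinv B (γhom B s) = s := by
  change ((Scheme.ΓSpecIso B).hom ≫ (Scheme.ΓSpecIso B).inv) s = s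
  rw [Iso.hom_inv_id]; rfl

theorem γhom_inv (b : B) : γhom B (γinv B b) = b := by
  change ((Scheme.ΓSpecIso B).inv ≫ (Scheme.ΓSpecIso B).hom) b = b
  rw [Iso.inv_hom_id]; rfl

/-- `L → Γ(L^~, ⊤)` -/
noncomputable abbrev φ : L →ₗ[B] Γ(FL B L, ⊤) :=
  (tilde.isoTop L).hom.hom

/-- `Γ(L^~, ⊤) → L` -/
noncomputable abbrev φinv : Γ(FL B L, ⊤) →ₗ[B] L :=
  (tilde.isoTop L).inv.hom

theorem φ_inv (x : Γ(FL B L, ⊤)) : φ B L (φinv B L x) = x := by
  change ((tilde.isoTop L).inv ≫
    (tilde.isoTop L).hom) x = x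
  rw [Iso.inv_hom_id]; rfl

theorem γinv_smul (b : B) (x : Γ(FL B L, ⊤)) : γinv B b • x = b • x := by
  rw [Scheme.Modules.smul_Spec_def]
  congr 1

theorem γinv_algebraMap (a : A) :
    γinv B (algebraMap A B a) = (fAB A B).appTop (γinv (CommRingCat.of A) a) := by
  have := Scheme.ΓSpecIso_inv_naturality (CommRingCat.ofHom (algebraMap A B))
  exact congr($this a)

theorem γhom_appTop (c : Γ(Spec (CommRingCat.of A), ⊤)) :
    γhom B ((fAB A B).appTop c) = algebraMap A B (γhom (CommRingCat.of A) c) := by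
  have := Scheme.ΓSpecIso_naturality (CommRingCat.ofHom (algebraMap A B))
  exact congr($this c)

theorem der_leibniz (D : OmegaSh.Der (fAB A B) (FL B L)) (a b : Γ(Spec B, ⊤)) :
    D.app ⊤ (a * b) = a • D.app ⊤ b + b • D.app ⊤ a := by
  rw [OmegaSh.Der.app_apply, D.d_mul]
  rfl

theorem der_base (D : OmegaSh.Der (fAB A B) (FL B L)) (c : Γ(Spec (CommRingCat.of A), ⊤)) :
    D.app ⊤ ((fAB A B).appTop c) = 0 := by
  have := OmegaUnivA.der_appLE (fAB A B) (AffDerA.le_pre (fAB A B)) D c
  rw [AffDerA.appLE_top] at this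
  exact this

theorem part1 (D : OmegaSh.Der (fAB A B) (FL B L)) :
    ∃ δ : Derivation A B L, ∀ t : B, D.app ⊤ (γinv B t) = φ B L (δ t) := by
  have hLeib : ∀ a b : B, φinv B L (D.app ⊤ (γinv B (a * b))) =
      a • φinv B L (D.app ⊤ (γinv B b)) + b • φinv B L (D.app ⊤ (γinv B a)) := by
    intro a b
    rw [map_mul, der_leibniz, map_add, γinv_smul, γinv_smul, LinearMap.map_smul, LinearMap.map_smul]
  have hbase : ∀ a : A, D.app ⊤ (γinv B (algebraMap A B a)) = 0 := by
    intro a
    rw [γinv_algebraMap, der_base]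
  let δ : Derivation A B L :=
    { toFun := fun t => φinv B L (D.app ⊤ (γinv B t))
      map_add' := fun a b => by rw [map_add, map_add, map_add]
      map_smul' := fun a b => by
        change φinv B L (D.app ⊤ (γinv B (a • b))) = a • φinv B L (D.app ⊤ (γinv B b))
        rw [Algebra.smul_def, hLeib, hbase, map_zero, smul_zero, add_zero, algebraMap_smul]
      map_one_eq_zero' := by
        change φinv B L (D.app ⊤ (γinv B 1)) = 0
        rw [map_one, OmegaSh.Der.app_apply, D.d_one, map_zero]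
      leibniz' := fun a b => hLeib a b }
  refine ⟨δ, fun t => ?_⟩
  change _ = φ B L (φinv B L (D.app ⊤ (γinv B t)))
  rw [φ_inv]

theorem part2 (δ : Derivation A B L) :
    ∃! D : OmegaSh.Der (fAB A B) (FL B L), ∀ t : B, D.app ⊤ (γinv B t) = φ B L (δ t) := by
  let δ' : Γ(Spec B, ⊤) →+ Γ(FL B L, ⊤) :=
    { toFun := fun s => φ B L (δ (γhom B s))
      map_zero' := by rw [map_zero, map_zero, map_zero]
      map_add' := fun a b => by rw [map_add, map_add, map_add] }
  have h1 : ∀ a b : Γ(Spec B, ⊤), δ' (a * b) = a • δ' b + b • δ' a := by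
    intro a b
    change φ B L (δ (γhom B (a * b))) = a • φ B L (δ (γhom B b)) + b • φ B L (δ (γhom B a))
    rw [map_mul, Derivation.leibniz, map_add, LinearMap.map_smul, LinearMap.map_smul, ← γinv_smul,
      ← γinv_smul,
      γinv_hom, γinv_hom]
  have h2 : ∀ c : Γ(Spec (CommRingCat.of A), ⊤),
      δ' ((fAB A B).appLE ⊤ ⊤ (AffDerA.le_pre (fAB A B)) c) = 0 := by
    intro c
    rw [AffDerA.appLE_top]
    change φ B L (δ (γhom B ((fAB A B).appTop c))) = 0
    rw [γhom_appTop, Derivation.map_algebraMap, map_zero]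
  obtain ⟨D, hD⟩ := AffDerA.exists_der (fAB A B) (FL B L) δ' h1 h2
  refine ⟨D, fun t => ?_, fun D' hD' => ?_⟩
  · rw [hD]
    change φ B L (δ (γhom B (γinv B t))) = _
    rw [γhom_inv]
  · apply AffDerA.injective_app_top (fAB A B) (FL B L)
    change D'.app ⊤ = D.app ⊤
    rw [hD]
    ext s
    rw [← γinv_hom B s, hD']
    change _ = φ B L (δ (γhom B (γinv B (γhom B s))))
    rw [γhom_inv]

end Groth.Agent.Lead.AffDerB
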