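import Mathlib

/-!
# Finiteness of the opens containing a dense open whose inclusion is affine
-/

set_option autoImplicit false
universe u
open CategoryTheory CategoryTheory.Limits AlgebraicGeometry TopologicalSpace

namespace Groth.Agent.Lead.AffOpenFin

section Top
variable {X : Type*} [TopologicalSpace X]

/-- maximal points (for generization) of a set -/
def maxPts (Z : Set X) : Set X := {ξ | ξ ∈ Z ∧ ∀ y ∈ Z, y ⤳ ξ → y = ξ}

theorem exists_maximal_generization [QuasiSober X] [T0Space X]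
    (z : X) : ∃ x' : X, x' ⤳ z ∧ ∀ y : X, y ⤳ x' → y = x' := by
  obtain ⟨x', hx'⟩ := QuasiSober.sober (isIrreducible_irreducibleComponent (x := z))
    isClosed_irreducibleComponent
  refine ⟨x', ?_, ?_⟩
  · rw [specializes_iff_mem_closure, hx'.def]
    exact mem_irreducibleComponent
  · intro y hy
    have h1 : irreducibleComponent z ⊆ closure {y} := by
      rw [← hx'.def]
      exact closure_minimal (Set.singleton_subset_iff.2 (specializes_iff_mem_closure.1 hy))
        isClosed_closure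
    have h2 : IsIrreducible (closure ({y} : Set X)) := isIrreducible_singleton.closure
    have h3 : closure ({y} : Set X) ⊆ irreducibleComponent z :=
      (irreducibleComponent_mem_irreducibleComponents z).2 h2 h1
    have h4 : IsGenericPoint y (irreducibleComponent z) := le_antisymm h3 h1
    exact h4.eq hx'

theorem exists_maxPt_specializes [QuasiSober X] [T0Space X] {Z : Set X} (hZ : IsClosed Z)
    {z : X} (hz : z ∈ Z) : ∃ ξ ∈ maxPts Z, ξ ⤳ z := by
  haveI : QuasiSober Z := hZ.isClosedEmbedding_subtypeVal.quasiSober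
  obtain ⟨x', h1, h2⟩ := exists_maximal_generization (⟨z, hz⟩ : Z)
  refine ⟨x'.1, ⟨x'.2, fun y hy hyx => ?_⟩, (subtype_specializes_iff x' ⟨z, hz⟩).1 h1⟩
  have := h2 ⟨y, hy⟩ ((subtype_specializes_iff _ _).2 hyx)
  exact congrArg Subtype.val this

theorem eq_of_maxPts_eq [QuasiSober X] [T0Space X] {Z Z' : Set X} (hZ : IsClosed Z)
    (hZ' : IsClosed Z') (h : maxPts Z = maxPts Z') : Z = Z' := by
  apply Set.Subset.antisymm
  · intro z hz
    obtain ⟨ξ, hξ, hs⟩ := exists_maxPt_specializes hZ hz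
    exact hs.mem_closed hZ' ((h ▸ hξ : ξ ∈ maxPts Z').1)
  · intro z hz
    obtain ⟨ξ, hξ, hs⟩ := exists_maxPt_specializes hZ' hz
    exact hs.mem_closed hZ ((h.symm ▸ hξ : ξ ∈ maxPts Z).1)

theorem finite_maxPts [NoetherianSpace X] [QuasiSober X] [T0Space X] {Z : Set X}
    (hZ : IsClosed Z) : (maxPts Z).Finite := by
  obtain ⟨S, hSf, hScl, hSirr, hS⟩ := NoetherianSpace.exists_finite_set_isClosed_irreducible hZ
  have hsub : maxPts Z ⊆ ⋃ t ∈ S, {x | IsGenericPoint x t} := by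
    intro ξ hξ
    have h1 : ξ ∈ ⋃₀ S := hS ▸ hξ.1
    obtain ⟨t, htS, hξt⟩ := h1
    obtain ⟨g, hg⟩ := QuasiSober.sober (hSirr t htS) (hScl t htS)
    have hgt : g ∈ t := hg.mem
    have hgZ : g ∈ Z := by rw [hS]; exact ⟨t, htS, hgt⟩
    have hsp : g ⤳ ξ := by
      rw [specializes_iff_mem_closure, hg.def]; exact hξt
    have := hξ.2 g hgZ hsp
    simp only [Set.mem_iUnion, Set.mem_setOf_eq]
    exact ⟨t, htS, this ▸ hg⟩
  refine Set.Finite.subset (Set.Finite.biUnion hSf fun t _ => ?_) hsub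
  apply Set.Subsingleton.finite
  intro a ha b hb
  exact IsGenericPoint.eq ha hb

/-- a maximal point of a Noetherian sober space lies in every dense open. -/
theorem mem_of_dense_of_maximal [NoetherianSpace X] [QuasiSober X] [T0Space X] {U : Set X}
    (hUo : IsOpen U) (hU : Dense U) (y : X) (hy : ∀ z : X, z ⤳ y → z = y) : y ∈ U := by
  obtain ⟨S, hSf, hScl, hSirr, hS⟩ :=
    NoetherianSpace.exists_finite_set_isClosed_irreducible (isClosed_univ (X := X))
  let T : Set X := ⋃ t ∈ {t ∈ S | y ∉ t}, t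
  have hTcl : IsClosed T :=
    Set.Finite.isClosed_biUnion (hSf.subset (fun t ht => ht.1)) (fun t ht => hScl t ht.1)
  have hyT : y ∈ Tᶜ := by
    intro h
    simp only [T, Set.mem_iUnion, Set.mem_setOf_eq] at h
    obtain ⟨t, ⟨_, h1⟩, h2⟩ := h
    exact h1 h2
  obtain ⟨u, huT, huU⟩ := hU.inter_open_nonempty Tᶜ hTcl.isOpen_compl ⟨y, hyT⟩
  have hu : u ∈ ⋃₀ S := hS ▸ Set.mem_univ u
  obtain ⟨t, htS, hut⟩ := hu
  have hyt : y ∈ t := by
    by_contra hc
    apply huT
    simp only [T, Set.mem_iUnion, Set.mem_setOf_eq]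
    exact ⟨t, ⟨htS, hc⟩, hut⟩
  obtain ⟨g, hg⟩ := QuasiSober.sober (hSirr t htS) (hScl t htS)
  have hgy : g ⤳ y := by
    rw [specializes_iff_mem_closure, hg.def]; exact hyt
  have hgy' : g = y := hy g hgy
  have hyu : y ⤳ u := by
    rw [specializes_iff_mem_closure, ← hgy', hg.def]; exact hut
  exact hyu.mem_open hUo huU

end Top


section Sch
variable {S : Scheme.{u}}

/-- in a local ring of dimension `≤ 1`, a proper generization of the closed point is a maximal
point. -/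
theorem maximal_of_dim_le_one (ξ : S) (hdim : ringKrullDim (S.presheaf.stalk ξ) ≤ 1) (y : S)
    (hy : y ⤳ ξ) (hne : y ≠ ξ) (z : S) (hz : z ⤳ y) : z = y := by
  have hr := Scheme.range_fromSpecStalk (X := S) (x := ξ)
  have hyr : y ∈ Set.range (S.fromSpecStalk ξ) := by rw [hr]; exact hy
  have hzr : z ∈ Set.range (S.fromSpecStalk ξ) := by rw [hr]; exact hz.trans hy
  obtain ⟨py, rfl⟩ := hyr
  obtain ⟨pz, rfl⟩ := hzr
  have hemb : Topology.IsEmbedding (S.fromSpecStalk ξ) := (S.fromSpecStalk ξ).isEmbedding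
  have hzy : pz ⤳ py := hemb.isInducing.specializes_iff.1 hz
  let qy : PrimeSpectrum (S.presheaf.stalk ξ) := py
  let qz : PrimeSpectrum (S.presheaf.stalk ξ) := pz
  have hle : qz ≤ qy := (PrimeSpectrum.le_iff_specializes (R := S.presheaf.stalk ξ) qz qy).2 hzy
  have h1 := (Order.krullDim_le_one_iff (α := PrimeSpectrum (S.presheaf.stalk ξ))).1 hdim qy
  rcases h1 with h1 | h1
  · have e : qz = qy := le_antisymm hle (h1 hle)
    exact congrArg (fun q => S.fromSpecStalk ξ q) e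
  · exfalso
    apply hne
    have hc : qy ≤ IsLocalRing.closedPoint (S.presheaf.stalk ξ) :=
      IsLocalRing.le_maximalIdeal qy.2.ne_top
    have e : qy = IsLocalRing.closedPoint (S.presheaf.stalk ξ) := le_antisymm hc (h1 hc)
    have e2 : S.fromSpecStalk ξ py = S.fromSpecStalk ξ (IsLocalRing.closedPoint (S.presheaf.stalk ξ)) :=
      congrArg (fun q => S.fromSpecStalk ξ q) e
    rw [e2]
    exact Scheme.fromSpecStalk_closedPoint

theorem isAffineOpen_inf_of_isAffineHom (V : S.Opens) [IsAffineHom V.ι] {W : S.Opens}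
    (hW : IsAffineOpen W) : IsAffineOpen (V ⊓ W) := by
  have h := IsAffineHom.isAffine_preimage (f := V.ι) W hW
  rw [← Scheme.Hom.isAffineOpen_iff_of_isOpenImmersion (Scheme.Opens.ι (X := S) V),
    Scheme.Hom.image_preimage_eq_opensRange_inf, Scheme.Opens.opensRange_ι] at h
  exact h

theorem isAffineHom_of_forall_inf (V : S.Opens)
    (h : ∀ W : S.Opens, IsAffineOpen W → IsAffineOpen (V ⊓ W)) : IsAffineHom V.ι := by
  apply isAffineHom_of_forall_exists_isAffineOpen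
  intro x
  obtain ⟨_, ⟨W, hW, rfl⟩, hxW, -⟩ :=
    S.isBasis_affineOpens.exists_subset_of_mem_open (Set.mem_univ x) isOpen_univ
  refine ⟨W, hxW, hW, ?_⟩
  rw [← Scheme.Hom.isAffineOpen_iff_of_isOpenImmersion (Scheme.Opens.ι (X := S) V),
    Scheme.Hom.image_preimage_eq_opensRange_inf, Scheme.Opens.opensRange_ι]
  exact h W hW

theorem isAffineHom_inf [S.IsSeparated] (V₁ V₂ : S.Opens) [IsAffineHom V₁.ι] [IsAffineHom V₂.ι] :
    IsAffineHom (V₁ ⊓ V₂).ι := by
  apply isAffineHom_of_forall_inf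
  intro W hW
  have h1 := isAffineOpen_inf_of_isAffineHom V₁ hW
  have h2 := isAffineOpen_inf_of_isAffineHom V₂ hW
  have h3 := h1.inf h2
  have e : V₁ ⊓ V₂ ⊓ W = (V₁ ⊓ W) ⊓ (V₂ ⊓ W) := by
    ext x
    simp only [Opens.coe_inf, Set.mem_inter_iff, SetLike.mem_coe]
    tauto
  rw [e]
  exact h3

theorem exists_least [S.IsSeparated] (U : S.Opens) (𝒱 : Set S.Opens) (hfin : 𝒱.Finite)
    (h𝒱 : ∀ V ∈ 𝒱, U ≤ V ∧ IsAffineHom V.ι) :
    ∃ V₀ : S.Opens, (U ≤ V₀ ∧ IsAffineHom V₀.ι) ∧ ∀ V ∈ 𝒱, V₀ ≤ V := by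
  induction 𝒱, hfin using Set.Finite.induction_on with
  | empty =>
    refine ⟨⊤, ⟨le_top, ?_⟩, fun V hV => (Set.notMem_empty V hV).elim⟩
    exact isAffineHom_of_forall_inf ⊤ (fun W hW => by rw [top_inf_eq]; exact hW)
  | @insert a s _ _ ih =>
    obtain ⟨V₀, ⟨h1, h2⟩, h3⟩ := ih (fun V hV => h𝒱 V (Set.mem_insert_of_mem a hV))
    obtain ⟨ha1, ha2⟩ := h𝒱 a (Set.mem_insert a s)
    refine ⟨a ⊓ V₀, ⟨le_inf ha1 h1, isAffineHom_inf a V₀⟩, ?_⟩
    intro V hV
    rcases Set.mem_insert_iff.1 hV with rfl | hV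
    · exact inf_le_left
    · exact inf_le_right.trans (h3 V hV)

theorem main [IsNoetherian S] [S.IsSeparated] (U : S.Opens) (hU : Dense (U : Set S))
    (hdim : ∀ (V : S.Opens), IsAffineHom V.ι → ∀ ξ : S, ξ ∉ V →
      (∀ y : S, y ∉ V → y ⤳ ξ → y = ξ) → ringKrullDim (S.presheaf.stalk ξ) ≤ 1) :
    Set.Finite {V : S.Opens | U ≤ V ∧ IsAffineHom V.ι} ∧
      ∃ V₀ : S.Opens, (U ≤ V₀ ∧ IsAffineHom V₀.ι) ∧
        ∀ V : S.Opens, U ≤ V → IsAffineHom V.ι → V₀ ≤ V := by
  have hfin : Set.Finite {V : S.Opens | U ≤ V ∧ IsAffineHom V.ι} := by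
    have hG : (maxPts ((U : Set S)ᶜ)).Finite := finite_maxPts U.isOpen.isClosed_compl
    refine Set.Finite.of_injOn (f := fun V : S.Opens => maxPts ((V : Set S)ᶜ))
      (t := {s | s ⊆ maxPts ((U : Set S)ᶜ)}) ?_ ?_ hG.finite_subsets
    · rintro V ⟨hUV, hV⟩ ξ ⟨hξ1, hξ2⟩
      have hd := hdim V hV ξ hξ1 hξ2
      refine ⟨fun h => hξ1 (hUV h), fun y hy hyξ => ?_⟩
      by_contra hne
      have hmax := maximal_of_dim_le_one ξ hd y hyξ hne
      exact hy (mem_of_dense_of_maximal U.isOpen hU y hmax)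
    · rintro V ⟨-, -⟩ W ⟨-, -⟩ hVW
      have := eq_of_maxPts_eq V.isOpen.isClosed_compl W.isOpen.isClosed_compl hVW
      ext x
      have h2 := Set.ext_iff.1 this x
      simp only [Set.mem_compl_iff, SetLike.mem_coe] at h2
      exact not_iff_not.1 h2
  refine ⟨hfin, ?_⟩
  obtain ⟨V₀, h1, h2⟩ := exists_least U _ hfin (fun V hV => hV)
  exact ⟨V₀, h1, fun V hUV hV => h2 V ⟨hUV, hV⟩⟩

end Sch

end Groth.Agent.Lead.AffOpenFin
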