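import Groth.Agent.Lead.AmpDescC

/-!
# Descent of relative ampleness along a quasi-compact flat surjective base change
-/

set_option autoImplicit false
open CategoryTheory CategoryTheory.Limits AlgebraicGeometry Opposite TopologicalSpace
universe u

namespace Groth.Agent.Lead.AmpDesc
open Scheme.Modules Groth.Agent.Helper4 Groth.Agent.Helper4.PullUnit Groth.Agent.Helper4.AmpleIso

theorem isRelAmple_of_baseChange {X S S' : Scheme.{u}} (f : X ⟶ S) (L : X.Modules)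
    (hL : PicF.IsInvertible L) (g : S' ⟶ S) [QuasiCompact g] [Flat g] [Surjective g]
    (h : RelAmple.IsRelAmple (pullback.snd f g)
      ((Scheme.Modules.pullback (pullback.fst f g)).obj L)) :
    RelAmple.IsRelAmple f L := by
  obtain ⟨hqc, hamp⟩ := h
  haveI := hqc
  have hfst : Function.Surjective (pullback.fst f g) := (pullback.fst f g).surjective
  have hw : pullback.fst f g ≫ f = pullback.snd f g ≫ g := pullback.condition
  have hpre : ∀ V : S.Opens, (pullback.snd f g) ⁻¹ᵁ (g ⁻¹ᵁ V) =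
      (pullback.fst f g) ⁻¹ᵁ (f ⁻¹ᵁ V) := by
    intro V
    rw [← Scheme.Hom.comp_preimage, ← Scheme.Hom.comp_preimage, hw]
  have hgc : ∀ V : S.Opens, IsAffineOpen V → IsCompact ((g ⁻¹ᵁ V : S'.Opens) : Set S') :=
    quasiCompact_iff_forall_isAffineOpen.mp inferInstance
  have hfc : ∀ V : S.Opens, IsAffineOpen V → IsCompact ((f ⁻¹ᵁ V : X.Opens) : Set X) := by
    intro V hV
    have h2 : IsCompact (((pullback.snd f g) ⁻¹ᵁ (g ⁻¹ᵁ V) : (pullback f g).Opens) : Set ↥(pullback f g)) :=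
      QuasiCompact.isCompact_preimage (f := pullback.snd f g) _ (g ⁻¹ᵁ V).isOpen (hgc V hV)
    have h3 : ((f ⁻¹ᵁ V : X.Opens) : Set X) = (pullback.fst f g) ''
        (((pullback.fst f g) ⁻¹ᵁ (f ⁻¹ᵁ V) : (pullback f g).Opens) : Set ↥(pullback f g)) :=
      (Set.image_preimage_eq _ hfst).symm
    rw [h3, ← hpre]
    exact h2.image (pullback.fst f g).continuous
  have hfqc : QuasiCompact f := quasiCompact_iff_forall_isAffineOpen.mpr hfc
  refine ⟨hfqc, fun V => ?_⟩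
  obtain ⟨I, hI, eI⟩ := isCompact_iff_finite_and_eq_biUnion_affineOpens.mp (hgc V.1 V.2)
  haveI : Finite I := hI.to_subtype
  have hIV : ∀ i : I, (i.1 : S'.Opens) ≤ g ⁻¹ᵁ V.1 := by
    intro i
    rw [eI]
    exact le_iSup₂_of_le i.1 i.2 le_rfl
  haveI : IsAffine ((V.1 : S.Opens) : Scheme.{u}) := V.2
  haveI : ∀ i : I, IsAffine (((i.1 : S'.affineOpens) : S'.Opens) : Scheme.{u}) := fun i => i.1.2
  haveI : CompactSpace ((f ⁻¹ᵁ V.1 : X.Opens) : Scheme.{u}) :=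
    isCompact_iff_compactSpace.mp (hfc V.1 V.2)
  have hle : ∀ i : I, (pullback.snd f g) ⁻¹ᵁ (i.1 : S'.Opens) ≤
      (pullback.fst f g) ⁻¹ᵁ (f ⁻¹ᵁ V.1) := by
    intro i
    rw [← hpre]
    exact (pullback.snd f g).preimage_mono (hIV i)
  have hUY : ∀ i : I, (pullback.snd f g) ⁻¹ᵁ (i.1 : S'.Opens) =
      (pullback.fst f g) ⁻¹ᵁ (f ⁻¹ᵁ V.1) ⊓ (pullback.snd f g) ⁻¹ᵁ (i.1 : S'.Opens) :=
    fun i => (inf_eq_right.mpr (hle i)).symm
  refine isAmple_of_family (f.resLE V.1 (f ⁻¹ᵁ V.1) le_rfl) (ι := I)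
    (fun i => (((i.1 : S'.affineOpens) : S'.Opens) : Scheme.{u}))
    (fun i => (((pullback.snd f g) ⁻¹ᵁ (i.1 : S'.Opens) : (pullback f g).Opens) : Scheme.{u}))
    (fun i => g.resLE V.1 i.1 (hIV i))
    (fun i => (pullback.fst f g).resLE (f ⁻¹ᵁ V.1) ((pullback.snd f g) ⁻¹ᵁ (i.1 : S'.Opens)) (hle i))
    (fun i => (pullback.snd f g).resLE i.1 ((pullback.snd f g) ⁻¹ᵁ (i.1 : S'.Opens)) le_rfl)
    (fun i => Scheme.Hom.isPullback_resLE (IsPullback.of_hasPullback f g) (hIV i) le_rfl (hUY i))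
    ?_ (QAffSec.isInvertible_restrict _ hL) ?_
  · rintro ⟨x₀, hx₀⟩
    obtain ⟨z, rfl⟩ := hfst x₀
    have hz : pullback.snd f g z ∈ g ⁻¹ᵁ V.1 := by
      have : z ∈ (pullback.snd f g) ⁻¹ᵁ (g ⁻¹ᵁ V.1) := by rw [hpre]; exact hx₀
      exact this
    rw [eI] at hz
    obtain ⟨i, hi, hzi⟩ : ∃ i ∈ I, pullback.snd f g z ∈ (i : S'.Opens) := by
      simpa [Opens.mem_iSup] using hz
    refine ⟨⟨i, hi⟩, ⟨z, hzi⟩, ?_⟩
    apply Subtype.ext
    have h1 := Scheme.Hom.resLE_comp_ι (pullback.fst f g) (hle ⟨i, hi⟩)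
    have h2 := congrArg (fun φ => φ.base ⟨z, hzi⟩) h1
    exact h2
  · intro i
    refine isAmple_of_iso ((restrictPullbackIso ((pullback.snd f g) ⁻¹ᵁ (i.1 : S'.Opens)).ι
      (f ⁻¹ᵁ V.1).ι (pullback.fst f g) _ (Scheme.Hom.resLE_comp_ι _ (hle i)).symm).app L) (hamp i.1)

end Groth.Agent.Lead.AmpDesc
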