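import Groth.Agent.Lead.AnnSheaf
import Groth.Agent.Lead.BCMap7
import Groth.Agent.Lead.LimPres
import Mathlib

/-!
# Lead: the annihilator ideal sheaf commutes with flat base change
-/

set_option autoImplicit false
open CategoryTheory AlgebraicGeometry Opposite TopologicalSpace TensorProduct
universe u

namespace Groth.Agent.Lead.AnnFlat

theorem annihilator_le_map_of_flat {A B M N : Type u} [CommRing A] [CommRing B]
    [Algebra A B] [Module.Flat A B] [AddCommGroup M] [Module A M] [Module.Finite A M]
    [AddCommGroup N] [Module A N] [Module B N]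
    [IsScalarTower A B N] (ρ : M →ₗ[A] N) (hb : IsBaseChange B ρ) :
    Module.annihilator B N ≤ (Module.annihilator A M).map (algebraMap A B) := by
  classical
  intro b hbN
  obtain ⟨S, hS⟩ := (Module.Finite.fg_top : (⊤ : Submodule A M).FG)
  let I : Ideal A := Module.annihilator A M
  -- `φ : A → (S → M)`, `a ↦ (a • m)_m`
  let φ : A →ₗ[A] (S → M) := LinearMap.pi (fun m => LinearMap.toSpanSingleton A M m.1)
  have hex : Function.Exact (Submodule.subtype I) φ := by
    rw [LinearMap.exact_iff]
    ext a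
    simp only [LinearMap.mem_ker, Submodule.range_subtype]
    change φ a = 0 ↔ a ∈ Module.annihilator A M
    rw [← Submodule.annihilator_top, ← hS, Submodule.mem_annihilator_span]
    constructor
    · intro h m
      exact congrFun h m
    · intro h
      funext m
      exact h m
  have hex' := Module.Flat.lTensor_exact B hex
  -- the element `b ⊗ 1`
  have hz : (φ.lTensor B) (b ⊗ₜ[A] (1 : A)) = 0 := by
    rw [LinearMap.lTensor_tmul]
    apply (TensorProduct.piRight A A B (fun _ : S => M)).injective
    rw [map_zero, TensorProduct.piRight_apply, TensorProduct.piRightHom_tmul]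
    funext m
    change b ⊗ₜ[A] ((1 : A) • m.1) = 0
    apply hb.equiv.injective
    rw [map_zero, hb.equiv_tmul]
    exact Module.mem_annihilator.mp hbN _
  obtain ⟨y, hy⟩ := (hex' _).mp hz
  -- apply the multiplication map `B ⊗ A → B`
  have hmul := congrArg (TensorProduct.rid A B) hy
  rw [TensorProduct.rid_tmul, one_smul] at hmul
  rw [← hmul]
  clear hy hmul
  induction y using TensorProduct.induction_on with
  | zero => simp
  | tmul b' a =>
    rw [LinearMap.lTensor_tmul, TensorProduct.rid_tmul]
    change (a.1 : A) • b' ∈ _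
    rw [Algebra.smul_def]
    exact Ideal.mul_mem_right _ _ (Ideal.mem_map_of_mem _ a.2)
  | add y₁ y₂ h₁ h₂ =>
    rw [map_add, map_add]
    exact Ideal.add_mem _ h₁ h₂

/-- the easy inclusion: `Ann_A(M) B ≤ Ann_B(N)` for `N` generated by the image of `M` -/
theorem map_annihilator_le {A B M N : Type u} [CommRing A] [CommRing B]
    [Algebra A B] [AddCommGroup M] [Module A M]
    [AddCommGroup N] [Module A N] [Module B N]
    [IsScalarTower A B N] (ρ : M →ₗ[A] N) (hb : IsBaseChange B ρ) :
    (Module.annihilator A M).map (algebraMap A B) ≤ Module.annihilator B N := by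
  rw [Ideal.map_le_iff_le_comap]
  intro a ha
  rw [Ideal.mem_comap, Module.mem_annihilator]
  intro n
  induction n using hb.inductionOn with
  | zero => exact smul_zero _
  | tmul m =>
    rw [algebraMap_smul, ← map_smul, Module.mem_annihilator.mp ha m, map_zero]
  | smul b n hn => rw [smul_comm, hn, smul_zero]
  | add n₁ n₂ h₁ h₂ => rw [smul_add, h₁, h₂, add_zero]

open Scheme.Modules Groth.Agent.Helper4 Groth.Agent.Lead.BCMap Limits

variable {Y X : Scheme.{u}} (f : Y ⟶ X)

theorem appLE_congr_hom {P X : Scheme.{u}} {g₁ g₂ : P ⟶ X} (h : g₁ = g₂) (U : X.Opens)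
    (W : P.Opens) (e₁ : W ≤ g₁ ⁻¹ᵁ U) :
    g₁.appLE U W e₁ = g₂.appLE U W (h ▸ e₁) := by
  subst h
  rfl

/-- the pulled back ideal contains the image of the ideal -/
theorem map_le_comap_ideal (J : X.IdealSheafData) {U : X.Opens} (hU : IsAffineOpen U)
    {V : Y.Opens} (hV : IsAffineOpen V) (e : V ≤ f ⁻¹ᵁ U) :
    (J.ideal ⟨U, hU⟩).map (f.appLE U V e).hom ≤ (J.comap f).ideal ⟨V, hV⟩ := by
  rw [Ideal.map_le_iff_le_comap]
  intro a ha
  rw [Ideal.mem_comap]
  change _ ∈ (pullback.fst f J.subschemeι).ker.ideal ⟨V, hV⟩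
  rw [Scheme.Hom.ker_apply, RingHom.mem_ker]
  have hle : (pullback.fst f J.subschemeι) ⁻¹ᵁ V ≤
      (pullback.fst f J.subschemeι ≫ f) ⁻¹ᵁ U := by
    intro x hx
    exact e hx
  have h1 : f.appLE U V e ≫ (pullback.fst f J.subschemeι).app V =
      (pullback.fst f J.subschemeι ≫ f).appLE U ((pullback.fst f J.subschemeι) ⁻¹ᵁ V) hle := by
    rw [Scheme.Hom.app_eq_appLE, Scheme.Hom.appLE_comp_appLE]
  have h2 := appLE_congr_hom (pullback.condition (f := f) (g := J.subschemeι)) U
    ((pullback.fst f J.subschemeι) ⁻¹ᵁ V) hle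
  have h2' := Scheme.Hom.comp_appLE (pullback.snd f J.subschemeι) J.subschemeι U
    ((pullback.fst f J.subschemeι) ⁻¹ᵁ V)
    ((pullback.condition (f := f) (g := J.subschemeι)) ▸ hle)
  have h3 := congrArg (fun φ => φ.hom a) ((h1.trans h2).trans h2')
  simp only [CommRingCat.hom_comp, RingHom.comp_apply] at h3
  refine h3.trans ?_
  have h0 : (J.subschemeι.app U).hom a = 0 := by
    have := J.ker_subschemeι_app ⟨U, hU⟩
    rw [← RingHom.mem_ker, this]
    exact ha
  rw [h0, map_zero]

/-- if `F ≅ i_* i^* F` for the closed subscheme `i` cut out by `J`, then the pulled back ideal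
kills `f^* F` -/
theorem comap_ideal_le_annihilator (F : X.Modules) [F.IsQuasicoherent] (J : X.IdealSheafData)
    [IsIso ((pullbackPushforwardAdjunction J.subschemeι).unit.app F)] (V : Y.affineOpens) :
    (J.comap f).ideal V ≤
      Module.annihilator Γ(Y, V.1) Γ((Scheme.Modules.pullback f).obj F, V.1) := by
  have hpb : IsPullback (pullback.snd f J.subschemeι) (pullback.fst f J.subschemeι)
      J.subschemeι f := (IsPullback.of_hasPullback f J.subschemeι).flip
  haveI : ((Scheme.Modules.pullback J.subschemeι).obj F).IsQuasicoherent :=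
    StalkPull.isQuasicoherent_pullbackObj _ F
  haveI := isIso_bcMap_of_isAffineHom J.subschemeι f (pullback.snd f J.subschemeι)
    (pullback.fst f J.subschemeι) hpb ((Scheme.Modules.pullback J.subschemeι).obj F)
  let φ : (Scheme.Modules.pullback f).obj F ⟶ (pushforward (pullback.fst f J.subschemeι)).obj
      ((Scheme.Modules.pullback (pullback.snd f J.subschemeι)).obj
        ((Scheme.Modules.pullback J.subschemeι).obj F)) :=
    (Scheme.Modules.pullback f).map ((pullbackPushforwardAdjunction J.subschemeι).unit.app F) ≫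
      bcMap J.subschemeι f (pullback.snd f J.subschemeι) (pullback.fst f J.subschemeι) hpb.w
        ((Scheme.Modules.pullback J.subschemeι).obj F)
  haveI : IsIso φ := inferInstance
  intro a ha
  change a ∈ (pullback.fst f J.subschemeι).ker.ideal V at ha
  rw [Scheme.Hom.ker_apply, RingHom.mem_ker] at ha
  rw [Module.mem_annihilator]
  intro s
  have hiso := Scheme.Modules.Hom.isIso_iff_isIso_app.mp (inferInstance : IsIso φ) V.1
  rw [ConcreteCategory.isIso_iff_bijective] at hiso
  apply hiso.1
  rw [map_zero, Hom.app_smul]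
  erw [Scalar.pushforward_smul]
  erw [ha]
  rw [zero_smul]
  rfl

theorem main [Flat f] (F : X.Modules) [F.IsQuasicoherent]
    (hft : SheafOfModules.IsFiniteType (R := X.ringCatSheaf) F) (J : X.IdealSheafData)
    (hJ : ∀ U : X.affineOpens, J.ideal U = Module.annihilator Γ(X, U.1) Γ(F, U.1)) :
    ∀ V : Y.affineOpens, (J.comap f).ideal V =
      Module.annihilator Γ(Y, V.1) Γ((Scheme.Modules.pullback f).obj F, V.1) := by
  haveI : IsIso ((pullbackPushforwardAdjunction J.subschemeι).unit.app F) := by
    rw [ClUnit.main]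
    intro U a ha s
    rw [Scheme.IdealSheafData.ker_subschemeι, hJ] at ha
    exact Module.mem_annihilator.mp ha s
  haveI qc : ((Scheme.Modules.pullback f).obj F).IsQuasicoherent :=
    StalkPull.isQuasicoherent_pullbackObj f F
  have hft' : SheafOfModules.IsFiniteType (R := Y.ringCatSheaf)
      ((Scheme.Modules.pullback f).obj F) := LimPres.isFT_pullback f F hft
  have h1 : J.comap f ≤ AnnSheaf.annIdeal ((Scheme.Modules.pullback f).obj F) hft' :=
    fun V => comap_ideal_le_annihilator f F J V
  have h2 : AnnSheaf.annIdeal ((Scheme.Modules.pullback f).obj F) hft' ≤ J.comap f := by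
    apply Scheme.IdealSheafData.le_of_iSup_eq_top
      (fun p : {p : Y.affineOpens × X.affineOpens // p.1.1 ≤ f ⁻¹ᵁ p.2.1} => p.1.1)
    · rw [eq_top_iff]
      intro y _
      obtain ⟨_, ⟨U, hU : IsAffineOpen U, rfl⟩, hyU, -⟩ :=
        X.isBasis_affineOpens.exists_subset_of_mem_open (Set.mem_univ (f y)) isOpen_univ
      obtain ⟨_, ⟨V, hV : IsAffineOpen V, rfl⟩, hyV, hVU⟩ :=
        Y.isBasis_affineOpens.exists_subset_of_mem_open
          (show y ∈ ((f ⁻¹ᵁ U : Y.Opens) : Set Y) from hyU) (f ⁻¹ᵁ U).isOpen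
      rw [Opens.mem_iSup]
      exact ⟨⟨(⟨V, hV⟩, ⟨U, hU⟩), hVU⟩, hyV⟩
    · rintro ⟨⟨V, U⟩, e⟩
      obtain ⟨ρ, hρ, hb⟩ := exists_isBaseChange_pbSec f F U.2 V.2 e
      letI := (f.appLE U.1 V.1 e).hom.toAlgebra
      letI : Module Γ(X, U.1) Γ((Scheme.Modules.pullback f).obj F, V.1) :=
        Module.compHom _ (f.appLE U.1 V.1 e).hom
      haveI : IsScalarTower Γ(X, U.1) Γ(Y, V.1) Γ((Scheme.Modules.pullback f).obj F, V.1) :=
        IsScalarTower.of_compHom _ _ _
      haveI : Module.Flat Γ(X, U.1) Γ(Y, V.1) := f.flat_appLE U.2 V.2 e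
      haveI := SecDict.finite_sections U.2 F inferInstance hft
      have hA := annihilator_le_map_of_flat ρ hb
      have hB := map_le_comap_ideal f J U.2 V.2 e
      refine hA.trans (le_trans ?_ hB)
      rw [hJ]
      exact le_rfl
  intro V
  exact congrArg (fun I => I.ideal V) (le_antisymm h1 h2)

end Groth.Agent.Lead.AnnFlat
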