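import Mathlib

set_option autoImplicit false
universe u
open TensorProduct

namespace Groth.Agent.Lead.ArtSepA

/-- over an Artinian ring, a separating family of linear maps stays separating after a flat base
change -/
theorem sep_lTensor {A : Type u} [CommRing A] [IsArtinianRing A] {B : Type u} [CommRing B]
    [Algebra A B] [Module.Flat A B] {M : Type u} [AddCommGroup M] [Module A M] {ι : Type*}
    {N : ι → Type u} [∀ i, AddCommGroup (N i)] [∀ i, Module A (N i)]
    (u : ∀ i, M →ₗ[A] N i) (h : ∀ m, (∀ i, u i m = 0) → m = 0) (t : B ⊗[A] M)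
    (ht : ∀ i, (u i).lTensor B t = 0) : t = 0 := by
  classical
  obtain ⟨M₀, hfin, hM₀⟩ := TensorProduct.exists_finite_submodule_right_of_setFinite
    (M := B) ({t} : Set (B ⊗[A] M)) (Set.finite_singleton t)
  obtain ⟨t₀, ht₀⟩ := hM₀ (Set.mem_singleton t)
  haveI : IsArtinian A M₀ := inferInstance
  let w : ∀ i, M₀ →ₗ[A] N i := fun i => u i ∘ₗ M₀.subtype
  let S : Set (Submodule A M₀) := {K | ∃ J : Finset ι, K = ⨅ i ∈ J, LinearMap.ker (w i)}
  have hS : S.Nonempty := ⟨_, ∅, rfl⟩
  obtain ⟨K, ⟨J, rfl⟩, hmin⟩ := IsArtinian.set_has_minimal S hS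
  have hK : (⨅ i ∈ J, LinearMap.ker (w i)) = ⊥ := by
    rw [eq_bot_iff]
    intro m hm
    rw [Submodule.mem_bot]
    apply Subtype.ext
    apply h
    intro i
    have hle : (⨅ j ∈ insert i J, LinearMap.ker (w j)) ≤ ⨅ j ∈ J, LinearMap.ker (w j) := by
      apply iInf_mono
      intro j
      apply iInf_mono'
      intro hj
      exact ⟨Finset.mem_insert_of_mem hj, le_rfl⟩
    have heq : (⨅ j ∈ insert i J, LinearMap.ker (w j)) = ⨅ j ∈ J, LinearMap.ker (w j) := by
      by_contra hne
      exact hmin _ ⟨insert i J, rfl⟩ (lt_of_le_of_ne hle hne)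
    have hm' : m ∈ ⨅ j ∈ insert i J, LinearMap.ker (w j) := heq ▸ hm
    have : m ∈ LinearMap.ker (w i) := by
      have h1 := (Submodule.mem_iInf _).mp hm' i
      exact (Submodule.mem_iInf _).mp h1 (Finset.mem_insert_self i J)
    exact this
  let v : M₀ →ₗ[A] (∀ i : J, N i) := LinearMap.pi (fun i => w i)
  have hv : Function.Injective v := by
    rw [← LinearMap.ker_eq_bot, LinearMap.ker_pi, eq_bot_iff, ← hK]
    intro m hm
    rw [Submodule.mem_iInf] at hm
    rw [Submodule.mem_iInf]
    intro i
    rw [Submodule.mem_iInf]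
    intro hi
    exact hm ⟨i, hi⟩
  have hv' : Function.Injective (v.lTensor B) :=
    Module.Flat.lTensor_preserves_injective_linearMap v hv
  have hcomp : ∀ (i : J) (z : B ⊗[A] M₀),
      (TensorProduct.piRight A A B (fun i : J => N i)) (v.lTensor B z) i =
        (w i).lTensor B z := by
    intro i z
    induction z using TensorProduct.induction_on with
    | zero => simp
    | tmul b m => simp [v]
    | add x y hx hy => simp only [map_add, Pi.add_apply, hx, hy]
  have hz : v.lTensor B t₀ = 0 := by
    apply (TensorProduct.piRight A A B (fun i : J => N i)).injective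
    rw [map_zero]
    funext i
    rw [hcomp i t₀]
    have : (w i).lTensor B t₀ = (u i).lTensor B (M₀.subtype.lTensor B t₀) := by
      rw [← LinearMap.comp_apply, ← LinearMap.lTensor_comp]
    rw [this, ht₀, ht i.1]
    rfl
  have : t₀ = 0 := hv' (hz.trans (map_zero _).symm)
  rw [← ht₀, this, map_zero]

end Groth.Agent.Lead.ArtSepA
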