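import Groth.Agent.Lead.ModDict19
import Groth.Agent.Lead.ArtSepA
open CategoryTheory Limits AlgebraicGeometry TensorProduct

namespace Groth.Agent.Lead.ArtSepB
universe u
open Scheme.Modules Groth.Agent.Helper8.TildeBC Groth.Agent.Lead.ModDict

section nat
variable {X Y : Scheme.{u}} (f : X ⟶ Y) {U : Y.Opens} (hU : IsAffineOpen U) {V : X.Opens}
  (hV : IsAffineOpen V) (e : V ≤ f ⁻¹ᵁ U)
  {F G : Y.Modules} [F.IsQuasicoherent] [G.IsQuasicoherent] (δ : F ⟶ G)

/-- the comparison iso underlying `secFPullbackIso` -/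
noncomputable def cmp (F : Y.Modules) [F.IsQuasicoherent] :
    (resF hV).obj ((Scheme.Modules.pullback f).obj F) ≅
      (tilde.functor Γ(X, V)).obj
        ((ModuleCat.extendScalars.{u, u, u} (f.appLE U V e).hom).obj ((secF hU).obj F)) :=
  (Θ f hU hV e).app F ≪≫
      (Scheme.Modules.pullback (Spec.map (f.appLE U V e))).mapIso (tildeIso hU F).symm ≪≫
      (tildePullbackIso (f.appLE U V e)).app ((secF hU).obj F)

theorem arrow_left : (arrowIsoPullback f hU hV e δ).hom.left = (cmp f hU hV e F).hom := by
  simp [arrowIsoPullback, arrowIsoOfNatIso, arrowIsoTilde, cmp]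
  rfl

theorem arrow_right : (arrowIsoPullback f hU hV e δ).hom.right = (cmp f hU hV e G).hom := by
  simp [arrowIsoPullback, arrowIsoOfNatIso, arrowIsoTilde, cmp]
  rfl

theorem cmp_naturality :
    (cmp f hU hV e F).hom ≫ (tilde.functor Γ(X, V)).map
        ((ModuleCat.extendScalars.{u, u, u} (f.appLE U V e).hom).map ((secF hU).map δ)) =
      (resF hV).map ((Scheme.Modules.pullback f).map δ) ≫ (cmp f hU hV e G).hom := by
  have hw := (arrowIsoPullback f hU hV e δ).hom.w
  rw [arrow_left, arrow_right] at hw
  exact hw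

theorem secFPullbackIso_hom (F : Y.Modules) [F.IsQuasicoherent] :
    (secFPullbackIso f hU hV e F).hom =
      (moduleSpecΓFunctor (R := Γ(X, V))).map (cmp f hU hV e F).hom ≫
        inv ((tilde.adjunction (R := Γ(X, V))).unit.app _) := by
  simp [secFPullbackIso, cmp]

theorem secFPullbackIso_naturality :
    (secF hV).map ((Scheme.Modules.pullback f).map δ) ≫ (secFPullbackIso f hU hV e G).hom =
      (secFPullbackIso f hU hV e F).hom ≫
        (ModuleCat.extendScalars.{u, u, u} (f.appLE U V e).hom).map ((secF hU).map δ) := by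
  rw [secFPullbackIso_hom, secFPullbackIso_hom]
  have hunit := (tilde.adjunction (R := Γ(X, V))).unit.naturality
    ((ModuleCat.extendScalars.{u, u, u} (f.appLE U V e).hom).map ((secF hU).map δ))
  have h1 : (secF hV).map ((Scheme.Modules.pullback f).map δ) =
      (moduleSpecΓFunctor (R := Γ(X, V))).map
        ((resF hV).map ((Scheme.Modules.pullback f).map δ)) := rfl
  rw [h1, ← Category.assoc, ← Functor.map_comp, ← cmp_naturality, Functor.map_comp,
    Category.assoc, Category.assoc]
  congr 1
  rw [IsIso.comp_inv_eq, Category.assoc, IsIso.eq_inv_comp]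
  exact hunit.symm

end nat

end Groth.Agent.Lead.ArtSepB
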