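import Groth.Agent.Lead.ArtSepB
import Groth.Agent.Lead.DerPbA
import Groth.Agent.Helper4.StalkDict
import Groth.Prelude.Def_Coh
open CategoryTheory Limits AlgebraicGeometry TensorProduct Opposite

namespace Groth.Agent.Lead.ArtSepC
universe u
open Scheme.Modules Groth.Agent.Helper8.TildeBC Groth.Agent.Lead.ModDict Groth.Agent.Helper4

set_option backward.isDefEq.respectTransparency false in
/-- algebra core, in `ModuleCat` form -/
theorem sep_extendScalars {A B : Type u} [CommRing A] [CommRing B] [IsArtinianRing A]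
    (φ : A →+* B) (hφ : φ.Flat) {M : ModuleCat.{u} A} {ι : Type*} {N : ι → ModuleCat.{u} A}
    (w : ∀ i, M ⟶ N i) (h : ∀ m : M, (∀ i, (w i).hom m = 0) → m = 0)
    (σ : (ModuleCat.extendScalars.{u, u, u} φ).obj M)
    (hσ : ∀ i, ((ModuleCat.extendScalars.{u, u, u} φ).map (w i)).hom σ = 0) : σ = 0 := by
  letI := φ.toAlgebra
  haveI : Module.Flat A B := hφ
  exact ArtSepA.sep_lTensor (A := A) (B := B) (M := M) (N := fun i => N i)
    (fun i => (w i).hom) h σ hσ

theorem main {X X' : Scheme.{u}} [IsNoetherian X]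
    (hX : topologicalKrullDim X ≤ 0) (F : X.Modules) [Coh.IsQCoh F] {ι : Type u}
    (G : ι → X.Modules) [∀ i, Coh.IsQCoh (G i)] (u : ∀ i, F ⟶ G i) (g : X' ⟶ X) [Flat g]
    (h : (∀ (V : (X).Opens) (t : ↑((F).presheaf.obj (Opposite.op V))),
      (∀ i, (Scheme.Modules.Hom.mapPresheaf (u i)).app (Opposite.op V) t = 0) → t = 0)) :
    (∀ (V : (X').Opens) (t : ↑(((Scheme.Modules.pullback g).obj F).presheaf.obj (Opposite.op V))),
      (∀ i, (Scheme.Modules.Hom.mapPresheaf ((Scheme.Modules.pullback g).map (u i))).app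
        (Opposite.op V) t = 0) → t = 0) := by
  haveI : F.IsQuasicoherent := ‹Coh.IsQCoh F›
  haveI hGq : ∀ i, (G i).IsQuasicoherent := fun i => ‹∀ i, Coh.IsQCoh (G i)› i
  haveI : IsLocallyArtinian X := IsLocallyArtinian.of_topologicalKrullDim_le_zero hX
  intro V t ht
  apply DerPbA.section_eq_zero_of_locally
  intro x' hx'
  obtain ⟨_, ⟨U, hU, rfl⟩, hxU, -⟩ := X.isBasis_affineOpens.exists_subset_of_mem_open
    (Set.mem_univ (g x')) isOpen_univ
  obtain ⟨_, ⟨V', hV', rfl⟩, hxV', hV'le⟩ := X'.isBasis_affineOpens.exists_subset_of_mem_open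
    (show x' ∈ ((V ⊓ g ⁻¹ᵁ U : X'.Opens) : Set X') from ⟨hx', hxU⟩) (V ⊓ g ⁻¹ᵁ U).2
  have e : V' ≤ g ⁻¹ᵁ U := fun y hy => (hV'le hy).2
  have hV'V : V' ≤ V := fun y hy => (hV'le hy).1
  have hW : hV'.fromSpec ''ᵁ ⊤ = V' := StalkDict.image_top hV'
  have hWV : hV'.fromSpec ''ᵁ ⊤ ≤ V := hW.le.trans hV'V
  refine ⟨hV'.fromSpec ''ᵁ ⊤, hWV, hW.symm ▸ hxV', ?_⟩
  haveI : IsArtinianRing Γ(X, U) := IsLocallyArtinian.isArtinianRing_presheaf_obj ⟨U, hU⟩
  have hflat : (g.appLE U V' e).hom.Flat :=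
    HasRingHomProperty.appLE (P := @Flat) g inferInstance ⟨U, hU⟩ ⟨V', hV'⟩ e
  obtain ⟨τ, hτ⟩ : ∃ τ : (secF hV').obj ((Scheme.Modules.pullback g).obj F),
    τ = ((Scheme.Modules.pullback g).obj F).presheaf.map (homOfLE hWV).op t := ⟨_, rfl⟩
  suffices hτ0 : τ = 0 by
    rw [hτ] at hτ0
    exact hτ0
  have hτi : ∀ i, ((secF hV').map ((Scheme.Modules.pullback g).map (u i))).hom τ = 0 := by
    intro i
    have hnat := congrArg (fun φ => φ.hom t)
      ((Scheme.Modules.Hom.mapPresheaf ((Scheme.Modules.pullback g).map (u i))).naturality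
        (homOfLE hWV).op)
    change (Scheme.Modules.Hom.mapPresheaf ((Scheme.Modules.pullback g).map (u i))).app
      (op (hV'.fromSpec ''ᵁ ⊤)) τ = 0
    rw [hτ]
    refine Eq.trans hnat ?_
    change ((Scheme.Modules.pullback g).obj (G i)).presheaf.map (homOfLE hWV).op
      ((Scheme.Modules.Hom.mapPresheaf ((Scheme.Modules.pullback g).map (u i))).app (op V) t) = 0
    rw [ht i, map_zero]
  have hsep : ∀ m : (secF hU).obj F, (∀ i, ((secF hU).map (u i)).hom m = 0) → m = 0 := by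
    intro m hm
    exact h (hU.fromSpec ''ᵁ ⊤) m hm
  have hσ := sep_extendScalars (g.appLE U V' e).hom hflat (fun i => (secF hU).map (u i)) hsep
    ((secFPullbackIso g hU hV' e F).hom.hom τ) (by
      intro i
      have hn := ArtSepB.secFPullbackIso_naturality g hU hV' e (u i)
      have hn' := congrArg (fun φ => φ.hom τ) hn
      simp only [ModuleCat.hom_comp, LinearMap.comp_apply] at hn'
      rw [← hn', hτi i, map_zero])
  have hinj : Function.Injective (secFPullbackIso g hU hV' e F).hom.hom :=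
    ((ModuleCat.mono_iff_injective _).mp inferInstance)
  exact hinj (hσ.trans (map_zero _).symm)

end Groth.Agent.Lead.ArtSepC
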