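import Groth.Agent.Lead.DerA
import Mathlib

set_option autoImplicit false
set_option backward.isDefEq.respectTransparency false
set_option backward.isDefEq.respectTransparency.types false
open CategoryTheory CategoryTheory.Limits AlgebraicGeometry Opposite TopologicalSpace
universe u

namespace Groth.Agent.Lead.OmegaLocA
open Scheme.Modules OmegaSh

variable {X Y : Scheme.{u}} (f : X ⟶ Y) {U : X.Opens} {V : Y.Opens} (e : U ≤ f ⁻¹ᵁ V)

theorem resLE_app (W : (V : Scheme.{u}).Opens) (c : Γ(V, W)) :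
    (f.resLE V U e).app W c =
      f.appLE (V.ι ''ᵁ W) (U.ι ''ᵁ (f.resLE V U e ⁻¹ᵁ W))
        ((Scheme.Hom.le_resLE_preimage_iff f e W _).mp le_rfl) c := by
  rw [Scheme.Hom.app_eq_appLE, Scheme.Hom.resLE_appLE]
  rfl

theorem restrict_smul (M : X.Modules) (W : (U : Scheme.{u}).Opens) (a : Γ(U, W))
    (m : Γ(M.restrict U.ι, W)) :
    a • m = (show Γ(X, U.ι ''ᵁ W) from a) • (show Γ(M, U.ι ''ᵁ W) from m) := by
  have h : a • m = ((U.ι.appIso W).inv a) • (show Γ(M, U.ι ''ᵁ W) from m) := rfl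
  rw [h, Scheme.Opens.ι_appIso]
  rfl

/-- restriction of a derivation to an open of the source lying over an open of the base -/
noncomputable def restrictDer {Ω' : X.Modules} (d : Der f Ω') :
    Der (f.resLE V U e) (Ω'.restrict U.ι) where
  d {W} := d.d (X := op (U.ι ''ᵁ W.unop))
  d_mul {W} a b := by
    rw [restrict_smul, restrict_smul]
    exact d.d_mul (X := op (U.ι ''ᵁ W.unop)) a b
  d_map {W W'} i s := d.d_map (U.ι.opensFunctor.map i.unop).op s
  d_app {W} c := by
    change d.d (X := op (U.ι ''ᵁ (f.resLE V U e ⁻¹ᵁ W.unop))) ((f.resLE V U e).app W.unop c) = 0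
    rw [resLE_app, Scheme.Hom.appLE]
    change d.d (X := op (U.ι ''ᵁ (f.resLE V U e ⁻¹ᵁ W.unop)))
      (X.presheaf.map _ (f.app (V.ι ''ᵁ W.unop) c)) = 0
    rw [d.d_map]
    have := d.d_app (X := op (V.ι ''ᵁ W.unop)) c
    exact (congrArg _ this).trans (map_zero _)

theorem restrictDer_app {Ω' : X.Modules} (d : Der f Ω') (W : (U : Scheme.{u}).Opens)
    (s : Γ(U, W)) : (restrictDer f e d).app W s = d.app (U.ι ''ᵁ W) s := rfl

theorem map_injective_of_eq (M : X.Modules) {A B : X.Opens} (h : A = B) :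
    Function.Injective (M.presheaf.map (homOfLE h.le).op) := by
  subst h
  intro a b hab
  simpa using hab

theorem homEquiv_app {Ω' : X.Modules} {G : (U : Scheme.{u}).Modules}
    (γ : Ω'.restrict U.ι ⟶ G) (W : X.Opens) (m : Γ(Ω', W)) :
    ((restrictAdjunction U.ι).homEquiv _ _ γ).app W m =
      γ.app (U.ι ⁻¹ᵁ W) (Ω'.presheaf.map (homOfLE (U.ι.image_preimage_le W)).op m) := by
  rw [Adjunction.homEquiv_unit]
  rfl

theorem postcomp_iff {Ω' : X.Modules} (d : Der f Ω') {G : (U : Scheme.{u}).Modules}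
    (D : Der (f.resLE V U e) G) (γ : Ω'.restrict U.ι ⟶ G) :
    (restrictDer f e d).postcomp γ.val = D ↔
      d.postcomp ((restrictAdjunction U.ι).homEquiv _ _ γ).val =
        DerA.pushDer f (f.resLE V U e) U.ι V.ι (Scheme.Hom.resLE_comp_ι f e) D := by
  rw [DerA.postcomp_eq_iff, DerA.postcomp_eq_iff]
  constructor
  · intro H W s
    rw [homEquiv_app]
    have h1 : Ω'.presheaf.map (homOfLE (U.ι.image_preimage_le W)).op (d.app W s) =
        d.app (U.ι ''ᵁ (U.ι ⁻¹ᵁ W)) (X.presheaf.map (homOfLE (U.ι.image_preimage_le W)).op s) :=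
      (DerA.der_map d (homOfLE (U.ι.image_preimage_le W)) s).symm
    rw [h1]
    exact H (U.ι ⁻¹ᵁ W) _
  · intro H W' s
    have H1 := H (U.ι ''ᵁ W') s
    rw [homEquiv_app] at H1
    have hW : U.ι ⁻¹ᵁ (U.ι ''ᵁ W') = W' := U.ι.preimage_image_eq W'
    apply map_injective_of_eq G hW
    have h1 : Ω'.presheaf.map (homOfLE (U.ι.image_preimage_le (U.ι ''ᵁ W'))).op
          (d.app (U.ι ''ᵁ W') s) =
        (Ω'.restrict U.ι).presheaf.map (homOfLE hW.le).op ((restrictDer f e d).app W' s) := rfl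
    rw [h1] at H1
    have h2 := congr($(γ.mapPresheaf.naturality (homOfLE hW.le).op) ((restrictDer f e d).app W' s))
    refine h2.symm.trans (H1.trans ?_)
    exact DerA.der_map D (homOfLE hW.le) s

theorem isUniversal_restrictDer {Ω' : X.Modules} (d : Der f Ω') (hd : IsUniversal d) :
    IsUniversal (restrictDer f e d) := by
  intro G D
  obtain ⟨α, hα, huniq⟩ := hd _
    (DerA.pushDer f (f.resLE V U e) U.ι V.ι (Scheme.Hom.resLE_comp_ι f e) D)
  refine ⟨((restrictAdjunction U.ι).homEquiv _ _).symm α, ?_, ?_⟩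
  · change (restrictDer f e d).postcomp _ = D
    rw [postcomp_iff, Equiv.apply_symm_apply]
    exact hα
  · intro γ hγ
    change (restrictDer f e d).postcomp _ = D at hγ
    rw [postcomp_iff] at hγ
    rw [← huniq _ hγ, Equiv.symm_apply_apply]

end Groth.Agent.Lead.OmegaLocA
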