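import Mathlib
import Groth.Prelude.Def_FDesc
import Groth.Agent.Lead.QuotSeq
import Groth.Agent.Lead.IdealModDict
import Groth.Agent.Lead.OmegaLocA
import Groth.Agent.Lead.StalkPull
import Groth.Agent.Helper4.AssNoeth
import Groth.Agent.Helper4.QcohLocal

/-!
# Associated points and the structure sheaf of the closure of a point (S4658)
-/

set_option autoImplicit false
universe u
open CategoryTheory CategoryTheory.Limits AlgebraicGeometry TopologicalSpace Opposite

namespace Groth.Agent.Lead.AssClos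

open Groth.Agent.Helper1.IdealMod (fn ofFn)
open Groth.Agent.Helper4

variable {X : Scheme.{u}}

/-- the radical ideal sheaf of the closure of a point -/
noncomputable abbrev II (x : X) : X.IdealSheafData :=
  Scheme.IdealSheafData.vanishingIdeal ⟨closure {x}, isClosed_closure⟩

theorem mem_ideal_iff (x : X) (W : X.affineOpens) (hx : x ∈ W.1) (a : Γ(X, W.1)) :
    a ∈ (II x).ideal W ↔ a ∈ (W.2.primeIdealOf ⟨x, hx⟩).asIdeal := by
  rw [Scheme.IdealSheafData.vanishingIdeal_ideal, PrimeSpectrum.mem_vanishingIdeal]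
  constructor
  · intro h
    apply h
    change W.2.fromSpec (W.2.primeIdealOf ⟨x, hx⟩) ∈ closure {x}
    rw [W.2.fromSpec_primeIdealOf ⟨x, hx⟩]
    exact subset_closure rfl
  · intro h p hp
    have hp' : W.2.fromSpec p ∈ closure {x} := hp
    have hspec : x ⤳ W.2.fromSpec p := specializes_iff_mem_closure.mpr hp'
    have hy : W.2.fromSpec p ∈ W.1 := AssDict.fromSpec_mem W.2 p
    by_contra hap
    have h1 : W.2.fromSpec p ∈ X.basicOpen a := by
      rw [StalkDict.mem_basicOpen_iff_notMem_primeIdealOf W.2 _ hy, AssDict.primeIdealOf_fromSpec]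
      exact hap
    have h2 : x ∈ X.basicOpen a := hspec.mem_open (X.basicOpen a).isOpen h1
    rw [StalkDict.mem_basicOpen_iff_notMem_primeIdealOf W.2 _ hx] at h2
    exact h2 h

theorem ideal_eq (x : X) (W : X.affineOpens) (hx : x ∈ W.1) :
    (II x).ideal W = (W.2.primeIdealOf ⟨x, hx⟩).asIdeal :=
  Ideal.ext fun a => mem_ideal_iff x W hx a

theorem smul_ofFn_one {W : X.Opens} (a : Γ(X, W)) :
    a • (ofFn (1 : Γ(X, W)) : Γ(Coh.structureModule X, W)) = ofFn a := by
  show (ofFn (a * (1 : Γ(X, W))) : Γ(Coh.structureModule X, W)) = ofFn a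
  rw [mul_one]

/-- `(⇐)` in restricted form -/
theorem isAssPoint_of_mono_res (F : X.Modules) [F.IsQuasicoherent] (x : X) (U : X.Opens)
    (hx : x ∈ U)
    (φ : (Scheme.Modules.restrictFunctor U.ι).obj (ClSub.quotMod (II x)) ⟶
          (Scheme.Modules.restrictFunctor U.ι).obj F) [Mono φ] :
    Curv2.IsAssPoint F x := by
  obtain ⟨_, ⟨W', hW' : IsAffineOpen W', rfl⟩, hxW', -⟩ :=
    (U : Scheme.{u}).isBasis_affineOpens.exists_subset_of_mem_open
      (Set.mem_univ (⟨x, hx⟩ : (U : Scheme.{u}))) isOpen_univ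
  have hW : IsAffineOpen (U.ι ''ᵁ W') := hW'.image_of_isOpenImmersion U.ι
  have hxW : x ∈ U.ι ''ᵁ W' := ⟨⟨x, hx⟩, hxW', rfl⟩
  let one : Γ(ClSub.quotMod (II x), U.ι ''ᵁ W') :=
    (ClSub.toSubscheme (II x)).app (U.ι ''ᵁ W') (ofFn 1)
  let m : Γ(F, U.ι ''ᵁ W') := φ.app W' one
  apply AssNoeth.isAssPoint_of_eq_colon F hW x hxW m
  ext a
  rw [← mem_ideal_iff x ⟨U.ι ''ᵁ W', hW⟩ hxW a, Submodule.mem_colon_singleton, Submodule.mem_bot]
  have h1 : a • m = φ.app W' ((ClSub.toSubscheme (II x)).app (U.ι ''ᵁ W') (ofFn a)) := by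
    have e1 : a • m = (show Γ((U : Scheme.{u}), W') from a) •
        (show Γ((Scheme.Modules.restrictFunctor U.ι).obj F, W') from m) :=
      (OmegaLocA.restrict_smul F W' a m).symm
    have e2 : (show Γ((U : Scheme.{u}), W') from a) •
        (show Γ((Scheme.Modules.restrictFunctor U.ι).obj (ClSub.quotMod (II x)), W') from one) =
        (ClSub.toSubscheme (II x)).app (U.ι ''ᵁ W') (ofFn a) := by
      refine (OmegaLocA.restrict_smul (ClSub.quotMod (II x)) W' a one).trans ?_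
      change a • (ClSub.toSubscheme (II x)).app (U.ι ''ᵁ W') (ofFn 1) = _
      rw [← Scheme.Modules.Hom.app_smul, smul_ofFn_one]
    rw [e1]
    change (show Γ((U : Scheme.{u}), W') from a) • φ.app W' one = _
    rw [← Scheme.Modules.Hom.app_smul]
    exact congrArg (φ.app W') e2
  rw [h1, ← QuotSeq.toSub_eq_zero_iff (II x) ⟨U.ι ''ᵁ W', hW⟩ a]
  constructor
  · intro h
    exact (congrArg (φ.app W') h).trans (map_zero _)
  · intro h
    exact AffineDict.app_injective_of_mono φ W' (h.trans (map_zero _).symm)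

instance isQuasicoherent_restrict (U : X.Opens) (M : X.Modules) [M.IsQuasicoherent] :
    ((Scheme.Modules.restrictFunctor U.ι).obj M).IsQuasicoherent := by
  have := StalkPull.isQuasicoherent_pullbackObj U.ι M
  exact QcohLimits.isQuasicoherent_of_iso
    ((Scheme.Modules.restrictFunctorIsoPullback U.ι).app M).symm

instance isQuasicoherent_quotMod (I : X.IdealSheafData) : (ClSub.quotMod I).IsQuasicoherent :=
  QcohGlue.isQuasicoherent_pushforward I.subschemeι _

theorem unitIso_app (U : X.Opens) (V : (U : Scheme.{u}).Opens) (a : Γ(X, U.ι ''ᵁ V)) :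
    (Scheme.Modules.restrictUnitIso U.ι).hom.app V
      (show Γ((Scheme.Modules.restrictFunctor U.ι).obj (Coh.structureModule X), V) from ofFn a) =
      ofFn (show Γ((U : Scheme.{u}), V) from a) := by
  change ofFn ((U.ι.appIso V).hom.hom a) = _
  rw [Scheme.Opens.ι_appIso]
  rfl

/-- `(⇒)` in restricted form -/
theorem exists_mono_res [IsLocallyNoetherian X] (F : X.Modules) [F.IsQuasicoherent] (x : X)
    (U : X.Opens) (hU : IsAffineOpen U) (hx : x ∈ U) (h : Curv2.IsAssPoint F x) :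
    ∃ φ : (Scheme.Modules.restrictFunctor U.ι).obj (ClSub.quotMod (II x)) ⟶
      (Scheme.Modules.restrictFunctor U.ι).obj F, Mono φ := by
  haveI : IsAffine (U : Scheme.{u}) := hU
  have hW₀ : IsAffineOpen (U.ι ''ᵁ ⊤) :=
    (isAffineOpen_top (U : Scheme.{u})).image_of_isOpenImmersion U.ι
  have hxW₀ : x ∈ U.ι ''ᵁ ⊤ := ⟨⟨x, hx⟩, trivial, rfl⟩
  haveI : IsNoetherianRing Γ(X, U.ι ''ᵁ ⊤) :=
    IsLocallyNoetherian.component_noetherian ⟨_, hW₀⟩
  obtain ⟨m, hm⟩ := AssNoeth.exists_eq_colon_of_isAssPoint F hW₀ x hxW₀ h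
  let N := (Scheme.Modules.restrictFunctor U.ι).obj F
  let t : Γ(N, ⊤) := m
  let φ₀ : (Scheme.Modules.restrictFunctor U.ι).obj (Coh.structureModule X) ⟶ N :=
    (Scheme.Modules.restrictUnitIso U.ι).hom ≫ IdealModDict.ofSection N t
  have key : ∀ a : Γ(X, U.ι ''ᵁ ⊤), φ₀.app ⊤
      (show Γ((Scheme.Modules.restrictFunctor U.ι).obj (Coh.structureModule X), ⊤) from ofFn a) =
      a • m := by
    intro a
    change (IdealModDict.ofSection N t).app ⊤ ((Scheme.Modules.restrictUnitIso U.ι).hom.app ⊤ _) = _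
    rw [unitIso_app, IdealModDict.ofSection_app]
    have h2 : N.presheaf.map (homOfLE (le_top : (⊤ : (U : Scheme.{u}).Opens) ≤ ⊤)).op t = t := by
      have : (homOfLE (le_top : (⊤ : (U : Scheme.{u}).Opens) ≤ ⊤)) = 𝟙 _ := Subsingleton.elim _ _
      rw [this, op_id, N.presheaf.map_id]
      rfl
    rw [h2]
    exact OmegaLocA.restrict_smul F ⊤ a m
  have hcolon : ∀ a : Γ(X, U.ι ''ᵁ ⊤), a • m = 0 ↔ a ∈ (II x).ideal ⟨_, hW₀⟩ := by
    intro a
    rw [mem_ideal_iff x ⟨_, hW₀⟩ hxW₀ a, hm, Submodule.mem_colon_singleton, Submodule.mem_bot]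
  let S := ShortComplex.kernelSequence (ClSub.toSubscheme (II x))
  haveI : Epi S.g := QuotSeq.epi_toSubscheme (II x)
  haveI : Mono S.f := inferInstanceAs (Mono (kernel.ι _))
  have hS : S.ShortExact :=
    ShortComplex.ShortExact.mk' (ShortComplex.kernelSequence_exact _) inferInstance inferInstance
  have hS' : (S.map (Scheme.Modules.restrictFunctor U.ι)).ShortExact :=
    hS.map_of_exact (Scheme.Modules.restrictFunctor U.ι)
  haveI := hS'.epi_g
  haveI : (S.map (Scheme.Modules.restrictFunctor U.ι)).X₁.IsQuasicoherent :=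
    isQuasicoherent_restrict U (ClSub.idealMod (II x))
  have w : (S.map (Scheme.Modules.restrictFunctor U.ι)).f ≫ φ₀ = 0 := by
    apply QcohLocal.eq_zero_of_app_eq_zero_of_affine_cover
    intro y
    refine ⟨⊤, isAffineOpen_top _, trivial, ?_⟩
    intro k
    change φ₀.app ⊤ ((ClSub.idealModι (II x)).app (U.ι ''ᵁ ⊤) k) = 0
    have hk : fn ((ClSub.idealModι (II x)).app (U.ι ''ᵁ ⊤) k) ∈ (II x).ideal ⟨_, hW₀⟩ :=
      (IdealModDict.exists_section_iff (II x) ⟨_, hW₀⟩ _).1 ⟨k, rfl⟩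
    have := key (fn ((ClSub.idealModι (II x)).app (U.ι ''ᵁ ⊤) k))
    exact this.trans ((hcolon _).2 hk)
  let φ := hS'.exact.desc φ₀ w
  have hφ : (S.map (Scheme.Modules.restrictFunctor U.ι)).g ≫ φ = φ₀ := hS'.exact.g_desc φ₀ w
  refine ⟨φ, ?_⟩
  apply QcohLocal.mono_of_app_injective_of_affine_cover
  intro y
  refine ⟨⊤, isAffineOpen_top _, trivial, ?_⟩
  rw [injective_iff_map_eq_zero]
  intro t₁ ht₁
  obtain ⟨a, ha⟩ := QuotSeq.toSub_surj (II x) ⟨_, hW₀⟩ t₁
  have h3 : φ.app ⊤ t₁ = a • m := by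
    rw [← key a, ← hφ, ← ha]
    rfl
  have h4 : a • m = 0 := h3.symm.trans ht₁
  rw [hcolon, ← QuotSeq.toSub_eq_zero_iff] at h4
  rw [← ha]
  exact h4

theorem main [IsLocallyNoetherian X] (F : X.Modules) (hF : Coh.IsQCoh F) (x : X) :
    x ∈ AssSch.Ass F ↔ ∃ (U : X.Opens), x ∈ U ∧
      ∃ φ : (Scheme.Modules.pullback U.ι).obj (ClSub.quotMod (II x)) ⟶
        (Scheme.Modules.pullback U.ι).obj F, Mono φ := by
  haveI : F.IsQuasicoherent := hF
  constructor
  · intro h
    obtain ⟨W, hxU, -⟩ := QuotSeq.exists_affine_nhd (T := (⊤ : X.Opens)) (x := x) trivial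
    obtain ⟨φ, hφ⟩ := exists_mono_res F x W.1 W.2 hxU h
    refine ⟨W.1, hxU, ((Scheme.Modules.restrictFunctorIsoPullback W.1.ι).inv.app _) ≫ φ ≫
      ((Scheme.Modules.restrictFunctorIsoPullback W.1.ι).hom.app _), ?_⟩
    infer_instance
  · rintro ⟨U, hxU, φ, hφ⟩
    haveI : Mono (((Scheme.Modules.restrictFunctorIsoPullback U.ι).hom.app _) ≫ φ ≫
      ((Scheme.Modules.restrictFunctorIsoPullback U.ι).inv.app _)) := inferInstance
    exact isAssPoint_of_mono_res F x U hxU
      (((Scheme.Modules.restrictFunctorIsoPullback U.ι).hom.app _) ≫ φ ≫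
      ((Scheme.Modules.restrictFunctorIsoPullback U.ι).inv.app _))

end Groth.Agent.Lead.AssClos
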