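import Mathlib
import Groth.Prelude.Def_Curv2
import Groth.Agent.Lead.BCFieldB
import Groth.Agent.Lead.QcohTensor
import Groth.Agent.Helper1.SerreFin2
import Groth.Agent.Helper6.HProj

/-!
# Castelnuovo–Mumford regularity is invariant under field extension
-/

set_option autoImplicit false

universe u

open CategoryTheory Limits AlgebraicGeometry

namespace Groth.Agent.Lead.BCField

theorem isMRegular_iff_baseChange (k : Type u) [Field k] (n : ℕ)
    (k' : Type u) [Field k'] [Algebra k k'] (F : (CohB1.ProjSpace n k).Modules)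
    (hF : Coh.IsCoh F) (m : ℤ) :
    Curv2.IsMRegular k n F m ↔
      ∀ i : ℕ, 1 ≤ i → i ≤ n →
        Subsingleton (Coh.HH (Curv2.bc k (CohB1.ProjSpace n k) k')
          ((Scheme.Modules.pullback (Curv2.bcFst k (CohB1.ProjSpace n k) k')).obj
            (CohB1.tensorMod F (Twist.twistProjSpace n k (m - i)))) i) := by
  letI : (Curv2.bc k (CohB1.ProjSpace n k) k').Over (Spec (CommRingCat.of k')) :=
    ⟨Curv2.bcSnd k _ k'⟩
  haveI : IsProper (CohB1.ProjSpace n k ↘ Spec (CommRingCat.of k)) :=
    Groth.Agent.Helper6.HProj.isProper_toSpec n k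
  haveI : F.IsQuasicoherent := hF.1
  unfold Curv2.IsMRegular
  refine forall_congr' fun i => forall_congr' fun _ => forall_congr' fun _ => ?_
  haveI : (Twist.twistProjSpace n k (m - i)).IsQuasicoherent :=
    (Groth.Agent.Helper1.SerreFin.isCoh_twist n k _).1
  haveI : (CohB1.tensorMod F (Twist.twistProjSpace n k (m - i))).IsQuasicoherent :=
    Groth.Agent.Lead.QcohTensor.isQuasicoherent_tensorMod _ _
  exact (subsingleton_HH_baseChange_iff k k' (CohB1.ProjSpace n k)
    (Curv2.bc k (CohB1.ProjSpace n k) k') (Curv2.bcFst k (CohB1.ProjSpace n k) k')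
    (IsPullback.of_hasPullback _ _) _ i).symm

end Groth.Agent.Lead.BCField
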