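import Mathlib
import Groth.Prelude.Def_Curv2
import Groth.Agent.Helper2.RegDescent

/-!
# BCPoint: common points of two field base changes, and descent of regularity / normality
-/

set_option autoImplicit false
set_option linter.style.haveILetI false
set_option linter.unusedVariables false
set_option linter.unusedSectionVars false

universe u

open CategoryTheory CategoryTheory.Limits AlgebraicGeometry TensorProduct

namespace Groth.Agent.Lead.BCPoint

local notation "sp(" A "," B ")" => Spec.map (CommRingCat.ofHom (algebraMap A B))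

section Geometry

variable {k : Type u} [Field k] {X : Scheme.{u}} (f : X ⟶ Spec (CommRingCat.of k))
  (k' : Type u) [Field k'] [Algebra k k'] (K : Type u) [Field K] [Algebra k K]
  (Ω : Type u) [Field Ω] [Algebra k' Ω] (φ : K →+* Ω)

theorem sp_comp_eq (hφ : φ.comp (algebraMap k K) = (algebraMap k' Ω).comp (algebraMap k k')) :
    sp(k',Ω) ≫ sp(k,k') = Spec.map (CommRingCat.ofHom φ) ≫ sp(k,K) := by
  rw [← Spec.map_comp, ← Spec.map_comp, ← CommRingCat.ofHom_comp, ← CommRingCat.ofHom_comp, hφ]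

/-- the comparison morphism `(X_{k'})_Ω ⟶ X_K` -/
noncomputable def q (hφ : φ.comp (algebraMap k K) = (algebraMap k' Ω).comp (algebraMap k k')) :
    pullback (pullback.snd f sp(k,k')) sp(k',Ω) ⟶ pullback f sp(k,K) :=
  pullback.lift (pullback.fst _ _ ≫ pullback.fst _ _)
    (pullback.snd _ _ ≫ Spec.map (CommRingCat.ofHom φ))
    (by
      have h1 : pullback.fst f sp(k,k') ≫ f = pullback.snd f sp(k,k') ≫ sp(k,k') :=
        pullback.condition
      have h2 : pullback.fst (pullback.snd f sp(k,k')) sp(k',Ω) ≫ pullback.snd f sp(k,k') =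
          pullback.snd (pullback.snd f sp(k,k')) sp(k',Ω) ≫ sp(k',Ω) := pullback.condition
      simp only [Category.assoc]
      rw [h1, reassoc_of% h2, sp_comp_eq k' K Ω φ hφ])

theorem q_fst (hφ : φ.comp (algebraMap k K) = (algebraMap k' Ω).comp (algebraMap k k')) :
    q f k' K Ω φ hφ ≫ pullback.fst f sp(k,K) =
      pullback.fst (pullback.snd f sp(k,k')) sp(k',Ω) ≫ pullback.fst f sp(k,k') := by
  unfold q; exact pullback.lift_fst _ _ _

theorem q_snd (hφ : φ.comp (algebraMap k K) = (algebraMap k' Ω).comp (algebraMap k k')) :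
    q f k' K Ω φ hφ ≫ pullback.snd f sp(k,K) =
      pullback.snd (pullback.snd f sp(k,k')) sp(k',Ω) ≫ Spec.map (CommRingCat.ofHom φ) := by
  unfold q; exact pullback.lift_snd _ _ _

theorem isPullback_q (hφ : φ.comp (algebraMap k K) = (algebraMap k' Ω).comp (algebraMap k k')) :
    IsPullback (q f k' K Ω φ hφ) (pullback.snd (pullback.snd f sp(k,k')) sp(k',Ω))
      (pullback.snd f sp(k,K)) (Spec.map (CommRingCat.ofHom φ)) := by
  have h1 : IsPullback (pullback.fst f sp(k,K)) (pullback.snd f sp(k,K)) f sp(k,K) :=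
    IsPullback.of_hasPullback _ _
  have h2 : IsPullback (pullback.fst f sp(k,k')) (pullback.snd f sp(k,k')) f sp(k,k') :=
    IsPullback.of_hasPullback _ _
  have h3 : IsPullback (pullback.fst (pullback.snd f sp(k,k')) sp(k',Ω))
      (pullback.snd (pullback.snd f sp(k,k')) sp(k',Ω)) (pullback.snd f sp(k,k')) sp(k',Ω) :=
    IsPullback.of_hasPullback _ _
  have h4 := h3.paste_horiz h2
  rw [sp_comp_eq k' K Ω φ hφ, ← q_fst f k' K Ω φ hφ] at h4
  exact IsPullback.of_right h4 (q_snd f k' K Ω φ hφ) h1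

theorem flat_q (hφ : φ.comp (algebraMap k K) = (algebraMap k' Ω).comp (algebraMap k k')) :
    Flat (q f k' K Ω φ hφ) := by
  have hfl : (CommRingCat.ofHom φ).hom.Flat := by
    letI := φ.toAlgebra
    exact (inferInstance : Module.Flat K Ω)
  have hfl' : Flat (Spec.map (CommRingCat.ofHom φ)) :=
    (HasRingHomProperty.Spec_iff (P := @Flat)).mpr hfl
  exact MorphismProperty.of_isPullback (P := @Flat) (isPullback_q f k' K Ω φ hφ).flip hfl'

theorem exists_point (y : ↑(pullback f sp(k,K))) (x' : ↑(pullback f sp(k,k')))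
    (hyx : pullback.fst f sp(k,K) y = pullback.fst f sp(k,k') x') :
    ∃ (Ω : Type u) (_ : Field Ω) (_ : Algebra k' Ω) (φ : K →+* Ω)
      (hφ : φ.comp (algebraMap k K) = (algebraMap k' Ω).comp (algebraMap k k')),
      ((⊤ : IntermediateField k K).FG → (⊤ : IntermediateField k' Ω).FG) ∧
      ∃ x'' : ↑(pullback (pullback.snd f sp(k,k')) sp(k',Ω)),
        pullback.fst (pullback.snd f sp(k,k')) sp(k',Ω) x'' = x' ∧
        q f k' K Ω φ hφ x'' = y := by
  obtain ⟨z, hz1, hz2⟩ := Scheme.Pullback.exists_preimage_pullback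
    (f := pullback.fst f sp(k,K)) (g := pullback.fst f sp(k,k')) y x' hyx
  have c1 : pullback.fst f sp(k,K) ≫ f = pullback.snd f sp(k,K) ≫ sp(k,K) := pullback.condition
  have c2 : pullback.fst f sp(k,k') ≫ f = pullback.snd f sp(k,k') ≫ sp(k,k') := pullback.condition
  have c3 : pullback.fst (pullback.fst f sp(k,K)) (pullback.fst f sp(k,k')) ≫ pullback.fst f sp(k,K) =
      pullback.snd (pullback.fst f sp(k,K)) (pullback.fst f sp(k,k')) ≫ pullback.fst f sp(k,k') :=
    pullback.condition
  let P := pullback (pullback.fst f sp(k,K)) (pullback.fst f sp(k,k'))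
  let κ := P.residueField z
  let ι : Spec κ ⟶ P := P.fromSpecResidueField z
  let a : Spec κ ⟶ Spec (CommRingCat.of K) := ι ≫ pullback.fst _ _ ≫ pullback.snd f sp(k,K)
  let b : Spec κ ⟶ Spec (CommRingCat.of k') := ι ≫ pullback.snd _ _ ≫ pullback.snd f sp(k,k')
  have hab : a ≫ sp(k,K) = b ≫ sp(k,k') := by
    simp only [a, b, Category.assoc]
    rw [← c1, ← c2, reassoc_of% c3]
  let φz : K →+* κ := (Spec.preimage a).hom
  let ψz : k' →+* κ := (Spec.preimage b).hom
  have hφz : Spec.map (CommRingCat.ofHom φz) = a := by simp [φz]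
  have hψz : Spec.map (CommRingCat.ofHom ψz) = b := by simp [ψz]
  have hcomp : φz.comp (algebraMap k K) = ψz.comp (algebraMap k k') := by
    have h1 : Spec.map (CommRingCat.ofHom (φz.comp (algebraMap k K))) =
        Spec.map (CommRingCat.ofHom (ψz.comp (algebraMap k k'))) := by
      rw [CommRingCat.ofHom_comp, CommRingCat.ofHom_comp, Spec.map_comp, Spec.map_comp, hφz, hψz,
        hab]
    have h2 := Spec.map_injective h1
    exact congrArg CommRingCat.Hom.hom h2
  let Ω₀ : Subfield κ := Subfield.closure (Set.range φz ∪ Set.range ψz)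
  let φ₀ : K →+* Ω₀ := φz.codRestrict Ω₀ (fun r => Subfield.subset_closure (Or.inl ⟨r, rfl⟩))
  let ψ₀ : k' →+* Ω₀ := ψz.codRestrict Ω₀ (fun r => Subfield.subset_closure (Or.inr ⟨r, rfl⟩))
  letI : Algebra k' Ω₀ := ψ₀.toAlgebra
  have hφ₀ : φ₀.comp (algebraMap k K) = (algebraMap k' Ω₀).comp (algebraMap k k') :=
    RingHom.ext fun r => Subtype.ext (RingHom.congr_fun hcomp r)
  refine ⟨Ω₀, inferInstance, inferInstance, φ₀, hφ₀, ?_, ?_⟩
  · -- finite generation
    classical
    rintro ⟨s, hs⟩
    refine ⟨s.image φ₀, ?_⟩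
    rw [eq_top_iff]
    intro ω _
    let L : IntermediateField k' Ω₀ := IntermediateField.adjoin k' (↑(s.image φ₀) : Set Ω₀)
    show ω ∈ L
    have hK : ∀ r : K, φ₀ r ∈ L := by
      intro r
      have hr : r ∈ IntermediateField.adjoin k (↑s : Set K) := by rw [hs]; trivial
      refine IntermediateField.adjoin_induction k (p := fun x _ => φ₀ x ∈ L) ?_ ?_ ?_ ?_ ?_ hr
      · intro x hx
        refine IntermediateField.subset_adjoin _ _ ?_
        rw [Finset.coe_image]
        exact ⟨x, hx, rfl⟩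
      · intro c
        have : φ₀ (algebraMap k K c) = algebraMap k' Ω₀ (algebraMap k k' c) :=
          RingHom.congr_fun hφ₀ c
        rw [this]
        exact L.algebraMap_mem _
      · intro x y _ _ hx hy
        rw [map_add]; exact L.add_mem hx hy
      · intro x _ hx
        rw [map_inv₀]; exact L.inv_mem hx
      · intro x y _ _ hx hy
        rw [map_mul]; exact L.mul_mem hx hy
    have key : ∀ (t : κ) (ht : t ∈ Ω₀), (⟨t, ht⟩ : Ω₀) ∈ L := by
      intro t ht
      refine Subfield.closure_induction (p := fun t ht => (⟨t, ht⟩ : Ω₀) ∈ L) ?_ ?_ ?_ ?_ ?_ ?_ ht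
      · rintro t (⟨r, rfl⟩ | ⟨r, rfl⟩)
        · exact hK r
        · exact L.algebraMap_mem r
      · exact L.one_mem
      · intro t₁ t₂ h₁ h₂ p₁ p₂
        exact L.add_mem p₁ p₂
      · intro t₁ h₁ p₁
        exact L.neg_mem p₁
      · intro t₁ h₁ p₁
        exact L.inv_mem p₁
      · intro t₁ t₂ h₁ h₂ p₁ p₂
        exact L.mul_mem p₁ p₂
    exact key ω.1 ω.2
  · -- the point
    let j : Ω₀ →+* κ := Ω₀.subtype
    have hjφ : j.comp φ₀ = φz := RingHom.ext fun _ => rfl
    have hjψ : j.comp (algebraMap k' Ω₀) = ψz := RingHom.ext fun _ => rfl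
    have hmcond : (ι ≫ pullback.snd _ _) ≫ pullback.snd f sp(k,k') =
        Spec.map (CommRingCat.ofHom j) ≫ sp(k',Ω₀) := by
      rw [Category.assoc, ← Spec.map_comp, ← CommRingCat.ofHom_comp, hjψ, hψz]
    let m : Spec κ ⟶ pullback (pullback.snd f sp(k,k')) sp(k',Ω₀) :=
      pullback.lift (ι ≫ pullback.snd _ _) (Spec.map (CommRingCat.ofHom j)) hmcond
    have hm1 : m ≫ pullback.fst _ _ = ι ≫ pullback.snd _ _ := pullback.lift_fst _ _ _
    have hm2 : m ≫ pullback.snd _ _ = Spec.map (CommRingCat.ofHom j) := pullback.lift_snd _ _ _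
    let pt : Spec κ := IsLocalRing.closedPoint κ
    refine ⟨m pt, ?_, ?_⟩
    · rw [← Scheme.Hom.comp_apply, hm1, Scheme.Hom.comp_apply, Scheme.fromSpecResidueField_apply,
        hz2]
    · have hmq : m ≫ q f k' K Ω₀ φ₀ hφ₀ = ι ≫ pullback.fst _ _ := by
        apply pullback.hom_ext
        · rw [Category.assoc, q_fst, ← Category.assoc, hm1, Category.assoc, Category.assoc, c3]
        · rw [Category.assoc, q_snd, ← Category.assoc, hm2, ← Spec.map_comp,
            ← CommRingCat.ofHom_comp, hjφ, hφz, Category.assoc]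
      rw [← Scheme.Hom.comp_apply, hmq, Scheme.Hom.comp_apply, Scheme.fromSpecResidueField_apply,
        hz1]

end Geometry

section Ring

variable {R S : Type u} [CommRing R] [CommRing S] (ρ : R →+* S)

theorem regular_descent [IsLocalRing R] [IsRegularLocalRing S] [IsLocalHom ρ] (hfl : ρ.Flat) :
    IsRegularLocalRing R := by
  letI := ρ.toAlgebra
  haveI : Module.Flat R S := hfl
  haveI : IsLocalHom (algebraMap R S) := ‹IsLocalHom ρ›
  haveI : Module.FaithfullyFlat R S := Module.FaithfullyFlat.of_flat_of_isLocalHom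
  haveI : IsNoetherianRing R := by
    have h : IsNoetherian S (S ⊗[R] R) :=
      isNoetherian_of_linearEquiv (TensorProduct.AlgebraTensorModule.rid R S S).symm
    exact Submodule.IsNoetherian.of_isNoetherian_tensorProduct_of_faithfullyFlat h
  exact Groth.Agent.Helper2.RegDescent.isRegularLocalRing_of_flat R S

theorem normal_descent [IsLocalRing R] [IsLocalRing S] [IsLocalHom ρ] (hfl : ρ.Flat)
    [IsDomain S] [IsIntegrallyClosed S] : IsDomain R ∧ IsIntegrallyClosed R := by
  letI := ρ.toAlgebra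
  haveI : Module.Flat R S := hfl
  haveI : IsLocalHom (algebraMap R S) := ‹IsLocalHom ρ›
  haveI : Module.FaithfullyFlat R S := Module.FaithfullyFlat.of_flat_of_isLocalHom
  have hinj : Function.Injective (algebraMap R S) := FaithfulSMul.algebraMap_injective R S
  haveI : IsDomain R := hinj.isDomain (algebraMap R S)
  refine ⟨inferInstance, ?_⟩
  rw [isIntegrallyClosed_iff (FractionRing R)]
  intro x hx
  obtain ⟨a, b, hb, rfl⟩ := IsFractionRing.div_surjective (A := R) x
  have hb0 : b ≠ 0 := nonZeroDivisors.ne_zero hb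
  let g : R →+* FractionRing S := (algebraMap S (FractionRing S)).comp (algebraMap R S)
  have hg : Function.Injective g :=
    (IsFractionRing.injective S (FractionRing S)).comp hinj
  let σ : FractionRing R →+* FractionRing S := IsFractionRing.lift hg
  have hσ : ∀ r : R, σ (algebraMap R (FractionRing R) r) = g r := IsFractionRing.lift_algebraMap hg
  -- σ x is integral over S
  obtain ⟨p, hpm, hpe⟩ := hx
  have hint : IsIntegral S (σ (algebraMap R (FractionRing R) a / algebraMap R (FractionRing R) b)) := by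
    refine ⟨p.map (algebraMap R S), hpm.map _, ?_⟩
    rw [Polynomial.eval₂_map]
    have h1 : (algebraMap S (FractionRing S)).comp (algebraMap R S) =
        σ.comp (algebraMap R (FractionRing R)) := RingHom.ext fun r => (hσ r).symm
    rw [h1, ← Polynomial.hom_eval₂, hpe, map_zero]
  obtain ⟨s, hs⟩ := IsIntegrallyClosed.algebraMap_eq_of_integral hint
  rw [map_div₀, hσ, hσ] at hs
  have hgb : g b ≠ 0 := fun h0 => hb0 (hg (by rw [h0, map_zero]))
  have h2 : algebraMap S (FractionRing S) (s * algebraMap R S b) =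
      algebraMap S (FractionRing S) (algebraMap R S a) := by
    rw [map_mul, hs]
    exact div_mul_cancel₀ _ hgb
  have h3 : s * algebraMap R S b = algebraMap R S a :=
    IsFractionRing.injective S (FractionRing S) h2
  have h4 : a ∈ (Ideal.map (algebraMap R S) (Ideal.span {b})).comap (algebraMap R S) := by
    rw [Ideal.mem_comap, ← h3]
    exact Ideal.mul_mem_left _ s (Ideal.mem_map_of_mem _ (Ideal.mem_span_singleton_self b))
  rw [Ideal.comap_map_eq_self_of_faithfullyFlat] at h4
  obtain ⟨c, hc⟩ := Ideal.mem_span_singleton'.mp h4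
  refine ⟨c, ?_⟩
  have hb' : algebraMap R (FractionRing R) b ≠ 0 := by
    intro h0
    exact hb0 (IsFractionRing.injective R (FractionRing R) (by rw [h0, map_zero]))
  rw [eq_div_iff hb', ← map_mul, hc]

end Ring

section Final

variable (k : Type u) [Field k] (X : Scheme.{u}) [X.Over (Spec (CommRingCat.of k))]
  (k' : Type u) [Field k'] [Algebra k k']

theorem s7607 (x' : ↥(Curv2.bc k X k'))
    (h : @Curv2.IsGeomRegularAt k' _ (Curv2.bc k X k') ⟨Curv2.bcSnd k X k'⟩ x') :
    Curv2.IsGeomRegularAt k X (Curv2.bcFst k X k' x') := by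
  intro K _ _ hfgK y hy
  obtain ⟨Ω, _, _, φ, hφ, hFG, x'', hx1, hx2⟩ :=
    exists_point (X ↘ Spec (CommRingCat.of k)) k' K y x' hy
  have hreg := h Ω (hFG hfgK) x'' hx1
  subst hx2
  haveI := flat_q (X ↘ Spec (CommRingCat.of k)) k' K Ω φ hφ
  have hfl := Flat.stalkMap (q (X ↘ Spec (CommRingCat.of k)) k' K Ω φ hφ) x''
  haveI : IsRegularLocalRing ↑((pullback (pullback.snd (X ↘ Spec (CommRingCat.of k))
      (Spec.map (CommRingCat.ofHom (algebraMap k k'))))
      (Spec.map (CommRingCat.ofHom (algebraMap k' Ω)))).presheaf.stalk x'') := hreg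
  exact regular_descent ((q (X ↘ Spec (CommRingCat.of k)) k' K Ω φ hφ).stalkMap x'').hom hfl

theorem s7600 (x' : ↥(Curv2.bc k X k'))
    (h : letI : (Curv2.bc k X k').Over (Spec (CommRingCat.of k')) := ⟨Curv2.bcSnd k X k'⟩
      ∀ (k'' : Type u) [Field k''] [Algebra k' k''] (x'' : ↥(Curv2.bc k' (Curv2.bc k X k') k'')), Curv2.bcFst k' (Curv2.bc k X k') k'' x'' = x' →
          IsDomain ↥((Curv2.bc k' (Curv2.bc k X k') k'').presheaf.stalk x'') ∧ IsIntegrallyClosed ↥((Curv2.bc k' (Curv2.bc k X k') k'').presheaf.stalk x'')) :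
    ∀ (K : Type u) [Field K] [Algebra k K] (y : ↥(Curv2.bc k X K)), Curv2.bcFst k X K y = (Curv2.bcFst k X k' x') →
          IsDomain ↥((Curv2.bc k X K).presheaf.stalk y) ∧ IsIntegrallyClosed ↥((Curv2.bc k X K).presheaf.stalk y) := by
  intro K _ _ y hy
  obtain ⟨Ω, _, _, φ, hφ, -, x'', hx1, hx2⟩ :=
    exists_point (X ↘ Spec (CommRingCat.of k)) k' K y x' hy
  obtain ⟨hd, hic⟩ := h Ω x'' hx1
  subst hx2
  haveI := flat_q (X ↘ Spec (CommRingCat.of k)) k' K Ω φ hφ
  have hfl := Flat.stalkMap (q (X ↘ Spec (CommRingCat.of k)) k' K Ω φ hφ) x''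
  haveI : IsDomain ↑((pullback (pullback.snd (X ↘ Spec (CommRingCat.of k))
      (Spec.map (CommRingCat.ofHom (algebraMap k k'))))
      (Spec.map (CommRingCat.ofHom (algebraMap k' Ω)))).presheaf.stalk x'') := hd
  haveI : IsIntegrallyClosed ↑((pullback (pullback.snd (X ↘ Spec (CommRingCat.of k))
      (Spec.map (CommRingCat.ofHom (algebraMap k k'))))
      (Spec.map (CommRingCat.ofHom (algebraMap k' Ω)))).presheaf.stalk x'') := hic
  exact normal_descent ((q (X ↘ Spec (CommRingCat.of k)) k' K Ω φ hφ).stalkMap x'').hom hfl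

end Final

end Groth.Agent.Lead.BCPoint
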