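import Mathlib
import Groth.Agent.S4664
import Groth.Agent.Lead.AlgClosedGeom
import Groth.Agent.Lead.GeomDescent

set_option autoImplicit false
universe u
open CategoryTheory CategoryTheory.Limits AlgebraicGeometry

namespace Groth.Agent.Lead.BcCompare

/-- any morphism `Spec L → Spec Ω` with `Ω` algebraically closed is geometrically irreducible -/
theorem geometricallyIrreducible_of_isAlgClosed {Ω L : Type u} [Field Ω] [IsAlgClosed Ω] [Field L]
    (b : Spec (CommRingCat.of L) ⟶ Spec (CommRingCat.of Ω)) : GeometricallyIrreducible b := by
  letI : Algebra Ω L := (Spec.preimage b).hom.toAlgebra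
  have h := Groth.Agent.Lead.AlgClosedGeom.geometricallyIrreducible_SpecMap Ω L
  have e : Spec.map (CommRingCat.ofHom (algebraMap Ω L)) = b := by
    have : CommRingCat.ofHom (algebraMap Ω L) = Spec.preimage b := rfl
    rw [this, Spec.map_preimage]
  rwa [e] at h

theorem geometricallyConnected_of_isAlgClosed {Ω L : Type u} [Field Ω] [IsAlgClosed Ω] [Field L]
    (b : Spec (CommRingCat.of L) ⟶ Spec (CommRingCat.of Ω)) : GeometricallyConnected b := by
  letI : Algebra Ω L := (Spec.preimage b).hom.toAlgebra
  have h := Groth.Agent.Lead.AlgClosedGeom.geometricallyConnected_SpecMap Ω L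
  have e : Spec.map (CommRingCat.ofHom (algebraMap Ω L)) = b := by
    have : CommRingCat.ofHom (algebraMap Ω L) = Spec.preimage b := rfl
    rw [this, Spec.map_preimage]
  rwa [e] at h

theorem universallyOpen_of_fields {Ω L : Type u} [Field Ω] [Field L]
    (b : Spec (CommRingCat.of L) ⟶ Spec (CommRingCat.of Ω)) : UniversallyOpen b := by
  letI : Algebra Ω L := (Spec.preimage b).hom.toAlgebra
  have h := Groth.Agent.Lead.AlgClosedGeom.universallyOpen_SpecMap Ω L
  have e : Spec.map (CommRingCat.ofHom (algebraMap Ω L)) = b := by
    have : CommRingCat.ofHom (algebraMap Ω L) = Spec.preimage b := rfl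
    rw [this, Spec.map_preimage]
  rwa [e] at h

/-- Comparison: for `X` over `S`, `y : Spec K → S` and `g : Spec Ω → S` surjective with `Ω`
algebraically closed, there is a scheme `Z` with a surjection onto `X_K` and a geometrically
irreducible, geometrically connected, universally open morphism onto `X_Ω`. -/
theorem exists_compare {X S : Scheme.{u}} (f : X ⟶ S) {K Ω : Type u} [Field K] [Field Ω]
    [IsAlgClosed Ω] (y : Spec (CommRingCat.of K) ⟶ S) (g : Spec (CommRingCat.of Ω) ⟶ S)
    [Surjective g] :
    ∃ (Z : Scheme.{u}) (p : Z ⟶ pullback f y) (q : Z ⟶ pullback f g),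
      Surjective p ∧ GeometricallyIrreducible q ∧ GeometricallyConnected q ∧ UniversallyOpen q := by
  obtain ⟨L, _, a, b, hab⟩ := Groth.Agent.S4664.exists_common_field g K y
  have hsa : Surjective a := Groth.Agent.Lead.GeomDescent.surjective_of_fields a
  have hb1 := geometricallyIrreducible_of_isAlgClosed b
  have hb2 := geometricallyConnected_of_isAlgClosed b
  have hb3 := universallyOpen_of_fields b
  let e : pullback (pullback.snd f y) a ≅ pullback (pullback.snd f g) b :=
    pullbackLeftPullbackSndIso f y a ≪≫ pullback.congrHom rfl hab ≪≫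
      (pullbackLeftPullbackSndIso f g b).symm
  refine ⟨pullback (pullback.snd f y) a, pullback.fst _ _, e.hom ≫ pullback.fst _ _,
    inferInstance, ?_, ?_, ?_⟩
  · have : GeometricallyIrreducible (pullback.fst (pullback.snd f g) b) := inferInstance
    exact (MorphismProperty.cancel_left_of_respectsIso @GeometricallyIrreducible e.hom _).mpr this
  · have : GeometricallyConnected (pullback.fst (pullback.snd f g) b) := inferInstance
    exact (MorphismProperty.cancel_left_of_respectsIso @GeometricallyConnected e.hom _).mpr this
  · infer_instance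

end Groth.Agent.Lead.BcCompare
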