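import Mathlib
import Groth.Prelude.Def_Pi1
import Groth.Prelude.Def_Coh
import Groth.Prelude.Def_FlatMod2
import Groth.Agent.Lead.FreeLocus1
import Groth.Agent.Helper4.CohFP

set_option autoImplicit false
universe u
open CategoryTheory CategoryTheory.Limits AlgebraicGeometry TopologicalSpace Opposite

namespace Groth.Agent.Lead.BigOpen
open Groth.Agent.Helper4 Groth.Agent.Helper4.FinLocFree Groth.Agent.Helper4.FinLocFree2
open Groth.Agent.Lead.FreeLocus

/-- a normal Noetherian local domain of dimension `≤ 1` is a principal ideal ring. -/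
theorem isPrincipalIdealRing_of_normal_dim_le_one (R : Type u) [CommRing R] [IsNoetherianRing R]
    [IsLocalRing R] [IsDomain R] [IsIntegrallyClosed R] (h : ringKrullDim R ≤ 1) :
    IsPrincipalIdealRing R := by
  haveI : Ring.KrullDimLE 1 R := Ring.krullDimLE_iff.mpr (by exact_mod_cast h)
  have key := (tfae_of_isNoetherianRing_of_isLocalRing_of_isDomain R).out 3 0
  refine key.mp ⟨inferInstance, ?_⟩
  intro P hP hP'
  exact IsLocalRing.eq_maximalIdeal (hP'.isMaximal_of_ne_bot hP)

theorem not_two_le_iff (d : WithBot ℕ∞) : ¬ (2 : WithBot ℕ∞) ≤ d → d ≤ 1 := by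
  intro h
  induction d with
  | bot => exact bot_le
  | coe d =>
    induction d with
    | top =>
      exact absurd le_top h
    | coe n =>
      have h1 : ¬ (2 : ℕ) ≤ n := by
        intro h2
        apply h
        have h3 : ((2 : ℕ) : WithBot ℕ∞) ≤ ((n : ℕ) : WithBot ℕ∞) := by exact_mod_cast h2
        exact h3
      have : n ≤ 1 := by omega
      have h3 : ((n : ℕ) : WithBot ℕ∞) ≤ ((1 : ℕ) : WithBot ℕ∞) := by exact_mod_cast this
      exact h3

theorem exists_big_open (X : Scheme.{u}) [IsNoetherian X]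
    (hX : Pi1.IsNormalScheme X) (M : X.Modules) (hM : Coh.IsCoh M)
    (htf : ∀ x : ↥X, Module.IsTorsionFree (X.presheaf.stalk x) (M.presheaf.stalk x)) :
    ∃ U : X.Opens, (∀ x : ↥X, x ∉ U → (2 : WithBot ℕ∞) ≤ ringKrullDim (X.presheaf.stalk x)) ∧
      FlatMod.IsFinLocFree (M.restrict U.ι) := by
  haveI : M.IsQuasicoherent := hM.1
  have hfp := CohFP.isFP_of_isCoh M hM.1 hM.2
  have hopen : IsOpen {x : X | FLFAt M x} := by
    rw [isOpen_iff_forall_mem_open]
    rintro x ⟨V, n, hxV, hV⟩
    exact ⟨V, fun y hy => ⟨V, n, hy, hV⟩, V.isOpen, hxV⟩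
  let U : X.Opens := ⟨{x : X | FLFAt M x}, hopen⟩
  refine ⟨U, ?_, ?_⟩
  · intro x hx
    by_contra hdim
    apply hx
    have h1 := not_two_le_iff _ hdim
    obtain ⟨hd, hic⟩ := hX x
    haveI := hd
    haveI := hic
    haveI : IsPrincipalIdealRing (X.presheaf.stalk x) :=
      isPrincipalIdealRing_of_normal_dim_le_one _ h1
    haveI := htf x
    haveI := finite_stalk M hM.2 x
    have hfree : Module.Free (X.presheaf.stalk x) (M.presheaf.stalk x) :=
      Module.free_of_finite_type_torsion_free'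
    obtain ⟨U, hU, hxU⟩ := QcohLimits.exists_affine_nhd x
    exact exists_isFreeAlong_of_fp_of_free_stalk M hU x hxU (FPGlue.fp_sections M hfp hU) hfree
  · intro u
    have hu : FLFAt M (U.ι u) := u.2
    exact FLFAt.restrict _ hu

end Groth.Agent.Lead.BigOpen
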