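import Mathlib
import Groth.Agent.Lead.QProjVanA
import Groth.Agent.Helper1.HHLes2
import Groth.Prelude.Def_PerfAux

/-!
# Cohomological dimension via the resolution property

On a quasi-compact locally Noetherian scheme with affine diagonal on which every coherent module
is a quotient of a finite locally free module, vanishing (resp. finiteness) of cohomology above `n`
for finite locally free modules implies the same for all coherent modules.
-/

set_option autoImplicit false
set_option linter.style.haveILetI false
universe u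
open CategoryTheory AlgebraicGeometry Limits Opposite

namespace Groth.Agent.Lead.QProjVan
open Groth.Agent.Helper4 Groth.Agent.Helper1

variable {X : Scheme.{u}}

/-- a quasi-compact scheme has a finite affine open cover indexed by `Fin t` -/
theorem exists_fin_affine_cover' [CompactSpace X] :
    ∃ (t : ℕ) (U : Fin t → X.Opens), (∀ i, IsAffineOpen (U i)) ∧ ⨆ i, U i = ⊤ := by
  obtain ⟨s, hs⟩ := (isCompact_univ (X := X)).elim_finite_subcover
    (fun V : X.affineOpens => ((V : X.Opens) : Set X)) (fun V => V.1.isOpen)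
    (by
      intro x _
      obtain ⟨V, hV, hxV⟩ := QcohLimits.exists_affine_nhd x
      exact Set.mem_iUnion.2 ⟨⟨V, hV⟩, hxV⟩)
  refine ⟨s.card, fun j => ((s.equivFin.symm j : s) : X.affineOpens).1,
    fun j => ((s.equivFin.symm j : s) : X.affineOpens).2, ?_⟩
  rw [eq_top_iff]
  intro x _
  have hx := hs (Set.mem_univ x)
  simp only [Set.mem_iUnion] at hx
  obtain ⟨V, hVs, hxV⟩ := hx
  exact TopologicalSpace.Opens.mem_iSup.2 ⟨s.equivFin ⟨V, hVs⟩, by simpa using hxV⟩

/-- vanishing version -/
theorem subsingleton_HH_of_res [CompactSpace X] [IsLocallyNoetherian X]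
    (hd : ∀ V W : X.Opens, IsAffineOpen V → IsAffineOpen W → IsAffineOpen (V ⊓ W))
    (hres : PerfAux.HasResolutionProperty X) (n : ℕ)
    (h : ∀ E : X.Modules, FlatMod.IsFinLocFree E → ∀ i : ℕ, n < i → Subsingleton (Coh.HH X E i))
    (F : X.Modules) (hF : Coh.IsCoh F) (i : ℕ) (hi : n < i) :
    Subsingleton (Coh.HH X F i) := by
  obtain ⟨t, U, hU, hcov⟩ := exists_fin_affine_cover' (X := X)
  suffices H : ∀ (d i : ℕ), n < i → t ≤ i + d → ∀ F : X.Modules, Coh.IsCoh F →
      Subsingleton (Coh.HH X F i) from H t i hi (Nat.le_add_left _ _) F hF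
  intro d
  induction d with
  | zero =>
    intro i _ hti F hF
    haveI : Coh.IsQCoh F := hF.1
    exact Groth.Agent.S0010.result X t U hU hcov hd F i (by simpa using hti)
  | succ d ih =>
    intro i hi hti F hF
    obtain ⟨E, π, hE, hπ⟩ := hres F hF.1 hF.2
    haveI := hπ
    have hEc : Coh.IsCoh E := Groth.Agent.Lead.PerfLib.isCoh_of_isFinLocFree hE
    have hK : Coh.IsCoh (kernel π) := Groth.Agent.Lead.PerfLib.isCoh_kernel hEc hF π
    let S : ShortComplex X.Modules := ShortComplex.mk (kernel.ι π) π (kernel.condition π)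
    have hS : S.ShortExact :=
      { exact := ShortComplex.exact_kernel π
        mono_f := inferInstanceAs (Mono (kernel.ι π))
        epi_g := hπ }
    exact subsingleton_HH_right S hS i (h E hE i hi)
      (ih (i + 1) (Nat.lt_succ_of_lt hi) (by omega) (kernel π) hK)

/-- finiteness version, over a Noetherian base ring -/
theorem finite_HH_of_res (A : Type u) [CommRing A] [IsNoetherianRing A]
    [X.Over (Spec (CommRingCat.of A))] [CompactSpace X] [IsLocallyNoetherian X]
    (hd : ∀ V W : X.Opens, IsAffineOpen V → IsAffineOpen W → IsAffineOpen (V ⊓ W))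
    (hres : PerfAux.HasResolutionProperty X) (n : ℕ)
    (h : ∀ E : X.Modules, FlatMod.IsFinLocFree E → ∀ i : ℕ, n < i →
      Module.Finite A (Coh.HH X E i))
    (F : X.Modules) (hF : Coh.IsCoh F) (i : ℕ) (hi : n < i) :
    Module.Finite A (Coh.HH X F i) := by
  obtain ⟨t, U, hU, hcov⟩ := exists_fin_affine_cover' (X := X)
  suffices H : ∀ (d i : ℕ), n < i → t ≤ i + d → ∀ F : X.Modules, Coh.IsCoh F →
      Module.Finite A (Coh.HH X F i) from H t i hi (Nat.le_add_left _ _) F hF
  intro d
  induction d with
  | zero =>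
    intro i _ hti F hF
    haveI : Coh.IsQCoh F := hF.1
    haveI : Subsingleton (Coh.HH X F i) :=
      Groth.Agent.S0010.result X t U hU hcov hd F i (by simpa using hti)
    exact Module.Finite.of_finite
  | succ d ih =>
    intro i hi hti F hF
    obtain ⟨E, π, hE, hπ⟩ := hres F hF.1 hF.2
    haveI := hπ
    have hEc : Coh.IsCoh E := Groth.Agent.Lead.PerfLib.isCoh_of_isFinLocFree hE
    have hK : Coh.IsCoh (kernel π) := Groth.Agent.Lead.PerfLib.isCoh_kernel hEc hF π
    exact Groth.Agent.Helper1.HHLes.finite_of_epi A π i (h E hE i hi)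
      (ih (i + 1) (Nat.lt_succ_of_lt hi) (by omega) (kernel π) hK)

end Groth.Agent.Lead.QProjVan
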