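import Mathlib
import Groth.Agent.Lead.QProjVanB
import Groth.Agent.Lead.StratB

/-!
# Cohomological dimension from vanishing on negative powers of an ample invertible module

* `PicArith`: uniqueness of tensor inverses and inverses of tensor powers, by hand.
* `subsingleton_HH_of_resolving`: the descending induction for an arbitrary resolving class.
* `main11377`: if `H^i(X, M^{⊗ m}) = 0` for `i > r`, `m ≥ m₀` (`M` the inverse of an ample `L`),
  then `H^i(X, F) = 0` for `i > r` and every coherent `F`.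
-/

set_option autoImplicit false
set_option linter.style.haveILetI false
universe u
open CategoryTheory AlgebraicGeometry Limits Opposite
open Coherent

namespace Groth.Agent.Lead.QProjVan
open Groth.Agent.Helper4 Groth.Agent.Helper1 Groth.Agent.Helper1.SerreCrit
open Groth.Agent.Lead.Ref1B

variable {X : Scheme.{u}}

section PicArith

/-- uniqueness of tensor inverses: `N ⊗ P ≅ O` and `Q ⊗ P ≅ O` imply `N ≅ Q` -/
theorem nonempty_iso_of_inverse {N P Q : X.Modules}
    (e₁ : Nonempty (CohB1.tensorMod N P ≅ Coh.structureModule X))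
    (e₂ : Nonempty (CohB1.tensorMod Q P ≅ Coh.structureModule X)) : Nonempty (N ≅ Q) := by
  obtain ⟨e₁⟩ := e₁
  obtain ⟨e₂⟩ := e₂
  exact ⟨(SecTwist.unitorR N).symm ≪≫
    PicGrp.tensorModIso (Iso.refl N) (braid P Q ≪≫ e₂).symm ≪≫
    (assoc N P Q).symm ≪≫ PicGrp.tensorModIso e₁ (Iso.refl Q) ≪≫ unitorL Q⟩

/-- `M ⊗ L ≅ O` implies `M^k ⊗ L^k ≅ O` -/
theorem nonempty_tensorPow_inverse {M L : X.Modules}
    (e : Nonempty (CohB1.tensorMod M L ≅ Coh.structureModule X)) (k : ℕ) :
    Nonempty (CohB1.tensorMod (CohB1.tensorPow M k) (CohB1.tensorPow L k) ≅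
      Coh.structureModule X) := by
  obtain ⟨e⟩ := e
  induction k with
  | zero => exact ⟨SecTwist.unitorR (Coh.structureModule X)⟩
  | succ k ih =>
    obtain ⟨ih⟩ := ih
    let A := CohB1.tensorPow M k
    let B := CohB1.tensorPow L k
    have e1 : CohB1.tensorMod (CohB1.tensorMod A M) (CohB1.tensorMod B L) ≅
        Coh.structureModule X :=
      assoc A M (CohB1.tensorMod B L) ≪≫
        PicGrp.tensorModIso (Iso.refl A)
          ((assoc M B L).symm ≪≫ PicGrp.tensorModIso (braid M B) (Iso.refl L) ≪≫ assoc B M L ≪≫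
            PicGrp.tensorModIso (Iso.refl B) e ≪≫ SecTwist.unitorR B) ≪≫ ih
    exact ⟨e1⟩

end PicArith

section Vanishing

/-- in a short exact sequence `0 → A → B → C → 0`, `H^n(A) = 0` and `H^n(C) = 0` imply
`H^n(B) = 0` -/
theorem subsingleton_HH_middle (S : ShortComplex X.Modules) (hS : S.ShortExact) (n : ℕ)
    (h1 : Subsingleton (Coh.HH X S.X₁ n)) (h3 : Subsingleton (Coh.HH X S.X₃ n)) :
    Subsingleton (Coh.HH X S.X₂ n) := by
  have hS' : (S.map (toAbF X)).ShortExact := hS.map_of_exact (toAbF X)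
  have key : ∀ x : Coh.HH X S.X₂ n, x = 0 := by
    intro x
    obtain ⟨x₁, hx₁⟩ := Abelian.Ext.covariant_sequence_exact₂ _ hS'
      (show Abelian.Ext _ (S.map (toAbF X)).X₂ n from x) (@Subsingleton.elim _ h3 _ _)
    have h0 : x₁ = 0 := @Subsingleton.elim _ h1 _ _
    rw [h0, Abelian.Ext.zero_comp] at hx₁
    exact hx₁.symm
  exact ⟨fun a b => by rw [key a, key b]⟩

theorem subsingleton_HH_of_isZero (Z : X.Modules) (hZ : IsZero Z) (n : ℕ) :
    Subsingleton (Coh.HH X Z n) := by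
  have h0 : 𝟙 ((toAbF X).obj Z) = 0 := by
    rw [← CategoryTheory.Functor.map_id, hZ.eq_of_src (𝟙 Z) 0, Functor.map_zero]
  have key : ∀ x : Coh.HH X Z n, x = 0 := by
    intro x
    have h1 := Abelian.Ext.comp_mk₀_id (show Abelian.Ext _ ((toAbF X).obj Z) n from x)
    rw [h0, Abelian.Ext.mk₀_zero, Abelian.Ext.comp_zero] at h1
    exact h1.symm
  exact ⟨fun a b => by rw [key a, key b]⟩

theorem subsingleton_HH_biprod (A B : X.Modules) (n : ℕ) (hA : Subsingleton (Coh.HH X A n))
    (hB : Subsingleton (Coh.HH X B n)) : Subsingleton (Coh.HH X (A ⊞ B) n) :=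
  subsingleton_HH_middle _ (ShortComplex.Splitting.ofHasBinaryBiproduct A B).shortExact n hA hB

theorem subsingleton_HH_biproduct : ∀ (K : ℕ) (N : Fin K → X.Modules) (n : ℕ),
    (∀ j, Subsingleton (Coh.HH X (N j) n)) → Subsingleton (Coh.HH X (⨁ N) n) := by
  intro K
  induction K with
  | zero =>
    intro N n _
    apply subsingleton_HH_of_isZero
    rw [IsZero.iff_id_eq_zero]
    apply biproduct.hom_ext
    intro j
    exact j.elim0
  | succ K ih =>
    intro N n hN
    obtain ⟨i⟩ := Groth.Agent.Lead.ResProp.nonempty_biproduct_fin_succ_iso N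
    exact Groth.Agent.Lead.StratB.subsingleton_HH_of_iso i.symm n
      (subsingleton_HH_biprod _ _ n (hN 0) (ih _ n (fun j => hN j.succ)))

/-- **descending induction for a resolving class** -/
theorem subsingleton_HH_of_resolving [IsNoetherian X] [X.IsSeparated] (n : ℕ)
    (P : X.Modules → Prop)
    (hP : ∀ E, P E → Coh.IsCoh E ∧ ∀ i : ℕ, n < i → Subsingleton (Coh.HH X E i))
    (hres : ∀ F : X.Modules, Coh.IsCoh F → ∃ (E : X.Modules) (π : E ⟶ F), P E ∧ Epi π)
    (F : X.Modules) (hF : Coh.IsCoh F) (i : ℕ) (hi : n < i) :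
    Subsingleton (Coh.HH X F i) := by
  obtain ⟨t, U, hU, hcov⟩ := exists_fin_affine_cover' (X := X)
  have hd : ∀ V W : X.Opens, IsAffineOpen V → IsAffineOpen W → IsAffineOpen (V ⊓ W) :=
    fun V W hV hW => hV.inf hW
  suffices H : ∀ (d i : ℕ), n < i → t ≤ i + d → ∀ F : X.Modules, Coh.IsCoh F →
      Subsingleton (Coh.HH X F i) from H t i hi (Nat.le_add_left _ _) F hF
  intro d
  induction d with
  | zero =>
    intro i _ hti F hF
    haveI : Coh.IsQCoh F := hF.1
    exact Groth.Agent.S0010.result X t U hU hcov hd F i (by simpa using hti)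
  | succ d ih =>
    intro i hi hti F hF
    obtain ⟨E, π, hE, hπ⟩ := hres F hF
    haveI := hπ
    obtain ⟨hEc, hEv⟩ := hP E hE
    have hK : Coh.IsCoh (kernel π) := Groth.Agent.Lead.PerfLib.isCoh_kernel hEc hF π
    let S : ShortComplex X.Modules := ShortComplex.mk (kernel.ι π) π (kernel.condition π)
    have hS : S.ShortExact :=
      { exact := ShortComplex.exact_kernel π
        mono_f := inferInstanceAs (Mono (kernel.ι π))
        epi_g := hπ }
    exact subsingleton_HH_right S hS i (hEv i hi)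
      (ih (i + 1) (Nat.lt_succ_of_lt hi) (by omega) (kernel π) hK)

/-- **main**: vanishing on large negative powers of an ample module gives cohomological
dimension `≤ r` -/
theorem main11377 [IsNoetherian X] [X.IsSeparated] (L M : X.Modules) (hL : CohB1.IsAmple L)
    (hM : ClSub.IsInverseOf M L) (r : ℕ)
    (hneg : ∃ m₀ : ℕ, ∀ m : ℕ, m₀ ≤ m → ∀ i : ℕ, r < i →
      Subsingleton (Coh.HH X (CohB1.tensorPow M m) i))
    (F : X.Modules) (hF : Coh.IsCoh F) (i : ℕ) (hi : r < i) :
    Subsingleton (Coh.HH X F i) := by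
  obtain ⟨m₀, hm₀⟩ := hneg
  have hLi : PicF.IsInvertible L := hL.1
  have hL' : CohB1.IsAmple (CohB1.tensorPow L (m₀ + 1)) :=
    TensorAssoc.isAmple_tensorPow hLi (m₀ + 1) (Nat.succ_pos _) hL
  have hL'i : PicF.IsInvertible (CohB1.tensorPow L (m₀ + 1)) := hL'.1
  haveI : CompactSpace X := hL.2.1
  refine subsingleton_HH_of_resolving r
    (fun E => ∃ (K : ℕ) (N : Fin K → X.Modules), Nonempty (E ≅ ⨁ N) ∧
      ∀ j, PicF.IsInvertible (N j) ∧ ∃ k, m₀ ≤ k ∧ Nonempty (N j ≅ CohB1.tensorPow M k))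
    ?_ ?_ F hF i hi
  · rintro E ⟨K, N, ⟨e⟩, hN⟩
    constructor
    · have hflf : FlatMod.IsFinLocFree (⨁ N) :=
        Groth.Agent.Lead.ResProp.isFinLocFree_biproduct K N
          (fun j => Groth.Agent.Lead.ParaFLib.isFinLocFree_of_isInvertible _ (hN j).1)
      exact Groth.Agent.Lead.PerfLib.isCoh_of_isFinLocFree
        (FinLocFree2.isFinLocFree_of_iso e.symm hflf)
    · intro i hi
      refine Groth.Agent.Lead.StratB.subsingleton_HH_of_iso e.symm i
        (subsingleton_HH_biproduct K N i (fun j => ?_))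
      obtain ⟨-, k, hk, ⟨ek⟩⟩ := hN j
      exact Groth.Agent.Lead.StratB.subsingleton_HH_of_iso ek.symm i (hm₀ k hk i hi)
  · intro F hF
    haveI : F.IsQuasicoherent := hF.1
    obtain ⟨K, N, π, hπ, hN⟩ := Groth.Agent.Lead.ResProp.exists_epi_of_charts F hF.2
      (fun M' => ∃ a : ℕ, M' = CohB1.tensorPow (CohB1.tensorPow L (m₀ + 1)) (a + 1))
      (fun x => by
        obtain ⟨n, s, hx, haff⟩ := hL'.2.2 x
        exact ⟨CohB1.tensorPow (CohB1.tensorPow L (m₀ + 1)) (n + 1), s, ⟨n, rfl⟩,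
          TensorInv.isInvertible_tensorPow hL'i _, hx, haff⟩)
    refine ⟨⨁ N, π, ⟨K, N, ⟨Iso.refl _⟩, fun j => ?_⟩, hπ⟩
    obtain ⟨hNj, M', n, ⟨a, rfl⟩, hn, ⟨e⟩⟩ := hN j
    refine ⟨hNj, (m₀ + 1) * ((a + 1) * n), ?_, ?_⟩
    · calc m₀ ≤ (m₀ + 1) * 1 := by omega
        _ ≤ (m₀ + 1) * ((a + 1) * n) :=
          Nat.mul_le_mul le_rfl (Nat.mul_pos (Nat.succ_pos a) hn)
    · have e' : CohB1.tensorPow (CohB1.tensorPow (CohB1.tensorPow L (m₀ + 1)) (a + 1)) n ≅
          CohB1.tensorPow L ((m₀ + 1) * ((a + 1) * n)) :=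
        TensorAssoc.powMulIso (CohB1.tensorPow L (m₀ + 1)) hL'i (a + 1) n ≪≫
          TensorAssoc.powMulIso L hLi (m₀ + 1) ((a + 1) * n)
      exact nonempty_iso_of_inverse
        ⟨PicGrp.tensorModIso (Iso.refl (N j)) e'.symm ≪≫ e⟩
        (nonempty_tensorPow_inverse hM _)

end Vanishing

end Groth.Agent.Lead.QProjVan
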