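import Mathlib
import Groth.Agent.Lead.QProjVanC
import Groth.Agent.Lead.BlH1B
import Groth.Agent.S4342
import Groth.Agent.S0032
import Groth.Agent.S0042
import Groth.Agent.Helper4.AcycLocal
import Groth.Agent.Helper4.QcohLimits

/-!
# From coherent to quasi-coherent vanishing on Noetherian separated schemes

* `exists_epi_sigma_coh`: on a locally Noetherian scheme every quasi-coherent module is a quotient
  of a coproduct of coherent modules.
* `subsingleton_HH_qcoh_of_coh`: if `H^i(X, G) = 0` for `i > n` and all coherent `G`, the same holds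
  for all quasi-coherent modules.
* `subsingleton_HH_of_fibres`: vanishing above the fibre dimension (copy of helper4's `SN175` lemma
  with a light import closure).
-/

set_option autoImplicit false
set_option linter.style.haveILetI false
universe u
open CategoryTheory AlgebraicGeometry Limits Opposite TopologicalSpace

namespace Groth.Agent.Lead.QcohVan
open Groth.Agent.Helper4 Groth.Agent.Helper1 Groth.Agent.Helper1.SerreCrit

variable {X : Scheme.{u}}

/-- a locally Noetherian scheme has a locally Noetherian underlying space -/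
theorem locNoeth_space [IsLocallyNoetherian X] :
    ∀ x : X, ∃ U : X.Opens, x ∈ U ∧ TopologicalSpace.NoetherianSpace (U : Set X) := by
  intro x
  obtain ⟨U, hU, hxU, -⟩ := (Opens.isBasis_iff_nbhd.mp X.isBasis_affineOpens)
    (show x ∈ (⊤ : X.Opens) from trivial)
  haveI : IsNoetherianRing Γ(X, U) := IsLocallyNoetherian.component_noetherian ⟨U, hU⟩
  exact ⟨U, hxU, noetherianSpace_of_isAffineOpen U hU⟩

/-- every quasi-coherent module on a locally Noetherian scheme is a quotient of a coproduct of
coherent modules -/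
theorem exists_epi_sigma_coh [IsLocallyNoetherian X] (F : X.Modules) [Coh.IsQCoh F] :
    ∃ (J : Type u) (G : J → X.Modules) (π : (∐ G) ⟶ F), (∀ j, Coh.IsCoh (G j)) ∧ Epi π := by
  classical
  let J : Type u := Σ U : X.affineOpens, F.val.obj (op (U : X.Opens))
  have key : ∀ j : J, ∃ (G' : X.Modules) (i' : G' ⟶ F), Mono i' ∧ Coh.IsQCoh G' ∧ CohB1.IsFT G' ∧
      ∃ g : G'.val.obj (op (j.1 : X.Opens)), (i'.val.app (op (j.1 : X.Opens))).hom g = j.2 :=
    fun j => Groth.Agent.S4342.result locNoeth_space F j.1 j.2
  choose G i' hmono hq hft g hg using key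
  refine ⟨J, G, Sigma.desc i', fun j => ⟨hq j, hft j⟩, ?_⟩
  apply Groth.Agent.Helper4.AcycLocal.epi_of_app_surjective_affine
  intro U hU s
  let j : J := ⟨⟨U, hU⟩, s⟩
  refine ⟨(Sigma.ι G j).app U (g j), ?_⟩
  have h1 : Sigma.ι G j ≫ Sigma.desc i' = i' j := colimit.ι_desc _ _
  have h2 := congrArg (fun f => Scheme.Modules.Hom.app f U (g j)) h1
  exact h2.trans (hg j)

/-- coherent vanishing above `n` implies quasi-coherent vanishing above `n` -/
theorem subsingleton_HH_qcoh_of_coh [IsNoetherian X] [X.IsSeparated] (n : ℕ)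
    (hcoh : ∀ G : X.Modules, Coh.IsCoh G → ∀ i : ℕ, n < i → Subsingleton (Coh.HH X G i))
    (F : X.Modules) (hF : Coh.IsQCoh F) (i : ℕ) (hi : n < i) :
    Subsingleton (Coh.HH X F i) := by
  obtain ⟨t, U, hU, hcov⟩ := Groth.Agent.Lead.QProjVan.exists_fin_affine_cover' (X := X)
  have hd : ∀ V W : X.Opens, IsAffineOpen V → IsAffineOpen W → IsAffineOpen (V ⊓ W) :=
    fun V W hV hW => hV.inf hW
  suffices H : ∀ (d i : ℕ), n < i → t ≤ i + d → ∀ F : X.Modules, Coh.IsQCoh F →
      Subsingleton (Coh.HH X F i) from H t i hi (Nat.le_add_left _ _) F hF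
  intro d
  induction d with
  | zero =>
    intro i _ hti F hF
    haveI : Coh.IsQCoh F := hF
    exact Groth.Agent.S0010.result X t U hU hcov hd F i (by simpa using hti)
  | succ d ih =>
    intro i hi hti F hF
    haveI : Coh.IsQCoh F := hF
    obtain ⟨J, G, π, hG, hπ⟩ := exists_epi_sigma_coh F
    haveI := hπ
    haveI : (∐ G).IsQuasicoherent :=
      Groth.Agent.Helper4.QcohLimits.isQuasicoherent_sigma G (fun j => (hG j).1)
    haveI : F.IsQuasicoherent := hF
    have hK : Coh.IsQCoh (kernel π) := Groth.Agent.Helper4.QcohLimits.isQuasicoherent_kernel π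
    let S : ShortComplex X.Modules := ShortComplex.mk (kernel.ι π) π (kernel.condition π)
    have hS : S.ShortExact :=
      { exact := ShortComplex.exact_kernel π
        mono_f := inferInstanceAs (Mono (kernel.ι π))
        epi_g := hπ }
    exact Groth.Agent.Lead.BlH1B.subsingleton_HH_right S hS i
      (Groth.Agent.Lead.BlH1B.subsingleton_HH_sigma i G (fun j => hcoh (G j) (hG j) i hi))
      (ih (i + 1) (Nat.lt_succ_of_lt hi) (by omega) (kernel π) hK)

/-- cohomology of a coherent module vanishes above the fibre dimension, over an affine Noetherian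
base (helper4's `SN.subsingleton_HH_of_fibres`, re-proved here to keep imports light) -/
theorem subsingleton_HH_of_fibres (A : Type u) [CommRing A] [IsNoetherianRing A]
    (X : Scheme.{u}) (f : X ⟶ Spec (CommRingCat.of A)) [IsProper f] (d : ℕ)
    (hfib : ∀ y : ↥(Spec (CommRingCat.of A)), topologicalKrullDim ↥(f.fiber y) ≤ d)
    (G : X.Modules) (hG : Coh.IsCoh G) (p : ℕ) (hp : d < p) :
    Subsingleton (Coh.HH X G p) := by
  haveI : Coh.IsQCoh G := hG.1
  obtain ⟨e⟩ := Groth.Agent.S0032.result f G p
  have hst : ∀ y : ↥(Spec (CommRingCat.of A)),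
      Limits.IsZero (TopCat.Presheaf.stalk ((Coh.RpushAb f p).obj (Coh.toAb G)).obj y) :=
    fun y => Groth.Agent.S0042.result f y d (hfib y) G hG p hp
  haveI : Subsingleton ↑(((Coh.RpushAb f p).obj (Coh.toAb G)).obj.obj (op ⊤)) := by
    refine ⟨fun s t => ?_⟩
    apply TopCat.Presheaf.section_ext ((Coh.RpushAb f p).obj (Coh.toAb G)) ⊤ s t
    intro x hx
    haveI : Subsingleton ↑(TopCat.Presheaf.stalk ((Coh.RpushAb f p).obj (Coh.toAb G)).obj x) :=
      AddCommGrpCat.subsingleton_of_isZero (hst x)
    exact Subsingleton.elim _ _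
  exact e.toEquiv.subsingleton

/-- proper over a Noetherian affine base with fibres of dimension `≤ d`: quasi-coherent cohomology
vanishes above `d` -/
theorem subsingleton_HH_qcoh_of_fibres (A : Type u) [CommRing A] [IsNoetherianRing A]
    (X : Scheme.{u}) (f : X ⟶ Spec (CommRingCat.of A)) [IsProper f] (d : ℕ)
    (hfib : ∀ y : ↥(Spec (CommRingCat.of A)), topologicalKrullDim ↥(f.fiber y) ≤ d)
    (F : X.Modules) (hF : Coh.IsQCoh F) (p : ℕ) (hp : d < p) :
    Subsingleton (Coh.HH X F p) := by
  haveI : IsLocallyNoetherian X := LocallyOfFiniteType.isLocallyNoetherian f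
  haveI : CompactSpace X := QuasiCompact.compactSpace_of_compactSpace f
  haveI : IsNoetherian X := {}
  haveI : X.IsSeparated := by
    have h1 : IsSeparated (f ≫ terminal.from (Spec (CommRingCat.of A))) := inferInstance
    rw [Limits.terminal.comp_from] at h1
    exact ⟨h1⟩
  exact subsingleton_HH_qcoh_of_coh d
    (fun G hG i hi => subsingleton_HH_of_fibres A X f d hfib G hG i hi) F hF p hp

end Groth.Agent.Lead.QcohVan
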