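import Mathlib
import Groth.Prelude.Def_BlowUp2
import Groth.Prelude.Def_CurvBase
import Groth.Prelude.Def_Wider
import Groth.Prelude.Def_Dual3
import Groth.Prelude.Def_Coh
import Groth.Agent.S0356
import Groth.Agent.S0012
import Groth.Agent.S1682
import Groth.Agent.Lead.QcohVan
import Groth.Agent.Helper4.NApx49
import Groth.Agent.Helper4.QcohGlue

set_option autoImplicit false
set_option linter.style.haveILetI false

/-!
# Blow-ups and cohomological dimension (towards `LocCoh.cdLE_succ_of_isBlowUp_fibreDimLE`)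
-/

namespace Groth.Agent.Lead.BlowCd

open CategoryTheory Limits AlgebraicGeometry TopologicalSpace Opposite

universe u

/-- the complement of the support of an effective Cartier ideal is affine over the scheme -/
theorem isAffineHom_ι_of_eq_compl {X : Scheme.{u}} (𝓙 : X.IdealSheafData)
    (h : BlowUp.IsEffCartierIdeal 𝓙) (V : X.Opens) (hV : V = 𝓙.support.compl) :
    IsAffineHom V.ι := by
  subst hV
  apply isAffineHom_of_forall_exists_isAffineOpen
  intro x
  obtain ⟨W, hxW, f, -, hf⟩ := h x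
  refine ⟨W.1, hxW, W.2, ?_⟩
  rw [← Scheme.Hom.isAffineOpen_iff_of_isOpenImmersion (Scheme.Opens.ι (X := X) 𝓙.support.compl),
    Scheme.Hom.image_preimage_eq_opensRange_inf, Scheme.Opens.opensRange_ι]
  have hE : 𝓙.support.compl ⊓ W.1 = X.basicOpen f := by
    ext y
    have key : ∀ y ∈ W.1, (y ∈ 𝓙.support ↔ y ∉ X.basicOpen f) := by
      intro y hy
      rw [Scheme.IdealSheafData.mem_support_iff_of_mem hy, hf, Scheme.zeroLocus_span,
        Scheme.zeroLocus_singleton]
      rfl
    constructor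
    · rintro ⟨hy1, hy2⟩
      by_contra hc
      exact hy1 ((key y hy2).2 hc)
    · intro hy
      have hyW : y ∈ W.1 := X.basicOpen_le f hy
      refine ⟨fun hc => ((key y hyW).1 hc) hy, hyW⟩
  rw [hE]
  exact W.2.basicOpen f

theorem compl_support_idealSheaf (A : Type u) [CommRing A] (I : Ideal A) :
    LocCoh.puncturedOpen A I = (Curv2.idealSheaf A I).support.compl := by
  ext x
  change x ∈ (PrimeSpectrum.zeroLocus (I : Set A))ᶜ ↔ x ∈ ((Curv2.idealSheaf A I).support : Set _)ᶜ
  rw [Curv2.idealSheaf, Scheme.IdealSheafData.coe_support_ofIdealTop, Ideal.map,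
    Scheme.zeroLocus_span]
  rw [← Spec_zeroLocus_eq_zeroLocus (R := CommRingCat.of A) (I : Set A)]
  rfl

theorem isFiniteTypeIdeal_of_noetherian {X : Scheme.{u}} [IsLocallyNoetherian X]
    (𝓘 : X.IdealSheafData) : BlowUp.IsFiniteTypeIdeal 𝓘 := by
  intro U
  haveI := IsLocallyNoetherian.component_noetherian U
  exact (isNoetherianRing_iff_ideal_fg _).1 inferInstance _

/-- quasi-coherent cohomology of the complement of the centre of a blow-up of a Noetherian
affine scheme vanishes above the fibre dimension -/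
theorem subsingleton_HH_compl (A : Type u) [CommRing A] [IsNoetherianRing A]
    (X : Scheme.{u}) (b : X ⟶ Spec (CommRingCat.of A))
    (𝓘 : (Spec (CommRingCat.of A)).IdealSheafData) (hb : BlowUp.IsBlowUp b 𝓘) (d : ℕ)
    (hd : Dual3.FibreDimLE b d) (W : (Spec (CommRingCat.of A)).Opens)
    (hW : W = 𝓘.support.compl) (F : (W : Scheme.{u}).Modules) (hF : Coh.IsQCoh F)
    (p : ℕ) (hp : d < p) : Subsingleton (Coh.HH (W : Scheme.{u}) F p) := by
  haveI : IsProper b :=
    Groth.Agent.Helper4.NApx49.isProper_of_isBlowUp 𝓘 (isFiniteTypeIdeal_of_noetherian 𝓘) b hb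
  haveI hiso : IsIso (b ∣_ W) := by
    rw [hW]; exact Groth.Agent.S1682.result 𝓘 b hb
  haveI : F.IsQuasicoherent := hF
  haveI : Coh.IsQCoh F := hF
  obtain ⟨e1⟩ := Groth.Agent.S0012.result (inv (b ∣_ W)) F p
  haveI hNq : ((Coh.push (inv (b ∣_ W))).obj F).IsQuasicoherent :=
    Groth.Agent.Helper4.QcohGlue.isQuasicoherent_pushforward (inv (b ∣_ W)) F
  haveI : Coh.IsQCoh ((Coh.push (inv (b ∣_ W))).obj F) := hNq
  have hV : b ⁻¹ᵁ W = (𝓘.comap b).support.compl := by
    ext y
    rw [Scheme.IdealSheafData.support_comap, hW]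
    rfl
  haveI : IsAffineHom (b ⁻¹ᵁ W).ι := isAffineHom_ι_of_eq_compl (𝓘.comap b) hb.1 _ hV
  obtain ⟨e2⟩ := Groth.Agent.S0012.result (b ⁻¹ᵁ W).ι ((Coh.push (inv (b ∣_ W))).obj F) p
  haveI hq : ((Coh.push (b ⁻¹ᵁ W).ι).obj ((Coh.push (inv (b ∣_ W))).obj F)).IsQuasicoherent :=
    Groth.Agent.Helper4.QcohGlue.isQuasicoherent_pushforward (b ⁻¹ᵁ W).ι _
  have h3 := Groth.Agent.Lead.QcohVan.subsingleton_HH_qcoh_of_fibres A X b d hd
    ((Coh.push (b ⁻¹ᵁ W).ι).obj ((Coh.push (inv (b ∣_ W))).obj F)) hq p hp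
  exact (e1.trans e2).toEquiv.subsingleton

end Groth.Agent.Lead.BlowCd
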