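import Mathlib
import Groth.Prelude.Def_CAlg2

set_option autoImplicit false
set_option linter.style.haveILetI false

namespace Groth.Agent.Lead.UniTr

universe u

open CAlg2

theorem map_nilradical {A B : Type u} [CommRing A] [CommRing B] (e : A ≃+* B) :
    nilradical B = (nilradical A).map (e : A →+* B) := by
  ext y
  rw [mem_nilradical, Ideal.mem_map_iff_of_surjective (e : A →+* B) e.surjective]
  constructor
  · intro hy
    exact ⟨e.symm y, by rw [mem_nilradical]; exact hy.map e.symm, e.apply_symm_apply y⟩
  · rintro ⟨x, hx, rfl⟩
    exact (mem_nilradical.1 hx).map e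

/-- unibranch-ness is invariant under ring isomorphisms -/
theorem isUnibranch_of_ringEquiv {A B : Type u} [CommRing A] [CommRing B] [IsLocalRing A]
    [IsLocalRing B] (e : A ≃+* B) (h : IsUnibranch A) : IsUnibranch B := by
  obtain ⟨h1, h2⟩ := h
  let r : red A ≃+* red B := Ideal.quotientEquiv (nilradical A) (nilradical B) e (map_nilradical e)
  haveI : IsDomain (red B) := MulEquiv.isDomain (red A) r.symm.toMulEquiv
  let ψ : FractionRing (red A) ≃+* FractionRing (red B) := IsFractionRing.ringEquivOfRingEquiv r
  have hψ : ∀ a : red A, ψ (algebraMap (red A) (FractionRing (red A)) a) =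
      algebraMap (red B) (FractionRing (red B)) (r a) := fun a =>
    IsFractionRing.ringEquivOfRingEquiv_algebraMap r a
  have hψ' : ∀ a : red B, ψ.symm (algebraMap (red B) (FractionRing (red B)) a) =
      algebraMap (red A) (FractionRing (red A)) (r.symm a) := by
    intro a
    rw [RingEquiv.symm_apply_eq, hψ, RingEquiv.apply_symm_apply]
  have hint : ∀ x : FractionRing (red A), IsIntegral (red A) x → IsIntegral (red B) (ψ x) := by
    intro x hx
    have hcomp : (algebraMap (red B) (FractionRing (red B))).comp (r : red A →+* red B) =
        (ψ : FractionRing (red A) →+* FractionRing (red B)).comp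
          (algebraMap (red A) (FractionRing (red A))) := RingHom.ext fun a => (hψ a).symm
    exact IsIntegral.map_of_comp_eq (r : red A →+* red B)
      (ψ : FractionRing (red A) →+* FractionRing (red B)) hcomp hx
  have hint' : ∀ y : FractionRing (red B), IsIntegral (red B) y → IsIntegral (red A) (ψ.symm y) := by
    intro y hy
    have hcomp : (algebraMap (red A) (FractionRing (red A))).comp (r.symm : red B →+* red A) =
        (ψ.symm : FractionRing (red B) →+* FractionRing (red A)).comp
          (algebraMap (red B) (FractionRing (red B))) := RingHom.ext fun a => (hψ' a).symm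
    exact IsIntegral.map_of_comp_eq (r.symm : red B →+* red A)
      (ψ.symm : FractionRing (red B) →+* FractionRing (red A)) hcomp hy
  let g : normRed A →+* normRed B :=
    RingHom.codRestrict ((ψ : FractionRing (red A) →+* FractionRing (red B)).comp
        (integralClosure (red A) (FractionRing (red A))).val.toRingHom)
      (integralClosure (red B) (FractionRing (red B))) (fun x => hint x.1 x.2)
  have hg : Function.Surjective g := by
    intro y
    refine ⟨⟨ψ.symm y.1, hint' y.1 y.2⟩, ?_⟩
    apply Subtype.ext
    change ψ (ψ.symm y.1) = y.1
    exact ψ.apply_symm_apply _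
  haveI := h2
  exact ⟨inferInstance, IsLocalRing.of_surjective' g hg⟩

end Groth.Agent.Lead.UniTr
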