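import Mathlib
import Groth.Agent.S1695
import Groth.Agent.S4464
import Groth.Agent.Lead.BlowCd
import Groth.Agent.Lead.UniTr

set_option autoImplicit false
set_option linter.style.haveILetI false

/-!
# Integrality of blow-ups of integral affine schemes; closed fibre of a blow-up of a unibranch local domain
-/

namespace Groth.Agent.Lead.BlowInt

open CategoryTheory Limits AlgebraicGeometry TopologicalSpace Opposite

universe u

theorem irreducibleSpace_of_generic {X : Type*} [TopologicalSpace X] (ξ : X)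
    (h : ∀ x, ξ ⤳ x) : IrreducibleSpace X := by
  have h1 : closure ({ξ} : Set X) = Set.univ := by
    ext x
    simp only [Set.mem_univ, iff_true]
    exact (specializes_iff_mem_closure).1 (h x)
  have h2 : IsIrreducible (Set.univ : Set X) := by
    rw [← h1]; exact isIrreducible_singleton.closure
  exact (irreducibleSpace_def X).2 h2

/-- every point of a blow-up of an integral affine scheme has an affine integral chart whose
generic point lies over the generic point -/
theorem exists_chart (A : Type u) [CommRing A] [IsDomain A] (I : Ideal A) {X : Scheme.{u}}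
    (b : X ⟶ Spec (CommRingCat.of A))
    (hb : BlowUp.IsBlowUp b (Scheme.IdealSheafData.ofIdealTop
      (I.map (Scheme.ΓSpecIso (CommRingCat.of A)).inv.hom)))
    (x' : X) :
    ∃ (V : X.Opens) (B : Type u) (_ : CommRing B) (_ : IsDomain B)
      (_ : (V : Scheme.{u}) ≅ Spec (CommRingCat.of B)) (z : X),
      x' ∈ V ∧ z ⤳ x' ∧ PrimeSpectrum.asIdeal (b z) = ⊥ := by
  obtain ⟨a, ha, V, e, hx', he⟩ := Groth.Agent.S1695.result A I b hb x'
  have ha0 : a ≠ 0 := by
    rintro rfl
    haveI : Subsingleton (Localization.Away (0 : A)) :=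
      IsLocalization.subsingleton (M := Submonoid.powers (0 : A)) (Submonoid.mem_powers _)
    haveI : Subsingleton ↥(BlowUp.affineAlgebra A I 0) :=
      ⟨fun p q => Subtype.ext (Subsingleton.elim _ _)⟩
    have hempty : IsEmpty (PrimeSpectrum ↥(BlowUp.affineAlgebra A I 0)) := inferInstance
    exact hempty.false (e.hom ⟨x', hx'⟩)
  haveI : IsDomain (Localization.Away a) :=
    IsLocalization.isDomain_localization (powers_le_nonZeroDivisors_of_noZeroDivisors ha0)
  haveI : IsDomain ↥(BlowUp.affineAlgebra A I a) := inferInstance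
  refine ⟨V, ↥(BlowUp.affineAlgebra A I a), inferInstance, inferInstance, e,
    V.ι (e.inv ⟨⊥, Ideal.isPrime_bot⟩), hx', ?_, ?_⟩
  · have h1 : (⟨⊥, Ideal.isPrime_bot⟩ : PrimeSpectrum ↥(BlowUp.affineAlgebra A I a)) ⤳
        e.hom ⟨x', hx'⟩ := by
      rw [← PrimeSpectrum.le_iff_specializes]
      exact bot_le (a := (e.hom ⟨x', hx'⟩ : PrimeSpectrum _).asIdeal)
    have h2 := h1.map (e.inv ≫ V.ι).continuous
    have h3 : (e.inv ≫ V.ι) (e.hom ⟨x', hx'⟩) = x' := by
      rw [← Scheme.Hom.comp_apply, ← Category.assoc, e.hom_inv_id, Category.id_comp]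
      rfl
    rw [h3] at h2
    exact h2
  · have h1 : b (V.ι (e.inv ⟨⊥, Ideal.isPrime_bot⟩)) =
        (Spec.map (CommRingCat.ofHom (algebraMap A ↥(BlowUp.affineAlgebra A I a))))
          ⟨⊥, Ideal.isPrime_bot⟩ := by
      rw [← Scheme.Hom.comp_apply, ← he, ← Scheme.Hom.comp_apply, ← Category.assoc, e.inv_hom_id,
        Category.id_comp]
    rw [h1]
    change Ideal.comap (algebraMap A ↥(BlowUp.affineAlgebra A I a)) ⊥ = ⊥
    exact Ideal.comap_bot_of_injective _ (FaithfulSMul.algebraMap_injective A _)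

/-- a blow-up is injective over the complement of the centre -/
theorem eq_of_map_eq_of_not_mem_support {X Y : Scheme.{u}} (𝓘 : Y.IdealSheafData) (b : X ⟶ Y)
    (hb : BlowUp.IsBlowUp b 𝓘) (z1 z2 : X) (h1 : b z1 ∉ 𝓘.support) (h12 : b z1 = b z2) :
    z1 = z2 := by
  haveI := Groth.Agent.S1682.result 𝓘 b hb
  have hz1 : z1 ∈ b ⁻¹ᵁ 𝓘.support.compl := h1
  have hz2 : z2 ∈ b ⁻¹ᵁ 𝓘.support.compl := by
    change b z2 ∉ 𝓘.support
    rw [← h12]; exact h1
  have hinj : Function.Injective (b ∣_ 𝓘.support.compl) :=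
    (b ∣_ 𝓘.support.compl).homeomorph.injective
  have h : (b ∣_ 𝓘.support.compl) ⟨z1, hz1⟩ = (b ∣_ 𝓘.support.compl) ⟨z2, hz2⟩ := by
    apply Subtype.ext
    rw [morphismRestrict_base_coe, morphismRestrict_base_coe]
    exact h12
  exact congrArg Subtype.val (hinj h)

/-- a blow-up is surjective over the complement of the centre -/
theorem exists_map_eq_of_not_mem_support {X Y : Scheme.{u}} (𝓘 : Y.IdealSheafData) (b : X ⟶ Y)
    (hb : BlowUp.IsBlowUp b 𝓘) (y : Y) (hy : y ∉ 𝓘.support) : ∃ z : X, b z = y := by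
  haveI := Groth.Agent.S1682.result 𝓘 b hb
  have hy' : y ∈ 𝓘.support.compl := hy
  obtain ⟨w, hw⟩ := (b ∣_ 𝓘.support.compl).homeomorph.surjective ⟨y, hy'⟩
  refine ⟨w.1, ?_⟩
  rw [← morphismRestrict_base_coe]
  exact congrArg Subtype.val hw

theorem bot_not_mem_support (A : Type u) [CommRing A] [IsDomain A] (I : Ideal A) (hI : I ≠ ⊥) :
    (⟨⊥, Ideal.isPrime_bot⟩ : PrimeSpectrum A) ∉ (Scheme.IdealSheafData.ofIdealTop
      (I.map (Scheme.ΓSpecIso (CommRingCat.of A)).inv.hom)).support := by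
  have h := Groth.Agent.Lead.BlowCd.compl_support_idealSheaf A I
  have h1 : (⟨⊥, Ideal.isPrime_bot⟩ : PrimeSpectrum A) ∈ LocCoh.puncturedOpen A I := by
    change _ ∉ PrimeSpectrum.zeroLocus (I : Set A)
    rw [PrimeSpectrum.mem_zeroLocus]
    intro hle
    exact hI (le_bot_iff.1 hle)
  rw [h] at h1
  exact h1

theorem isIntegral_of_isBlowUp (A : Type u) [CommRing A] [IsDomain A] (I : Ideal A) (hI : I ≠ ⊥)
    {X : Scheme.{u}} (b : X ⟶ Spec (CommRingCat.of A))
    (hb : BlowUp.IsBlowUp b (Scheme.IdealSheafData.ofIdealTop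
      (I.map (Scheme.ΓSpecIso (CommRingCat.of A)).inv.hom))) :
    IsIntegral X := by
  have hη := bot_not_mem_support A I hI
  obtain ⟨ξ, hξ⟩ := exists_map_eq_of_not_mem_support _ b hb _ hη
  have hgen : ∀ x' : X, ξ ⤳ x' := by
    intro x'
    obtain ⟨V, B, _, _, e, z, hx', hz, hbz⟩ := exists_chart A I b hb x'
    have hbz' : b z = (⟨⊥, Ideal.isPrime_bot⟩ : PrimeSpectrum A) := PrimeSpectrum.ext hbz
    have : ξ = z := by
      apply eq_of_map_eq_of_not_mem_support _ b hb
      · rw [hξ]; exact hη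
      · rw [hξ, hbz']
    rw [this]; exact hz
  haveI : IrreducibleSpace X := irreducibleSpace_of_generic ξ hgen
  haveI : ∀ x : X, _root_.IsReduced (X.presheaf.stalk x) := by
    intro x'
    obtain ⟨V, B, _, _, e, z, hx', hz, hbz⟩ := exists_chart A I b hb x'
    haveI : IsReduced (V : Scheme.{u}) := isReduced_of_isOpenImmersion e.hom
    exact isReduced_of_injective (V.stalkIso ⟨x', hx'⟩).inv.hom
      ((ConcreteCategory.bijective_of_isIso (V.stalkIso ⟨x', hx'⟩).inv).1)
  haveI : IsReduced X := isReduced_of_isReduced_stalk X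
  exact isIntegral_of_irreducibleSpace_of_isReduced X

theorem map_genericPoint (A : Type u) [CommRing A] [IsDomain A] (I : Ideal A) (hI : I ≠ ⊥)
    {X : Scheme.{u}} [IsIntegral X] (b : X ⟶ Spec (CommRingCat.of A))
    (hb : BlowUp.IsBlowUp b (Scheme.IdealSheafData.ofIdealTop
      (I.map (Scheme.ΓSpecIso (CommRingCat.of A)).inv.hom))) :
    b (genericPoint X) = (⟨⊥, Ideal.isPrime_bot⟩ : PrimeSpectrum A) := by
  have hη := bot_not_mem_support A I hI
  obtain ⟨ξ, hξ⟩ := exists_map_eq_of_not_mem_support _ b hb _ hη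
  have h1 : b (genericPoint X) ⤳ b ξ := (genericPoint_specializes ξ).map b.continuous
  rw [hξ] at h1
  have h2 : PrimeSpectrum.asIdeal (b (genericPoint X)) ≤ ⊥ :=
    (PrimeSpectrum.le_iff_specializes (R := A) (b (genericPoint X)) ⟨⊥, Ideal.isPrime_bot⟩).2 h1
  exact PrimeSpectrum.ext (le_bot_iff.1 h2)

theorem isIso_stalkSpecializes_of_eq {Y : Scheme.{u}} {x y : Y} (h : x ⤳ y) (hxy : x = y) :
    IsIso (Y.presheaf.stalkSpecializes h) := by
  subst hxy
  have : Y.presheaf.stalkSpecializes h = 𝟙 _ := TopCat.Presheaf.stalkSpecializes_refl _ _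
  rw [this]
  infer_instance

/-- the stalk map of a blow-up is an isomorphism off the centre -/
theorem isIso_stalkMap_of_not_mem_support {X Y : Scheme.{u}} (𝓘 : Y.IdealSheafData) (b : X ⟶ Y)
    (hb : BlowUp.IsBlowUp b 𝓘) (z : X) (hz : b z ∉ 𝓘.support) : IsIso (b.stalkMap z) := by
  haveI := Groth.Agent.S1682.result 𝓘 b hb
  have hz' : z ∈ b ⁻¹ᵁ 𝓘.support.compl := hz
  have e := morphismRestrictStalkMap b 𝓘.support.compl ⟨z, hz'⟩
  have h1 : IsIso ((b ∣_ 𝓘.support.compl).stalkMap ⟨z, hz'⟩) := inferInstance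
  exact ((MorphismProperty.isomorphisms CommRingCat).arrow_mk_iso_iff e).1 h1

theorem isEmpty_of_isBlowUp_bot {X Y : Scheme.{u}} (b : X ⟶ Y)
    (hb : BlowUp.IsBlowUp b (⊥ : Y.IdealSheafData)) : IsEmpty X := by
  constructor
  intro x
  obtain ⟨W, hxW, f, hf, hspan⟩ := hb.1 x
  rw [Scheme.IdealSheafData.comap_bot, Scheme.IdealSheafData.ideal_bot] at hspan
  have hf0 : f = 0 := by
    have : f ∈ Ideal.span {f} := Ideal.mem_span_singleton_self f
    rw [← hspan] at this
    exact this
  haveI : Nonempty W.1 := ⟨⟨x, hxW⟩⟩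
  rw [hf0] at hf
  exact zero_notMem_nonZeroDivisors hf

theorem ofIdealTop_bot (A : Type u) [CommRing A] :
    Scheme.IdealSheafData.ofIdealTop
      ((⊥ : Ideal A).map (Scheme.ΓSpecIso (CommRingCat.of A)).inv.hom) = ⊥ := by
  rw [Ideal.map_bot]
  exact map_bot (Scheme.IdealSheafData.equivOfIsAffine (X := Spec (CommRingCat.of A))).symm

/-- the closed fibre of a blow-up of a unibranch Noetherian local domain in a nonzero ideal is
connected -/
theorem connectedSpace_closedFibre (A : Type u) [CommRing A] [IsDomain A] [IsNoetherianRing A]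
    [IsLocalRing A] (hA : CAlg2.IsUnibranch A) (I : Ideal A) (hI : I ≠ ⊥) {X : Scheme.{u}}
    (b : X ⟶ Spec (CommRingCat.of A))
    (hb : BlowUp.IsBlowUp b (Scheme.IdealSheafData.ofIdealTop
      (I.map (Scheme.ΓSpecIso (CommRingCat.of A)).inv.hom))) :
    ConnectedSpace ↥(b.fiber (IsLocalRing.closedPoint A)) := by
  haveI : IsIntegral X := isIntegral_of_isBlowUp A I hI b hb
  haveI : IsProper b := Groth.Agent.Helper4.NApx49.isProper_of_isBlowUp _
    (Groth.Agent.Lead.BlowCd.isFiniteTypeIdeal_of_noetherian _) b hb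
  haveI : IsLocallyNoetherian X := LocallyOfFiniteType.isLocallyNoetherian b
  have hgen := map_genericPoint A I hI b hb
  have hgenY : genericPoint (Spec (CommRingCat.of A)) = (⟨⊥, Ideal.isPrime_bot⟩ : PrimeSpectrum A) := by
    have h1 : genericPoint (Spec (CommRingCat.of A)) ⤳ (⟨⊥, Ideal.isPrime_bot⟩ : PrimeSpectrum A) :=
      genericPoint_specializes _
    have h2 : PrimeSpectrum.asIdeal (genericPoint (Spec (CommRingCat.of A))) ≤ ⊥ :=
      (PrimeSpectrum.le_iff_specializes (R := A) (genericPoint (Spec (CommRingCat.of A)))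
        ⟨⊥, Ideal.isPrime_bot⟩).2 h1
    exact PrimeSpectrum.ext (le_bot_iff.1 h2)
  have heq : b (genericPoint X) = genericPoint (Spec (CommRingCat.of A)) := by
    rw [hgen, hgenY]
  have hdom : b (genericPoint X) ⤳ genericPoint (Spec (CommRingCat.of A)) := by
    rw [heq]
  have hη := bot_not_mem_support A I hI
  have hsurj : Function.Surjective
      (CohIII.stalkToFunctionField b (genericPoint (Spec (CommRingCat.of A))) hdom) := by
    haveI h1 : IsIso (b.stalkMap (genericPoint X)) :=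
      isIso_stalkMap_of_not_mem_support _ b hb _ (by rw [hgen]; exact hη)
    haveI h2 : IsIso ((Spec (CommRingCat.of A)).presheaf.stalkSpecializes hdom) :=
      isIso_stalkSpecializes_of_eq hdom heq
    have h3 : Function.Bijective
        ((Spec (CommRingCat.of A)).presheaf.stalkSpecializes hdom ≫ b.stalkMap (genericPoint X)) :=
      ConcreteCategory.bijective_of_isIso _
    exact h3.2
  have hy : CAlg2.IsUnibranch ((Spec (CommRingCat.of A)).presheaf.stalk (IsLocalRing.closedPoint A)) :=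
    Groth.Agent.Lead.UniTr.isUnibranch_of_ringEquiv
      (stalkClosedPointIso (CommRingCat.of A)).symm.commRingCatIsoToRingEquiv hA
  refine Groth.Agent.S4464.result b hdom ?_ (IsLocalRing.closedPoint A) hy
  intro x _
  obtain ⟨w, hw⟩ := hsurj x
  exact ⟨0, w, by rw [hw, pow_zero, pow_one]⟩

end Groth.Agent.Lead.BlowInt
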