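import Mathlib
import Groth.Agent.Lead.CDecB
import Groth.Agent.Lead.ProConsLib7

open CategoryTheory Limits AlgebraicGeometry

namespace Groth.Agent.Lead.CDec
universe u

set_option maxHeartbeats 800000 in
theorem main {X Y : Scheme.{u}} (f : X ⟶ Y) [LocallyOfFinitePresentation f] [CompactSpace ↑Y]
    [QuasiSeparatedSpace ↑Y]
    (hcd : ∀ y : Y, ∃ x : X, f x = y ∧ Function.Bijective (f.residueFieldMap x)) :
    ∃ (n : ℕ) (Z : Fin n → Scheme.{u}) (z : ∀ i, Z i ⟶ Y), (∀ y : Y, ∃ i, y ∈ Set.range ⇑(z i)) ∧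
      ∀ i, IsImmersion (z i) ∧ LocallyOfFinitePresentation (z i) ∧ QuasiCompact (z i) ∧
        QuasiSeparated (z i) ∧
        ∃ s : Z i ⟶ pullback f (z i), s ≫ pullback.snd f (z i) = 𝟙 (Z i) := by
  classical
  choose Z z s hs hy h1 h2 h3 h4 using exists_local_piece f hcd
  have hE : ∀ y : Y, ProCons.IsIndConstructible (Set.range (z y)) := by
    intro y
    haveI := h2 y
    rw [← Set.image_univ]
    exact ProConsLib.ind_image (z y)
      (ProConsLib.ind_of_isLocallyConstructible Topology.IsLocallyConstructible.univ)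
  obtain ⟨J, hJ⟩ := ProConsLib.exists_finite_subcover (X := Y) ProConsLib.pro_univ
    (fun y ↦ Set.range (z y)) hE (fun y _ ↦ Set.mem_iUnion.mpr ⟨y, hy y⟩)
  let e : Fin J.card ≃ J := J.equivFin.symm
  refine ⟨J.card, fun i ↦ Z (e i).1, fun i ↦ z (e i).1, ?_, ?_⟩
  · intro y
    have := hJ (Set.mem_univ y)
    simp only [Set.mem_iUnion] at this
    obtain ⟨y', hy'J, hy'⟩ := this
    refine ⟨e.symm ⟨y', hy'J⟩, ?_⟩
    have key : ∀ t : J, t = ⟨y', hy'J⟩ → y ∈ Set.range (z t.1) := by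
      rintro _ rfl
      exact hy'
    exact key _ (Equiv.apply_symm_apply e _)
  · intro i
    refine ⟨h1 _, h2 _, h3 _, h4 _, pullback.lift (s (e i).1) (𝟙 _) ?_, pullback.lift_snd _ _ _⟩
    rw [hs, Category.id_comp]

end Groth.Agent.Lead.CDec
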