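import Mathlib
import Groth.Agent.Lead.CDecA

open CategoryTheory Limits AlgebraicGeometry

namespace Groth.Agent.Lead.CDec
universe u

/-- residue field maps of a morphism surjective on stalks are bijective -/
lemma residueFieldMap_bijective_of_surjectiveOnStalks {X Y : Scheme.{u}} (f : X ⟶ Y)
    [SurjectiveOnStalks f] (x : X) : Function.Bijective (f.residueFieldMap x) := by
  refine ⟨(f.residueFieldMap x).hom.injective, ?_⟩
  intro u
  obtain ⟨u', rfl⟩ := X.residue_surjective x u
  obtain ⟨v, rfl⟩ := f.stalkMap_surjective x u'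
  refine ⟨Y.residue (f x) v, ?_⟩
  exact congr($(Scheme.residue_residueFieldMap f x) v)

/-- a point admitting a section over its residue field has a preimage with trivial residue field
extension -/
lemma exists_point_of_section {X Y : Scheme.{u}} (f : X ⟶ Y) (y : Y)
    (σ : Spec (Y.residueField y) ⟶ X) (hσ : σ ≫ f = Y.fromSpecResidueField y) :
    ∃ x : X, f x = y ∧ Function.Bijective (f.residueFieldMap x) := by
  let pt : Spec (Y.residueField y) := default
  refine ⟨σ pt, ?_, ?_⟩
  · rw [← Scheme.Hom.comp_apply, hσ, Scheme.fromSpecResidueField_apply]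
  · refine ⟨(f.residueFieldMap (σ pt)).hom.injective, ?_⟩
    have h1 : (σ ≫ f).residueFieldMap pt = f.residueFieldMap (σ pt) ≫ σ.residueFieldMap pt :=
      Scheme.residueFieldMap_comp σ f pt
    have h2 := Scheme.Hom.residueFieldMap_congr hσ pt
    have h3 : Function.Surjective ((σ ≫ f).residueFieldMap pt) := by
      rw [h2]
      have h4 := (residueFieldMap_bijective_of_surjectiveOnStalks
        (Y.fromSpecResidueField y) pt).2
      have h5 := h4.comp (ConcreteCategory.bijective_of_isIso (Y.residueFieldCongr
        (show (σ ≫ f) pt = (Y.fromSpecResidueField y) pt by rw [hσ])).hom).2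
      intro u
      obtain ⟨v, hv⟩ := h5 u
      exact ⟨v, hv⟩
    rw [h1] at h3
    intro u
    obtain ⟨v, hv⟩ := h3 (σ.residueFieldMap pt u)
    refine ⟨v, ?_⟩
    apply (σ.residueFieldMap pt).hom.injective
    rw [← hv]
    rfl

end Groth.Agent.Lead.CDec
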