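import Mathlib
import Groth.Agent.Lead.CDecD
import Groth.Agent.S0591
import Groth.Agent.S9193

open CategoryTheory Limits AlgebraicGeometry

namespace Groth.Agent.Lead.CDec
universe u

/-- existence of a section over the residue field of a point -/
def HasSec {X Y : Scheme.{u}} (f : X ⟶ Y) (y : Y) : Prop :=
  ∃ σ : Spec (Y.residueField y) ⟶ X, σ ≫ f = Y.fromSpecResidueField y

lemma hasSec_of_cd {X Y : Scheme.{u}} (f : X ⟶ Y)
    (hcd : ∀ y : Y, ∃ x : X, f x = y ∧ Function.Bijective (f.residueFieldMap x)) (y : Y) :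
    HasSec f y := exists_residue_section f hcd y

lemma HasSec.exists_point {X Y : Scheme.{u}} {f : X ⟶ Y} {y : Y} (h : HasSec f y) :
    ∃ x : X, f x = y ∧ Function.Bijective (f.residueFieldMap x) := by
  obtain ⟨σ, hσ⟩ := h
  exact exists_point_of_section f y σ hσ

/-- stability under base change -/
lemma hasSec_of_isPullback {X' X Y' Y : Scheme.{u}} {p : X' ⟶ X} {f' : X' ⟶ Y'} {f : X ⟶ Y}
    {q : Y' ⟶ Y} (sq : IsPullback p f' f q) (y' : Y') (h : HasSec f (q y')) : HasSec f' y' := by
  obtain ⟨σ, hσ⟩ := h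
  refine ⟨sq.lift (Spec.map (q.residueFieldMap y') ≫ σ) (Y'.fromSpecResidueField y') ?_,
    sq.lift_snd _ _ _⟩
  rw [Category.assoc, hσ, Scheme.Hom.SpecMap_residueFieldMap_fromSpecResidueField]

/-- points in the image of a monomorphism-like piece carrying a section -/
lemma hasSec_of_piece {Z X Y : Scheme.{u}} (f : X ⟶ Y) (z : Z ⟶ Y) [SurjectiveOnStalks z]
    (s : Z ⟶ X) (hs : s ≫ f = z) (w : Z) : HasSec f (z w) := by
  have hb := residueFieldMap_bijective_of_surjectiveOnStalks z w
  have : IsIso (z.residueFieldMap w) := (ConcreteCategory.isIso_iff_bijective _).mpr hb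
  refine ⟨Spec.map (inv (z.residueFieldMap w)) ≫ Z.fromSpecResidueField w ≫ s, ?_⟩
  rw [Category.assoc, Category.assoc, hs,
    ← Scheme.Hom.SpecMap_residueFieldMap_fromSpecResidueField,
    ← Spec.map_comp_assoc, IsIso.hom_inv_id, Spec.map_id, Category.id_comp]

end Groth.Agent.Lead.CDec
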