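import Mathlib
import Groth.Agent.Lead.CDecE
import Groth.Agent.S0591
import Groth.Agent.S9193

open CategoryTheory Limits AlgebraicGeometry

namespace Groth.Agent.Lead.CDec
universe u

/-- an immersion of finite presentation into a limit comes from an immersion of finite
presentation into a stage -/
theorem exists_immersion_model {J : Type u} [SmallCategory J] [IsCofiltered J]
    (P : J ⥤ Scheme.{u}) (cP : Cone P) (hcP : IsLimit cP)
    [∀ (i j : J) (f : i ⟶ j), IsAffineHom (P.map f)] [∀ i, CompactSpace (P.obj i)]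
    [∀ i, QuasiSeparatedSpace (P.obj i)] {Z : Scheme.{u}} (z : Z ⟶ cP.pt)
    [IsImmersion z] [LocallyOfFinitePresentation z] [QuasiCompact z] [QuasiSeparated z] :
    ∃ (b : J) (Zb : Scheme.{u}) (zb : Zb ⟶ P.obj b) (gZ : Z ⟶ Zb),
      IsImmersion zb ∧ LocallyOfFinitePresentation zb ∧ QuasiCompact zb ∧
      IsPullback gZ z zb (cP.π.app b) := by
  obtain ⟨b, Zb, zb, gZ, h1, h2, h3, sq⟩ := Groth.Agent.S0591.result P cP hcP Z z
  haveI : CompactSpace Zb := QuasiCompact.compactSpace_of_compactSpace zb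
  haveI : QuasiSeparatedSpace Zb := quasiSeparatedSpace_of_quasiSeparated zb
  haveI : LocallyOfFiniteType zb := inferInstance
  obtain ⟨i, φ, Xi, Yi, fi, gi, pY, pX, hY, hX, himm⟩ :=
    Groth.Agent.S9193.result P cP hcP b zb (𝟙 (P.obj b)) z (𝟙 cP.pt) (cP.π.app b) gZ
      (IsPullback.id_vert (cP.π.app b)) sq
  haveI : IsIso gi := hY.isIso_snd_of_isIso
  have hR : IsPullback pX (fi ≫ gi) zb (P.map φ) := by
    have := hX.paste_vert hY
    rwa [Category.comp_id] at this
  refine ⟨i, Xi, fi ≫ gi, hR.lift gZ (z ≫ cP.π.app i) (by rw [sq.w, Category.assoc, cP.w]),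
    inferInstance, ?_, ?_, ?_⟩
  · exact MorphismProperty.of_isPullback (P := @LocallyOfFinitePresentation) hR h1
  · exact MorphismProperty.of_isPullback (P := @QuasiCompact) hR h2
  · refine IsPullback.of_right ?_ (hR.lift_snd _ _ _) hR
    rw [hR.lift_fst, cP.w]
    exact sq

end Groth.Agent.Lead.CDec
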