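import Mathlib
import Groth.Agent.Lead.CDecF
import Groth.Agent.Lead.CDecB
import Groth.Agent.Lead.LimHom
import Groth.Agent.Lead.LimFrame
import Groth.Agent.Lead.LimCons
import Groth.Agent.Lead.ProConsLib7

open CategoryTheory Limits AlgebraicGeometry

namespace Groth.Agent.Lead.CDec
open Groth.Agent.Lead.LimPullback Groth.Agent.Lead.LimFrame Groth.Agent.Lead.LimHom
universe u

lemma hasSec_snd_of_fac {X₀ Y₀ M M' : Scheme.{u}} (f₀ : X₀ ⟶ Y₀) (m : M ⟶ Y₀) (m' : M' ⟶ Y₀)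
    (t : M' ⟶ M) (ht : t ≫ m = m') (y' : M') (h : HasSec (pullback.snd f₀ m) (t y')) :
    HasSec (pullback.snd f₀ m') y' := by
  subst ht
  have sq : IsPullback (pullback.lift (pullback.fst f₀ (t ≫ m)) (pullback.snd f₀ (t ≫ m) ≫ t)
      (by rw [pullback.condition, Category.assoc])) (pullback.snd f₀ (t ≫ m))
      (pullback.snd f₀ m) t := by
    refine IsPullback.of_right ?_ (pullback.lift_snd _ _ _) (IsPullback.of_hasPullback f₀ m)
    rw [pullback.lift_fst]
    exact IsPullback.of_hasPullback f₀ (t ≫ m)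
  exact hasSec_of_isPullback sq y' h

variable {I : Type u} [SmallCategory I] [IsCofiltered I] {D : I ⥤ Scheme.{u}} {c : Cone D}
  (hc : IsLimit c) [∀ {i j : I} (f : i ⟶ j), IsAffineHom (D.map f)] (i₀ : I)
  {X₀ Y₀ : Scheme.{u}} (g₀ : Y₀ ⟶ D.obj i₀) (f₀ : X₀ ⟶ Y₀)

include hc in
set_option backward.isDefEq.respectTransparency false in
/-- a section over a finitely presented piece of the limit descends to a stage -/
theorem exists_section_descend [CompactSpace Y₀] [QuasiSeparatedSpace Y₀]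
    [LocallyOfFinitePresentation f₀]
    (b : Over i₀) {Zb : Scheme.{u}} (zb : Zb ⟶ (pbDiag D i₀ g₀).obj b) [QuasiCompact zb]
    [QuasiSeparated zb]
    (s : pullback ((pbCone D c i₀ g₀).π.app b) zb ⟶ pullback f₀ (pullback.snd (c.π.app i₀) g₀))
    (hs : s ≫ limMap D c i₀ f₀ g₀ = pullback.fst ((pbCone D c i₀ g₀).π.app b) zb) :
    ∃ (k : Over i₀) (ψ : k ⟶ b)
      (sk : pullback ((pbDiag D i₀ g₀).map ψ) zb ⟶ pullback f₀ (pullback.snd (D.map k.hom) g₀)),
      sk ≫ stageMap D i₀ f₀ g₀ k = pullback.fst ((pbDiag D i₀ g₀).map ψ) zb := by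
  have hA : ∀ {j k : Over i₀} (f : j ⟶ k), IsAffineHom ((pbDiag D i₀ g₀).map f) :=
    fun f ↦ isAffineHom_pbDiag_map i₀ g₀ f
  have hCb : CompactSpace ↥((pbDiag D i₀ g₀).obj b) := compactSpace_pbDiag D i₀ g₀ b
  have hQb : QuasiSeparatedSpace ↥((pbDiag D i₀ g₀).obj b) := quasiSeparatedSpace_pbDiag D i₀ g₀ b
  have : CompactSpace Zb := QuasiCompact.compactSpace_of_compactSpace zb
  have : QuasiSeparatedSpace Zb := quasiSeparatedSpace_of_quasiSeparated zb
  have cond : (s ≫ pullback.fst f₀ (pullback.snd (c.π.app i₀) g₀)) ≫ f₀ =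
      (pullback.snd ((pbCone D c i₀ g₀).π.app b) zb ≫ zb) ≫ pullback.snd (D.map b.hom) g₀ := by
    rw [Category.assoc, pullback.condition, ← Category.assoc, hs, Category.assoc,
      ← pullback.condition_assoc]
    simp [pbCone]
  obtain ⟨j, g, h1, h2⟩ := exists_hom_descend (pbDiag D i₀ g₀) (pbCone D c i₀ g₀)
    (pbConeIsLimit i₀ g₀ hc) b zb (stageMap D i₀ f₀ g₀ b)
    (pullback.lift (s ≫ pullback.fst f₀ _) (pullback.snd ((pbCone D c i₀ g₀).π.app b) zb ≫ zb) cond)
    (pullback.lift_snd _ _ _)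
  let g' : pullback ((pbDiag D i₀ g₀).map j.hom) zb ⟶ pullback f₀ (pullback.snd (D.map b.hom) g₀) := g
  have h2' : g' ≫ pullback.snd f₀ (pullback.snd (D.map b.hom) g₀) =
      pullback.snd ((pbDiag D i₀ g₀).map j.hom) zb ≫ zb := h2
  have cond2 : (g' ≫ pullback.fst f₀ (pullback.snd (D.map b.hom) g₀)) ≫ f₀ =
      pullback.fst ((pbDiag D i₀ g₀).map j.hom) zb ≫ pullback.snd (D.map j.left.hom) g₀ := by
    rw [Category.assoc, pullback.condition, ← Category.assoc, h2', Category.assoc,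
      ← pullback.condition_assoc]
    simp [pbDiag]
  exact ⟨j.left, j.hom, pullback.lift (g' ≫ pullback.fst f₀ _)
    (pullback.fst ((pbDiag D i₀ g₀).map j.hom) zb) cond2, pullback.lift_snd _ _ _⟩

end Groth.Agent.Lead.CDec
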