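import Mathlib
import Groth.Agent.Lead.CDecG

open CategoryTheory Limits AlgebraicGeometry

namespace Groth.Agent.Lead.CDec
open Groth.Agent.Lead.LimPullback Groth.Agent.Lead.LimFrame Groth.Agent.Lead.LimHom
universe u

/-- arbitrary unions of ind-constructible subsets of a qcqs scheme are ind-constructible -/
lemma ind_iUnion {X : Scheme.{u}} [CompactSpace X] [QuasiSeparatedSpace X] {ι : Sort*}
    (F : ι → Set X) (h : ∀ i, ProCons.IsIndConstructible (F i)) :
    ProCons.IsIndConstructible (⋃ i, F i) := by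
  rw [ProConsLib.ind_iff_isOpen_constructibleTopology]
  exact @isOpen_iUnion X ι (constructibleTopology X) F
    (fun i ↦ (ProConsLib.ind_iff_isOpen_constructibleTopology _).mp (h i))

variable {I : Type u} [SmallCategory I] [IsCofiltered I] {D : I ⥤ Scheme.{u}} {c : Cone D}
  (hc : IsLimit c) [∀ {i j : I} (f : i ⟶ j), IsAffineHom (D.map f)] (i₀ : I)
  {X₀ Y₀ : Scheme.{u}} (g₀ : Y₀ ⟶ D.obj i₀) (f₀ : X₀ ⟶ Y₀)

include hc in
set_option backward.isDefEq.respectTransparency false in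
theorem exists_stage_nbhd [CompactSpace Y₀] [QuasiSeparatedSpace Y₀]
    [LocallyOfFinitePresentation f₀]
    (hcd : ∀ y, HasSec (limMap D c i₀ f₀ g₀) y) (y : ↥(pullback (c.π.app i₀) g₀)) :
    ∃ (k : Over i₀) (E : Set ↥((pbDiag D i₀ g₀).obj k)), ProCons.IsIndConstructible E ∧
      (∀ w ∈ E, HasSec (stageMap D i₀ f₀ g₀ k) w) ∧ ((pbCone D c i₀ g₀).π.app k) y ∈ E := by
  have hA : ∀ (j k : Over i₀) (f : j ⟶ k), IsAffineHom ((pbDiag D i₀ g₀).map f) :=
    fun _ _ f ↦ isAffineHom_pbDiag_map i₀ g₀ f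
  have hC : ∀ j, CompactSpace ↥((pbDiag D i₀ g₀).obj j) := compactSpace_pbDiag D i₀ g₀
  have hQ : ∀ j, QuasiSeparatedSpace ↥((pbDiag D i₀ g₀).obj j) :=
    quasiSeparatedSpace_pbDiag D i₀ g₀
  have hπ : IsAffineHom (c.π.app i₀) := isAffineHom_π_app D c hc i₀
  have hq : IsAffineHom (pullback.snd (c.π.app i₀) g₀) := MorphismProperty.pullback_snd _ _ hπ
  have : CompactSpace ↥(pullback (c.π.app i₀) g₀) :=
    QuasiCompact.compactSpace_of_compactSpace (pullback.snd (c.π.app i₀) g₀)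
  have : QuasiSeparatedSpace ↥(pullback (c.π.app i₀) g₀) :=
    quasiSeparatedSpace_of_quasiSeparated (pullback.snd (c.π.app i₀) g₀)
  obtain ⟨Z, z, s, hs, hy, h1, h2, h3, h4⟩ := exists_local_piece (limMap D c i₀ f₀ g₀)
    (fun y ↦ (hcd y).exists_point) y
  let z' : Z ⟶ (pbCone D c i₀ g₀).pt := z
  have : IsImmersion z' := h1
  have : LocallyOfFinitePresentation z' := h2
  have : QuasiCompact z' := h3
  have : QuasiSeparated z' := h4
  obtain ⟨b, Zb, zb, gZ, i1, i2, i3, sq⟩ := exists_immersion_model (pbDiag D i₀ g₀)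
    (pbCone D c i₀ g₀) (pbConeIsLimit i₀ g₀ hc) z'
  have : QuasiSeparated zb := inferInstance
  let e := sq.flip.isoPullback
  have he1 : e.hom ≫ pullback.fst _ _ = z' := sq.flip.isoPullback_hom_fst
  have he2 : e.hom ≫ pullback.snd _ _ = gZ := sq.flip.isoPullback_hom_snd
  obtain ⟨k, ψ, sk, hsk⟩ := exists_section_descend hc i₀ g₀ f₀ b zb (e.inv ≫ s) (by
    rw [Category.assoc, hs, Iso.inv_comp_eq, he1])
  have : IsImmersion (pullback.fst ((pbDiag D i₀ g₀).map ψ) zb) :=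
    MorphismProperty.pullback_fst _ _ i1
  have : LocallyOfFinitePresentation (pullback.fst ((pbDiag D i₀ g₀).map ψ) zb) :=
    MorphismProperty.pullback_fst _ _ i2
  refine ⟨k, Set.range (pullback.fst ((pbDiag D i₀ g₀).map ψ) zb), ?_, ?_, ?_⟩
  · rw [← Set.image_univ]
    exact ProConsLib.ind_image _
      (ProConsLib.ind_of_isLocallyConstructible Topology.IsLocallyConstructible.univ)
  · rintro _ ⟨w, rfl⟩
    exact hasSec_of_piece (stageMap D i₀ f₀ g₀ k) _ sk hsk w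
  · obtain ⟨w0, rfl⟩ := hy
    let t : Z ⟶ pullback ((pbDiag D i₀ g₀).map ψ) zb :=
      pullback.lift (z' ≫ (pbCone D c i₀ g₀).π.app k) gZ (by
        rw [Category.assoc, (pbCone D c i₀ g₀).w, sq.w])
    have ht : t ≫ pullback.fst ((pbDiag D i₀ g₀).map ψ) zb = z' ≫ (pbCone D c i₀ g₀).π.app k :=
      pullback.lift_fst _ _ _
    refine ⟨t w0, ?_⟩
    rw [← Scheme.Hom.comp_apply, ht]
    rfl

end Groth.Agent.Lead.CDec
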