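import Mathlib
import Groth.Agent.Lead.CDecH

open CategoryTheory Limits AlgebraicGeometry

namespace Groth.Agent.Lead.CDec
open Groth.Agent.Lead.LimPullback Groth.Agent.Lead.LimFrame Groth.Agent.Lead.LimHom
universe u

variable {I : Type u} [SmallCategory I] [IsCofiltered I] {D : I ⥤ Scheme.{u}} {c : Cone D}
  (hc : IsLimit c) [∀ {i j : I} (f : i ⟶ j), IsAffineHom (D.map f)] (i₀ : I)
  {X₀ Y₀ : Scheme.{u}} (g₀ : Y₀ ⟶ D.obj i₀) (f₀ : X₀ ⟶ Y₀)

include hc in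
set_option backward.isDefEq.respectTransparency false in
theorem cd_descends [CompactSpace Y₀] [QuasiSeparatedSpace Y₀]
    [LocallyOfFinitePresentation f₀]
    (hcd : ∀ y, HasSec (limMap D c i₀ f₀ g₀) y) :
    ∃ k : Over i₀, ∀ w, HasSec (stageMap D i₀ f₀ g₀ k) w := by
  classical
  have hA : ∀ {j k : Over i₀} (f : j ⟶ k), IsAffineHom ((pbDiag D i₀ g₀).map f) :=
    fun f ↦ isAffineHom_pbDiag_map i₀ g₀ f
  have hC : ∀ j, CompactSpace ↥((pbDiag D i₀ g₀).obj j) := compactSpace_pbDiag D i₀ g₀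
  have hQ : ∀ j, QuasiSeparatedSpace ↥((pbDiag D i₀ g₀).obj j) :=
    quasiSeparatedSpace_pbDiag D i₀ g₀
  have hπ : IsAffineHom (c.π.app i₀) := isAffineHom_π_app D c hc i₀
  have hq : IsAffineHom (pullback.snd (c.π.app i₀) g₀) := MorphismProperty.pullback_snd _ _ hπ
  have : CompactSpace ↥(pullback (c.π.app i₀) g₀) :=
    QuasiCompact.compactSpace_of_compactSpace (pullback.snd (c.π.app i₀) g₀)
  have : QuasiSeparatedSpace ↥(pullback (c.π.app i₀) g₀) :=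
    quasiSeparatedSpace_of_quasiSeparated (pullback.snd (c.π.app i₀) g₀)
  choose k E hE hN hy using exists_stage_nbhd hc i₀ g₀ f₀ hcd
  obtain ⟨K, hK⟩ := ProConsLib.exists_finite_subcover (X := pullback (c.π.app i₀) g₀)
    ProConsLib.pro_univ (fun y ↦ ((pbCone D c i₀ g₀).π.app (k y)) ⁻¹' (E y))
    (fun y ↦ Groth.Agent.Helper7.PC.ind_preimage _ _ (hE y))
    (fun y _ ↦ Set.mem_iUnion.mpr ⟨y, hy y⟩)
  obtain ⟨S, hS⟩ := IsCofiltered.inf_objs_exists (K.image k)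
  let E' : Set ↥((pbDiag D i₀ g₀).obj S) :=
    ⋃ (y : K) (φ : S ⟶ k y.1), ((pbDiag D i₀ g₀).map φ) ⁻¹' (E y.1)
  have hE' : ProCons.IsIndConstructible E' :=
    ind_iUnion _ fun y ↦ ind_iUnion _ fun φ ↦ Groth.Agent.Helper7.PC.ind_preimage _ _ (hE y.1)
  have hN' : ∀ w ∈ E', HasSec (stageMap D i₀ f₀ g₀ S) w := by
    intro w hw
    simp only [E', Set.mem_iUnion] at hw
    obtain ⟨y, φ, hw⟩ := hw
    exact hasSec_snd_of_fac f₀ (pullback.snd (D.map (k y.1).hom) g₀) _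
      ((pbDiag D i₀ g₀).map φ) (by simp [pbDiag]) w (hN y.1 _ hw)
  have hcov : ((pbCone D c i₀ g₀).π.app S) ⁻¹' E'ᶜ = ∅ := by
    rw [Set.eq_empty_iff_forall_notMem]
    intro y' hy'
    apply hy'
    have := hK (Set.mem_univ y')
    simp only [Set.mem_iUnion] at this
    obtain ⟨y, hyK, hy2⟩ := this
    obtain ⟨φ⟩ := hS (Finset.mem_image_of_mem k hyK)
    simp only [E', Set.mem_iUnion]
    refine ⟨⟨y, hyK⟩, φ, ?_⟩
    change ((pbDiag D i₀ g₀).map φ) (((pbCone D c i₀ g₀).π.app S) y') ∈ E y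
    rw [← Scheme.Hom.comp_apply, (pbCone D c i₀ g₀).w]
    exact hy2
  obtain ⟨m, φ, hm⟩ := LimCons.exists_preimage_eq_empty (pbConeIsLimit i₀ g₀ hc) S E'ᶜ
    ((ProConsLib.ind_iff_pro_compl E').mp hE') hcov
  refine ⟨m, fun w ↦ ?_⟩
  have hw : ((pbDiag D i₀ g₀).map φ) w ∈ E' := by
    by_contra h
    have : w ∈ ((pbDiag D i₀ g₀).map φ) ⁻¹' E'ᶜ := h
    rw [hm] at this
    exact this
  exact hasSec_snd_of_fac f₀ (pullback.snd (D.map S.hom) g₀) _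
    ((pbDiag D i₀ g₀).map φ) (by simp [pbDiag]) w (hN' _ hw)

end Groth.Agent.Lead.CDec
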