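import Mathlib
import Groth.Agent.Lead.CDecI

open CategoryTheory Limits AlgebraicGeometry

namespace Groth.Agent.Lead.CDec
open Groth.Agent.Lead.LimPullback Groth.Agent.Lead.LimFrame Groth.Agent.Lead.LimHom
universe u

/-- the class of morphisms admitting a section over the residue field of every point of the
target -/
def CDP : MorphismProperty Scheme.{u} := fun _ _ f ↦ ∀ y, HasSec f y

instance : CDP.{u}.IsStableUnderBaseChange where
  of_isPullback sq hg := fun y' ↦ hasSec_of_isPullback sq y' (hg _)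

theorem descends_along_limit {I : Type u} [SmallCategory I] [IsCofiltered I]
    (D : I ⥤ Scheme.{u}) (c : Limits.Cone D) (hc : Limits.IsLimit c)
    [∀ {i j : I} (a : i ⟶ j), IsAffineHom (D.map a)]
    (i0 : I) {X0 Y0 X Y : Scheme.{u}} (f0 : X0 ⟶ Y0) (q0 : Y0 ⟶ D.obj i0) [CompactSpace ↥Y0]
    [QuasiSeparatedSpace ↥Y0] [LocallyOfFinitePresentation f0]
    (f : X ⟶ Y) (q : Y ⟶ c.pt) (pY : Y ⟶ Y0) (pX : X ⟶ X0)
    (hY : IsPullback pY q q0 (c.π.app i0)) (hX : IsPullback pX f f0 pY)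
    (hcd : ∀ y : Y, ∃ x : X, f x = y ∧ Function.Bijective (f.residueFieldMap x)) :
    ∃ (i : I) (a : i ⟶ i0) (Xi Yi : Scheme.{u}) (fi : Xi ⟶ Yi) (qi : Yi ⟶ D.obj i)
      (pYi : Yi ⟶ Y0) (pXi : Xi ⟶ X0),
      IsPullback pYi qi q0 (D.map a) ∧ IsPullback pXi fi f0 pYi ∧
      ∀ y : Yi, ∃ x : Xi, fi x = y ∧ Function.Bijective (fi.residueFieldMap x) := by
  have h1 : CDP (limMap D c i0 f0 q0) :=
    frame_in CDP hY hX (fun y ↦ hasSec_of_cd f hcd y)
  obtain ⟨k, hk⟩ := cd_descends hc i0 q0 f0 h1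
  obtain ⟨i, a, Xi, Yi, fi, qi, pYi, pXi, s1, s2, s3⟩ := frame_out CDP k hk
  exact ⟨i, a, Xi, Yi, fi, qi, pYi, pXi, s1, s2, fun y ↦ (s3 y).exists_point⟩

end Groth.Agent.Lead.CDec
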