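import Mathlib
import Groth.Prelude.Def_CAlg
import Groth.Prelude.Def_CohB1
import Groth.Prelude.Def_FlatMod2
import Groth.Agent.Helper2.RegFree
import Groth.Agent.Helper7.AusBuchC
import Groth.Agent.Helper4.SuppDict
import Groth.Agent.Helper4.FinLocFree5
import Groth.Agent.Helper4.CohFP

set_option autoImplicit false
universe u
open CategoryTheory CategoryTheory.Limits AlgebraicGeometry TopologicalSpace Opposite

namespace Groth.Agent.Lead.CMFree

section Alg

/-- the annihilator of a localization at a prime of a finite module with full support is zero,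
when the localized ring is reduced. -/
theorem annihilator_eq_bot_of_support_univ {A : Type u} [CommRing A] (N : Type u) [AddCommGroup N]
    [Module A N] [Module.Finite A N] (hsupp : Module.support A N = Set.univ)
    (p : Ideal A) [p.IsPrime] (R : Type u) [CommRing R] [Algebra A R] [IsLocalization.AtPrime R p]
    [IsReduced R] (M : Type u) [AddCommGroup M] [Module A M] [Module R M] [IsScalarTower A R M]
    (f : N →ₗ[A] M) [IsLocalizedModule p.primeCompl f] :
    Module.annihilator R M = ⊥ := by
  rw [eq_bot_iff]
  intro r hr
  rw [Submodule.mem_bot]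
  obtain ⟨⟨a, s⟩, hrs⟩ := IsLocalization.mk'_surjective p.primeCompl r
  have hrs' : r * algebraMap A R s = algebraMap A R a := by
    rw [← hrs]; exact IsLocalization.mk'_spec R a s
  -- a kills M
  have ha : ∀ m : M, a • m = 0 := by
    intro m
    rw [← algebraMap_smul R a m, ← hrs', mul_comm, mul_smul, Module.mem_annihilator.mp hr m,
      smul_zero]
  -- for every n, there is t ∉ p with t • a • n = 0
  have hn : ∀ n : N, ∃ t : p.primeCompl, t • (a • n) = 0 := by
    intro n
    apply (IsLocalizedModule.eq_zero_iff p.primeCompl f).mp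
    rw [map_smul]
    exact ha _
  choose t ht using hn
  obtain ⟨S, hS⟩ := (Module.Finite.fg_top : (⊤ : Submodule A N).FG)
  let T : A := ∏ n ∈ S, (t n : A)
  have hT : T ∈ p.primeCompl := by
    apply Submonoid.prod_mem
    intro n _
    exact (t n).2
  have hTa : T * a ∈ Module.annihilator A N := by
    rw [← Submodule.annihilator_top, ← hS, Submodule.mem_annihilator_span]
    rintro ⟨n, hnS⟩
    obtain ⟨c, hc⟩ := Finset.dvd_prod_of_mem (fun n => (t n : A)) hnS
    change (T * a) • n = 0
    have : T = c * (t n : A) := by
      change ∏ i ∈ S, (t i : A) = _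
      rw [hc, mul_comm]
    rw [this, mul_assoc, mul_smul]
    have h2 : ((t n : A) * a) • n = 0 := by
      rw [mul_smul]
      exact ht n
    rw [h2, smul_zero]
  -- annihilator ≤ nilradical
  have hnil : IsNilpotent (T * a) := by
    have h1 : PrimeSpectrum.zeroLocus (Module.annihilator A N : Set A) = Set.univ := by
      rw [← Module.support_eq_zeroLocus, hsupp]
    have h2 := (PrimeSpectrum.zeroLocus_eq_univ_iff _).mp h1
    exact h2 hTa
  have h0 : algebraMap A R (T * a) = 0 := (hnil.map (algebraMap A R)).eq_zero
  have hTu : IsUnit (algebraMap A R T) := IsLocalization.map_units R ⟨T, hT⟩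
  have hsu : IsUnit (algebraMap A R s) := IsLocalization.map_units R s
  rw [map_mul] at h0
  have ha0 : algebraMap A R a = 0 := (hTu.mul_right_eq_zero).mp h0
  rw [ha0] at hrs'
  exact (hsu.mul_left_eq_zero).mp hrs'

theorem supportDim_eq_of_annihilator_eq_bot (R : Type u) [CommRing R] (M : Type u) [AddCommGroup M]
    [Module R M] [Module.Finite R M] (h : Module.annihilator R M = ⊥) :
    Module.supportDim R M = ringKrullDim R := by
  rw [Module.supportDim_eq_ringKrullDim_quotient_annihilator, h]
  exact ringKrullDim_eq_of_ringEquiv (RingEquiv.quotientBot R)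

/-- over a regular local ring a finite CM module of full dimension is free. -/
theorem free_of_cm_of_supportDim (R : Type u) [CommRing R] [IsRegularLocalRing R] (M : Type u)
    [AddCommGroup M] [Module R M] [Module.Finite R M] [Nontrivial M]
    (hcm : LocCoh.IsCohenMacaulayModule R M) (hdim : Module.supportDim R M = ringKrullDim R) :
    Module.Free R M := by
  have h1 := Groth.Agent.Helper2.RegFree.ringKrullDim_regular_nat R
  unfold LocCoh.IsCohenMacaulayModule at hcm
  rw [hdim, h1] at hcm
  have h2 : LocCoh.depth R M = ((IsLocalRing.maximalIdeal R).spanFinrank : ℕ∞) := by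
    have := hcm.symm
    exact_mod_cast this
  exact Groth.Agent.Helper2.RegFree.free_of_depth_eq _ R rfl M h2

/-- a nontrivial finite free module over a regular local ring is CM. -/
theorem cm_of_free (R : Type u) [CommRing R] [IsRegularLocalRing R] (M : Type u)
    [AddCommGroup M] [Module R M] [Module.Finite R M] [Module.Free R M] [Nontrivial M] :
    LocCoh.IsCohenMacaulayModule R M := by
  unfold LocCoh.IsCohenMacaulayModule
  have hR := Groth.Agent.Helper2.RegCM.cm_of_isRegularLocalRing R
  unfold LocCoh.IsCohenMacaulayModule at hR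
  rw [Groth.Agent.Helper7.AusBuch.depth_free M, ← hR]
  apply le_antisymm
  · rw [Module.supportDim_self_eq_ringKrullDim]
    exact Module.supportDim_le_ringKrullDim R M
  · -- R embeds in M
    let b := Module.Free.chooseBasis R M
    haveI : Nonempty (Module.Free.ChooseBasisIndex R M) := by
      by_contra hne
      rw [not_nonempty_iff] at hne
      haveI : Subsingleton M := b.repr.toEquiv.subsingleton
      exact not_subsingleton M inferInstance
    let i := Classical.arbitrary (Module.Free.ChooseBasisIndex R M)
    let g : R →ₗ[R] M := LinearMap.toSpanSingleton R M (b i)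
    apply Module.supportDim_le_of_injective g
    intro r s hrs
    have h1 : r • b i = s • b i := hrs
    have h2 := congrArg (fun m => b.repr m i) h1
    simpa using h2

end Alg

section Sch
open Groth.Agent.Helper4 Groth.Agent.Helper4.StalkDict Groth.Agent.Helper4.FinLocFree Groth.Agent.Helper4.FinLocFree2 Groth.Agent.Helper4.FinLocFree5

variable {X : Scheme.{u}} (F : X.Modules)

/-- on an affine open, full support of a coherent module means full support of its sections -/
theorem support_sections_eq_univ [F.IsQuasicoherent] {U : X.Opens} (hU : IsAffineOpen U)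
    (hsupp : CohB1.support F = Set.univ) :
    Module.support Γ(X, U) Γ(F, U) = Set.univ := by
  rw [Set.eq_univ_iff_forall]
  intro P
  obtain ⟨y, hy, rfl⟩ := exists_point_of_prime hU P
  rw [SuppDict.mem_support_iff hU F y hy, hsupp]
  trivial

set_option backward.isDefEq.respectTransparency false in
/-- the stalk of a coherent module with full support on a scheme with reduced stalk has full
support dimension -/
theorem supportDim_stalk_eq [F.IsQuasicoherent]
    (hft : SheafOfModules.IsFiniteType (R := X.ringCatSheaf) F)
    (hsupp : CohB1.support F = Set.univ) (x : X) [IsReduced (X.presheaf.stalk x)] :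
    haveI := finite_stalk F hft x
    Module.supportDim (X.presheaf.stalk x) (F.presheaf.stalk x) =
      ringKrullDim (X.presheaf.stalk x) := by
  haveI := finite_stalk F hft x
  obtain ⟨U, hU, hx⟩ := QcohLimits.exists_affine_nhd x
  letI := sectionModStalk F x hx
  letI := X.presheaf.algebra_section_stalk ⟨x, hx⟩
  haveI := hU.isLocalization_stalk ⟨x, hx⟩
  haveI := isLocalizedModule_germ hU F x hx
  haveI : IsScalarTower Γ(X, U) (X.presheaf.stalk x) (F.presheaf.stalk x) :=
    IsScalarTower.of_algebraMap_smul (fun r m => rfl)
  haveI : Module.Finite Γ(X, U) Γ(F, U) := SecDict.finite_sections hU F inferInstance hft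
  apply supportDim_eq_of_annihilator_eq_bot
  exact annihilator_eq_bot_of_support_univ Γ(F, U) (support_sections_eq_univ F hU hsupp)
    (hU.primeIdealOf ⟨x, hx⟩).asIdeal (X.presheaf.stalk x) (F.presheaf.stalk x) (germLin F x hx)

theorem cm_iff_locally_free (X : Scheme.{u}) [IsLocallyNoetherian X]
    (hreg : ∀ x : X, IsRegularLocalRing (X.presheaf.stalk x)) (F : X.Modules) (hF : Coh.IsCoh F) :
    (CohB1.support F = Set.univ ∧
        ∀ x : X, LocCoh.IsCohenMacaulayModule (X.presheaf.stalk x) ↑(F.presheaf.stalk x)) ↔
      ∀ x : X, ∃ (U : X.Opens) (n : ℕ), x ∈ U ∧ 0 < n ∧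
        Nonempty (F.restrict U.ι ≅ FlatMod.freeMod (↑U) n) := by
  haveI : F.IsQuasicoherent := hF.1
  have hft : SheafOfModules.IsFiniteType (R := X.ringCatSheaf) F := hF.2
  have hfp := CohFP.isFP_of_isCoh F hF.1 hF.2
  constructor
  · rintro ⟨hsupp, hcm⟩ x
    haveI := hreg x
    haveI : IsDomain (X.presheaf.stalk x) :=
      Groth.Agent.Lead.RegLocal.isDomain_of_isRegularLocalRing _
    haveI := finite_stalk F hft x
    have hdim := supportDim_stalk_eq F hft hsupp x
    haveI : Nontrivial (F.presheaf.stalk x) := by
      have hx : x ∈ CohB1.support F := by rw [hsupp]; trivial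
      exact not_subsingleton_iff_nontrivial.mp hx
    have hfree : Module.Free (X.presheaf.stalk x) (F.presheaf.stalk x) :=
      free_of_cm_of_supportDim _ _ (hcm x) hdim
    obtain ⟨U, hU, hx⟩ := QcohLimits.exists_affine_nhd x
    obtain ⟨V, n, hxV, hV⟩ := exists_isFreeAlong_of_fp_of_free_stalk F hU x hx
      (FPGlue.fp_sections F hfp hU) hfree
    refine ⟨V, n, hxV, ?_, hV⟩
    obtain ⟨b⟩ := nonempty_basis_stalk_of_isFreeAlong F hV x hxV
    by_contra hn
    have hn0 : n = 0 := by omega
    subst hn0
    haveI : Subsingleton (F.presheaf.stalk x) := b.repr.toEquiv.subsingleton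
    exact not_subsingleton (F.presheaf.stalk x) inferInstance
  · intro h
    have key : ∀ x : X, Nontrivial (F.presheaf.stalk x) ∧
        LocCoh.IsCohenMacaulayModule (X.presheaf.stalk x) ↑(F.presheaf.stalk x) := by
      intro x
      haveI := hreg x
      obtain ⟨V, n, hxV, hn, hV⟩ := h x
      obtain ⟨b⟩ := nonempty_basis_stalk_of_isFreeAlong F hV x hxV
      haveI : Module.Free (X.presheaf.stalk x) (F.presheaf.stalk x) := Module.Free.of_basis b
      haveI : Module.Finite (X.presheaf.stalk x) (F.presheaf.stalk x) := Module.Finite.of_basis b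
      haveI : Nontrivial (F.presheaf.stalk x) := by
        haveI : Nonempty (Fin n) := ⟨⟨0, hn⟩⟩
        exact b.repr.toEquiv.nontrivial
      exact ⟨inferInstance, cm_of_free _ _⟩
    refine ⟨?_, fun x => (key x).2⟩
    rw [Set.eq_univ_iff_forall]
    intro x
    exact not_subsingleton_iff_nontrivial.mpr (key x).1

end Sch

end Groth.Agent.Lead.CMFree
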