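import Mathlib
import Groth.Prelude.Def_CAlg
import Groth.Agent.Lead.CMCl

set_option autoImplicit false
set_option linter.style.haveILetI false
universe u
open CategoryTheory Limits AlgebraicGeometry IsLocalRing

namespace Groth.Agent.Lead.CMPt

/-- the algebraic input: a nonzero finite type algebra over an Artinian local ring has a maximal
ideal with Cohen–Macaulay localization -/
def AlgInput : Prop :=
  ∀ (A' B : Type u) [CommRing A'] [CommRing B] [IsLocalRing A'] [IsArtinianRing A']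
    [Algebra A' B] [Algebra.FiniteType A' B] [Nontrivial B],
    ∃ q : PrimeSpectrum B, q.asIdeal.IsMaximal ∧
      LocCoh.IsCohenMacaulayLocalRing (Localization.AtPrime q.asIdeal)

theorem isLocalRing_of_subsingleton {X : Scheme.{u}} {V : X.Opens} (hV : IsAffineOpen V)
    (hsub : (V : Set X).Subsingleton) (hne : (V : Set X).Nonempty) : IsLocalRing Γ(X, V) := by
  have hinj : Function.Injective hV.fromSpec := hV.fromSpec.isOpenEmbedding.injective
  have hprime : ∀ q1 q2 : PrimeSpectrum Γ(X, V), q1 = q2 := by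
    intro q1 q2
    apply hinj
    apply hsub
    · have : hV.fromSpec q1 ∈ Set.range hV.fromSpec := ⟨q1, rfl⟩
      rwa [hV.range_fromSpec] at this
    · have : hV.fromSpec q2 ∈ Set.range hV.fromSpec := ⟨q2, rfl⟩
      rwa [hV.range_fromSpec] at this
  haveI : Nontrivial Γ(X, V) := by
    obtain ⟨x, hx⟩ := hne
    have : x ∈ Set.range hV.fromSpec := by rw [hV.range_fromSpec]; exact hx
    obtain ⟨q, -⟩ := this
    exact (PrimeSpectrum.nonempty_iff_nontrivial).mp ⟨q⟩
  obtain ⟨m, hm⟩ := Ideal.exists_maximal Γ(X, V)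
  refine IsLocalRing.of_unique_max_ideal ⟨m, hm, fun m' hm' => ?_⟩
  have := hprime ⟨m', hm'.isPrime⟩ ⟨m, hm.isPrime⟩
  exact congrArg PrimeSpectrum.asIdeal this

theorem main (halg : AlgInput.{u}) (A : Type u) [CommRing A] [IsArtinianRing A] (X : Scheme.{u})
    (f : X ⟶ Spec (CommRingCat.of A)) [LocallyOfFiniteType f] [Nonempty X] :
    ∃ x : X, IsClosed ({x} : Set X) ∧ LocCoh.IsCohenMacaulayLocalRing (X.presheaf.stalk x) := by
  obtain ⟨x₀⟩ := ‹Nonempty X›
  haveI : IsLocallyArtinian (Spec (CommRingCat.of A)) :=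
    Scheme.isLocallyArtinianScheme_Spec.mpr ‹_›
  haveI : DiscreteTopology ↥(Spec (CommRingCat.of A)) := inferInstance
  obtain ⟨_, ⟨V, hV, rfl⟩, hpV, hVsub⟩ :=
    (Spec (CommRingCat.of A)).isBasis_affineOpens.exists_subset_of_mem_open
      (Set.mem_singleton (f x₀)) (isOpen_discrete {f x₀})
  obtain ⟨_, ⟨U, hU, rfl⟩, hxU, hUV⟩ := X.isBasis_affineOpens.exists_subset_of_mem_open
    (show x₀ ∈ (f ⁻¹ᵁ V : Set X) from hpV) (f ⁻¹ᵁ V).2
  haveI : IsArtinianRing Γ(Spec (CommRingCat.of A), V) :=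
    IsLocallyArtinian.isArtinianRing_presheaf_obj ⟨V, hV⟩
  haveI : IsLocalRing Γ(Spec (CommRingCat.of A), V) :=
    isLocalRing_of_subsingleton hV (Set.subsingleton_singleton.anti hVsub) ⟨_, hpV⟩
  have hT : (f.appLE V U hUV).hom.FiniteType := f.finiteType_appLE hV hU hUV
  algebraize [(f.appLE V U hUV).hom]
  haveI : Nontrivial Γ(X, U) := by
    have : x₀ ∈ Set.range hU.fromSpec := by rw [hU.range_fromSpec]; exact hxU
    obtain ⟨q, -⟩ := this
    exact (PrimeSpectrum.nonempty_iff_nontrivial).mp ⟨q⟩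
  obtain ⟨q, hqmax, hqCM⟩ := halg Γ(Spec (CommRingCat.of A), V) Γ(X, U)
  refine ⟨hU.fromSpec q, ?_, ?_⟩
  · -- closedness
    haveI : JacobsonSpace ↥(Spec (CommRingCat.of A)) :=
      PrimeSpectrum.isJacobsonRing_iff_jacobsonSpace.mp (inferInstanceAs (IsJacobsonRing A))
    haveI : JacobsonSpace X := LocallyOfFiniteType.jacobsonSpace f
    have hq : q ∈ closedPoints (Spec Γ(X, U)) :=
      (PrimeSpectrum.isClosed_singleton_iff_isMaximal q).mpr hqmax
    rw [← hU.fromSpec.isOpenEmbedding.preimage_closedPoints] at hq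
    exact hq
  · have hx : hU.fromSpec q ∈ U := by
      have : hU.fromSpec q ∈ Set.range hU.fromSpec := ⟨q, rfl⟩
      rwa [hU.range_fromSpec] at this
    letI := X.presheaf.algebra_section_stalk ⟨hU.fromSpec q, hx⟩
    haveI hloc : IsLocalization q.asIdeal.primeCompl (X.presheaf.stalk (hU.fromSpec q)) :=
      hU.isLocalization_stalk' q hx
    let e : Localization.AtPrime q.asIdeal ≃ₐ[Γ(X, U)] X.presheaf.stalk (hU.fromSpec q) :=
      IsLocalization.algEquiv q.asIdeal.primeCompl _ _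
    exact Groth.Agent.Lead.CMCl.cm_of_ringEquiv e.toRingEquiv

end Groth.Agent.Lead.CMPt
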