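import Mathlib
import Groth.Agent.S0372
import Groth.Agent.S0376
import Groth.Agent.S0377
import Groth.Agent.Helper7.CohenP1
import Groth.Agent.Lead.CMPtA

set_option autoImplicit false
set_option linter.style.haveILetI false
universe u
open CategoryTheory Limits AlgebraicGeometry IsLocalRing

namespace Groth.Agent.Lead.CMPt

theorem algInput : AlgInput.{u} := by
  intro A' B _ _ _ _ _ _ _
  have hnil : IsNilpotent (maximalIdeal A') :=
    (isArtinianRing_iff_isNilpotent_maximalIdeal A').mp inferInstance
  haveI : IsAdicComplete (maximalIdeal A') A' :=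
    Groth.Agent.Helper7.Cohen.isAdicComplete_of_isNilpotent _ hnil
  obtain ⟨ω, hω⟩ := Groth.Agent.S0376.result A'
  obtain ⟨ω', hω'⟩ := Groth.Agent.S0377.result A' ω hω B
  haveI : IsNoetherianRing B := Algebra.FiniteType.isNoetherianRing A' B
  obtain ⟨hopen, hdense⟩ := Groth.Agent.S0372.result B ω' hω'
  haveI : IsJacobsonRing B := isJacobsonRing_of_finiteType (A := A')
  haveI : JacobsonSpace (PrimeSpectrum B) :=
    PrimeSpectrum.isJacobsonRing_iff_jacobsonSpace.mp ‹_›
  have hne := hdense.nonempty
  obtain ⟨q, hq, hqc⟩ := nonempty_inter_closedPoints hne hopen.isLocallyClosed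
  exact ⟨q, (PrimeSpectrum.isClosed_singleton_iff_isMaximal q).mp hqc, hq⟩

end Groth.Agent.Lead.CMPt
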