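import Mathlib
import Groth.Agent.Helper3.AmpleUFD
import Groth.Agent.Lead.RegUFDA

/-!
# Ample families on locally factorial / regular schemes with affine diagonal

A variant of `Helper3.AmpleUFD.main` where separatedness is replaced by the affine-diagonal
hypothesis, and its specialization to regular schemes (regular local rings are UFDs).
-/

set_option autoImplicit false
set_option linter.style.haveILetI false
set_option linter.unusedSectionVars false
set_option linter.unusedVariables false

universe u

open AlgebraicGeometry CategoryTheory CategoryTheory.Limits TopologicalSpace Opposite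

namespace Groth.Agent.Lead.RegAmple

open Groth.Agent.Helper4.GenLoc Groth.Agent.Helper4.PullSec Groth.Agent.Helper4.TensorInv
open Groth.Agent.Helper3.AmpleUFD

theorem isAffineHom_ι_of_hdiag (X : Scheme.{u})
    (hdiag : ∀ U V : X.Opens, IsAffineOpen U → IsAffineOpen V → IsAffineOpen (U ⊓ V))
    (U : X.Opens) (hU : IsAffineOpen U) : IsAffineHom U.ι := by
  constructor
  intro W hW
  rw [← U.ι.isAffineOpen_iff_of_isOpenImmersion, Scheme.Hom.image_preimage_eq_opensRange_inf,
    Scheme.Opens.opensRange_ι]
  exact hdiag U W hU hW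

/-- a quasi-compact locally Noetherian scheme with affine diagonal and factorial local rings has
an ample family of invertible modules (variant of `Helper3.AmpleUFD.main`) -/
theorem hasAmpleFamily_of_ufd (X : Scheme.{u}) [CompactSpace X] [IsLocallyNoetherian X]
    (hdiag : ∀ U V : X.Opens, IsAffineOpen U → IsAffineOpen V → IsAffineOpen (U ⊓ V))
    (hfact : ∀ x : X, ∃ _ : IsDomain (X.presheaf.stalk x),
      UniqueFactorizationMonoid (X.presheaf.stalk x)) :
    MoreMor.HasAmpleFamily X := by
  haveI : IsNoetherian X := {}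
  refine ⟨inferInstance, fun x => ?_⟩
  obtain ⟨U, hU, hxU, hdense⟩ := exists_dense_affine x
  haveI : IsAffineHom U.ι := isAffineHom_ι_of_hdiag X hdiag U hU
  obtain ⟨D, hD, hsupp⟩ := Groth.Agent.Helper3.EffCarUFD.main X U hdense
    (fun y _ => by obtain ⟨h1, h2⟩ := hfact y; exact ⟨h1, h2⟩)
  have hJ := Groth.Agent.Lead.IdealModDict.isInvertible_of_isEffCartierIdeal D hD
  obtain ⟨M, hM, -, ⟨e⟩⟩ := Groth.Agent.Lead.InvDual.exists_inverse _ hJ
  let s₁ : Coh.structureModule X ⟶ CohB1.tensorMod (Coh.structureModule X) M :=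
    e.inv ≫ KoszTw.tensorMap (ClSub.idealModι D) (𝟙 M)
  have hle : CohB1.genLocus _ s₁ ≤ U :=
    Groth.Agent.Helper4.IdealTwist.genLocus_le_of_factor (ClSub.idealModι D) U
      (basicOpen_le D U hsupp) e.inv
  have hge : U ≤ CohB1.genLocus _ s₁ := by
    intro y hy
    obtain ⟨V₀, hyV₀, hV₀⟩ := hM y
    have htriv : IsTrivAlong M (V₀ ⊓ U).ι := IsTrivAlong.of_le inf_le_left hV₀
    obtain ⟨ε⟩ := htriv
    have h1 : V₀ ⊓ U ≤ CohB1.genLocus _ s₁ := by
      rw [le_genLocus_iff, isIso_restrict_iff]
      intro T hT
      have hb1 : Function.Bijective (e.inv.app T) := by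
        refine ⟨fun a b hab => ?_, fun b => ⟨e.hom.app T b, ?_⟩⟩
        · have h3 := congrArg (e.hom.app T) hab
          have h4 : ∀ c, e.hom.app T (e.inv.app T c) = c := by
            intro c
            have : (e.inv ≫ e.hom).app T c = c := by rw [e.inv_hom_id]; rfl
            exact this
          rw [h4, h4] at h3
          exact h3
        · have : (e.hom ≫ e.inv).app T b = b := by rw [e.hom_inv_id]; rfl
          exact this
      have hb2 := Groth.Agent.Helper4.IdealTwist.tensorMap_app_bijective (ClSub.idealMod D)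
        (Coh.structureModule X) M (V₀ ⊓ U) ε (ClSub.idealModι D) hT
        (idealModι_app_bijective D U hsupp T (hT.trans inf_le_right))
      exact hb2.comp hb1
    exact h1 ⟨hyV₀, hy⟩
  have heq : CohB1.genLocus _ s₁ = U := le_antisymm hle hge
  refine ⟨M, 1, s₁, hM, le_rfl, ?_, ?_⟩
  · show x ∈ CohB1.genLocus (CohB1.tensorMod (Coh.structureModule X) M) s₁
    rw [heq]; exact hxU
  · show IsAffineOpen (CohB1.genLocus (CohB1.tensorMod (Coh.structureModule X) M) s₁)
    rw [heq]; exact hU

/-- a quasi-compact locally Noetherian regular scheme with affine diagonal has an ample family -/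
theorem hasAmpleFamily_of_regular (X : Scheme.{u}) [CompactSpace X] [IsLocallyNoetherian X]
    (hreg : ∀ x : X, IsRegularLocalRing (X.presheaf.stalk x))
    (hdiag : ∀ U V : X.Opens, IsAffineOpen U → IsAffineOpen V → IsAffineOpen (U ⊓ V)) :
    MoreMor.HasAmpleFamily X :=
  hasAmpleFamily_of_ufd X hdiag (fun x =>
    haveI := hreg x
    ⟨Groth.Agent.Lead.RegLocal.isDomain_of_isRegularLocalRing _,
      Groth.Agent.Lead.RegUFD.ufd_of_isRegularLocalRing _⟩)

end Groth.Agent.Lead.RegAmple
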