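import Mathlib
import Groth.Agent.Lead.RegAmpleA
import Groth.Agent.Helper4.AmplePoints

/-!
# Ample families from effective Cartier divisors with ample complements
-/

set_option autoImplicit false
set_option linter.style.haveILetI false
set_option linter.unusedSectionVars false
set_option linter.unusedVariables false

universe u

open AlgebraicGeometry CategoryTheory CategoryTheory.Limits TopologicalSpace Opposite

namespace Groth.Agent.Lead.CartAmple

open Groth.Agent.Helper4.GenLoc Groth.Agent.Helper4.PullSec Groth.Agent.Helper4.TensorInv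
open Groth.Agent.Helper3.AmpleUFD

variable {X : Scheme.{u}}

/-- the canonical section of the inverse of the ideal of an effective Cartier divisor: its
generating locus is the complement of the support -/
theorem exists_section_compl (D : X.IdealSheafData) (hD : BlowUp.IsEffCartierIdeal D) :
    ∃ (M : X.Modules) (s₁ : Coh.structureModule X ⟶ CohB1.tensorMod (Coh.structureModule X) M),
      PicF.IsInvertible M ∧ CohB1.genLocus _ s₁ = D.support.compl := by
  obtain ⟨U, hU⟩ : ∃ U : X.Opens, U = D.support.compl := ⟨_, rfl⟩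
  have hsupp : (D.support : Set X) = (U : Set X)ᶜ := by
    rw [hU]; exact (compl_compl _).symm
  have hJ := Groth.Agent.Lead.IdealModDict.isInvertible_of_isEffCartierIdeal D hD
  obtain ⟨M, hM, -, ⟨e⟩⟩ := Groth.Agent.Lead.InvDual.exists_inverse _ hJ
  let s₁ : Coh.structureModule X ⟶ CohB1.tensorMod (Coh.structureModule X) M :=
    e.inv ≫ KoszTw.tensorMap (ClSub.idealModι D) (𝟙 M)
  have hle : CohB1.genLocus _ s₁ ≤ U :=
    Groth.Agent.Helper4.IdealTwist.genLocus_le_of_factor (ClSub.idealModι D) U
      (basicOpen_le D U hsupp) e.inv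
  have hge : U ≤ CohB1.genLocus _ s₁ := by
    intro y hy
    obtain ⟨V₀, hyV₀, hV₀⟩ := hM y
    have htriv : IsTrivAlong M (V₀ ⊓ U).ι := IsTrivAlong.of_le inf_le_left hV₀
    obtain ⟨ε⟩ := htriv
    have h1 : V₀ ⊓ U ≤ CohB1.genLocus _ s₁ := by
      rw [le_genLocus_iff, isIso_restrict_iff]
      intro T hT
      have hb1 : Function.Bijective (e.inv.app T) := by
        refine ⟨fun a b hab => ?_, fun b => ⟨e.hom.app T b, ?_⟩⟩
        · have h3 := congrArg (e.hom.app T) hab
          have h4 : ∀ c, e.hom.app T (e.inv.app T c) = c := by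
            intro c
            have : (e.inv ≫ e.hom).app T c = c := by rw [e.inv_hom_id]; rfl
            exact this
          rw [h4, h4] at h3
          exact h3
        · have : (e.hom ≫ e.inv).app T b = b := by rw [e.hom_inv_id]; rfl
          exact this
      have hb2 := Groth.Agent.Helper4.IdealTwist.tensorMap_app_bijective (ClSub.idealMod D)
        (Coh.structureModule X) M (V₀ ⊓ U) ε (ClSub.idealModι D) hT
        (idealModι_app_bijective D U hsupp T (hT.trans inf_le_right))
      exact hb2.comp hb1
    exact h1 ⟨hyV₀, hy⟩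
  exact ⟨M, s₁, hM, (le_antisymm hle hge).trans hU⟩

/-- `Helper4.AmplePoints.exists_extension_genLocus` for an open propositionally equal to `X_t` -/
theorem exists_extension_of_eq [CompactSpace X] [QuasiSeparatedSpace X] (M E : X.Modules)
    (hM : PicF.IsInvertible M) (hE : PicF.IsInvertible E) (t : Coh.structureModule X ⟶ M)
    (U : X.Opens) (hU : CohB1.genLocus M t = U)
    (u : Coh.structureModule (U : Scheme.{u}) ⟶ E.restrict U.ι) :
    ∃ (a : ℕ) (σ : Coh.structureModule X ⟶ CohB1.tensorMod E (CohB1.tensorPow M a)), 0 < a ∧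
      U.ι ⁻¹ᵁ (CohB1.genLocus _ σ) = CohB1.genLocus _ u := by
  subst hU
  exact Groth.Agent.Helper4.AmplePoints.exists_extension_genLocus M E hM hE t u

open Groth.Agent.Helper4 in
/-- effective Cartier divisors with empty common support and invertible modules ample on the
complements give an ample family -/
theorem main {m : ℕ} (D : Fin m → X.IdealSheafData)
    (hD : ∀ i, BlowUp.IsEffCartierIdeal (D i)) (hcap : ⋂ i, ((D i).support : Set ↑X) = ∅)
    (L : Fin m → X.Modules) (hL : ∀ i, PicF.IsInvertible (L i))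
    (hamp : ∀ i, CohB1.IsAmple ((L i).restrict (Scheme.Opens.ι (D i).support.compl))) :
    MoreMor.HasAmpleFamily X := by
  choose M s₁ hM hs₁ using fun i => exists_section_compl (D i) (hD i)
  have hM' : ∀ i, PicF.IsInvertible (CohB1.tensorMod (Coh.structureModule X) (M i)) := fun i =>
    isInvertible_tensorMod (isInvertible_structureModule (X := X)) (hM i)
  have hcov : ∀ x : X, ∃ i, x ∈ (D i).support.compl := by
    intro x
    by_contra hx
    push Not at hx
    have : x ∈ ⋂ i, ((D i).support : Set ↑X) := by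
      rw [Set.mem_iInter]
      intro i
      by_contra hxi
      exact hx i hxi
    rw [hcap] at this
    exact this
  have hcompact : CompactSpace X := by
    constructor
    have : (Set.univ : Set X) = ⋃ i, (((D i).support.compl : X.Opens) : Set X) := by
      ext x
      simp only [Set.mem_univ, Set.mem_iUnion, true_iff]
      exact hcov x
    rw [this]
    refine isCompact_iUnion fun i => ?_
    have := (hamp i).2.1
    exact isCompact_iff_compactSpace.mpr this
  have hqs : QuasiSeparatedSpace X := by
    refine QuasiSeparatedSpace.of_isOpenCover (U := fun i => CohB1.genLocus _ (s₁ i))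
      (eq_top_iff.mpr fun x _ => ?_)
      (fun i => AmpleBasis.isRetrocompact_genLocus _ (hM' i) (s₁ i)) (fun i => ?_)
    · obtain ⟨i, hi⟩ := hcov x
      exact Opens.mem_iSup.mpr ⟨i, by rw [hs₁ i]; exact hi⟩
    · rw [hs₁ i]
      have := AmpleBasis.quasiSeparatedSpace_of_isAmple (hamp i)
      exact (isQuasiSeparated_iff_quasiSeparatedSpace _ ((D i).support.compl).isOpen).mpr this
  refine ⟨hcompact, fun x => ?_⟩
  obtain ⟨i, hi⟩ := hcov x
  obtain ⟨U, hU⟩ : ∃ U : X.Opens, U = (D i).support.compl := ⟨_, rfl⟩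
  have hampi := hamp i
  rw [← hU] at hampi hi
  have hsU : CohB1.genLocus _ (s₁ i) = U := (hs₁ i).trans hU.symm
  obtain ⟨n, t, hxt, hta⟩ := hampi.2.2 ⟨x, hi⟩
  let E : X.Modules := CohB1.tensorPow (L i) (n + 1)
  have hE : PicF.IsInvertible E := isInvertible_tensorPow (hL i) _
  let u : Coh.structureModule (U : Scheme.{u}) ⟶ E.restrict U.ι :=
    t ≫ (AmpleRestrict.resPowIso U.ι (L i) (n + 1)).hom
  have hu : CohB1.genLocus _ u = CohB1.genLocus _ t := AmpleIso.genLocus_comp_iso _ t
  obtain ⟨a, σ, ha, hσ⟩ := exists_extension_of_eq _ E (hM' i) hE (s₁ i) U hsU u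
  let L' : X.Modules := CohB1.tensorMod
    (CohB1.tensorMod E (CohB1.tensorPow (CohB1.tensorMod (Coh.structureModule X) (M i)) a))
    (CohB1.tensorMod (Coh.structureModule X) (M i))
  have hL0 : PicF.IsInvertible
      (CohB1.tensorMod E (CohB1.tensorPow (CohB1.tensorMod (Coh.structureModule X) (M i)) a)) :=
    isInvertible_tensorMod hE (isInvertible_tensorPow (hM' i) _)
  have hL' : PicF.IsInvertible L' := isInvertible_tensorMod hL0 (hM' i)
  let σ' : Coh.structureModule X ⟶ L' := SecTwist.tmulHom σ (s₁ i)
  have hσ' : CohB1.genLocus L' σ' = U.ι ''ᵁ (CohB1.genLocus _ t) := by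
    show CohB1.genLocus _ (SecTwist.tmulHom σ (s₁ i)) = _
    rw [TensorGen.genLocus_tmulHom _ _ hL0 (hM' i), hsU, ← hu, ← hσ,
      Scheme.Hom.image_preimage_eq_opensRange_inf, Scheme.Opens.opensRange_ι, inf_comm]
  let σ'' : Coh.structureModule X ⟶ CohB1.tensorPow L' 1 :=
    SecTwist.tmulHom (𝟙 (Coh.structureModule X)) σ'
  have hσ'' : CohB1.genLocus (CohB1.tensorPow L' 1) σ'' = U.ι ''ᵁ (CohB1.genLocus _ t) := by
    show CohB1.genLocus (CohB1.tensorMod (Coh.structureModule X) L')
      (SecTwist.tmulHom (𝟙 (Coh.structureModule X)) σ') = _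
    rw [TensorGen.genLocus_tmulHom _ _ (isInvertible_structureModule (X := X)) hL',
      TensorAssoc.genLocus_id, top_inf_eq, hσ']
  refine ⟨L', 1, σ'', hL', le_rfl, ?_, ?_⟩
  · rw [hσ'']
    exact ⟨⟨x, hi⟩, hxt, rfl⟩
  · rw [hσ'']
    exact hta.image_of_isOpenImmersion U.ι

end Groth.Agent.Lead.CartAmple
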