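import Mathlib

/-!
# Descent of "principal, generated by a nonzerodivisor" along flat local homomorphisms
-/

set_option autoImplicit false

namespace Groth.Agent.Lead.CartDescA

universe u

/-- faithfully flat descent of principality by a nonzerodivisor, for finitely generated ideals
and flat local homomorphisms of local rings. -/
theorem principal_descent {R R' : Type*} [CommRing R] [CommRing R'] [IsLocalRing R] [IsLocalRing R']
    [Algebra R R'] [Module.Flat R R'] [IsLocalHom (algebraMap R R')]
    (I : Ideal R) (hI : I.FG) (g' : R') (hg' : g' ∈ nonZeroDivisors R')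
    (h : I.map (algebraMap R R') = Ideal.span {g'}) :
    ∃ g ∈ I, I = Ideal.span {g} ∧ g ∈ nonZeroDivisors R := by
  classical
  haveI : Module.FaithfullyFlat R R' := Module.FaithfullyFlat.of_flat_of_isLocalHom
  obtain ⟨s, rfl⟩ := hI
  -- each generator is a multiple of g'
  have hc : ∀ a ∈ s, ∃ c : R', algebraMap R R' a = c * g' := by
    intro a ha
    have : algebraMap R R' a ∈ Ideal.span {g'} := by
      rw [← h]; exact Ideal.mem_map_of_mem _ (Ideal.subset_span ha)
    obtain ⟨c, hc⟩ := Ideal.mem_span_singleton'.1 this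
    exact ⟨c, hc.symm⟩
  choose! c hc using hc
  -- g' is a combination of generators
  have hg'mem : g' ∈ (Ideal.span (s : Set R)).map (algebraMap R R') := by
    rw [h]; exact Ideal.mem_span_singleton_self g'
  rw [Ideal.map_span] at hg'mem
  -- some c a is a unit
  have hex : ∃ a ∈ s, IsUnit (c a) := by
    by_contra hne
    push Not at hne
    have hle : Ideal.span ((algebraMap R R') '' (s : Set R)) ≤
        IsLocalRing.maximalIdeal R' * Ideal.span {g'} := by
      rw [Ideal.span_le]
      rintro _ ⟨a, ha, rfl⟩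
      rw [SetLike.mem_coe, hc a ha]
      exact Ideal.mul_mem_mul ((IsLocalRing.mem_maximalIdeal _).2 (hne a ha))
        (Ideal.mem_span_singleton_self g')
    have h1 := hle hg'mem
    rw [Ideal.mem_mul_span_singleton] at h1
    obtain ⟨z, hz, hzg⟩ := h1
    have h2 : (z - 1) * g' = 0 := by rw [sub_mul, hzg, one_mul, sub_self]
    have h3 : z - 1 = 0 := (mul_right_mem_nonZeroDivisors_eq_zero_iff hg').1 h2
    have h4 : z = 1 := sub_eq_zero.1 h3
    rw [h4] at hz
    exact (IsLocalRing.mem_maximalIdeal _).1 hz isUnit_one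
  obtain ⟨a, ha, hu⟩ := hex
  refine ⟨a, Ideal.subset_span ha, ?_, ?_⟩
  · apply le_antisymm
    · rw [Ideal.span_le]
      intro b hb
      rw [SetLike.mem_coe, ← Ideal.comap_map_eq_self_of_faithfullyFlat (B := R') (Ideal.span {a}),
        Ideal.mem_comap, Ideal.map_span, Set.image_singleton, Ideal.mem_span_singleton']
      obtain ⟨v, hv⟩ := hu.exists_left_inv
      refine ⟨c b * v, ?_⟩
      rw [hc a ha, hc b hb]
      calc c b * v * (c a * g') = c b * (v * c a) * g' := by ring
        _ = c b * g' := by rw [hv, mul_one]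
    · rw [Ideal.span_singleton_le_iff_mem]
      exact Ideal.subset_span ha
  · have hinj : Function.Injective (algebraMap R R') := FaithfulSMul.algebraMap_injective R R'
    rw [mem_nonZeroDivisors_iff_right]
    intro x hx
    apply hinj
    rw [map_zero]
    have h1 : algebraMap R R' x * (c a * g') = 0 := by
      rw [← hc a ha, ← map_mul, hx, map_zero]
    have h2 : (algebraMap R R' x * c a) * g' = 0 := by rw [mul_assoc]; exact h1
    have h3 := (mul_right_mem_nonZeroDivisors_eq_zero_iff hg').1 h2
    exact (hu.mul_left_eq_zero).1 h3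

/-- in a Noetherian ring, an element which becomes a nonzerodivisor in the localization at a prime
is a nonzerodivisor in every localization inverting a suitable single element outside the prime. -/
theorem exists_nzd_away {B : Type*} [CommRing B] [IsNoetherianRing B] (q : Ideal B) [q.IsPrime]
    (T : Type*) [CommRing T] [Algebra B T] [IsLocalization.AtPrime T q] (g₀ : B)
    (hg : algebraMap B T g₀ ∈ nonZeroDivisors T) :
    ∃ r ∉ q, ∀ (M : Submonoid B) (r' : B), r' * r ∈ M → ∀ (B' : Type*) [CommRing B'] [Algebra B B'],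
      IsLocalization M B' → algebraMap B B' g₀ ∈ nonZeroDivisors B' := by
  classical
  set N : Ideal B := Ideal.span {g₀} |>.annihilator with hN
  have hNmem : ∀ b, b ∈ N ↔ b * g₀ = 0 := by
    intro b
    rw [hN]
    show b ∈ (Submodule.span B ({g₀} : Set B)).annihilator ↔ _
    rw [Submodule.mem_annihilator_span_singleton, smul_eq_mul]
  obtain ⟨s, hs⟩ := (isNoetherianRing_iff_ideal_fg B).1 inferInstance N
  have hkill : ∀ b ∈ s, ∃ t : B, t ∉ q ∧ t * b = 0 := by
    intro b hb
    have hbN : b ∈ N := hs ▸ Ideal.subset_span hb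
    have h1 : algebraMap B T b * algebraMap B T g₀ = 0 := by
      rw [← map_mul, (hNmem b).1 hbN, map_zero]
    have h2 : algebraMap B T b = 0 := (mul_right_mem_nonZeroDivisors_eq_zero_iff hg).1 h1
    rw [IsLocalization.map_eq_zero_iff q.primeCompl] at h2
    obtain ⟨t, ht⟩ := h2
    exact ⟨t, t.2, ht⟩
  choose! t ht using hkill
  refine ⟨∏ b ∈ s, t b, ?_, ?_⟩
  · intro hmem
    obtain ⟨b, hb, hbq⟩ := (Ideal.IsPrime.prod_mem_iff).1 hmem
    exact (ht b hb).1 hbq
  · intro M r' hrM B' _ _ hloc
    have hrN : ∀ b ∈ N, (∏ b ∈ s, t b) * b = 0 := by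
      intro b hb
      rw [← hs] at hb
      refine Submodule.span_induction ?_ ?_ ?_ ?_ hb
      · intro b hb
        obtain ⟨u, hu⟩ := Finset.dvd_prod_of_mem t hb
        rw [hu, mul_comm (t b) u, mul_assoc, (ht b hb).2, mul_zero]
      · rw [mul_zero]
      · intro x y _ _ hx hy
        rw [mul_add, hx, hy, add_zero]
      · intro a x _ hx
        rw [smul_eq_mul, mul_left_comm, hx, mul_zero]
    rw [mem_nonZeroDivisors_iff_right]
    intro x hx
    obtain ⟨b, m, rfl⟩ := IsLocalization.exists_mk'_eq M x
    rw [IsLocalization.mk'_eq_zero_iff]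
    have h1 : IsLocalization.mk' B' (b * g₀) m = 0 := by
      rw [← hx, IsLocalization.mk'_eq_mul_mk'_one (M := M) b,
        IsLocalization.mk'_eq_mul_mk'_one (M := M) (b * g₀), map_mul]
      ring
    rw [IsLocalization.mk'_eq_zero_iff] at h1
    obtain ⟨m', hm⟩ := h1
    have h2 : (m' : B) * b ∈ N := by
      rw [hNmem]; rw [mul_assoc]; exact hm
    refine ⟨⟨r' * (∏ b ∈ s, t b), hrM⟩ * m', ?_⟩
    show r' * (∏ b ∈ s, t b) * (m' : B) * b = 0
    rw [mul_assoc, mul_assoc, hrN _ h2, mul_zero]

end Groth.Agent.Lead.CartDescA
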