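import Mathlib
import Groth.Prelude.Def_BlowUp2
import Groth.Agent.Helper9.IdealComap
import Groth.Agent.Lead.EffCartier
import Groth.Agent.Lead.RelCartierA
import Groth.Agent.Lead.RelCartierE
import Groth.Agent.Lead.CartDescA

/-!
# Faithfully flat descent of effective Cartier divisors (locally Noetherian target)
-/

set_option autoImplicit false
universe u
open CategoryTheory CategoryTheory.Limits AlgebraicGeometry TopologicalSpace
open Function

namespace Groth.Agent.Lead.CartDescB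

/-- if `p : X' ⟶ X` is flat and surjective, `X` is locally Noetherian and the inverse image of the
ideal sheaf `𝓘` on `X'` is effective Cartier, then `𝓘` is effective Cartier. -/
theorem descent {X' X : Scheme.{u}} (p : X' ⟶ X) [Flat p] [AlgebraicGeometry.Surjective p] [IsLocallyNoetherian X]
    (𝓘 : X.IdealSheafData) (h : BlowUp.IsEffCartierIdeal (𝓘.comap p)) :
    BlowUp.IsEffCartierIdeal 𝓘 := by
  intro x
  obtain ⟨x', rfl⟩ := p.surjective x
  obtain ⟨U, hU, hxU, -⟩ := (Opens.isBasis_iff_nbhd.1 X.isBasis_affineOpens)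
    (show p x' ∈ (⊤ : X.Opens) from trivial)
  obtain ⟨W, hyW, hWU, g', hg'nzd, hgI⟩ :=
    EffCartier.exists_le_of_isEffCartier _ h x' (p ⁻¹ᵁ U) hxU
  have hcomap := Groth.Agent.Helper9.IdealComap.ideal_comap p 𝓘 ⟨U, hU⟩ W hWU
  rw [hgI] at hcomap
  haveI : IsNoetherianRing Γ(X, U) := IsLocallyNoetherian.component_noetherian ⟨U, hU⟩
  have hfg : (𝓘.ideal ⟨U, hU⟩).FG := (isNoetherianRing_iff_ideal_fg _).1 inferInstance _
  letI algBT : Algebra Γ(X, U) (X.presheaf.stalk (p x')) :=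
    (X.presheaf.germ U _ hxU).hom.toAlgebra
  letI algB'T' : Algebra Γ(X', W.1) (X'.presheaf.stalk x') :=
    (X'.presheaf.germ W.1 _ hyW).hom.toAlgebra
  letI algTT' : Algebra (X.presheaf.stalk (p x')) (X'.presheaf.stalk x') :=
    (p.stalkMap x').hom.toAlgebra
  haveI locT : IsLocalization.AtPrime (X.presheaf.stalk (p x'))
      (hU.primeIdealOf ⟨p x', hxU⟩).asIdeal := hU.isLocalization_stalk ⟨p x', hxU⟩
  haveI locT' : IsLocalization.AtPrime (X'.presheaf.stalk x')
      (W.2.primeIdealOf ⟨x', hyW⟩).asIdeal := W.2.isLocalization_stalk ⟨x', hyW⟩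
  haveI : IsLocalHom (algebraMap (X.presheaf.stalk (p x')) (X'.presheaf.stalk x')) := by
    show IsLocalHom (p.stalkMap x').hom
    infer_instance
  haveI : Module.Flat (X.presheaf.stalk (p x')) (X'.presheaf.stalk x') :=
    (Flat.stalkMap p x' : (p.stalkMap x').hom.Flat)
  have hg'T : X'.presheaf.germ W.1 x' hyW g' ∈ nonZeroDivisors (X'.presheaf.stalk x') :=
    IsLocalization.map_nonZeroDivisors_le (W.2.primeIdealOf ⟨x', hyW⟩).asIdeal.primeCompl _
      (Submonoid.mem_map_of_mem _ hg'nzd)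
  have hmap : Ideal.map (algebraMap (X.presheaf.stalk (p x')) (X'.presheaf.stalk x'))
      ((𝓘.ideal ⟨U, hU⟩).map (algebraMap Γ(X, U) (X.presheaf.stalk (p x')))) =
      Ideal.span {X'.presheaf.germ W.1 x' hyW g'} := by
    have hcomp : (algebraMap (X.presheaf.stalk (p x')) (X'.presheaf.stalk x')).comp
        (algebraMap Γ(X, U) (X.presheaf.stalk (p x'))) =
        (X'.presheaf.germ W.1 x' hyW).hom.comp (p.appLE U W.1 hWU).hom := by
      ext b
      show (p.stalkMap x').hom (X.presheaf.germ U _ hxU b) =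
        X'.presheaf.germ W.1 x' hyW ((p.appLE U W.1 hWU).hom b)
      rw [Scheme.Hom.appLE, CommRingCat.comp_apply, TopCat.Presheaf.germ_res_apply]
      exact Scheme.Hom.germ_stalkMap_apply p U x' hxU b
    rw [Ideal.map_map, hcomp, ← Ideal.map_map, ← hcomap, Ideal.map_span, Set.image_singleton]
  obtain ⟨g, -, hg, hgnzd⟩ := CartDescA.principal_descent _ (hfg.map _) _ hg'T hmap
  obtain ⟨r, hr, g₀, hg₀, hsp⟩ := RelCartierE.spread_principal
    (hU.primeIdealOf ⟨p x', hxU⟩).asIdeal.primeCompl (𝓘.ideal ⟨U, hU⟩) hfg g hg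
  have hg₀T : algebraMap Γ(X, U) (X.presheaf.stalk (p x')) g₀ ∈
      nonZeroDivisors (X.presheaf.stalk (p x')) := by
    have h1 := hsp (X.presheaf.stalk (p x')) (IsLocalization.map_units (X.presheaf.stalk (p x'))
      (⟨r, hr⟩ : (hU.primeIdealOf ⟨p x', hxU⟩).asIdeal.primeCompl))
    rw [hg] at h1
    exact RelCartierA.nzd_of_span_eq g _ hgnzd h1
  obtain ⟨r₂, hr₂, hnzd⟩ := CartDescA.exists_nzd_away
    (hU.primeIdealOf ⟨p x', hxU⟩).asIdeal (X.presheaf.stalk (p x')) g₀ hg₀T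
  have hrr₂ : r * r₂ ∈ (hU.primeIdealOf ⟨p x', hxU⟩).asIdeal.primeCompl :=
    Submonoid.mul_mem _ hr hr₂
  have hxr : p x' ∈ X.basicOpen (r * r₂) := by
    rw [X.mem_basicOpen (r * r₂) _ hxU]
    exact IsLocalization.map_units (X.presheaf.stalk (p x'))
      (⟨r * r₂, hrr₂⟩ : (hU.primeIdealOf ⟨p x', hxU⟩).asIdeal.primeCompl)
  letI algBB' : Algebra Γ(X, U) Γ(X, X.basicOpen (r * r₂)) :=
    (X.presheaf.map (homOfLE (X.basicOpen_le (r * r₂))).op).hom.toAlgebra
  have hloc : IsLocalization.Away (r * r₂) Γ(X, X.basicOpen (r * r₂)) :=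
    hU.isLocalization_basicOpen (r * r₂)
  refine ⟨X.affineBasicOpen (U := ⟨U, hU⟩) (r * r₂), hxr,
    (X.presheaf.map (homOfLE (X.basicOpen_le (r * r₂))).op).hom g₀, ?_, ?_⟩
  · exact hnzd (Submonoid.powers (r * r₂)) r (Submonoid.mem_powers _) Γ(X, X.basicOpen (r * r₂)) hloc
  · rw [← 𝓘.map_ideal_basicOpen ⟨U, hU⟩ (r * r₂)]
    refine hsp Γ(X, X.basicOpen (r * r₂)) ?_
    have hu : IsUnit (algebraMap Γ(X, U) Γ(X, X.basicOpen (r * r₂)) (r * r₂)) :=
      IsLocalization.Away.algebraMap_isUnit (r * r₂)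
    rw [map_mul] at hu
    exact isUnit_of_mul_isUnit_left hu

end Groth.Agent.Lead.CartDescB
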