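import Mathlib

/-!
# Extending effective Cartier divisors across UFD points: the algebra

`main_alg`: `A` Noetherian, `I` an ideal which is saturated with respect to a generization-stable set
`𝒰` of primes and locally principal (generated by a nonzerodivisor) at the primes of `𝒰`; if `p` is a
prime such that either `p ∈ 𝒰` or `A_p` is a UFD, then `I A_p` is generated by one nonzerodivisor.
-/

set_option autoImplicit false

namespace Groth.Agent.Lead.CartExt

/-- saturation localizes -/
theorem exists_mul_mem_of_sat {A : Type*} [CommRing A] [IsNoetherianRing A] (I : Ideal A)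
    (𝒰 : Set (Ideal A))
    (hgen : ∀ P q : Ideal A, P.IsPrime → P ≤ q → q ∈ 𝒰 → P ∈ 𝒰)
    (hsat : ∀ a, (∀ q ∈ 𝒰, ∃ s, s ∉ q ∧ s * a ∈ I) → a ∈ I)
    (p : Ideal A) [p.IsPrime] (a : A)
    (ha : ∀ q ∈ 𝒰, q ≤ p → ∃ s, s ∉ q ∧ s * a ∈ I) :
    ∃ s, s ∉ p ∧ s * a ∈ I := by
  by_contra hcon
  push Not at hcon
  have hle : (Submodule.colon I {a} : Ideal A) ≤ p := by
    intro s hs
    by_contra hsp
    exact hcon s hsp (by simpa [Submodule.mem_colon_singleton] using hs)
  obtain ⟨P, hP, hPp⟩ := Ideal.exists_minimalPrimes_le hle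
  obtain ⟨x', hx'⟩ := Submodule.exists_eq_colon_of_mem_minimalPrimes hP
  have hPprime : P.IsPrime := hP.1.1
  by_cases hPU : P ∈ 𝒰
  · obtain ⟨s, hsP, hsa⟩ := ha P hPU hPp
    exact hsP (hP.1.2 (by simpa [Submodule.mem_colon_singleton] using hsa))
  · have hxI : x' ∈ I := by
      apply hsat
      intro q hq
      have hnle : ¬ P ≤ q := fun h => hPU (hgen P q hPprime h hq)
      obtain ⟨s, hsP, hsq⟩ := SetLike.not_le_iff_exists.mp hnle
      refine ⟨s, hsq, ?_⟩
      rw [hx'] at hsP
      simpa [Submodule.mem_colon_singleton] using hsP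
    have h1 : (1 : A) ∈ P := by
      rw [hx', Submodule.mem_colon_singleton]
      simpa using hxI
    exact hPprime.ne_top ((Ideal.eq_top_iff_one _).mpr h1)

/-- the gcd argument -/
theorem principal_of_sat {B : Type*} [CommRing B] [IsDomain B] [UniqueFactorizationMonoid B]
    (J : Ideal B) (hfg : J.FG) (𝒰 : Set (Ideal B)) (hprime : ∀ Q ∈ 𝒰, Q.IsPrime)
    (ha : ∀ Q ∈ 𝒰, ∃ d ∈ J, d ≠ 0 ∧ ∀ b ∈ J, ∃ t, t ∉ Q ∧ ∃ r, t * b = r * d)
    (hb : ∀ b, (∀ Q ∈ 𝒰, ∃ t, t ∉ Q ∧ t * b ∈ J) → b ∈ J) :
    ∃ g, g ≠ 0 ∧ J = Ideal.span {g} := by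
  classical
  by_cases hemp : 𝒰 = ∅
  · refine ⟨1, one_ne_zero, ?_⟩
    have h1 : (1 : B) ∈ J := hb 1 (by simp [hemp])
    rw [Ideal.span_singleton_one]
    exact (Ideal.eq_top_iff_one _).mpr h1
  obtain ⟨Q₀, hQ₀⟩ := Set.nonempty_iff_ne_empty.mpr hemp
  obtain ⟨d₀, hd₀J, hd₀, -⟩ := ha Q₀ hQ₀
  obtain ⟨S, hS⟩ := hfg
  let _ : StrongNormalizationMonoid B := UniqueFactorizationMonoid.strongNormalizationMonoid
  let _ : NormalizedGCDMonoid B := UniqueFactorizationMonoid.toNormalizedGCDMonoid B
  have hJne : J ≠ ⊥ := by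
    intro h
    rw [h] at hd₀J
    exact hd₀ (by simpa using hd₀J)
  have hSne : S.Nonempty := by
    by_contra h
    rw [Finset.not_nonempty_iff_eq_empty] at h
    subst h
    apply hJne
    rw [← hS]
    simp
  set g := S.gcd id with hg
  have hg0 : g ≠ 0 := by
    intro h
    rw [hg, Finset.gcd_eq_zero_iff] at h
    apply hJne
    rw [← hS, Ideal.span_eq_bot]
    intro x hx
    exact h x hx
  obtain ⟨s', hs', hgcd⟩ := Finset.extract_gcd (id : B → B) hSne
  have hJle : J ≤ Ideal.span {g} := by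
    rw [← hS, Ideal.span_le]
    intro x hx
    exact Ideal.mem_span_singleton.mpr (Finset.gcd_dvd (f := id) hx)
  refine ⟨g, hg0, le_antisymm hJle ?_⟩
  rw [Ideal.span_singleton_le_iff_mem]
  apply hb
  intro Q hQ
  have := hprime Q hQ
  obtain ⟨d, hdJ, hd0, hd⟩ := ha Q hQ
  obtain ⟨j, hj⟩ := Ideal.mem_span_singleton.mp (hJle hdJ)
  by_cases hjQ : j ∈ Q
  · exfalso
    have hj0 : j ≠ 0 := by
      rintro rfl
      exact hd0 (by simpa using hj)
    obtain ⟨f, hfprime, hfj, hfQ⟩ : ∃ f, Prime f ∧ f ∣ j ∧ f ∈ Q := by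
      obtain ⟨fs, hfs, hu⟩ := UniqueFactorizationMonoid.exists_prime_factors j hj0
      have hprod : fs.prod ∈ Q := by
        obtain ⟨u, hu'⟩ := hu.symm
        rw [← hu']
        exact Q.mul_mem_right _ hjQ
      obtain ⟨f, hf, hfQ⟩ := (Ideal.IsPrime.multiset_prod_mem_iff_exists_mem ‹Q.IsPrime› fs).mp hprod
      exact ⟨f, hfs f hf, (Multiset.dvd_prod hf).trans hu.dvd, hfQ⟩
    have hall : ∀ b ∈ S, f ∣ s' b := by
      intro b hbS
      obtain ⟨t, htQ, r, htr⟩ := hd b (hS ▸ Ideal.subset_span hbS)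
      have hbg : b = g * s' b := hs' b hbS
      have heq : t * s' b = r * j := by
        apply mul_left_cancel₀ hg0
        calc g * (t * s' b) = t * (g * s' b) := by ring
          _ = t * b := by rw [← hbg]
          _ = r * d := htr
          _ = g * (r * j) := by rw [hj]; ring
      have hdiv : f ∣ t * s' b := heq ▸ Dvd.dvd.mul_left hfj r
      rcases hfprime.dvd_or_dvd hdiv with h | h
      · exact absurd (Ideal.mem_of_dvd Q h hfQ) htQ
      · exact h
    have hdvd : f ∣ S.gcd s' := Finset.dvd_gcd hall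
    rw [hgcd] at hdvd
    exact hfprime.not_isUnit (isUnit_of_dvd_one hdvd)
  · exact ⟨j, hjQ, by rw [mul_comm, ← hj]; exact hdJ⟩

/-- a principal localization away from `f`, downstairs -/
theorem loc_of_away {A : Type*} [CommRing A] (I : Ideal A) (f : A) (Af : Type*) [CommRing Af]
    [Algebra A Af] [IsLocalization.Away f Af] (g : Af) (hg : g ∈ nonZeroDivisors Af)
    (hI : I.map (algebraMap A Af) = Ideal.span {g}) :
    ∃ d ∈ I, (∀ c, d * c = 0 → ∃ n : ℕ, f ^ n * c = 0) ∧
      ∀ b ∈ I, ∃ (n : ℕ) (r : A), f ^ n * b = r * d := by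
  have hgI : g ∈ I.map (algebraMap A Af) := by
    rw [hI]
    exact Ideal.mem_span_singleton_self g
  obtain ⟨⟨⟨d, hdI⟩, ⟨_, l, rfl⟩⟩, hd⟩ :=
    (IsLocalization.mem_map_algebraMap_iff (Submonoid.powers f) Af).mp hgI
  simp only at hd
  have hfu : ∀ n : ℕ, IsUnit (algebraMap A Af (f ^ n)) := fun n =>
    IsLocalization.map_units Af (⟨f ^ n, n, rfl⟩ : Submonoid.powers f)
  refine ⟨d, hdI, ?_, ?_⟩
  · intro c hc
    have h1 : g * (algebraMap A Af (f ^ l) * algebraMap A Af c) = 0 := by
      rw [← mul_assoc, hd, ← map_mul, hc, map_zero]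
    have h2 : algebraMap A Af (f ^ l) * algebraMap A Af c = 0 := by
      have := (mem_nonZeroDivisors_iff.mp hg).2 _ (by rw [mul_comm]; exact h1)
      exact this
    have h3 : algebraMap A Af c = 0 := (hfu l).mul_right_eq_zero.mp h2
    obtain ⟨⟨_, n, rfl⟩, hn⟩ := (IsLocalization.map_eq_zero_iff (Submonoid.powers f) Af c).mp h3
    exact ⟨n, hn⟩
  · intro b hbI
    have hbm : algebraMap A Af b ∈ Ideal.span {g} := by
      rw [← hI]
      exact Ideal.mem_map_of_mem _ hbI
    obtain ⟨e, he⟩ := Ideal.mem_span_singleton'.mp hbm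
    obtain ⟨⟨r₀, ⟨_, k, rfl⟩⟩, hr₀⟩ := IsLocalization.surj (Submonoid.powers f) e
    simp only at hr₀
    have h1 : algebraMap A Af (f ^ k * f ^ l * b) = algebraMap A Af (r₀ * d) := by
      rw [map_mul, map_mul, map_mul, ← he, ← hd, ← hr₀]
      ring
    obtain ⟨⟨_, m, rfl⟩, hm⟩ := (IsLocalization.eq_iff_exists (Submonoid.powers f) Af).mp h1
    simp only at hm
    refine ⟨m + k + l, f ^ m * r₀, ?_⟩
    rw [pow_add, pow_add]
    calc f ^ m * f ^ k * f ^ l * b = f ^ m * (f ^ k * f ^ l * b) := by ring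
      _ = f ^ m * (r₀ * d) := hm
      _ = f ^ m * r₀ * d := by ring

/-- the algebraic heart of the extension of effective Cartier divisors -/
theorem main_alg {A : Type*} [CommRing A] [IsNoetherianRing A] (I : Ideal A) (𝒰 : Set (Ideal A))
    (hprime : ∀ q ∈ 𝒰, q.IsPrime)
    (hgen : ∀ P q : Ideal A, P.IsPrime → P ≤ q → q ∈ 𝒰 → P ∈ 𝒰)
    (hsat : ∀ a, (∀ q ∈ 𝒰, ∃ s, s ∉ q ∧ s * a ∈ I) → a ∈ I)
    (hloc : ∀ q ∈ 𝒰, ∃ d ∈ I, (∀ c, d * c = 0 → ∃ s, s ∉ q ∧ s * c = 0) ∧
      ∀ b ∈ I, ∃ t, t ∉ q ∧ ∃ r, t * b = r * d)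
    (p : Ideal A) [p.IsPrime] (B : Type*) [CommRing B] [Algebra A B] [IsLocalization.AtPrime B p]
    (hB : p ∉ 𝒰 → IsDomain B ∧ UniqueFactorizationMonoid B) :
    ∃ g ∈ nonZeroDivisors B, I.map (algebraMap A B) = Ideal.span {g} := by
  have hunit : ∀ s, s ∉ p → IsUnit (algebraMap A B s) := fun s hs =>
    IsLocalization.map_units B (⟨s, hs⟩ : p.primeCompl)
  by_cases hpU : p ∈ 𝒰
  · obtain ⟨d, hdI, hdnzd, hdgen⟩ := hloc p hpU
    refine ⟨algebraMap A B d, ?_, ?_⟩
    · rw [mem_nonZeroDivisors_iff_right]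
      intro z hz
      obtain ⟨⟨c, s⟩, hcs⟩ := IsLocalization.surj p.primeCompl z
      simp only at hcs
      have h1 : algebraMap A B (d * c) = 0 := by
        calc algebraMap A B (d * c) = algebraMap A B d * algebraMap A B c := map_mul _ _ _
          _ = (z * algebraMap A B d) * algebraMap A B s := by rw [← hcs]; ring
          _ = 0 := by rw [hz, zero_mul]
      obtain ⟨s', hs'⟩ := (IsLocalization.map_eq_zero_iff p.primeCompl B _).mp h1
      obtain ⟨s'', hs''p, hs''⟩ := hdnzd (s' * c) (by rw [← hs']; ring)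
      have h2 : algebraMap A B c = 0 := by
        have h3 : algebraMap A B (s'' * s') * algebraMap A B c = 0 := by
          rw [← map_mul, mul_assoc, hs'', map_zero]
        have hu : IsUnit (algebraMap A B (s'' * s')) :=
          hunit _ (fun h => (Ideal.IsPrime.mem_or_mem ‹p.IsPrime› h).elim hs''p s'.2)
        exact hu.mul_right_eq_zero.mp h3
      rw [h2] at hcs
      exact (IsUnit.mul_left_eq_zero (hunit _ s.2)).mp hcs
    · apply le_antisymm
      · rw [Ideal.map_le_iff_le_comap]
        intro b hbI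
        obtain ⟨t, htp, r, htr⟩ := hdgen b hbI
        rw [Ideal.mem_comap, Ideal.mem_span_singleton]
        obtain ⟨u, hu⟩ := hunit t htp
        refine ⟨↑u⁻¹ * algebraMap A B r, ?_⟩
        have h1 : algebraMap A B t * algebraMap A B b = algebraMap A B r * algebraMap A B d := by
          rw [← map_mul, ← map_mul, htr]
        rw [← hu] at h1
        calc algebraMap A B b = ↑u⁻¹ * (↑u * algebraMap A B b) := by
              rw [← mul_assoc, Units.inv_mul, one_mul]
          _ = ↑u⁻¹ * (algebraMap A B r * algebraMap A B d) := by rw [h1]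
          _ = algebraMap A B d * (↑u⁻¹ * algebraMap A B r) := by ring
      · rw [Ideal.span_singleton_le_iff_mem]
        exact Ideal.mem_map_of_mem _ hdI
  · obtain ⟨hdom, hufm⟩ := hB hpU
    have := hdom
    have := hufm
    haveI : IsNoetherianRing B := IsLocalization.isNoetherianRing p.primeCompl B inferInstance
    set J := I.map (algebraMap A B) with hJ
    let 𝒰B : Set (Ideal B) := {Q | Q.IsPrime ∧ Q.comap (algebraMap A B) ∈ 𝒰}
    have hcomap_le : ∀ Q : Ideal B, Q.IsPrime → Q.comap (algebraMap A B) ≤ p := by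
      intro Q hQ s hs
      by_contra hsp
      exact hQ.ne_top (Ideal.eq_top_of_isUnit_mem _ hs (hunit s hsp))
    suffices h : ∃ g, g ≠ 0 ∧ J = Ideal.span {g} by
      obtain ⟨g, hg0, hgJ⟩ := h
      exact ⟨g, mem_nonZeroDivisors_of_ne_zero hg0, hgJ⟩
    refine principal_of_sat J (IsNoetherian.noetherian J) 𝒰B (fun Q hQ => hQ.1) ?_ ?_
    · -- locally principal
      rintro Q ⟨hQprime, hQU⟩
      obtain ⟨d, hdI, hdnzd, hdgen⟩ := hloc _ hQU
      have hqp := hcomap_le Q hQprime
      refine ⟨algebraMap A B d, Ideal.mem_map_of_mem _ hdI, ?_, ?_⟩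
      · intro h0
        obtain ⟨s, hs⟩ := (IsLocalization.map_eq_zero_iff p.primeCompl B d).mp h0
        obtain ⟨s', hs'q, hs'⟩ := hdnzd s (by rw [← hs]; ring)
        have hsq : (s : A) ∉ Q.comap (algebraMap A B) := fun h => s.2 (hqp h)
        have hq' : (Q.comap (algebraMap A B)).IsPrime := Ideal.IsPrime.comap _
        have : s' * (s : A) ∈ Q.comap (algebraMap A B) := by rw [hs']; exact Ideal.zero_mem _
        exact (hq'.mem_or_mem this).elim hs'q hsq
      · intro b hbJ
        obtain ⟨⟨⟨a, haI⟩, s⟩, has⟩ := (IsLocalization.mem_map_algebraMap_iff p.primeCompl B).mp hbJ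
        simp only at has
        obtain ⟨t, htq, r, htr⟩ := hdgen a haI
        refine ⟨algebraMap A B t * algebraMap A B s, ?_, algebraMap A B r, ?_⟩
        · intro h
          rcases hQprime.mem_or_mem h with h | h
          · exact htq h
          · exact hQprime.ne_top (Ideal.eq_top_of_isUnit_mem _ h (hunit _ s.2))
        · calc algebraMap A B t * algebraMap A B s * b
              = algebraMap A B t * (b * algebraMap A B s) := by ring
            _ = algebraMap A B t * algebraMap A B a := by rw [has]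
            _ = algebraMap A B (t * a) := by rw [map_mul]
            _ = algebraMap A B r * algebraMap A B d := by rw [htr, map_mul]
    · -- saturated
      intro b hb
      obtain ⟨⟨a, s⟩, has⟩ := IsLocalization.surj p.primeCompl b
      simp only at has
      have key : ∃ s', s' ∉ p ∧ s' * a ∈ I := by
        apply exists_mul_mem_of_sat I 𝒰 hgen hsat p a
        intro q hqU hqp
        haveI := hprime q hqU
        have hdisj : Disjoint (p.primeCompl : Set A) (q : Set A) := by
          rw [Set.disjoint_left]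
          intro x hx hxq
          exact hx (hqp hxq)
        have hQprime : (q.map (algebraMap A B)).IsPrime :=
          IsLocalization.isPrime_of_isPrime_disjoint p.primeCompl B q ‹_› hdisj
        have hQq : (q.map (algebraMap A B)).comap (algebraMap A B) = q :=
          IsLocalization.under_map_of_isPrime_disjoint p.primeCompl B ‹_› hdisj
        obtain ⟨t, htQ, htb⟩ := hb (q.map (algebraMap A B)) ⟨hQprime, by rw [hQq]; exact hqU⟩
        obtain ⟨⟨t₀, s₀⟩, ht₀⟩ := IsLocalization.surj p.primeCompl t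
        simp only at ht₀
        have ht₀q : t₀ ∉ q := by
          intro h
          apply htQ
          have h1 : algebraMap A B t₀ ∈ q.map (algebraMap A B) := Ideal.mem_map_of_mem _ h
          rw [← ht₀] at h1
          exact (Ideal.unit_mul_mem_iff_mem _ (hunit _ s₀.2)).mp (by rwa [mul_comm] at h1)
        have h2 : algebraMap A B (t₀ * a) ∈ J := by
          have h3 : algebraMap A B (t₀ * a) = algebraMap A B s₀ * algebraMap A B s * (t * b) := by
            rw [map_mul, ← ht₀, ← has]
            ring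
          rw [h3]
          exact J.mul_mem_left _ htb
        obtain ⟨m, hm, hma⟩ :=
          (IsLocalization.algebraMap_mem_map_algebraMap_iff p.primeCompl B I (t₀ * a)).mp h2
        refine ⟨m * t₀, ?_, by rw [mul_assoc]; exact hma⟩
        intro h
        rcases (hprime q hqU).mem_or_mem h with h | h
        · exact hm (hqp h)
        · exact ht₀q h
      obtain ⟨s', hs'p, hs'a⟩ := key
      have h1 : algebraMap A B (s' * a) ∈ J := Ideal.mem_map_of_mem _ hs'a
      rw [map_mul, ← has] at h1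
      have h2 : algebraMap A B s' * algebraMap A B s * b ∈ J := by
        convert h1 using 1
        ring
      exact (Ideal.unit_mul_mem_iff_mem _ ((hunit _ hs'p).mul (hunit _ s.2))).mp h2

end Groth.Agent.Lead.CartExt
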