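import Mathlib
import Groth.Prelude.Def_BlowUp2
import Groth.Agent.Lead.CartExtA
import Groth.Agent.Lead.LiftPow1
import Groth.Agent.Lead.CartProdA
import Groth.Agent.S1570

/-!
# Extending effective Cartier divisors across UFD points (S1660)

The extension is the scheme-theoretic closure `D.map U.ι`.
-/

set_option autoImplicit false
universe u

open CategoryTheory AlgebraicGeometry TopologicalSpace

namespace Groth.Agent.Lead.CartExt

open Groth.Agent.Lead.LiftPow (res app_res)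
open Groth.Agent.Lead.CartProdA (Princ exists_princ)

variable {X : Scheme.{u}} [IsLocallyNoetherian X] (U : X.Opens)
  (D : (U : Scheme.{u}).IdealSheafData)

/-- the scheme-theoretic closure -/
noncomputable def clos : X.IdealSheafData := D.map U.ι

theorem ideal_clos (V : X.affineOpens) :
    (clos U D).ideal V = RingHom.ker ((D.subschemeι ≫ U.ι).app V.1).hom :=
  Scheme.Hom.ker_apply _ V

theorem comap_clos : (clos U D).comap U.ι = D := by
  apply le_antisymm (Scheme.IdealSheafData.comap_map_le D U.ι)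
  rw [Scheme.IdealSheafData.le_def]
  intro W
  have H : IsAffineOpen (U.ι ⁻¹ᵁ (U.ι ''ᵁ W.1)) := by
    rw [Scheme.Hom.preimage_image_eq]
    exact W.2
  rw [Scheme.IdealSheafData.ideal_comap_of_isOpenImmersion]
  rw [Scheme.IdealSheafData.ideal_map D U.ι _ H]
  intro a ha
  rw [Ideal.mem_comap, Ideal.mem_comap]
  have h1 : (U.ι.app (U.ι ''ᵁ W.1)).hom ((U.ι.appIso W.1).inv.hom a) =
      ((U : Scheme.{u}).presheaf.map (eqToHom (U.ι.preimage_image_eq W.1)).op).hom a := by
    have := U.ι.appIso_inv_app W.1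
    exact congrArg (fun φ => φ.hom a) this
  rw [h1]
  have h2 := D.map_ideal' (U := ⟨_, H⟩) (V := W) (eqToHom (U.ι.preimage_image_eq W.1)).op
  rw [← h2]
  exact Ideal.mem_map_of_mem _ ha

/-- the closure is saturated -/
theorem mem_clos_of_locally (V : X.affineOpens) (a : Γ(X, V.1))
    (h : ∀ y : X, y ∈ V.1 → y ∈ U → ∃ W : X.affineOpens, ∃ hWV : W.1 ≤ V.1, y ∈ W.1 ∧
      res hWV a ∈ (clos U D).ideal W) :
    a ∈ (clos U D).ideal V := by
  rw [ideal_clos, RingHom.mem_ker]
  set φ := D.subschemeι ≫ U.ι with hφ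
  have hφU : ∀ z : D.subscheme, φ z ∈ U := by
    intro z
    rw [hφ, Scheme.Hom.comp_apply]
    exact (D.subschemeι z).2
  have hex : ∀ z : (φ ⁻¹ᵁ V.1 : D.subscheme.Opens), ∃ W : X.affineOpens, ∃ hWV : W.1 ≤ V.1,
      φ z.1 ∈ W.1 ∧ res hWV a ∈ (clos U D).ideal W := fun z => h (φ z.1) z.2 (hφU z.1)
  choose W hWV hzW hW using hex
  refine TopCat.Sheaf.eq_of_locally_eq' D.subscheme.sheaf (fun z => φ ⁻¹ᵁ (W z).1) (φ ⁻¹ᵁ V.1)
    (fun z => homOfLE (φ.preimage_mono (hWV z))) ?_ _ _ ?_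
  · intro z hz
    exact Opens.mem_iSup.2 ⟨⟨z, hz⟩, hzW ⟨z, hz⟩⟩
  · intro z
    change res (φ.preimage_mono (hWV z)) ((φ.app V.1).hom a) =
      res (φ.preimage_mono (hWV z)) 0
    rw [← app_res φ (hWV z) a, map_zero]
    have := hW z
    rw [ideal_clos, RingHom.mem_ker] at this
    exact this

/-- the closure is locally principal at the points of `U` -/
theorem princ_clos (hD : BlowUp.IsEffCartierIdeal D) (y : X) (hy : y ∈ U) :
    ∃ W : X.affineOpens, y ∈ W.1 ∧ W.1 ≤ U ∧ ∃ g, Princ (clos U D) W g := by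
  obtain ⟨W₀, hyW₀, f, hf, hDf⟩ := hD ⟨y, hy⟩
  let W : X.affineOpens := ⟨U.ι ''ᵁ W₀.1, W₀.2.image_of_isOpenImmersion U.ι⟩
  have hyW : y ∈ W.1 := ⟨⟨y, hy⟩, hyW₀, rfl⟩
  have hWU : W.1 ≤ U := by
    rintro _ ⟨z, -, rfl⟩
    exact z.2
  set φ := (U.ι.appIso W₀.1).inv.hom with hφ
  set ψ := (U.ι.appIso W₀.1).hom.hom with hψ
  have hφψ : ∀ x, φ (ψ x) = x := fun x => by
    have := (U.ι.appIso W₀.1).hom_inv_id
    exact congrArg (fun θ => θ.hom x) this
  have hψφ : ∀ x, ψ (φ x) = x := fun x => by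
    have := (U.ι.appIso W₀.1).inv_hom_id
    exact congrArg (fun θ => θ.hom x) this
  have hcomap : D.ideal W₀ = ((clos U D).ideal W).comap φ := by
    conv_lhs => rw [← comap_clos U D]
    exact Scheme.IdealSheafData.ideal_comap_of_isOpenImmersion _ _ _
  refine ⟨W, hyW, hWU, φ f, ?_, ?_⟩
  · rw [mem_nonZeroDivisors_iff_right]
    intro z hz
    have h1 : ψ z * f = 0 := by
      have := congrArg ψ hz
      rwa [map_mul, hψφ, map_zero] at this
    have h2 : ψ z = 0 := (mem_nonZeroDivisors_iff_right.mp hf) _ h1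
    rw [← hφψ z, h2, map_zero]
  · apply le_antisymm
    · intro x hx
      have h1 : ψ x ∈ D.ideal W₀ := by
        rw [hcomap, Ideal.mem_comap, hφψ]
        exact hx
      rw [hDf, Ideal.mem_span_singleton'] at h1
      obtain ⟨r, hr⟩ := h1
      rw [Ideal.mem_span_singleton']
      refine ⟨φ r, ?_⟩
      rw [← map_mul, hr, hφψ]
    · rw [Ideal.span_singleton_le_iff_mem]
      have h1 : f ∈ D.ideal W₀ := by
        rw [hDf]
        exact Ideal.mem_span_singleton_self f
      rw [hcomap, Ideal.mem_comap] at h1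
      exact h1

end Groth.Agent.Lead.CartExt
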