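import Mathlib
import Groth.Prelude.Def_BlowUp2
import Groth.Agent.Lead.CartExtB

/-!
# Extending effective Cartier divisors across UFD points (S1660): main theorem
-/

set_option autoImplicit false
universe u

open CategoryTheory AlgebraicGeometry TopologicalSpace

namespace Groth.Agent.Lead.CartExt

open Groth.Agent.Lead.LiftPow (res app_res)
open Groth.Agent.Lead.CartProdA (Princ exists_princ)

variable {X : Scheme.{u}}

theorem mem_basicOpen_iff {V : X.Opens} (hV : IsAffineOpen V) (q : PrimeSpectrum Γ(X, V))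
    (s : Γ(X, V)) : hV.fromSpec q ∈ X.basicOpen s ↔ s ∉ q.asIdeal := by
  have h : q ∈ hV.fromSpec ⁻¹ᵁ X.basicOpen s ↔ q ∈ PrimeSpectrum.basicOpen s := by
    rw [hV.fromSpec_preimage_basicOpen]
    exact Iff.rfl
  exact h

theorem fromSpec_mem {V : X.Opens} (hV : IsAffineOpen V) (q : PrimeSpectrum Γ(X, V)) :
    hV.fromSpec q ∈ V := by
  have : hV.fromSpec q ∈ Set.range hV.fromSpec := ⟨q, rfl⟩
  rw [hV.range_fromSpec] at this
  exact this

variable [IsLocallyNoetherian X] (U : X.Opens) (D : (U : Scheme.{u}).IdealSheafData)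

theorem isEffCartier_clos (hD : BlowUp.IsEffCartierIdeal D)
    (hufd : ∀ x : X, x ∉ U →
      IsDomain (X.presheaf.stalk x) ∧ UniqueFactorizationMonoid (X.presheaf.stalk x)) :
    BlowUp.IsEffCartierIdeal (clos U D) := by
  apply Groth.Agent.S1570.result X
  intro x _ V hx
  letI := X.presheaf.algebra_section_stalk ⟨x, hx⟩
  haveI := V.2.isLocalization_stalk ⟨x, hx⟩
  haveI : IsNoetherianRing Γ(X, V.1) := IsLocallyNoetherian.component_noetherian V
  set I := (clos U D).ideal V with hI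
  let 𝒰 : Set (Ideal Γ(X, V.1)) := {q | ∃ hq : q.IsPrime, V.2.fromSpec ⟨q, hq⟩ ∈ U}
  have hmem𝒰 : ∀ (y : X) (hyV : y ∈ V.1), y ∈ U → (V.2.primeIdealOf ⟨y, hyV⟩).asIdeal ∈ 𝒰 := by
    intro y hyV hyU
    refine ⟨(V.2.primeIdealOf ⟨y, hyV⟩).isPrime, ?_⟩
    have h1 : V.2.fromSpec (V.2.primeIdealOf ⟨y, hyV⟩) = y := V.2.fromSpec_primeIdealOf ⟨y, hyV⟩
    change V.2.fromSpec (V.2.primeIdealOf ⟨y, hyV⟩) ∈ U
    rw [h1]
    exact hyU
  refine main_alg I 𝒰 (fun q hq => hq.1) ?_ ?_ ?_ (V.2.primeIdealOf ⟨x, hx⟩).asIdeal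
    (X.presheaf.stalk x) ?_
  · -- generization
    rintro P q hP hPq ⟨hq, hqU⟩
    refine ⟨hP, ?_⟩
    have hspec : @Specializes (Spec Γ(X, V.1)) _ ⟨P, hP⟩ ⟨q, hq⟩ :=
      (PrimeSpectrum.le_iff_specializes (⟨P, hP⟩ : PrimeSpectrum Γ(X, V.1)) ⟨q, hq⟩).mp hPq
    have h2 := hspec.map V.2.fromSpec.continuous
    exact h2.mem_open U.isOpen hqU
  · -- saturation
    intro a ha
    apply mem_clos_of_locally
    intro y hyV hyU
    set q := V.2.primeIdealOf ⟨y, hyV⟩ with hq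
    obtain ⟨s, hsq, hsa⟩ := ha _ (hmem𝒰 y hyV hyU)
    have hyq : V.2.fromSpec q = y := V.2.fromSpec_primeIdealOf ⟨y, hyV⟩
    refine ⟨X.affineBasicOpen s, X.basicOpen_le s, ?_, ?_⟩
    · have := (mem_basicOpen_iff V.2 q s).mpr hsq
      rwa [hyq] at this
    · have h1 : res (X.basicOpen_le s) (s * a) ∈ (clos U D).ideal (X.affineBasicOpen s) :=
        (clos U D).ideal_le_comap_ideal (U := X.affineBasicOpen s) (V := V)
          (X.affineBasicOpen_le s) hsa
      rw [map_mul] at h1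
      have hu : IsUnit (res (X.basicOpen_le s) s) :=
        RingedSpace.isUnit_res_basicOpen X.toRingedSpace s
      exact (Ideal.unit_mul_mem_iff_mem _ hu).mp h1
  · -- locally principal
    rintro q ⟨hq, hqU⟩
    set y := V.2.fromSpec ⟨q, hq⟩ with hy
    have hyV : y ∈ V.1 := fromSpec_mem V.2 _
    obtain ⟨W₀, hyW₀, -, g₀, hg₀⟩ := princ_clos U D hD y hqU
    obtain ⟨f, hfW₀, hyf⟩ := V.2.exists_basicOpen_le (V := W₀.1) ⟨y, hyW₀⟩ hyV
    have hfq : f ∉ q := (mem_basicOpen_iff V.2 ⟨q, hq⟩ f).mp hyf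
    have hP : Princ (clos U D) (X.affineBasicOpen f) _ :=
      hg₀.res (show X.affineBasicOpen f ≤ W₀ from hfW₀)
    haveI := V.2.isLocalization_basicOpen f
    have hmap : I.map (algebraMap Γ(X, V.1) Γ(X, X.basicOpen f)) =
        (clos U D).ideal (X.affineBasicOpen f) := (clos U D).map_ideal_basicOpen V f
    obtain ⟨d, hdI, hdnzd, hdgen⟩ := loc_of_away I f Γ(X, X.basicOpen f) _ hP.1
      (hmap.trans hP.2)
    refine ⟨d, hdI, ?_, ?_⟩
    · intro c hc
      obtain ⟨n, hn⟩ := hdnzd c hc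
      exact ⟨f ^ n, fun h => hfq (hq.mem_of_pow_mem n h), hn⟩
    · intro b hb
      obtain ⟨n, r, hn⟩ := hdgen b hb
      exact ⟨f ^ n, fun h => hfq (hq.mem_of_pow_mem n h), r, hn⟩
  · -- UFD
    intro hp
    apply hufd
    intro hxU
    exact hp (hmem𝒰 x hx hxU)

/-- **S1660** -/
theorem main (X : Scheme.{u}) [IsLocallyNoetherian X] (U : X.Opens)
    (D : (U : Scheme.{u}).IdealSheafData) (hD : BlowUp.IsEffCartierIdeal D)
    (hufd : ∀ x : X, x ∉ U →
      IsDomain (X.presheaf.stalk x) ∧ UniqueFactorizationMonoid (X.presheaf.stalk x)) :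
    ∃ D' : X.IdealSheafData, BlowUp.IsEffCartierIdeal D' ∧ D'.comap U.ι = D :=
  ⟨clos U D, isEffCartier_clos U D hD hufd, comap_clos U D⟩

end Groth.Agent.Lead.CartExt
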