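import Mathlib
import Groth.Prelude.Def_Neron
import Groth.Agent.Lead.CartIsoEq
import Groth.Agent.Helper6.HProj

/-!
# S18380: on a projective scheme over a field, effective Cartier ideals `D₂ ≤ D₁` with isomorphic
ideal modules are equal
-/

set_option autoImplicit false
universe u
open CategoryTheory CategoryTheory.Limits AlgebraicGeometry TopologicalSpace Opposite

namespace Groth.Agent.Lead.CartIsoEq

theorem isUnit_of_universallyClosed {k : Type u} [Field k] {M : Scheme.{u}}
    (f : M ⟶ Spec (CommRingCat.of k)) [UniversallyClosed f] (l : Γ(M, ⊤))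
    (hl : l ∈ nonZeroDivisors Γ(M, ⊤)) : IsUnit l := by
  have hint := isIntegral_appTop_of_universallyClosed f
  haveI : IsArtinianRing Γ(Spec (CommRingCat.of k), ⊤) := by
    have hs : Function.Surjective (Scheme.ΓSpecIso (CommRingCat.of k)).inv.hom := by
      intro y
      refine ⟨(Scheme.ΓSpecIso (CommRingCat.of k)).hom.hom y, ?_⟩
      change ((Scheme.ΓSpecIso (CommRingCat.of k)).hom ≫
        (Scheme.ΓSpecIso (CommRingCat.of k)).inv).hom y = y
      rw [Iso.hom_inv_id]
      rfl
    exact hs.isArtinianRing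
  letI := f.appTop.hom.toAlgebra
  exact IsArtinianRing.isUnit_of_isIntegral_of_nonZeroDivisor
    (R := Γ(Spec (CommRingCat.of k), ⊤)) (hint l) hl

theorem s18380 (k : Type u) [Field k] (M : Scheme.{u}) (f : M ⟶ Spec (CommRingCat.of k))
    (hproj : Neron.IsProjectiveOver k (Over.mk f))
    (D₁ D₂ : M.IdealSheafData) (h₁ : BlowUp.IsEffCartierIdeal D₁)
    (hle : D₂ ≤ D₁) (hiso : Nonempty (ClSub.idealMod D₁ ≅ ClSub.idealMod D₂)) : D₁ = D₂ := by
  obtain ⟨n, i, hi, hif⟩ := hproj
  haveI := Groth.Agent.Helper6.HProj.isProper_toBase n (Spec (CommRingCat.of k))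
  haveI : IsProper f := by
    have : f = i ≫ CohB1.ProjSpaceOver.toBase n (Spec (CommRingCat.of k)) := hif.symm
    rw [this]
    infer_instance
  obtain ⟨θ⟩ := hiso
  exact main (isUnit_of_universallyClosed f) D₁ D₂ h₁ hle θ

end Groth.Agent.Lead.CartIsoEq
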