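import Mathlib
import Groth.Agent.Lead.Thick4
import Groth.Agent.Helper4.QcohEpi

set_option autoImplicit false
universe u
open CategoryTheory AlgebraicGeometry TopologicalSpace

namespace Groth.Agent.Lead.CartModA

theorem surjective_of_nilpotent {T Tc : Scheme.{u}} (i : T ⟶ Tc) [IsClosedImmersion i]
    (hnil : ∃ n : ℕ, ∀ V : Tc.affineOpens, i.ker.ideal V ^ n = ⊥) :
    Function.Surjective i.base := by
  obtain ⟨n, hn⟩ := hnil
  intro x
  have hr : (i.ker.support : Set Tc) = Set.range i.base := by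
    rw [Scheme.Hom.support_ker, (IsClosedImmersion.base_closed (f := i)).isClosed_range.closure_eq]
  have hx : x ∈ (i.ker.support : Set Tc) := by
    obtain ⟨V, hV, hxV⟩ : ∃ V : Tc.Opens, IsAffineOpen V ∧ x ∈ V := by
      obtain ⟨V, hV, hxV, -⟩ := (Opens.isBasis_iff_nbhd.mp Tc.isBasis_affineOpens)
        (show x ∈ (⊤ : Tc.Opens) from trivial)
      exact ⟨V, hV, hxV⟩
    rw [SetLike.mem_coe, Scheme.IdealSheafData.mem_support_iff_of_mem (U := ⟨V, hV⟩) hxV]
    have h1 : i.ker.ideal ⟨V, hV⟩ ^ (n + 1) = ⊥ := by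
      rw [pow_succ, hn, Ideal.bot_mul]
    rw [Scheme.mem_zeroLocus_iff]
    intro f hf
    have h3 : f ^ (n + 1) = 0 := by
      have := Ideal.pow_mem_pow hf (n + 1)
      rw [h1] at this
      exact this
    rw [← Scheme.basicOpen_pow Tc f (Nat.succ_pos n), h3, Scheme.basicOpen_zero]
    exact fun h => h
  rw [hr] at hx
  exact hx

/-- the preimage under `g` of an affine open of `U` is an affine open of `Tc` -/
theorem isAffineOpen_preimage {T Tc U : Scheme.{u}} (i : T ⟶ Tc) [IsClosedImmersion i]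
    (hsurj : Function.Surjective i.base)
    (u : T ⟶ U) [IsAffineHom u] (g : Tc.carrier ⟶ U.carrier) (hg : i.base ≫ g = u.base)
    {W : U.Opens} (hW : IsAffineOpen W) : IsAffineOpen ((Opens.map g).obj W) := by
  set V : Tc.Opens := (Opens.map g).obj W with hV
  have he : i ⁻¹ᵁ V = u ⁻¹ᵁ W := by
    ext x
    show g (i.base x) ∈ W ↔ u.base x ∈ W
    rw [← hg]
    rfl
  have h1 : IsAffineOpen (i ⁻¹ᵁ V) := by
    rw [he]
    exact hW.preimage u
  haveI : IsAffine ((i ⁻¹ᵁ V : T.Opens) : Scheme.{u}) := h1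
  have hs : Function.Surjective (i ∣_ V).base := by
    intro y
    obtain ⟨x, hx⟩ := hsurj y.1
    refine ⟨⟨x, ?_⟩, ?_⟩
    · show i.base x ∈ V
      rw [hx]; exact y.2
    · apply Subtype.ext
      exact (morphismRestrict_base_coe i V _).trans hx
  exact Groth.Agent.Lead.Thick.isAffine_of_thickening (i ∣_ V) hs

end Groth.Agent.Lead.CartModA
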