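import Groth.Agent.Lead.CartProdA

/-!
# The key step: an effective Cartier divisor strictly contained in another one can be enlarged
by one of the prime divisors covering it
-/

set_option autoImplicit false
universe u
open AlgebraicGeometry CategoryTheory TopologicalSpace

namespace Groth.Agent.Lead.CartProdB

open Groth.Agent.Lead.PropIntB Groth.Agent.Lead.PropIntC Groth.Agent.Lead.CartProdA

variable {X : Scheme.{u}}

/-- The locus where the two ideal sheaves differ. -/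
def Bad (D E : X.IdealSheafData) : Set X :=
  {x | ∀ V : X.affineOpens, x ∈ V.1 → D.ideal V ≠ E.ideal V}

theorem bad_nonempty {D E : X.IdealSheafData} (hne : D ≠ E) : (Bad D E).Nonempty := by
  by_contra h
  rw [Set.not_nonempty_iff_eq_empty] at h
  apply hne
  have : ∀ x : X, ∃ V : X.affineOpens, x ∈ V.1 ∧ D.ideal V = E.ideal V := by
    intro x
    have hx : x ∉ Bad D E := by rw [h]; exact Set.notMem_empty x
    by_contra hcon
    apply hx
    intro V hxV heq
    exact hcon ⟨V, hxV, heq⟩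
  choose V hxV hV using this
  refine Scheme.IdealSheafData.ext_of_iSup_eq_top V ?_ hV
  rw [eq_top_iff]
  intro x _
  exact Opens.mem_iSup.2 ⟨x, hxV x⟩

theorem isUnit_of_span_eq {R : Type*} [CommRing R] (g h : R) (hg : g ∈ nonZeroDivisors R)
    (heq : Ideal.span {g * h} = Ideal.span {g}) : IsUnit h := by
  have h1 : g ∈ Ideal.span {g * h} := by rw [heq]; exact Ideal.mem_span_singleton_self g
  rw [Ideal.mem_span_singleton] at h1
  obtain ⟨c, hc⟩ := h1
  have h2 : (1 - h * c) * g = 0 := by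
    have : (1 - h * c) * g = g - g * h * c := by ring
    rw [this, ← hc, sub_self]
  have h3 : 1 - h * c = 0 := (mul_right_mem_nonZeroDivisors_eq_zero_iff hg).mp h2
  exact IsUnit.of_mul_eq_one c (sub_eq_zero.1 h3).symm

/-- If `D = (g h)`, `E = (g)` on `V` and `ξ` is a bad point, then `h` vanishes at `ξ`. -/
theorem notMem_basicOpen_of_bad {D E : X.IdealSheafData} {ξ : X} (hξ : ξ ∈ Bad D E)
    (V : X.affineOpens) (g h : Γ(X, V.1)) (hE : E.ideal V = Ideal.span {g})
    (hD : D.ideal V = Ideal.span {g * h}) : ξ ∉ X.basicOpen h := by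
  intro hmem
  have hWV : X.affineBasicOpen h ≤ V := X.affineBasicOpen_le h
  apply hξ (X.affineBasicOpen h) hmem
  rw [← D.map_ideal hWV, ← E.map_ideal hWV, hD, hE, Ideal.map_span, Ideal.map_span,
    Set.image_singleton, Set.image_singleton, map_mul]
  have hu : IsUnit ((X.presheaf.map (homOfLE hWV).op).hom h) :=
    RingedSpace.isUnit_res_basicOpen _ h
  exact Ideal.span_singleton_mul_right_unit hu _

/-- If `D = (g h)`, `E = (g)` on `W`, and `D = E` on a smaller affine open `W'`, then `h` is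
invertible on `W'`. -/
theorem mem_basicOpen_of_ideal_eq {D E : X.IdealSheafData} (W W' : X.affineOpens) (hW'W : W' ≤ W)
    (g h : Γ(X, W.1)) (hg : g ∈ nonZeroDivisors Γ(X, W.1)) (hE : E.ideal W = Ideal.span {g})
    (hD : D.ideal W = Ideal.span {g * h}) (heq : D.ideal W' = E.ideal W') (x : X)
    (hx : x ∈ W'.1) : x ∈ X.basicOpen h := by
  have hg' := EffCartier.nzd_res W.2 g hg W'.1 hW'W
  rw [← D.map_ideal hW'W, ← E.map_ideal hW'W, hD, hE, Ideal.map_span, Ideal.map_span,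
    Set.image_singleton, Set.image_singleton, map_mul] at heq
  have hu := isUnit_of_span_eq _ _ hg' heq
  have h1 : X.basicOpen ((X.presheaf.map (homOfLE hW'W).op).hom h) = W'.1 :=
    Scheme.basicOpen_of_isUnit X hu
  have h2 := X.basicOpen_res h (homOfLE hW'W).op
  have h3 : x ∈ X.basicOpen ((X.presheaf.map (homOfLE hW'W).op).hom h) := by rw [h1]; exact hx
  rw [h2] at h3
  exact h3.2

/-- A bad point with minimal dimension of the local ring. -/
theorem exists_min_bad {D E : X.IdealSheafData} (hne : D ≠ E) :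
    ∃ ξ ∈ Bad D E, ∀ ξ' ∈ Bad D E,
      ¬ ringKrullDim (X.presheaf.stalk ξ') < ringKrullDim (X.presheaf.stalk ξ) := by
  obtain ⟨m, ⟨ξ, hξ, rfl⟩, hmin⟩ := wellFounded_lt.has_min
    ((fun x : X => ringKrullDim (X.presheaf.stalk x)) '' Bad D E) ((bad_nonempty hne).image _)
  exact ⟨ξ, hξ, fun ξ' hξ' => hmin _ ⟨ξ', hξ', rfl⟩⟩

theorem mem_minimalPrimes_of_bad [IsLocallyNoetherian X] {D E : X.IdealSheafData} {ξ : X}
    (hξ : ξ ∈ Bad D E)
    (hmin : ∀ ξ' ∈ Bad D E,
      ¬ ringKrullDim (X.presheaf.stalk ξ') < ringKrullDim (X.presheaf.stalk ξ))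
    (W : X.affineOpens) (hξW : ξ ∈ W.1) (g h : Γ(X, W.1)) (hg : g ∈ nonZeroDivisors Γ(X, W.1))
    (hE : E.ideal W = Ideal.span {g}) (hD : D.ideal W = Ideal.span {g * h}) :
    (W.2.primeIdealOf ⟨ξ, hξW⟩).asIdeal ∈ (Ideal.span {h}).minimalPrimes := by
  haveI : IsNoetherianRing Γ(X, W.1) := IsLocallyNoetherian.component_noetherian W
  set q := W.2.primeIdealOf ⟨ξ, hξW⟩ with hq
  have hhq : h ∈ q.asIdeal :=
    (mem_primeIdealOf_iff W ξ hξW h).2 (notMem_basicOpen_of_bad hξ W g h hE hD)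
  refine ⟨⟨q.isPrime, (Ideal.span_singleton_le_iff_mem _).2 hhq⟩, ?_⟩
  rintro p ⟨hp, hhp⟩ hpq
  by_contra hnot
  have hlt : p < q.asIdeal := lt_of_le_of_ne hpq (fun e => hnot (e ▸ le_rfl))
  set p' : PrimeSpectrum Γ(X, W.1) := ⟨p, hp⟩ with hp'
  have hξ'W := fromSpec_mem W.2 p'
  have hdim : ringKrullDim (X.presheaf.stalk (W.2.fromSpec p')) <
      ringKrullDim (X.presheaf.stalk ξ) := by
    rw [stalk_dim_eq_height W.2 _ hξ'W, stalk_dim_eq_height W.2 ξ hξW, primeIdealOf_fromSpec]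
    haveI := hp
    have := Ideal.height_strict_mono_of_isPrime_of_isPrime hlt
    exact_mod_cast this
  have hnb : W.2.fromSpec p' ∉ Bad D E := fun hb => hmin _ hb hdim
  have : ∃ V : X.affineOpens, W.2.fromSpec p' ∈ V.1 ∧ D.ideal V = E.ideal V := by
    by_contra hcon
    apply hnb
    intro V hV heq
    exact hcon ⟨V, hV, heq⟩
  obtain ⟨V, hξ'V, hV⟩ := this
  obtain ⟨r, hrV, hξ'r⟩ := W.2.exists_basicOpen_le (V := V.1) ⟨_, hξ'V⟩ hξ'W
  have hW'W : X.affineBasicOpen r ≤ W := X.affineBasicOpen_le r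
  have hW'V : X.affineBasicOpen r ≤ V := hrV
  have heq : D.ideal (X.affineBasicOpen r) = E.ideal (X.affineBasicOpen r) := by
    rw [← D.map_ideal hW'V, ← E.map_ideal hW'V, hV]
  have hmem := mem_basicOpen_of_ideal_eq W (X.affineBasicOpen r) hW'W g h hg hE hD heq _ hξ'r
  have := (mem_primeIdealOf_iff W _ hξ'W h).1
    (by rw [primeIdealOf_fromSpec]; exact (Ideal.span_singleton_le_iff_mem _).1 hhp)
  exact this hmem

theorem exists_le_mul [IsNoetherian X] {D E : X.IdealSheafData} {r : ℕ}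
    (Ds : Fin r → X.IdealSheafData)
    (hD : BlowUp.IsEffCartierIdeal D) (hE : BlowUp.IsEffCartierIdeal E)
    (hDs : ∀ i, BlowUp.IsEffCartierIdeal (Ds i)) (hint : ∀ i, IsIntegral (Ds i).subscheme)
    (hsub : (D.support : Set X) ⊆ ⋃ i, ((Ds i).support : Set X))
    (hle : D ≤ E) (hne : D ≠ E) : ∃ i, D ≤ E * Ds i := by
  obtain ⟨ξ, hξ, hmin⟩ := exists_min_bad hne
  have hξD : ξ ∈ D.support := by
    by_contra hns
    obtain ⟨_, ⟨V, hV, rfl⟩, hξV, hVle⟩ :=
      X.isBasis_affineOpens.exists_subset_of_mem_open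
        (show ξ ∈ ((D.support : Set X)ᶜ) from hns) D.support.isClosed.isOpen_compl
    have h1 : D.ideal ⟨V, hV⟩ = ⊤ :=
      ideal_eq_top_of_disjoint D ⟨V, hV⟩ (fun x hx => hVle hx)
    have h2 : E.ideal ⟨V, hV⟩ = ⊤ := top_le_iff.1 (h1 ▸ hle ⟨V, hV⟩)
    exact hξ ⟨V, hV⟩ hξV (h1.trans h2.symm)
  obtain ⟨i, hξi⟩ := Set.mem_iUnion.1 (hsub hξD)
  haveI := hint i
  obtain ⟨W, hξW, -, f, g, gi, hf, hg, hgi⟩ := exists_princ₃ hD hE (hDs i) ξ ⊤ trivial
  haveI : IsNoetherianRing Γ(X, W.1) := IsLocallyNoetherian.component_noetherian W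
  obtain ⟨h, rfl⟩ : ∃ h, f = g * h := by
    have : f ∈ E.ideal W := hle W (hf.2 ▸ Ideal.mem_span_singleton_self f)
    rw [hg.2, Ideal.mem_span_singleton] at this
    exact this
  set q := W.2.primeIdealOf ⟨ξ, hξW⟩ with hq
  have hqmin := mem_minimalPrimes_of_bad hξ hmin W hξW g h hg.1 hg.2 hf.2
  have hht : q.asIdeal.height ≤ 1 :=
    Ideal.height_le_one_of_isPrincipal_of_mem_minimalPrimes _ _ hqmin
  haveI hPprime : ((Ds i).ideal W).IsPrime := isPrime_ideal (Ds i) W ξ hξW hξi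
  have hPq : (Ds i).ideal W ≤ q.asIdeal := (mem_support_iff' W.2 (Ds i) ξ hξW).1 hξi
  have hPeq : (Ds i).ideal W = q.asIdeal := by
    by_contra hPne
    have hlt : (Ds i).ideal W < q.asIdeal := lt_of_le_of_ne hPq hPne
    have h1 := Ideal.height_strict_mono_of_isPrime_of_isPrime hlt
    have h2 : ((Ds i).ideal W).height = 0 := by
      have := lt_of_lt_of_le h1 hht
      exact Order.lt_one_iff.1 this
    rw [Ideal.height_eq_zero_iff] at h2
    have h3 : gi ∈ (Ds i).ideal W := hgi.2 ▸ Ideal.mem_span_singleton_self gi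
    exact Set.disjoint_left.1 (Ideal.disjoint_nonZeroDivisors_of_mem_minimalPrimes h2) h3 hgi.1
  obtain ⟨ζ, hζ⟩ := exists_isGenericPoint (Ds i)
  have hζξ : ζ = ξ := by
    have hsp : ζ ⤳ ξ := hζ.specializes hξi
    have hζW : ζ ∈ W.1 := hsp.mem_open W.1.2 hξW
    have h1 := ideal_eq_primeIdealOf (Ds i) hζ W hζW
    have h2 : W.2.primeIdealOf ⟨ζ, hζW⟩ = q := PrimeSpectrum.ext (h1.symm.trans hPeq)
    have h3 := W.2.fromSpec_primeIdealOf ⟨ζ, hζW⟩
    have h4 := W.2.fromSpec_primeIdealOf ⟨ξ, hξW⟩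
    rw [h2] at h3
    exact h3.symm.trans h4
  rw [hζξ] at hζ
  refine ⟨i, ?_⟩
  refine Scheme.IdealSheafData.le_of_iSup_eq_top
    (ι := {V : X.affineOpens // ∃ f g gi, Princ D V f ∧ Princ E V g ∧ Princ (Ds i) V gi})
    (fun V => V.1) ?_ ?_
  · rw [eq_top_iff]
    intro x _
    obtain ⟨V, hxV, -, hV⟩ := exists_princ₃ hD hE (hDs i) x ⊤ trivial
    exact Opens.mem_iSup.2 ⟨⟨V, hV⟩, hxV⟩
  · rintro ⟨V, f', g', gi', hf', hg', hgi'⟩
    obtain ⟨h', rfl⟩ : ∃ h', f' = g' * h' := by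
      have : f' ∈ E.ideal V := hle V (hf'.2 ▸ Ideal.mem_span_singleton_self f')
      rw [hg'.2, Ideal.mem_span_singleton] at this
      exact this
    change D.ideal V ≤ E.ideal V * (Ds i).ideal V
    have key : h' ∈ (Ds i).ideal V := by
      by_cases hVs : ∃ x ∈ V.1, x ∈ (Ds i).support
      · obtain ⟨x, hxV, hxs⟩ := hVs
        have hξV : ξ ∈ V.1 := (hζ.mem_open_set_iff V.1.2).2 ⟨x, hxs, hxV⟩
        rw [ideal_eq_primeIdealOf (Ds i) hζ V hξV, mem_primeIdealOf_iff]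
        exact notMem_basicOpen_of_bad hξ V g' h' hg'.2 hf'.2
      · rw [ideal_eq_top_of_disjoint (Ds i) V (fun x hx hxs => hVs ⟨x, hx, hxs⟩)]
        exact Submodule.mem_top
    rw [hf'.2, Ideal.span_singleton_le_iff_mem, hg'.2]
    exact Ideal.mul_mem_mul (Ideal.mem_span_singleton_self g') key

end Groth.Agent.Lead.CartProdB
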