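import Groth.Agent.Lead.CartProdB

/-!
# An effective Cartier divisor supported on a union of prime Cartier divisors is a sum of them
-/

set_option autoImplicit false
universe u
open AlgebraicGeometry CategoryTheory TopologicalSpace

namespace Groth.Agent.Lead.CartProdC

open Groth.Agent.Lead.PropIntB Groth.Agent.Lead.PropIntC Groth.Agent.Lead.CartProdA
  Groth.Agent.Lead.CartProdB

variable {X : Scheme.{u}}

theorem exists_not_le_pow [IsNoetherian X] {D I : X.IdealSheafData}
    (hD : BlowUp.IsEffCartierIdeal D) (x : X) (hx : x ∈ I.support) :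
    ∃ N : ℕ, ¬ D ≤ I ^ N := by
  obtain ⟨W, hxW, -, f, hf⟩ := exists_princ hD x ⊤ trivial
  haveI : IsNoetherianRing Γ(X, W.1) := IsLocallyNoetherian.component_noetherian W
  by_contra hcon
  push Not at hcon
  have hP : I.ideal W ≠ ⊤ := by
    have := (mem_support_iff' W.2 I x hxW).1 hx
    intro e
    rw [e] at this
    exact (W.2.primeIdealOf ⟨x, hxW⟩).isPrime.ne_top (top_le_iff.1 this)
  have hmem : f ∈ (⨅ n : ℕ, (I.ideal W) ^ n • ⊤ : Submodule Γ(X, W.1) Γ(X, W.1)) := by
    rw [Submodule.mem_iInf]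
    intro n
    have : f ∈ (I ^ n).ideal W := hcon n W (hf.2 ▸ Ideal.mem_span_singleton_self f)
    have h2 : (I ^ n).ideal W = (I.ideal W) ^ n := rfl
    rw [h2] at this
    rw [smul_eq_mul, Ideal.mul_top]
    exact this
  obtain ⟨r, hr⟩ := (Ideal.mem_iInf_smul_pow_eq_bot_iff (I.ideal W) f).1 hmem
  have h2 : ((r : Γ(X, W.1)) - 1) * f = 0 := by
    rw [sub_mul, one_mul, ← smul_eq_mul, hr, sub_self]
  have h3 := (mul_right_mem_nonZeroDivisors_eq_zero_iff hf.1).mp h2
  apply hP
  rw [Ideal.eq_top_iff_one, ← sub_eq_zero.1 h3]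
  exact r.2

theorem mul_le_left' (I K : X.IdealSheafData) : I * K ≤ I := fun _ => Ideal.mul_le_left

theorem pow_le_pow' (I : X.IdealSheafData) {m n : ℕ} (h : m ≤ n) : I ^ n ≤ I ^ m :=
  fun _ => Ideal.pow_le_pow_right h

theorem prod_le_factor {ι : Type*} [DecidableEq ι] (s : Finset ι) (J : ι → X.IdealSheafData)
    (i : ι) (hi : i ∈ s) : ∏ j ∈ s, J j ≤ J i := by
  rw [← Finset.mul_prod_erase s J hi]
  exact mul_le_left' _ _

theorem main (X : Scheme.{u}) [IsNoetherian X] (D : X.IdealSheafData)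
    (hD : BlowUp.IsEffCartierIdeal D) (r : ℕ) (Ds : Fin r → X.IdealSheafData)
    (hDs : ∀ i, BlowUp.IsEffCartierIdeal (Ds i)) (hint : ∀ i, IsIntegral (Ds i).subscheme)
    (hsub : (D.support : Set X) ⊆ ⋃ i, ((Ds i).support : Set X)) :
    ∃ a : Fin r → ℕ, D = ∏ i, Ds i ^ a i := by
  classical
  have hN : ∀ i, ∃ N : ℕ, ¬ D ≤ Ds i ^ N := by
    intro i
    haveI := hint i
    obtain ⟨ζ, hζ⟩ := exists_isGenericPoint (Ds i)
    exact exists_not_le_pow hD ζ hζ.mem
  choose N hN using hN
  set S : Set (Fin r → ℕ) := {a | D ≤ ∏ i, Ds i ^ a i} with hS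
  have hbound : ∀ a ∈ S, ∀ i, a i < N i := by
    intro a ha i
    by_contra hge
    push Not at hge
    apply hN i
    exact (ha.trans (prod_le_factor Finset.univ (fun j => Ds j ^ a j) i (Finset.mem_univ i))).trans
      (pow_le_pow' _ hge)
  have hfin : S.Finite := by
    refine (Finset.finite_toSet (Fintype.piFinset fun i => Finset.range (N i))).subset ?_
    intro a ha
    rw [Finset.mem_coe, Fintype.mem_piFinset]
    intro i
    exact Finset.mem_range.2 (hbound a ha i)
  have hne : hfin.toFinset.Nonempty := by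
    refine ⟨0, ?_⟩
    rw [Set.Finite.mem_toFinset]
    change D ≤ ∏ i, Ds i ^ (0 : ℕ)
    simp only [pow_zero, Finset.prod_const_one]
    exact le_top
  obtain ⟨a, ha, hmax⟩ := Finset.exists_max_image hfin.toFinset (fun a => ∑ i, a i) hne
  rw [Set.Finite.mem_toFinset] at ha
  refine ⟨a, ?_⟩
  by_contra hneq
  obtain ⟨i, hi⟩ := exists_le_mul Ds hD
    (isEffCartier_prod Finset.univ (fun j => Ds j ^ a j)
      (fun j _ => isEffCartier_pow (hDs j) (a j))) hDs hint hsub ha hneq
  have ha' : (a + Pi.single i 1 : Fin r → ℕ) ∈ S := by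
    change D ≤ ∏ j, Ds j ^ ((a + Pi.single i 1 : Fin r → ℕ) j)
    have h1 : ∏ j, Ds j ^ ((a + Pi.single i 1 : Fin r → ℕ) j) = (∏ j, Ds j ^ a j) * Ds i := by
      simp only [Pi.add_apply, pow_add, Finset.prod_mul_distrib]
      congr 1
      rw [Finset.prod_eq_single i (fun j _ hj => by rw [Pi.single_eq_of_ne hj, pow_zero])
        (fun h => absurd (Finset.mem_univ i) h), Pi.single_eq_same, pow_one]
    rw [h1]
    exact hi
  have h2 := hmax (a + Pi.single i 1 : Fin r → ℕ) ((Set.Finite.mem_toFinset hfin).2 ha')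
  simp only [Pi.add_apply, Finset.sum_add_distrib, Finset.sum_pi_single', Finset.mem_univ,
    if_true] at h2
  omega

end Groth.Agent.Lead.CartProdC
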