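import Mathlib
import Groth.Agent.Lead.CartSecC
import Groth.Agent.Lead.InvDualA
import Groth.Agent.Helper4.AssFin
import Groth.Agent.Helper4.AmplePoints

/-!
# Invertible modules as differences of effective Cartier divisors (ample case)
-/

set_option autoImplicit false
set_option linter.unusedSectionVars false
set_option linter.style.haveILetI false
universe u
open CategoryTheory CategoryTheory.Limits AlgebraicGeometry TopologicalSpace Opposite
  MonoidalCategory

namespace Groth.Agent.Lead.CartSec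

open Groth.Agent.Helper4

variable {X : Scheme.{u}}

/-- interchange isomorphism used to build tensor inverses -/
noncomputable def interIso (N Q N' A : X.Modules)
    (a : CohB1.tensorMod N N' ≅ Coh.structureModule X)
    (b : CohB1.tensorMod Q A ≅ Coh.structureModule X) :
    CohB1.tensorMod (CohB1.tensorMod N Q) (CohB1.tensorMod N' A) ≅ Coh.structureModule X :=
  Ref1B.assoc N Q (CohB1.tensorMod N' A) ≪≫
    PicGrp.tensorModIso (Iso.refl N)
      ((Ref1B.assoc Q N' A).symm ≪≫
        PicGrp.tensorModIso (Ref1B.braid Q N') (Iso.refl A) ≪≫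
        Ref1B.assoc N' Q A ≪≫
        PicGrp.tensorModIso (Iso.refl N') b ≪≫
        SecTwist.unitorR N') ≪≫
    a

theorem main [IsNoetherian X] (L : X.Modules) (hL : CohB1.IsAmple L)
    (N : X.Modules) (hN : PicF.IsInvertible N) (E : Set X) (hE : E.Finite) :
    ∃ D D' : X.IdealSheafData, BlowUp.IsEffCartierIdeal D ∧ BlowUp.IsEffCartierIdeal D' ∧
      Disjoint E (D.support : Set X) ∧ Disjoint E (D'.support : Set X) ∧
      Nonempty (CohB1.tensorMod N (ClSub.idealMod D) ≅ ClSub.idealMod D') := by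
  obtain ⟨N', hN', -, ⟨a⟩⟩ := InvDual.exists_inverse N hN
  -- the finite set of points
  have hAss : {x : X | x ∈ (⊤ : X.Opens) ∧ Curv2.IsAssPoint (Coh.structureModule X) x}.Finite :=
    AssFin.finite_assPoints_of_isCompact (Coh.structureModule X) (HomShH.isCoh_unit X).1
      (HomShH.isCoh_unit X).2 ⊤ isCompact_univ
  let T : Set X := E ∪ {x : X | x ∈ (⊤ : X.Opens) ∧ Curv2.IsAssPoint (Coh.structureModule X) x}
  have hT : T.Finite := hE.union hAss
  obtain ⟨N₀, hN₀⟩ := AmplePoints.exists_sections_all_large_twists hL (Coh.structureModule X)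
    TensorInv.isInvertible_structureModule T hT
  obtain ⟨N₁, hN₁⟩ := AmplePoints.exists_sections_all_large_twists hL N' hN' T hT
  obtain ⟨s, hs⟩ := hN₀ (max N₀ N₁) (le_max_left _ _)
  obtain ⟨s', hs'⟩ := hN₁ (max N₀ N₁) (le_max_right _ _)
  have hA : PicF.IsInvertible (CohB1.tensorPow L (max N₀ N₁)) :=
    TensorInv.isInvertible_tensorPow hL.1 _
  have hP : PicF.IsInvertible (CohB1.tensorMod (Coh.structureModule X)
      (CohB1.tensorPow L (max N₀ N₁))) :=
    TensorInv.isInvertible_tensorMod TensorInv.isInvertible_structureModule hA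
  have hP' : PicF.IsInvertible (CohB1.tensorMod N' (CohB1.tensorPow L (max N₀ N₁))) :=
    TensorInv.isInvertible_tensorMod hN' hA
  obtain ⟨Q, -, ⟨ε⟩, -⟩ := InvDual.exists_inverse _ hP
  have hassT : ∀ x, Curv2.IsAssPoint (Coh.structureModule X) x → x ∈ T :=
    fun x hx => Or.inr ⟨trivial, hx⟩
  obtain ⟨D, hD, hDE, ⟨eD⟩⟩ := exists_effCartier_of_section _ Q hP ε s
    (fun x hx => hs (hassT x hx)) E (fun x hx => hs (Or.inl hx))
  let b : CohB1.tensorMod Q (CohB1.tensorPow L (max N₀ N₁)) ≅ Coh.structureModule X :=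
    PicGrp.tensorModIso (Iso.refl Q) (Ref1B.unitorL _).symm ≪≫ ε
  obtain ⟨D', hD', hDE', ⟨eD'⟩⟩ := exists_effCartier_of_section _ (CohB1.tensorMod N Q) hP'
    (interIso N Q N' _ a b) s' (fun x hx => hs' (hassT x hx)) E (fun x hx => hs' (Or.inl hx))
  exact ⟨D, D', hD, hD', hDE, hDE', ⟨PicGrp.tensorModIso (Iso.refl N) eD ≪≫ eD'.symm⟩⟩

end Groth.Agent.Lead.CartSec
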