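import Mathlib
import Groth.Prelude
import Groth.Agent.Helper1.SerreC

/-!
# Čech acyclicity for a family of basic opens with a partition of unity (S4481)
-/

set_option autoImplicit false
set_option linter.style.haveILetI false
set_option linter.unusedSectionVars false
set_option linter.unusedVariables false

namespace Groth.Agent.Lead.CechPU

open CategoryTheory Limits Opposite TopologicalSpace AlgebraicGeometry
open Groth.Agent.Helper1.Cech Groth.Agent.Helper1.CechTop Groth.Agent.Helper1.Serre
open Groth.Agent.Helper4.QcqsMod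

universe u

variable {X : Scheme.{u}} (M : X.Modules) {U : X.Opens} {ι : Type u} (g : ι → Γ(X, U))
  [Fintype ι]

theorem isLoc_of_isLocalizingOn
    (hloc : ∀ (m : ℕ) (z : Fin (m + 1) → ι), IsLocalizingOn M (prodU (bV g) z))
    (hg : Ideal.span (Set.range g) = ⊤) :
    IsLoc (bV g) (sectAct M U (iSup (bV g)) (iSup_bV_le g)) g := by
  constructor
  · -- surj
    intro m i z s
    have hWU : prodU (bV g) z ≤ U := prodU_le_U g z
    obtain ⟨f', hf'⟩ : ∃ f' : Γ(X, prodU (bV g) z),
      f' = X.presheaf.map (homOfLE hWU).op (g i) := ⟨_, rfl⟩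
    have hEq : X.basicOpen f' = bV g i ⊓ prodU (bV g) z := by
      rw [hf', Scheme.basicOpen_res, inf_comm]
    obtain ⟨n, t, hnt⟩ := (hloc m z).surj f' (res M.presheaf hEq.le s)
    refine ⟨n, t, ?_⟩
    apply res_injective_of_eq hEq
    rw [res_res, (sectAct M U (iSup (bV g)) (iSup_bV_le g)).act_res, sectAct_act]
    refine Eq.trans ?_ (Eq.trans hnt.symm ?_)
    · rfl
    · congr 1
      have h5 : f' ^ n = X.presheaf.map (homOfLE hWU).op (g i ^ n) := by
        rw [hf', map_pow]
      rw [h5, ← ConcreteCategory.comp_apply, ← Functor.map_comp]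
      rfl
  · -- zero
    intro m i z t ht
    have hWU : prodU (bV g) z ≤ U := prodU_le_U g z
    obtain ⟨f', hf'⟩ : ∃ f' : Γ(X, prodU (bV g) z),
      f' = X.presheaf.map (homOfLE hWU).op (g i) := ⟨_, rfl⟩
    have hEq : X.basicOpen f' = bV g i ⊓ prodU (bV g) z := by
      rw [hf', Scheme.basicOpen_res, inf_comm]
    have h0 : M.presheaf.map (homOfLE (X.basicOpen_le f')).op t = 0 := by
      have := congrArg (res M.presheaf hEq.le) ht
      rw [res_res, res_zero] at this
      exact this
    obtain ⟨n, hn⟩ := (hloc m z).zero f' t h0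
    refine ⟨n, ?_⟩
    rw [sectAct_act, map_pow, ← hf']
    exact hn
  · -- partition of unity
    intro N
    have h1 : Ideal.span (Set.range (fun i => g i ^ N)) = ⊤ := by
      have := Ideal.span_pow_eq_top _ hg N
      rwa [← Set.range_comp] at this
    have h2 : (1 : Γ(X, U)) ∈ Ideal.span (Set.range (fun i => g i ^ N)) := by
      rw [h1]
      exact Submodule.mem_top
    obtain ⟨a, ha⟩ := (Ideal.mem_span_range_iff_exists_fun).1 h2
    refine ⟨a, fun W h => ?_⟩
    rw [ha]
    have : (sectAct M U (iSup (bV g)) (iSup_bV_le g)).act 1 W h = id := by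
      funext s
      exact (sectAct M U (iSup (bV g)) (iSup_bV_le g)).act_one W h s
    rw [this]
    exact Function.bijective_id

theorem isCompact_prodU [QuasiSeparatedSpace X] (V : ι → X.Opens)
    (hV : ∀ i, IsCompact (V i : Set X)) {m : ℕ} (z : Fin (m + 1) → ι) :
    IsCompact ((prodU V z : X.Opens) : Set X) := by
  rw [prodU_eq, Opens.coe_iInf, ← Set.sInter_range]
  refine QuasiSeparatedSpace.isCompact_sInter_of_nonempty (Set.finite_range _)
    (Set.range_nonempty _) ?_ ?_
  · rintro _ ⟨k, rfl⟩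
    exact Or.inl (V (z k)).isOpen
  · rintro _ ⟨k, rfl⟩
    exact hV (z k)

theorem main (X : Scheme.{u}) [X.IsSeparated] (n : ℕ)
    (f : Fin n → Γ(X, ⊤)) (hqc : ∀ i, IsCompact (X.basicOpen (f i) : Set X))
    (g : Fin n → Γ(X, ⨆ i, X.basicOpen (f i)))
    (hg : (Finset.univ.sum fun i => g i *
      (X.presheaf.map (homOfLE (le_top : (⨆ i, X.basicOpen (f i)) ≤ ⊤)).op).hom (f i)) = 1)
    (G : X.Modules) [G.IsQuasicoherent] (p : ℕ) (hp : 0 < p) :
    Limits.IsZero (CohB1.cechH (fun i : ULift.{u} (Fin n) => X.basicOpen (f i.down)) G p) := by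
  obtain ⟨p, rfl⟩ := Nat.exists_eq_succ_of_ne_zero hp.ne'
  let g' : ULift.{u} (Fin n) → Γ(X, ⨆ i, X.basicOpen (f i)) := fun i =>
    (X.presheaf.map (homOfLE (le_top : (⨆ i, X.basicOpen (f i)) ≤ ⊤)).op).hom (f i.down)
  have hfam : bV g' = fun i : ULift.{u} (Fin n) => X.basicOpen (f i.down) := by
    funext i
    show X.basicOpen ((X.presheaf.map (homOfLE (le_top : (⨆ i, X.basicOpen (f i)) ≤ ⊤)).op).hom
      (f i.down)) = _
    rw [Scheme.basicOpen_res]
    exact inf_eq_right.mpr (le_iSup (fun i => X.basicOpen (f i)) i.down)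
  have hspan : Ideal.span (Set.range g') = ⊤ := by
    rw [Ideal.eq_top_iff_one, ← hg]
    exact Ideal.sum_mem _ fun i _ =>
      Ideal.mul_mem_left _ _ (Ideal.subset_span ⟨ULift.up i, rfl⟩)
  have hcomp : ∀ (m : ℕ) (z : Fin (m + 1) → ULift.{u} (Fin n)),
      IsCompact ((prodU (bV g') z : X.Opens) : Set X) := by
    intro m z
    refine isCompact_prodU (bV g') (fun i => ?_) z
    rw [hfam]
    exact hqc i.down
  have hL := isLoc_of_isLocalizingOn G g'
    (fun m z => isLocalizingOn_of_qcqs G (hcomp m z) (IsQuasiSeparated.of_quasiSeparatedSpace _))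
    hspan
  have hz : IsZero (CohTop.cechH (Coh.toAb G).obj (bV g') (p + 1)) := by
    apply isZero_homology_of_exists
    intro c hc
    exact exists_cobound hL p c hc
  rw [hfam] at hz
  exact hz

end Groth.Agent.Lead.CechPU
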