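import Mathlib
import Groth.Prelude.Def_CechOX
import Groth.Prelude.Def_Coh
import Groth.Agent.Helper4.QcohLimits
import Groth.Agent.Helper4.QcohGlue

set_option autoImplicit false
universe u
open CategoryTheory CategoryTheory.Limits AlgebraicGeometry TopologicalSpace Opposite

namespace Groth.Agent.Lead.CechQCoh

open Groth.Agent.Helper4

variable {X : Scheme.{u}}

/-- finite products of quasi-coherent modules are quasi-coherent -/
theorem isQuasicoherent_piObj {κ : Type u} [Finite κ] (G : κ → X.Modules)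
    (hG : ∀ k, (G k).IsQuasicoherent) : (∏ᶜ G).IsQuasicoherent := by
  obtain ⟨n, ⟨e⟩⟩ := Finite.exists_equiv_fin κ
  have h1 : (∏ᶜ (G ∘ e.symm)).IsQuasicoherent := by
    have := QcohLimits.isQuasicoherent_limit (X := X) (Discrete.functor (G ∘ e.symm))
      (fun j => hG _)
    exact this
  exact QcohLimits.isQuasicoherent_of_iso (Pi.reindex e.symm G)

/-- the categorical product of opens is the infimum -/
theorem piObj_opens_eq {n : ℕ} (W : Fin (n + 1) → X.Opens) : ∏ᶜ W = ⨅ k, W k := by
  apply le_antisymm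
  · exact le_iInf fun k => leOfHom (Pi.π W k)
  · exact leOfHom (Pi.lift fun k => homOfLE (iInf_le W k))

theorem isQuasicoherent_pushRestr [X.IsSeparated] (W : X.Opens) (hW : IsAffineOpen W)
    (F : X.Modules) [F.IsQuasicoherent] : ((CechOX.pushRestr W).obj F).IsQuasicoherent := by
  haveI : IsAffine (W : Scheme) := hW
  haveI : ((Scheme.Modules.restrictFunctor W.ι).obj F).IsQuasicoherent :=
    Scheme.Modules.isQuasicoherent_restrictFunctor W.ι F
  exact QcohGlue.isQuasicoherent_pushforward W.ι _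

/-- S5744 -/
theorem main [X.IsSeparated] {ι : Type u} [Finite ι] (𝒰 : ι → X.Opens)
    (h𝒰 : ∀ i, IsAffineOpen (𝒰 i)) (F : X.Modules) [Coh.IsQCoh F] (p : ℕ) :
    Coh.IsQCoh (((CechOX.cechSh 𝒰).obj F).X p) := by
  haveI : F.IsQuasicoherent := ‹Coh.IsQCoh F›
  change (∏ᶜ fun x : Fin (p + 1) → ι => (CechOX.pushRestr (∏ᶜ (𝒰 ∘ x))).obj F).IsQuasicoherent
  apply isQuasicoherent_piObj
  intro x
  apply isQuasicoherent_pushRestr
  rw [piObj_opens_eq]
  exact IsAffineOpen.iInf (fun k => h𝒰 (x k))

end Groth.Agent.Lead.CechQCoh
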