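import Groth.Agent.Lead.BCMap5
import Groth.Agent.Lead.StalkPull
import Groth.Agent.Helper4.QcohGlue
import Groth.Agent.Helper4.QcohLocal
import Mathlib

/-!
# Lead: the unit `G ⟶ i_* i^* G` for a closed immersion `i` is an iso iff the ideal kills `G`
-/

set_option autoImplicit false
open CategoryTheory AlgebraicGeometry Opposite TopologicalSpace
universe u

namespace Groth.Agent.Lead.ClUnit

theorem bijective_of_isBaseChange_of_surjective {A B M N : Type u} [CommRing A] [CommRing B]
    [Algebra A B] [AddCommGroup M] [Module A M] [AddCommGroup N] [Module A N] [Module B N]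
    [IsScalarTower A B N] (hs : Function.Surjective (algebraMap A B))
    (hM : ∀ a ∈ RingHom.ker (algebraMap A B), ∀ m : M, a • m = 0)
    (ρ : M →ₗ[A] N) (hb : IsBaseChange B ρ) : Function.Bijective ρ := by
  have hT : Module.IsTorsionBySet A M (RingHom.ker (algebraMap A B) : Set A) := by
    intro m a
    exact hM a.1 a.2 m
  letI mq : Module (A ⧸ RingHom.ker (algebraMap A B)) M := hT.module
  let ψ : B ≃+* (A ⧸ RingHom.ker (algebraMap A B)) :=
    (RingHom.quotientKerEquivOfSurjective hs).symm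
  letI mB : Module B M := Module.compHom M ψ.toRingHom
  have hsm : ∀ (a : A) (m : M), (algebraMap A B a) • m = a • m := by
    intro a m
    change (ψ (algebraMap A B a)) • m = a • m
    have : ψ (algebraMap A B a) = Ideal.Quotient.mk _ a := by
      rw [RingEquiv.symm_apply_eq]
      rfl
    rw [this]
    rfl
  haveI : IsScalarTower A B M := by
    refine IsScalarTower.of_algebraMap_smul ?_
    intro a m
    exact hsm a m
  let L : N →ₗ[B] M := hb.lift (LinearMap.id : M →ₗ[A] M)
  have hL : ∀ m, L (ρ m) = m := fun m => hb.lift_eq _ m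
  refine ⟨Function.LeftInverse.injective hL, ?_⟩
  intro n
  induction n using hb.inductionOn with
  | zero => exact ⟨0, map_zero _⟩
  | tmul m => exact ⟨m, rfl⟩
  | smul b n hn =>
    obtain ⟨a, rfl⟩ := hs b
    obtain ⟨m, rfl⟩ := hn
    exact ⟨a • m, by rw [map_smul, algebraMap_smul]⟩
  | add n₁ n₂ h₁ h₂ =>
    obtain ⟨m₁, rfl⟩ := h₁
    obtain ⟨m₂, rfl⟩ := h₂
    exact ⟨m₁ + m₂, map_add _ _ _⟩

open Scheme.Modules Groth.Agent.Helper4 Groth.Agent.Lead.BCMap

variable {Z X : Scheme.{u}} (i : Z ⟶ X)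

theorem presheaf_map_le_rfl' {Z : Scheme.{u}} (W : Z.Opens) (x : Γ(Z, W)) :
    Z.presheaf.map (homOfLE (le_refl W)).op x = x := by
  have : (homOfLE (le_refl W)).op = 𝟙 (op W) := Subsingleton.elim _ _
  rw [this, Z.presheaf.map_id]
  rfl

theorem pbSec_le_rfl (G : X.Modules) (U : X.Opens) (m : Γ(G, U)) :
    pbSec i G U (i ⁻¹ᵁ U) le_rfl m =
      ((pullbackPushforwardAdjunction i).unit.app G).app U m := by
  rw [pbSec_apply]
  have : (homOfLE (le_refl (i ⁻¹ᵁ U))).op = 𝟙 (op (i ⁻¹ᵁ U)) := Subsingleton.elim _ _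
  rw [this]
  erw [CategoryTheory.Functor.map_id]
  rfl

theorem main [IsClosedImmersion i] (G : X.Modules) [G.IsQuasicoherent] :
    IsIso ((pullbackPushforwardAdjunction i).unit.app G) ↔
      ∀ (U : X.affineOpens) (a : Γ(X, U.1)), a ∈ i.ker.ideal U →
        ∀ s : Γ(G, U.1), a • s = 0 := by
  constructor
  · intro h U a ha s
    rw [Scheme.Hom.ker_apply, RingHom.mem_ker] at ha
    have hiso := Scheme.Modules.Hom.isIso_iff_isIso_app.mp h U.1
    rw [ConcreteCategory.isIso_iff_bijective] at hiso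
    apply hiso.1
    rw [map_zero, ← pbSec_le_rfl, pbSec_smul]
    have happ : i.appLE U.1 (i ⁻¹ᵁ U.1) le_rfl a = 0 := by
      rw [Scheme.Hom.appLE]
      erw [ConcreteCategory.comp_apply]
      refine (presheaf_map_le_rfl' _ _).trans ha
    rw [happ, zero_smul]
    rfl
  · intro h
    haveI : ((Scheme.Modules.pullback i).obj G).IsQuasicoherent :=
      StalkPull.isQuasicoherent_pullbackObj i G
    haveI : ((pushforward i).obj ((Scheme.Modules.pullback i).obj G)).IsQuasicoherent :=
      QcohGlue.isQuasicoherent_pushforward i _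
    haveI : ((Scheme.Modules.pullback i ⋙ pushforward i).obj G).IsQuasicoherent := by
      change ((pushforward i).obj ((Scheme.Modules.pullback i).obj G)).IsQuasicoherent
      infer_instance
    haveI : ((𝟭 X.Modules).obj G).IsQuasicoherent := by
      change G.IsQuasicoherent
      infer_instance
    apply QcohLocal.isIso_of_app_bijective_of_affine_cover
    intro x
    obtain ⟨_, ⟨U, hU : IsAffineOpen U, rfl⟩, hxU, -⟩ :=
      X.isBasis_affineOpens.exists_subset_of_mem_open (Set.mem_univ x) isOpen_univ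
    refine ⟨U, hU, hxU, ?_⟩
    have hV : IsAffineOpen (i ⁻¹ᵁ U) := hU.preimage i
    obtain ⟨ρ, hρ, hb⟩ := exists_isBaseChange_pbSec i G hU hV le_rfl
    letI := (i.appLE U (i ⁻¹ᵁ U) le_rfl).hom.toAlgebra
    letI : Module Γ(X, U) Γ((Scheme.Modules.pullback i).obj G, i ⁻¹ᵁ U) :=
      Module.compHom _ (i.appLE U (i ⁻¹ᵁ U) le_rfl).hom
    haveI : IsScalarTower Γ(X, U) Γ(Z, i ⁻¹ᵁ U) Γ((Scheme.Modules.pullback i).obj G, i ⁻¹ᵁ U) :=
      IsScalarTower.of_compHom _ _ _
    have happ : ∀ a, i.appLE U (i ⁻¹ᵁ U) le_rfl a = i.app U a := by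
      intro a
      rw [Scheme.Hom.appLE]
      erw [ConcreteCategory.comp_apply]
      exact presheaf_map_le_rfl' _ _
    have hs : Function.Surjective (algebraMap Γ(X, U) Γ(Z, i ⁻¹ᵁ U)) := by
      intro b
      obtain ⟨a, ha⟩ := i.app_surjective U hU b
      exact ⟨a, (happ a).trans ha⟩
    have hM : ∀ a ∈ RingHom.ker (algebraMap Γ(X, U) Γ(Z, i ⁻¹ᵁ U)), ∀ m : Γ(G, U), a • m = 0 := by
      intro a ha m
      refine h ⟨U, hU⟩ a ?_ m
      rw [Scheme.Hom.ker_apply, RingHom.mem_ker]
      rw [RingHom.mem_ker] at ha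
      exact (happ a).symm.trans ha
    have hbij := bijective_of_isBaseChange_of_surjective hs hM ρ hb
    have hfun : ∀ m, ((pullbackPushforwardAdjunction i).unit.app G).app U m = ρ m := by
      intro m
      rw [hρ, pbSec_le_rfl]
    constructor
    · intro m₁ m₂ h12
      apply hbij.1
      rw [← hfun, ← hfun]
      exact h12
    · intro n
      obtain ⟨m, hm⟩ := hbij.2 n
      exact ⟨m, (hfun m).trans hm⟩

end Groth.Agent.Lead.ClUnit
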