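import Mathlib
import Groth.Agent.Helper4.QcohLimits
import Groth.Prelude.Def_Coh

set_option autoImplicit false
universe u
open CategoryTheory CategoryTheory.Limits AlgebraicGeometry TopologicalSpace Opposite

namespace Groth.Agent.Lead.QcohLargest
open Groth.Agent.Helper4

variable {X : Scheme.{u}}

/-- a morphism into the target of a monomorphism factors through it as soon as it does so on
sections -/
theorem exists_factor_of_range_le {H Im F : X.Modules} (m : Im ⟶ F) [Mono m] (f : H ⟶ F)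
    (h : ∀ (U : X.Opens) (s : Γ(H, U)), ∃ t : Γ(Im, U), m.app U t = f.app U s) :
    ∃ g : H ⟶ Im, g ≫ m = f := by
  have hz : f ≫ cokernel.π m = 0 := by
    apply Scheme.Modules.hom_ext
    intro U
    ext s
    obtain ⟨t, ht⟩ := h U s
    rw [Scheme.Modules.Hom.comp_app, Scheme.Modules.Hom.zero_app]
    have h1 : (m ≫ cokernel.π m).app U = 0 := by rw [cokernel.condition]; rfl
    have h2 := congrArg (fun φ => φ t) h1
    simp only [Scheme.Modules.Hom.comp_app] at h2
    change (cokernel.π m).app U (f.app U s) = 0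
    rw [← ht]
    exact h2
  exact ⟨Abelian.monoLift m f hz, Abelian.monoLift_comp m f hz⟩

/-- S9362 -/
theorem main (F G : X.Modules) (hF : Coh.IsQCoh F) (j : G ⟶ F) [Mono j] :
    ∃ (G' : X.Modules) (k : G' ⟶ G), Coh.IsQCoh G' ∧ Mono k ∧
      ∀ H : X.Modules, Coh.IsQCoh H → Function.Bijective (fun φ : H ⟶ G' => φ ≫ k) := by
  haveI : F.IsQuasicoherent := hF
  -- the (small) set of section-families of images of quasi-coherent modules in `G`
  let I : Type u := { S : (U : X.Opens) → Set Γ(F, U) //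
    ∃ (H : X.Modules) (ψ : H ⟶ G), H.IsQuasicoherent ∧ ∀ U, S U = Set.range ((ψ ≫ j).app U) }
  let Hf : I → X.Modules := fun S => S.2.choose
  let ψf : ∀ S : I, Hf S ⟶ G := fun S => S.2.choose_spec.choose
  have hHf : ∀ S : I, (Hf S).IsQuasicoherent := fun S => S.2.choose_spec.choose_spec.1
  have hSf : ∀ (S : I) U, S.1 U = Set.range ((ψf S ≫ j).app U) :=
    fun S => S.2.choose_spec.choose_spec.2
  haveI hsig : (∐ Hf).IsQuasicoherent := QcohLimits.isQuasicoherent_sigma Hf hHf
  let Ψ : ∐ Hf ⟶ G := Sigma.desc ψf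
  haveI hIm : (Abelian.image (Ψ ≫ j)).IsQuasicoherent := QcohLimits.isQuasicoherent_image (Ψ ≫ j)
  let π : ∐ Hf ⟶ Abelian.image (Ψ ≫ j) := Abelian.factorThruImage (Ψ ≫ j)
  let m : Abelian.image (Ψ ≫ j) ⟶ F := Abelian.image.ι (Ψ ≫ j)
  have hπm : π ≫ m = Ψ ≫ j := Abelian.image.fac (Ψ ≫ j)
  haveI : Epi π := inferInstance
  haveI : StrongEpi π := strongEpi_of_epi π
  have sq : CommSq Ψ π j m := ⟨hπm.symm⟩
  let k : Abelian.image (Ψ ≫ j) ⟶ G := sq.lift
  have hk1 : π ≫ k = Ψ := sq.fac_left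
  have hk2 : k ≫ j = m := sq.fac_right
  haveI : Mono k := by
    haveI : Mono (k ≫ j) := by rw [hk2]; infer_instance
    exact mono_of_mono k j
  refine ⟨Abelian.image (Ψ ≫ j), k, hIm, inferInstance, fun H hH => ⟨?_, ?_⟩⟩
  · intro a b hab
    exact (cancel_mono k).mp hab
  · intro ψ
    haveI : H.IsQuasicoherent := hH
    let S : I := ⟨fun U => Set.range ((ψ ≫ j).app U), H, ψ, hH, fun U => rfl⟩
    have key : ∀ (U : X.Opens) (s : Γ(H, U)),
        ∃ t : Γ(Abelian.image (Ψ ≫ j), U), m.app U t = (ψ ≫ j).app U s := by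
      intro U s
      have hs : (ψ ≫ j).app U s ∈ S.1 U := ⟨s, rfl⟩
      rw [hSf S U] at hs
      obtain ⟨s', hs'⟩ := hs
      refine ⟨(Sigma.ι Hf S ≫ π).app U s', ?_⟩
      rw [← hs']
      have : (Sigma.ι Hf S ≫ π) ≫ m = ψf S ≫ j := by
        rw [Category.assoc, hπm, ← Category.assoc, Sigma.ι_desc]
      rw [← this]
      rfl
    obtain ⟨g, hg⟩ := exists_factor_of_range_le m (ψ ≫ j) key
    refine ⟨g, ?_⟩
    show g ≫ k = ψ
    rw [← cancel_mono j, Category.assoc, hk2, hg]

end Groth.Agent.Lead.QcohLargest
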