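import Mathlib
import Groth.Prelude.Def_QCohCat
import Groth.Prelude.Def_Coh
import Groth.Agent.Helper1.TW2
import Groth.Agent.Helper9.ClImmPF4
import Groth.Agent.Helper4.QcohEpi
import Groth.Agent.Helper4.QcohGlue
import Groth.Agent.Lead.ClUnit
import Groth.Agent.Lead.QcohLargest

/-!
# ClAdj: for a closed immersion `i : Z ⟶ X` (no hypothesis on `Z`, `X`), the functor
`i_* : QCoh Z ⥤ QCoh X` has a right adjoint.
-/

set_option autoImplicit false
set_option linter.style.haveILetI false
universe u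
open CategoryTheory CategoryTheory.Limits AlgebraicGeometry TopologicalSpace Opposite

namespace Groth.Agent.Lead.ClAdj
open Groth.Agent.Helper4 Scheme.Modules Groth.Agent.Helper9.ClImmPF4

variable {Z X : Scheme.{u}} (i : Z ⟶ X) [IsClosedImmersion i]

/-- the unit is an isomorphism on direct images -/
theorem isIso_unit_pushforward (P : Z.Modules) :
    IsIso ((pullbackPushforwardAdjunction i).unit.app ((pushforward i).obj P)) := by
  have h := (pullbackPushforwardAdjunction i).right_triangle_components P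
  haveI : IsIso ((pushforward i).map ((pullbackPushforwardAdjunction i).counit.app P)) :=
    inferInstance
  exact IsIso.of_isIso_fac_right h

/-- sections of the ideal of `Z` kill direct images from `Z` -/
theorem smul_eq_zero_pushforward (P : Z.Modules) [P.IsQuasicoherent] (U : X.affineOpens)
    (a : Γ(X, U.1)) (ha : a ∈ i.ker.ideal U) (t : Γ((pushforward i).obj P, U.1)) : a • t = 0 := by
  haveI : ((pushforward i).obj P).IsQuasicoherent := QcohGlue.isQuasicoherent_pushforward i P
  exact (Groth.Agent.Lead.ClUnit.main i _).mp (isIso_unit_pushforward i P) U a ha t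

/-- the coreflection `i^! F` of a quasi-coherent module, with its universal property -/
theorem exists_coreflection (F : X.Modules) [F.IsQuasicoherent] :
    ∃ (N : Z.Modules) (ε : (pushforward i).obj N ⟶ F), N.IsQuasicoherent ∧ Mono ε ∧
      ∀ (M : Z.Modules), M.IsQuasicoherent → ∀ φ : (pushforward i).obj M ⟶ F,
        ∃ ψ : M ⟶ N, (pushforward i).map ψ ≫ ε = φ := by
  let I : Type u := { S : (U : X.Opens) → Set Γ(F, U) //
    ∃ (M : Z.Modules) (ψ : (pushforward i).obj M ⟶ F), M.IsQuasicoherent ∧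
      ∀ U, S U = Set.range (ψ.app U) }
  let Mf : I → Z.Modules := fun S => S.2.choose
  let ψf : ∀ S : I, (pushforward i).obj (Mf S) ⟶ F := fun S => S.2.choose_spec.choose
  have hMf : ∀ S : I, (Mf S).IsQuasicoherent := fun S => S.2.choose_spec.choose_spec.1
  have hSf : ∀ (S : I) U, S.1 U = Set.range ((ψf S).app U) :=
    fun S => S.2.choose_spec.choose_spec.2
  haveI hsig : (∐ Mf).IsQuasicoherent := QcohLimits.isQuasicoherent_sigma Mf hMf
  haveI : ((pushforward i).obj (∐ Mf)).IsQuasicoherent :=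
    QcohGlue.isQuasicoherent_pushforward i _
  let Ψ : (pushforward i).obj (∐ Mf) ⟶ F :=
    (PreservesCoproduct.iso (pushforward i) Mf).hom ≫ Sigma.desc ψf
  have hΨ : ∀ S : I, (pushforward i).map (Sigma.ι Mf S) ≫ Ψ = ψf S := by
    intro S
    have h1 : (pushforward i).map (Sigma.ι Mf S) =
        Sigma.ι (fun S => (pushforward i).obj (Mf S)) S ≫
          (PreservesCoproduct.iso (pushforward i) Mf).inv := by
      rw [PreservesCoproduct.inv_hom, ι_comp_sigmaComparison]
    show (pushforward i).map (Sigma.ι Mf S) ≫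
      (PreservesCoproduct.iso (pushforward i) Mf).hom ≫ Sigma.desc ψf = ψf S
    rw [h1, Category.assoc, Iso.inv_hom_id_assoc, Sigma.ι_desc]
  haveI hIm : (Abelian.image Ψ).IsQuasicoherent := QcohLimits.isQuasicoherent_image Ψ
  let π : (pushforward i).obj (∐ Mf) ⟶ Abelian.image Ψ := Abelian.factorThruImage Ψ
  let m : Abelian.image Ψ ⟶ F := Abelian.image.ι Ψ
  have hπm : π ≫ m = Ψ := Abelian.image.fac Ψ
  haveI : Epi π := inferInstance
  have hkill : ∀ (U : X.affineOpens) (a : Γ(X, U.1)), a ∈ i.ker.ideal U →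
      ∀ s : Γ(Abelian.image Ψ, U.1), a • s = 0 := by
    intro U a ha s
    obtain ⟨t, rfl⟩ := QcohEpi.app_surjective_of_epi π U.2 s
    rw [← Scheme.Modules.Hom.app_smul, smul_eq_zero_pushforward i _ U a ha t, map_zero]
  have hunit : IsIso ((pullbackPushforwardAdjunction i).unit.app (Abelian.image Ψ)) :=
    (Groth.Agent.Lead.ClUnit.main i _).mpr hkill
  let N : Z.Modules := (Scheme.Modules.pullback i).obj (Abelian.image Ψ)
  haveI hN : N.IsQuasicoherent := StalkPull.isQuasicoherent_pullbackObj i _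
  let η : Abelian.image Ψ ⟶ (pushforward i).obj N :=
    (pullbackPushforwardAdjunction i).unit.app (Abelian.image Ψ)
  haveI : IsIso η := hunit
  let ε : (pushforward i).obj N ⟶ F := inv η ≫ m
  haveI : Mono ε := mono_comp _ _
  refine ⟨N, ε, hN, inferInstance, fun M hM φ => ?_⟩
  haveI : M.IsQuasicoherent := hM
  let S : I := ⟨fun U => Set.range (φ.app U), M, φ, hM, fun U => rfl⟩
  have key : ∀ (U : X.Opens) (s : Γ((pushforward i).obj M, U)),
      ∃ t : Γ(Abelian.image Ψ, U), m.app U t = φ.app U s := by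
    intro U s
    have hs : φ.app U s ∈ S.1 U := ⟨s, rfl⟩
    rw [hSf S U] at hs
    obtain ⟨s', hs'⟩ := hs
    refine ⟨((pushforward i).map (Sigma.ι Mf S) ≫ π).app U s', ?_⟩
    rw [← hs']
    have : ((pushforward i).map (Sigma.ι Mf S) ≫ π) ≫ m = ψf S := by
      rw [Category.assoc, hπm, hΨ]
    rw [← this]
    rfl
  obtain ⟨g, hg⟩ := Groth.Agent.Lead.QcohLargest.exists_factor_of_range_le m φ key
  obtain ⟨ψ, hψ⟩ := (pushforward i).map_surjective (g ≫ η)
  refine ⟨ψ, ?_⟩
  rw [hψ, Category.assoc]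
  show g ≫ η ≫ inv η ≫ m = φ
  rw [IsIso.hom_inv_id_assoc, hg]

/-- S12461 -/
theorem main : ∃ L : QCohCat.QCoh Z ⥤ QCohCat.QCoh X,
    Nonempty (L ⋙ (QCohCat.isQCoh X).ι ≅ (QCohCat.isQCoh Z).ι ⋙ Coh.push i) ∧
      L.IsLeftAdjoint := by
  let L : QCohCat.QCoh Z ⥤ QCohCat.QCoh X :=
    ObjectProperty.lift (QCohCat.isQCoh X) ((QCohCat.isQCoh Z).ι ⋙ Coh.push i)
      (fun M => by
        haveI : M.obj.IsQuasicoherent := M.property
        exact QcohGlue.isQuasicoherent_pushforward i M.obj)
  refine ⟨L, ⟨ObjectProperty.liftCompιIso _ _ _⟩, ?_⟩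
  rw [isLeftAdjoint_iff_hasTerminal_costructuredArrow]
  intro A
  haveI : A.obj.IsQuasicoherent := A.property
  obtain ⟨N, ε, hN, hε, huniv⟩ := exists_coreflection i A.obj
  let N' : QCohCat.QCoh Z := ⟨N, hN⟩
  let ε' : L.obj N' ⟶ A := ObjectProperty.homMk ε
  let T : CostructuredArrow L A := CostructuredArrow.mk ε'
  haveI : ∀ Y : CostructuredArrow L A, Nonempty (Y ⟶ T) := fun Y => by
    obtain ⟨ψ, hψ⟩ := huniv Y.left.obj Y.left.property Y.hom.hom
    exact ⟨CostructuredArrow.homMk (ObjectProperty.homMk ψ) (by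
      apply ObjectProperty.hom_ext
      exact hψ)⟩
  haveI : ∀ Y : CostructuredArrow L A, Subsingleton (Y ⟶ T) := fun Y => ⟨fun f g => by
    apply CostructuredArrow.hom_ext
    apply ObjectProperty.hom_ext
    apply (pushforward i).map_injective
    rw [← cancel_mono ε]
    have hf := congrArg (fun k => k.hom) (CostructuredArrow.w f)
    have hg := congrArg (fun k => k.hom) (CostructuredArrow.w g)
    exact hf.trans hg.symm⟩
  exact hasTerminal_of_unique T

end Groth.Agent.Lead.ClAdj
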