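import Groth.Agent.Lead.OmegaCnH
import Mathlib

set_option autoImplicit false
set_option backward.isDefEq.respectTransparency false
set_option backward.isDefEq.respectTransparency.types false
open CategoryTheory CategoryTheory.Limits AlgebraicGeometry Opposite TopologicalSpace
universe u

namespace Groth.Agent.Lead.CnMapA

open Scheme.Modules OmegaSh Groth.Agent.Helper4 Groth.Agent.Lead.BCMap

variable {Z X Z' X' : Scheme.{u}} (i : Z ⟶ X) (i' : Z' ⟶ X') [QuasiCompact i] [QuasiCompact i']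
  (g : X ⟶ X') (gZ : Z ⟶ Z') (hsq : gZ ≫ i' = i ≫ g)

include hsq in
omit [QuasiCompact i] [QuasiCompact i'] in
theorem le_pre (U' : X'.Opens) : gZ ⁻¹ᵁ (i' ⁻¹ᵁ U') ≤ i ⁻¹ᵁ (g ⁻¹ᵁ U') := by
  intro x hx
  have h : (gZ ≫ i') x = (i ≫ g) x := by rw [hsq]
  have h' : i' (gZ x) = g (i x) := h
  change g (i x) ∈ U'
  rw [← h']
  exact hx

include hsq in
omit [QuasiCompact i] [QuasiCompact i'] in
/-- the two ways of pulling a function on `X'` back to `Z` agree -/
theorem app_app (U' : X'.Opens) (r : Γ(X', U')) :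
    Z.presheaf.map (homOfLE (le_pre i i' g gZ hsq U')).op (i.app (g ⁻¹ᵁ U') (g.app U' r)) =
      gZ.app (i' ⁻¹ᵁ U') (i'.app U' r) := by
  have h1 := Scheme.Hom.congr_app hsq U'
  have h2 := congr($h1 r)
  rw [Scheme.Hom.comp_app, Scheme.Hom.comp_app] at h2
  refine Eq.trans ?_ h2.symm
  rfl

omit [QuasiCompact i] [QuasiCompact i'] in
theorem eq_zero_of_map_eqToHom {V W : Z.Opens} (e : V = W) (y : Γ(Z, W))
    (h : Z.presheaf.map (eqToHom e).op y = 0) : y = 0 := by
  subst e
  have h1 : Z.presheaf.map (eqToHom (rfl : V = V)).op y = y := by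
    rw [eqToHom_refl, op_id, Z.presheaf.map_id]
    rfl
  exact h1.symm.trans h

include hsq in
theorem exists_lift (U' : X'.Opens) (s' : Γ(ClSub.idealMod i'.ker, U')) :
    ∃ s : Γ(ClSub.idealMod i.ker, g ⁻¹ᵁ U'),
      idealSect i.ker (g ⁻¹ᵁ U') s = g.app U' (idealSect i'.ker U' s') := by
  apply OmegaCnF.exists_idealSect_of_app_eq_zero i
  have h0 : i'.app U' (idealSect i'.ker U' s') = 0 := OmegaCnF.app_idealSect_general i' U' s'
  have h1 := Scheme.Hom.congr_app hsq U'
  have h2 := congr($h1 (idealSect i'.ker U' s'))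
  rw [Scheme.Hom.comp_app, Scheme.Hom.comp_app] at h2
  have h3 : gZ.app (i' ⁻¹ᵁ U') (i'.app U' (idealSect i'.ker U' s')) = 0 := by
    rw [h0, map_zero]
  have h4 : (i'.app U' ≫ gZ.app (i' ⁻¹ᵁ U')) (idealSect i'.ker U' s') = 0 := h3
  have h5 := h2.symm.trans h4
  exact eq_zero_of_map_eqToHom _ _ h5

/-- the section of the ideal of `i` with underlying function `g♯ s'` -/
noncomputable def lift (U' : X'.Opens) (s' : Γ(ClSub.idealMod i'.ker, U')) :
    Γ(ClSub.idealMod i.ker, g ⁻¹ᵁ U') :=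
  (exists_lift i i' g gZ hsq U' s').choose

theorem lift_spec (U' : X'.Opens) (s' : Γ(ClSub.idealMod i'.ker, U')) :
    idealSect i.ker (g ⁻¹ᵁ U') (lift i i' g gZ hsq U' s') = g.app U' (idealSect i'.ker U' s') :=
  (exists_lift i i' g gZ hsq U' s').choose_spec

theorem lift_unique (U' : X'.Opens) (s' : Γ(ClSub.idealMod i'.ker, U'))
    (s : Γ(ClSub.idealMod i.ker, g ⁻¹ᵁ U'))
    (hs : idealSect i.ker (g ⁻¹ᵁ U') s = g.app U' (idealSect i'.ker U' s')) :
    lift i i' g gZ hsq U' s' = s :=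
  OmegaCnC.idealSect_injective i _ ((lift_spec i i' g gZ hsq U' s').trans hs.symm)


/-- restriction of a class in the conormal sheaf along `Z.Opens` inclusion -/
noncomputable def kfun (U' : X'.Opens) (s' : Γ(ClSub.idealMod i'.ker, U')) :
    Γ(Omega.conormal i, gZ ⁻¹ᵁ (i' ⁻¹ᵁ U')) :=
  (Omega.conormal i).presheaf.map (homOfLE (le_pre i i' g gZ hsq U')).op
    (conormalSect i (g ⁻¹ᵁ U') (lift i i' g gZ hsq U' s'))

theorem lift_add (U' : X'.Opens) (a b : Γ(ClSub.idealMod i'.ker, U')) :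
    lift i i' g gZ hsq U' (a + b) = lift i i' g gZ hsq U' a + lift i i' g gZ hsq U' b := by
  apply lift_unique
  rw [map_add, map_add, map_add, lift_spec, lift_spec]

theorem lift_smul (U' : X'.Opens) (r : Γ(X', U')) (a : Γ(ClSub.idealMod i'.ker, U')) :
    lift i i' g gZ hsq U' (r • a) = g.app U' r • lift i i' g gZ hsq U' a := by
  apply lift_unique
  rw [OmegaCnC.idealSect_smul, OmegaCnC.idealSect_smul, lift_spec, map_mul]

theorem lift_res {U' V' : X'.Opens} (e : V' ≤ U') (a : Γ(ClSub.idealMod i'.ker, U')) :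
    lift i i' g gZ hsq V' ((ClSub.idealMod i'.ker).presheaf.map (homOfLE e).op a) =
      (ClSub.idealMod i.ker).presheaf.map (homOfLE (g.preimage_mono e)).op
        (lift i i' g gZ hsq U' a) := by
  apply lift_unique
  have h1 : idealSect i.ker (g ⁻¹ᵁ V') ((ClSub.idealMod i.ker).presheaf.map
      (homOfLE (g.preimage_mono e)).op (lift i i' g gZ hsq U' a)) =
      X.presheaf.map (homOfLE (g.preimage_mono e)).op
        (idealSect i.ker (g ⁻¹ᵁ U') (lift i i' g gZ hsq U' a)) :=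
    StalkExact.app_res (ClSub.idealModι i.ker) (homOfLE (g.preimage_mono e)) _
  have h2 : idealSect i'.ker V' ((ClSub.idealMod i'.ker).presheaf.map (homOfLE e).op a) =
      X'.presheaf.map (homOfLE e).op (idealSect i'.ker U' a) :=
    StalkExact.app_res (ClSub.idealModι i'.ker) (homOfLE e) _
  rw [h1, h2, lift_spec]
  exact (congr($(g.naturality (homOfLE e).op) (idealSect i'.ker U' a))).symm


theorem kfun_add (U' : X'.Opens) (a b : Γ(ClSub.idealMod i'.ker, U')) :
    kfun i i' g gZ hsq U' (a + b) = kfun i i' g gZ hsq U' a + kfun i i' g gZ hsq U' b := by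
  unfold kfun
  rw [lift_add, map_add, map_add]

omit [QuasiCompact i] in
theorem conormalSect_res {U V : X.Opens} (e : V ≤ U) (σ : Γ(ClSub.idealMod i.ker, U)) :
    conormalSect i V ((ClSub.idealMod i.ker).presheaf.map (homOfLE e).op σ) =
      (Omega.conormal i).presheaf.map (homOfLE (i.preimage_mono e)).op (conormalSect i U σ) := by
  have h4 := pbSec_res i (ClSub.idealMod i.ker) (le_refl (i ⁻¹ᵁ U))
    (le_refl (i ⁻¹ᵁ V)) e (i.preimage_mono e) σ
  rw [OmegaCnB.pbSec_self, OmegaCnB.pbSec_self] at h4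
  exact h4

theorem kfun_res {U' V' : X'.Opens} (e : V' ≤ U') (a : Γ(ClSub.idealMod i'.ker, U')) :
    kfun i i' g gZ hsq V' ((ClSub.idealMod i'.ker).presheaf.map (homOfLE e).op a) =
      (Omega.conormal i).presheaf.map
        (homOfLE (gZ.preimage_mono (i'.preimage_mono e))).op (kfun i i' g gZ hsq U' a) := by
  unfold kfun
  rw [lift_res i i' g gZ hsq e, conormalSect_res]
  rw [QcohGlue.map_map_thin (Omega.conormal i) _ _
    (homOfLE ((le_pre i i' g gZ hsq V').trans (i.preimage_mono (g.preimage_mono e)))).op]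
  rw [QcohGlue.map_map_thin (Omega.conormal i) _ _
    (homOfLE ((le_pre i i' g gZ hsq V').trans (i.preimage_mono (g.preimage_mono e)))).op]

theorem kfun_smul (U' : X'.Opens) (r : Γ(X', U')) (a : Γ(ClSub.idealMod i'.ker, U')) :
    kfun i i' g gZ hsq U' (r • a) =
      gZ.app (i' ⁻¹ᵁ U') (i'.app U' r) • kfun i i' g gZ hsq U' a := by
  unfold kfun
  rw [lift_smul, OmegaCnG.conormalSect_smul, Scheme.Modules.map_smul, ← app_app i i' g gZ hsq U' r,
    Scheme.Hom.appLE_eq_app]


/-- the map `𝓘' ⟶ i'_* gZ_* C_{Z/X}` -/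
noncomputable def kappa : ClSub.idealMod i'.ker ⟶
    (Scheme.Modules.pushforward i').obj ((Scheme.Modules.pushforward gZ).obj (Omega.conormal i)) :=
  ⟨PresheafOfModules.homMk
    { app := fun U' => AddCommGrpCat.ofHom
        (AddMonoidHom.mk' (kfun i i' g gZ hsq U'.unop) (kfun_add i i' g gZ hsq U'.unop))
      naturality := fun U' V' f => by
        ext a
        have e : V'.unop ≤ U'.unop := leOfHom f.unop
        have hf : f = (homOfLE e).op := Subsingleton.elim _ _
        subst hf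
        exact kfun_res i i' g gZ hsq e a }
    (fun U' r a => kfun_smul i i' g gZ hsq U'.unop r a)⟩

theorem kappa_app (U' : X'.Opens) (a : Γ(ClSub.idealMod i'.ker, U')) :
    (kappa i i' g gZ hsq).app U' a = kfun i i' g gZ hsq U' a := rfl

/-- the canonical map of conormal sheaves -/
noncomputable def phi :
    (Scheme.Modules.pullback gZ).obj (Omega.conormal i') ⟶ Omega.conormal i :=
  ((pullbackPushforwardAdjunction gZ).homEquiv _ _).symm
    (((pullbackPushforwardAdjunction i').homEquiv _ _).symm (kappa i i' g gZ hsq))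

theorem phi_app (U' : X'.Opens) (a : Γ(ClSub.idealMod i'.ker, U')) :
    (phi i i' g gZ hsq).app (gZ ⁻¹ᵁ (i' ⁻¹ᵁ U'))
      (pullSect gZ (Omega.conormal i') (i' ⁻¹ᵁ U') (conormalSect i' U' a)) =
      kfun i i' g gZ hsq U' a := by
  have h1 : ∀ c : (Scheme.Modules.pullback gZ).obj (Omega.conormal i') ⟶ Omega.conormal i,
      ((pullbackPushforwardAdjunction gZ).homEquiv _ _ c).app (i' ⁻¹ᵁ U')
        (conormalSect i' U' a) =
      c.app (gZ ⁻¹ᵁ (i' ⁻¹ᵁ U')) (pullSect gZ _ (i' ⁻¹ᵁ U') (conormalSect i' U' a)) := by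
    intro c
    rw [Adjunction.homEquiv_unit]; rfl
  have h2 : ∀ c : (Scheme.Modules.pullback i').obj (ClSub.idealMod i'.ker) ⟶
      (Scheme.Modules.pushforward gZ).obj (Omega.conormal i),
      ((pullbackPushforwardAdjunction i').homEquiv _ _ c).app U' a =
      c.app (i' ⁻¹ᵁ U') (pullSect i' _ U' a) := by
    intro c
    rw [Adjunction.homEquiv_unit]; rfl
  rw [← h1]
  unfold phi
  rw [Equiv.apply_symm_apply]
  change (((pullbackPushforwardAdjunction i').homEquiv _ _).symm (kappa i i' g gZ hsq)).app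
    (i' ⁻¹ᵁ U') (pullSect i' _ U' a) = _
  rw [← h2, Equiv.apply_symm_apply, kappa_app]

theorem isConormalMap_phi : IsConormalMap i i' g gZ (phi i i' g gZ hsq) := by
  refine ⟨hsq, ?_⟩
  intro U' s' s hs V h₁ h₂
  rw [phi_app]
  unfold kfun
  rw [lift_unique i i' g gZ hsq U' s' s hs]
  exact QcohGlue.map_map_thin (Omega.conormal i) _ _ _ _

include hsq in
theorem unique (φ ψ : (Scheme.Modules.pullback gZ).obj (Omega.conormal i') ⟶ Omega.conormal i)
    (hφ : IsConormalMap i i' g gZ φ) (hψ : IsConormalMap i i' g gZ ψ) : φ = ψ := by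
  apply OmegaCnF.pullback_hom_ext₂ gZ i' (M := ClSub.idealMod i'.ker)
  intro U' s'
  have hs := lift_spec i i' g gZ hsq U' s'
  have h1 := hφ.2 U' s' _ hs (gZ ⁻¹ᵁ (i' ⁻¹ᵁ U')) le_rfl (le_pre i i' g gZ hsq U')
  have h2 := hψ.2 U' s' _ hs (gZ ⁻¹ᵁ (i' ⁻¹ᵁ U')) le_rfl (le_pre i i' g gZ hsq U')
  have h3 : ∀ x : Γ(Omega.conormal i, gZ ⁻¹ᵁ (i' ⁻¹ᵁ U')),
      (Omega.conormal i).presheaf.map (homOfLE (le_refl (gZ ⁻¹ᵁ (i' ⁻¹ᵁ U')))).op x = x := by
    intro x
    erw [CategoryTheory.Functor.map_id]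
    rfl
  rw [h3] at h1 h2
  exact h1.trans h2.symm

include hsq in
theorem main : ∃! φ : (Scheme.Modules.pullback gZ).obj (Omega.conormal i') ⟶ Omega.conormal i,
    IsConormalMap i i' g gZ φ :=
  ⟨phi i i' g gZ hsq, isConormalMap_phi i i' g gZ hsq,
    fun ψ hψ => unique i i' g gZ hsq ψ _ hψ (isConormalMap_phi i i' g gZ hsq)⟩

end Groth.Agent.Lead.CnMapA
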