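import Mathlib
import Groth.Prelude.Def_SchLoc
import Groth.Agent.S4372
import Groth.Agent.S4370

set_option autoImplicit false
universe u
open CategoryTheory AlgebraicGeometry

namespace Groth.Agent.Lead.LocImm

/-- points of `resLE` -/
theorem resLE_apply {X Y : Scheme.{u}} (f : X ⟶ Y) (V : Y.Opens) (U : X.Opens)
    (hU : U ≤ f ⁻¹ᵁ V) (u : U.toScheme) : V.ι (f.resLE V U hU u) = f (U.ι u) := by
  rw [← Scheme.Hom.comp_apply, ← Scheme.Hom.comp_apply, Scheme.Hom.resLE_comp_ι]

theorem exists_ι_eq {X : Scheme.{u}} (U : X.Opens) {x : X} (hx : x ∈ U) :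
    ∃ u : U.toScheme, U.ι u = x := by
  have : x ∈ Set.range U.ι := by rw [Scheme.Opens.range_ι]; exact hx
  exact this

theorem ι_mem {X : Scheme.{u}} (U : X.Opens) (u : U.toScheme) : U.ι u ∈ U := by
  have : U.ι u ∈ Set.range U.ι := ⟨u, rfl⟩
  rwa [Scheme.Opens.range_ι] at this

/-- the generic point lies in every nonempty open -/
theorem genericPoint_mem {X : Scheme.{u}} [IrreducibleSpace X] (U : X.Opens)
    (hne : (U : Set X).Nonempty) : genericPoint X ∈ U := by
  obtain ⟨x, hx⟩ := hne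
  exact (genericPoint_specializes x).mem_open U.isOpen hx

/-- the range of a closed-immersion chart is the closure of the image of the generic point -/
theorem range_resLE {X Y : Scheme.{u}} [IrreducibleSpace X] (f : X ⟶ Y) (V : Y.Opens) (U : X.Opens)
    (hU : U ≤ f ⁻¹ᵁ V) [IsClosedImmersion (f.resLE V U hU)] (hξ : genericPoint X ∈ U)
    (v0 : V.toScheme) (hv0 : V.ι v0 = f (genericPoint X)) :
    Set.range (f.resLE V U hU) = closure {v0} := by
  obtain ⟨u0, hu0⟩ := exists_ι_eq U hξ
  have hv0' : f.resLE V U hU u0 = v0 := by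
    apply V.ι.isOpenEmbedding.injective
    rw [resLE_apply, hv0, hu0]
  apply Set.Subset.antisymm
  · rintro _ ⟨u, rfl⟩
    have h1 : u0 ⤳ u := by
      rw [← U.ι.isOpenEmbedding.isInducing.specializes_iff, hu0]
      exact genericPoint_specializes _
    have h2 := h1.map (f.resLE V U hU).continuous
    rw [hv0'] at h2
    exact specializes_iff_mem_closure.mp h2
  · apply (f.resLE V U hU).isClosedEmbedding.isClosed_range.closure_subset_iff.mpr
    rw [Set.singleton_subset_iff]
    exact ⟨u0, hv0'⟩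

/-- the range of any chart is inside the closure of the image of the generic point -/
theorem range_resLE_subset {X Y : Scheme.{u}} [IrreducibleSpace X] (f : X ⟶ Y) (V : Y.Opens)
    (U : X.Opens) (hU : U ≤ f ⁻¹ᵁ V) (hξ : genericPoint X ∈ U)
    (v0 : V.toScheme) (hv0 : V.ι v0 = f (genericPoint X)) :
    Set.range (f.resLE V U hU) ⊆ closure {v0} := by
  obtain ⟨u0, hu0⟩ := exists_ι_eq U hξ
  have hv0' : f.resLE V U hU u0 = v0 := by
    apply V.ι.isOpenEmbedding.injective
    rw [resLE_apply, hv0, hu0]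
  rintro _ ⟨u, rfl⟩
  have h1 : u0 ⤳ u := by
    rw [← U.ι.isOpenEmbedding.isInducing.specializes_iff, hu0]
    exact genericPoint_specializes _
  have h2 := h1.map (f.resLE V U hU).continuous
  rw [hv0'] at h2
  exact specializes_iff_mem_closure.mp h2

/-- Lemma A': a nonempty closed-immersion chart is the full preimage, reduced case -/
theorem preimage_le_chart_of_isReduced {X Y : Scheme.{u}} [IrreducibleSpace X] [IsReduced X]
    (f : X ⟶ Y) [IsSeparated f] (V : Y.Opens) (U : X.Opens) (hU : U ≤ f ⁻¹ᵁ V)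
    [IsClosedImmersion (f.resLE V U hU)] (hne : (U : Set X).Nonempty) : f ⁻¹ᵁ V ≤ U := by
  have hξ := genericPoint_mem U hne
  have hξW : genericPoint X ∈ f ⁻¹ᵁ V := hU hξ
  have hredU : IsReduced U.toScheme := isReduced_of_isOpenImmersion U.ι
  have hredW : IsReduced (f ⁻¹ᵁ V).toScheme := isReduced_of_isOpenImmersion (f ⁻¹ᵁ V).ι
  have hker : (f.resLE V U hU).ker ≤ (f.resLE V (f ⁻¹ᵁ V) le_rfl).ker := by
    rw [Groth.Agent.S4372.ker_eq_vanishingIdeal, Groth.Agent.S4372.ker_eq_vanishingIdeal]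
    apply Scheme.IdealSheafData.vanishingIdeal_antimono
    have hmem : f (genericPoint X) ∈ V := hU hξ
    obtain ⟨v0, hv0⟩ := exists_ι_eq V hmem
    change closure (Set.range (f.resLE V (f ⁻¹ᵁ V) le_rfl)) ⊆ closure (Set.range (f.resLE V U hU))
    rw [range_resLE f V U hU hξ v0 hv0, closure_closure]
    exact closure_minimal (range_resLE_subset f V (f ⁻¹ᵁ V) le_rfl hξW v0 hv0) isClosed_closure
  let e : (f ⁻¹ᵁ V).toScheme ⟶ U.toScheme :=
    IsClosedImmersion.lift (f.resLE V U hU) (f.resLE V (f ⁻¹ᵁ V) le_rfl) hker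
  have he : e ≫ f.resLE V U hU = f.resLE V (f ⁻¹ᵁ V) le_rfl := IsClosedImmersion.lift_fac _ _ _
  have hover : (f ⁻¹ᵁ V).ι ≫ f = (e ≫ U.ι) ≫ f := by
    rw [Category.assoc, ← Scheme.Hom.resLE_comp_ι f hU, ← Category.assoc, he,
      Scheme.Hom.resLE_comp_ι]
  have hdom : IsDominant (X.homOfLE hU) := by
    constructor
    have hirr : IrreducibleSpace (f ⁻¹ᵁ V).toScheme := by
      have : IsIrreducible ((f ⁻¹ᵁ V : X.Opens) : Set X) :=
        ⟨⟨_, hξW⟩, (IrreducibleSpace.isIrreducible_univ X).2.open_subset (f ⁻¹ᵁ V).isOpen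
          (Set.subset_univ _)⟩
      exact isIrreducible_iff_irreducibleSpace.mp this
    have hopen : IsOpen (Set.range (X.homOfLE hU)) :=
      (X.homOfLE hU).isOpenEmbedding.isOpen_range
    obtain ⟨w, hw⟩ := exists_ι_eq U hξ
    exact hopen.dense ⟨_, ⟨w, rfl⟩⟩
  have hagree : X.homOfLE hU ≫ (f ⁻¹ᵁ V).ι = X.homOfLE hU ≫ (e ≫ U.ι) := by
    have h1 : X.homOfLE hU ≫ e = 𝟙 _ := by
      rw [← cancel_mono (f.resLE V U hU), Category.assoc, he, Scheme.Hom.map_resLE,
        Category.id_comp]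
    rw [← Category.assoc, h1, Scheme.homOfLE_ι, Category.id_comp]
  have heq : (f ⁻¹ᵁ V).ι = e ≫ U.ι :=
    ext_of_isDominant_of_isSeparated f hover (X.homOfLE hU) hagree
  intro x hx
  obtain ⟨w, rfl⟩ := exists_ι_eq (f ⁻¹ᵁ V) hx
  have h1 : (f ⁻¹ᵁ V).ι w = (e ≫ U.ι) w := by rw [← heq]
  rw [Scheme.Hom.comp_apply] at h1
  rw [h1]
  exact ι_mem U _

/-- Lemma B: a nonempty closed-immersion chart is the full preimage -/
theorem preimage_le_chart {X Y : Scheme.{u}} [IrreducibleSpace X]
    (f : X ⟶ Y) [IsSeparated f] (V : Y.Opens) (U : X.Opens) (hU : U ≤ f ⁻¹ᵁ V)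
    [IsClosedImmersion (f.resLE V U hU)] (hne : (U : Set X).Nonempty) : f ⁻¹ᵁ V ≤ U := by
  have hred := Groth.Agent.S4370.isReduced_nilradical_subscheme X
  have hsurj := Groth.Agent.S4370.surjective_nilradical_subschemeι X
  have hirr : IrreducibleSpace X.nilradical.subscheme := by
    let φ : X.nilradical.subscheme ≃ₜ X :=
      X.nilradical.subschemeι.isClosedEmbedding.isEmbedding.toHomeomorphOfSurjective
        X.nilradical.subschemeι.surjective
    exact φ.irreducibleSpace_iff.mpr inferInstance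
  have hU' : X.nilradical.subschemeι ⁻¹ᵁ U ≤ (X.nilradical.subschemeι ≫ f) ⁻¹ᵁ V := by
    intro x hx
    exact hU hx
  have hci : IsClosedImmersion ((X.nilradical.subschemeι ≫ f).resLE V
      (X.nilradical.subschemeι ⁻¹ᵁ U) hU') := by
    have h1 : (X.nilradical.subschemeι ≫ f).resLE V (X.nilradical.subschemeι ⁻¹ᵁ U) hU' =
        X.nilradical.subschemeι.resLE U (X.nilradical.subschemeι ⁻¹ᵁ U) le_rfl ≫
          f.resLE V U hU := (Scheme.Hom.resLE_comp_resLE _ _ _ _).symm
    rw [h1, Scheme.Hom.resLE_eq_morphismRestrict]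
    infer_instance
  have hne' : ((X.nilradical.subschemeι ⁻¹ᵁ U : X.nilradical.subscheme.Opens) :
      Set X.nilradical.subscheme).Nonempty := by
    obtain ⟨x, hx⟩ := hne
    obtain ⟨x', rfl⟩ := X.nilradical.subschemeι.surjective x
    exact ⟨x', hx⟩
  have key := preimage_le_chart_of_isReduced (X.nilradical.subschemeι ≫ f) V
    (X.nilradical.subschemeι ⁻¹ᵁ U) hU' hne'
  intro x hx
  obtain ⟨x', rfl⟩ := X.nilradical.subschemeι.surjective x
  exact key hx

/-- every point has an open neighbourhood of its image over which `f` is a closed immersion -/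
theorem exists_isClosedImmersion_morphismRestrict {X Y : Scheme.{u}} [IrreducibleSpace X]
    (f : X ⟶ Y) [IsSeparated f] (hf : SchLoc.IsLocalImmersion f) (x : X) :
    ∃ V : Y.Opens, f x ∈ V ∧ IsClosedImmersion (f ∣_ V) := by
  obtain ⟨U, V, h, hxU, hci⟩ := hf x
  have hle : f ⁻¹ᵁ V ≤ U := preimage_le_chart f V U h ⟨x, hxU⟩
  have heq : U = f ⁻¹ᵁ V := le_antisymm h hle
  refine ⟨V, h hxU, ?_⟩
  subst heq
  rw [← Scheme.Hom.resLE_eq_morphismRestrict]
  exact hci

theorem isImmersion_of_isLocalImmersion {X Y : Scheme.{u}} [IrreducibleSpace X]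
    (f : X ⟶ Y) [IsSeparated f] (hf : SchLoc.IsLocalImmersion f) : IsImmersion f := by
  choose V hV hci using exists_isClosedImmersion_morphismRestrict f hf
  have hR : MorphismProperty.RespectsRight (@IsImmersion) @IsOpenImmersion :=
    ⟨fun {X Y Z} i hi g hg => by
      have : IsOpenImmersion i := hi
      have : IsImmersion g := hg
      show IsImmersion (g ≫ i)
      infer_instance⟩
  apply IsZariskiLocalAtTarget.of_range_subset_iSup V
  · rintro _ ⟨x, rfl⟩
    simp only [TopologicalSpace.Opens.coe_iSup, Set.mem_iUnion, SetLike.mem_coe]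
    exact ⟨x, hV x⟩
  · intro x
    have := hci x
    infer_instance

end Groth.Agent.Lead.LocImm
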