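import Groth.Agent.Lead.CnMapA
import Groth.Agent.Lead.KoszulGeoC
import Groth.Agent.Lead.LocImm
import Groth.Agent.Lead.H1RegB
import Mathlib

set_option autoImplicit false
set_option backward.isDefEq.respectTransparency false
set_option backward.isDefEq.respectTransparency.types false
open CategoryTheory CategoryTheory.Limits AlgebraicGeometry Opposite TopologicalSpace
universe u

namespace Groth.Agent.Lead.CnMapB

open Scheme.Modules OmegaSh Groth.Agent.Helper4 Groth.Agent.Lead.BCMap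

section General
variable {Z X Z' X' : Scheme.{u}} (i : Z ⟶ X) (i' : Z' ⟶ X') [QuasiCompact i] [QuasiCompact i']
  (g : X ⟶ X') (gZ : Z ⟶ Z')
  (φ : (Scheme.Modules.pullback gZ).obj (Omega.conormal i') ⟶ Omega.conormal i)
  (hφ : IsConormalMap i i' g gZ φ)

include hφ in
omit [QuasiCompact i] [QuasiCompact i'] in
theorem le_pre' {U : X.Opens} {U' : X'.Opens} (e : U ≤ g ⁻¹ᵁ U') :
    i ⁻¹ᵁ U ≤ gZ ⁻¹ᵁ (i' ⁻¹ᵁ U') := by
  intro x hx
  have h : (gZ ≫ i') x = (i ≫ g) x := by rw [hφ.1]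
  have h' : i' (gZ x) = g (i x) := h
  change i' (gZ x) ∈ U'
  rw [h']
  exact e hx

include hφ in
/-- the value of a conormal map over a pair `U ≤ g⁻¹U'` -/
theorem cmap_affine {U : X.Opens} {U' : X'.Opens} (e : U ≤ g ⁻¹ᵁ U')
    (s' : Γ(ClSub.idealMod i'.ker, U')) :
    ∃ τ : Γ(ClSub.idealMod i.ker, U),
      idealSect i.ker U τ = g.appLE U' U e (idealSect i'.ker U' s') ∧
      φ.app (i ⁻¹ᵁ U) (pbSec gZ (Omega.conormal i') (i' ⁻¹ᵁ U') (i ⁻¹ᵁ U)
        (le_pre' i i' g gZ φ hφ e) (conormalSect i' U' s')) = conormalSect i U τ := by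
  have hsq := hφ.1
  have hφ' : φ = CnMapA.phi i i' g gZ hsq :=
    CnMapA.unique i i' g gZ hsq _ _ hφ (CnMapA.isConormalMap_phi i i' g gZ hsq)
  set s := CnMapA.lift i i' g gZ hsq U' s' with hs_def
  have hs : idealSect i.ker (g ⁻¹ᵁ U') s = g.app U' (idealSect i'.ker U' s') :=
    CnMapA.lift_spec i i' g gZ hsq U' s'
  refine ⟨(ClSub.idealMod i.ker).presheaf.map (homOfLE e).op s, ?_, ?_⟩
  · have h1 : idealSect i.ker U ((ClSub.idealMod i.ker).presheaf.map (homOfLE e).op s) =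
        X.presheaf.map (homOfLE e).op (idealSect i.ker (g ⁻¹ᵁ U') s) :=
      StalkExact.app_res (ClSub.idealModι i.ker) (homOfLE e) s
    rw [h1, hs]
    rfl
  · rw [pbSec_apply]
    have h2 := StalkExact.app_res φ (homOfLE (le_pre' i i' g gZ φ hφ e))
      (pullSect gZ (Omega.conormal i') (i' ⁻¹ᵁ U') (conormalSect i' U' s'))
    refine h2.trans ?_
    have h3 : φ.app (gZ ⁻¹ᵁ (i' ⁻¹ᵁ U'))
        (pullSect gZ (Omega.conormal i') (i' ⁻¹ᵁ U') (conormalSect i' U' s')) =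
        CnMapA.kfun i i' g gZ hsq U' s' := by
      rw [hφ']
      exact CnMapA.phi_app i i' g gZ hsq U' s'
    rw [h3, CnMapA.conormalSect_res i e]
    unfold CnMapA.kfun
    rw [QcohGlue.map_map_thin (Omega.conormal i) _ _ (homOfLE (i.preimage_mono e)).op]

end General


/-- an immersion restricts to a closed immersion over opens inside its coborder range -/
theorem isClosedImmersion_restrict_of_le_coborderRange {X Y : Scheme.{u}} (j : X ⟶ Y)
    [IsImmersion j] (U : Y.Opens) (hU : U ≤ j.coborderRange) : IsClosedImmersion (j ∣_ U) := by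
  have key : ∀ j' : X ⟶ Y, j' = j → IsClosedImmersion (j' ∣_ U) → IsClosedImmersion (j ∣_ U) := by
    rintro _ rfl h
    exact h
  apply key _ j.liftCoborder_ι
  rw [morphismRestrict_comp]
  haveI : IsIso (j.coborderRange.ι ∣_ U) := by
    rw [isIso_iff_isOpenImmersion_and_surjective]
    refine ⟨inferInstance, ⟨?_⟩⟩
    intro u
    have hu : (U.ι u) ∈ Set.range j.coborderRange.ι := by
      rw [Scheme.Opens.range_ι]
      exact hU (LocImm.ι_mem U u)
    obtain ⟨c, hc⟩ := hu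
    have hc' : c ∈ j.coborderRange.ι ⁻¹ᵁ U := by
      change j.coborderRange.ι c ∈ U
      rw [hc]
      exact LocImm.ι_mem U u
    obtain ⟨c', hc''⟩ := LocImm.exists_ι_eq _ hc'
    refine ⟨c', ?_⟩
    apply U.ι.isOpenEmbedding.injective
    rw [← Scheme.Hom.comp_apply, morphismRestrict_ι, Scheme.Hom.comp_apply, hc'', hc]
  infer_instance


section Cartesian
variable {Z X Z' X' : Scheme.{u}} (i : Z ⟶ X) (i' : Z' ⟶ X') (g : X ⟶ X') (gZ : Z ⟶ Z')
  (hsq : IsPullback i gZ g i')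

include hsq in
/-- the ideal of the base change of an immersion over any affine pair -/
theorem ker_baseChange {U' : X'.Opens} (hU' : IsAffineOpen U') [IsClosedImmersion (i' ∣_ U')]
    {U : X.Opens} (hU : IsAffineOpen U) (e : U ≤ g ⁻¹ᵁ U') :
    IsClosedImmersion (i ∣_ U) ∧
      RingHom.ker (i.app U).hom =
        Ideal.map (g.appLE U' U e).hom (RingHom.ker (i'.app U').hom) := by
  have hsq' : IsPullback gZ i i' g := hsq.flip
  obtain ⟨hUX, hsurj⟩ := H1RegB.affine_of_restrict_closed i' hU'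
  have hle : i ⁻¹ᵁ U ≤ gZ ⁻¹ᵁ (i' ⁻¹ᵁ U') := by
    have h1 : i ⁻¹ᵁ U ≤ i ⁻¹ᵁ (g ⁻¹ᵁ U') := i.preimage_mono e
    have h2 : i ⁻¹ᵁ (g ⁻¹ᵁ U') = gZ ⁻¹ᵁ (i' ⁻¹ᵁ U') := by
      rw [← Scheme.Hom.comp_preimage, ← Scheme.Hom.comp_preimage, hsq.w]
    exact h1.trans_eq h2
  have hUY : i ⁻¹ᵁ U = gZ ⁻¹ᵁ (i' ⁻¹ᵁ U') ⊓ i ⁻¹ᵁ U :=
    le_antisymm (le_inf hle le_rfl) inf_le_right
  have hpb := Scheme.Hom.isPullback_resLE hsq' e (le_refl (i' ⁻¹ᵁ U')) hUY
  have hcl : IsClosedImmersion (i ∣_ U) := by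
    have h1 : IsClosedImmersion (i'.resLE U' (i' ⁻¹ᵁ U') le_rfl) := by
      rw [Scheme.Hom.resLE_eq_morphismRestrict]
      infer_instance
    have h2 := MorphismProperty.of_isPullback (P := @IsClosedImmersion) hpb h1
    rwa [Scheme.Hom.resLE_eq_morphismRestrict] at h2
  refine ⟨hcl, ?_⟩
  have hpo := (isIso_pushoutSection_iff hsq' e (le_refl (i' ⁻¹ᵁ U')) hUY).mp
    (isIso_pushoutSection_of_isAffineOpen hsq' e (le_refl (i' ⁻¹ᵁ U')) hUY hU' hU hUX)
  have h3 := KoszulGeoC.ker_of_isPushout _ _ _ _ hpo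
    (by rw [Scheme.Hom.appLE_eq_app]; exact hsurj)
  rw [Scheme.Hom.appLE_eq_app, Scheme.Hom.appLE_eq_app] at h3
  exact h3

end Cartesian

end Groth.Agent.Lead.CnMapB
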