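import Groth.Agent.Lead.CnMapB
import Mathlib

set_option autoImplicit false
set_option backward.isDefEq.respectTransparency false
set_option backward.isDefEq.respectTransparency.types false
open CategoryTheory CategoryTheory.Limits AlgebraicGeometry Opposite TopologicalSpace
universe u

namespace Groth.Agent.Lead.CnMapC

open Scheme.Modules OmegaSh Groth.Agent.Helper4 Groth.Agent.Lead.BCMap

variable {Z X Z' X' : Scheme.{u}} (i : Z ⟶ X) (i' : Z' ⟶ X') [IsImmersion i] [IsImmersion i']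
  [QuasiCompact i] [QuasiCompact i'] (g : X ⟶ X') (gZ : Z ⟶ Z') (hsq : IsPullback i gZ g i')
  (φ : (Scheme.Modules.pullback gZ).obj (Omega.conormal i') ⟶ Omega.conormal i)
  (hφ : IsConormalMap i i' g gZ φ)

include hsq in
omit [QuasiCompact i] [QuasiCompact i'] in
theorem exists_chart (z : Z) (T : Z.Opens) (hz : z ∈ T) :
    ∃ (U' : X'.Opens) (U : X.Opens) (e : U ≤ g ⁻¹ᵁ U'), IsAffineOpen U' ∧ IsAffineOpen U ∧
      IsClosedImmersion (i' ∣_ U') ∧ IsClosedImmersion (i ∣_ U) ∧ z ∈ i ⁻¹ᵁ U ∧ i ⁻¹ᵁ U ≤ T ∧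
      RingHom.ker (i.app U).hom =
        Ideal.map (g.appLE U' U e).hom (RingHom.ker (i'.app U').hom) := by
  have hpt : g (i z) = i' (gZ z) := by
    have := congrArg (fun f => f z) hsq.w
    exact this
  have h1 : g (i z) ∈ i'.coborderRange := by
    rw [hpt]
    exact subset_coborder ⟨gZ z, rfl⟩
  obtain ⟨_, ⟨U', hU' : IsAffineOpen U', rfl⟩, hzU', hU'c⟩ :=
    X'.isBasis_affineOpens.exists_subset_of_mem_open h1 i'.coborderRange.isOpen
  obtain ⟨G, hG, hGG⟩ := i.isEmbedding.isInducing.isOpen_iff.mp T.2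
  have h2 : i z ∈ ((g ⁻¹ᵁ U' ⊓ ⟨G, hG⟩ : X.Opens) : Set X) := by
    refine ⟨hzU', ?_⟩
    have : z ∈ i ⁻¹' G := by rw [hGG]; exact hz
    exact this
  obtain ⟨_, ⟨U, hU : IsAffineOpen U, rfl⟩, hzU, hUsub⟩ :=
    X.isBasis_affineOpens.exists_subset_of_mem_open h2 (g ⁻¹ᵁ U' ⊓ ⟨G, hG⟩).isOpen
  have e : U ≤ g ⁻¹ᵁ U' := fun x hx => (hUsub hx).1
  haveI hcl' : IsClosedImmersion (i' ∣_ U') :=
    CnMapB.isClosedImmersion_restrict_of_le_coborderRange i' U' hU'c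
  obtain ⟨hcl, hker⟩ := CnMapB.ker_baseChange i i' g gZ hsq hU' hU e
  refine ⟨U', U, e, hU', hU, hcl', hcl, hzU, ?_, hker⟩
  intro y hy
  have : y ∈ i ⁻¹' G := (hUsub hy).2
  rw [hGG] at this
  exact this

include hsq hφ in
theorem epi : Epi φ := by
  apply Groth.Agent.Lead.LocalLift.epi_of_local_lift
  intro T t z hz
  obtain ⟨U', U, e, hU', hU, hcl', hcl, hzU, hUT, hker⟩ := exists_chart i i' g gZ hsq z T hz
  obtain ⟨hV, hsurj⟩ := H1RegB.affine_of_restrict_closed i hU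
  refine ⟨i ⁻¹ᵁ U, hUT, hzU, ?_⟩
  obtain ⟨σ, hσ⟩ := OmegaCnH.exists_conormalSect i hU hV hsurj
    ((Omega.conormal i).presheaf.map (homOfLE hUT).op t)
  have key : ∀ x ∈ Ideal.map (g.appLE U' U e).hom (RingHom.ker (i'.app U').hom),
      ∃ (τ : Γ(ClSub.idealMod i.ker, U))
        (s : Γ((Scheme.Modules.pullback gZ).obj (Omega.conormal i'), i ⁻¹ᵁ U)),
        idealSect i.ker U τ = x ∧ φ.app (i ⁻¹ᵁ U) s = conormalSect i U τ := by
    intro x hx
    induction hx using Submodule.span_induction with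
    | mem x hx =>
      obtain ⟨b, hb, rfl⟩ := hx
      obtain ⟨s', hs'⟩ := OmegaCnB.exists_idealSect i' hU' b hb
      obtain ⟨τ, hτ, h⟩ := CnMapB.cmap_affine i i' g gZ φ hφ e s'
      exact ⟨τ, _, by rw [hτ, hs'], h⟩
    | zero => exact ⟨0, 0, map_zero _, by rw [map_zero, map_zero]⟩
    | add x y _ _ hx hy =>
      obtain ⟨τ₁, s₁, h₁, h₁'⟩ := hx
      obtain ⟨τ₂, s₂, h₂, h₂'⟩ := hy
      exact ⟨τ₁ + τ₂, s₁ + s₂, by rw [map_add, h₁, h₂], by rw [map_add, map_add, h₁', h₂']⟩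
    | smul a x _ hx =>
      obtain ⟨τ, s, h, h'⟩ := hx
      refine ⟨a • τ, i.appLE U (i ⁻¹ᵁ U) le_rfl a • s, ?_, ?_⟩
      · rw [OmegaCnC.idealSect_smul, h]
        rfl
      · rw [Scheme.Modules.Hom.app_smul, h', OmegaCnG.conormalSect_smul]
  have hmem : idealSect i.ker U σ ∈
      Ideal.map (g.appLE U' U e).hom (RingHom.ker (i'.app U').hom) := by
    rw [← hker]
    exact OmegaCnB.app_idealSect i hU σ
  obtain ⟨τ, s, hτ, hs⟩ := key _ hmem
  have hτσ : τ = σ := OmegaCnC.idealSect_injective i U hτ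
  exact ⟨s, by rw [hs, hτσ, hσ]⟩

end Groth.Agent.Lead.CnMapC
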