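import Mathlib

set_option autoImplicit false
open TensorProduct
universe u

namespace Groth.Agent.Lead.CnMapD

/-- a linear map between two base changes of the same module which is compatible with the
structure maps is bijective -/
theorem bijective_of_isBaseChange {A' A B : Type u} [CommRing A'] [CommRing A] [CommRing B]
    [Algebra A' A] [Algebra A B] [Algebra A' B] [IsScalarTower A' A B]
    {M' M P N : Type u} [AddCommGroup M'] [Module A' M'] [AddCommGroup M] [Module A M]
    [Module A' M] [IsScalarTower A' A M]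
    [AddCommGroup P] [Module B P] [Module A' P] [IsScalarTower A' B P]
    [AddCommGroup N] [Module B N] [Module A N] [IsScalarTower A B N] [Module A' N]
    [IsScalarTower A' B N] [IsScalarTower A' A N]
    (lam : M' →ₗ[A'] M) (hlam : IsBaseChange A lam)
    (ksrc : M' →ₗ[A'] P) (hsrc : IsBaseChange B ksrc)
    (ktgt : M →ₗ[A] N) (htgt : IsBaseChange B ktgt)
    (Φ : P →ₗ[B] N) (hΦ : ∀ m', Φ (ksrc m') = ktgt (lam m')) : Function.Bijective Φ := by
  have h2 : IsBaseChange B ((ktgt.restrictScalars A') ∘ₗ lam) := IsBaseChange.comp hlam htgt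
  have h3 : Φ = (hsrc.equiv.symm.trans h2.equiv).toLinearMap := by
    apply hsrc.algHom_ext
    intro x
    rw [hΦ]
    change _ = h2.equiv (hsrc.equiv.symm (ksrc x))
    rw [hsrc.equiv_symm_apply, h2.equiv_tmul, one_smul]
    rfl
  rw [h3]
  exact (hsrc.equiv.symm.trans h2.equiv).bijective

/-- for a flat algebra, the extension of an ideal is its base change -/
theorem isBaseChange_of_flat {A' A : Type u} [CommRing A'] [CommRing A] [Algebra A' A]
    [Module.Flat A' A] (I' : Ideal A')
    {M' M : Type u} [AddCommGroup M'] [Module A' M'] [AddCommGroup M] [Module A M]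
    [Module A' M] [IsScalarTower A' A M]
    (ι' : M' →ₗ[A'] A') (hι' : Function.Injective ι') (hr' : ∀ x ∈ I', ∃ m', ι' m' = x)
    (ι : M →ₗ[A] A) (hι : Function.Injective ι)
    (hr : ∀ m, ι m ∈ Ideal.map (algebraMap A' A) I')
    (lam : M' →ₗ[A'] M) (hlam : ∀ m', ι (lam m') = algebraMap A' A (ι' m')) :
    IsBaseChange A lam := by
  let L : A ⊗[A'] M' →ₗ[A] M := LinearMap.liftBaseChange A lam
  have hL : ∀ (a : A) (m' : M'), L (a ⊗ₜ m') = a • lam m' := fun a m' =>
    LinearMap.liftBaseChange_tmul A lam a m'
  have hinj : Function.Injective L := by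
    have h1 : Function.Injective (LinearMap.lTensor A ι') :=
      Module.Flat.lTensor_preserves_injective_linearMap ι' hι'
    have h2 : ∀ x : A ⊗[A'] M', ι (L x) =
        (TensorProduct.rid A' A) (LinearMap.lTensor A ι' x) := by
      intro x
      induction x using TensorProduct.induction_on with
      | zero => simp
      | tmul a m' =>
        rw [hL, map_smul, hlam, LinearMap.lTensor_tmul, TensorProduct.rid_tmul, smul_eq_mul,
          Algebra.smul_def, mul_comm]
      | add x y hx hy => rw [map_add, map_add, hx, hy, map_add, map_add]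
    intro x y hxy
    apply h1
    apply (TensorProduct.rid A' A).injective
    rw [← h2, ← h2, hxy]
  have hsurj : Function.Surjective L := by
    have key : ∀ x ∈ Ideal.map (algebraMap A' A) I', ∃ t : A ⊗[A'] M', ι (L t) = x := by
      intro x hx
      induction hx using Submodule.span_induction with
      | mem x hx =>
        obtain ⟨b, hb, rfl⟩ := hx
        obtain ⟨m', hm'⟩ := hr' b hb
        exact ⟨1 ⊗ₜ m', by rw [hL, one_smul, hlam, hm']⟩
      | zero => exact ⟨0, by rw [map_zero, map_zero]⟩
      | add x y _ _ hx hy =>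
        obtain ⟨t₁, h₁⟩ := hx
        obtain ⟨t₂, h₂⟩ := hy
        exact ⟨t₁ + t₂, by rw [map_add, map_add, h₁, h₂]⟩
      | smul a x _ hx =>
        obtain ⟨t, h⟩ := hx
        exact ⟨a • t, by rw [map_smul, map_smul, h]⟩
    intro m
    obtain ⟨t, ht⟩ := key _ (hr m)
    exact ⟨t, hι ht⟩
  refine IsBaseChange.of_equiv (LinearEquiv.ofBijective L ⟨hinj, hsurj⟩) ?_
  intro x
  change L (1 ⊗ₜ x) = lam x
  rw [hL, one_smul]

end Groth.Agent.Lead.CnMapD
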