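import Groth.Agent.Lead.CnMapC
import Groth.Agent.Lead.CnMapD
import Mathlib

set_option autoImplicit false
set_option backward.isDefEq.respectTransparency false
set_option backward.isDefEq.respectTransparency.types false
open CategoryTheory CategoryTheory.Limits AlgebraicGeometry Opposite TopologicalSpace
universe u

namespace Groth.Agent.Lead.CnMapE

open Scheme.Modules OmegaSh Groth.Agent.Helper4 Groth.Agent.Lead.BCMap

variable {Z X Z' X' : Scheme.{u}} (i : Z ⟶ X) (i' : Z' ⟶ X') [IsImmersion i] [IsImmersion i']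
  [QuasiCompact i] [QuasiCompact i'] (g : X ⟶ X') (gZ : Z ⟶ Z')
  (φ : (Scheme.Modules.pullback gZ).obj (Omega.conormal i') ⟶ Omega.conormal i)
  (hφ : IsConormalMap i i' g gZ φ)

include hφ in
theorem app_bijective_of_flat {U' : X'.Opens} {U : X.Opens} (e : U ≤ g ⁻¹ᵁ U')
    (hU' : IsAffineOpen U') (hU : IsAffineOpen U)
    [IsClosedImmersion (i' ∣_ U')] [IsClosedImmersion (i ∣_ U)]
    (hflat : (g.appLE U' U e).hom.Flat)
    (hker : RingHom.ker (i.app U).hom =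
      Ideal.map (g.appLE U' U e).hom (RingHom.ker (i'.app U').hom)) :
    Function.Bijective (φ.app (i ⁻¹ᵁ U)) := by
  obtain ⟨hV', hsurj'⟩ := H1RegB.affine_of_restrict_closed i' hU'
  obtain ⟨hV, hsurj⟩ := H1RegB.affine_of_restrict_closed i hU
  have e1 : i' ⁻¹ᵁ U' ≤ i' ⁻¹ᵁ U' := le_rfl
  have e2 : i ⁻¹ᵁ U ≤ gZ ⁻¹ᵁ (i' ⁻¹ᵁ U') := CnMapB.le_pre' i i' g gZ φ hφ e
  have e3 : i ⁻¹ᵁ U ≤ i ⁻¹ᵁ U := le_rfl
  -- algebras
  letI algA'A : Algebra Γ(X', U') Γ(X, U) := (g.appLE U' U e).hom.toAlgebra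
  letI algAB : Algebra Γ(X, U) Γ(Z, i ⁻¹ᵁ U) := (i.appLE U (i ⁻¹ᵁ U) e3).hom.toAlgebra
  letI algA'B' : Algebra Γ(X', U') Γ(Z', i' ⁻¹ᵁ U') := (i'.appLE U' (i' ⁻¹ᵁ U') e1).hom.toAlgebra
  letI algB'B : Algebra Γ(Z', i' ⁻¹ᵁ U') Γ(Z, i ⁻¹ᵁ U) :=
    (gZ.appLE (i' ⁻¹ᵁ U') (i ⁻¹ᵁ U) e2).hom.toAlgebra
  letI algA'B : Algebra Γ(X', U') Γ(Z, i ⁻¹ᵁ U) :=
    ((gZ.appLE (i' ⁻¹ᵁ U') (i ⁻¹ᵁ U) e2).hom.comp (i'.appLE U' (i' ⁻¹ᵁ U') e1).hom).toAlgebra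
  haveI : IsScalarTower Γ(X', U') Γ(Z', i' ⁻¹ᵁ U') Γ(Z, i ⁻¹ᵁ U) :=
    IsScalarTower.of_algebraMap_eq' rfl
  have hcomm : ∀ r : Γ(X', U'), i.appLE U (i ⁻¹ᵁ U) e3 (g.appLE U' U e r) =
      gZ.appLE (i' ⁻¹ᵁ U') (i ⁻¹ᵁ U) e2 (i'.appLE U' (i' ⁻¹ᵁ U') e1 r) := by
    intro r
    have key : ∀ (f f' : Z ⟶ X') (_ : f = f') (h1 : i ⁻¹ᵁ U ≤ f ⁻¹ᵁ U')
        (h2 : i ⁻¹ᵁ U ≤ f' ⁻¹ᵁ U'), f.appLE U' (i ⁻¹ᵁ U) h1 = f'.appLE U' (i ⁻¹ᵁ U) h2 := by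
      rintro _ _ rfl _ _
      rfl
    have h1 := Scheme.Hom.appLE_comp_appLE i g U' U (i ⁻¹ᵁ U) e e3
    have h2 := Scheme.Hom.appLE_comp_appLE gZ i' U' (i' ⁻¹ᵁ U') (i ⁻¹ᵁ U) e1 e2
    have h3 := key _ _ hφ.1 (by rw [Scheme.Hom.comp_preimage]; exact e2)
      (by rw [Scheme.Hom.comp_preimage]; exact i.preimage_mono e)
    have h4 := congr($h1 r)
    have h5 := congr($h2 r)
    exact h4.trans ((congr($h3 r)).symm.trans h5.symm)
  haveI : IsScalarTower Γ(X', U') Γ(X, U) Γ(Z, i ⁻¹ᵁ U) :=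
    IsScalarTower.of_algebraMap_eq (fun r => (hcomm r).symm)
  haveI : (Omega.conormal i').IsQuasicoherent :=
    StalkPull.isQuasicoherent_pullbackObj i' (ClSub.idealMod i'.ker)
  -- modules, source side
  letI modA'N' : Module Γ(X', U') Γ(Omega.conormal i', i' ⁻¹ᵁ U') :=
    Module.compHom _ (i'.appLE U' (i' ⁻¹ᵁ U') e1).hom
  haveI : IsScalarTower Γ(X', U') Γ(Z', i' ⁻¹ᵁ U') Γ(Omega.conormal i', i' ⁻¹ᵁ U') :=
    IsScalarTower.of_compHom _ _ _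
  obtain ⟨ρ₁, hρ₁, hb₁⟩ : ∃ ρ : Γ(ClSub.idealMod i'.ker, U') →ₗ[Γ(X', U')]
      Γ(Omega.conormal i', i' ⁻¹ᵁ U'),
      (∀ m, ρ m = pbSec i' (ClSub.idealMod i'.ker) U' (i' ⁻¹ᵁ U') e1 m) ∧
        IsBaseChange Γ(Z', i' ⁻¹ᵁ U') ρ :=
    exists_isBaseChange_pbSec i' (ClSub.idealMod i'.ker) hU' hV' e1
  letI modB'P : Module Γ(Z', i' ⁻¹ᵁ U')
      Γ((Scheme.Modules.pullback gZ).obj (Omega.conormal i'), i ⁻¹ᵁ U) :=
    Module.compHom _ (gZ.appLE (i' ⁻¹ᵁ U') (i ⁻¹ᵁ U) e2).hom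
  haveI : IsScalarTower Γ(Z', i' ⁻¹ᵁ U') Γ(Z, i ⁻¹ᵁ U)
      Γ((Scheme.Modules.pullback gZ).obj (Omega.conormal i'), i ⁻¹ᵁ U) :=
    IsScalarTower.of_compHom _ _ _
  obtain ⟨ρ₂, hρ₂, hb₂⟩ := exists_isBaseChange_pbSec gZ (Omega.conormal i') hV' hV e2
  letI modA'P : Module Γ(X', U')
      Γ((Scheme.Modules.pullback gZ).obj (Omega.conormal i'), i ⁻¹ᵁ U) :=
    Module.compHom _ (algebraMap Γ(X', U') Γ(Z, i ⁻¹ᵁ U))
  haveI : IsScalarTower Γ(X', U') Γ(Z, i ⁻¹ᵁ U)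
      Γ((Scheme.Modules.pullback gZ).obj (Omega.conormal i'), i ⁻¹ᵁ U) :=
    IsScalarTower.of_compHom _ _ _
  haveI : IsScalarTower Γ(X', U') Γ(Z', i' ⁻¹ᵁ U')
      Γ((Scheme.Modules.pullback gZ).obj (Omega.conormal i'), i ⁻¹ᵁ U) :=
    IsScalarTower.of_algebraMap_smul (fun r m => rfl)
  have hsrc : IsBaseChange Γ(Z, i ⁻¹ᵁ U) ((ρ₂.restrictScalars Γ(X', U')) ∘ₗ ρ₁) :=
    IsBaseChange.comp hb₁ hb₂
  -- target side
  letI modAN : Module Γ(X, U) Γ(Omega.conormal i, i ⁻¹ᵁ U) :=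
    Module.compHom _ (i.appLE U (i ⁻¹ᵁ U) e3).hom
  haveI : IsScalarTower Γ(X, U) Γ(Z, i ⁻¹ᵁ U) Γ(Omega.conormal i, i ⁻¹ᵁ U) :=
    IsScalarTower.of_compHom _ _ _
  obtain ⟨ρ₃, hρ₃, hb₃⟩ : ∃ ρ : Γ(ClSub.idealMod i.ker, U) →ₗ[Γ(X, U)]
      Γ(Omega.conormal i, i ⁻¹ᵁ U),
      (∀ m, ρ m = pbSec i (ClSub.idealMod i.ker) U (i ⁻¹ᵁ U) e3 m) ∧
        IsBaseChange Γ(Z, i ⁻¹ᵁ U) ρ :=
    exists_isBaseChange_pbSec i (ClSub.idealMod i.ker) hU hV e3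
  letI modA'N : Module Γ(X', U') Γ(Omega.conormal i, i ⁻¹ᵁ U) :=
    Module.compHom _ (algebraMap Γ(X', U') Γ(Z, i ⁻¹ᵁ U))
  haveI : IsScalarTower Γ(X', U') Γ(Z, i ⁻¹ᵁ U) Γ(Omega.conormal i, i ⁻¹ᵁ U) :=
    IsScalarTower.of_compHom _ _ _
  haveI : IsScalarTower Γ(X', U') Γ(X, U) Γ(Omega.conormal i, i ⁻¹ᵁ U) :=
    IsScalarTower.of_algebraMap_smul (fun r m => congrArg (· • m) (hcomm r))
  letI modA'M : Module Γ(X', U') Γ(ClSub.idealMod i.ker, U) :=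
    Module.compHom _ (g.appLE U' U e).hom
  haveI : IsScalarTower Γ(X', U') Γ(X, U) Γ(ClSub.idealMod i.ker, U) :=
    IsScalarTower.of_compHom _ _ _
  haveI : Module.Flat Γ(X', U') Γ(X, U) := hflat
  have hsq := hφ.1
  let ι' : Γ(ClSub.idealMod i'.ker, U') →ₗ[Γ(X', U')] Γ(X', U') :=
    { toFun := idealSect i'.ker U'
      map_add' := map_add _
      map_smul' := fun a σ => by
        rw [OmegaCnC.idealSect_smul]
        rfl }
  let ι : Γ(ClSub.idealMod i.ker, U) →ₗ[Γ(X, U)] Γ(X, U) :=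
    { toFun := idealSect i.ker U
      map_add' := map_add _
      map_smul' := fun a σ => by
        rw [OmegaCnC.idealSect_smul]
        rfl }
  let lam : Γ(ClSub.idealMod i'.ker, U') →ₗ[Γ(X', U')] Γ(ClSub.idealMod i.ker, U) :=
    { toFun := fun m' => (ClSub.idealMod i.ker).presheaf.map (homOfLE e).op
        (CnMapA.lift i i' g gZ hsq U' m')
      map_add' := fun a b => by rw [CnMapA.lift_add, map_add]
      map_smul' := fun r m' => by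
        rw [CnMapA.lift_smul, Scheme.Modules.map_smul]
        rfl }
  have hlam : ∀ m', ι (lam m') = algebraMap Γ(X', U') Γ(X, U) (ι' m') := by
    intro m'
    have h1 : idealSect i.ker U ((ClSub.idealMod i.ker).presheaf.map (homOfLE e).op
        (CnMapA.lift i i' g gZ hsq U' m')) =
        X.presheaf.map (homOfLE e).op (idealSect i.ker (g ⁻¹ᵁ U')
          (CnMapA.lift i i' g gZ hsq U' m')) :=
      StalkExact.app_res (ClSub.idealModι i.ker) (homOfLE e) _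
    change idealSect i.ker U ((ClSub.idealMod i.ker).presheaf.map (homOfLE e).op
        (CnMapA.lift i i' g gZ hsq U' m')) = g.appLE U' U e (idealSect i'.ker U' m')
    rw [h1, CnMapA.lift_spec]
    rfl
  have hlamBC : IsBaseChange Γ(X, U) lam := by
    refine CnMapD.isBaseChange_of_flat (RingHom.ker (i'.app U').hom) ι'
      (OmegaCnC.idealSect_injective i' U') ?_ ι (OmegaCnC.idealSect_injective i U) ?_ lam hlam
    · intro x hx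
      exact OmegaCnB.exists_idealSect i' hU' x hx
    · intro m
      change idealSect i.ker U m ∈ Ideal.map (g.appLE U' U e).hom (RingHom.ker (i'.app U').hom)
      rw [← hker]
      exact OmegaCnB.app_idealSect i hU m
  let Φ : Γ((Scheme.Modules.pullback gZ).obj (Omega.conormal i'), i ⁻¹ᵁ U) →ₗ[Γ(Z, i ⁻¹ᵁ U)]
      Γ(Omega.conormal i, i ⁻¹ᵁ U) :=
    { toFun := φ.app (i ⁻¹ᵁ U)
      map_add' := map_add _
      map_smul' := fun b p => Scheme.Modules.Hom.app_smul φ b p }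
  have hΦ : ∀ m', Φ (((ρ₂.restrictScalars Γ(X', U')) ∘ₗ ρ₁) m') = ρ₃ (lam m') := by
    intro m'
    change φ.app (i ⁻¹ᵁ U) (ρ₂ (ρ₁ m')) = ρ₃ (lam m')
    rw [hρ₁, hρ₂, hρ₃, OmegaCnB.pbSec_self, OmegaCnB.pbSec_self]
    obtain ⟨τ, hτ, h⟩ := CnMapB.cmap_affine i i' g gZ φ hφ e m'
    have hτ' : τ = lam m' := by
      apply OmegaCnC.idealSect_injective i U
      rw [hτ]
      exact (hlam m').symm
    rw [← hτ']
    exact h
  exact CnMapD.bijective_of_isBaseChange lam hlamBC _ hsrc ρ₃ hb₃ Φ hΦ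

include hφ in
theorem main (hsq : IsPullback i gZ g i') : Epi φ ∧ (Flat g → IsIso φ) := by
  have hepi : Epi φ := CnMapC.epi i i' g gZ hsq φ hφ
  refine ⟨hepi, fun hflat => ?_⟩
  haveI : (Omega.conormal i).IsQuasicoherent :=
    StalkPull.isQuasicoherent_pullbackObj i (ClSub.idealMod i.ker)
  haveI : (Omega.conormal i').IsQuasicoherent :=
    StalkPull.isQuasicoherent_pullbackObj i' (ClSub.idealMod i'.ker)
  haveI : ((Scheme.Modules.pullback gZ).obj (Omega.conormal i')).IsQuasicoherent :=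
    StalkPull.isQuasicoherent_pullbackObj gZ _
  haveI : Mono φ := by
    apply QcohLocal.mono_of_app_injective_of_affine_cover
    intro z
    obtain ⟨U', U, e, hU', hU, hcl', hcl, hzU, -, hker⟩ :=
      CnMapC.exists_chart i i' g gZ hsq z ⊤ trivial
    obtain ⟨hV, -⟩ := H1RegB.affine_of_restrict_closed i hU
    have hfl : (g.appLE U' U e).hom.Flat :=
      HasRingHomProperty.appLE (P := @Flat) g hflat ⟨U', hU'⟩ ⟨U, hU⟩ e
    exact ⟨i ⁻¹ᵁ U, hV, hzU, (app_bijective_of_flat i i' g gZ φ hφ e hU' hU hfl hker).1⟩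
  exact isIso_of_mono_of_epi φ

end Groth.Agent.Lead.CnMapE
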