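import Groth.Agent.Lead.UTGlueC
import Groth.Agent.Lead.H1RegA
import Groth.Agent.Helper4.FinLocFree4
import Mathlib

/-!
# Lead: ring-level retraction data for the universal thickening of a quotient of a formally smooth
algebra, and projectivity of the conormal module (towards S9772)
-/

set_option autoImplicit false
set_option linter.style.haveILetI false
open CategoryTheory AlgebraicGeometry
universe u

namespace Groth.Agent.Lead.CnProjA

open OmegaSh

/-- `σ : C' → PB/K²` and `τ : PB → C'` with `τ̄ ∘ σ = id` -/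
theorem exists_sigma_tau {B PB C C' : Type u} [CommRing B] [CommRing PB] [CommRing C]
    [CommRing C'] [Algebra B PB] [Algebra B C] [Algebra B C'] [Algebra.FormallySmooth B PB]
    (κ : PB →ₐ[B] C) (hκ : Function.Surjective κ)
    (πC : C' →ₐ[B] C) (hπ : OmegaSh.IsUnivThickeningRing B C C' πC) :
    ∃ (τ : PB →+* C') (σ : C' →+* PB ⧸ (RingHom.ker κ.toRingHom) ^ 2),
      (∀ p, πC (τ p) = κ p) ∧
      (∀ y p, σ y = Ideal.Quotient.mk _ p → κ p = πC y) ∧
      (∀ y p, σ y = Ideal.Quotient.mk _ p → τ p = y) := by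
  set K := RingHom.ker κ.toRingHom with hK
  have hπs : Function.Surjective πC := hπ.1
  have hπk : RingHom.ker πC.toRingHom ^ 2 = ⊥ := hπ.2.1
  have hnil : IsNilpotent (RingHom.ker (πC : C' →+* C)) := ⟨2, hπk⟩
  let τ' : PB →ₐ[B] C' := Algebra.FormallySmooth.liftOfSurjective κ πC hπs hnil
  have hτ' : πC.comp τ' = κ := Algebra.FormallySmooth.comp_liftOfSurjective κ πC hπs hnil
  have hτ : ∀ p, πC (τ' p) = κ p := fun p => congrArg (fun f => f p) hτ'
  have hKmem : ∀ a, a ∈ K ↔ κ a = 0 := fun a => Iff.rfl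
  let qT : PB ⧸ K ^ 2 →+* C := Ideal.Quotient.lift (K ^ 2) κ.toRingHom (fun a ha =>
    (hKmem a).mp (Ideal.pow_le_self two_ne_zero ha))
  have hqT : ∀ p, qT (Ideal.Quotient.mk _ p) = κ p := fun p => rfl
  have hqTs : Function.Surjective qT := fun c => by
    obtain ⟨p, rfl⟩ := hκ c
    exact ⟨Ideal.Quotient.mk _ p, hqT p⟩
  have hqTk : RingHom.ker qT ^ 2 = ⊥ := by
    have h1 : RingHom.ker qT = Ideal.map (Ideal.Quotient.mk (K ^ 2)) K := by
      ext t
      obtain ⟨p, rfl⟩ := Ideal.Quotient.mk_surjective t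
      rw [RingHom.mem_ker, hqT]
      constructor
      · intro h
        exact Ideal.mem_map_of_mem _ ((hKmem p).mpr h)
      · intro h
        rw [Ideal.mem_map_iff_of_surjective _ Ideal.Quotient.mk_surjective] at h
        obtain ⟨p', hp', hpp'⟩ := h
        have h2 : p' - p ∈ K ^ 2 := (Ideal.Quotient.eq).mp hpp'
        have h3 : p' - p ∈ K := Ideal.pow_le_self two_ne_zero h2
        have h4 : p ∈ K := by
          have := K.sub_mem hp' h3
          simpa using this
        exact (hKmem p).mp h4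
    rw [h1, ← Ideal.map_pow, Ideal.map_quotient_self]
  obtain ⟨σ, ⟨hσ1, hσ2⟩, -⟩ := UTGlueC.lift_of_univ πC hπ (PB ⧸ K ^ 2) C
    (algebraMap B (PB ⧸ K ^ 2)) qT hqTs hqTk (RingHom.id C) (by
      ext b
      change algebraMap B C b = qT (algebraMap B (PB ⧸ K ^ 2) b)
      have : algebraMap B (PB ⧸ K ^ 2) b = Ideal.Quotient.mk _ (algebraMap B PB b) := rfl
      rw [this, hqT, κ.commutes])
  have hσ1' : ∀ y, qT (σ y) = πC y := fun y => congrArg (fun f => f y) hσ1
  have hσ2' : ∀ b, σ (algebraMap B C' b) = algebraMap B (PB ⧸ K ^ 2) b :=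
    fun b => congrArg (fun f => f b) hσ2
  -- `τ̄`
  have hτK : ∀ a ∈ K ^ 2, τ' a = 0 := by
    intro a ha
    have h1 : Ideal.map τ'.toRingHom K ≤ RingHom.ker πC.toRingHom := by
      rw [Ideal.map_le_iff_le_comap]
      intro p hp
      rw [Ideal.mem_comap, RingHom.mem_ker]
      exact (hτ p).trans ((hKmem p).mp hp)
    have h2 : τ'.toRingHom a ∈ Ideal.map τ'.toRingHom (K ^ 2) := Ideal.mem_map_of_mem _ ha
    rw [Ideal.map_pow] at h2
    have h3 := Ideal.pow_right_mono h1 2 h2
    rw [hπk, Ideal.mem_bot] at h3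
    exact h3
  let τb : PB ⧸ K ^ 2 →+* C' := Ideal.Quotient.lift (K ^ 2) τ'.toRingHom hτK
  have hτb : ∀ p, τb (Ideal.Quotient.mk _ p) = τ' p := fun p => rfl
  -- `τ̄ ∘ σ = id`
  have hid : τb.comp σ = RingHom.id C' := by
    obtain ⟨μ, -, hμ⟩ := UTGlueC.lift_of_univ πC hπ C' C (algebraMap B C') πC.toRingHom hπs hπk
      (RingHom.id C) (by
        ext b
        change algebraMap B C b = πC (algebraMap B C' b)
        rw [πC.commutes])
    have e1 : τb.comp σ = μ := by
      apply hμ
      constructor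
      · ext y
        change πC (τb (σ y)) = πC y
        obtain ⟨p, hp⟩ := Ideal.Quotient.mk_surjective (σ y)
        rw [← hp, hτb, hτ, ← hqT, hp, hσ1']
      · ext b
        change τb (σ (algebraMap B C' b)) = algebraMap B C' b
        rw [hσ2']
        have : algebraMap B (PB ⧸ K ^ 2) b = Ideal.Quotient.mk _ (algebraMap B PB b) := rfl
        rw [this, hτb, τ'.commutes]
    have e2 : RingHom.id C' = μ := by
      apply hμ
      constructor
      · ext y; rfl
      · ext b; rfl
    rw [e1, e2]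
  refine ⟨τ'.toRingHom, σ, hτ, ?_, ?_⟩
  · intro y p hp
    rw [← hqT, ← hp, hσ1']
  · intro y p hp
    have := congrArg (fun f => f y) hid
    change τb (σ y) = y at this
    rw [hp, hτb] at this
    exact this

/-- projectivity of the conormal module from the retraction data -/
theorem finite_projective_of_data {PB C C' G S : Type u} [CommRing PB] [CommRing C] [CommRing C']
    [AddCommGroup G] [Module C G] [AddCommGroup S] [Module C' S]
    (κ : PB →+* C) {r : ℕ} (f : Fin r → PB) (hK : RingHom.ker κ = Ideal.span (Set.range f))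
    (hqr : CAlgX.IsQuasiRegular f)
    (πC : C' →+* C) (hπ : Function.Surjective πC) (hsq : RingHom.ker πC ^ 2 = ⊥)
    (τ : PB →+* C') (σ : C' →+* PB ⧸ (RingHom.ker κ) ^ 2)
    (h1 : ∀ p, πC (τ p) = κ p)
    (h2 : ∀ y p, σ y = Ideal.Quotient.mk _ p → κ p = πC y)
    (h3 : ∀ y p, σ y = Ideal.Quotient.mk _ p → τ p = y)
    (ιS : S →+ C') (hιsmul : ∀ (a : C') (s : S), ιS (a • s) = a * ιS s)
    (hιinj : Function.Injective ιS) (hιrange : ∀ y, πC y = 0 → ∃ s, ιS s = y)
    (hιker : ∀ s, πC (ιS s) = 0)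
    (cn : S →+ G) (hcn_surj : Function.Surjective cn)
    (hcn_smul : ∀ (a : C') (s : S), cn (a • s) = πC a • cn s)
    (hcn_ker : ∀ s, cn s = 0 → ιS s ∈ RingHom.ker πC ^ 2) :
    Module.Finite C G ∧ Module.Projective C G := by
  classical
  have hfK : ∀ k, κ (f k) = 0 := fun k => by
    have : f k ∈ RingHom.ker κ := by rw [hK]; exact Ideal.subset_span ⟨k, rfl⟩
    exact this
  have hs : ∀ k, ∃ s : S, ιS s = τ (f k) := fun k => hιrange _ (by rw [h1, hfK])
  choose sk hsk using hs
  let g : Fin r → G := fun k => cn (sk k)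
  let Rel : G → (Fin r → C) → Prop := fun t c =>
    ∃ (s : S) (b : Fin r → PB), cn s = t ∧
      σ (ιS s) = Ideal.Quotient.mk _ (∑ k, b k * f k) ∧ c = fun k => κ (b k)
  have hex : ∀ t, ∃ c, Rel t c := by
    intro t
    obtain ⟨s, rfl⟩ := hcn_surj t
    obtain ⟨p, hp⟩ := Ideal.Quotient.mk_surjective (σ (ιS s))
    have hp0 : κ p = 0 := by rw [h2 _ p hp.symm, hιker]
    have hpK : p ∈ Ideal.span (Set.range f) := by rw [← hK]; exact hp0
    obtain ⟨b, hb⟩ := (Ideal.mem_span_range_iff_exists_fun).mp hpK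
    exact ⟨_, s, b, rfl, by rw [hb]; exact hp.symm, rfl⟩
  have huniq : ∀ t c c', Rel t c → Rel t c' → c = c' := by
    rintro t _ _ ⟨s, b, hst, hσ, rfl⟩ ⟨s', b', hst', hσ', rfl⟩
    have hss : ιS s = ιS s' := by
      have h0 : cn (s - s') = 0 := by rw [map_sub, hst, hst', sub_self]
      have := hcn_ker _ h0
      rw [hsq, Ideal.mem_bot, map_sub, sub_eq_zero] at this
      exact this
    rw [hss, hσ'] at hσ
    have hmem : ∑ k, (b k - b' k) * f k ∈ Ideal.span (Set.range f) ^ 2 := by
      rw [← hK]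
      have h5 := (Ideal.Quotient.eq).mp hσ.symm
      have h6 : ∑ k, (b k - b' k) * f k = ∑ k, b k * f k - ∑ k, b' k * f k := by
        rw [← Finset.sum_sub_distrib]
        exact Finset.sum_congr rfl fun k _ => by ring
      rw [h6]
      exact h5
    funext k
    have := H1RegA.coeff_mem_of_quasiRegular f hqr (fun k => b k - b' k) hmem k
    rw [← hK, RingHom.mem_ker, map_sub, sub_eq_zero] at this
    exact this
  have hadd : ∀ t t' c c', Rel t c → Rel t' c' → Rel (t + t') (c + c') := by
    rintro t t' _ _ ⟨s, b, hst, hσ, rfl⟩ ⟨s', b', hst', hσ', rfl⟩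
    refine ⟨s + s', b + b', by rw [map_add, hst, hst'], ?_, ?_⟩
    · rw [map_add, map_add, hσ, hσ', ← map_add]
      congr 1
      rw [← Finset.sum_add_distrib]
      exact Finset.sum_congr rfl fun k _ => by simp only [Pi.add_apply]; ring
    · funext k
      simp only [Pi.add_apply, map_add]
  have hsmul : ∀ (a : C) t c, Rel t c → Rel (a • t) (a • c) := by
    rintro a t _ ⟨s, b, hst, hσ, rfl⟩
    obtain ⟨a', ha'⟩ := hπ a
    obtain ⟨q, hq⟩ := Ideal.Quotient.mk_surjective (σ a')
    have hκq : κ q = a := by rw [h2 a' q hq.symm, ha']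
    refine ⟨a' • s, fun k => q * b k, by rw [hcn_smul, ha', hst], ?_, ?_⟩
    · rw [hιsmul, map_mul, hσ, ← hq, ← map_mul]
      congr 1
      rw [Finset.mul_sum]
      exact Finset.sum_congr rfl fun k _ => by ring
    · funext k
      simp only [Pi.smul_apply, smul_eq_mul, map_mul, hκq]
  have hrec : ∀ t c, Rel t c → t = ∑ k, c k • g k := by
    rintro t _ ⟨s, b, hst, hσ, rfl⟩
    have hy : τ (∑ k, b k * f k) = ιS s := h3 _ _ hσ
    have hs' : s = ∑ k, τ (b k) • sk k := by
      apply hιinj
      rw [map_sum, ← hy, map_sum]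
      refine Finset.sum_congr rfl fun k _ => ?_
      rw [hιsmul, hsk, map_mul]
    rw [← hst, hs', map_sum]
    refine Finset.sum_congr rfl fun k _ => ?_
    rw [hcn_smul, h1]
  let α₀ : G → (Fin r → C) := fun t => (hex t).choose
  have hα₀ : ∀ t, Rel t (α₀ t) := fun t => (hex t).choose_spec
  let α : G →ₗ[C] (Fin r → C) :=
    { toFun := α₀
      map_add' := fun t t' => huniq _ _ _ (hα₀ (t + t')) (hadd _ _ _ _ (hα₀ t) (hα₀ t'))
      map_smul' := fun a t => huniq _ _ _ (hα₀ (a • t)) (hsmul _ _ _ (hα₀ t)) }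
  let β : (Fin r → C) →ₗ[C] G := Fintype.linearCombination C g
  have hβα : β.comp α = LinearMap.id := by
    ext t
    change β (α₀ t) = t
    rw [Fintype.linearCombination_apply]
    exact (hrec _ _ (hα₀ t)).symm
  exact ⟨Module.Finite.of_surjective β (fun t => ⟨α t, LinearMap.congr_fun hβα t⟩),
    Module.Projective.of_split α β hβα⟩

open Scheme.Modules Groth.Agent.Helper4.StalkDict Groth.Agent.Helper4.FinLocFree
  Groth.Agent.Helper4.FinLocFree2 in
set_option backward.isDefEq.respectTransparency false in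
/-- finite projective sections over an affine open give local freeness at its points -/
theorem exists_isFreeAlong_of_projective {X : Scheme.{u}} (M : X.Modules) [M.IsQuasicoherent]
    {U : X.Opens} (hU : IsAffineOpen U) (x : X) (hx : x ∈ U)
    (hfin : Module.Finite Γ(X, U) Γ(M, U)) (hproj : Module.Projective Γ(X, U) Γ(M, U)) :
    ∃ (V : X.Opens) (n : ℕ), x ∈ V ∧ IsFreeAlong M V.ι n := by
  have hfp : Module.FinitePresentation Γ(X, U) Γ(M, U) :=
    Module.finitePresentation_of_projective _ _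
  refine exists_isFreeAlong_of_fp_of_free_stalk M hU x hx hfp ?_
  letI := sectionModStalk M x hx
  letI := X.presheaf.algebra_section_stalk ⟨x, hx⟩
  haveI := hU.isLocalization_stalk ⟨x, hx⟩
  haveI := isLocalizedModule_germ hU M x hx
  haveI : IsScalarTower Γ(X, U) (X.presheaf.stalk x) (M.presheaf.stalk x) :=
    IsScalarTower.of_algebraMap_smul (fun r m => rfl)
  haveI : Module.Projective (X.presheaf.stalk x) (M.presheaf.stalk x) :=
    Module.projective_of_isLocalizedModule (hU.primeIdealOf ⟨x, hx⟩).asIdeal.primeCompl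
      (germLin M x hx)
  haveI : Module.Finite (X.presheaf.stalk x) (M.presheaf.stalk x) :=
    Module.Finite.of_isLocalizedModule (hU.primeIdealOf ⟨x, hx⟩).asIdeal.primeCompl
      (germLin M x hx)
  exact Module.free_of_flat_of_isLocalRing

end Groth.Agent.Lead.CnProjA
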