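import Groth.Agent.Lead.UTInjD
import Groth.Agent.Lead.CnProjA
import Groth.Agent.S2103
import Mathlib

/-!
# Lead: the conormal sheaf of the universal thickening of a formally unramified lci morphism is
finite locally free (S9772)
-/

set_option autoImplicit false
set_option linter.style.haveILetI false
set_option backward.isDefEq.respectTransparency false
set_option backward.isDefEq.respectTransparency.types false
open CategoryTheory CategoryTheory.Limits AlgebraicGeometry Opposite TopologicalSpace TensorProduct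
universe u

namespace Groth.Agent.Lead.CnProjB

open Scheme.Modules OmegaSh Groth.Agent.Lead Groth.Agent.Helper4 Groth.Agent.Lead.BCMap

variable {X Y X' : Scheme.{u}} (f : X ⟶ Y) (i : X ⟶ X') (h' : X' ⟶ Y)

theorem exists_chart_data (hu : IsUnivThickening f i h') (x : X) (hx : Synt.IsKoszulAt f x) :
    ∃ (UY : Y.Opens) (UX' : X'.Opens) (_ : IsAffineOpen UY) (_ : IsAffineOpen UX')
      (_ : UX' ≤ h' ⁻¹ᵁ UY) (eV : i ⁻¹ᵁ UX' ≤ f ⁻¹ᵁ UY),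
      x ∈ i ⁻¹ᵁ UX' ∧ ∃ (PB : Type u) (_ : CommRing PB) (φ : Γ(Y, UY) →+* PB)
        (κ : PB →+* Γ(X, i ⁻¹ᵁ UX')) (r : ℕ) (fW : Fin r → PB),
        φ.IsStandardSmooth ∧ Function.Surjective κ ∧
        κ.comp φ = (f.appLE UY (i ⁻¹ᵁ UX') eV).hom ∧ CAlgX.IsH1Regular fW ∧
        RingHom.ker κ = Ideal.span (Set.range fW) := by
  haveI : IsClosedImmersion i := hu.1.1.1
  have ht' : MoreMor.IsThickening i := hu.1.1
  have hsurj' : Function.Surjective i := ht'.2.surj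
  obtain ⟨Z₀, P₀, u, ι₀, π₀, z₀, huo, hι₀, hπ₀, hP₀, hz₀, hcomp, r, g, hg, hkerg⟩ :=
    UTInjD.exists_local_data f x hx
  haveI := huo
  haveI := hι₀
  haveI := hπ₀
  haveI := hP₀
  have hpt : ∀ w : Z₀, π₀ (ι₀ w) = f (u w) := by
    intro w
    have h1 : (ι₀ ≫ π₀) w = (u ≫ f) w := by rw [hcomp]
    exact h1
  obtain ⟨UY, hUY, hyU⟩ : ∃ UY : Y.Opens, IsAffineOpen UY ∧ f x ∈ UY := by
    obtain ⟨_, ⟨V, hV, rfl⟩, hxV, -⟩ := Y.isBasis_affineOpens.exists_subset_of_mem_open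
      (Set.mem_univ (f x)) isOpen_univ
    exact ⟨V, hV, hxV⟩
  have hp₀ : ι₀ z₀ ∈ π₀ ⁻¹ᵁ UY := by
    change π₀ (ι₀ z₀) ∈ UY
    rw [hpt, hz₀]
    exact hyU
  obtain ⟨_, ⟨W₁, hW₁ : IsAffineOpen W₁, rfl⟩, hpW₁, hW₁le⟩ :=
    P₀.isBasis_affineOpens.exists_subset_of_mem_open hp₀ (π₀ ⁻¹ᵁ UY).isOpen
  have eW₁ : W₁ ≤ π₀ ⁻¹ᵁ UY := hW₁le
  have hsm : (π₀.appLE UY W₁ eW₁).hom.Smooth := π₀.smooth_appLE hUY hW₁ eW₁
  obtain ⟨s, hs, hst⟩ := RingHom.smooth_iff_locally_isStandardSmooth.mp hsm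
  have hcov := iSup_basicOpen_of_span_eq_top W₁ s hs
  have hmem : ι₀ z₀ ∈ ⨆ t ∈ s, P₀.basicOpen t := by
    rw [hcov]
    exact hpW₁
  obtain ⟨t, ht, hpt'⟩ : ∃ t ∈ s, ι₀ z₀ ∈ P₀.basicOpen t := by
    simpa [Opens.mem_iSup] using hmem
  have hW : IsAffineOpen (P₀.basicOpen t) := hW₁.basicOpen t
  have hWW₁ : P₀.basicOpen t ≤ W₁ := P₀.basicOpen_le t
  have eW : P₀.basicOpen t ≤ π₀ ⁻¹ᵁ UY := hWW₁.trans eW₁
  have hstd : (π₀.appLE UY (P₀.basicOpen t) eW).hom.IsStandardSmooth := by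
    haveI := hW₁.isLocalization_basicOpen t
    let eq : Localization.Away t ≃ₐ[Γ(P₀, W₁)] Γ(P₀, P₀.basicOpen t) :=
      IsLocalization.algEquiv (Submonoid.powers t) _ _
    have h1 := RingHom.isStandardSmooth_respectsIso.1 _ eq.toRingEquiv (hst t ht)
    have h2 : (π₀.appLE UY (P₀.basicOpen t) eW).hom =
        eq.toRingEquiv.toRingHom.comp ((algebraMap Γ(P₀, W₁) (Localization.Away t)).comp
          (π₀.appLE UY W₁ eW₁).hom) := by
      ext b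
      change _ = eq (algebraMap Γ(P₀, W₁) (Localization.Away t)
        ((π₀.appLE UY W₁ eW₁) b))
      rw [eq.commutes]
      change _ = (π₀.appLE UY W₁ eW₁ ≫ P₀.presheaf.map (homOfLE hWW₁).op) b
      rw [Scheme.Hom.appLE_map]
    rw [h2]
    exact h1
  obtain ⟨hfW, hkerW⟩ := UTInjD.h1_restrict' ι₀ (isAffineOpen_top P₀) hW le_top g hg hkerg
  have hV₀ : IsAffineOpen (ι₀ ⁻¹ᵁ P₀.basicOpen t) := hW.preimage ι₀
  have hV₁ : IsAffineOpen (u ''ᵁ (ι₀ ⁻¹ᵁ P₀.basicOpen t)) := hV₀.image_of_isOpenImmersion u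
  have hzV₁ : x ∈ u ''ᵁ (ι₀ ⁻¹ᵁ P₀.basicOpen t) := ⟨z₀, hpt', hz₀⟩
  have hpre : i ⁻¹ᵁ (UTGlueA.imageOpen i ht' (u ''ᵁ (ι₀ ⁻¹ᵁ P₀.basicOpen t))) =
      u ''ᵁ (ι₀ ⁻¹ᵁ P₀.basicOpen t) := UTGlueA.preimage_imageOpen _ ht' _
  generalize UTGlueA.imageOpen i ht' (u ''ᵁ (ι₀ ⁻¹ᵁ P₀.basicOpen t)) = UX' at hpre
  have hUX' : IsAffineOpen UX' :=
    LiftPow.isAffineOpen_of_preimage i hsurj' UX' (by rw [hpre]; exact hV₁)
  have hVle : ∀ z' ∈ i ⁻¹ᵁ UX', f z' ∈ UY := by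
    intro z' hz'
    rw [hpre] at hz'
    obtain ⟨w, hw, rfl⟩ := hz'
    have h2 : π₀ (ι₀ w) ∈ UY := eW hw
    rw [hpt] at h2
    exact h2
  have eV : i ⁻¹ᵁ UX' ≤ f ⁻¹ᵁ UY := hVle
  have e₂ : UX' ≤ h' ⁻¹ᵁ UY := by
    intro p hp
    obtain ⟨z', rfl⟩ := hsurj' p
    have h1 : (i ≫ h') z' ∈ UY := by
      rw [hu.2.1]
      exact hVle z' hp
    exact h1
  let θ : Γ(Z₀, ι₀ ⁻¹ᵁ P₀.basicOpen t) ≅ Γ(X, i ⁻¹ᵁ UX') :=
    (u.appIso (ι₀ ⁻¹ᵁ P₀.basicOpen t)).symm ≪≫ X.presheaf.mapIso (eqToIso hpre).op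
  have hθinj : Function.Injective θ.hom.hom := (ConcreteCategory.bijective_of_isIso θ.hom).injective
  have hθsurj : Function.Surjective θ.hom.hom :=
    (ConcreteCategory.bijective_of_isIso θ.hom).surjective
  have hκsurj : Function.Surjective (ι₀.app (P₀.basicOpen t) ≫ θ.hom).hom := by
    intro y
    obtain ⟨y₁, rfl⟩ := hθsurj y
    obtain ⟨y₂, rfl⟩ := ι₀.app_surjective _ hW y₁
    exact ⟨y₂, rfl⟩
  have hκker : RingHom.ker (ι₀.app (P₀.basicOpen t) ≫ θ.hom).hom =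
      Ideal.span (Set.range (fun k => P₀.presheaf.map (homOfLE (le_top : P₀.basicOpen t ≤ ⊤)).op
        (g k))) := by
    rw [← hkerW]
    ext y
    rw [RingHom.mem_ker, RingHom.mem_ker]
    change θ.hom.hom ((ι₀.app (P₀.basicOpen t)).hom y) = 0 ↔ _
    rw [map_eq_zero_iff _ hθinj]
  have hκφ : (ι₀.app (P₀.basicOpen t) ≫ θ.hom).hom.comp
      (π₀.appLE UY (P₀.basicOpen t) eW).hom = (f.appLE UY (i ⁻¹ᵁ UX') eV).hom := by
    rw [← CommRingCat.hom_comp]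
    congr 1
    have e' : u ''ᵁ (ι₀ ⁻¹ᵁ P₀.basicOpen t) ≤ f ⁻¹ᵁ UY := by
      rw [← hpre]
      exact eV
    have h1 : π₀.appLE UY (P₀.basicOpen t) eW ≫ ι₀.app (P₀.basicOpen t) =
        f.appLE UY (u ''ᵁ (ι₀ ⁻¹ᵁ P₀.basicOpen t)) e' ≫
          u.appLE (u ''ᵁ (ι₀ ⁻¹ᵁ P₀.basicOpen t)) (ι₀ ⁻¹ᵁ P₀.basicOpen t)
            (u.preimage_image_eq _).ge := by
      rw [Scheme.Hom.app_eq_appLE, Scheme.Hom.appLE_comp_appLE, Scheme.Hom.appLE_comp_appLE,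
        UTTransB.appLE_congr_hom hcomp]
    change π₀.appLE UY (P₀.basicOpen t) eW ≫ ι₀.app (P₀.basicOpen t) ≫
      (u.appIso (ι₀ ⁻¹ᵁ P₀.basicOpen t)).inv ≫ X.presheaf.map (eqToHom hpre).op = _
    rw [← Category.assoc, h1, Category.assoc, Scheme.Hom.appLE_appIso_inv_assoc,
      ← Functor.map_comp, Scheme.Hom.appLE_map]
  exact ⟨UY, UX', hUY, hUX', e₂, eV, by rw [hpre]; exact hzV₁, Γ(P₀, P₀.basicOpen t), inferInstance,
    (π₀.appLE UY (P₀.basicOpen t) eW).hom, (ι₀.app (P₀.basicOpen t) ≫ θ.hom).hom, r, _, hstd,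
    hκsurj, hκφ, hfW, hκker⟩

/-- **S9772** -/
theorem main (hf : ∀ x : X, Synt.IsKoszulAt f x) (hu : IsUnivThickening f i h') :
    FlatMod.IsFinLocFree (Omega.conormal i) := by
  haveI : IsClosedImmersion i := hu.1.1.1
  haveI : (Omega.conormal i).IsQuasicoherent :=
    StalkPull.isQuasicoherent_pullbackObj i (ClSub.idealMod i.ker)
  intro x
  obtain ⟨UY, UX', hUY, hUX', e, eV, hxV, PB, _, φ, κ, r, fW, hφ, hκ, hκφ, hfW, hker⟩ :=
    exists_chart_data f i h' hu x (hf x)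
  have hV : IsAffineOpen (i ⁻¹ᵁ UX') := hUX'.preimage i
  have hsurjc : Function.Surjective (i.app UX') := i.app_surjective _ hUX'
  letI algBC' : Algebra Γ(Y, UY) Γ(X', UX') := (h'.appLE UY UX' e).hom.toAlgebra
  letI algBC : Algebra Γ(Y, UY) Γ(X, i ⁻¹ᵁ UX') :=
    (f.appLE UY (i ⁻¹ᵁ UX') (UnivThick6.preimage_le f i h' hu.2.1 e)).hom.toAlgebra
  letI algBP : Algebra Γ(Y, UY) PB := φ.toAlgebra
  haveI : Algebra.IsStandardSmooth Γ(Y, UY) PB := hφ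
  let πC' : Γ(X', UX') →ₐ[Γ(Y, UY)] Γ(X, i ⁻¹ᵁ UX') :=
    { (i.app UX').hom with
      commutes' := by
        intro b
        change (i.app UX') ((h'.appLE UY UX' e) b) =
          (f.appLE UY (i ⁻¹ᵁ UX') (UnivThick6.preimage_le f i h' hu.2.1 e)) b
        rw [Scheme.Hom.app_eq_appLE, ← CommRingCat.comp_apply, Scheme.Hom.appLE_comp_appLE,
          UTTransB.appLE_congr_hom hu.2.1] }
  have hC' := UnivThick6.isUnivThickeningRing_of_chart f i h' hu hUY hUX' e πC' (fun x => rfl)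
  let κ' : PB →ₐ[Γ(Y, UY)] Γ(X, i ⁻¹ᵁ UX') :=
    { κ with
      commutes' := by
        intro b
        exact congrArg (fun g => g b) hκφ }
  obtain ⟨τ, σ, h1, h2, h3⟩ := CnProjA.exists_sigma_tau κ' hκ πC' hC'
  have hqr : CAlgX.IsQuasiRegular fW := Groth.Agent.S2103.result fW hfW
  have key := CnProjA.finite_projective_of_data (G := Γ(Omega.conormal i, i ⁻¹ᵁ UX'))
    (S := Γ(ClSub.idealMod i.ker, UX')) κ fW hker hqr (i.app UX').hom hsurjc hC'.2.1 τ σ h1 h2 h3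
    (idealSect i.ker UX') (fun a s => OmegaCnC.idealSect_smul i UX' a s)
    (OmegaCnC.idealSect_injective i UX')
    (fun y hy => OmegaCnB.exists_idealSect i hUX' y hy)
    (fun s => OmegaCnB.app_idealSect i hUX' s)
    (conormalSect i UX').hom (OmegaCnH.exists_conormalSect i hUX' hV hsurjc)
    (fun a s => by
      change conormalSect i UX' (a • s) = _
      rw [OmegaCnG.conormalSect_smul, Scheme.Hom.appLE_eq_app])
    (fun s hs => OmegaCnF.idealSect_mem_sq i hUX' hV hsurjc s hs)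
  obtain ⟨V, n, hxV', hfree⟩ := CnProjA.exists_isFreeAlong_of_projective (Omega.conormal i) hV x
    hxV key.1 key.2
  exact ⟨V, n, hxV', hfree⟩

end Groth.Agent.Lead.CnProjB
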