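import Groth.Agent.Lead.OmegaCnF
import Mathlib

set_option autoImplicit false
set_option backward.isDefEq.respectTransparency false
set_option backward.isDefEq.respectTransparency.types false
open CategoryTheory CategoryTheory.Limits AlgebraicGeometry Opposite TopologicalSpace TensorProduct
universe u

namespace Groth.Agent.Lead.OmegaCnG

open Scheme.Modules OmegaSh Groth.Agent.Helper4 Groth.Agent.Lead.BCMap Groth.Agent.Helper1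

section Two
variable {Z X Y : Scheme.{u}} (p : X ⟶ Y) (i : Z ⟶ X) [IsImmersion i] [IsImmersion (i ≫ p)]
  [QuasiCompact i] [QuasiCompact (i ≫ p)]
  {Ω : X.Modules} (d : Der p Ω) (hd : IsUniversal d)
  (ψ : (Scheme.Modules.pullback (𝟙 Z)).obj (Omega.conormal (i ≫ p)) ⟶ Omega.conormal i)
  (hψ : IsConormalMap i (i ≫ p) p (𝟙 Z) ψ)
  (φ : Omega.conormal i ⟶ (Scheme.Modules.pullback i).obj Ω) (hφ : IsConormalDiff i d φ)

omit [IsImmersion i] [IsImmersion (i ≫ p)] [QuasiCompact i] [QuasiCompact (i ≫ p)] in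
theorem d_appLE {U : X.Opens} {V : Y.Opens} (e : U ≤ p ⁻¹ᵁ V) (a : Γ(Y, V)) :
    d.app U (p.appLE V U e a) = 0 := by
  have h1 : p.appLE V U e a = X.presheaf.map (homOfLE e).op (p.app V a) := rfl
  rw [h1]
  have h2 := DerA.der_map d (homOfLE e) (p.app V a)
  refine h2.trans ?_
  have h0 : d.d (X := op (p ⁻¹ᵁ V)) (p.app V a) = 0 := DerA.der_app_eq_zero p d V a
  rw [h0, map_zero]

omit [QuasiCompact (i ≫ p)] in
include hd hφ in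
theorem epi_phi : Epi φ := by
  haveI := OmegaLocB.isQuasicoherent_of_isUniversal p d hd
  apply Groth.Agent.Lead.LocalLift.epi_of_local_lift
  intro T t z hz
  obtain ⟨U, V, hU, hV, e, hUc, hVc, hZ, hzU, hUT⟩ := OmegaCnF.exists_affine_two p i z T hz
  obtain ⟨hU', hsurjB⟩ := OmegaCnD.affine_of_le_coborderRange i hU hUc
  obtain ⟨hZ₁, hsurjA⟩ := OmegaCnD.affine_of_le_coborderRange (i ≫ p) hV hVc
  refine ⟨i ⁻¹ᵁ U, hUT, hzU, ?_⟩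
  have e' : i ⁻¹ᵁ U ≤ (i ≫ p) ⁻¹ᵁ V := hZ.le
  have hAC : Function.Surjective ((i ≫ p).appLE V (i ⁻¹ᵁ U) e') :=
    OmegaCnF.appLE_surjective_of_eq (i ≫ p) V (i ⁻¹ᵁ U) hZ e' hsurjA
  have hspan := OmegaSeqB.span_pbSec i Ω hU' hU le_rfl _ (OmegaSeqA.span_d p d hd hU hV e)
    (((Scheme.Modules.pullback i).obj Ω).presheaf.map (homOfLE hUT).op t)
  generalize ((Scheme.Modules.pullback i).obj Ω).presheaf.map (homOfLE hUT).op t = t' at hspan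
  induction hspan using Submodule.span_induction with
  | mem x hx =>
    obtain ⟨_, ⟨b, rfl⟩, rfl⟩ := hx
    obtain ⟨a, ha⟩ := hAC (i.appLE U (i ⁻¹ᵁ U) le_rfl b)
    have hs0 : i.app U (b - p.appLE V U e a) = 0 := by
      rw [← Scheme.Hom.appLE_eq_app, map_sub, ← ha, sub_eq_zero, ← CommRingCat.comp_apply,
        Scheme.Hom.appLE_comp_appLE]
    obtain ⟨σ, hσ⟩ := OmegaCnB.exists_idealSect i hU _ hs0
    refine ⟨conormalSect i U σ, ?_⟩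
    rw [hφ U σ, hσ, map_sub, d_appLE p d e a, sub_zero, OmegaCnB.pbSec_self]
  | zero => exact ⟨0, map_zero _⟩
  | add x y _ _ hx hy =>
    obtain ⟨a, ha⟩ := hx
    obtain ⟨b, hb⟩ := hy
    exact ⟨a + b, by rw [map_add, ha, hb]⟩
  | smul r x _ hx =>
    obtain ⟨a, ha⟩ := hx
    exact ⟨r • a, by rw [Scheme.Modules.Hom.app_smul, ha]⟩

omit [IsImmersion i] [IsImmersion (i ≫ p)] [QuasiCompact i] [QuasiCompact (i ≫ p)] in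
theorem conormalSect_smul (U : X.Opens) (b : Γ(X, U)) (σ : Γ(ClSub.idealMod i.ker, U)) :
    conormalSect i U (b • σ) = i.appLE U (i ⁻¹ᵁ U) le_rfl b • conormalSect i U σ := by
  change pullSect i (ClSub.idealMod i.ker) U (b • σ) = _ • pullSect i (ClSub.idealMod i.ker) U σ
  rw [← OmegaCnB.pbSec_self, pbSec_smul, OmegaCnB.pbSec_self]

include hd hψ hφ in
theorem exact (w : ψ ≫ φ = 0) : (ShortComplex.mk ψ φ w).Exact := by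
  haveI := OmegaLocB.isQuasicoherent_of_isUniversal p d hd
  apply Groth.Agent.Lead.LocalLift.exact_of_local_lift
  intro T n hn z hz
  obtain ⟨U, V, hU, hV, e, hUc, hVc, hZ, hzU, hUT⟩ := OmegaCnF.exists_affine_two p i z T hz
  obtain ⟨hU', hsurjB⟩ := OmegaCnD.affine_of_le_coborderRange i hU hUc
  obtain ⟨hZ₁, hsurjA⟩ := OmegaCnD.affine_of_le_coborderRange (i ≫ p) hV hVc
  refine ⟨i ⁻¹ᵁ U, hUT, hzU, ?_⟩
  have e' : i ⁻¹ᵁ U ≤ (i ≫ p) ⁻¹ᵁ V := hZ.le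
  have e₀ : i ⁻¹ᵁ U ≤ i ⁻¹ᵁ U := le_rfl
  letI algAB := (p.appLE V U e).hom.toAlgebra
  letI algBC := (i.appLE U (i ⁻¹ᵁ U) e₀).hom.toAlgebra
  letI algAC := ((i ≫ p).appLE V (i ⁻¹ᵁ U) e').hom.toAlgebra
  haveI : IsScalarTower Γ(Y, V) Γ(X, U) Γ(Z, i ⁻¹ᵁ U) := IsScalarTower.of_algebraMap_eq' (by
    change ((i ≫ p).appLE V (i ⁻¹ᵁ U) e').hom =
      (i.appLE U (i ⁻¹ᵁ U) e₀).hom.comp (p.appLE V U e).hom
    rw [← CommRingCat.hom_comp, Scheme.Hom.appLE_comp_appLE])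
  have hAC : Function.Surjective (algebraMap Γ(Y, V) Γ(Z, i ⁻¹ᵁ U)) :=
    OmegaCnF.appLE_surjective_of_eq (i ≫ p) V (i ⁻¹ᵁ U) hZ e' hsurjA
  have hBC : Function.Surjective (algebraMap Γ(X, U) Γ(Z, i ⁻¹ᵁ U)) := by
    intro t
    obtain ⟨s, hs⟩ := hsurjB t
    refine ⟨s, ?_⟩
    change i.appLE U (i ⁻¹ᵁ U) e₀ s = t
    rw [Scheme.Hom.appLE_eq_app]
    exact hs
  have hker : RingHom.ker (i.app U).hom = RingHom.ker (algebraMap Γ(X, U) Γ(Z, i ⁻¹ᵁ U)) := by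
    change _ = RingHom.ker (i.appLE U (i ⁻¹ᵁ U) e₀).hom
    rw [Scheme.Hom.appLE_eq_app]
  obtain ⟨εX, hεX⟩ := OmegaLocC.exists_sectionsEquiv p d hd hU hV e
  letI : Module Γ(X, U) Γ((Scheme.Modules.pullback i).obj Ω, i ⁻¹ᵁ U) :=
    Module.compHom _ (i.appLE U (i ⁻¹ᵁ U) e₀).hom
  haveI : IsScalarTower Γ(X, U) Γ(Z, i ⁻¹ᵁ U) Γ((Scheme.Modules.pullback i).obj Ω, i ⁻¹ᵁ U) :=
    IsScalarTower.of_compHom _ _ _
  letI : Module Γ(X, U) Γ((Scheme.Modules.pullback i).obj (ClSub.idealMod i.ker), i ⁻¹ᵁ U) :=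
    Module.compHom _ (i.appLE U (i ⁻¹ᵁ U) e₀).hom
  haveI : IsScalarTower Γ(X, U) Γ(Z, i ⁻¹ᵁ U)
      Γ((Scheme.Modules.pullback i).obj (ClSub.idealMod i.ker), i ⁻¹ᵁ U) :=
    IsScalarTower.of_compHom _ _ _
  obtain ⟨ρ, hρ, hb⟩ := exists_isBaseChange_pbSec i Ω hU hU' e₀
  obtain ⟨ρI, hρI, hbI⟩ := exists_isBaseChange_pbSec i (ClSub.idealMod i.ker) hU hU' e₀
  have hb' : IsBaseChange Γ(Z, i ⁻¹ᵁ U) (ρ ∘ₗ εX.symm.toLinearMap) :=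
    IsBaseChange.comp_equiv εX.symm ρ hb
  have hn' : φ.app (i ⁻¹ᵁ U) ((Omega.conormal i).presheaf.map (homOfLE hUT).op n) = 0 := by
    refine (StalkExact.app_res φ (homOfLE hUT) n).trans ?_
    have hn0 : φ.app T n = 0 := hn
    rw [hn0, map_zero]
  obtain ⟨σ, hσ⟩ := OmegaCnC.isBaseChange_surjective ρI hbI hBC
    ((Omega.conormal i).presheaf.map (homOfLE hUT).op n)
  rw [hρI, OmegaCnB.pbSec_self] at hσ
  have hσ' : conormalSect i U σ = (Omega.conormal i).presheaf.map (homOfLE hUT).op n := hσ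
  have hs : idealSect i.ker U σ ∈ RingHom.ker (algebraMap Γ(X, U) Γ(Z, i ⁻¹ᵁ U)) := by
    rw [← hker, RingHom.mem_ker]
    exact OmegaCnB.app_idealSect i hU σ
  have h1 : φ.app (i ⁻¹ᵁ U) (conormalSect i U σ) = 0 := by rw [hσ']; exact hn'
  rw [hφ U σ, ← OmegaCnB.pbSec_self, ← hρ] at h1
  have h2 : (1 : Γ(Z, i ⁻¹ᵁ U)) ⊗ₜ[Γ(X, U)]
      KaehlerDifferential.D Γ(Y, V) Γ(X, U) (idealSect i.ker U σ) = 0 := by
    apply hb'.equiv.injective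
    rw [map_zero, IsBaseChange.equiv_tmul, one_smul]
    change ρ (εX.symm _) = 0
    rw [← hεX, LinearEquiv.symm_apply_apply]
    exact h1
  have h3 := OmegaCnE.mem_J_of_one_tmul_D_eq_zero hAC hBC _ hs h2
  suffices H : ∀ s ∈ OmegaCnE.J Γ(Y, V) Γ(X, U) Γ(Z, i ⁻¹ᵁ U),
      ∃ (r : Γ((Scheme.Modules.pullback (𝟙 Z)).obj (Omega.conormal (i ≫ p)), i ⁻¹ᵁ U))
        (σ' : Γ(ClSub.idealMod i.ker, U)),
        idealSect i.ker U σ' = s ∧ ψ.app (i ⁻¹ᵁ U) r = conormalSect i U σ' by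
    obtain ⟨r, σ', h4, h5⟩ := H _ h3
    refine ⟨r, ?_⟩
    rw [OmegaCnC.idealSect_injective i U h4] at h5
    exact h5.trans hσ'
  intro s hsJ
  obtain ⟨x, hx, y, hy, rfl⟩ := Submodule.mem_sup.mp hsJ
  clear hsJ
  have Hx : ∃ (r : Γ((Scheme.Modules.pullback (𝟙 Z)).obj (Omega.conormal (i ≫ p)), i ⁻¹ᵁ U))
      (σ' : Γ(ClSub.idealMod i.ker, U)),
      idealSect i.ker U σ' = x ∧ ψ.app (i ⁻¹ᵁ U) r = conormalSect i U σ' := by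
    have hxI : i.app U x = 0 := by
      have : x ∈ RingHom.ker (algebraMap Γ(X, U) Γ(Z, i ⁻¹ᵁ U)) := Ideal.pow_le_self two_ne_zero hx
      rw [← hker] at this
      exact this
    obtain ⟨σx, hσx⟩ := OmegaCnB.exists_idealSect i hU x hxI
    refine ⟨0, σx, hσx, ?_⟩
    rw [map_zero, OmegaCnC.conormalSect_eq_zero i hU σx (by rw [hσx, hker]; exact hx)]
  have Hy : ∃ (r : Γ((Scheme.Modules.pullback (𝟙 Z)).obj (Omega.conormal (i ≫ p)), i ⁻¹ᵁ U))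
      (σ' : Γ(ClSub.idealMod i.ker, U)),
      idealSect i.ker U σ' = y ∧ ψ.app (i ⁻¹ᵁ U) r = conormalSect i U σ' := by
    change y ∈ Submodule.span Γ(X, U) _ at hy
    induction hy using Submodule.span_induction with
    | mem y hy =>
      obtain ⟨a, ha, rfl⟩ := hy
      have ha0 : (i ≫ p).app V a = 0 :=
        OmegaCnF.app_eq_zero_of_appLE_eq_zero (i ≫ p) V (i ⁻¹ᵁ U) hZ e' a ha
      obtain ⟨s', hs'⟩ := OmegaCnB.exists_idealSect (i ≫ p) hV a ha0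
      obtain ⟨τ, hτ, hψτ⟩ := OmegaCnF.psi_affine p i ψ hψ e s'
      exact ⟨_, τ, by rw [hτ, hs']; rfl, hψτ⟩
    | zero => exact ⟨0, 0, map_zero _, by rw [map_zero, map_zero]⟩
    | add a b _ _ ha hb =>
      obtain ⟨r₁, σ₁, h₁, h₁'⟩ := ha
      obtain ⟨r₂, σ₂, h₂, h₂'⟩ := hb
      exact ⟨r₁ + r₂, σ₁ + σ₂, by rw [map_add, h₁, h₂], by rw [map_add, map_add, h₁', h₂']⟩
    | smul b a _ ha =>
      obtain ⟨r₁, σ₁, h₁, h₁'⟩ := ha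
      refine ⟨i.appLE U (i ⁻¹ᵁ U) le_rfl b • r₁, b • σ₁, ?_, ?_⟩
      · rw [OmegaCnC.idealSect_smul, h₁, smul_eq_mul]
      · rw [Scheme.Modules.Hom.app_smul, h₁', conormalSect_smul]
  obtain ⟨r₁, σ₁, h₁, h₁'⟩ := Hx
  obtain ⟨r₂, σ₂, h₂, h₂'⟩ := Hy
  exact ⟨r₁ + r₂, σ₁ + σ₂, by rw [map_add, h₁, h₂], by rw [map_add, map_add, h₁', h₂']⟩

omit [IsImmersion i] [IsImmersion (i ≫ p)] [QuasiCompact i] [QuasiCompact (i ≫ p)] in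
theorem ker_app_eq_of_eq {X Y : Scheme.{u}} (f : X ⟶ Y) (V : Y.Opens) (W : X.Opens)
    (h : W = f ⁻¹ᵁ V) (e : W ≤ f ⁻¹ᵁ V) :
    RingHom.ker (f.app V).hom = RingHom.ker (f.appLE V W e).hom := by
  subst h
  rw [Scheme.Hom.appLE_eq_app]

include hψ in
theorem mono_psi [Smooth p] : Mono ψ := by
  haveI : (Omega.conormal i).IsQuasicoherent :=
    StalkPull.isQuasicoherent_pullbackObj i (ClSub.idealMod i.ker)
  haveI : (Omega.conormal (i ≫ p)).IsQuasicoherent :=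
    StalkPull.isQuasicoherent_pullbackObj (i ≫ p) (ClSub.idealMod (i ≫ p).ker)
  haveI : ((Scheme.Modules.pullback (𝟙 Z)).obj (Omega.conormal (i ≫ p))).IsQuasicoherent :=
    StalkPull.isQuasicoherent_pullbackObj (𝟙 Z) _
  apply QcohLocal.mono_of_app_injective_of_affine_cover
  intro z
  obtain ⟨U, V, hU, hV, e, hUc, hVc, hZ, hzU, -⟩ := OmegaCnF.exists_affine_two p i z ⊤ trivial
  obtain ⟨hU', hsurjB⟩ := OmegaCnD.affine_of_le_coborderRange i hU hUc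
  obtain ⟨hZ₁, hsurjA⟩ := OmegaCnD.affine_of_le_coborderRange (i ≫ p) hV hVc
  refine ⟨i ⁻¹ᵁ U, hU', hzU, ?_⟩
  have e' : i ⁻¹ᵁ U ≤ (i ≫ p) ⁻¹ᵁ V := hZ.le
  have e₀ : i ⁻¹ᵁ U ≤ i ⁻¹ᵁ U := le_rfl
  have e₁ : i ⁻¹ᵁ U ≤ (𝟙 Z) ⁻¹ᵁ ((i ≫ p) ⁻¹ᵁ V) := fun _ hy => e hy
  have e₂ : (i ≫ p) ⁻¹ᵁ V ≤ (i ≫ p) ⁻¹ᵁ V := le_rfl
  letI algAB := (p.appLE V U e).hom.toAlgebra
  letI algBC := (i.appLE U (i ⁻¹ᵁ U) e₀).hom.toAlgebra
  letI algAC := ((i ≫ p).appLE V (i ⁻¹ᵁ U) e').hom.toAlgebra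
  haveI : IsScalarTower Γ(Y, V) Γ(X, U) Γ(Z, i ⁻¹ᵁ U) := IsScalarTower.of_algebraMap_eq' (by
    change ((i ≫ p).appLE V (i ⁻¹ᵁ U) e').hom =
      (i.appLE U (i ⁻¹ᵁ U) e₀).hom.comp (p.appLE V U e).hom
    rw [← CommRingCat.hom_comp, Scheme.Hom.appLE_comp_appLE])
  have hAC : Function.Surjective (algebraMap Γ(Y, V) Γ(Z, i ⁻¹ᵁ U)) :=
    OmegaCnF.appLE_surjective_of_eq (i ≫ p) V (i ⁻¹ᵁ U) hZ e' hsurjA
  have hker : RingHom.ker (i.app U).hom = RingHom.ker (algebraMap Γ(X, U) Γ(Z, i ⁻¹ᵁ U)) := by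
    change _ = RingHom.ker (i.appLE U (i ⁻¹ᵁ U) e₀).hom
    rw [Scheme.Hom.appLE_eq_app]
  have hkerA : RingHom.ker ((i ≫ p).app V).hom =
      RingHom.ker (algebraMap Γ(Y, V) Γ(Z, i ⁻¹ᵁ U)) :=
    ker_app_eq_of_eq (i ≫ p) V (i ⁻¹ᵁ U) hZ e'
  haveI : Algebra.FormallySmooth Γ(Y, V) Γ(X, U) :=
    (HasRingHomProperty.appLE (P := @Smooth) p inferInstance ⟨V, hV⟩ ⟨U, hU⟩ e).formallySmooth
  rw [injective_iff_map_eq_zero]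
  intro r hr
  letI alg₁ := (Scheme.Hom.appLE (𝟙 Z) ((i ≫ p) ⁻¹ᵁ V) (i ⁻¹ᵁ U) e₁).hom.toAlgebra
  letI : Module Γ(Z, (i ≫ p) ⁻¹ᵁ V)
      Γ((Scheme.Modules.pullback (𝟙 Z)).obj (Omega.conormal (i ≫ p)), i ⁻¹ᵁ U) :=
    Module.compHom _ (Scheme.Hom.appLE (𝟙 Z) ((i ≫ p) ⁻¹ᵁ V) (i ⁻¹ᵁ U) e₁).hom
  haveI : IsScalarTower Γ(Z, (i ≫ p) ⁻¹ᵁ V) Γ(Z, i ⁻¹ᵁ U)
      Γ((Scheme.Modules.pullback (𝟙 Z)).obj (Omega.conormal (i ≫ p)), i ⁻¹ᵁ U) :=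
    IsScalarTower.of_compHom _ _ _
  obtain ⟨ρ₁, hρ₁, hb₁⟩ := exists_isBaseChange_pbSec (𝟙 Z) (Omega.conormal (i ≫ p)) hZ₁ hU' e₁
  have hsurj₁ : Function.Surjective (algebraMap Γ(Z, (i ≫ p) ⁻¹ᵁ V) Γ(Z, i ⁻¹ᵁ U)) :=
    OmegaCnF.appLE_surjective_of_eq (𝟙 Z) ((i ≫ p) ⁻¹ᵁ V) (i ⁻¹ᵁ U) hZ e₁
      (fun t => ⟨t, rfl⟩)
  obtain ⟨m, rfl⟩ := OmegaCnC.isBaseChange_surjective ρ₁ hb₁ hsurj₁ r
  letI algK := ((i ≫ p).appLE V ((i ≫ p) ⁻¹ᵁ V) e₂).hom.toAlgebra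
  letI : Module Γ(Y, V) Γ((Scheme.Modules.pullback (i ≫ p)).obj (ClSub.idealMod (i ≫ p).ker),
      (i ≫ p) ⁻¹ᵁ V) := Module.compHom _ ((i ≫ p).appLE V ((i ≫ p) ⁻¹ᵁ V) e₂).hom
  haveI : IsScalarTower Γ(Y, V) Γ(Z, (i ≫ p) ⁻¹ᵁ V)
      Γ((Scheme.Modules.pullback (i ≫ p)).obj (ClSub.idealMod (i ≫ p).ker), (i ≫ p) ⁻¹ᵁ V) :=
    IsScalarTower.of_compHom _ _ _
  obtain ⟨ρK, hρK, hbK⟩ :=
    exists_isBaseChange_pbSec (i ≫ p) (ClSub.idealMod (i ≫ p).ker) hV hZ₁ e₂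
  have hsurjK : Function.Surjective (algebraMap Γ(Y, V) Γ(Z, (i ≫ p) ⁻¹ᵁ V)) :=
    OmegaCnF.appLE_surjective_of_eq (i ≫ p) V ((i ≫ p) ⁻¹ᵁ V) rfl e₂ hsurjA
  obtain ⟨s', rfl⟩ := OmegaCnC.isBaseChange_surjective ρK hbK hsurjK m
  rw [hρ₁, hρK, OmegaCnB.pbSec_self] at hr ⊢
  obtain ⟨τ, hτ, hψτ⟩ := OmegaCnF.psi_affine p i ψ hψ e s'
  have h1 : conormalSect i U τ = 0 := hψτ.symm.trans hr
  have h2 := OmegaCnF.idealSect_mem_sq i hU hU' hsurjB τ h1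
  rw [hτ, hker] at h2
  have h3 := OmegaCnE.mem_sq_of_formallySmooth hAC (idealSect (i ≫ p).ker V s') h2
  have h4 : conormalSect (i ≫ p) V s' = 0 :=
    OmegaCnC.conormalSect_eq_zero (i ≫ p) hV s' (by rw [hkerA]; exact h3)
  change pbSec (𝟙 Z) (Omega.conormal (i ≫ p)) ((i ≫ p) ⁻¹ᵁ V) (i ⁻¹ᵁ U) e₁
    (conormalSect (i ≫ p) V s') = 0
  rw [h4, map_zero]

end Two

/-- S9375 -/
theorem main {Z X Y : Scheme.{u}} (p : X ⟶ Y) (i : Z ⟶ X) (j : Z ⟶ Y) [IsImmersion i]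
    [IsImmersion j] [QuasiCompact i] [QuasiCompact j] (hij : i ≫ p = j)
    (Ω : X.Modules) (d : Der p Ω) (hd : IsUniversal d)
    (ψ : (Scheme.Modules.pullback (𝟙 Z)).obj (Omega.conormal j) ⟶ Omega.conormal i)
    (hψ : IsConormalMap i j p (𝟙 Z) ψ)
    (φ : Omega.conormal i ⟶ (Scheme.Modules.pullback i).obj Ω) (hφ : IsConormalDiff i d φ) :
    ∃ w : ψ ≫ φ = 0, (ShortComplex.mk ψ φ w).Exact ∧ Epi φ := by
  subst hij
  have w := OmegaCnF.comp_zero p i d ψ hψ φ hφ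
  exact ⟨w, exact p i d hd ψ hψ φ hφ w, epi_phi p i d hd φ hφ⟩

/-- S9711 -/
theorem main_smooth {Z X Y : Scheme.{u}} (p : X ⟶ Y) [Smooth p] (i : Z ⟶ X) (j : Z ⟶ Y)
    [IsImmersion i] [IsImmersion j] [QuasiCompact i] [QuasiCompact j] (hij : i ≫ p = j)
    (Ω : X.Modules) (d : Der p Ω) (hd : IsUniversal d)
    (ψ : (Scheme.Modules.pullback (𝟙 Z)).obj (Omega.conormal j) ⟶ Omega.conormal i)
    (hψ : IsConormalMap i j p (𝟙 Z) ψ)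
    (φ : Omega.conormal i ⟶ (Scheme.Modules.pullback i).obj Ω) (hφ : IsConormalDiff i d φ) :
    ∃ w : ψ ≫ φ = 0, (ShortComplex.mk ψ φ w).ShortExact := by
  subst hij
  have w := OmegaCnF.comp_zero p i d ψ hψ φ hφ
  refine ⟨w, ?_⟩
  exact ShortComplex.ShortExact.mk' (exact p i d hd ψ hψ φ hφ w) (mono_psi p i ψ hψ)
    (epi_phi p i d hd φ hφ)

end Groth.Agent.Lead.OmegaCnG
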