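import Mathlib

set_option autoImplicit false

namespace Groth.Agent.Lead.CnSplitA

section alg
variable {R M ι : Type*} [CommRing R] [AddCommGroup M] [Module R M]

theorem map_mem_of_mem_smul_top {N : Type*} [AddCommGroup N] [Module R N] (g : M →ₗ[R] N)
    (I : Ideal R) (x : M) (hx : x ∈ I • (⊤ : Submodule R M)) :
    g x ∈ I • (⊤ : Submodule R N) := by
  refine Submodule.smul_induction_on hx ?_ ?_
  · intro r hr m _
    rw [map_smul]
    exact Submodule.smul_mem_smul hr Submodule.mem_top
  · intro a b ha hb
    rw [map_add]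
    exact Submodule.add_mem _ ha hb

theorem coeff_mem_of_sum_mem_smul_top [Fintype ι] (b : Module.Basis ι R M) (I : Ideal R)
    (c : ι → R) (h : ∑ k, c k • b k ∈ I • (⊤ : Submodule R M)) : ∀ k, c k ∈ I := by
  classical
  intro k
  have h1 := map_mem_of_mem_smul_top (b.coord k) I _ h
  rw [Ideal.smul_top_eq_map, Algebra.algebraMap_self, Ideal.map_id] at h1
  simpa [Module.Basis.coord_apply, Finsupp.single_apply] using h1

end alg

end Groth.Agent.Lead.CnSplitA
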