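import Groth.Agent.Lead.H1RegB
import Groth.Agent.Lead.CnSplitA
import Mathlib

set_option autoImplicit false
set_option backward.isDefEq.respectTransparency false
set_option backward.isDefEq.respectTransparency.types false
open CategoryTheory CategoryTheory.Limits AlgebraicGeometry Opposite TopologicalSpace
universe u

namespace Groth.Agent.Lead.CnSplitB

open Scheme.Modules OmegaSh Groth.Agent.Lead Groth.Agent.Helper4 Groth.Agent.Lead.BCMap

/-- the classes of a quasi-regular generating sequence form a basis of the conormal sections -/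
theorem conormal_basis {Z Y : Scheme.{u}} (i : Z ⟶ Y) [QuasiCompact i] {U : Y.Opens}
    (hU : IsAffineOpen U) (hO : IsAffineOpen (i ⁻¹ᵁ U)) (hsurj : Function.Surjective (i.app U))
    {n : ℕ} (rs : Fin n → Γ(Y, U)) (hqr : CAlgX.IsQuasiRegular rs)
    (hI : RingHom.ker (i.app U).hom = Ideal.span (Set.range rs))
    (σ : Fin n → Γ(ClSub.idealMod i.ker, U)) (hσ : ∀ k, idealSect i.ker U (σ k) = rs k) :
    ∃ b : Module.Basis (Fin n) Γ(Z, i ⁻¹ᵁ U) Γ(Omega.conormal i, i ⁻¹ᵁ U),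
      ∀ k, b k = conormalSect i U (σ k) := by
  let v : Fin n → Γ(Omega.conormal i, i ⁻¹ᵁ U) := fun k => conormalSect i U (σ k)
  have hli : LinearIndependent Γ(Z, i ⁻¹ᵁ U) v := by
    rw [Fintype.linearIndependent_iff]
    intro g hg k
    choose b hb using fun k => hsurj (g k)
    have h1 : conormalSect i U (∑ k, b k • σ k) = 0 := by
      rw [map_sum, ← hg]
      refine Finset.sum_congr rfl fun k _ => ?_
      rw [OmegaCnG.conormalSect_smul, Scheme.Hom.appLE_eq_app, hb]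
    have h2 := OmegaCnF.idealSect_mem_sq i hU hO hsurj _ h1
    rw [map_sum] at h2
    have h3 : ∑ k, b k * rs k ∈ Ideal.span (Set.range rs) ^ 2 := by
      rw [← hI]
      have h4 : ∑ k, b k * rs k = ∑ k, idealSect i.ker U (b k • σ k) := by
        refine Finset.sum_congr rfl fun k _ => ?_
        rw [OmegaCnC.idealSect_smul, hσ]
      rw [h4]
      exact h2
    have h4 := H1RegA.coeff_mem_of_quasiRegular rs hqr b h3 k
    rw [← hI, RingHom.mem_ker] at h4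
    rw [← hb k]
    exact h4
  have hsp : ⊤ ≤ Submodule.span Γ(Z, i ⁻¹ᵁ U) (Set.range v) := by
    rintro t -
    obtain ⟨τ, rfl⟩ := OmegaCnH.exists_conormalSect i hU hO hsurj t
    have hτ : idealSect i.ker U τ ∈ Ideal.span (Set.range rs) := by
      rw [← hI]
      exact OmegaCnB.app_idealSect i hU τ
    obtain ⟨b, hb⟩ := (Ideal.mem_span_range_iff_exists_fun).mp hτ
    have hτ' : τ = ∑ k, b k • σ k := by
      apply OmegaCnC.idealSect_injective i U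
      rw [map_sum, ← hb]
      refine Finset.sum_congr rfl fun k _ => ?_
      rw [OmegaCnC.idealSect_smul, hσ]
    rw [hτ', map_sum]
    refine Submodule.sum_mem _ fun k _ => ?_
    rw [OmegaCnG.conormalSect_smul]
    exact Submodule.smul_mem _ _ (Submodule.subset_span ⟨k, rfl⟩)
  refine ⟨Module.Basis.mk hli hsp, fun k => ?_⟩
  exact Module.Basis.mk_apply hli hsp k

/-- pulling back a basis of sections over an affine open -/
theorem pullback_basis {X' X : Scheme.{u}} (h : X' ⟶ X) (M : X.Modules) [M.IsQuasicoherent]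
    {U : X.Opens} (hU : IsAffineOpen U) (hV : IsAffineOpen (h ⁻¹ᵁ U))
    {n : ℕ} (b : Module.Basis (Fin n) Γ(X, U) Γ(M, U)) :
    ∃ b' : Module.Basis (Fin n) Γ(X', h ⁻¹ᵁ U) Γ((Scheme.Modules.pullback h).obj M, h ⁻¹ᵁ U),
      ∀ k, b' k = pullSect h M U (b k) := by
  have e : h ⁻¹ᵁ U ≤ h ⁻¹ᵁ U := le_rfl
  letI algBC := (h.appLE U (h ⁻¹ᵁ U) e).hom.toAlgebra
  letI : Module Γ(X, U) Γ((Scheme.Modules.pullback h).obj M, h ⁻¹ᵁ U) :=
    Module.compHom _ (h.appLE U (h ⁻¹ᵁ U) e).hom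
  haveI : IsScalarTower Γ(X, U) Γ(X', h ⁻¹ᵁ U)
      Γ((Scheme.Modules.pullback h).obj M, h ⁻¹ᵁ U) :=
    IsScalarTower.of_compHom _ _ _
  obtain ⟨ρ, hρ, hb⟩ := exists_isBaseChange_pbSec h M hU hV e
  refine ⟨(b.baseChange Γ(X', h ⁻¹ᵁ U)).map hb.equiv, fun k => ?_⟩
  rw [Module.Basis.map_apply, Module.Basis.baseChange_apply, IsBaseChange.equiv_tmul, one_smul,
    hρ, OmegaCnB.pbSec_self]

section FI
variable {Y' Y X : Scheme.{u}} (f : Y ⟶ X) [IsImmersion f] [QuasiCompact f]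
  (j : Y' ⟶ Y) [IsImmersion j] [QuasiCompact j]
  (φ₁ : (Scheme.Modules.pullback j).obj (Omega.conormal f) ⟶ Omega.conormal (j ≫ f))
  (hφ₁ : IsConormalMap (j ≫ f) f (𝟙 X) j φ₁)

omit [IsImmersion f] [IsImmersion j] in
/-- classes of sections of `q * J` lie in `q • ⊤` -/
theorem conormalSect_mem_smul_top {W : X.Opens} (hW : IsAffineOpen W)
    (q : Ideal Γ(X, W)) (x : Γ(X, W))
    (hx : x ∈ q * RingHom.ker ((j ≫ f).app W).hom) :
    ∃ σ : Γ(ClSub.idealMod (j ≫ f).ker, W), idealSect (j ≫ f).ker W σ = x ∧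
      conormalSect (j ≫ f) W σ ∈
        (q.map ((j ≫ f).app W).hom) • (⊤ : Submodule Γ(Y', (j ≫ f) ⁻¹ᵁ W)
          Γ(Omega.conormal (j ≫ f), (j ≫ f) ⁻¹ᵁ W)) := by
  refine Submodule.mul_induction_on hx ?_ ?_
  · intro π hπ y hy
    obtain ⟨τ, hτ⟩ := OmegaCnB.exists_idealSect (j ≫ f) hW y hy
    refine ⟨π • τ, by rw [OmegaCnC.idealSect_smul, hτ], ?_⟩
    rw [OmegaCnG.conormalSect_smul, Scheme.Hom.appLE_eq_app]
    exact Submodule.smul_mem_smul (Ideal.mem_map_of_mem _ hπ) Submodule.mem_top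
  · rintro a b ⟨σa, hσa, ha⟩ ⟨σb, hσb, hb⟩
    exact ⟨σa + σb, by rw [map_add, hσa, hσb], by rw [map_add]; exact Submodule.add_mem _ ha hb⟩

omit [IsImmersion f] [IsImmersion j] in
include hφ₁ in
/-- **fibre injectivity** from a retraction of `φ₁` over the chart -/
theorem fiberInj {W : X.Opens} (hW : IsAffineOpen W) (hV : IsAffineOpen (f ⁻¹ᵁ W))
    (hO : IsAffineOpen (j ⁻¹ᵁ (f ⁻¹ᵁ W)))
    (hsf : Function.Surjective (f.app W)) (hsj : Function.Surjective (j.app (f ⁻¹ᵁ W)))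
    {m : ℕ} (fs : Fin m → Γ(X, W)) (hfs : CAlgX.IsQuasiRegular fs)
    (hker : RingHom.ker (f.app W).hom = Ideal.span (Set.range fs))
    (V₁ : Y'.Opens) (hV₁ : V₁ = j ⁻¹ᵁ (f ⁻¹ᵁ W))
    (ρ₀ : Γ(Omega.conormal (j ≫ f), V₁) →ₗ[Γ(Y', V₁)]
      Γ((Scheme.Modules.pullback j).obj (Omega.conormal f), V₁))
    (hρ₀ : ∀ x, ρ₀ (φ₁.app V₁ x) = x)
    (q : Ideal Γ(X, W)) (hq : RingHom.ker ((j ≫ f).app W).hom ≤ q)
    (c : Fin m → Γ(X, W)) (hc : ∑ k, c k * fs k ∈ q * RingHom.ker ((j ≫ f).app W).hom) :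
    ∀ k, c k ∈ q := by
  subst hV₁
  have hσ : ∀ k, ∃ σ : Γ(ClSub.idealMod f.ker, W), idealSect f.ker W σ = fs k := fun k =>
    OmegaCnB.exists_idealSect f hW _ (RingHom.mem_ker.1
      (by rw [hker]; exact Ideal.subset_span ⟨k, rfl⟩))
  choose σ hσ using hσ
  haveI : (Omega.conormal f).IsQuasicoherent :=
    StalkPull.isQuasicoherent_pullbackObj f (ClSub.idealMod f.ker)
  obtain ⟨b, hb⟩ := conormal_basis f hW hV hsf fs hfs hker σ hσ
  obtain ⟨b', hb'⟩ := pullback_basis j (Omega.conormal f) hV hO b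
  have hσ' : ∀ k, ∃ s : Γ(ClSub.idealMod (j ≫ f).ker, W),
      idealSect (j ≫ f).ker W s = fs k ∧
        φ₁.app (j ⁻¹ᵁ (f ⁻¹ᵁ W)) (b' k) = conormalSect (j ≫ f) W s := fun k => by
    obtain ⟨s, hs, h⟩ := OmegaCnH.phi1_pull f j φ₁ hφ₁ W (σ k)
    exact ⟨s, hs.trans (hσ k), by rw [hb', hb]; exact h⟩
  choose σ' hσ' hφσ' using hσ'
  obtain ⟨τ, hτ, hmem⟩ := conormalSect_mem_smul_top f j hW q _ hc
  have hτ' : τ = ∑ k, c k • σ' k := by
    apply OmegaCnC.idealSect_injective (j ≫ f) W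
    rw [hτ, map_sum]
    refine Finset.sum_congr rfl fun k _ => ?_
    rw [OmegaCnC.idealSect_smul, hσ']
  let cbar : Fin m → Γ(Y', j ⁻¹ᵁ (f ⁻¹ᵁ W)) := fun k => (j ≫ f).app W (c k)
  let q' : Ideal Γ(Y', j ⁻¹ᵁ (f ⁻¹ᵁ W)) := q.map ((j ≫ f).app W).hom
  have hsum : conormalSect (j ≫ f) W τ =
      φ₁.app (j ⁻¹ᵁ (f ⁻¹ᵁ W)) (∑ k, cbar k • b' k) := by
    rw [hτ', map_sum, map_sum]
    refine Finset.sum_congr rfl fun k _ => ?_
    rw [OmegaCnG.conormalSect_smul, Scheme.Hom.appLE_eq_app, Scheme.Modules.Hom.app_smul, hφσ']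
  have h6 : ∑ k, cbar k • b' k ∈
      q' • (⊤ : Submodule Γ(Y', j ⁻¹ᵁ (f ⁻¹ᵁ W))
        Γ((Scheme.Modules.pullback j).obj (Omega.conormal f), j ⁻¹ᵁ (f ⁻¹ᵁ W))) := by
    have := CnSplitA.map_mem_of_mem_smul_top ρ₀ _ _ hmem
    rwa [hsum, hρ₀] at this
  have h7 := CnSplitA.coeff_mem_of_sum_mem_smul_top b' _ _ h6
  have hsurjc : Function.Surjective ((j ≫ f).app W).hom := by
    intro t
    obtain ⟨b₀, hb₀⟩ := hsj t
    obtain ⟨a', ha'⟩ := hsf b₀
    refine ⟨a', ?_⟩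
    change j.app (f ⁻¹ᵁ W) (f.app W a') = t
    rw [ha', hb₀]
  intro k
  obtain ⟨y, hy, hyc⟩ := (Ideal.mem_map_iff_of_surjective _ hsurjc).1 (h7 k)
  have h9 : c k - y ∈ RingHom.ker ((j ≫ f).app W).hom := by
    rw [RingHom.mem_ker, map_sub, hyc, sub_self]
  have := q.add_mem (hq h9) hy
  simpa using this

end FI

end Groth.Agent.Lead.CnSplitB
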