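import Groth.Agent.Lead.CnSplitB
import Mathlib

set_option autoImplicit false
set_option backward.isDefEq.respectTransparency false
set_option backward.isDefEq.respectTransparency.types false
open CategoryTheory CategoryTheory.Limits AlgebraicGeometry Opposite TopologicalSpace
universe u

namespace Groth.Agent.Lead.CnSplitC

open Scheme.Modules OmegaSh Groth.Agent.Lead Groth.Agent.Helper4 Groth.Agent.Lead.BCMap

/-- a retraction of the restriction of `φ` to an open `U` gives linear retractions on sections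
over opens contained in `U` -/
theorem exists_retraction_sections {Z : Scheme.{u}} {M N : Z.Modules} (φ : M ⟶ N) (U : Z.Opens)
    (ρ : (restrictFunctor U.ι).obj N ⟶ (restrictFunctor U.ι).obj M)
    (hρ : (restrictFunctor U.ι).map φ ≫ ρ = 𝟙 _) (V₀ : Z.Opens) (hV₀ : V₀ ≤ U) :
    ∃ (V₁ : Z.Opens) (_ : V₁ = V₀) (ρ₀ : Γ(N, V₁) →ₗ[Γ(Z, V₁)] Γ(M, V₁)),
      ∀ x, ρ₀ (φ.app V₁ x) = x := by
  refine ⟨U.ι ''ᵁ (U.ι ⁻¹ᵁ V₀), ?_, ?_⟩
  · rw [Scheme.Hom.image_preimage_eq_opensRange_inf, Scheme.Opens.opensRange_ι]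
    exact inf_eq_right.2 hV₀
  · refine ⟨{ toFun := fun x => ρ.app (U.ι ⁻¹ᵁ V₀) x
              map_add' := fun x y => map_add _ x y
              map_smul' := ?_ }, ?_⟩
    · intro r x
      have h1 := Scheme.Modules.Hom.app_smul ρ ((U.ι.appIso (U.ι ⁻¹ᵁ V₀)).hom r) x
      have h2 : (U.ι.appIso (U.ι ⁻¹ᵁ V₀)).inv ((U.ι.appIso (U.ι ⁻¹ᵁ V₀)).hom r) = r := by
        simp
        rfl
      have h3 : ∀ (K : Z.Modules) (y : Γ(K, U.ι ''ᵁ (U.ι ⁻¹ᵁ V₀))),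
          (((U.ι.appIso (U.ι ⁻¹ᵁ V₀)).hom r) •
            (show Γ(K.restrict U.ι, U.ι ⁻¹ᵁ V₀) from y) : Γ(K.restrict U.ι, U.ι ⁻¹ᵁ V₀)) =
            (r • y : Γ(K, U.ι ''ᵁ (U.ι ⁻¹ᵁ V₀))) := by
        intro K y
        have h4 : (((U.ι.appIso (U.ι ⁻¹ᵁ V₀)).hom r) •
            (show Γ(K.restrict U.ι, U.ι ⁻¹ᵁ V₀) from y) : Γ(K.restrict U.ι, U.ι ⁻¹ᵁ V₀)) =
            (((U.ι.appIso (U.ι ⁻¹ᵁ V₀)).inv ((U.ι.appIso (U.ι ⁻¹ᵁ V₀)).hom r)) • y :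
              Γ(K, U.ι ''ᵁ (U.ι ⁻¹ᵁ V₀))) := rfl
        rw [h4, h2]
      have h5 := h3 N x
      have h6 := h3 M (ρ.app (U.ι ⁻¹ᵁ V₀) x)
      simp only [RingHom.id_apply]
      exact (congrArg (fun t => ρ.app (U.ι ⁻¹ᵁ V₀) t) h5.symm).trans (h1.trans h6)
    · intro x
      have := congrArg (fun g => g.app (U.ι ⁻¹ᵁ V₀) x) hρ
      exact this

end Groth.Agent.Lead.CnSplitC
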