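import Groth.Agent.Lead.CnMapC
import Groth.Agent.Lead.CnSplitD
import Groth.Agent.Helper1.SerreFin1
import Groth.Agent.Helper1.EpiDesc
import Mathlib

set_option autoImplicit false
set_option backward.isDefEq.respectTransparency false
set_option backward.isDefEq.respectTransparency.types false
open CategoryTheory CategoryTheory.Limits AlgebraicGeometry Opposite TopologicalSpace
universe u

namespace Groth.Agent.Lead.CnSumA

open Scheme.Modules OmegaSh Groth.Agent.Helper4 Groth.Agent.Lead.BCMap

/-- a surjection onto a free module of rank `n` from a module generated by `n` elements is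
injective -/
theorem injective_of_span {B : Type u} [CommRing B] {P N : Type u} [AddCommGroup P] [Module B P]
    [AddCommGroup N] [Module B N] (Ψ : P →ₗ[B] N) (hΨ : Function.Surjective Ψ)
    {ι : Type} [Fintype ι] (v : ι → P) (hv : ⊤ ≤ Submodule.span B (Set.range v)) {n : ℕ}
    (b : Module.Basis (Fin n) B N) (hcard : Fintype.card ι = n) : Function.Injective Ψ := by
  rcases subsingleton_or_nontrivial B with hB | hB
  · haveI : Subsingleton P := Module.subsingleton B P
    exact Function.injective_of_subsingleton _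
  haveI : Module.Free B N := Module.Free.of_basis b
  haveI : Module.Finite B N := Module.Finite.of_basis b
  have hspan : ⊤ ≤ Submodule.span B (Set.range (Ψ ∘ v)) := by
    rw [Set.range_comp, ← Submodule.map_span, top_le_iff]
    rw [top_le_iff] at hv
    rw [hv, Submodule.map_top, LinearMap.range_eq_top]
    exact hΨ
  have hfr : Fintype.card ι = Module.finrank B N := by
    rw [Module.finrank_eq_card_basis b, Fintype.card_fin, hcard]
  have hli : LinearIndependent B (Ψ ∘ v) :=
    linearIndependent_of_top_le_span_of_card_eq_finrank hspan hfr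
  rw [injective_iff_map_eq_zero]
  intro p hp
  have hp' : p ∈ Submodule.span B (Set.range v) := hv Submodule.mem_top
  obtain ⟨c, rfl⟩ := (Submodule.mem_span_range_iff_exists_fun B).1 hp'
  rw [map_sum] at hp
  have h0 : ∀ k, c k = 0 := by
    have := Fintype.linearIndependent_iff.1 hli c
    apply this
    rw [← hp]
    refine Finset.sum_congr rfl fun k _ => ?_
    rw [LinearMap.map_smul]
    rfl
  refine Finset.sum_eq_zero fun k _ => ?_
  rw [h0 k, zero_smul]

theorem exists_fin_of_list {A : Type u} [CommRing A] (l : List A) (d : ℕ) (h : l.length = d)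
    (hl : CAlgX.IsQuasiRegular l.get) :
    ∃ rs : Fin d → A, CAlgX.IsQuasiRegular rs ∧ Set.range rs = {a | a ∈ l} := by
  subst h
  exact ⟨l.get, hl, Set.range_list_get l⟩

variable {Z X : Scheme.{u}}

/-- generators of the ideal of a Koszul-regular closed immersion on all small affine opens -/
theorem exists_gens (j : Z ⟶ X) [IsClosedImmersion j] {d : ℕ}
    (hj : RegImm.IsRegularImmersionOfCodim RegImm.Kind.koszul d j) (z : Z) :
    ∃ U : X.Opens, j z ∈ U ∧ ∀ W : X.Opens, IsAffineOpen W → W ≤ U →
      ∃ rs : Fin d → Γ(X, W), CAlgX.IsQuasiRegular rs ∧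
        RingHom.ker (j.app W).hom = Ideal.span (Set.range rs) := by
  obtain ⟨U, hzU, hcl, rs, hlen, hrs, hker⟩ := hj.2 z
  refine ⟨U.1, hzU, fun W hW hWU => ?_⟩
  haveI := hcl
  obtain ⟨-, hrs', hker'⟩ := KoszulGeoB.koszul_restrict j U.2 hW hWU rs hrs hker
  have hqr := Groth.Agent.S2103.result _
    (KoszulH1.isH1Regular_of_isKoszulRegularSeq _ hrs')
  obtain ⟨rs', hrs'', hrange⟩ := exists_fin_of_list _ d (by rw [List.length_map, hlen]) hqr
  refine ⟨rs', hrs'', ?_⟩
  rw [hker', hrange]


/-- the conormal sheaf of a closed immersion with quasi-regular generators is free over the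
chart -/
theorem exists_basis (j : Z ⟶ X) [IsClosedImmersion j] {W : X.Opens} (hW : IsAffineOpen W)
    {d : ℕ} (rs : Fin d → Γ(X, W)) (hrs : CAlgX.IsQuasiRegular rs)
    (hker : RingHom.ker (j.app W).hom = Ideal.span (Set.range rs)) :
    Nonempty (Module.Basis (Fin d) Γ(Z, j ⁻¹ᵁ W) Γ(Omega.conormal j, j ⁻¹ᵁ W)) := by
  haveI : IsClosedImmersion (j ∣_ W) := inferInstance
  obtain ⟨hO, hsurj⟩ := H1RegB.affine_of_restrict_closed j hW
  have hσ : ∀ k, ∃ σ : Γ(ClSub.idealMod j.ker, W), idealSect j.ker W σ = rs k := fun k =>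
    OmegaCnB.exists_idealSect j hW _ (RingHom.mem_ker.1
      (by rw [hker]; exact Ideal.subset_span ⟨k, rfl⟩))
  choose σ hσ using hσ
  obtain ⟨b, -⟩ := CnSplitB.conormal_basis j hW hO hsurj rs hrs hker σ hσ
  exact ⟨b⟩

/-- a spanning family of the sections of the pulled-back conormal sheaf -/
theorem exists_span_pullback {Y : Scheme.{u}} (g : Y ⟶ Z) (j : Z ⟶ X) [IsClosedImmersion j]
    {W : X.Opens} {d : ℕ}
    (b : Module.Basis (Fin d) Γ(Z, j ⁻¹ᵁ W) Γ(Omega.conormal j, j ⁻¹ᵁ W))
    (hO : IsAffineOpen (j ⁻¹ᵁ W)) (V : Y.Opens) (hV : V = g ⁻¹ᵁ (j ⁻¹ᵁ W))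
    (hVa : IsAffineOpen V) :
    ∃ v : Fin d → Γ((Scheme.Modules.pullback g).obj (Omega.conormal j), V),
      ⊤ ≤ Submodule.span Γ(Y, V) (Set.range v) := by
  subst hV
  haveI : (Omega.conormal j).IsQuasicoherent :=
    StalkPull.isQuasicoherent_pullbackObj j (ClSub.idealMod j.ker)
  obtain ⟨b', -⟩ := CnSplitB.pullback_basis g (Omega.conormal j) hO hVa b
  exact ⟨b', b'.span_eq.ge⟩

end Groth.Agent.Lead.CnSumA
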