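import Groth.Agent.Lead.CnSumA
import Mathlib

set_option autoImplicit false
set_option backward.isDefEq.respectTransparency false
set_option backward.isDefEq.respectTransparency.types false
open CategoryTheory CategoryTheory.Limits AlgebraicGeometry Opposite TopologicalSpace
universe u

namespace Groth.Agent.Lead.CnSumB

open Scheme.Modules OmegaSh Groth.Agent.Helper4 Groth.Agent.Lead.BCMap

variable {X Y : Scheme.{u}} {r : ℕ} {Xs : Fin r → Scheme.{u}} (j : ∀ l, Xs l ⟶ X)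
  [∀ l, IsClosedImmersion (j l)] (i : Y ⟶ X) [IsClosedImmersion i]
  (hY : ∀ U : X.affineOpens, i.ker.ideal U = ⨆ l, (j l).ker.ideal U)
  (g : ∀ l, Y ⟶ Xs l) (hg : ∀ l, g l ≫ j l = i)

/-- the summands -/
noncomputable abbrev F (l : Fin r) : Y.Modules :=
  (Scheme.Modules.pullback (g l)).obj (Omega.conormal (j l))

include hg in
omit [∀ l, IsClosedImmersion (j l)] [IsClosedImmersion i] in
theorem hsq (l : Fin r) : g l ≫ j l = i ≫ 𝟙 X := by rw [hg l, Category.comp_id]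

/-- the canonical maps of conormal sheaves -/
noncomputable def phi (l : Fin r) : F j g l ⟶ Omega.conormal i :=
  CnMapA.phi i (j l) (𝟙 X) (g l) (hsq j i g hg l)

theorem hphi (l : Fin r) : IsConormalMap i (j l) (𝟙 X) (g l) (phi j i g hg l) :=
  CnMapA.isConormalMap_phi i (j l) (𝟙 X) (g l) (hsq j i g hg l)

include hY in
/-- every section of the conormal sheaf of the intersection over a chart is a sum of images -/
theorem surj_chart {W : X.Opens} (hW : IsAffineOpen W) (t : Γ(Omega.conormal i, i ⁻¹ᵁ W)) :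
    ∃ xs : ∀ l, Γ(F j g l, i ⁻¹ᵁ W), t = ∑ l, (phi j i g hg l).app (i ⁻¹ᵁ W) (xs l) := by
  haveI : IsClosedImmersion (i ∣_ W) := inferInstance
  obtain ⟨hO, hsurj⟩ := H1RegB.affine_of_restrict_closed i hW
  obtain ⟨σ, hσ⟩ := OmegaCnH.exists_conormalSect i hW hO hsurj t
  have hmem : idealSect i.ker W σ ∈ ⨆ l, (j l).ker.ideal ⟨W, hW⟩ := by
    rw [← hY ⟨W, hW⟩, Scheme.Hom.ker_apply]
    exact OmegaCnB.app_idealSect i hW σ
  have key : ∀ x ∈ ⨆ l, (j l).ker.ideal ⟨W, hW⟩,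
      ∃ (τ : Γ(ClSub.idealMod i.ker, W)) (xs : ∀ l, Γ(F j g l, i ⁻¹ᵁ W)),
        idealSect i.ker W τ = x ∧
          conormalSect i W τ = ∑ l, (phi j i g hg l).app (i ⁻¹ᵁ W) (xs l) := by
    intro x hx
    refine Submodule.iSup_induction (fun l => (j l).ker.ideal ⟨W, hW⟩)
      (motive := fun x => ∃ (τ : Γ(ClSub.idealMod i.ker, W)) (xs : ∀ l, Γ(F j g l, i ⁻¹ᵁ W)),
        idealSect i.ker W τ = x ∧
          conormalSect i W τ = ∑ l, (phi j i g hg l).app (i ⁻¹ᵁ W) (xs l)) hx ?_ ?_ ?_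
    · intro l x hx
      rw [Scheme.Hom.ker_apply] at hx
      obtain ⟨s', hs'⟩ := OmegaCnB.exists_idealSect (j l) hW x hx
      have e : W ≤ (𝟙 X) ⁻¹ᵁ W := le_rfl
      obtain ⟨τ, hτ, h⟩ := CnMapB.cmap_affine i (j l) (𝟙 X) (g l) (phi j i g hg l)
        (hphi j i g hg l) e s'
      refine ⟨τ, Pi.single l (pbSec (g l) (Omega.conormal (j l)) ((j l) ⁻¹ᵁ W) (i ⁻¹ᵁ W)
        (CnMapB.le_pre' i (j l) (𝟙 X) (g l) (phi j i g hg l) (hphi j i g hg l) e)
        (conormalSect (j l) W s')), ?_, ?_⟩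
      · rw [hτ, hs', OmegaCnD.appLE_eq_self (𝟙 X) rfl W e x]
      · rw [← h, Finset.sum_eq_single l]
        · rw [Pi.single_eq_same]
        · intro l' _ hl'
          rw [Pi.single_eq_of_ne hl', map_zero]
        · intro h0
          exact absurd (Finset.mem_univ _) h0
    · refine ⟨0, 0, map_zero _, ?_⟩
      rw [map_zero]
      refine (Finset.sum_eq_zero fun l _ => ?_).symm
      rw [Pi.zero_apply, map_zero]
    · intro x y hx hy
      obtain ⟨τ₁, xs₁, h₁, h₁'⟩ := hx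
      obtain ⟨τ₂, xs₂, h₂, h₂'⟩ := hy
      refine ⟨τ₁ + τ₂, xs₁ + xs₂, by rw [map_add, h₁, h₂], ?_⟩
      rw [map_add, h₁', h₂', ← Finset.sum_add_distrib]
      refine Finset.sum_congr rfl fun l _ => ?_
      rw [Pi.add_apply, map_add]
  obtain ⟨τ, xs, hτ, hxs⟩ := key _ hmem
  have hτσ : τ = σ := OmegaCnC.idealSect_injective i W hτ
  exact ⟨xs, by rw [← hσ, ← hτσ, hxs]⟩


/-- the sum of the canonical maps -/
noncomputable def Psi : (∐ fun l => F j g l) ⟶ Omega.conormal i := Sigma.desc (phi j i g hg)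

theorem Psi_app_sum {V : Y.Opens} (xs : ∀ l, Γ(F j g l, V)) :
    (Psi j i g hg).app V (∑ l, (Sigma.ι (fun l => F j g l) l).app V (xs l)) =
      ∑ l, (phi j i g hg l).app V (xs l) := by
  rw [map_sum]
  refine Finset.sum_congr rfl (fun l _ => ?_)
  have h1 : (Sigma.ι (fun l => F j g l) l ≫ Psi j i g hg).app V = (phi j i g hg l).app V := by
    unfold Psi
    rw [Sigma.ι_desc]
  rw [← h1]
  rfl

include hY in
theorem epi_Psi : Epi (Psi j i g hg) := by
  haveI : (Omega.conormal i).IsQuasicoherent :=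
    StalkPull.isQuasicoherent_pullbackObj i (ClSub.idealMod i.ker)
  unfold Psi
  apply Groth.Agent.Helper1.EpiDesc.epi_sigmaDesc
  intro y
  obtain ⟨W, hW, hyW⟩ := QcohLimits.exists_affine_nhd (i y)
  haveI : IsClosedImmersion (i ∣_ W) := inferInstance
  obtain ⟨hO, -⟩ := H1RegB.affine_of_restrict_closed i hW
  exact ⟨i ⁻¹ᵁ W, hO, hyW, fun t => surj_chart j i hY g hg hW t⟩

theorem decomp {V : Y.Opens} (x : Γ(∐ fun l => F j g l, V)) :
    x = ∑ l, (Sigma.ι (fun l => F j g l) l).app V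
      ((Groth.Agent.Helper1.HHSum.proj (fun l => F j g l) l).app V x) := by
  have h1 : (∑ l, Groth.Agent.Helper1.HHSum.proj (fun l => F j g l) l ≫
      Sigma.ι (fun l => F j g l) l).app V x =
      (𝟙 (∐ fun l => F j g l) : (∐ fun l => F j g l) ⟶ ∐ fun l => F j g l).app V x :=
    congrArg (fun φ => (Scheme.Modules.Hom.app φ V) x)
      (Groth.Agent.Helper1.HHSum.sum_proj_ι (fun l => F j g l))
  rw [Groth.Agent.Helper1.SerreFin.sum_app_apply] at h1
  exact h1.symm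


variable (d : Fin r → ℕ)
  (hj : ∀ l, RegImm.IsRegularImmersionOfCodim RegImm.Kind.koszul (d l) (j l))
  (hi : RegImm.IsRegularImmersionOfCodim RegImm.Kind.koszul (∑ l, d l) i)

include hY hj hi in
theorem mono_Psi : Mono (Psi j i g hg) := by
  haveI : (Omega.conormal i).IsQuasicoherent :=
    StalkPull.isQuasicoherent_pullbackObj i (ClSub.idealMod i.ker)
  haveI : (∐ fun l => F j g l).IsQuasicoherent :=
    Groth.Agent.Helper1.SerreFin.isQuasicoherent_sigma_fin _ (fun l => by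
      haveI : (Omega.conormal (j l)).IsQuasicoherent :=
        StalkPull.isQuasicoherent_pullbackObj (j l) (ClSub.idealMod (j l).ker)
      exact StalkPull.isQuasicoherent_pullbackObj (g l) _)
  apply QcohLocal.mono_of_app_injective_of_affine_cover
  intro y
  have hpt : ∀ l, (j l) (g l y) = i y := by
    intro l
    have := congrArg (fun f : Y ⟶ X => f y) (hg l)
    exact this
  obtain ⟨U₀, hyU₀, hU₀⟩ := CnSumA.exists_gens i hi y
  choose Us hyUs hUs using fun l => CnSumA.exists_gens (j l) (hj l) (g l y)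
  have hopen : IsOpen ((U₀ : Set X) ∩ ⋂ l, (Us l : Set X)) :=
    U₀.isOpen.inter (isOpen_iInter_of_finite fun l => (Us l).isOpen)
  have hmem : i y ∈ (U₀ : Set X) ∩ ⋂ l, (Us l : Set X) := by
    refine ⟨hyU₀, Set.mem_iInter.2 fun l => ?_⟩
    rw [← hpt l]
    exact hyUs l
  obtain ⟨_, ⟨W, hW : IsAffineOpen W, rfl⟩, hyW, hWsub⟩ :=
    X.isBasis_affineOpens.exists_subset_of_mem_open hmem hopen
  have hW₀ : W ≤ U₀ := fun x hx => (hWsub hx).1
  have hWl : ∀ l, W ≤ Us l := fun l x hx => Set.mem_iInter.1 (hWsub hx).2 l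
  obtain ⟨rs₀, hrs₀, hker₀⟩ := hU₀ W hW hW₀
  obtain ⟨b₀⟩ := CnSumA.exists_basis i hW rs₀ hrs₀ hker₀
  haveI : IsClosedImmersion (i ∣_ W) := inferInstance
  obtain ⟨hO, -⟩ := H1RegB.affine_of_restrict_closed i hW
  refine ⟨i ⁻¹ᵁ W, hO, hyW, ?_⟩
  -- spanning families of the summands
  have hvl : ∀ l, ∃ v : Fin (d l) → Γ(F j g l, i ⁻¹ᵁ W),
      ⊤ ≤ Submodule.span Γ(Y, i ⁻¹ᵁ W) (Set.range v) := by
    intro l
    obtain ⟨rs, hrs, hker⟩ := hUs l W hW (hWl l)
    obtain ⟨b⟩ := CnSumA.exists_basis (j l) hW rs hrs hker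
    haveI : IsClosedImmersion ((j l) ∣_ W) := inferInstance
    obtain ⟨hOl, -⟩ := H1RegB.affine_of_restrict_closed (j l) hW
    exact CnSumA.exists_span_pullback (g l) (j l) b hOl (i ⁻¹ᵁ W)
      (by rw [← Scheme.Hom.comp_preimage, hg l]) hO
  choose vl hvl using hvl
  let v : (Σ l : Fin r, Fin (d l)) → Γ(∐ fun l => F j g l, i ⁻¹ᵁ W) := fun p =>
    (Sigma.ι (fun l => F j g l) p.1).app (i ⁻¹ᵁ W) (vl p.1 p.2)
  have hv : ⊤ ≤ Submodule.span Γ(Y, i ⁻¹ᵁ W) (Set.range v) := by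
    intro x _
    rw [decomp j g x]
    refine Submodule.sum_mem _ fun l _ => ?_
    have h1 : (Groth.Agent.Helper1.HHSum.proj (fun l => F j g l) l).app (i ⁻¹ᵁ W) x ∈
        Submodule.span Γ(Y, i ⁻¹ᵁ W) (Set.range (vl l)) := hvl l Submodule.mem_top
    obtain ⟨c, hc⟩ := (Submodule.mem_span_range_iff_exists_fun _).1 h1
    rw [← hc, map_sum]
    refine Submodule.sum_mem _ fun k _ => ?_
    rw [Scheme.Modules.Hom.app_smul]
    exact Submodule.smul_mem _ _ (Submodule.subset_span ⟨⟨l, k⟩, rfl⟩)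
  let ΨL : Γ(∐ fun l => F j g l, i ⁻¹ᵁ W) →ₗ[Γ(Y, i ⁻¹ᵁ W)] Γ(Omega.conormal i, i ⁻¹ᵁ W) :=
    { toFun := (Psi j i g hg).app (i ⁻¹ᵁ W)
      map_add' := map_add _
      map_smul' := fun b p => Scheme.Modules.Hom.app_smul (Psi j i g hg) b p }
  have hsurj : Function.Surjective ΨL := by
    intro t
    obtain ⟨xs, hxs⟩ := surj_chart j i hY g hg hW t
    exact ⟨_, (Psi_app_sum j i g hg xs).trans hxs.symm⟩
  have hcard : Fintype.card (Σ l : Fin r, Fin (d l)) = ∑ l, d l := by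
    rw [Fintype.card_sigma]
    exact Finset.sum_congr rfl fun l _ => Fintype.card_fin _
  exact CnSumA.injective_of_span ΨL hsurj v hv b₀ hcard

include hY hj hi hg in
theorem main : Nonempty (Omega.conormal i ≅
    ∐ fun l => (Scheme.Modules.pullback (g l)).obj (Omega.conormal (j l))) := by
  haveI := epi_Psi j i hY g hg
  haveI := mono_Psi j i hY g hg d hj hi
  haveI : IsIso (Psi j i g hg) := isIso_of_mono_of_epi _
  exact ⟨(asIso (Psi j i g hg)).symm⟩

end Groth.Agent.Lead.CnSumB
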