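import Groth.Agent.Lead.HomGlueB
import Groth.Agent.Lead.SchDescent4
import Groth.Agent.S2074
import Groth.Agent.S0086
import Mathlib
open CategoryTheory Limits AlgebraicGeometry TopologicalSpace Opposite

namespace Groth.Agent.Lead.ComplNhd
universe u

open Groth.Agent.Lead.HomGlueB

/-- Proper over the local ring at `s` ⇒ proper over a neighbourhood of `s`. -/
theorem exists_nhd_of_stalk {S X Y : Scheme.{u}} (f : X ⟶ Y) (g : Y ⟶ S)
    [QuasiCompact g] [QuasiSeparated g] [QuasiCompact f] [QuasiSeparated f] [LocallyOfFiniteType f]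
    (s : S) (hA : IsProper (pullback.snd f (pullback.fst g (S.fromSpecStalk s)))) :
    ∃ W : S.Opens, s ∈ W ∧ IsProper (f ∣_ (g ⁻¹ᵁ W)) := by
  obtain ⟨hc⟩ := cone_isLimit s
  obtain ⟨V₀⟩ := (inferInstance : Nonempty (Nb s))
  haveI : CompactSpace ↥(pullback g (fs s V₀) : Scheme.{u}) :=
    QuasiCompact.compactSpace_of_compactSpace (pullback.snd g (fs s V₀))
  haveI : QuasiSeparatedSpace ↥(pullback g (fs s V₀) : Scheme.{u}) :=
    quasiSeparatedSpace_of_quasiSeparated (pullback.snd g (fs s V₀))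
  haveI : CompactSpace ↥(pullback f (pullback.fst g (fs s V₀)) : Scheme.{u}) :=
    QuasiCompact.compactSpace_of_compactSpace (pullback.snd f (pullback.fst g (fs s V₀)))
  haveI : QuasiSeparatedSpace ↥(pullback f (pullback.fst g (fs s V₀)) : Scheme.{u}) :=
    quasiSeparatedSpace_of_quasiSeparated (pullback.snd f (pullback.fst g (fs s V₀)))
  -- the comparison maps
  obtain ⟨π₀, hπ₀def⟩ : ∃ π₀ : Spec (S.presheaf.stalk s) ⟶ (D s).obj V₀, π₀ = (cone s).π.app V₀ :=
    ⟨_, rfl⟩
  have hπ₀ : π₀ ≫ fs s V₀ = S.fromSpecStalk s := by rw [hπ₀def]; exact cone_π_fs s V₀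
  let qY : pullback g (S.fromSpecStalk s) ⟶ pullback g (fs s V₀) :=
    pullback.lift (pullback.fst g _) (pullback.snd g _ ≫ π₀)
      (by rw [pullback.condition, Category.assoc, hπ₀])
  have hqY1 : qY ≫ pullback.fst g (fs s V₀) = pullback.fst g _ := pullback.lift_fst _ _ _
  have hqY2 : qY ≫ pullback.snd g (fs s V₀) = pullback.snd g _ ≫ π₀ :=
    pullback.lift_snd _ _ _
  have hY : IsPullback qY (pullback.snd g (S.fromSpecStalk s)) (pullback.snd g (fs s V₀))
      π₀ := by
    refine IsPullback.of_right ?_ hqY2 (IsPullback.of_hasPullback g (fs s V₀))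
    rw [hqY1, hπ₀]
    exact IsPullback.of_hasPullback g _
  let qX : pullback f (pullback.fst g (S.fromSpecStalk s)) ⟶ pullback f (pullback.fst g (fs s V₀)) :=
    pullback.lift (pullback.fst f _) (pullback.snd f _ ≫ qY)
      (by rw [pullback.condition, Category.assoc, hqY1])
  have hqX1 : qX ≫ pullback.fst f (pullback.fst g (fs s V₀)) = pullback.fst f _ :=
    pullback.lift_fst _ _ _
  have hqX2 : qX ≫ pullback.snd f (pullback.fst g (fs s V₀)) = pullback.snd f _ ≫ qY :=
    pullback.lift_snd _ _ _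
  have hX : IsPullback qX (pullback.snd f (pullback.fst g (S.fromSpecStalk s)))
      (pullback.snd f (pullback.fst g (fs s V₀))) qY := by
    refine IsPullback.of_right ?_ hqX2 (IsPullback.of_hasPullback f (pullback.fst g (fs s V₀)))
    rw [hqX1, hqY1]
    exact IsPullback.of_hasPullback f _
  obtain ⟨i, φ, Xi, Yi, fi, gi, pY, pX, h1, h2, h3⟩ := Groth.Agent.S2074.result (D s) (cone s) hc V₀
    (pullback.snd f (pullback.fst g (fs s V₀))) (pullback.snd g (fs s V₀))
    (pullback.snd f (pullback.fst g (S.fromSpecStalk s))) (pullback.snd g (S.fromSpecStalk s))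
    qY qX (by rw [← hπ₀def]; exact hY) hX
  refine ⟨i.1, i.mem, ?_⟩
  have hjY : IsPullback (pY ≫ pullback.fst g (fs s V₀)) gi g (fs s i) := by
    have := h1.paste_horiz (IsPullback.of_hasPullback g (fs s V₀))
    rwa [D_map_fs] at this
  have hjX : IsPullback (pX ≫ pullback.fst f (pullback.fst g (fs s V₀))) fi f
      (pY ≫ pullback.fst g (fs s V₀)) :=
    h2.paste_horiz (IsPullback.of_hasPullback f (pullback.fst g (fs s V₀)))
  haveI : IsOpenImmersion (pY ≫ pullback.fst g (fs s V₀)) :=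
    MorphismProperty.of_isPullback (P := @IsOpenImmersion) hjY.flip inferInstance
  have hr : Set.range (pY ≫ pullback.fst g (fs s V₀)) = g ⁻¹' (i.1 : Set S) := by
    rw [SchDescent4.range_fst_of_isPullback hjY, range_fs]
  have hle : Set.range (g ⁻¹ᵁ i.1).ι ⊆ Set.range (pY ≫ pullback.fst g (fs s V₀)) := by
    rw [hr, Scheme.Opens.range_ι]
    rfl
  let e : (g ⁻¹ᵁ i.1).toScheme ⟶ Yi := IsOpenImmersion.lift (pY ≫ pullback.fst g (fs s V₀))
    (g ⁻¹ᵁ i.1).ι hle
  have he : e ≫ (pY ≫ pullback.fst g (fs s V₀)) = (g ⁻¹ᵁ i.1).ι := IsOpenImmersion.lift_fac _ _ _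
  have hres := (isPullback_morphismRestrict f (g ⁻¹ᵁ i.1)).flip
  let e' : (f ⁻¹ᵁ (g ⁻¹ᵁ i.1)).toScheme ⟶ Xi :=
    hjX.lift (f ⁻¹ᵁ (g ⁻¹ᵁ i.1)).ι (f ∣_ (g ⁻¹ᵁ i.1) ≫ e) (by rw [Category.assoc, he, hres.w])
  have he'1 : e' ≫ (pX ≫ pullback.fst f (pullback.fst g (fs s V₀))) = (f ⁻¹ᵁ (g ⁻¹ᵁ i.1)).ι :=
    hjX.lift_fst _ _ _
  have he'2 : e' ≫ fi = f ∣_ (g ⁻¹ᵁ i.1) ≫ e := hjX.lift_snd _ _ _
  have sq : IsPullback e' (f ∣_ (g ⁻¹ᵁ i.1)) fi e := by
    refine IsPullback.of_right ?_ he'2 hjX
    rw [he'1, he]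
    exact hres
  exact MorphismProperty.of_isPullback (P := @IsProper) sq h3

/-- Proper after base change to the completion of the local ring ⇒ proper over the local ring. -/
theorem isProper_of_completion {S X Y : Scheme.{u}} [IsLocallyNoetherian S] (f : X ⟶ Y) (g : Y ⟶ S)
    (s : S)
    (hR : IsProper (pullback.snd f (pullback.fst g
      (Spec.map (CommRingCat.ofHom (algebraMap (S.presheaf.stalk s)
        (AdicCompletion (IsLocalRing.maximalIdeal (S.presheaf.stalk s)) (S.presheaf.stalk s)))) ≫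
        S.fromSpecStalk s)))) :
    IsProper (pullback.snd f (pullback.fst g (S.fromSpecStalk s))) := by
  set φ : Spec (CommRingCat.of (AdicCompletion (IsLocalRing.maximalIdeal (S.presheaf.stalk s))
      (S.presheaf.stalk s))) ⟶ Spec (S.presheaf.stalk s) :=
    Spec.map (CommRingCat.ofHom (algebraMap (S.presheaf.stalk s)
        (AdicCompletion (IsLocalRing.maximalIdeal (S.presheaf.stalk s)) (S.presheaf.stalk s)))) with hφ
  haveI : Module.FaithfullyFlat (S.presheaf.stalk s)
      (AdicCompletion (IsLocalRing.maximalIdeal (S.presheaf.stalk s)) (S.presheaf.stalk s)) :=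
    Module.FaithfullyFlat.of_flat_of_isLocalHom
  have : Flat φ := by
    rw [hφ, HasRingHomProperty.Spec_iff (P := @Flat)]
    exact RingHom.flat_algebraMap_iff.mpr inferInstance
  have : Surjective φ := by
    refine ⟨?_⟩
    exact PrimeSpectrum.comap_surjective_of_faithfullyFlat
      (A := S.presheaf.stalk s)
      (B := AdicCompletion (IsLocalRing.maximalIdeal (S.presheaf.stalk s)) (S.presheaf.stalk s))
  let ψ : pullback g (φ ≫ S.fromSpecStalk s) ⟶ pullback g (S.fromSpecStalk s) :=
    pullback.lift (pullback.fst g _) (pullback.snd g _ ≫ φ)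
      (by rw [pullback.condition, Category.assoc])
  have hψ1 : ψ ≫ pullback.fst g (S.fromSpecStalk s) = pullback.fst g _ := pullback.lift_fst _ _ _
  have hψ2 : ψ ≫ pullback.snd g (S.fromSpecStalk s) = pullback.snd g _ ≫ φ :=
    pullback.lift_snd _ _ _
  have hψ : IsPullback ψ (pullback.snd g (φ ≫ S.fromSpecStalk s))
      (pullback.snd g (S.fromSpecStalk s)) φ := by
    refine IsPullback.of_right ?_ hψ2 (IsPullback.of_hasPullback g (S.fromSpecStalk s))
    rw [hψ1]
    exact IsPullback.of_hasPullback g _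
  have : Flat ψ := MorphismProperty.of_isPullback (P := @Flat) hψ.flip inferInstance
  have : Surjective ψ := MorphismProperty.of_isPullback (P := @Surjective) hψ.flip inferInstance
  have : QuasiCompact ψ := MorphismProperty.of_isPullback (P := @QuasiCompact) hψ.flip inferInstance
  let χ : pullback f (pullback.fst g (φ ≫ S.fromSpecStalk s)) ⟶
      pullback f (pullback.fst g (S.fromSpecStalk s)) :=
    pullback.lift (pullback.fst f _) (pullback.snd f _ ≫ ψ)
      (by rw [pullback.condition, Category.assoc, hψ1])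
  have hχ1 : χ ≫ pullback.fst f (pullback.fst g (S.fromSpecStalk s)) = pullback.fst f _ :=
    pullback.lift_fst _ _ _
  have hχ2 : χ ≫ pullback.snd f (pullback.fst g (S.fromSpecStalk s)) = pullback.snd f _ ≫ ψ :=
    pullback.lift_snd _ _ _
  have hχ : IsPullback χ (pullback.snd f (pullback.fst g (φ ≫ S.fromSpecStalk s)))
      (pullback.snd f (pullback.fst g (S.fromSpecStalk s))) ψ := by
    refine IsPullback.of_right ?_ hχ2 (IsPullback.of_hasPullback f (pullback.fst g (S.fromSpecStalk s)))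
    rw [hχ1, hψ1]
    exact IsPullback.of_hasPullback f _
  exact Groth.Agent.S0086.result.of_isPullback hχ.flip ⟨⟨inferInstance, inferInstance⟩, inferInstance⟩ hR

end Groth.Agent.Lead.ComplNhd
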