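import Mathlib
import Groth.Agent.Helper5.RedDesc

/-! Finite group schemes with connected fibres over a reduced base have only trivial points in reduced
test schemes. -/

open CategoryTheory AlgebraicGeometry CategoryTheory.Limits MonObj MonoidalCategory CartesianMonoidalCategory

namespace Groth.Agent.Lead.ConnFinGrp
universe u

theorem fiber_subsingleton {X Y : Scheme.{u}} (f : X ⟶ Y) [IsFinite f] (y : Y)
    [ConnectedSpace ↥(f.fiber y)] : Subsingleton ↥(f.fiber y) := by
  have h1 : DiscreteTopology ↥(f.fiber y) := inferInstance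
  have h2 := (isPreconnected_univ (α := ↥(f.fiber y))).subsingleton
  exact ⟨fun a b => h2 (Set.mem_univ a) (Set.mem_univ b)⟩

theorem eq_of_fiber_connected {X Y : Scheme.{u}} (f : X ⟶ Y) [IsFinite f]
    (hconn : ∀ y : Y, ConnectedSpace ↥(f.fiber y)) (a b : X) (h : f a = f b) : a = b := by
  have := hconn (f b)
  have hs := fiber_subsingleton f (f b)
  have ha : a ∈ Set.range (f.fiberι (f b)) := by
    rw [Scheme.Hom.range_fiberι]; exact h
  have hb : b ∈ Set.range (f.fiberι (f b)) := by
    rw [Scheme.Hom.range_fiberι]; rfl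
  obtain ⟨a', ha'⟩ := ha
  obtain ⟨b', hb'⟩ := hb
  exact ha'.symm.trans ((congrArg (f.fiberι (f b)) (Subsingleton.elim a' b')).trans hb')

theorem unit_surjective (S : Scheme.{u}) (I : Over S) [GrpObj I] [IsFinite I.hom]
    (hconn : ∀ s : S, ConnectedSpace ↥(I.hom.fiber s)) : Surjective η[I].left := by
  constructor
  intro x
  refine ⟨I.hom x, ?_⟩
  apply eq_of_fiber_connected I.hom hconn
  have : η[I].left ≫ I.hom = 𝟙 S := Over.w η[I]
  have h2 : (η[I].left ≫ I.hom) (I.hom x) = (𝟙 S :) (I.hom x) := by rw [this]
  exact h2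

theorem unit_isClosedImmersion (S : Scheme.{u}) (I : Over S) [GrpObj I] [IsSeparated I.hom] :
    IsClosedImmersion η[I].left := by
  have h : η[I].left ≫ I.hom = 𝟙 S := Over.w η[I]
  have : IsClosedImmersion (η[I].left ≫ I.hom) := by
    rw [h]; exact IsClosedImmersion.of_isPreimmersion (𝟙 S) (by simpa using isClosed_univ)
  exact IsClosedImmersion.of_comp η[I].left I.hom

theorem eq_one (S : Scheme.{u}) [IsReduced S] (I : Over S) [GrpObj I] [IsFinite I.hom]
    (hconn : ∀ s : S, ConnectedSpace ↥(I.hom.fiber s)) (T : Over S) [IsReduced T.left]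
    (σ : T ⟶ I) : σ = 1 := by
  have hs := unit_surjective S I hconn
  have hc := unit_isClosedImmersion S I
  -- pull back the unit section along σ.left
  have h1 : IsClosedImmersion (pullback.fst σ.left η[I].left) := inferInstance
  have h2 : Surjective (pullback.fst σ.left η[I].left) := inferInstance
  have h3 : IsIso (pullback.fst σ.left η[I].left) :=
    isIso_of_isClosedImmersion_of_surjective _
  have hη : η[I].left ≫ I.hom = 𝟙 S := Over.w η[I]
  have key : σ.left = T.hom ≫ η[I].left := by
    have e1 : σ.left = inv (pullback.fst σ.left η[I].left) ≫ pullback.snd σ.left η[I].left ≫ η[I].left := by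
      rw [← pullback.condition, IsIso.inv_hom_id_assoc]
    have e2 : inv (pullback.fst σ.left η[I].left) ≫ pullback.snd σ.left η[I].left = T.hom := by
      have := congrArg (· ≫ I.hom) e1
      simp only [Category.assoc, hη, Over.w, Category.comp_id] at this
      exact this.symm
    rw [e1, ← e2, Category.assoc]
  ext1
  rw [key]
  rw [Hom.one_def]
  simp

theorem hom_eq (S : Scheme.{u}) [IsReduced S] (I : Over S) [GrpObj I] [IsFinite I.hom]
    (hconn : ∀ s : S, ConnectedSpace ↥(I.hom.fiber s)) (T : Over S) (hT : Etale T.hom)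
    (σ τ : T ⟶ I) : σ = τ := by
  have : IsReduced T.left := Groth.Agent.Helper5.RedDesc.isReduced_of_smooth (B := S) T.hom
  exact (eq_one S I hconn T σ).trans (eq_one S I hconn T τ).symm

end Groth.Agent.Lead.ConnFinGrp
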