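import Groth.Agent.Lead.OmegaCnC
import Groth.Agent.Lead.StalkPull2
import Groth.Agent.Helper4.StalkDict
import Mathlib

/-!
# Stalks of the ideal module / conormal sheaf of an immersion (toolkit for S5980)

* `subsingleton_of_tensor` : Nakayama along a local homomorphism.
* `bijective_of_away`, `app_basicOpen_bijective`, `isOpenImmersion_of_bijective`.
* `sectLin`, `finite_sections`, `finite_stalk`, `exists_kill`.
-/

set_option autoImplicit false
set_option backward.isDefEq.respectTransparency false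
set_option backward.isDefEq.respectTransparency.types false
universe u
open CategoryTheory CategoryTheory.Limits AlgebraicGeometry Opposite TopologicalSpace TensorProduct

namespace Groth.Agent.Lead.ConormalStalkA


/-- Nakayama along a local homomorphism -/
theorem subsingleton_of_tensor {R R' N : Type u} [CommRing R] [CommRing R'] [IsLocalRing R]
    [IsLocalRing R'] [Algebra R R'] [IsLocalHom (algebraMap R R')] [AddCommGroup N] [Module R N]
    [Module.Finite R N] (h : Subsingleton (R' ⊗[R] N)) : Subsingleton N := by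
  let k := IsLocalRing.ResidueField R
  let k' := IsLocalRing.ResidueField R'
  have e1 : k' ⊗[R'] (R' ⊗[R] N) ≃ₗ[k'] k' ⊗[R] N :=
    AlgebraTensorModule.cancelBaseChange R R' k' k' N
  have e2 : k' ⊗[k] (k ⊗[R] N) ≃ₗ[k'] k' ⊗[R] N :=
    AlgebraTensorModule.cancelBaseChange R k k' k' N
  have h1 : Subsingleton (k' ⊗[R] N) := e1.symm.toEquiv.subsingleton
  have h2 : Subsingleton (k' ⊗[k] (k ⊗[R] N)) := e2.toEquiv.subsingleton
  have h3 : Subsingleton (k ⊗[R] N) :=
    (Module.FaithfullyFlat.subsingleton_tensorProduct_iff_right k k').mp h2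
  exact IsLocalRing.subsingleton_tensorProduct.mp h3



open Groth.Agent.Helper4 OmegaSh Groth.Agent.Lead

variable {Y X : Scheme.{u}} (j : Y ⟶ X)

/-- sections of the ideal module over an affine open, as elements of the ideal -/
noncomputable def sectLin (V : X.affineOpens) :
    Γ(ClSub.idealMod j.ker, V.1) →ₗ[Γ(X, V.1)] j.ker.ideal V where
  toFun σ := ⟨idealSect j.ker V.1 σ, (IdealModDict.exists_section_iff j.ker V _).mp ⟨σ, rfl⟩⟩
  map_add' a b := Subtype.ext (map_add (idealSect j.ker V.1) a b)
  map_smul' a σ := Subtype.ext (OmegaCnC.idealSect_smul j V.1 a σ)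

theorem sectLin_bijective (V : X.affineOpens) : Function.Bijective (sectLin j V) := by
  constructor
  · intro a b hab
    exact OmegaCnC.idealSect_injective j V.1 (congrArg Subtype.val hab)
  · rintro ⟨s, hs⟩
    obtain ⟨σ, hσ⟩ := (IdealModDict.exists_section_iff j.ker V s).mpr hs
    exact ⟨σ, Subtype.ext hσ⟩

theorem finite_sections (V : X.affineOpens) (hfg : (j.ker.ideal V).FG) :
    Module.Finite Γ(X, V.1) Γ(ClSub.idealMod j.ker, V.1) := by
  haveI : Module.Finite Γ(X, V.1) (j.ker.ideal V) := Module.Finite.iff_fg.mpr hfg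
  exact Module.Finite.equiv (LinearEquiv.ofBijective (sectLin j V) (sectLin_bijective j V)).symm

theorem finite_stalk (V : X.affineOpens) (x : X) (hx : x ∈ V.1) (hfg : (j.ker.ideal V).FG) :
    Module.Finite (X.presheaf.stalk x) ((ClSub.idealMod j.ker).presheaf.stalk x) := by
  letI := StalkDict.sectionModStalk (ClSub.idealMod j.ker) x hx
  letI := X.presheaf.algebra_section_stalk ⟨x, hx⟩
  haveI := V.2.isLocalization_stalk ⟨x, hx⟩
  haveI : IsScalarTower Γ(X, V.1) (X.presheaf.stalk x)
      ((ClSub.idealMod j.ker).presheaf.stalk x) :=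
    ⟨fun a s m => by
      change (X.presheaf.germ V.1 x hx a * s) • m = X.presheaf.germ V.1 x hx a • (s • m)
      rw [mul_smul]⟩
  haveI := StalkDict.isLocalizedModule_germ V.2 (ClSub.idealMod j.ker) x hx
  haveI := finite_sections j V hfg
  exact Module.Finite.of_isLocalizedModule (V.2.primeIdealOf ⟨x, hx⟩).asIdeal.primeCompl
    (StalkDict.germLin (ClSub.idealMod j.ker) x hx)

theorem exists_kill_one (V : X.affineOpens) (x : X) (hx : x ∈ V.1)
    (h0 : Subsingleton ((ClSub.idealMod j.ker).presheaf.stalk x)) (s : Γ(X, V.1))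
    (hs : s ∈ j.ker.ideal V) : ∃ c : Γ(X, V.1), x ∈ X.basicOpen c ∧ c * s = 0 := by
  obtain ⟨σ, hσ⟩ := (IdealModDict.exists_section_iff j.ker V s).mpr hs
  letI := StalkDict.sectionModStalk (ClSub.idealMod j.ker) x hx
  haveI := StalkDict.isLocalizedModule_germ V.2 (ClSub.idealMod j.ker) x hx
  have h1 : StalkDict.germLin (ClSub.idealMod j.ker) x hx σ = 0 := Subsingleton.elim _ _
  obtain ⟨⟨c, hc⟩, hcσ⟩ := (IsLocalizedModule.eq_zero_iff
    (V.2.primeIdealOf ⟨x, hx⟩).asIdeal.primeCompl
    (StalkDict.germLin (ClSub.idealMod j.ker) x hx)).mp h1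
  refine ⟨c, (StalkDict.mem_basicOpen_iff_notMem_primeIdealOf V.2 x hx c).mpr hc, ?_⟩
  have h2 : idealSect j.ker V.1 (c • σ) = 0 := by
    have : c • σ = 0 := hcσ
    rw [this, map_zero]
  rw [OmegaCnC.idealSect_smul] at h2
  have h3 : idealSect j.ker V.1 σ = s := hσ
  rw [h3] at h2
  exact h2

theorem exists_kill (V : X.affineOpens) (x : X) (hx : x ∈ V.1) (hfg : (j.ker.ideal V).FG)
    (h0 : Subsingleton ((ClSub.idealMod j.ker).presheaf.stalk x)) :
    ∃ g : Γ(X, V.1), x ∈ X.basicOpen g ∧ ∀ s ∈ j.ker.ideal V, g * s = 0 := by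
  obtain ⟨S, hS⟩ := hfg
  classical
  have key : ∀ T : Finset Γ(X, V.1), (∀ s ∈ T, s ∈ j.ker.ideal V) →
      ∃ g : Γ(X, V.1), x ∈ X.basicOpen g ∧ ∀ s ∈ T, g * s = 0 := by
    intro T
    induction T using Finset.induction_on with
    | empty =>
      intro _
      refine ⟨1, ?_, fun s hs => absurd hs (Finset.notMem_empty s)⟩
      rw [Scheme.basicOpen_of_isUnit _ isUnit_one]
      exact hx
    | insert a T ha ih =>
      intro hT
      obtain ⟨g, hxg, hg⟩ := ih (fun s hs => hT s (Finset.mem_insert_of_mem hs))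
      obtain ⟨c, hxc, hc⟩ := exists_kill_one j V x hx h0 a (hT a (Finset.mem_insert_self a T))
      refine ⟨c * g, ?_, ?_⟩
      · rw [Scheme.basicOpen_mul]
        exact ⟨hxc, hxg⟩
      · intro s hs
        rcases Finset.mem_insert.mp hs with rfl | hs
        · rw [mul_comm c g, mul_assoc, hc, mul_zero]
        · rw [mul_assoc, hg s hs, mul_zero]
  obtain ⟨g, hxg, hg⟩ := key S (fun s hs => by
    rw [← hS]; exact Ideal.subset_span hs)
  refine ⟨g, hxg, ?_⟩
  intro s hs
  rw [← hS] at hs
  refine Submodule.span_induction (p := fun s _ => g * s = 0) ?_ ?_ ?_ ?_ hs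
  · intro s hs; exact hg s hs
  · exact mul_zero g
  · intro a b _ _ ha hb; rw [mul_add, ha, hb, add_zero]
  · intro a b _ hb
    rw [smul_eq_mul, mul_left_comm, hb, mul_zero]




/-- localization of a surjection whose kernel is killed by `g` is bijective after inverting `g` -/
theorem bijective_of_away {A B A' B' : Type u} [CommRing A] [CommRing B] [CommRing A'] [CommRing B']
    [Algebra A A'] [Algebra B B'] (φ : A →+* B) (hφ : Function.Surjective φ) (g : A)
    [IsLocalization.Away g A'] [IsLocalization.Away (φ g) B'] (ψ : A' →+* B')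
    (hψ : ∀ a, ψ (algebraMap A A' a) = algebraMap B B' (φ a))
    (hg : ∀ s, φ s = 0 → g * s = 0) : Function.Bijective ψ := by
  have hu : IsUnit (algebraMap A A' g) := IsLocalization.Away.algebraMap_isUnit g
  obtain ⟨u, hu'⟩ := hu
  constructor
  · rw [injective_iff_map_eq_zero]
    intro a' ha'
    obtain ⟨n, a, han⟩ := IsLocalization.Away.surj g a'
    have h1 : algebraMap B B' (φ a) = 0 := by
      rw [← hψ, ← han, map_mul, ha', zero_mul]
    obtain ⟨⟨_, m, rfl⟩, hm⟩ := (IsLocalization.map_eq_zero_iff (Submonoid.powers (φ g)) B' _).mp h1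
    have h2 : φ (g ^ m * a) = 0 := by
      rw [map_mul, map_pow]; exact hm
    have h3 : g * (g ^ m * a) = 0 := hg _ h2
    have h4 : algebraMap A A' a = 0 := by
      have := congrArg (algebraMap A A') h3
      rw [map_mul, map_mul, map_pow, map_zero, ← hu', ← mul_assoc, ← pow_succ'] at this
      exact (IsUnit.mul_right_eq_zero ((u ^ (m + 1)).isUnit)).mp (by rw [Units.val_pow_eq_pow_val]; exact this)
    rw [h4, ← hu'] at han
    exact (IsUnit.mul_left_eq_zero ((u ^ n).isUnit)).mp (by rw [Units.val_pow_eq_pow_val]; exact han)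
  · intro b'
    obtain ⟨n, b, hbn⟩ := IsLocalization.Away.surj (φ g) b'
    obtain ⟨a, rfl⟩ := hφ b
    refine ⟨algebraMap A A' a * ((u⁻¹ : A'ˣ) : A') ^ n, ?_⟩
    have h1 : ψ ((u⁻¹ : A'ˣ) : A') * algebraMap B B' (φ g) = 1 := by
      rw [← hψ, ← map_mul, ← hu', Units.inv_mul, map_one]
    rw [map_mul, hψ, ← hbn, map_pow, mul_assoc, ← mul_pow, mul_comm (algebraMap B B' (φ g)), h1,
      one_pow, mul_one]


theorem app_basicOpen_bijective {V : X.Opens} (hV : IsAffineOpen V) (hW : IsAffineOpen (j ⁻¹ᵁ V))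
    (hsurj : Function.Surjective (j.app V)) (g : Γ(X, V))
    (hg : ∀ s, j.app V s = 0 → g * s = 0) :
    Function.Bijective (j.app (X.basicOpen g)) := by
  haveI := hV.isLocalization_basicOpen g
  haveI := hW.isLocalization_basicOpen (j.app V g)
  rw [IsAffineOpen.app_basicOpen_eq_away_map j hV hW g]
  have h1 : Function.Bijective (IsLocalization.Away.map Γ(X, X.basicOpen g)
      Γ(Y, Y.basicOpen (j.app V g)) (j.app V).hom g) := by
    refine bijective_of_away (j.app V).hom hsurj g _ ?_ hg
    intro a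
    exact IsLocalization.map_eq _ a
  have h2 : Function.Bijective (Y.presheaf.map
      (eqToHom (Scheme.preimage_basicOpen j g)).op) :=
    (ConcreteCategory.isIso_iff_bijective _).mp inferInstance
  exact h2.comp h1

theorem isOpenImmersion_of_bijective (D : X.Opens) (hD : IsAffineOpen D)
    (hD' : IsAffineOpen (j ⁻¹ᵁ D)) (hb : Function.Bijective (j.app D)) :
    IsOpenImmersion ((j ⁻¹ᵁ D).ι ≫ j) := by
  have hiso : IsIso (j ∣_ D) := by
    haveI : IsAffine (D : Scheme.{u}) := hD
    change MorphismProperty.isomorphisms Scheme (j ∣_ D)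
    rw [HasAffineProperty.iff_of_isAffine (P := MorphismProperty.isomorphisms Scheme)]
    refine ⟨hD', ?_⟩
    rw [morphismRestrict_appTop]
    have key : ∀ D' : X.Opens, D' = D → IsIso (j.app D') := by
      rintro D' rfl
      exact (ConcreteCategory.isIso_iff_bijective _).mpr hb
    haveI := key (D.ι ''ᵁ ⊤) (by simp)
    infer_instance
  rw [← morphismRestrict_ι]
  infer_instance


end Groth.Agent.Lead.ConormalStalkA
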