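import Groth.Agent.Lead.ConormalStalkA
import Groth.Agent.Lead.OmegaCnA
import Mathlib

set_option autoImplicit false
set_option backward.isDefEq.respectTransparency false
set_option backward.isDefEq.respectTransparency.types false
universe u
open CategoryTheory CategoryTheory.Limits AlgebraicGeometry Opposite TopologicalSpace TensorProduct

namespace Groth.Agent.Lead.ConormalStalkB

open Groth.Agent.Helper4 OmegaSh Groth.Agent.Lead Groth.Agent.Lead.ConormalStalkA

variable {Y X : Scheme.{u}} (j : Y ⟶ X)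

/-- the ideal module of `j` has zero stalk at `j y` if `j` is an open immersion near `y` -/
theorem subsingleton_stalk_idealMod [QuasiCompact j] (U : Y.Opens) (y : Y) (hy : y ∈ U)
    [IsOpenImmersion (U.ι ≫ j)] :
    Subsingleton ((ClSub.idealMod j.ker).presheaf.stalk (j y)) := by
  have hxr : j y ∈ (U.ι ≫ j).opensRange := ⟨⟨y, hy⟩, rfl⟩
  suffices H : ∀ a : (ClSub.idealMod j.ker).presheaf.stalk (j y), a = 0 from
    ⟨fun a b => (H a).trans (H b).symm⟩
  intro a
  obtain ⟨W, hxW, t, rfl⟩ := TopCat.Presheaf.germ_exist (ClSub.idealMod j.ker).presheaf (x := j y) a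
  obtain ⟨_, ⟨V, hV : IsAffineOpen V, rfl⟩, hxV, hVW⟩ :=
    X.isBasis_affineOpens.exists_subset_of_mem_open
      (show j y ∈ ((W ⊓ (U.ι ≫ j).opensRange : X.Opens) : Set X) from ⟨hxW, hxr⟩)
      (W ⊓ (U.ι ≫ j).opensRange).isOpen
  have hVW' : V ≤ W := fun z hz => (hVW hz).1
  have hVr : V ≤ (U.ι ≫ j).opensRange := fun z hz => (hVW hz).2
  rw [← TopCat.Presheaf.germ_res_apply _ (homOfLE hVW') (j y) hxV t]
  suffices h0 : (ClSub.idealMod j.ker).presheaf.map (homOfLE hVW').op t = 0 by
    rw [h0, map_zero]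
  apply OmegaCnC.idealSect_injective j V
  rw [map_zero]
  have h1 : j.app V (idealSect j.ker V ((ClSub.idealMod j.ker).presheaf.map (homOfLE hVW').op t))
      = 0 := OmegaCnB.app_idealSect j hV _
  haveI := (U.ι ≫ j).isIso_app V hVr
  have hinj : Function.Injective ((U.ι ≫ j).app V) :=
    ((ConcreteCategory.isIso_iff_bijective _).mp inferInstance).1
  apply hinj
  rw [map_zero, Scheme.Hom.comp_app, CommRingCat.comp_apply, h1, map_zero]

theorem subsingleton_tensor_of_right {R M N : Type u} [CommRing R] [AddCommGroup M] [Module R M]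
    [AddCommGroup N] [Module R N] [Subsingleton N] : Subsingleton (M ⊗[R] N) := by
  suffices H : ∀ a : M ⊗[R] N, a = 0 from ⟨fun a b => (H a).trans (H b).symm⟩
  intro a
  induction a using TensorProduct.induction_on with
  | zero => rfl
  | tmul m n => rw [Subsingleton.elim n 0, TensorProduct.tmul_zero]
  | add a b ha hb => rw [ha, hb, add_zero]

theorem forward [IsImmersion j] [QuasiCompact j] (y : Y) (U : Y.Opens) (hy : y ∈ U)
    [IsOpenImmersion (U.ι ≫ j)] : Subsingleton ((Omega.conormal j).presheaf.stalk y) := by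
  haveI := subsingleton_stalk_idealMod j U y hy
  obtain ⟨e⟩ := StalkPull.nonempty_stalk_pullback_equiv j (ClSub.idealMod j.ker) y
  letI := (j.stalkMap y).hom.toAlgebra
  haveI : Subsingleton ((Y.presheaf.stalk y) ⊗[X.presheaf.stalk (j y)]
      ((ClSub.idealMod j.ker).presheaf.stalk (j y))) := subsingleton_tensor_of_right
  exact e.toEquiv.subsingleton

theorem backward [IsImmersion j] [QuasiCompact j] [LocallyOfFinitePresentation j] (y : Y)
    (h : Subsingleton ((Omega.conormal j).presheaf.stalk y)) :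
    ∃ U : Y.Opens, y ∈ U ∧ IsOpenImmersion (U.ι ≫ j) := by
  obtain ⟨V, hV, hxV, -, hW, -, hsurj⟩ :=
    OmegaCnA.exists_affine_immersion j y ⊤ trivial ⊤ trivial
  -- the ideal is finitely generated
  have hker : j.ker.ideal ⟨V, hV⟩ = RingHom.ker (j.app V).hom := j.ker_apply ⟨V, hV⟩
  have hfg : (j.ker.ideal ⟨V, hV⟩).FG := by
    rw [hker]
    have hfp : (j.app V).hom.FinitePresentation := by
      have := HasRingHomProperty.appLE @LocallyOfFinitePresentation j inferInstance ⟨V, hV⟩
        ⟨j ⁻¹ᵁ V, hW⟩ le_rfl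
      rwa [Scheme.Hom.appLE_eq_app] at this
    letI := (j.app V).hom.toAlgebra
    haveI : Algebra.FinitePresentation Γ(X, V) Γ(Y, j ⁻¹ᵁ V) := hfp
    exact Algebra.FinitePresentation.ker_fG_of_surjective (Algebra.ofId Γ(X, V) Γ(Y, j ⁻¹ᵁ V))
      hsurj
  -- the stalk of the ideal vanishes
  have hN : Subsingleton ((ClSub.idealMod j.ker).presheaf.stalk (j y)) := by
    obtain ⟨e⟩ := StalkPull.nonempty_stalk_pullback_equiv j (ClSub.idealMod j.ker) y
    letI := (j.stalkMap y).hom.toAlgebra
    haveI : IsLocalHom (algebraMap (X.presheaf.stalk (j y)) (Y.presheaf.stalk y)) :=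
      inferInstanceAs (IsLocalHom (j.stalkMap y).hom)
    haveI := finite_stalk j ⟨V, hV⟩ (j y) hxV hfg
    have h' : Subsingleton (((Scheme.Modules.pullback j).obj
        (ClSub.idealMod j.ker)).presheaf.stalk y) := h
    exact subsingleton_of_tensor (R' := Y.presheaf.stalk y) e.symm.toEquiv.subsingleton
  obtain ⟨g, hxg, hg⟩ := exists_kill j ⟨V, hV⟩ (j y) hxV hfg hN
  have hb : Function.Bijective (j.app (X.basicOpen g)) :=
    app_basicOpen_bijective j hV hW hsurj g (fun s hs => hg s (by rw [hker]; exact hs))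
  have hD' : IsAffineOpen (j ⁻¹ᵁ X.basicOpen g) := by
    rw [Scheme.preimage_basicOpen]
    exact hW.basicOpen _
  exact ⟨j ⁻¹ᵁ X.basicOpen g, hxg,
    isOpenImmersion_of_bijective j (X.basicOpen g) (hV.basicOpen g) hD' hb⟩

end Groth.Agent.Lead.ConormalStalkB
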