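import Mathlib
import Groth.Prelude.Def_CohB1
import Groth.Agent.Helper1.CI1
import Groth.Agent.Helper1.RP2
import Groth.Agent.Helper1.LinEmb2

/-!
# CoprodProj: a disjoint union of two projective schemes over a ring is projective
-/

set_option autoImplicit false
set_option linter.style.haveILetI false
set_option linter.unusedVariables false
set_option linter.unusedSectionVars false

universe u

open CategoryTheory CategoryTheory.Limits AlgebraicGeometry

namespace Groth.Agent.Lead.CoprodProj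

open Groth.Agent.Helper1.LinEmb

theorem lin'_toSpec (R : Type u) [CommRing R] {m N : ℕ} (a : Fin (m + 1) → Fin (N + 1))
    (ha : Function.Injective a) :
    lin' R a ha ≫ CohB1.ProjSpace.toSpec N R = CohB1.ProjSpace.toSpec m R := by
  show (Proj.map (φg R a) (irrelevant_le_of_surjective _ (φg_surjective R a ha)) :
      Proj (CohB1.polyGrading m R) ⟶ Proj (CohB1.polyGrading N R)) ≫
      (Proj.toSpecZero (CohB1.polyGrading N R) ≫
        Spec.map (CommRingCat.ofHom (algebraMap R (CohB1.polyGrading N R 0)))) =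
      Proj.toSpecZero (CohB1.polyGrading m R) ≫
        Spec.map (CommRingCat.ofHom (algebraMap R (CohB1.polyGrading m R 0)))
  rw [← Category.assoc, Groth.Agent.Helper1.RP.map_toSpecZero, Category.assoc, ← Spec.map_comp]
  congr 2
  refine CommRingCat.hom_ext (RingHom.ext fun r => Subtype.ext ?_)
  exact (φ R a).commutes r

theorem main (k : Type u) [CommRing k] (n m : ℕ) (X₁ X₂ : Scheme.{u})
    (s₁ : X₁ ⟶ Spec (CommRingCat.of k)) (s₂ : X₂ ⟶ Spec (CommRingCat.of k))
    (i₁ : X₁ ⟶ CohB1.ProjSpace n k) [IsClosedImmersion i₁]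
    (h₁ : i₁ ≫ CohB1.ProjSpace.toSpec n k = s₁)
    (i₂ : X₂ ⟶ CohB1.ProjSpace m k) [IsClosedImmersion i₂]
    (h₂ : i₂ ≫ CohB1.ProjSpace.toSpec m k = s₂) :
    ∃ j : X₁ ⨿ X₂ ⟶ CohB1.ProjSpace (n + m + 1) k, IsClosedImmersion j ∧
      j ≫ CohB1.ProjSpace.toSpec (n + m + 1) k = coprod.desc s₁ s₂ := by
  let a : Fin (n + 1) → Fin (n + m + 1 + 1) := fun i => ⟨i.val, by omega⟩
  let b : Fin (m + 1) → Fin (n + m + 1 + 1) := fun j => ⟨n + 1 + j.val, by omega⟩
  have ha : Function.Injective a := by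
    intro i i' h
    have h' : (a i).val = (a i').val := congrArg Fin.val h
    exact Fin.ext h'
  have hb : Function.Injective b := by
    intro j j' h
    have h' : (b j).val = (b j').val := congrArg Fin.val h
    have h'' : n + 1 + j.val = n + 1 + j'.val := h'
    exact Fin.ext (by omega)
  have hab : ∀ i j, a i ≠ b j := by
    intro i j h
    have h' : (a i).val = (b j).val := congrArg Fin.val h
    have h'' : i.val = n + 1 + j.val := h'
    have := i.isLt
    omega
  let f₁ : X₁ ⟶ CohB1.ProjSpace (n + m + 1) k := i₁ ≫ lin' k a ha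
  let f₂ : X₂ ⟶ CohB1.ProjSpace (n + m + 1) k := i₂ ≫ lin' k b hb
  haveI : IsClosedImmersion f₁ := inferInstanceAs (IsClosedImmersion (i₁ ≫ lin' k a ha))
  haveI : IsClosedImmersion f₂ := inferInstanceAs (IsClosedImmersion (i₂ ≫ lin' k b hb))
  have hd : ∀ (x : X₁) (x' : X₂), f₁ x ≠ f₂ x' := by
    intro x x' h
    have hz : f₁ x ∈ (⊤ : (Proj (CohB1.polyGrading (n + m + 1) k)).Opens) := trivial
    rw [← Groth.Agent.Helper1.Segre.iSup_basicOpen_X k (n + m + 1)] at hz
    obtain ⟨c, hc⟩ := TopologicalSpace.Opens.mem_iSup.mp hz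
    by_cases hca : ∃ i, a i = c
    · obtain ⟨i, rfl⟩ := hca
      have h2 : f₂ x' ∈ Proj.basicOpen (CohB1.polyGrading (n + m + 1) k)
          (MvPolynomial.X (a i) : MvPolynomial (Fin (n + m + 1 + 1)) k) := by
        rw [← h]; exact hc
      have h3 : i₂ x' ∈ lin k b hb ⁻¹ᵁ Proj.basicOpen (CohB1.polyGrading (n + m + 1) k)
          (MvPolynomial.X (a i) : MvPolynomial (Fin (n + m + 1 + 1)) k) := h2
      rw [lin_preimage_of_not k b hb (a i) (fun j hj => hab i j hj.symm)] at h3
      exact TopologicalSpace.Opens.mem_bot.mp h3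
    · have h3 : i₁ x ∈ lin k a ha ⁻¹ᵁ Proj.basicOpen (CohB1.polyGrading (n + m + 1) k)
          (MvPolynomial.X c : MvPolynomial (Fin (n + m + 1 + 1)) k) := hc
      rw [lin_preimage_of_not k a ha c (fun i hi => hca ⟨i, hi⟩)] at h3
      exact TopologicalSpace.Opens.mem_bot.mp h3
  refine ⟨coprod.desc f₁ f₂,
    Groth.Agent.Helper1.CI.isClosedImmersion_coprod_desc f₁ f₂ hd, ?_⟩
  apply coprod.hom_ext
  · rw [coprod.inl_desc_assoc, coprod.inl_desc]
    show (i₁ ≫ lin' k a ha) ≫ _ = _
    rw [Category.assoc, lin'_toSpec, h₁]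
  · rw [coprod.inr_desc_assoc, coprod.inr_desc]
    show (i₂ ≫ lin' k b hb) ≫ _ = _
    rw [Category.assoc, lin'_toSpec, h₂]

end Groth.Agent.Lead.CoprodProj
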