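import Mathlib
import Groth.Prelude.Def_Curv2

/-!
# CplQuot: infinitesimal neighbourhoods of points of the base change to the completion
-/

set_option autoImplicit false
set_option linter.style.haveILetI false
set_option linter.unusedVariables false
set_option linter.unusedSectionVars false

universe u

open CategoryTheory CategoryTheory.Limits AlgebraicGeometry IsLocalRing

namespace Groth.Agent.Lead.CplQuot

/-- a morphism from a local scheme sending the closed point to `y` factors through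
`Spec O_{Y,y}` -/
theorem exists_fac {Y : Scheme.{u}} (y : Y) (T : CommRingCat.{u}) [IsLocalRing T]
    (t : Spec T ⟶ Y) (h : t (closedPoint T) = y) :
    ∃ σ : Y.presheaf.stalk y ⟶ T, IsLocalHom σ.hom ∧ Spec.map σ ≫ Y.fromSpecStalk y = t := by
  subst h
  exact ⟨Scheme.stalkClosedPointTo t, inferInstance,
    Scheme.Spec_stalkClosedPointTo_fromSpecStalk t⟩

section Main

variable (A : Type u) [CommRing A] [IsLocalRing A] (hm : (maximalIdeal A).FG)
  {X : Scheme.{u}} (f : X ⟶ Spec (CommRingCat.of A))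

local notation "Â" => AdicCompletion (maximalIdeal A) A
local notation "sÂ" =>
  Spec.map (CommRingCat.ofHom (algebraMap A (AdicCompletion (maximalIdeal A) A)))

include hm in
/-- every element of the completion is congruent to an element of `A` modulo `m^n Â` -/
theorem exists_sub_mem (n : ℕ) (z : Â) :
    ∃ a : A, algebraMap A Â a - z ∈ ((maximalIdeal A) ^ n).map (algebraMap A Â) := by
  rcases Ideal.Quotient.mk_surjective (z.1 n) with ⟨a, ha⟩
  refine ⟨a, ?_⟩
  rw [← Submodule.restrictScalars_mem A, ← Ideal.smul_top_eq_map]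
  rw [AdicCompletion.algebraMap_apply, AdicCompletion.pow_smul_top_eq_ker_eval hm]
  simpa [AdicCompletion.eval, sub_eq_zero] using ha

include hm in
theorem main (q : ↑(pullback f sÂ))
    (hq : f.base ((pullback.fst f sÂ).base q) = closedPoint A) (n : ℕ) (hn : 1 ≤ n)
    (h : maximalIdeal (X.presheaf.stalk ((pullback.fst f sÂ).base q)) ^ n ≤
      (maximalIdeal ((pullback f sÂ).presheaf.stalk q) ^ n).comap
        ((pullback.fst f sÂ).stalkMap q).hom) :
    Function.Bijective (Ideal.quotientMap (maximalIdeal ((pullback f sÂ).presheaf.stalk q) ^ n)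
      ((pullback.fst f sÂ).stalkMap q).hom h) := by
  let Y : Scheme.{u} := pullback f sÂ
  let p1 : Y ⟶ X := pullback.fst f sÂ
  let p2 : Y ⟶ Spec (CommRingCat.of Â) := pullback.snd f sÂ
  let x : X := p1.base q
  let R : CommRingCat.{u} := X.presheaf.stalk x
  let S : CommRingCat.{u} := Y.presheaf.stalk q
  let ρ : R ⟶ S := p1.stalkMap q
  haveI hρloc : IsLocalHom ρ.hom := inferInstance
  have hfx : f.base x = closedPoint A := hq
  -- the structure map `A → R`
  let ζ' : CommRingCat.of A ⟶ R := Spec.preimage (X.fromSpecStalk x ≫ f)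
  have hζ : Spec.map ζ' = X.fromSpecStalk x ≫ f := Spec.map_preimage _
  have hζloc : ∀ a ∈ maximalIdeal A, ζ'.hom a ∈ maximalIdeal R := by
    have h1 : (Spec.map ζ') (closedPoint R) = closedPoint A := by
      rw [hζ, Scheme.Hom.comp_apply, Scheme.fromSpecStalk_closedPoint]
      exact hfx
    have h2 : Ideal.comap ζ'.hom (maximalIdeal R) = maximalIdeal A :=
      congrArg PrimeSpectrum.asIdeal h1
    intro a ha
    rw [← h2] at ha
    exact ha
  have hζpow : ∀ a ∈ maximalIdeal A ^ n, ζ'.hom a ∈ maximalIdeal R ^ n := by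
    intro a ha
    have h1 : (maximalIdeal A).map ζ'.hom ≤ maximalIdeal R := by
      rw [Ideal.map_le_iff_le_comap]; exact hζloc
    have h2 : ζ'.hom a ∈ ((maximalIdeal A) ^ n).map ζ'.hom := Ideal.mem_map_of_mem _ ha
    rw [Ideal.map_pow] at h2
    exact Ideal.pow_right_mono h1 n h2
  have hn0 : n ≠ 0 := by omega
  -- the quotient `R/m_R^n`
  have hRn_ne : maximalIdeal R ^ n ≠ ⊤ := by
    intro htop
    have h1 : maximalIdeal R ^ n ≤ maximalIdeal R := Ideal.pow_le_self hn0
    rw [htop] at h1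
    exact (maximalIdeal.isMaximal R).ne_top (top_le_iff.mp h1)
  haveI : Nontrivial (R ⧸ maximalIdeal R ^ n) := Ideal.Quotient.nontrivial_iff.mpr hRn_ne
  haveI : IsLocalRing (R ⧸ maximalIdeal R ^ n) :=
    IsLocalRing.of_surjective' (Ideal.Quotient.mk _) Ideal.Quotient.mk_surjective
  let Rn : CommRingCat.{u} := CommRingCat.of (R ⧸ maximalIdeal R ^ n)
  haveI : IsLocalRing Rn := ‹IsLocalRing (R ⧸ maximalIdeal R ^ n)›
  let πR : R ⟶ Rn := CommRingCat.ofHom (Ideal.Quotient.mk (maximalIdeal R ^ n))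
  -- the map `Â → R/m_R^n`
  let θ₀ : A ⧸ maximalIdeal A ^ n →+* R ⧸ maximalIdeal R ^ n :=
    Ideal.Quotient.lift (maximalIdeal A ^ n) ((Ideal.Quotient.mk (maximalIdeal R ^ n)).comp ζ'.hom)
      (fun a ha => Ideal.Quotient.eq_zero_iff_mem.mpr (hζpow a ha))
  let θ : Â →+* (R ⧸ maximalIdeal R ^ n) :=
    θ₀.comp (AdicCompletion.evalₐ (maximalIdeal A) n).toRingHom
  have hθ : θ.comp (algebraMap A Â) = (Ideal.Quotient.mk (maximalIdeal R ^ n)).comp ζ'.hom := by
    ext a
    show θ₀ ((AdicCompletion.evalₐ (maximalIdeal A) n) (algebraMap A Â a)) = _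
    rw [AlgHom.commutes]
    rfl
  let t₁ : Spec Rn ⟶ X := Spec.map πR ≫ X.fromSpecStalk x
  have ht₁ : t₁ ≫ f = Spec.map (CommRingCat.ofHom θ) ≫ sÂ := by
    rw [Category.assoc, ← hζ, ← Spec.map_comp, ← Spec.map_comp, ← CommRingCat.ofHom_comp, hθ]
    rfl
  let t : Spec Rn ⟶ Y := pullback.lift t₁ (Spec.map (CommRingCat.ofHom θ)) ht₁
  have htp1 : t ≫ p1 = t₁ := pullback.lift_fst _ _ _
  have htp2 : t ≫ p2 = Spec.map (CommRingCat.ofHom θ) := pullback.lift_snd _ _ _
  -- the quotient `S / m_R^n S`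
  let I : Ideal S := (maximalIdeal R ^ n).map ρ.hom
  have hI_le : I ≤ maximalIdeal S ^ n := Ideal.map_le_iff_le_comap.mpr h
  have hI_le' : I ≤ maximalIdeal S := hI_le.trans (Ideal.pow_le_self hn0)
  have hI_ne : I ≠ ⊤ := fun h => (maximalIdeal.isMaximal S).ne_top (top_le_iff.mp (h ▸ hI_le'))
  haveI : Nontrivial (S ⧸ I) := Ideal.Quotient.nontrivial_iff.mpr hI_ne
  haveI : IsLocalRing (S ⧸ I) :=
    IsLocalRing.of_surjective' (Ideal.Quotient.mk I) Ideal.Quotient.mk_surjective
  let L : CommRingCat.{u} := CommRingCat.of (S ⧸ I)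
  haveI : IsLocalRing L := ‹IsLocalRing (S ⧸ I)›
  let πS : S ⟶ L := CommRingCat.ofHom (Ideal.Quotient.mk I)
  haveI hπSloc : IsLocalHom πS.hom :=
    IsLocalHom.of_surjective (Ideal.Quotient.mk I) Ideal.Quotient.mk_surjective
  let β : (R ⧸ maximalIdeal R ^ n) →+* (S ⧸ I) :=
    Ideal.Quotient.lift (maximalIdeal R ^ n) ((Ideal.Quotient.mk I).comp ρ.hom)
      (fun r hr => by
        rw [RingHom.comp_apply, Ideal.Quotient.eq_zero_iff_mem]
        exact Ideal.mem_map_of_mem _ hr)
  let β' : Rn ⟶ L := CommRingCat.ofHom β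
  have hβ : πR ≫ β' = ρ ≫ πS := rfl
  haveI hβloc : IsLocalHom β'.hom := by
    constructor
    intro a ha
    obtain ⟨r, rfl⟩ := Ideal.Quotient.mk_surjective a
    have h1 : IsUnit (πS.hom (ρ.hom r)) := ha
    have h2 : IsUnit (ρ.hom r) := (isUnit_map_iff πS.hom _).mp h1
    have h3 : IsUnit r := (isUnit_map_iff ρ.hom _).mp h2
    exact h3.map (Ideal.Quotient.mk _)
  -- the two morphisms `Spec (S/I) → Y` agree
  set c := Spec.map πS ≫ Y.fromSpecStalk q with hc
  set c' := Spec.map β' ≫ t with hc'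
  have hstalk : Y.fromSpecStalk q ≫ p1 = Spec.map ρ ≫ X.fromSpecStalk x :=
    (Scheme.SpecMap_stalkMap_fromSpecStalk (f := p1) (x := q)).symm
  have e1 : c ≫ p1 = Spec.map (ρ ≫ πS) ≫ X.fromSpecStalk x := by
    rw [hc, Category.assoc, hstalk, ← Category.assoc, ← Spec.map_comp]
  have e1' : c' ≫ p1 = Spec.map (ρ ≫ πS) ≫ X.fromSpecStalk x := by
    rw [hc', Category.assoc, htp1, ← hβ, Spec.map_comp, Category.assoc]
  have e1'' : c ≫ p1 = c' ≫ p1 := e1.trans e1'.symm
  have hcc : c = c' := by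
    apply pullback.hom_ext e1''
    let u₁ := Spec.preimage (c ≫ p2)
    let u₂ := Spec.preimage (c' ≫ p2)
    have hu₁ : Spec.map u₁ = c ≫ p2 := Spec.map_preimage _
    have hu₂ : Spec.map u₂ = c' ≫ p2 := Spec.map_preimage _
    have hcond : p1 ≫ f = p2 ≫ sÂ := pullback.condition
    have hi1 : Spec.map (CommRingCat.ofHom (algebraMap A Â) ≫ u₁) = c ≫ p1 ≫ f := by
      rw [Spec.map_comp, hu₁, Category.assoc, hcond]
    have hi2 : Spec.map (CommRingCat.ofHom (algebraMap A Â) ≫ u₂) = c' ≫ p1 ≫ f := by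
      rw [Spec.map_comp, hu₂, Category.assoc, hcond]
    have hi : CommRingCat.ofHom (algebraMap A Â) ≫ u₁ =
        CommRingCat.ofHom (algebraMap A Â) ≫ u₂ := by
      apply Spec.map_injective
      rw [hi1, hi2, ← Category.assoc, ← Category.assoc, e1'']
    have hν : CommRingCat.ofHom (algebraMap A Â) ≫ u₁ = ζ' ≫ ρ ≫ πS := by
      apply Spec.map_injective
      rw [hi1, ← Category.assoc, e1, Category.assoc, ← hζ, ← Spec.map_comp]
    have hkill₁ : ∀ a ∈ maximalIdeal A ^ n, u₁.hom (algebraMap A Â a) = 0 := by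
      intro a ha
      have h1 := congrArg (fun g => g.hom a) hν
      have h2 : u₁.hom (algebraMap A Â a) = Ideal.Quotient.mk I (ρ.hom (ζ'.hom a)) := h1
      rw [h2, Ideal.Quotient.eq_zero_iff_mem]
      exact Ideal.mem_map_of_mem _ (hζpow a ha)
    have hkill₂ : ∀ a ∈ maximalIdeal A ^ n, u₂.hom (algebraMap A Â a) = 0 := by
      intro a ha
      have h1 := congrArg (fun g => g.hom a) hi
      have h2 : u₁.hom (algebraMap A Â a) = u₂.hom (algebraMap A Â a) := h1
      rw [← h2]
      exact hkill₁ a ha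
    have hker : ∀ (u : CommRingCat.of Â ⟶ L),
        (∀ a ∈ maximalIdeal A ^ n, u.hom (algebraMap A Â a) = 0) →
        ∀ z ∈ (maximalIdeal A ^ n).map (algebraMap A Â), u.hom z = 0 := by
      intro u hu z hz
      have hle : (maximalIdeal A ^ n).map (algebraMap A Â) ≤ RingHom.ker u.hom := by
        rw [Ideal.map_le_iff_le_comap]
        intro a ha
        exact hu a ha
      exact hle hz
    have hu : u₁ = u₂ := by
      ext z
      obtain ⟨a, ha⟩ := exists_sub_mem A hm n z
      have h1 := hker u₁ hkill₁ _ ha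
      have h2 := hker u₂ hkill₂ _ ha
      have h3 : u₁.hom (algebraMap A Â a) = u₂.hom (algebraMap A Â a) :=
        congrArg (fun g => g.hom a) hi
      rw [map_sub, sub_eq_zero] at h1 h2
      show u₁.hom z = u₂.hom z
      rw [← h1, ← h2, h3]
    rw [← hu₁, ← hu₂, hu]
  -- the point of `t`
  have hpt : t (closedPoint Rn) = q := by
    have h1 : c (closedPoint L) = c' (closedPoint L) := by rw [hcc]
    have h2 : c (closedPoint L) = q := by
      rw [hc, Scheme.Hom.comp_apply, Spec_closedPoint, Scheme.fromSpecStalk_closedPoint]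
    have h3 : c' (closedPoint L) = t (closedPoint Rn) := by
      rw [hc', Scheme.Hom.comp_apply, Spec_closedPoint]
    rw [← h3, ← h1, h2]
  obtain ⟨σ, hσloc, hσ⟩ := exists_fac q Rn t hpt
  haveI := hσloc
  have h4 : Spec.map πS ≫ Y.fromSpecStalk q = Spec.map (σ ≫ β') ≫ Y.fromSpecStalk q := by
    rw [Spec.map_comp, Category.assoc, hσ]
    exact hcc
  have h4' : πS = σ ≫ β' := Spec.map_injective ((cancel_mono (Y.fromSpecStalk q)).mp h4)
  have h5 : Spec.map (ρ ≫ σ) ≫ X.fromSpecStalk x = Spec.map πR ≫ X.fromSpecStalk x := by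
    rw [Spec.map_comp, Category.assoc, ← hstalk, ← Category.assoc, hσ, htp1]
  have h5' : ρ ≫ σ = πR := Spec.map_injective ((cancel_mono (X.fromSpecStalk x)).mp h5)
  -- `σ` kills `m_S^n`
  have hσm : (maximalIdeal S).map σ.hom ≤
      (maximalIdeal R).map (Ideal.Quotient.mk (maximalIdeal R ^ n)) := by
    rw [Ideal.map_le_iff_le_comap]
    intro s hs
    obtain ⟨r, hr⟩ := Ideal.Quotient.mk_surjective (σ.hom s)
    rw [Ideal.mem_comap, ← hr]
    apply Ideal.mem_map_of_mem
    by_contra hnr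
    have hur : IsUnit r := IsLocalRing.notMem_maximalIdeal.mp hnr
    have hus : IsUnit (σ.hom s) := by rw [← hr]; exact hur.map _
    exact hs ((isUnit_map_iff σ.hom s).mp hus)
  have hσkill : ∀ s ∈ maximalIdeal S ^ n, σ.hom s = 0 := by
    intro s hs
    have h1 : σ.hom s ∈ (maximalIdeal S ^ n).map σ.hom := Ideal.mem_map_of_mem _ hs
    rw [Ideal.map_pow] at h1
    have h2 := Ideal.pow_right_mono hσm n h1
    rw [← Ideal.map_pow, Ideal.map_quotient_self] at h2
    exact (Ideal.mem_bot).mp h2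
  refine ⟨(injective_iff_map_eq_zero _).mpr ?_, ?_⟩
  · intro a ha
    obtain ⟨r, rfl⟩ := Ideal.Quotient.mk_surjective a
    rw [Ideal.quotientMap_mk, Ideal.Quotient.eq_zero_iff_mem] at ha
    rw [Ideal.Quotient.eq_zero_iff_mem]
    have h6 : πR.hom r = σ.hom (ρ.hom r) := by
      have := congrArg (fun g : R ⟶ Rn => g.hom r) h5'
      exact this.symm
    have h7 : σ.hom (ρ.hom r) = 0 := hσkill _ ha
    have h8 : Ideal.Quotient.mk (maximalIdeal R ^ n) r = 0 := by
      rw [← h7, ← h6]
      rfl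
    exact Ideal.Quotient.eq_zero_iff_mem.mp h8
  · intro b
    obtain ⟨s, rfl⟩ := Ideal.Quotient.mk_surjective b
    obtain ⟨r, hr⟩ := Ideal.Quotient.mk_surjective (σ.hom s)
    refine ⟨Ideal.Quotient.mk _ r, ?_⟩
    rw [Ideal.quotientMap_mk, Ideal.Quotient.eq]
    apply hI_le
    rw [← Ideal.Quotient.eq]
    have h8 : πS.hom s = β'.hom (σ.hom s) := by
      have := congrArg (fun g : S ⟶ L => g.hom s) h4'
      exact this
    rw [← hr] at h8
    exact h8.symm

end Main

end Groth.Agent.Lead.CplQuot
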