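import Mathlib
import Groth.Prelude.Def_Curv2
import Groth.Agent.S0543
import Groth.Agent.Helper2.RegFlat
import Groth.Agent.Lead.BCPoint
import Groth.Agent.Helper3.PullDivH
import Groth.Agent.Helper2.SerreLoc

/-!
# CplReg: regularity and base change to the completion of a Noetherian local ring
-/

set_option autoImplicit false
set_option linter.style.haveILetI false
set_option linter.unusedVariables false
set_option linter.unusedSectionVars false

universe u

open CategoryTheory CategoryTheory.Limits AlgebraicGeometry IsLocalRing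

namespace Groth.Agent.Lead.CplReg

section Fac

variable {Y : Scheme.{u}} (y : Y)

/-- if `Spec (S/I) → Spec S → Y` (with `S = O_{Y,y}`) factors through the spectrum of a field,
then `m_S ≤ I` -/
theorem maximalIdeal_le_of_fac (I : Ideal (Y.presheaf.stalk y)) (hI : I ≠ ⊤)
    (F : Type u) [Field F] (t : Spec (CommRingCat.of F) ⟶ Y)
    (β : F →+* (Y.presheaf.stalk y ⧸ I))
    (h : Spec.map (CommRingCat.ofHom (Ideal.Quotient.mk I)) ≫ Y.fromSpecStalk y =
      Spec.map (CommRingCat.ofHom β) ≫ t) :
    maximalIdeal (Y.presheaf.stalk y) ≤ I := by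
  haveI : Nontrivial (Y.presheaf.stalk y ⧸ I) := Ideal.Quotient.nontrivial_iff.mpr hI
  haveI : IsLocalRing (Y.presheaf.stalk y ⧸ I) :=
    IsLocalRing.of_surjective' (Ideal.Quotient.mk I) Ideal.Quotient.mk_surjective
  let L : CommRingCat.{u} := CommRingCat.of (Y.presheaf.stalk y ⧸ I)
  haveI : IsLocalRing L := ‹IsLocalRing (Y.presheaf.stalk y ⧸ I)›
  let π : Y.presheaf.stalk y ⟶ L := CommRingCat.ofHom (Ideal.Quotient.mk I)
  haveI hπloc : IsLocalHom π.hom :=
    IsLocalHom.of_surjective (Ideal.Quotient.mk I) Ideal.Quotient.mk_surjective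
  let β' : CommRingCat.of F ⟶ L := CommRingCat.ofHom β
  haveI hβloc : IsLocalHom β'.hom := by
    constructor
    intro a ha
    rcases eq_or_ne a 0 with rfl | hne
    · exfalso
      have : IsUnit (0 : Y.presheaf.stalk y ⧸ I) := by
        simp only [β', CommRingCat.hom_ofHom, map_zero] at ha
        exact ha
      exact not_isUnit_zero this
    · exact hne.isUnit
  let τ := Scheme.stalkClosedPointTo t
  have ht : Spec.map τ ≫ Y.fromSpecStalk _ = t := Scheme.Spec_stalkClosedPointTo_fromSpecStalk t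
  haveI : IsLocalHom (τ ≫ β').hom := by
    rw [CommRingCat.hom_comp]
    exact RingHom.isLocalHom_comp _ _
  let f₁ : Σ x, { f : Y.presheaf.stalk x ⟶ L // IsLocalHom f.hom } := ⟨y, ⟨π, hπloc⟩⟩
  let f₂ : Σ x, { f : Y.presheaf.stalk x ⟶ L // IsLocalHom f.hom } :=
    ⟨t (closedPoint F), ⟨τ ≫ β', inferInstance⟩⟩
  have hE : (SpecToEquivOfLocalRing Y L).symm f₁ = (SpecToEquivOfLocalRing Y L).symm f₂ := by
    show Spec.map π ≫ Y.fromSpecStalk y = Spec.map (τ ≫ β') ≫ Y.fromSpecStalk _
    rw [Spec.map_comp, Category.assoc, ht]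
    exact h
  have hf : f₁ = f₂ := (SpecToEquivOfLocalRing Y L).symm.injective hE
  obtain ⟨h₁, h₂⟩ := SpecToEquivOfLocalRing_eq_iff.mp hf
  intro s hs
  rw [← Ideal.Quotient.eq_zero_iff_mem]
  let σ := Y.presheaf.stalkCongr (show Inseparable y (t (closedPoint F)) by
    have : y = t (closedPoint F) := h₁
    rw [← this])
  have h3 : Ideal.Quotient.mk I s = β (τ.hom (σ.hom.hom s)) := by
    have := congrArg (fun g => g.hom s) h₂
    exact this
  rw [h3]
  have h4 : τ.hom (σ.hom.hom s) = 0 := by
    by_contra hne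
    have hu : IsUnit (τ.hom (σ.hom.hom s)) := Ne.isUnit hne
    have hu2 : IsUnit (σ.hom.hom s) := (isUnit_map_iff τ.hom _).mp hu
    have hu3 : IsUnit s := by
      have := hu2.map σ.inv.hom
      simpa using this
    exact hs hu3
  rw [h4, map_zero]

end Fac

section Main

variable (A : Type u) [CommRing A] [IsLocalRing A] [IsNoetherianRing A]
  {X : Scheme.{u}} (f : X ⟶ Spec (CommRingCat.of A))

local notation "Â" => AdicCompletion (maximalIdeal A) A
local notation "sÂ" =>
  Spec.map (CommRingCat.ofHom (algebraMap A (AdicCompletion (maximalIdeal A) A)))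

theorem closed_of_closed (y : ↑(pullback f sÂ))
    (hy : pullback.snd f sÂ y = closedPoint Â) :
    f (pullback.fst f sÂ y) = closedPoint A := by
  have h1 : (pullback.fst f sÂ ≫ f) y = (pullback.snd f sÂ ≫ sÂ) y := by
    rw [pullback.condition]
  rw [Scheme.Hom.comp_apply, Scheme.Hom.comp_apply, hy] at h1
  rw [h1]
  haveI : IsLocalHom (CommRingCat.Hom.hom (CommRingCat.ofHom (algebraMap A Â))) := by
    rw [CommRingCat.hom_ofHom]; infer_instance
  exact Spec_closedPoint

theorem map_maximalIdeal_eq (y : ↑(pullback f sÂ))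
    (hy : pullback.snd f sÂ y = closedPoint Â) :
    (maximalIdeal (X.presheaf.stalk (pullback.fst f sÂ y))).map
        ((pullback.fst f sÂ).stalkMap y).hom =
      maximalIdeal ((pullback f sÂ).presheaf.stalk y) := by
  set p1 := pullback.fst f sÂ with hp1
  set p2 := pullback.snd f sÂ with hp2
  set x := p1 y with hx
  let R := X.presheaf.stalk x
  let S := (pullback f sÂ).presheaf.stalk y
  let ρ : R ⟶ S := p1.stalkMap y
  let I : Ideal S := (maximalIdeal R).map ρ.hom
  have hI_le : I ≤ maximalIdeal S := by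
    rw [Ideal.map_le_iff_le_comap]
    intro r hr
    exact map_nonunit ρ.hom r hr
  have hI_ne : I ≠ ⊤ := fun h => (maximalIdeal.isMaximal S).ne_top (top_le_iff.mp (h ▸ hI_le))
  refine le_antisymm hI_le ?_
  have hfx : f x = closedPoint A := closed_of_closed A f y hy
  -- the structure map `A → R`
  let ζ' : CommRingCat.of A ⟶ R := Spec.preimage (X.fromSpecStalk x ≫ f)
  have hζ : Spec.map ζ' = X.fromSpecStalk x ≫ f := Spec.map_preimage _
  have hζloc : ∀ a ∈ maximalIdeal A, ζ'.hom a ∈ maximalIdeal R := by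
    have h1 : (Spec.map ζ') (closedPoint R) = closedPoint A := by
      rw [hζ, Scheme.Hom.comp_apply, Scheme.fromSpecStalk_closedPoint, hfx]
    have h2 : Ideal.comap ζ'.hom (maximalIdeal R) = maximalIdeal A :=
      congrArg PrimeSpectrum.asIdeal h1
    intro a ha
    rw [← h2] at ha
    exact ha
  -- the residue field `F` of `R` and the map `Â → F`
  let F := ResidueField R
  let θ₀ : A ⧸ maximalIdeal A →+* F :=
    Ideal.Quotient.lift (maximalIdeal A) ((residue R).comp ζ'.hom)
      (fun a ha => (residue_eq_zero_iff _).mpr (hζloc a ha))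
  let θ : Â →+* F := θ₀.comp (AdicCompletion.evalOneₐ (maximalIdeal A)).toRingHom
  have hθ : θ.comp (algebraMap A Â) = (residue R).comp ζ'.hom := by
    ext a
    show θ₀ ((AdicCompletion.evalOneₐ (maximalIdeal A)) (algebraMap A Â a)) = _
    rw [AlgHom.commutes]
    rfl
  let t₁ : Spec (CommRingCat.of F) ⟶ X := Spec.map (CommRingCat.ofHom (residue R)) ≫ X.fromSpecStalk x
  have hζres : ζ' ≫ CommRingCat.ofHom (residue R) = CommRingCat.ofHom ((residue R).comp ζ'.hom) := rfl
  have ht₁ : t₁ ≫ f = Spec.map (CommRingCat.ofHom θ) ≫ sÂ := by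
    rw [Category.assoc, ← hζ, ← Spec.map_comp, ← Spec.map_comp, ← CommRingCat.ofHom_comp, hθ]
    rfl
  let t : Spec (CommRingCat.of F) ⟶ pullback f sÂ := pullback.lift t₁ (Spec.map (CommRingCat.ofHom θ)) ht₁
  have htp1 : t ≫ p1 = t₁ := pullback.lift_fst _ _ _
  have htp2 : t ≫ p2 = Spec.map (CommRingCat.ofHom θ) := pullback.lift_snd _ _ _
  let β : F →+* (S ⧸ I) :=
    Ideal.Quotient.lift (maximalIdeal R) ((Ideal.Quotient.mk I).comp ρ.hom)
      (fun r hr => by
        rw [RingHom.comp_apply, Ideal.Quotient.eq_zero_iff_mem]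
        exact Ideal.mem_map_of_mem _ hr)
  have hβ : CommRingCat.ofHom (residue R) ≫ CommRingCat.ofHom β =
      ρ ≫ CommRingCat.ofHom (Ideal.Quotient.mk I) := rfl
  refine maximalIdeal_le_of_fac y I hI_ne F t β ?_
  set c := Spec.map (CommRingCat.ofHom (Ideal.Quotient.mk I)) ≫ (pullback f sÂ).fromSpecStalk y with hc
  set c' := Spec.map (CommRingCat.ofHom β) ≫ t with hc'
  have hstalk : (pullback f sÂ).fromSpecStalk y ≫ p1 = Spec.map ρ ≫ X.fromSpecStalk x :=
    (Scheme.SpecMap_stalkMap_fromSpecStalk (f := p1) (x := y)).symm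
  have e1 : c ≫ p1 = Spec.map (ρ ≫ CommRingCat.ofHom (Ideal.Quotient.mk I)) ≫ X.fromSpecStalk x := by
    rw [hc, Category.assoc, hstalk, ← Category.assoc, ← Spec.map_comp]
    rfl
  have e1' : c' ≫ p1 = Spec.map (ρ ≫ CommRingCat.ofHom (Ideal.Quotient.mk I)) ≫ X.fromSpecStalk x := by
    rw [hc', Category.assoc, htp1, ← hβ, Spec.map_comp, Category.assoc]
  have e1'' : c ≫ p1 = c' ≫ p1 := e1.trans e1'.symm
  apply pullback.hom_ext e1''
  -- second components
  let u₁ := Spec.preimage (c ≫ p2)
  let u₂ := Spec.preimage (c' ≫ p2)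
  have hu₁ : Spec.map u₁ = c ≫ p2 := Spec.map_preimage _
  have hu₂ : Spec.map u₂ = c' ≫ p2 := Spec.map_preimage _
  have hcond : p1 ≫ f = p2 ≫ sÂ := pullback.condition
  have hi1 : Spec.map (CommRingCat.ofHom (algebraMap A Â) ≫ u₁) = c ≫ p1 ≫ f := by
    rw [Spec.map_comp, hu₁, Category.assoc, hcond]
  have hi2 : Spec.map (CommRingCat.ofHom (algebraMap A Â) ≫ u₂) = c' ≫ p1 ≫ f := by
    rw [Spec.map_comp, hu₂, Category.assoc, hcond]
  have hi : CommRingCat.ofHom (algebraMap A Â) ≫ u₁ = CommRingCat.ofHom (algebraMap A Â) ≫ u₂ := by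
    apply Spec.map_injective
    rw [hi1, hi2, ← Category.assoc, ← Category.assoc, e1'']
  have hν : CommRingCat.ofHom (algebraMap A Â) ≫ u₁ =
      ζ' ≫ ρ ≫ CommRingCat.ofHom (Ideal.Quotient.mk I) := by
    apply Spec.map_injective
    rw [hi1, ← Category.assoc, e1, Category.assoc, ← hζ, ← Spec.map_comp]
  have hkill₁ : ∀ a ∈ maximalIdeal A, u₁.hom (algebraMap A Â a) = 0 := by
    intro a ha
    have h1 := congrArg (fun g => g.hom a) hν
    have h2 : u₁.hom (algebraMap A Â a) = Ideal.Quotient.mk I (ρ.hom (ζ'.hom a)) := h1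
    rw [h2, Ideal.Quotient.eq_zero_iff_mem]
    exact Ideal.mem_map_of_mem _ (hζloc a ha)
  have hkill₂ : ∀ a ∈ maximalIdeal A, u₂.hom (algebraMap A Â a) = 0 := by
    intro a ha
    have h1 := congrArg (fun g => g.hom a) hi
    have h2 : u₁.hom (algebraMap A Â a) = u₂.hom (algebraMap A Â a) := h1
    rw [← h2]
    exact hkill₁ a ha
  have hker : ∀ (u : CommRingCat.of Â ⟶ CommRingCat.of (S ⧸ I)),
      (∀ a ∈ maximalIdeal A, u.hom (algebraMap A Â a) = 0) →
      ∀ z ∈ maximalIdeal Â, u.hom z = 0 := by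
    intro u hu z hz
    rw [AdicCompletion.maximalIdeal_eq_map] at hz
    have hle : (maximalIdeal A).map (algebraMap A Â) ≤ RingHom.ker u.hom := by
      rw [Ideal.map_le_iff_le_comap]
      intro a ha
      exact hu a ha
    exact hle hz
  have hu : u₁ = u₂ := by
    ext z
    obtain ⟨a', ha'⟩ := (AdicCompletion.residueField_map_bijective A).2 (residue Â z)
    obtain ⟨a, rfl⟩ := residue_surjective a'
    rw [ResidueField.map_residue] at ha'
    have hz : z - algebraMap A Â a ∈ maximalIdeal Â := by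
      rw [← residue_eq_zero_iff, map_sub, ha', sub_self]
    have h1 := hker u₁ hkill₁ _ hz
    have h2 := hker u₂ hkill₂ _ hz
    have h3 : u₁.hom (algebraMap A Â a) = u₂.hom (algebraMap A Â a) :=
      congrArg (fun g => g.hom a) hi
    rw [map_sub, sub_eq_zero] at h1 h2
    show u₁.hom z = u₂.hom z
    rw [h1, h2, h3]
  rw [← hu₁, ← hu₂, hu]

theorem s1598 [LocallyOfFiniteType f] (y : ↑(pullback f sÂ))
    (hy : pullback.snd f sÂ y = closedPoint Â) :
    IsRegularLocalRing ((pullback f sÂ).presheaf.stalk y) ↔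
      IsRegularLocalRing (X.presheaf.stalk (pullback.fst f sÂ y)) := by
  have hflÂ : Flat sÂ := (HasRingHomProperty.Spec_iff (P := @Flat)).mpr (by
    rw [CommRingCat.hom_ofHom]
    exact RingHom.flat_algebraMap_iff.mpr inferInstance)
  haveI : Flat (pullback.fst f sÂ) := MorphismProperty.pullback_fst f sÂ hflÂ
  have hfl := Flat.stalkMap (pullback.fst f sÂ) y
  haveI : IsNoetherianRing Â := Groth.Agent.S0543.result A _
  haveI : IsNoetherianRing (CommRingCat.of A) := ‹IsNoetherianRing A›
  haveI : IsNoetherianRing (CommRingCat.of Â) := ‹IsNoetherianRing Â›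
  haveI : IsLocallyNoetherian X := LocallyOfFiniteType.isLocallyNoetherian f
  haveI : LocallyOfFiniteType (pullback.snd f sÂ) :=
    MorphismProperty.pullback_snd f sÂ inferInstance
  haveI : IsLocallyNoetherian (pullback f sÂ) :=
    LocallyOfFiniteType.isLocallyNoetherian (pullback.snd f sÂ)
  constructor
  · intro h
    haveI := h
    exact Groth.Agent.Lead.BCPoint.regular_descent ((pullback.fst f sÂ).stalkMap y).hom hfl
  · intro h
    haveI := h
    letI := ((pullback.fst f sÂ).stalkMap y).hom.toAlgebra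
    haveI : Module.Flat (X.presheaf.stalk (pullback.fst f sÂ y))
        ((pullback f sÂ).presheaf.stalk y) := hfl
    haveI : IsLocalHom (algebraMap (X.presheaf.stalk (pullback.fst f sÂ y))
        ((pullback f sÂ).presheaf.stalk y)) :=
      inferInstanceAs (IsLocalHom ((pullback.fst f sÂ).stalkMap y).hom)
    have hF : IsRegularLocalRing (((pullback f sÂ).presheaf.stalk y) ⧸
        (maximalIdeal (X.presheaf.stalk (pullback.fst f sÂ y))).map
          (algebraMap (X.presheaf.stalk (pullback.fst f sÂ y))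
            ((pullback f sÂ).presheaf.stalk y))) := by
      have hm : (maximalIdeal (X.presheaf.stalk (pullback.fst f sÂ y))).map
          (algebraMap (X.presheaf.stalk (pullback.fst f sÂ y))
            ((pullback f sÂ).presheaf.stalk y)) =
          maximalIdeal ((pullback f sÂ).presheaf.stalk y) := map_maximalIdeal_eq A f y hy
      rw [hm]
      have hfield : IsField (((pullback f sÂ).presheaf.stalk y) ⧸
          maximalIdeal ((pullback f sÂ).presheaf.stalk y)) :=
        (Ideal.Quotient.maximal_ideal_iff_isField_quotient _).mp (maximalIdeal.isMaximal _)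
      letI := hfield.toField
      infer_instance
    exact Groth.Agent.Helper2.RegFlat.isRegularLocalRing_of_flat_of_fibre hF

theorem s1597 [IsProper f] :
    (∀ x : X, IsRegularLocalRing (X.presheaf.stalk x)) ↔
      ∀ y : ↑(pullback f sÂ), IsRegularLocalRing ((pullback f sÂ).presheaf.stalk y) := by
  have hflÂ : Flat sÂ := (HasRingHomProperty.Spec_iff (P := @Flat)).mpr (by
    rw [CommRingCat.hom_ofHom]
    exact RingHom.flat_algebraMap_iff.mpr inferInstance)
  haveI : Flat (pullback.fst f sÂ) := MorphismProperty.pullback_fst f sÂ hflÂ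
  constructor
  · intro hX y'
    haveI : IsProper (pullback.snd f sÂ) := MorphismProperty.pullback_snd f sÂ inferInstance
    have hclosed : IsClosedMap (pullback.snd f sÂ) := (pullback.snd f sÂ).isClosedMap
    have hZ : IsClosed ((pullback.snd f sÂ) '' closure {y'}) := hclosed _ isClosed_closure
    have hmem : closedPoint Â ∈ (pullback.snd f sÂ) '' closure {y'} := by
      by_contra hnot
      let U : (Spec (CommRingCat.of Â)).Opens :=
        ⟨((pullback.snd f sÂ) '' closure {y'})ᶜ, hZ.isOpen_compl⟩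
      have hU : closedPoint Â ∈ U := hnot
      have hUtop : U = ⊤ := IsLocalRing.closed_point_mem_iff.mp hU
      have h1 : (pullback.snd f sÂ) y' ∈ U := by rw [hUtop]; trivial
      exact h1 ⟨y', subset_closure rfl, rfl⟩
    obtain ⟨y₀, hy₀cl, hy₀⟩ := hmem
    have hspec : y' ⤳ y₀ := specializes_iff_mem_closure.mpr hy₀cl
    haveI : IsRegularLocalRing ((pullback f sÂ).presheaf.stalk y₀) :=
      (s1598 A f y₀ hy₀).mpr (hX _)
    have hloc := Groth.Agent.Helper3.PullDivH.isLocalization_stalkSpecializes y₀ y' hspec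
    letI := ((pullback f sÂ).presheaf.stalkSpecializes hspec).hom.toAlgebra
    haveI : (RingHom.ker (Cyc.specMap y₀ y' hspec)).IsPrime := RingHom.ker_isPrime _
    haveI := hloc
    haveI : IsRegularLocalRing (Localization.AtPrime (RingHom.ker (Cyc.specMap y₀ y' hspec))) :=
      Groth.Agent.Helper2.SerreLoc.isRegularLocalRing_localization _ _
    let e := IsLocalization.algEquiv (RingHom.ker (Cyc.specMap y₀ y' hspec)).primeCompl
      (Localization.AtPrime (RingHom.ker (Cyc.specMap y₀ y' hspec)))
      ((pullback f sÂ).presheaf.stalk y')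
    exact IsRegularLocalRing.of_ringEquiv e.toRingEquiv
  · intro hY x
    haveI : Module.FaithfullyFlat A Â := Module.FaithfullyFlat.of_flat_of_isLocalHom
    obtain ⟨s', hs'⟩ := PrimeSpectrum.comap_surjective_of_faithfullyFlat (A := A) (B := Â) (f x)
    have hs'' : f x = sÂ s' := hs'.symm
    obtain ⟨y, rfl, -⟩ := Scheme.Pullback.exists_preimage_pullback (f := f) (g := sÂ) x s' hs''
    haveI := hY y
    exact Groth.Agent.Lead.BCPoint.regular_descent ((pullback.fst f sÂ).stalkMap y).hom
      (Flat.stalkMap (pullback.fst f sÂ) y)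

end Main

end Groth.Agent.Lead.CplReg
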