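import Mathlib
import Groth.Prelude.Def_CAlg
import Groth.Agent.Helper2.Depth
import Groth.Agent.Helper2.DepthCM4
import Groth.Agent.Lead.H0GeomC

/-!
# Proper curves with `h⁰(O) = 1`: connected, Cohen–Macaulay, equidimensional (S1534)
-/

set_option autoImplicit false
open CategoryTheory CategoryTheory.Limits AlgebraicGeometry Opposite TopologicalSpace IsLocalRing
universe u

namespace Groth.Agent.Lead.CurveCM

section Algebra

theorem le_zero_of_lt_one {x : WithBot ℕ∞} (h : x < 1) : x ≤ 0 := by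
  induction x using WithBot.recBotCoe with
  | bot => exact bot_le
  | coe n =>
    have h' : n < 1 := by exact_mod_cast h
    rw [Order.lt_one_iff] at h'
    rw [h']
    rfl

/-- a Noetherian local ring of dimension `≤ 1` whose maximal ideal is not associated when the
dimension is one is Cohen–Macaulay -/
theorem isCM_of_dim_le_one (R : Type u) [CommRing R] [IsLocalRing R] [IsNoetherianRing R]
    (hdim : ringKrullDim R ≤ 1)
    (hass : ringKrullDim R = 1 → maximalIdeal R ∉ associatedPrimes R R) :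
    LocCoh.IsCohenMacaulayLocalRing R := by
  have h1 : Module.supportDim R R = ringKrullDim R := Module.supportDim_self_eq_ringKrullDim R
  have h2 := Groth.Agent.Helper2.DepthCM4.depth_le_supportDim (A := R) R
  refine { supportDim_eq_depth := le_antisymm ?_ h2 }
  rw [h1]
  by_cases hd : LocCoh.depth R R = 0
  · rw [hd]
    have hm : maximalIdeal R ∈ associatedPrimes R R :=
      Groth.Agent.Helper2.Ass.maximalIdeal_mem_ass_of_forall_not_regular R R
        ((Groth.Agent.Helper2.Depth.depth_eq_zero_iff R R).mp hd)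
    have hne : ringKrullDim R ≠ 1 := fun h => hass h hm
    exact le_zero_of_lt_one (lt_of_le_of_ne hdim hne)
  · have h3 : (1 : ℕ∞) ≤ LocCoh.depth R R := Order.one_le_iff_ne_zero.mpr hd
    exact hdim.trans (by exact_mod_cast h3)

end Algebra

section Dim

theorem topologicalKrullDim_eq_iSup_coheight (X : Scheme.{u}) :
    topologicalKrullDim ↥X = ⨆ x : ↥X, ((Order.coheight x : ℕ∞) : WithBot ℕ∞) := by
  letI := specializationOrder X
  rw [topologicalKrullDim, Order.krullDim_eq_of_orderIso (irreducibleSetEquivPoints (α := ↥X)),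
    Order.krullDim_eq_iSup_coheight]

theorem coheight_le_dim (X : Scheme.{u}) (x : ↥X) :
    ((Order.coheight x : ℕ∞) : WithBot ℕ∞) ≤ topologicalKrullDim ↥X := by
  rw [topologicalKrullDim_eq_iSup_coheight]
  exact le_iSup (fun x : ↥X => ((Order.coheight x : ℕ∞) : WithBot ℕ∞)) x

/-- in a scheme of dimension one, a point whose local ring has dimension one is closed -/
theorem isClosed_singleton_of_dim (X : Scheme.{u}) (hdim : topologicalKrullDim X = 1) (x : X)
    (hx : ringKrullDim (X.presheaf.stalk x) = 1) : IsClosed ({x} : Set X) := by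
  rw [← closure_eq_iff_isClosed]
  refine Set.Subset.antisymm ?_ subset_closure
  intro y hy
  by_contra hne
  have hxy : x ⤳ y := specializes_iff_mem_closure.mpr hy
  have hlt : y < x := by
    refine ⟨hxy, fun hyx => hne ?_⟩
    exact (hyx.antisymm hxy).eq
  have h1 := Order.coheight_add_one_le hlt
  have h2 := coheight_le_dim X y
  rw [hdim] at h2
  rw [ringKrullDim_stalk_eq_coheight] at hx
  have hx' : Order.coheight x = 1 := by exact_mod_cast hx
  have h2' : Order.coheight y ≤ 1 := by exact_mod_cast h2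
  rw [hx'] at h1
  have : (1 : ℕ∞) + 1 ≤ 1 := h1.trans h2'
  exact absurd this (by decide)

end Dim

section Embedded
variable {X : Scheme.{u}} [IsLocallyNoetherian X]

/-- if the maximal ideal of the local ring at `x` is associated, some nonzero section over an affine
neighbourhood is killed by the prime ideal of `x` -/
theorem exists_section_ann (U : X.Opens) (hU : IsAffineOpen U) (x : X) (hxU : x ∈ U)
    (hass : maximalIdeal (X.presheaf.stalk x) ∈
      associatedPrimes (X.presheaf.stalk x) (X.presheaf.stalk x)) :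
    ∃ a : Γ(X, U), a ≠ 0 ∧ ∀ g ∈ (hU.primeIdealOf ⟨x, hxU⟩).asIdeal, g * a = 0 := by
  letI := X.presheaf.algebra_section_stalk ⟨x, hxU⟩
  haveI := hU.isLocalization_stalk ⟨x, hxU⟩
  haveI : IsNoetherianRing Γ(X, U) := IsLocallyNoetherian.component_noetherian ⟨U, hU⟩
  have h1 := Module.associatedPrimes.comap_mem_associatedPrimes_of_mem_associatedPrimes_of_isLocalizedModule_of_fg
    (hU.primeIdealOf ⟨x, hxU⟩).asIdeal.primeCompl (Algebra.linearMap Γ(X, U) (X.presheaf.stalk x))
    (maximalIdeal (X.presheaf.stalk x)) hass ((isNoetherianRing_iff_ideal_fg _).mp inferInstance _)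
  have h2 : (maximalIdeal (X.presheaf.stalk x)).comap (algebraMap Γ(X, U) (X.presheaf.stalk x)) =
      (hU.primeIdealOf ⟨x, hxU⟩).asIdeal :=
    IsLocalization.AtPrime.under_maximalIdeal (X.presheaf.stalk x) _
  rw [h2] at h1
  obtain ⟨hp, a, ha⟩ := isAssociatedPrime_iff.mp h1
  refine ⟨a, ?_, fun g hg => ?_⟩
  · rintro rfl
    apply hp.ne_top
    rw [ha]
    ext r
    simp [Submodule.mem_colon_singleton]
  · rw [ha, Submodule.mem_colon_singleton] at hg
    simpa using hg

omit [IsLocallyNoetherian X] in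
theorem germ_eq_zero_of_ne (U : X.Opens) (hU : IsAffineOpen U) (x : X) (hxU : x ∈ U)
    (hxc : IsClosed ({x} : Set X)) (a : Γ(X, U))
    (ha : ∀ g ∈ (hU.primeIdealOf ⟨x, hxU⟩).asIdeal, g * a = 0) (y : X) (hyU : y ∈ U)
    (hne : y ≠ x) : X.presheaf.germ U y hyU a = 0 := by
  have hnle : ¬ (hU.primeIdealOf ⟨x, hxU⟩).asIdeal ≤ (hU.primeIdealOf ⟨y, hyU⟩).asIdeal := by
    intro hle
    have h1 : hU.primeIdealOf ⟨x, hxU⟩ ⤳ hU.primeIdealOf ⟨y, hyU⟩ :=
      (PrimeSpectrum.le_iff_specializes _ _).mp hle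
    have h2 := h1.map hU.fromSpec.continuous
    rw [hU.fromSpec_primeIdealOf ⟨x, hxU⟩, hU.fromSpec_primeIdealOf ⟨y, hyU⟩] at h2
    have h3 : y ∈ closure ({x} : Set X) := specializes_iff_mem_closure.mp h2
    rw [hxc.closure_eq] at h3
    exact hne h3
  obtain ⟨g, hgp, hgq⟩ := SetLike.not_le_iff_exists.mp hnle
  letI := X.presheaf.algebra_section_stalk ⟨y, hyU⟩
  haveI := hU.isLocalization_stalk ⟨y, hyU⟩
  show algebraMap Γ(X, U) (X.presheaf.stalk y) a = 0
  rw [IsLocalization.map_eq_zero_iff (hU.primeIdealOf ⟨y, hyU⟩).asIdeal.primeCompl]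
  exact ⟨⟨g, hgq⟩, ha g hgp⟩

/-- if every global function is zero or a unit, a closed point (which is not the whole space) is
not an embedded point -/
theorem not_mem_ass_of_closed (hΓ : ∀ s : Γ(X, ⊤), s = 0 ∨ IsUnit s) (x : X)
    (hxc : IsClosed ({x} : Set X)) (hy : ∃ y : X, y ≠ x) :
    maximalIdeal (X.presheaf.stalk x) ∉
      associatedPrimes (X.presheaf.stalk x) (X.presheaf.stalk x) := by
  intro hass
  obtain ⟨U, hU, hxU, -⟩ := exists_isAffineOpen_mem_and_subset (x := x) (U := ⊤) trivial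
  obtain ⟨a, ha0, ha⟩ := exists_section_ann U hU x hxU hass
  let W : X.Opens := ⟨{x}ᶜ, hxc.isOpen_compl⟩
  have hres : X.presheaf.map (homOfLE (inf_le_left : U ⊓ W ≤ U)).op a = 0 := by
    refine TopCat.Presheaf.section_ext X.sheaf (U ⊓ W) _ _ (fun y hy => ?_)
    have h1 : X.presheaf.germ (U ⊓ W) y hy
        (X.presheaf.map (homOfLE (inf_le_left : U ⊓ W ≤ U)).op a) = 0 :=
      (TopCat.Presheaf.germ_res_apply X.presheaf (homOfLE (inf_le_left : U ⊓ W ≤ U)) y hy a).trans
        (germ_eq_zero_of_ne U hU x hxU hxc a ha y hy.1 hy.2)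
    have h2 : X.presheaf.germ (U ⊓ W) y hy (0 : Γ(X, U ⊓ W)) = 0 := map_zero _
    exact h1.trans h2.symm
  let z : RingHom.eqLocus
      (RingHom.comp (X.sheaf.obj.map (homOfLE inf_le_left : U ⊓ W ⟶ U).op).hom
        (RingHom.fst (X.sheaf.obj.obj <| op U) (X.sheaf.obj.obj <| op W)))
      (RingHom.comp (X.sheaf.obj.map (homOfLE inf_le_right : U ⊓ W ⟶ W).op).hom
        (RingHom.snd (X.sheaf.obj.obj <| op U) (X.sheaf.obj.obj <| op W))) :=
    ⟨((a : Γ(X, U)), (0 : Γ(X, W))), by
      show X.presheaf.map (homOfLE (inf_le_left : U ⊓ W ≤ U)).op a =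
        X.presheaf.map (homOfLE (inf_le_right : U ⊓ W ≤ W)).op 0
      rw [hres, map_zero]⟩
  obtain ⟨s, hs⟩ : ∃ s : Γ(X, U ⊔ W), s = (X.sheaf.objSupIsoProdEqLocus U W).inv z := ⟨_, rfl⟩
  have hs1 : X.presheaf.map (homOfLE (le_sup_left : U ≤ U ⊔ W)).op s = a := by
    rw [hs]; exact X.sheaf.objSupIsoProdEqLocus_inv_fst U W z
  have hs2 : X.presheaf.map (homOfLE (le_sup_right : W ≤ U ⊔ W)).op s = 0 := by
    rw [hs]; exact X.sheaf.objSupIsoProdEqLocus_inv_snd U W z
  have htop : (⊤ : X.Opens) ≤ U ⊔ W := by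
    intro y _
    by_cases hyx : y = x
    · exact Or.inl (hyx ▸ hxU)
    · exact Or.inr hyx
  obtain ⟨s', hs'⟩ : ∃ s' : Γ(X, ⊤), s' = X.presheaf.map (homOfLE htop).op s := ⟨_, rfl⟩
  have hs1' : X.presheaf.map (homOfLE (le_top : U ≤ ⊤)).op s' = a := by
    rw [hs', ← hs1, ← CommRingCat.comp_apply, ← Functor.map_comp]
    rfl
  have hs2' : X.presheaf.map (homOfLE (le_top : W ≤ ⊤)).op s' = 0 := by
    rw [hs', ← hs2, ← CommRingCat.comp_apply, ← Functor.map_comp]
    rfl
  rcases hΓ s' with h0 | hu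
  · apply ha0
    rw [← hs1', h0, map_zero]
  · have hu' : IsUnit (X.presheaf.map (homOfLE (le_top : W ≤ ⊤)).op s') := hu.map _
    rw [hs2'] at hu'
    obtain ⟨y, hyx⟩ := hy
    haveI : Nonempty W := ⟨⟨y, hyx⟩⟩
    haveI : Nontrivial Γ(X, W) := inferInstance
    exact not_isUnit_zero hu'

end Embedded

section Components
variable (X : Scheme.{u}) [AlgebraicGeometry.IsNoetherian X] [ConnectedSpace X]

omit [AlgebraicGeometry.IsNoetherian X] [ConnectedSpace X] in
theorem exists_ne_of_dim (hdim : topologicalKrullDim X = 1) (x : X) : ∃ y : X, y ≠ x := by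
  by_contra hcon
  push Not at hcon
  haveI : Subsingleton X := ⟨fun a b => (hcon a).trans (hcon b).symm⟩
  have := topologicalKrullDim_zero_of_discreteTopology X
  rw [hdim] at this
  exact absurd this (by decide)

theorem dim_component (hdim : topologicalKrullDim X = 1) (Z : Set X)
    (hZ : Z ∈ irreducibleComponents X) : topologicalKrullDim Z = 1 := by
  refine le_antisymm ((topologicalKrullDim_subspace_le X Z).trans hdim.le) ?_
  have hZi : IsIrreducible Z := hZ.1
  have hZc : IsClosed Z := isClosed_of_mem_irreducibleComponents Z hZ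
  obtain ⟨η, hη⟩ := QuasiSober.sober hZi hZc
  have hηZ : η ∈ Z := hη.mem
  -- a second point of `Z`
  have hex : ∃ z ∈ Z, z ≠ η := by
    by_contra hcon
    push Not at hcon
    have hZη : Z = {η} := Set.Subset.antisymm (fun z hz => hcon z hz) (by simpa using hηZ)
    have hopen : IsOpen ({η} : Set X) := by
      rw [← isClosed_compl_iff]
      have hcompl : ({η} : Set X)ᶜ = ⋃ Z' ∈ irreducibleComponents X \ {Z}, Z' := by
        ext y
        simp only [Set.mem_compl_iff, Set.mem_singleton_iff, Set.mem_iUnion, exists_prop,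
          Set.mem_sdiff]
        constructor
        · intro hy
          refine ⟨irreducibleComponent y, ⟨irreducibleComponent_mem_irreducibleComponents y, ?_⟩,
            mem_irreducibleComponent⟩
          intro h
          have : y ∈ Z := h ▸ mem_irreducibleComponent
          rw [hZη] at this
          exact hy this
        · rintro ⟨Z', ⟨hZ', hne⟩, hyZ'⟩ hyη
          apply hne
          subst hyη
          have hZ'c : IsClosed Z' := isClosed_of_mem_irreducibleComponents Z' hZ'
          have hsub : Z ⊆ Z' := by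
            rw [hZη]
            simpa using hyZ'
          exact Set.Subset.antisymm (hZ.2 hZ'.1 hsub) hsub
      rw [hcompl]
      exact (TopologicalSpace.NoetherianSpace.finite_irreducibleComponents.subset
        Set.sdiff_subset).isClosed_biUnion
        (fun Z' hZ' => isClosed_of_mem_irreducibleComponents Z' hZ'.1)
    have hclopen : IsClopen ({η} : Set X) := ⟨hZη ▸ hZc, hopen⟩
    have huniv := hclopen.eq_univ ⟨η, rfl⟩
    obtain ⟨y, hy⟩ := exists_ne_of_dim X hdim η
    have : y ∈ ({η} : Set X) := huniv ▸ Set.mem_univ y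
    exact hy this
  obtain ⟨z, hzZ, hzη⟩ := hex
  haveI : IrreducibleSpace Z := Subtype.irreducibleSpace hZi
  let a : IrreducibleCloseds Z :=
    ⟨closure {(⟨z, hzZ⟩ : Z)}, isIrreducible_singleton.closure, isClosed_closure⟩
  let b : IrreducibleCloseds Z := ⟨Set.univ, (irreducibleSpace_def Z).mp inferInstance, isClosed_univ⟩
  have hab : a < b := by
    refine lt_of_le_of_ne (fun y _ => Set.mem_univ y) ?_
    intro h
    have h1 : (⟨η, hηZ⟩ : Z) ∈ (a : Set Z) := by
      rw [h]
      exact Set.mem_univ _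
    have h2 : (⟨η, hηZ⟩ : Z) ∈ closure {(⟨z, hzZ⟩ : Z)} := h1
    rw [closure_subtype] at h2
    simp only [Set.image_singleton] at h2
    have h3 : z ⤳ η := specializes_iff_mem_closure.mpr h2
    have h4 : η ⤳ z := by
      rw [specializes_iff_mem_closure, hη.def]
      exact hzZ
    exact hzη (h3.antisymm h4).eq
  exact Order.one_le_krullDim_iff.mpr ⟨a, b, hab⟩

end Components

section Main

/-- S1534 -/
theorem main (k : Type u) [Field k] (X : Scheme.{u}) [X.Over (Spec (CommRingCat.of k))]
    [IsProper (X ↘ (Spec (CommRingCat.of k)))] (hdim : topologicalKrullDim X = 1)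
    (h0 : Module.finrank k (Coh.HH X (Coh.structureModule X) 0) = 1) :
    ConnectedSpace X ∧ (∀ x : X, LocCoh.IsCohenMacaulayLocalRing (X.presheaf.stalk x)) ∧
      ∀ Z ∈ irreducibleComponents (X : Type u), topologicalKrullDim Z = 1 := by
  haveI : ConnectedSpace X := Groth.Agent.Lead.H0Geom.connectedSpace_of_finrank_eq_one k X h0
  haveI : IsLocallyNoetherian X :=
    LocallyOfFiniteType.isLocallyNoetherian (X ↘ Spec (CommRingCat.of k))
  haveI : CompactSpace X :=
    QuasiCompact.compactSpace_of_compactSpace (X ↘ Spec (CommRingCat.of k))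
  haveI : AlgebraicGeometry.IsNoetherian X := {}
  have hΓ : ∀ s : Γ(X, ⊤), s = 0 ∨ IsUnit s := by
    letI : Algebra k Γ(X, ⊤) := (Coh.toGlobal (X ↘ Spec (CommRingCat.of k))).toAlgebra
    have h1 := h0
    rw [(Groth.Agent.Lead.H0Geom.h0LinearEquiv k X).finrank_eq] at h1
    haveI : Nontrivial Γ(X, ⊤) := Groth.Agent.Lead.H0Geom.nontrivial_Γ X
    intro s
    obtain ⟨c, hc⟩ := (finrank_eq_one_iff_of_nonzero' (1 : Γ(X, ⊤)) one_ne_zero).mp h1 s
    by_cases hc0 : c = 0
    · left
      rw [← hc, hc0, zero_smul]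
    · right
      rw [← hc, ← Algebra.algebraMap_eq_smul_one]
      exact (IsUnit.mk0 c hc0).map (algebraMap k Γ(X, ⊤))
  refine ⟨inferInstance, fun x => ?_, fun Z hZ => dim_component X hdim Z hZ⟩
  apply isCM_of_dim_le_one
  · rw [ringKrullDim_stalk_eq_coheight, ← hdim]
    exact coheight_le_dim X x
  · intro hx
    exact not_mem_ass_of_closed hΓ x (isClosed_singleton_of_dim X hdim x hx)
      (exists_ne_of_dim X hdim x)

end Main

end Groth.Agent.Lead.CurveCM
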