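import Mathlib
import Groth.Agent.S9407

set_option autoImplicit false
universe u
open scoped TensorProduct
open Polynomial

namespace Groth.Agent.Lead.DIntA

/-- over a perfect field, the minimal polynomial of an integral element of a reduced algebra is
squarefree. -/
theorem squarefree_minpoly (K R : Type*) [Field K] [CommRing R] [Algebra K R] [IsReduced R]
    [Nontrivial R] (t : R) (ht : IsIntegral K t) : Squarefree (minpoly K t) := by
  intro g hg
  obtain ⟨h, hp⟩ := hg
  have hp0 : minpoly K t ≠ 0 := minpoly.ne_zero ht
  have hgh0 : g * h ≠ 0 := by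
    intro h0
    apply hp0
    rw [hp, mul_assoc, h0, mul_zero]
  have h1 : (aeval t (g * h)) ^ 2 = 0 := by
    rw [← map_pow]
    have : (g * h) ^ 2 = minpoly K t * h := by rw [hp]; ring
    rw [this, map_mul, minpoly.aeval, zero_mul]
  have h2 : aeval t (g * h) = 0 := by
    have := IsReduced.eq_zero _ ⟨2, h1⟩
    exact this
  have h3 : minpoly K t ∣ g * h := minpoly.dvd K t h2
  rw [hp, mul_assoc] at h3
  have h4 := Polynomial.natDegree_le_of_dvd h3 hgh0
  have hg0 : g ≠ 0 := left_ne_zero_of_mul hgh0
  rw [Polynomial.natDegree_mul hg0 hgh0] at h4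
  have h5 : g.natDegree = 0 := by omega
  rw [Polynomial.natDegree_eq_zero] at h5
  obtain ⟨c, rfl⟩ := h5
  have hc : c ≠ 0 := by
    rintro rfl
    exact hg0 (map_zero _)
  exact Polynomial.isUnit_C.mpr (isUnit_iff_ne_zero.mpr hc)

theorem D_eq_zero_of_perfect (K R : Type*) [Field K] [PerfectField K] [CommRing R] [Algebra K R]
    [IsReduced R] (t : R) (ht : IsIntegral K t) : KaehlerDifferential.D K R t = 0 := by
  rcases subsingleton_or_nontrivial R with hR | hR
  · haveI : Subsingleton (Ω[R⁄K]) := Module.subsingleton R _
    exact Subsingleton.elim _ _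
  have hsq := squarefree_minpoly K R t ht
  have hsep : (minpoly K t).Separable := PerfectField.separable_iff_squarefree.mpr hsq
  obtain ⟨a, b, hab⟩ := hsep
  have h1 : aeval t b * aeval t (derivative (minpoly K t)) = 1 := by
    have := congrArg (aeval t) hab
    rw [map_add, map_mul, map_mul, minpoly.aeval, mul_zero, zero_add, map_one] at this
    exact this
  have h2 : aeval t (derivative (minpoly K t)) • KaehlerDifferential.D K R t = 0 := by
    rw [← Derivation.map_aeval, minpoly.aeval, map_zero]
  calc KaehlerDifferential.D K R t = (1 : R) • KaehlerDifferential.D K R t := (one_smul _ _).symm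
    _ = (aeval t b * aeval t (derivative (minpoly K t))) • KaehlerDifferential.D K R t := by rw [h1]
    _ = 0 := by rw [mul_smul, h2, smul_zero]

attribute [local instance] Algebra.TensorProduct.rightAlgebra

theorem map_injective (K R : Type u) [Field K] [CommRing R] [Algebra K R] :
    Function.Injective
      (KaehlerDifferential.map K (AlgebraicClosure K) R (AlgebraicClosure K ⊗[K] R)) := by
  intro x y hxy
  have h : ∀ z : Ω[R⁄K], KaehlerDifferential.map K (AlgebraicClosure K) R (AlgebraicClosure K ⊗[K] R) z =
      KaehlerDifferential.tensorKaehlerEquivBase K (AlgebraicClosure K) R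
        (AlgebraicClosure K ⊗[K] R) ((1 : AlgebraicClosure K) ⊗ₜ[K] z) := by
    intro z
    rw [KaehlerDifferential.tensorKaehlerEquivBase_tmul, one_smul]
  rw [h, h] at hxy
  have := (KaehlerDifferential.tensorKaehlerEquivBase K (AlgebraicClosure K) R
    (AlgebraicClosure K ⊗[K] R)).injective hxy
  exact Module.FaithfullyFlat.tensorProduct_mk_injective (A := K) (B := AlgebraicClosure K) _ this

/-- **an integral element of a smooth algebra over a field has zero differential.** -/
theorem D_eq_zero_of_isIntegral (K R : Type u) [Field K] [CommRing R] [Algebra K R]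
    [Algebra.Smooth K R] (t : R) (ht : IsIntegral K t) : KaehlerDifferential.D K R t = 0 := by
  haveI : Algebra.Smooth (AlgebraicClosure K) (AlgebraicClosure K ⊗[K] R) := inferInstance
  haveI : IsReduced (AlgebraicClosure K ⊗[K] R) :=
    Groth.Agent.S9407.result (AlgebraicClosure K) (AlgebraicClosure K ⊗[K] R)
  have hint : IsIntegral (AlgebraicClosure K)
      (algebraMap R (AlgebraicClosure K ⊗[K] R) t) :=
    (ht.map (IsScalarTower.toAlgHom K R (AlgebraicClosure K ⊗[K] R))).tower_top
  have h0 := D_eq_zero_of_perfect (AlgebraicClosure K) (AlgebraicClosure K ⊗[K] R) _ hint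
  apply map_injective K R
  rw [KaehlerDifferential.map_D, h0, map_zero]

/-- version with `IsField`. -/
theorem D_eq_zero_of_isIntegral' (K R : Type u) [CommRing K] [CommRing R] [Algebra K R]
    (hK : IsField K) [Algebra.Smooth K R] (t : R) (ht : IsIntegral K t) :
    KaehlerDifferential.D K R t = 0 := by
  letI := hK.toField
  exact D_eq_zero_of_isIntegral K R t ht

end Groth.Agent.Lead.DIntA
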