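import Mathlib
import Groth.Prelude.Def_Omega4
import Groth.Agent.Lead.DIntA
import Groth.Agent.Lead.OmegaSecA
import Groth.Agent.Lead.DerA
import Groth.Agent.Helper1.BasisHom

set_option autoImplicit false
universe u
open CategoryTheory AlgebraicGeometry Opposite TopologicalSpace OmegaSh

namespace Groth.Agent.Lead.DIntB

theorem isIntegralElem_comp {A B C : Type*} [CommRing A] [CommRing B] [CommRing C]
    (φ : A →+* B) (g : B →+* C) (x : B) (hx : φ.IsIntegralElem x) :
    (g.comp φ).IsIntegralElem (g x) := by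
  obtain ⟨p, hp, hpx⟩ := hx
  refine ⟨p, hp, ?_⟩
  rw [← Polynomial.hom_eval₂, hpx, map_zero]

theorem main (k : Type u) [Field k] (X : Scheme.{u}) (f : X ⟶ Spec (CommRingCat.of k))
    [IsProper f] [Smooth f] (s : Γ(X, ⊤)) :
    (OmegaSh.dOmega f).app ⊤ s = 0 := by
  apply Groth.Agent.Helper1.BasisHom.section_ext_of_cover (Omega.sheaf f) ⊤
    (fun U : X.affineOpens => U.1) (fun _ => le_top) ?_ _ _ ?_
  · intro x _
    obtain ⟨_, ⟨U, hU, rfl⟩, hxU, -⟩ :=
      X.isBasis_affineOpens.exists_subset_of_mem_open (Set.mem_univ x) isOpen_univ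
    exact Opens.mem_iSup.mpr ⟨⟨U, hU⟩, hxU⟩
  · intro U
    rw [map_zero]
    have h1 := Groth.Agent.Lead.DerA.der_map (dOmega f) (homOfLE (le_top : U.1 ≤ ⊤)) s
    change (dOmega f).app U.1 _ = (Omega.sheaf f).presheaf.map _ ((dOmega f).app ⊤ s) at h1
    rw [← h1]
    have e : U.1 ≤ f ⁻¹ᵁ ⊤ := le_top
    letI := (f.appLE ⊤ U.1 e).hom.toAlgebra
    obtain ⟨ε, hε⟩ := Groth.Agent.Lead.OmegaSecA.exists_sectionsEquiv f U.2 (isAffineOpen_top _) e
    apply ε.injective
    rw [map_zero, hε]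
    haveI : Algebra.Smooth Γ(Spec (CommRingCat.of k), ⊤) Γ(X, U.1) :=
      f.smooth_appLE (isAffineOpen_top _) U.2 e
    apply Groth.Agent.Lead.DIntA.D_eq_zero_of_isIntegral'
    · exact (Scheme.ΓSpecIso (.of k)).commRingCatIsoToRingEquiv.toMulEquiv.isField
        (Field.toIsField k)
    · have hint := isIntegral_appTop_of_universallyClosed f s
      have h2 := isIntegralElem_comp f.appTop.hom (X.presheaf.map (homOfLE (le_top : U.1 ≤ ⊤)).op).hom s hint
      have h3 : (X.presheaf.map (homOfLE (le_top : U.1 ≤ ⊤)).op).hom.comp f.appTop.hom =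
          (f.appLE ⊤ U.1 e).hom := by
        rw [← CommRingCat.hom_comp]
        congr 1
      rw [h3] at h2
      exact h2

end Groth.Agent.Lead.DIntB
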