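import Mathlib
import Groth.Prelude
import Groth.Agent.Helper8.SteinH
import Groth.Agent.Helper5.RedDesc
import Groth.Agent.Lead.OmegaSecA
import Groth.Agent.Lead.DerA

set_option autoImplicit false
set_option linter.style.haveILetI false
set_option linter.deprecated false
universe u
namespace Groth.Agent.Lead.DZeroStein
open CategoryTheory CategoryTheory.Limits AlgebraicGeometry Opposite TopologicalSpace TensorProduct
open OmegaSh

variable {X S : Scheme.{u}} (f : X ⟶ S)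

/-- geometric fibres of a smooth morphism are reduced -/
theorem hred_of_smooth [Smooth f] (Ω : Type u) [Field Ω] (σ : Spec (CommRingCat.of Ω) ⟶ S) :
    IsReduced (pullback f σ) := by
  haveI : Smooth (pullback.snd f σ) := MorphismProperty.pullback_snd _ _ inferInstance
  exact Groth.Agent.Helper5.RedDesc.isReduced_of_smooth (pullback.snd f σ)

/-- for a proper smooth morphism, sections over the preimage of an affine open form an étale algebra -/
theorem etale_sections [IsProper f] [Smooth f] (U : S.Opens) (hU : IsAffineOpen U) :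
    letI := (f.app U).hom.toAlgebra
    Algebra.Etale Γ(S, U) Γ(X, f ⁻¹ᵁ U) := by
  letI := (f.app U).hom.toAlgebra
  have hred : ∀ (Ω : Type u) [Field Ω] [IsAlgClosed Ω] (σ : Spec (CommRingCat.of Ω) ⟶ S),
      IsReduced (pullback f σ) := fun Ω _ _ σ => hred_of_smooth f Ω σ
  have hlf := Groth.Agent.Helper8.Stein.isFinLocFree_push f hred
  obtain ⟨h1, h2⟩ := Groth.Agent.Helper8.Stein.fp_flat_sections_of_isFinLocFree_push f hlf U hU
  haveI := h1
  haveI := h2
  haveI : Module.Finite Γ(S, U) Γ(X, f ⁻¹ᵁ U) := inferInstance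
  haveI : Algebra.FinitePresentation Γ(S, U) Γ(X, f ⁻¹ᵁ U) := inferInstance
  exact Groth.Agent.Helper8.SteinAlg.etale_of_geomReduced
    (fun K _ _ _ => Groth.Agent.Helper8.Stein.isReduced_tensor f hred hU K)

/-- the differential of the restriction to an affine open of a section over `f⁻¹ U` vanishes -/
theorem d_restrict_eq_zero [IsProper f] [Smooth f] (U : S.Opens) (hU : IsAffineOpen U)
    (W : X.Opens) (hW : IsAffineOpen W) (e : W ≤ f ⁻¹ᵁ U) (t : Γ(X, f ⁻¹ᵁ U)) :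
    (dOmega f).app W (X.presheaf.map (homOfLE e).op t) = 0 := by
  letI algB : Algebra Γ(S, U) Γ(X, f ⁻¹ᵁ U) := (f.app U).hom.toAlgebra
  letI algC : Algebra Γ(S, U) Γ(X, W) := (f.appLE U W e).hom.toAlgebra
  haveI := etale_sections f U hU
  letI algBC : Algebra Γ(X, f ⁻¹ᵁ U) Γ(X, W) := (X.presheaf.map (homOfLE e).op).hom.toAlgebra
  haveI tower : IsScalarTower Γ(S, U) Γ(X, f ⁻¹ᵁ U) Γ(X, W) :=
    IsScalarTower.of_algebraMap_eq (fun a => by
      show (f.appLE U W e).hom a = (X.presheaf.map (homOfLE e).op).hom ((f.app U).hom a)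
      rw [Scheme.Hom.appLE]
      rfl)
  haveI : SMulCommClass Γ(S, U) Γ(X, f ⁻¹ᵁ U) Γ(X, W) := ⟨fun a b c => by
    simp only [Algebra.smul_def]
    ring⟩
  obtain ⟨ε, hε⟩ := Groth.Agent.Lead.OmegaSecA.exists_sectionsEquiv f hW hU e
  apply ε.injective
  rw [hε, map_zero]
  haveI : Subsingleton (Ω[Γ(X, f ⁻¹ᵁ U)⁄Γ(S, U)]) := inferInstance
  have h0 : KaehlerDifferential.D Γ(S, U) Γ(X, f ⁻¹ᵁ U) t = 0 := Subsingleton.elim _ _
  have h := KaehlerDifferential.map_D Γ(S, U) Γ(S, U) Γ(X, f ⁻¹ᵁ U) Γ(X, W) t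
  rw [h0, map_zero] at h
  exact h.symm

/-- **S15535**: for a proper smooth morphism, the differential kills functions coming from the base
(sections over preimages of opens of the base). -/
theorem main [IsProper f] [Smooth f] (V : S.Opens) (s : Γ(X, f ⁻¹ᵁ V)) :
    (dOmega f).app (f ⁻¹ᵁ V) s = 0 := by
  have hx : ∀ x : ↥(f ⁻¹ᵁ V), ∃ (U : S.Opens) (W : X.Opens), IsAffineOpen U ∧
      (U : Set S) ⊆ V ∧ IsAffineOpen W ∧ W ≤ f ⁻¹ᵁ U ∧ x.1 ∈ W := by
    intro x
    obtain ⟨_, ⟨U, hU, rfl⟩, hxU, hUV⟩ := S.isBasis_affineOpens.exists_subset_of_mem_open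
      (show f x.1 ∈ (V : Set S) from x.2) V.isOpen
    obtain ⟨_, ⟨W, hW, rfl⟩, hxW, hWU⟩ := X.isBasis_affineOpens.exists_subset_of_mem_open
      (show x.1 ∈ ((f ⁻¹ᵁ U : X.Opens) : Set X) from hxU) (f ⁻¹ᵁ U).isOpen
    exact ⟨U, W, hU, hUV, hW, hWU, hxW⟩
  choose U W hU hUV hW hWU hxW using hx
  have hUV' : ∀ x, f ⁻¹ᵁ U x ≤ f ⁻¹ᵁ V := fun x z hz => hUV x hz
  have hWV : ∀ x, W x ≤ f ⁻¹ᵁ V := fun x => (hWU x).trans (hUV' x)
  refine TopCat.Sheaf.eq_of_locally_eq'
    (⟨(Omega.sheaf f).presheaf, (Omega.sheaf f).isSheaf⟩ : TopCat.Sheaf Ab X) W (f ⁻¹ᵁ V)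
    (fun x => homOfLE (hWV x)) ?_ _ _ (fun x => ?_)
  · intro z hz
    exact Opens.mem_iSup.mpr ⟨⟨z, hz⟩, hxW ⟨z, hz⟩⟩
  · rw [map_zero]
    have h1 := Groth.Agent.Lead.DerA.der_map (dOmega f) (homOfLE (hWV x)) s
    have h2 : X.presheaf.map (homOfLE (hWV x)).op s =
        X.presheaf.map (homOfLE (hWU x)).op (X.presheaf.map (homOfLE (hUV' x)).op s) := by
      rw [← CommRingCat.comp_apply, ← Functor.map_comp]
      rfl
    have h3 := d_restrict_eq_zero f (U x) (hU x) (W x) (hW x) (hWU x)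
      (X.presheaf.map (homOfLE (hUV' x)).op s)
    rw [← h2, Der.app_apply] at h3
    rw [h3] at h1
    exact h1.symm

end Groth.Agent.Lead.DZeroStein
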