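import Mathlib

/-!
# Double covers, algebra part

For an `A`-algebra `B` with a basis of two elements and `2` invertible in `A`, the map
`b ↦ Tr(b) - b` is an `A`-algebra involution of `B` whose invariants are exactly `A`; it is
compatible with base change.
-/

universe u

set_option linter.style.haveILetI false

namespace Groth.Agent.Lead.Dbl

open Module

section Mat

variable {R : Type*} [CommRing R]

/-- Polarised Cayley–Hamilton for `2 × 2` matrices. -/
theorem polar_ch (X Y : Matrix (Fin 2) (Fin 2) R) :
    X * Y + Y * X - X.trace • Y - Y.trace • X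
      + (X.trace * Y.trace - (X * Y).trace) • (1 : Matrix (Fin 2) (Fin 2) R) = 0 := by
  ext i j
  fin_cases i <;> fin_cases j <;>
    simp [Matrix.mul_apply, Matrix.trace, Fin.sum_univ_two] <;> ring

end Mat

section Alg

variable (A B : Type*) [CommRing A] [CommRing B] [Algebra A B]

/-- `B` has an `A`-basis of two elements and `2` is invertible in `A`. -/
def Good : Prop := Nonempty (Basis (Fin 2) A B) ∧ IsUnit (2 : A)

/-- `b ↦ Tr(b) - b`. -/
noncomputable def sigL : B →ₗ[A] B :=
  (Algebra.linearMap A B).comp (Algebra.trace A B) - LinearMap.id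

variable {A B}

theorem sigL_apply (x : B) : sigL A B x = algebraMap A B (Algebra.trace A B x) - x := rfl

theorem key (b : Basis (Fin 2) A B) (x y : B) :
    2 * (x * y) - Algebra.trace A B x • y - Algebra.trace A B y • x
      + (Algebra.trace A B x * Algebra.trace A B y - Algebra.trace A B (x * y)) • (1 : B) = 0 := by
  apply Algebra.leftMulMatrix_injective b
  have h := polar_ch (Algebra.leftMulMatrix b x) (Algebra.leftMulMatrix b y)
  rw [map_zero, map_add, map_sub, map_sub, map_smul, map_smul, map_smul, map_one, map_mul,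
    map_mul, map_ofNat]
  rw [Algebra.trace_eq_matrix_trace b x, Algebra.trace_eq_matrix_trace b y,
    Algebra.trace_eq_matrix_trace b (x * y), map_mul]
  rw [← h]
  have hc : Algebra.leftMulMatrix b y * Algebra.leftMulMatrix b x =
      Algebra.leftMulMatrix b x * Algebra.leftMulMatrix b y := by
    rw [← map_mul, ← map_mul, mul_comm]
  rw [hc, two_mul]

theorem trace_one (b : Basis (Fin 2) A B) : Algebra.trace A B (1 : B) = 2 := by
  have := Algebra.trace_algebraMap_of_basis b (1 : A)
  rw [map_one] at this
  rw [this]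
  simp

theorem trace_algebraMap' (b : Basis (Fin 2) A B) (a : A) :
    Algebra.trace A B (algebraMap A B a) = 2 * a := by
  rw [Algebra.trace_algebraMap_of_basis b a]
  simp

theorem sigL_one (h : Good A B) : sigL A B (1 : B) = 1 := by
  obtain ⟨⟨b⟩, -⟩ := h
  rw [sigL_apply, trace_one b, map_ofNat]
  ring

theorem sigL_mul (h : Good A B) (x y : B) : sigL A B (x * y) = sigL A B x * sigL A B y := by
  obtain ⟨⟨b⟩, -⟩ := h
  have hk := key b x y
  simp only [sigL_apply]
  simp only [Algebra.smul_def, mul_one, map_sub, map_mul] at hk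
  linear_combination (-1 : B) * hk

/-- The involution of a good algebra. -/
noncomputable def sig (h : Good A B) : B →ₐ[A] B :=
  AlgHom.ofLinearMap (sigL A B) (sigL_one h) (sigL_mul h)

theorem sig_apply (h : Good A B) (x : B) :
    sig h x = algebraMap A B (Algebra.trace A B x) - x := rfl

theorem sig_sig (h : Good A B) (x : B) : sig h (sig h x) = x := by
  obtain ⟨⟨b⟩, -⟩ := id h
  rw [sig_apply h (sig h x), sig_apply h x, map_sub, trace_algebraMap' b, map_sub, map_mul,
    map_ofNat]
  ring

theorem Good.injective (h : Good A B) : Function.Injective (algebraMap A B) := by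
  obtain ⟨⟨b⟩, h2⟩ := h
  rw [injective_iff_map_eq_zero]
  intro a ha
  have := trace_algebraMap' b a
  rw [ha, map_zero] at this
  exact (h2.mul_right_eq_zero).mp this.symm

theorem sig_fixed (h : Good A B) (x : B) (hx : sig h x = x) : x ∈ Set.range (algebraMap A B) := by
  obtain ⟨u, hu⟩ := h.2
  refine ⟨↑u⁻¹ * Algebra.trace A B x, ?_⟩
  rw [sig_apply] at hx
  have h2 : algebraMap A B (Algebra.trace A B x) = algebraMap A B (u : A) * x := by
    rw [hu, map_ofNat]
    linear_combination hx
  rw [map_mul, h2, ← mul_assoc, ← map_mul, Units.inv_mul, map_one, one_mul]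

end Alg

section BaseChange

variable {A A' B B' : Type*} [CommRing A] [CommRing A'] [CommRing B] [CommRing B']
  [Algebra A A'] [Algebra A B] [Algebra A' B'] [Algebra B B'] [Algebra A B']
  [IsScalarTower A A' B'] [IsScalarTower A B B']

theorem trace_of_isPushout [Algebra.IsPushout A A' B B'] (b : Basis (Fin 2) A B) (x : B) :
    Algebra.trace A' B' (algebraMap B B' x) = algebraMap A A' (Algebra.trace A B x) := by
  have ibc : IsBaseChange A' (IsScalarTower.toAlgHom A B B').toLinearMap :=
    Algebra.IsPushout.out
  rw [Algebra.trace_eq_matrix_trace (ibc.basis b), Algebra.trace_eq_matrix_trace b]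
  simp only [Matrix.trace, Matrix.diag_apply, map_sum]
  refine Finset.sum_congr rfl fun i _ => ?_
  rw [Algebra.leftMulMatrix_eq_repr_mul, Algebra.leftMulMatrix_eq_repr_mul, IsBaseChange.basis_apply]
  have : algebraMap B B' x * (IsScalarTower.toAlgHom A B B').toLinearMap (b i) =
      (IsScalarTower.toAlgHom A B B').toLinearMap (x * b i) := by
    simp
  rw [this, IsBaseChange.basis_repr_comp_apply]

theorem good_of_isPushout [Algebra.IsPushout A A' B B'] (h : Good A B) : Good A' B' := by
  obtain ⟨⟨b⟩, h2⟩ := h
  have ibc : IsBaseChange A' (IsScalarTower.toAlgHom A B B').toLinearMap :=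
    Algebra.IsPushout.out
  refine ⟨⟨ibc.basis b⟩, ?_⟩
  have := h2.map (algebraMap A A')
  rwa [map_ofNat] at this

theorem sig_of_isPushout [Algebra.IsPushout A A' B B'] (h : Good A B) (h' : Good A' B') (x : B) :
    sig h' (algebraMap B B' x) = algebraMap B B' (sig h x) := by
  obtain ⟨⟨b⟩, -⟩ := id h
  rw [sig_apply, sig_apply, trace_of_isPushout b, map_sub, ← IsScalarTower.algebraMap_apply,
    ← IsScalarTower.algebraMap_apply]

end BaseChange

section Hom

open CategoryTheory CategoryTheory.Limits

variable {A B : Type u} [CommRing A] [CommRing B]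

/-- Ring-hom form of `Good`. -/
def GoodHom (φ : A →+* B) : Prop :=
  letI := φ.toAlgebra
  Good A B

open Classical in
/-- The involution attached to a ring homomorphism (the identity if it is not good). -/
noncomputable def sigHom (φ : A →+* B) : B →+* B :=
  letI := φ.toAlgebra
  if h : Good A B then (sig h).toRingHom else RingHom.id B

theorem sigHom_eq (φ : A →+* B) (h : GoodHom φ) (x : B) :
    sigHom φ x = (letI := φ.toAlgebra; sig (A := A) (B := B) h x) := by
  letI := φ.toAlgebra
  have h' : Good A B := h
  unfold sigHom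
  rw [dif_pos h']
  rfl

theorem sigHom_comp (φ : A →+* B) : (sigHom φ).comp φ = φ := by
  letI := φ.toAlgebra
  by_cases h : Good A B
  · ext a
    rw [RingHom.comp_apply, sigHom_eq φ h]
    exact (sig h).commutes a
  · unfold sigHom
    rw [dif_neg h]
    rfl

theorem sigHom_sigHom (φ : A →+* B) : (sigHom φ).comp (sigHom φ) = RingHom.id B := by
  letI := φ.toAlgebra
  by_cases h : Good A B
  · ext x
    rw [RingHom.comp_apply, sigHom_eq φ h, sigHom_eq φ h]
    exact sig_sig h x
  · unfold sigHom
    rw [dif_neg h]
    rfl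

theorem GoodHom.injective {φ : A →+* B} (h : GoodHom φ) : Function.Injective φ := by
  letI := φ.toAlgebra
  exact Good.injective (A := A) (B := B) h

theorem sigHom_fixed {φ : A →+* B} (h : GoodHom φ) (x : B) (hx : sigHom φ x = x) :
    x ∈ Set.range φ := by
  letI := φ.toAlgebra
  rw [sigHom_eq φ h] at hx
  exact sig_fixed (A := A) (B := B) h x hx

theorem goodHom_of_isPushout {A A' B B' : CommRingCat.{u}} {φ : A ⟶ B} {α : A ⟶ A'}
    {φ' : A' ⟶ B'} {β : B ⟶ B'} (h : IsPushout α φ φ' β) (hg : GoodHom φ.hom) :
    GoodHom φ'.hom ∧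
      β ≫ CommRingCat.ofHom (sigHom φ'.hom) = CommRingCat.ofHom (sigHom φ.hom) ≫ β := by
  letI : Algebra A A' := α.hom.toAlgebra
  letI : Algebra A B := φ.hom.toAlgebra
  letI : Algebra A' B' := φ'.hom.toAlgebra
  letI : Algebra B B' := β.hom.toAlgebra
  letI : Algebra A B' := (β.hom.comp φ.hom).toAlgebra
  haveI : IsScalarTower A B B' := .of_algebraMap_eq' rfl
  haveI : IsScalarTower A A' B' := .of_algebraMap_eq' (by
    show β.hom.comp φ.hom = φ'.hom.comp α.hom
    rw [← CommRingCat.hom_comp, ← CommRingCat.hom_comp, h.w])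
  haveI : Algebra.IsPushout A A' B B' := CommRingCat.isPushout_iff_isPushout.mp h
  have hg0 : Good A B := hg
  have hg' : Good A' B' := good_of_isPushout hg0
  refine ⟨hg', ?_⟩
  ext x
  show sigHom φ'.hom (β.hom x) = β.hom (sigHom φ.hom x)
  rw [sigHom_eq _ hg', sigHom_eq _ hg]
  exact sig_of_isPushout hg0 hg' x

end Hom

end Groth.Agent.Lead.Dbl
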