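import Mathlib
import Groth.Agent.Lead.DblA

/-!
# Double covers: spreading out freeness, ring level
-/

universe u

set_option linter.style.haveILetI false

namespace Groth.Agent.Lead.Dbl

open Module CategoryTheory CategoryTheory.Limits

section T

variable {R : Type*} [CommRing R] (S : Submonoid R) (R' : Type*) [CommRing R'] [Algebra R R']
  [IsLocalization S R'] {M M' : Type*} [AddCommGroup M] [Module R M] [AddCommGroup M']
  [Module R M'] [Module R' M'] [IsScalarTower R R' M']

/-- Transport a basis of the standard localization to any localization. -/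
theorem nonempty_basis_of_localizedModule (ψ : M →ₗ[R] M') [IsLocalizedModule S ψ] {I : Type*}
    (b : Basis I (Localization S) (LocalizedModule S M)) : Nonempty (Basis I R' M') := by
  let e₁ : LocalizedModule S M ≃ₗ[R] M' := IsLocalizedModule.iso S ψ
  let e₂ : LocalizedModule S M ≃ₗ[R] (I →₀ Localization S) := b.repr.restrictScalars R
  let e₃ : (I →₀ Localization S) ≃ₗ[R] (I →₀ R') :=
    Finsupp.mapRange.linearEquiv (IsLocalization.algEquiv S (Localization S) R').toLinearEquiv
  let e : M' ≃ₗ[R] (I →₀ R') := e₁.symm ≪≫ₗ e₂ ≪≫ₗ e₃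
  exact ⟨Basis.ofRepr (e.extendScalarsOfIsLocalization S R')⟩

end T

section Spread

variable {A B : Type u} [CommRing A] [CommRing B] [Algebra A B] [Module.Finite A B]
  [Module.Flat A B] [Algebra.FinitePresentation A B]

attribute [local instance] Module.free_of_flat_of_isLocalRing

/-- Around a prime where the rank is two, some standard localization has a basis of two
elements. -/
theorem exists_basis_away (p : PrimeSpectrum A) (hp : Module.rankAtStalk B p = 2) :
    ∃ r : A, r ∉ p.asIdeal ∧
      Nonempty (Basis (Fin 2) (Localization (.powers r)) (LocalizedModule.Away r B)) := by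
  haveI : Module.FinitePresentation A B := Module.FinitePresentation.of_finite_of_finitePresentation A B
  have hfr : Module.finrank (Localization.AtPrime p.asIdeal)
      (LocalizedModule p.asIdeal.primeCompl B) = 2 := hp
  let b := Module.finBasisOfFinrankEq (Localization.AtPrime p.asIdeal)
      (LocalizedModule p.asIdeal.primeCompl B) hfr
  obtain ⟨r, hr, b', -⟩ := Module.FinitePresentation.exists_basis_localizedModule_powers
    p.asIdeal.primeCompl (LocalizedModule.mkLinearMap p.asIdeal.primeCompl B)
    (Localization.AtPrime p.asIdeal) b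
  exact ⟨r, hr, ⟨b'⟩⟩

end Spread

section SpreadHom

variable {A B : CommRingCat.{u}}

/-- Ring-hom form of spreading out: around every prime the base change to a localization away
from a suitable element is good. -/
theorem exists_goodHom_away (φ : A ⟶ B) (hfin : φ.hom.Finite) (hflat : φ.hom.Flat)
    (hfp : φ.hom.FinitePresentation) (h2 : IsUnit (2 : A)) (p : PrimeSpectrum A)
    (hp : φ.hom.finrank p = 2) :
    ∃ r : A, r ∉ p.asIdeal ∧ ∀ {A' B' : CommRingCat.{u}} (α : A ⟶ A') (φ' : A' ⟶ B')
      (β : B ⟶ B'), IsPushout α φ φ' β →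
      (letI := α.hom.toAlgebra; IsLocalization.Away r A') → GoodHom φ'.hom := by
  letI : Algebra A B := φ.hom.toAlgebra
  haveI : Module.Finite A B := hfin
  haveI : Module.Flat A B := hflat
  haveI : Algebra.FinitePresentation A B := hfp
  obtain ⟨r, hr, ⟨b⟩⟩ := exists_basis_away (A := A) (B := B) p hp
  refine ⟨r, hr, ?_⟩
  intro A' B' α φ' β h hloc
  letI : Algebra A A' := α.hom.toAlgebra
  letI : Algebra A' B' := φ'.hom.toAlgebra
  letI : Algebra B B' := β.hom.toAlgebra
  letI : Algebra A B' := (β.hom.comp φ.hom).toAlgebra
  haveI : IsScalarTower A B B' := .of_algebraMap_eq' rfl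
  haveI : IsScalarTower A A' B' := .of_algebraMap_eq' (by
    show β.hom.comp φ.hom = φ'.hom.comp α.hom
    rw [← CommRingCat.hom_comp, ← CommRingCat.hom_comp, h.w])
  haveI : Algebra.IsPushout A A' B B' := CommRingCat.isPushout_iff_isPushout.mp h
  haveI : IsLocalization (.powers r) A' := hloc
  have ibc : IsBaseChange A' (IsScalarTower.toAlgHom A B B').toLinearMap :=
    Algebra.IsPushout.out
  haveI : IsLocalizedModule (.powers r) (IsScalarTower.toAlgHom A B B').toLinearMap :=
    (isLocalizedModule_iff_isBaseChange (.powers r) A' _).mpr ibc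
  obtain ⟨b'⟩ := nonempty_basis_of_localizedModule (.powers r) A'
    (IsScalarTower.toAlgHom A B B').toLinearMap b
  refine ⟨⟨b'⟩, ?_⟩
  have := h2.map α.hom
  rwa [map_ofNat] at this

end SpreadHom

end Groth.Agent.Lead.Dbl
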