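import Mathlib
import Groth.Agent.Lead.DblB

/-!
# Double covers: affine schemes
-/

universe u

set_option linter.style.haveILetI false

namespace Groth.Agent.Lead.Dbl

open CategoryTheory CategoryTheory.Limits AlgebraicGeometry

section Aff

variable {P Q : Scheme.{u}}

/-- A morphism whose map on global sections is good. -/
def GoodMor (p : P ⟶ Q) : Prop := GoodHom p.appTop.hom

variable [IsAffine P]

/-- The involution of an affine scheme over `Q` (identity unless `p` is good). -/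
noncomputable def sigAff (p : P ⟶ Q) : P ⟶ P :=
  P.isoSpec.hom ≫ Spec.map (CommRingCat.ofHom (sigHom p.appTop.hom)) ≫ P.isoSpec.inv

theorem sigAff_appTop (p : P ⟶ Q) :
    (sigAff p).appTop = CommRingCat.ofHom (sigHom p.appTop.hom) := by
  apply Spec.map_injective
  rw [← cancel_epi P.isoSpec.hom, Scheme.isoSpec_hom_naturality]
  simp [sigAff]

theorem sigAff_comp [IsAffine Q] (p : P ⟶ Q) : sigAff p ≫ p = p := by
  apply ext_of_isAffine
  rw [Scheme.Hom.comp_appTop, sigAff_appTop]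
  ext x
  exact DFunLike.congr_fun (sigHom_comp p.appTop.hom) x

theorem sigAff_sigAff (p : P ⟶ Q) : sigAff p ≫ sigAff p = 𝟙 P := by
  apply ext_of_isAffine
  rw [Scheme.Hom.comp_appTop, sigAff_appTop, Scheme.Hom.id_appTop]
  ext x
  exact DFunLike.congr_fun (sigHom_sigHom p.appTop.hom) x

theorem sigAff_baseChange {P' Q' : Scheme.{u}} [IsAffine P'] [IsAffine Q] [IsAffine Q']
    {p : P ⟶ Q} {p' : P' ⟶ Q'} {g' : P' ⟶ P} {g : Q' ⟶ Q} (h : IsPullback g' p' p g)
    (hg : GoodMor p) : GoodMor p' ∧ sigAff p' ≫ g' = g' ≫ sigAff p := by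
  have hpo := isPushout_appTop_of_isPullback h
  obtain ⟨h1, h2⟩ := goodHom_of_isPushout hpo.flip hg
  refine ⟨h1, ?_⟩
  apply ext_of_isAffine
  rw [Scheme.Hom.comp_appTop, Scheme.Hom.comp_appTop, sigAff_appTop, sigAff_appTop]
  exact h2

omit [IsAffine P] in
theorem GoodMor.appTop_injective {p : P ⟶ Q} (hg : GoodMor p) :
    Function.Injective p.appTop.hom := GoodHom.injective hg

theorem sigAff_fixed {p : P ⟶ Q} (hg : GoodMor p) (s : Γ(P, ⊤))
    (hs : (sigAff p).appTop.hom s = s) : s ∈ Set.range p.appTop.hom := by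
  rw [sigAff_appTop] at hs
  exact sigHom_fixed hg s hs

end Aff

section Spread

variable {P Q : Scheme.{u}} [IsAffine P] [IsAffine Q]

theorem finrank_eq_ringHom_finrank (p : P ⟶ Q) [IsFinite p] [Flat p] (q : Q) :
    p.finrank q = p.appTop.hom.finrank (Q.isoSpec.hom q) := by
  have hf₁ : p.appTop.hom.Finite := p.finite_appTop
  have hf₂ : p.appTop.hom.Flat := p.flat_appTop
  haveI : IsFinite (Spec.map p.appTop) := (IsFinite.SpecMap_iff _).mpr hf₁
  haveI : Flat (Spec.map p.appTop) := Flat.SpecMap_iff.mpr hf₂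
  have hpb : IsPullback P.isoSpec.hom p (Spec.map p.appTop) Q.isoSpec.hom :=
    IsPullback.of_horiz_isIso ⟨Scheme.isoSpec_hom_naturality p⟩
  rw [Scheme.Hom.finrank_of_isPullback _ _ _ _ hpb q,
    Scheme.Hom.finrank_SpecMap_eq_finrank hf₁ hf₂]

theorem exists_goodMor_basicOpen (p : P ⟶ Q) [IsFinite p] [Flat p]
    [LocallyOfFinitePresentation p] (hrk : ∀ q : Q, p.finrank q = 2)
    (h2 : IsUnit (2 : Γ(Q, ⊤))) (q : Q) :
    ∃ r : Γ(Q, ⊤), q ∈ Q.basicOpen r ∧ GoodMor (p ∣_ Q.basicOpen r) := by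
  have hf₁ : p.appTop.hom.Finite := p.finite_appTop
  have hf₂ : p.appTop.hom.Flat := p.flat_appTop
  have hf₃ : p.appTop.hom.FinitePresentation :=
    HasRingHomProperty.appTop (P := @LocallyOfFinitePresentation) p inferInstance
  have hq := finrank_eq_ringHom_finrank p q
  rw [hrk q] at hq
  obtain ⟨r, hr, H⟩ := exists_goodHom_away p.appTop hf₁ hf₂ hf₃ h2 (Q.isoSpec.hom q) hq.symm
  refine ⟨r, ?_, ?_⟩
  · rw [← Scheme.toSpecΓ_preimage_basicOpen]
    exact hr
  · set D := Q.basicOpen r with hD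
    haveI : IsAffine D.toScheme := (isAffineOpen_top Q).basicOpen r
    haveI : IsAffine (p ⁻¹ᵁ D).toScheme := ((isAffineOpen_top Q).basicOpen r).preimage p
    have hpb : IsPullback (p ⁻¹ᵁ D).ι (p ∣_ D) p D.ι := (isPullback_morphismRestrict p D).flip
    have hpo := (isPushout_appTop_of_isPullback hpb).flip
    refine H _ _ _ hpo ?_
    have e : D.ι ''ᵁ ⊤ = Q.basicOpen r := by rw [Scheme.Opens.ι_image_top]
    exact (isAffineOpen_top Q).isLocalization_of_eq_basicOpen r (homOfLE le_top) e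

end Spread

end Groth.Agent.Lead.Dbl
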