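import Mathlib
import Groth.Prelude.Def_SGA1
import Groth.Agent.Lead.DblC

/-!
# Double covers: gluing the involution
-/

universe u

set_option linter.style.haveILetI false

namespace Groth.Agent.Lead.Dbl

open CategoryTheory CategoryTheory.Limits AlgebraicGeometry TopologicalSpace

variable {X Y : Scheme.{u}}

/-- A double cover with `2` invertible on the base. -/
class IsDbl (f : X ⟶ Y) : Prop where
  fin : IsFinite f
  flat : Flat f
  fp : LocallyOfFinitePresentation f
  rk : ∀ y : Y, f.finrank y = 2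
  two : IsUnit (2 : Γ(Y, ⊤))

attribute [instance] IsDbl.fin IsDbl.flat IsDbl.fp

variable (f : X ⟶ Y)

/-- Good affine opens of the base. -/
abbrev J : Type u := {V : Y.Opens // IsAffineOpen V ∧ GoodMor (f ∣_ V)}

instance (V : J f) : IsAffine (V.1 : Y.Opens).toScheme := V.2.1

instance [IsAffineHom f] (V : J f) : IsAffine (f ⁻¹ᵁ V.1).toScheme := V.2.1.preimage f

theorem restrict_finrank [IsFinite f] [Flat f] (V : Y.Opens) (y : V.toScheme) :
    (f ∣_ V).finrank y = f.finrank y.1 :=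
  Scheme.Hom.finrank_of_isPullback _ _ _ _ (isPullback_morphismRestrict f V).flip y

theorem goodMor_of_arrowIso {P Q P' Q' : Scheme.{u}} [IsAffine P] [IsAffine Q] [IsAffine P']
    [IsAffine Q'] {p : P ⟶ Q} {p' : P' ⟶ Q'} (e : Arrow.mk p ≅ Arrow.mk p') (h : GoodMor p) :
    GoodMor p' := by
  let g' : P' ⟶ P := e.inv.left
  let g : Q' ⟶ Q := e.inv.right
  haveI : IsIso g' := inferInstanceAs (IsIso e.inv.left)
  haveI : IsIso g := inferInstanceAs (IsIso e.inv.right)
  have hw : g' ≫ p = p' ≫ g := Arrow.w e.inv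
  have hpb : IsPullback g' p' p g := IsPullback.of_horiz_isIso ⟨hw⟩
  exact (sigAff_baseChange hpb h).1

theorem exists_good [IsDbl f] (U : Y.Opens) (y : Y) (hy : y ∈ U) :
    ∃ V : J f, y ∈ V.1 ∧ V.1 ≤ U := by
  obtain ⟨_, ⟨(V₀ : Y.Opens), hV₀, rfl⟩, hyV₀, hV₀U⟩ :=
    Y.isBasis_affineOpens.exists_subset_of_mem_open hy U.2
  haveI : IsAffine V₀.toScheme := hV₀
  haveI : IsAffine (f ⁻¹ᵁ V₀).toScheme := hV₀.preimage f
  haveI : IsFinite (f ∣_ V₀) := IsZariskiLocalAtTarget.restrict (P := @IsFinite) inferInstance V₀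
  haveI : Flat (f ∣_ V₀) := IsZariskiLocalAtTarget.restrict (P := @Flat) inferInstance V₀
  haveI : LocallyOfFinitePresentation (f ∣_ V₀) :=
    IsZariskiLocalAtTarget.restrict (P := @LocallyOfFinitePresentation) inferInstance V₀
  have hrk : ∀ q : V₀.toScheme, (f ∣_ V₀).finrank q = 2 := fun q => by
    rw [restrict_finrank, IsDbl.rk]
  have h2 : IsUnit (2 : Γ(V₀.toScheme, ⊤)) := by
    have := (IsDbl.two (f := f)).map V₀.ι.appTop.hom
    rwa [map_ofNat] at this
  obtain ⟨r, hr, hg⟩ := exists_goodMor_basicOpen (f ∣_ V₀) hrk h2 ⟨y, hyV₀⟩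
  set D := V₀.toScheme.basicOpen r with hD
  have hDaff : IsAffineOpen D := (isAffineOpen_top V₀.toScheme).basicOpen r
  have hVaff : IsAffineOpen (V₀.ι ''ᵁ D) := hDaff.image_of_isOpenImmersion V₀.ι
  haveI : IsAffine D.toScheme := hDaff
  haveI : IsAffine ((f ∣_ V₀) ⁻¹ᵁ D).toScheme := hDaff.preimage (f ∣_ V₀)
  haveI : IsAffine (V₀.ι ''ᵁ D).toScheme := hVaff
  haveI : IsAffine (f ⁻¹ᵁ (V₀.ι ''ᵁ D)).toScheme := hVaff.preimage f
  refine ⟨⟨V₀.ι ''ᵁ D, hVaff, goodMor_of_arrowIso (morphismRestrictRestrict f V₀ D) hg⟩, ?_, ?_⟩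
  · exact ⟨⟨y, hyV₀⟩, hr, rfl⟩
  · refine le_trans ?_ hV₀U
    exact Scheme.Opens.ι_image_le _ _

section Glue

variable [IsDbl f]

theorem isOpenCover_pre : IsOpenCover (fun V : J f => f ⁻¹ᵁ V.1) := by
  rw [IsOpenCover, eq_top_iff]
  intro x _
  obtain ⟨V, hV, -⟩ := exists_good f ⊤ (f x) trivial
  exact Opens.mem_iSup.mpr ⟨V, hV⟩

/-- The cover of `X` by the preimages of the good affine opens. -/
noncomputable def coverX : X.OpenCover :=
  X.openCoverOfIsOpenCover (fun V : J f => f ⁻¹ᵁ V.1) (isOpenCover_pre f)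

instance : Preorder (coverX f).I₀ := inferInstanceAs (Preorder (J f))

noncomputable instance : (coverX f).LocallyDirected where
  trans {i j} hij := X.homOfLE (f.preimage_mono (leOfHom hij))
  trans_id i := by
    show X.homOfLE _ = 𝟙 _
    simp
  trans_comp hij hjk := by
    show X.homOfLE _ = X.homOfLE _ ≫ X.homOfLE _
    simp
  w hij := Scheme.homOfLE_ι _ _
  directed {i j} x := by
    let i' : J f := i
    let j' : J f := j
    let x₀ : X := (pullback.fst ((coverX f).f i) ((coverX f).f j) ≫ (coverX f).f i) x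
    have hi : f x₀ ∈ i'.1 := ((pullback.fst ((coverX f).f i) ((coverX f).f j)) x).2
    have hj : f x₀ ∈ j'.1 := by
      have : x₀ = (pullback.snd ((coverX f).f i) ((coverX f).f j) ≫ (coverX f).f j) x := by
        simp only [x₀, pullback.condition]
      rw [this]
      exact ((pullback.snd ((coverX f).f i) ((coverX f).f j)) x).2
    obtain ⟨k, hk, hle⟩ := exists_good f (i'.1 ⊓ j'.1) (f x₀) ⟨hi, hj⟩
    refine ⟨k, homOfLE (show k ≤ i' from hle.trans inf_le_left),
      homOfLE (show k ≤ j' from hle.trans inf_le_right), ⟨x₀, hk⟩, ?_⟩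
    apply (pullback.fst ((coverX f).f i) ((coverX f).f j) ≫ (coverX f).f i).isOpenEmbedding.injective
    rw [← Scheme.Hom.comp_apply, pullback.lift_fst_assoc]
    show (X.homOfLE _ ≫ (f ⁻¹ᵁ i'.1).ι) ⟨x₀, hk⟩ = x₀
    rw [Scheme.homOfLE_ι]
    rfl
  property_trans hij := by
    show IsOpenImmersion (X.homOfLE _)
    infer_instance

end Glue

section Sigma

variable [IsDbl f]

/-- The local involution over a good affine open, as a morphism to `X`. -/
noncomputable def locSig (V : J f) : (f ⁻¹ᵁ V.1).toScheme ⟶ X :=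
  sigAff (f ∣_ V.1) ≫ (f ⁻¹ᵁ V.1).ι

theorem restrict_homOfLE {V' V : Y.Opens} (h : V' ≤ V) :
    X.homOfLE (f.preimage_mono h) ≫ f ∣_ V = f ∣_ V' ≫ Y.homOfLE h := by
  rw [← cancel_mono V.ι, Category.assoc, Category.assoc, morphismRestrict_ι,
    Scheme.homOfLE_ι_assoc, Scheme.homOfLE_ι, morphismRestrict_ι]

theorem isPullback_homOfLE {V' V : Y.Opens} (h : V' ≤ V) :
    IsPullback (X.homOfLE (f.preimage_mono h)) (f ∣_ V') (f ∣_ V) (Y.homOfLE h) := by
  refine IsPullback.of_right ?_ (restrict_homOfLE f h) (isPullback_morphismRestrict f V).flip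
  rw [Scheme.homOfLE_ι, Scheme.homOfLE_ι]
  exact (isPullback_morphismRestrict f V').flip

theorem sigAff_homOfLE {V' V : J f} (h : V' ≤ V) :
    sigAff (f ∣_ V'.1) ≫ X.homOfLE (f.preimage_mono h) =
      X.homOfLE (f.preimage_mono h) ≫ sigAff (f ∣_ V.1) :=
  (sigAff_baseChange (isPullback_homOfLE f h) V.2.2).2

theorem locSig_compat {V' V : J f} (h : V' ≤ V) :
    X.homOfLE (f.preimage_mono h) ≫ locSig f V = locSig f V' := by
  unfold locSig
  rw [← Category.assoc, ← sigAff_homOfLE f h, Category.assoc, Scheme.homOfLE_ι]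

/-- The global involution. -/
noncomputable def sigX : X ⟶ X :=
  (coverX f).glueMorphismsOfLocallyDirected (locSig f)
    (fun {i j} hij => locSig_compat f (leOfHom hij))

theorem ι_sigX (V : J f) : (f ⁻¹ᵁ V.1).ι ≫ sigX f = sigAff (f ∣_ V.1) ≫ (f ⁻¹ᵁ V.1).ι :=
  (coverX f).map_glueMorphismsOfLocallyDirected (locSig f)
    (fun {i j} hij => locSig_compat f (leOfHom hij)) V

theorem sigX_comp : sigX f ≫ f = f := by
  apply (coverX f).hom_ext
  intro V
  show (f ⁻¹ᵁ (V : J f).1).ι ≫ sigX f ≫ f = (f ⁻¹ᵁ (V : J f).1).ι ≫ f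
  rw [← Category.assoc, ι_sigX, Category.assoc, ← morphismRestrict_ι, ← Category.assoc,
    sigAff_comp]

theorem sigX_sigX : sigX f ≫ sigX f = 𝟙 X := by
  apply (coverX f).hom_ext
  intro V
  show (f ⁻¹ᵁ (V : J f).1).ι ≫ sigX f ≫ sigX f = (f ⁻¹ᵁ (V : J f).1).ι ≫ 𝟙 X
  rw [← Category.assoc, ι_sigX, Category.assoc, ι_sigX, ← Category.assoc, sigAff_sigAff,
    Category.id_comp, Category.comp_id]

/-- The global involution as an automorphism. -/
noncomputable def sigAut : Aut X := ⟨sigX f, sigX f, sigX_sigX f, sigX_sigX f⟩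

theorem sigAut_mul : sigAut f * sigAut f = 1 := Iso.ext (sigX_sigX f)

theorem sigAut_hom : (sigAut f).hom = sigX f := rfl

end Sigma

end Groth.Agent.Lead.Dbl
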