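import Mathlib
import Groth.Prelude.Def_SGA1
import Groth.Agent.Lead.DblD
import Groth.Agent.Helper9.QuotCharts
import Groth.Agent.Helper9.QuotAff
import Groth.Agent.Helper6.QuotSpec

/-!
# Double covers: the quotient property
-/

universe u

set_option linter.style.haveILetI false

namespace Groth.Agent.Lead.Dbl

open CategoryTheory CategoryTheory.Limits AlgebraicGeometry TopologicalSpace

variable {X Y : Scheme.{u}} (f : X ⟶ Y) [IsDbl f]

/-- Automorphisms of `X` over `Y`. -/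
def stab : Subgroup (Aut X) where
  carrier := {h | h.hom ≫ f = f}
  mul_mem' {a b} ha hb := by
    show (b.hom ≫ a.hom) ≫ f = f
    rw [Category.assoc, ha, hb]
  one_mem' := Category.id_comp f
  inv_mem' {a} ha := by
    show a.inv ≫ f = f
    rw [Iso.inv_comp_eq]
    exact ha.symm

theorem zpowers_le_stab : Subgroup.zpowers (sigAut f) ≤ stab f := by
  rw [Subgroup.zpowers_le]
  exact sigX_comp f

theorem finite_zpowers : Finite ↥(Subgroup.zpowers (sigAut f)) := by
  have h : IsOfFinOrder (sigAut f) :=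
    isOfFinOrder_iff_pow_eq_one.mpr ⟨2, by norm_num, by rw [pow_two, sigAut_mul]⟩
  have : (Subgroup.zpowers (sigAut f) : Set (Aut X)).Finite := by
    rw [← h.powers_eq_zpowers]
    exact h.finite_powers
  exact this.to_subtype

theorem isQuot : SGA1.IsQuot (Subgroup.zpowers (sigAut f)).subtype f := by
  haveI := finite_zpowers f
  set ρ := (Subgroup.zpowers (sigAut f)).subtype with hρ
  have hinv : ∀ g : ↥(Subgroup.zpowers (sigAut f)), (ρ g).hom ≫ f = f :=
    fun g => zpowers_le_stab f g.2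
  have hst : ∀ (V : J f) (g : ↥(Subgroup.zpowers (sigAut f))),
      f ⁻¹ᵁ V.1 ≤ (ρ g).hom ⁻¹ᵁ (f ⁻¹ᵁ V.1) :=
    fun V g => SGA1.preimage_le_of_inv ρ f hinv g V.1
  refine Groth.Agent.Helper9.QuotCharts.isQuot_of_charts ρ f hinv
    (fun V : J f => (f ⁻¹ᵁ V.1).toScheme) (fun V : J f => V.1.toScheme)
    (fun V => (f ⁻¹ᵁ V.1).ι) (fun V => V.1.ι) (fun V => f ∣_ V.1)
    (fun V => (morphismRestrict_ι f V.1).symm) (fun V => ?_) (fun y => ?_)
    (fun V => Groth.Agent.Helper9.QuotAff.restrictAct ρ (f ⁻¹ᵁ V.1) (hst V))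
    (fun V g => Groth.Agent.Helper9.QuotAff.restrictAct_ι ρ (f ⁻¹ᵁ V.1) (hst V) g) (fun V => ?_)
  · rw [Scheme.Opens.opensRange_ι, Scheme.Opens.opensRange_ι]
  · obtain ⟨V, hV, -⟩ := exists_good f ⊤ y trivial
    exact ⟨V, by rw [Scheme.Opens.opensRange_ι]; exact hV⟩
  · have hinvV : ∀ g : ↥(Subgroup.zpowers (sigAut f)),
        (Groth.Agent.Helper9.QuotAff.restrictAct ρ (f ⁻¹ᵁ V.1) (hst V) g).hom ≫ f ∣_ V.1 =
          f ∣_ V.1 := by
      intro g
      rw [← cancel_mono V.1.ι, Category.assoc, morphismRestrict_ι, ← Category.assoc,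
        Groth.Agent.Helper9.QuotAff.restrictAct_ι, Category.assoc, hinv g]
    refine Groth.Agent.Helper6.QuotSpec.isQuot_of_affine _ _ hinvV ?_ ?_
    · exact V.2.2.appTop_injective
    · intro s hs
      have h1 := hs ⟨sigAut f, Subgroup.mem_zpowers _⟩
      unfold Groth.Agent.Helper6.QuotAct.pb at h1
      rw [Groth.Agent.Helper6.QuotSpec.appLE_top'] at h1
      have e : (Groth.Agent.Helper9.QuotAff.restrictAct ρ (f ⁻¹ᵁ V.1) (hst V)
          ⟨sigAut f, Subgroup.mem_zpowers _⟩).hom = sigAff (f ∣_ V.1) := by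
        rw [← cancel_mono (f ⁻¹ᵁ V.1).ι, Groth.Agent.Helper9.QuotAff.restrictAct_ι, ← ι_sigX]
        rfl
      rw [e] at h1
      exact sigAff_fixed V.2.2 s h1

theorem main : ∃ σ : Aut X, σ.hom ≫ f = f ∧ σ * σ = 1 ∧
    SGA1.IsQuot (Subgroup.zpowers σ).subtype f :=
  ⟨sigAut f, sigX_comp f, sigAut_mul f, isQuot f⟩

end Groth.Agent.Lead.Dbl
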