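import Groth.Agent.Lead.Deform3
import Groth.Agent.Lead.Deform2
import Groth.Agent.Helper6.Thick
import Groth.Prelude.Def_Mor2
import Mathlib

/-!
# Lead: deforming finite locally free morphisms of rank `d` along finite order thickenings
-/

set_option autoImplicit false
open CategoryTheory CategoryTheory.Limits AlgebraicGeometry
universe u

namespace Groth.Agent.Lead.Deform

variable {X X' Y Y' S S' : Scheme.{u}} (iX : X ⟶ X') (iY : Y ⟶ Y') (iS : S ⟶ S')
  (f : X ⟶ Y) (f' : X' ⟶ Y') (g : Y ⟶ S) (g' : Y' ⟶ S')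

theorem finLocFreeOfDeg_deform_iff (d : ℕ) (hS : MoreMor.IsFiniteOrderThickening iS)
    (hcX : IsPullback iX (f ≫ g) (f' ≫ g') iS) (hcY : IsPullback iY g g' iS)
    (w : iX ≫ f' = f ≫ iY) [Flat (f' ≫ g')] :
    Mor2.IsFinLocFreeOfDeg d f ↔ Mor2.IsFinLocFreeOfDeg d f' := by
  have hXY : IsPullback iX f f' iY := isPullback_top iX iY iS f f' g g' hcX hcY w
  have hY := finiteOrder_of_isPullback iY iS g g' hS hcY
  haveI : IsClosedImmersion iY := hY.1.1
  haveI : Surjective iY := hY.1.2
  haveI : IsClosedImmersion iX := MorphismProperty.of_isPullback (P := @IsClosedImmersion) hXY.flip inferInstance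
  haveI : Surjective iX := MorphismProperty.of_isPullback (P := @Surjective) hXY.flip inferInstance
  constructor
  · rintro ⟨⟨hfin, hfl, hfp⟩, hrk⟩
    haveI := hfin
    haveI := hfl
    haveI := hfp
    haveI hfl' : Flat f' := flat_of_deform iX iY iS f f' g g' hS hcX hcY w
    haveI hfp' : LocallyOfFinitePresentation f' := lfp_of_deform iX iY iS f f' g g' hS hcX hcY w
    haveI : IsFinite (iX ≫ f') := by rw [w]; infer_instance
    haveI hfin' : IsFinite f' :=
      Groth.Agent.Helper6.Thick.isFinite_of_comp_of_surjective_closedImmersion iX f'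
    refine ⟨⟨hfin', hfl', hfp'⟩, fun y' => ?_⟩
    obtain ⟨y, rfl⟩ := iY.surjective y'
    rw [← Scheme.Hom.finrank_of_isPullback iX f f' iY hXY y]
    exact hrk y
  · rintro ⟨⟨hfin, hfl, hfp⟩, hrk⟩
    haveI := hfin
    haveI := hfl
    haveI := hfp
    refine ⟨⟨MorphismProperty.of_isPullback (P := @IsFinite) hXY hfin,
      MorphismProperty.of_isPullback (P := @Flat) hXY hfl,
      MorphismProperty.of_isPullback (P := @LocallyOfFinitePresentation) hXY hfp⟩, fun y => ?_⟩
    rw [Scheme.Hom.finrank_of_isPullback iX f f' iY hXY y]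
    exact hrk (iY y)

end Groth.Agent.Lead.Deform
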