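import Mathlib
import Groth.Prelude.Def_CAlg
import Groth.Agent.Helper2.DepthCM3

set_option autoImplicit false
open CategoryTheory Abelian RingTheory.Sequence
universe u

namespace Groth.Agent.Lead.DepthExt
open Groth.Agent.Helper2.DepthRees Groth.Agent.Helper2.DepthCM Groth.Agent.Helper2.DepthCM3

variable {A : Type u} [CommRing A] [IsNoetherianRing A] (I : Ideal A)

theorem le_idealDepth_iff (M : Type u) [AddCommGroup M] [Module A M] [Module.Finite A M]
    (hIM : I • (⊤ : Submodule A M) ≠ ⊤) (n : ℕ) :
    (n : ℕ∞) ≤ LocCoh.idealDepth I M ↔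
      ∀ i < n, Subsingleton (Ext (ModuleCat.of A (A ⧸ I)) (ModuleCat.of A M) i) := by
  rw [ext_Q_subsingleton_iff I n (ModuleCat.of A M) hIM]
  constructor
  · intro h
    obtain ⟨rs, h1, h2, h3, h4⟩ := exists_length_eq_idealDepth I M hIM
    rw [← h4] at h
    have hn : n ≤ rs.length := by exact_mod_cast h
    refine ⟨rs.take n, by rw [List.length_take]; omega, fun r hr => h2 r (List.mem_of_mem_take hr), ?_⟩
    have := h1
    rw [← List.take_append_drop n rs, isWeaklyRegular_append_iff] at this
    exact this.1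
  · rintro ⟨rs, h1, h2, h3⟩
    rw [← h1]
    exact length_le_idealDepth rs h3 h2

end Groth.Agent.Lead.DepthExt
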