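import Mathlib
import Groth.Prelude.Def_CAlg
import Groth.Agent.Lead.DepthExt

set_option autoImplicit false
open CategoryTheory Abelian RingTheory.Sequence
universe u

namespace Groth.Agent.Lead.DepthExt
open Groth.Agent.Helper2.DepthRees Groth.Agent.Helper2.DepthCM Groth.Agent.Helper2.DepthCM3

variable {A : Type u} [CommRing A] [IsNoetherianRing A] (I : Ideal A)

omit [IsNoetherianRing A] in
lemma ext_subsingleton_of_smul_top_eq_top (M : Type u) [AddCommGroup M] [Module A M]
    [Module.Finite A M] (hIM : I • (⊤ : Submodule A M) = ⊤) (i : ℕ) :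
    Subsingleton (Ext (ModuleCat.of A (A ⧸ I)) (ModuleCat.of A M) i) := by
  obtain ⟨r, hr1, hr2⟩ := Submodule.exists_sub_one_mem_and_smul_eq_zero_of_fg_of_le_smul I
    (⊤ : Submodule A M) Module.Finite.fg_top hIM.ge
  have h1 : r • 𝟙 (ModuleCat.of A M) = 0 := by
    ext n
    exact hr2 n Submodule.mem_top
  have h2 : r • 𝟙 (ModuleCat.of A (A ⧸ I)) = 𝟙 _ := by
    apply ModuleCat.hom_ext
    apply LinearMap.ext
    intro x
    obtain ⟨a, rfl⟩ := Ideal.Quotient.mk_surjective x
    change r • (Ideal.Quotient.mk I a) = Ideal.Quotient.mk I a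
    have h3 : (r - 1) • (Ideal.Quotient.mk I a) = 0 := by
      rw [Algebra.smul_def]
      have : (algebraMap A (A ⧸ I)) (r - 1) = 0 := Ideal.Quotient.eq_zero_iff_mem.mpr hr1
      rw [this, zero_mul]
    rw [sub_smul, one_smul, sub_eq_zero] at h3
    exact h3
  refine subsingleton_of_forall_eq 0 fun e => ?_
  have e1 : (Ext.mk₀ (r • 𝟙 (ModuleCat.of A (A ⧸ I)))).comp e (zero_add i) = r • e := by
    rw [Ext.mk₀_smul, Ext.smul_comp, Ext.mk₀_id_comp]
  have e2 : r • e = e.comp (Ext.mk₀ (r • 𝟙 (ModuleCat.of A M))) (add_zero i) :=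
    Ext.smul_eq_comp_mk₀ e r
  rw [h2, Ext.mk₀_id_comp] at e1
  rw [e1, e2, h1, Ext.mk₀_zero, Ext.comp_zero]

theorem le_idealDepth_iff' (M : Type u) [AddCommGroup M] [Module A M] [Module.Finite A M] (n : ℕ) :
    (n : ℕ∞) ≤ LocCoh.idealDepth I M ↔
      ∀ i < n, Subsingleton (Ext (ModuleCat.of A (A ⧸ I)) (ModuleCat.of A M) i) := by
  by_cases hIM : I • (⊤ : Submodule A M) = ⊤
  · have : LocCoh.idealDepth I M = ⊤ := by rw [LocCoh.idealDepth, if_pos hIM]
    rw [this]
    simp only [le_top, true_iff]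
    intro i _
    exact ext_subsingleton_of_smul_top_eq_top I M hIM i
  · exact le_idealDepth_iff I M hIM n

end Groth.Agent.Lead.DepthExt
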