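import Mathlib
import Groth.Agent.Lead.Hartogs

set_option autoImplicit false
universe u
open CategoryTheory CategoryTheory.Limits AlgebraicGeometry TopologicalSpace Opposite

namespace Groth.Agent.Lead.DepthIso2
open Groth.Agent.Helper4 Groth.Agent.Helper4.StalkDict Groth.Agent.Lead.StalkNhd
  Groth.Agent.Lead.DepthIso Groth.Agent.Lead.FlatLib Groth.Agent.Lead.Hartogs

section Algebra

variable {R : Type u} [CommRing R] [IsLocalRing R]
variable {M N : Type u} [AddCommGroup M] [Module R M] [AddCommGroup N] [Module R N]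

theorem mem_range_of_depth_two_ass [Module.Finite R M]
    (ψ : M →ₗ[R] N) (hψ : Function.Injective ψ) (hd : (2 : ℕ∞) ≤ LocCoh.depth R M)
    (hN : ∀ n : N, (∀ r ∈ IsLocalRing.maximalIdeal R, r • n = 0) → n = 0) (n : N)
    (hn : ∀ r ∈ IsLocalRing.maximalIdeal R, ∃ m : M, ψ m = r • n) : ∃ m : M, ψ m = n := by
  by_cases hM : Subsingleton M
  · refine ⟨0, ?_⟩
    rw [map_zero]
    symm
    apply hN
    intro r hr
    obtain ⟨m, hm⟩ := hn r hr
    rw [← hm, Subsingleton.elim m 0, map_zero]
  rw [not_subsingleton_iff_nontrivial] at hM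
  obtain ⟨a, b, ha, hb, hreg, hquot⟩ := Groth.Agent.Helper9.DepthS2.exists_regSeq_of_two_le_depth hd
  obtain ⟨m₁, hm₁⟩ := hn a ha
  obtain ⟨m₂, hm₂⟩ := hn b hb
  have h1 : b • m₁ = a • m₂ := by
    apply hψ
    rw [map_smul, map_smul, hm₁, hm₂, smul_comm]
  obtain ⟨m', hm'⟩ := hquot m₁ ⟨m₂, h1⟩
  refine ⟨m', ?_⟩
  have h0 : n - ψ m' = 0 := by
    apply hN
    intro c hc
    obtain ⟨mc, hmc⟩ := hn c hc
    have h2 : a • mc = a • (c • m') := by
      apply hψ
      rw [map_smul, hmc, smul_comm a c m', ← hm', map_smul, hm₁, smul_comm]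
    have h3 : mc = c • m' := hreg h2
    rw [smul_sub, ← hmc, h3, map_smul, sub_self]
  exact (sub_eq_zero.mp h0).symm

end Algebra

section Criterion

variable {X : Scheme.{u}} [IsLocallyNoetherian X] {F G : X.Modules} (φ : F ⟶ G)

theorem eq_zero_of_not_isAssPoint (z : X) (hz : ¬ Curv2.IsAssPoint G z) (n : G.presheaf.stalk z)
    (hn : ∀ r ∈ IsLocalRing.maximalIdeal (X.presheaf.stalk z), r • n = 0) : n = 0 := by
  by_contra hne
  apply hz
  rw [Curv2.IsAssPoint, isAssociatedPrime_iff]
  refine ⟨inferInstance, n, ?_⟩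
  apply le_antisymm
  · intro r hr
    rw [Submodule.mem_colon_singleton, Submodule.mem_bot]
    exact hn r hr
  · intro r hr
    rw [Submodule.mem_colon_singleton, Submodule.mem_bot] at hr
    by_contra hrm
    have hu : IsUnit r := by
      by_contra hnu
      exact hrm ((IsLocalRing.mem_maximalIdeal r).mpr hnu)
    apply hne
    have := congrArg (fun t => (hu.unit⁻¹ : (X.presheaf.stalk z)ˣ) • t) hr
    simpa [Units.smul_def, smul_smul] using this

theorem subsingleton_cokernel_stalk [F.IsQuasicoherent] [G.IsQuasicoherent] [Mono φ]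
    (hFT : SheafOfModules.IsFiniteType (R := X.ringCatSheaf) F)
    (h : ∀ x : X, Function.Bijective (stalkLin φ x) ∨
      ((2 : ℕ∞) ≤ LocCoh.depth (X.presheaf.stalk x) (F.presheaf.stalk x) ∧ ¬ Curv2.IsAssPoint G x))
    (x : X) : Subsingleton ((cokernel φ).presheaf.stalk x) := by
  by_contra hns
  rw [not_subsingleton_iff_nontrivial] at hns
  haveI := QcohLimits.isQuasicoherent_cokernel φ
  obtain ⟨z, hz, -⟩ := AssMax2.exists_isAssPoint_specializes (cokernel φ) x hns
  obtain ⟨c, hc0, hc⟩ := exists_socle_of_isAssPoint (cokernel φ) z hz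
  obtain ⟨n, rfl⟩ := EpiStalk.stalkLin_surjective_of_epi (cokernel.π φ) z c
  have hex : (ShortComplex.mk φ (cokernel.π φ) (cokernel.condition φ)).Exact :=
    ShortComplex.exact_of_g_is_cokernel _ (cokernelIsCokernel φ)
  haveI : Mono (ShortComplex.mk φ (cokernel.π φ) (cokernel.condition φ)).f :=
    inferInstanceAs (Mono φ)
  have hE := StalkExact.stalkLin_exact _ hex z
  have hn : ∀ r ∈ IsLocalRing.maximalIdeal (X.presheaf.stalk z),
      ∃ m : F.presheaf.stalk z, stalkLin φ z m = r • n := by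
    intro r hr
    apply (hE (r • n)).mp
    change stalkLin (cokernel.π φ) z (r • n) = 0
    rw [map_smul, hc r hr]
  have hinj : Function.Injective (stalkLin φ z) := StalkExact.stalkLin_injective φ z
  have hcontra : ∀ m : F.presheaf.stalk z, stalkLin φ z m = n → False := by
    intro m hm
    apply hc0
    rw [← hm]
    exact (hE (stalkLin φ z m)).mpr ⟨m, rfl⟩
  rcases h z with hb | ⟨hd, hass⟩
  · obtain ⟨m, hm⟩ := hb.2 n
    exact hcontra m hm
  · haveI := FinLocFree2.finite_stalk F hFT z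
    obtain ⟨m, hm⟩ := mem_range_of_depth_two_ass (stalkLin φ z) hinj hd
      (eq_zero_of_not_isAssPoint z hass) n hn
    exact hcontra m hm

/-- S8890 -/
theorem main (hF : Coh.IsCoh F) (hG : Coh.IsQCoh G)
    (h : ∀ x : X, Function.Bijective (stalkLin φ x) ∨
      ((2 : ℕ∞) ≤ LocCoh.depth (X.presheaf.stalk x) (F.presheaf.stalk x) ∧ ¬ Curv2.IsAssPoint G x)) :
    IsIso φ := by
  haveI : F.IsQuasicoherent := hF.1
  haveI : G.IsQuasicoherent := hG
  have h' : ∀ x : X, Function.Bijective (stalkLin φ x) ∨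
      (2 : ℕ∞) ≤ LocCoh.depth (X.presheaf.stalk x) (F.presheaf.stalk x) := fun x =>
    (h x).imp id (fun hx => hx.1)
  have hinj : ∀ x, Function.Injective (stalkLin φ x) := fun x =>
    stalkLin_injective_of_subsingleton_kernel φ x (subsingleton_kernel_stalk' φ hF.2 h' x)
  haveI : Mono φ := AssMono.mono_of_stalkLin_injective φ hinj
  have hex : (ShortComplex.mk φ (cokernel.π φ) (cokernel.condition φ)).Exact :=
    ShortComplex.exact_of_g_is_cokernel _ (cokernelIsCokernel φ)
  haveI : Mono (ShortComplex.mk φ (cokernel.π φ) (cokernel.condition φ)).f :=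
    inferInstanceAs (Mono φ)
  apply QcohLocal.isIso_of_stalkLin_bijective
  intro x
  refine ⟨hinj x, fun n => ?_⟩
  have hE := StalkExact.stalkLin_exact _ hex x
  haveI := subsingleton_cokernel_stalk φ hF.2 h x
  exact (hE n).mp (Subsingleton.elim _ _)

end Criterion

end Groth.Agent.Lead.DepthIso2
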