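import Groth.Agent.Lead.DerPbA
import Groth.Prelude.Def_Frob
import Mathlib

set_option autoImplicit false
open CategoryTheory CategoryTheory.Limits AlgebraicGeometry Opposite TopologicalSpace TensorProduct
universe u

namespace Groth.Agent.Lead.DerFrobA

open OmegaSh Groth.Agent.Lead

variable {X S : Scheme.{u}}

theorem app_congr_zero {Z X' B : Scheme.{u}} {q : Z ⟶ B} {Ω : Z.Modules} (d : Der q Ω)
    (φ ψ : Z ⟶ X') (e : φ = ψ) (U : X'.Opens) (b : Γ(X', U))
    (h : d.app (ψ ⁻¹ᵁ U) (ψ.app U b) = 0) : d.app (φ ⁻¹ᵁ U) (φ.app U b) = 0 := by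
  subst e
  exact h

/-- change of base morphism for a derivation -/
def derOfEq {Z P B : Scheme.{u}} {q : Z ⟶ B} {Ω : Z.Modules} (d : Der q Ω) (F : Z ⟶ P)
    (h : ∀ (W : P.Opens) (a : Γ(P, W)), d.app (F ⁻¹ᵁ W) (F.app W a) = 0) : Der F Ω where
  d := d.d
  d_mul := d.d_mul
  d_map := d.d_map
  d_app {W} a := h W.unop a

theorem derOfEq_app {Z P B : Scheme.{u}} {q : Z ⟶ B} {Ω : Z.Modules} (d : Der q Ω) (F : Z ⟶ P)
    (h : ∀ (W : P.Opens) (a : Γ(P, W)), d.app (F ⁻¹ᵁ W) (F.app W a) = 0) (U : Z.Opens)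
    (s : Γ(Z, U)) : (derOfEq d F h).app U s = d.app U s := rfl

/-- a derivation relative to `F` is a derivation relative to `F ≫ k` -/
theorem app_comp_eq_zero {Z P B : Scheme.{u}} (F : Z ⟶ P) (k : P ⟶ B) {G : Z.Modules}
    (D : Der F G) (f : Z ⟶ B) (hf : F ≫ k = f) (V : B.Opens) (c : Γ(B, V)) :
    D.app (f ⁻¹ᵁ V) (f.app V c) = 0 := by
  subst hf
  have h1 : (F ≫ k).app V c = F.app (k ⁻¹ᵁ V) (k.app V c) := by
    rw [Scheme.Hom.comp_app]; rfl
  rw [h1]
  exact DerA.der_app_eq_zero F D (k ⁻¹ᵁ V) (k.app V c)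

theorem main (p : ℕ) [Fact p.Prime] [FrobSch.IsCharP S p] (f : X ⟶ S)
    (Ω : X.Modules) (d : Der f Ω) (hd : IsUniversal d) :
    ∃ d' : Der (FrobSch.relFrob f p) Ω,
      (∀ (U : X.Opens) (s : Γ(X, U)), d'.app U s = d.app U s) ∧ IsUniversal d' := by
  haveI : FrobSch.IsCharP X p := FrobSch.IsCharP.of_hom f p
  have H : IsPullback (pullback.fst f (FrobSch.frob S p)) (pullback.snd f (FrobSch.frob S p)) f
      (FrobSch.frob S p) := IsPullback.of_hasPullback _ _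
  have key : ∀ (W : (FrobSch.frobTwist f p).Opens) (a : Γ(FrobSch.frobTwist f p, W)),
      d.app (FrobSch.relFrob f p ⁻¹ᵁ W) ((FrobSch.relFrob f p).app W a) = 0 := by
    refine DerPbA.der_app_eq_zero H (FrobSch.relFrob f p) d ?_ ?_
    · intro U b
      refine app_congr_zero d _ _ (FrobSch.relFrob_fst f p) U b ?_
      change d.d (X := op U) (b ^ p) = 0
      obtain ⟨n, hn⟩ : ∃ n, p = n + 1 :=
        ⟨p - 1, (Nat.succ_pred_eq_of_pos (Fact.out : p.Prime).pos).symm⟩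
      have hp0 : ((n + 1 : ℕ) : Γ(X, U)) = 0 := by
        rw [← hn]; exact FrobSch.natCast_eq_zero_app X p U
      rw [hn, DerPbA.d_pow_succ, hp0, zero_mul, zero_smul]
    · intro V c
      refine app_congr_zero d _ _ (FrobSch.relFrob_snd f p) V c ?_
      exact DerA.der_app_eq_zero f d V c
  refine ⟨derOfEq d _ key, fun U s => rfl, ?_⟩
  intro G D
  let D₀ : Der f G := derOfEq D f
    (app_comp_eq_zero (FrobSch.relFrob f p) (pullback.snd f (FrobSch.frob S p)) D f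
      (FrobSch.relFrob_snd f p))
  obtain ⟨α, hα, huniq⟩ := hd G D₀
  refine ⟨α, ?_, ?_⟩
  · rw [DerA.postcomp_eq_iff] at hα ⊢
    exact hα
  · intro β hβ
    apply huniq
    rw [DerA.postcomp_eq_iff] at hβ ⊢
    exact hβ

end Groth.Agent.Lead.DerFrobA
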