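import Mathlib

/-! An algebra over a field with a "separability idempotent" is finite-dimensional. -/

open TensorProduct

namespace Groth.Agent.Lead.DiagOpenFin
universe u

theorem finite_of_sepIdem (K R : Type*) [Field K] [CommRing R] [Algebra K R]
    (e : R ⊗[K] R) (he : ∀ a : R, (a ⊗ₜ[K] (1:R)) * e = ((1:R) ⊗ₜ[K] a) * e)
    (h1 : Algebra.TensorProduct.lmul' K e = 1) : Module.Finite K R := by
  classical
  let b := Module.Basis.ofVectorSpace K R
  let B := Algebra.TensorProduct.basis R b
  obtain ⟨c, hc⟩ : ∃ c, c = B.repr e := ⟨_, rfl⟩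
  have hsum : e = ∑ j ∈ c.support, c j ⊗ₜ[K] b j := by
    have := B.linearCombination_repr e
    rw [Finsupp.linearCombination_apply, Finsupp.sum, ← hc] at this
    rw [← this]
    refine Finset.sum_congr rfl fun j _ => ?_
    rw [Algebra.TensorProduct.basis_apply, TensorProduct.smul_tmul', smul_eq_mul, mul_one]
  let V : Submodule K R := Submodule.span K (c '' (c.support : Set _))
  let W : Submodule K R := Submodule.span K (b '' (c.support : Set _))
  have hV : V.FG := Submodule.fg_span ((Finset.finite_toSet _).image _)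
  have hW : W.FG := Submodule.fg_span ((Finset.finite_toSet _).image _)
  have claim1 : ∀ a j, a * c j ∈ V := by
    intro a j
    have h : B.repr ((a ⊗ₜ[K] (1:R)) * e) j = B.repr (((1:R) ⊗ₜ[K] a) * e) j := by rw [he a]
    have hL : B.repr ((a ⊗ₜ[K] (1:R)) * e) j = a * c j := by
      have : (a ⊗ₜ[K] (1:R)) * e = a • e := by
        rw [Algebra.smul_def, Algebra.TensorProduct.algebraMap_apply]
        rfl
      rw [this, map_smul, Finsupp.smul_apply, smul_eq_mul, hc]
    have hR : B.repr (((1:R) ⊗ₜ[K] a) * e) j = ∑ i ∈ c.support, (b.repr (a * b i) j) • c i := by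
      conv_lhs => rw [hsum]
      rw [Finset.mul_sum, map_sum, Finsupp.finset_sum_apply]
      refine Finset.sum_congr rfl fun i _ => ?_
      rw [Algebra.TensorProduct.tmul_mul_tmul, one_mul, Algebra.TensorProduct.basis_repr_tmul,
        Finsupp.smul_apply, Finsupp.mapRange_apply, smul_eq_mul, Algebra.smul_def, mul_comm]
    rw [hL, hR] at h
    rw [h]
    refine Submodule.sum_mem _ fun i hi => Submodule.smul_mem _ _ ?_
    exact Submodule.subset_span ⟨i, hi, rfl⟩
  have claim2 : ∑ j ∈ c.support, c j * b j = 1 := by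
    rw [← h1]
    conv_rhs => rw [hsum]
    rw [map_sum]
    refine Finset.sum_congr rfl fun j _ => ?_
    rw [Algebra.TensorProduct.lmul'_apply_tmul]
  have htop : (⊤ : Submodule K R) ≤ V * W := by
    intro a _
    have ha : a = ∑ j ∈ c.support, (a * c j) * b j := by
      calc a = a * 1 := (mul_one a).symm
        _ = a * ∑ j ∈ c.support, c j * b j := by rw [claim2]
        _ = _ := by rw [Finset.mul_sum]; exact Finset.sum_congr rfl fun j _ => (mul_assoc _ _ _).symm
    rw [ha]
    exact Submodule.sum_mem _ fun j hj =>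
      Submodule.mul_mem_mul (claim1 a j) (Submodule.subset_span ⟨j, hj, rfl⟩)
  have hfg : (⊤ : Submodule K R).FG := by
    have : (V * W).FG := hV.mul hW
    rwa [eq_top_iff.mpr htop] at this
  exact ⟨hfg⟩

end Groth.Agent.Lead.DiagOpenFin
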