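import Mathlib
import Groth.Agent.Lead.DiagOpenFinA

/-! A scheme over a field whose diagonal is an open immersion is locally of finite presentation. -/

open TensorProduct AlgebraicGeometry CategoryTheory CategoryTheory.Limits

namespace Groth.Agent.Lead.DiagOpenFin
universe u

theorem exists_idem_of_isOpenImmersion {A B : Type u} [CommRing A] [CommRing B] (φ : A →+* B)
    (hφ : Function.Surjective φ) [hoi : IsOpenImmersion (Spec.map (CommRingCat.ofHom φ))] :
    ∃ e : A, φ e = 1 ∧ ∀ a, φ a = 0 → a * e = 0 := by
  have hrange : Set.range (Spec.map (CommRingCat.ofHom φ)) =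
      PrimeSpectrum.zeroLocus (RingHom.ker φ) :=
    range_comap_of_surjective _ φ hφ
  have hclopen : IsClopen (Set.range (Spec.map (CommRingCat.ofHom φ))) :=
    ⟨hrange ▸ PrimeSpectrum.isClosed_zeroLocus _,
      (Spec.map (CommRingCat.ofHom φ)).isOpenEmbedding.isOpen_range⟩
  obtain ⟨e, he, hs⟩ := PrimeSpectrum.isClopen_iff.mp hclopen
  let g := Spec.map (CommRingCat.ofHom (algebraMap A (Localization.Away e)))
  have hg : Set.range g = Set.range (Spec.map (CommRingCat.ofHom φ)) := by
    rw [hs]; exact PrimeSpectrum.localization_away_comap_range _ e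
  let i := IsOpenImmersion.isoOfRangeEq (Spec.map (CommRingCat.ofHom φ)) g hg.symm
  have hi : i.hom ≫ g = Spec.map (CommRingCat.ofHom φ) :=
    IsOpenImmersion.isoOfRangeEq_hom_fac _ _ _
  obtain ⟨ψ, hψ⟩ := Spec.map_surjective i.hom
  obtain ⟨ψ', hψ'⟩ := Spec.map_surjective i.inv
  have hcomp : CommRingCat.ofHom (algebraMap A (Localization.Away e)) ≫ ψ = CommRingCat.ofHom φ := by
    apply Spec.map_injective
    rw [Spec.map_comp, hψ, hi]
  have hcomp' : ∀ a, ψ.hom (algebraMap A _ a) = φ a := fun a => by
    have := congrArg (fun h => h.hom a) hcomp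
    simpa using this
  have hinv : ψ ≫ ψ' = 𝟙 _ := by
    apply Spec.map_injective
    rw [Spec.map_comp, hψ, hψ', Iso.inv_hom_id, Spec.map_id]
  have hinj : Function.Injective ψ.hom := by
    intro x y hxy
    have h1 := congrArg (fun h => h.hom x) hinv
    have h2 := congrArg (fun h => h.hom y) hinv
    simp only [CommRingCat.hom_comp, RingHom.coe_comp, Function.comp_apply, CommRingCat.hom_id,
      RingHom.id_apply] at h1 h2
    rw [← h1, ← h2, hxy]
  have hunit : IsUnit (algebraMap A (Localization.Away e) e) :=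
    IsLocalization.Away.algebraMap_isUnit e
  have hone : algebraMap A (Localization.Away e) e = 1 := by
    have hidem : algebraMap A (Localization.Away e) e * algebraMap A (Localization.Away e) e =
        algebraMap A (Localization.Away e) e := by rw [← map_mul, he.eq]
    exact (hunit.mul_left_cancel (by rw [hidem, mul_one]))
  refine ⟨e, ?_, ?_⟩
  · rw [← hcomp', hone, map_one]
  · intro a ha
    have h0 : algebraMap A (Localization.Away e) a = 0 := by
      apply hinj
      rw [hcomp', ha, map_zero]
    rw [IsLocalization.map_eq_zero_iff (Submonoid.powers e)] at h0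
    obtain ⟨⟨_, n, rfl⟩, hn⟩ := h0
    simp only at hn
    rcases n with _ | n
    · rw [pow_zero, one_mul] at hn
      rw [hn, zero_mul]
    · rw [he.pow_succ_eq] at hn
      rw [mul_comm, hn]

theorem finite_of_isOpenImmersion_lmul (K R : Type u) [Field K] [CommRing R] [Algebra K R]
    [IsOpenImmersion (Spec.map (CommRingCat.ofHom
      (Algebra.TensorProduct.lmul' K : R ⊗[K] R →ₐ[K] R).toRingHom))] :
    Module.Finite K R := by
  have hsurj : Function.Surjective (Algebra.TensorProduct.lmul' K : R ⊗[K] R →ₐ[K] R).toRingHom :=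
    fun a => ⟨a ⊗ₜ 1, by simp⟩
  obtain ⟨e, he1, he2⟩ := exists_idem_of_isOpenImmersion _ hsurj
  refine finite_of_sepIdem K R e (fun a => ?_) he1
  have := he2 (a ⊗ₜ[K] (1 : R) - (1 : R) ⊗ₜ[K] a) (by simp)
  rw [sub_mul, sub_eq_zero] at this
  exact this

end Groth.Agent.Lead.DiagOpenFin
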