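import Mathlib
import Groth.Agent.Lead.DiagOpenFinB

/-! A scheme over a field whose diagonal is an open immersion is locally of finite presentation. -/

open TensorProduct AlgebraicGeometry CategoryTheory CategoryTheory.Limits

namespace Groth.Agent.Lead.DiagOpenFin
universe u

theorem specMap_lmul_eq (K R : Type u) [CommRing K] [CommRing R] [Algebra K R] :
    Spec.map (CommRingCat.ofHom (Algebra.TensorProduct.lmul' K : R ⊗[K] R →ₐ[K] R).toRingHom) =
      pullback.diagonal (Spec.map (CommRingCat.ofHom (algebraMap K R))) ≫
        (pullbackSpecIso K R R).hom := by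
  rw [← Iso.comp_inv_eq]
  apply pullback.hom_ext
  · rw [Category.assoc, pullbackSpecIso_inv_fst, pullback.diagonal_fst, ← Spec.map_comp]
    rw [← Spec.map_id]
    congr 1
    ext a
    simp
  · rw [Category.assoc, pullbackSpecIso_inv_snd, pullback.diagonal_snd, ← Spec.map_comp]
    rw [← Spec.map_id]
    congr 1
    ext a
    simp

theorem lfp_of_diagonal {X : Scheme.{u}} (K : Type u) [Field K] (f : X ⟶ Spec (CommRingCat.of K))
    [hd : IsOpenImmersion (pullback.diagonal f)] : LocallyOfFinitePresentation f := by
  rw [IsZariskiLocalAtSource.iff_of_openCover (P := @LocallyOfFinitePresentation)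
    X.affineOpenCover.openCover]
  intro i
  let j : Spec (X.affineOpenCover.X i) ⟶ X := X.affineOpenCover.f i
  change LocallyOfFinitePresentation (j ≫ f)
  have hdiag : IsOpenImmersion (pullback.diagonal (j ≫ f)) := by
    have h1 : (@IsOpenImmersion).diagonal f := hd
    have h2 : (@IsOpenImmersion).diagonal j := by
      rw [MorphismProperty.diagonal_iff]; infer_instance
    exact MorphismProperty.comp_mem _ j f h2 h1
  obtain ⟨ψ, hψ⟩ := Spec.map_surjective (j ≫ f)
  rw [← hψ] at hdiag ⊢
  rw [HasRingHomProperty.Spec_iff (P := @LocallyOfFinitePresentation)]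
  algebraize [ψ.hom]
  have hψ' : ψ = CommRingCat.ofHom (algebraMap K (X.affineOpenCover.X i)) := rfl
  rw [hψ'] at hdiag
  have : IsOpenImmersion (Spec.map (CommRingCat.ofHom (Algebra.TensorProduct.lmul' K :
      (X.affineOpenCover.X i) ⊗[K] (X.affineOpenCover.X i) →ₐ[K] (X.affineOpenCover.X i)).toRingHom)) := by
    rw [specMap_lmul_eq]; infer_instance
  have hfin : Module.Finite K (X.affineOpenCover.X i) := finite_of_isOpenImmersion_lmul K _
  have hft : ψ.hom.FiniteType := by
    rw [RingHom.FiniteType]
    infer_instance
  exact RingHom.FinitePresentation.of_finiteType.mp hft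

end Groth.Agent.Lead.DiagOpenFin
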