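import Mathlib
import Groth.Agent.Lead.SecRegB
import Groth.Prelude.Def_Mor2
import Groth.Prelude.Def_BlowUp2

/-!
# Sections of smooth morphisms: regular closed immersions, relative effective Cartier divisors
-/

set_option autoImplicit false

namespace Groth.Agent.Lead.SecRegC

open AlgebraicGeometry CategoryTheory

universe u

variable {X S : Scheme.{u}} (f : X ⟶ S) (σ : S ⟶ X)

theorem exists_relDim {R T : Type u} [CommRing R] [CommRing T] {φ : R →+* T}
    (h : φ.IsStandardSmooth) : ∃ n, φ.IsStandardSmoothOfRelativeDimension n := by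
  letI := φ.toAlgebra
  obtain ⟨_, _, _, _, ⟨P⟩⟩ := h
  exact ⟨_, ⟨_, _, _, ‹_›, P, rfl⟩⟩

theorem main_reg [Smooth f] [IsClosedImmersion σ] (hσ : σ ≫ f = 𝟙 S) :
    Mor2.IsRegularClosedImmersion σ := by
  refine ⟨inferInstance, fun z => ?_⟩
  obtain ⟨U₀, hU₀, V₀, hV₀, hx, e₀, hss⟩ := Smooth.exists_isStandardSmooth f (σ z)
  obtain ⟨n, hn⟩ := exists_relDim hss
  obtain ⟨W, hzW, rs, -, hreg, hI⟩ := SecRegB.exists_chart f σ hσ z n hU₀ hV₀ hx e₀ hn
  exact ⟨W.1, W.2, hzW, rs, hreg, hI⟩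

theorem main_cartier [IsSeparated f] [SmoothOfRelativeDimension 1 f] (hσ : σ ≫ f = 𝟙 S) :
    BlowUp.IsEffCartierIdeal σ.ker ∧ Flat (σ.ker.subschemeι ≫ f) := by
  haveI : IsClosedImmersion (σ ≫ f) := by rw [hσ]; infer_instance
  haveI : IsClosedImmersion σ := IsClosedImmersion.of_comp σ f
  constructor
  · intro x
    by_cases hx : x ∈ Set.range σ
    · obtain ⟨z, rfl⟩ := hx
      obtain ⟨U₀, hU₀, V₀, hV₀, hx, e₀, hss⟩ :=
        SmoothOfRelativeDimension.exists_isStandardSmoothOfRelativeDimension (n := 1) (f := f) (σ z)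
      obtain ⟨W, hzW, rs, hlen, hreg, hI⟩ := SecRegB.exists_chart f σ hσ z 1 hU₀ hV₀ hx e₀ hss
      obtain ⟨r, rfl⟩ : ∃ r, rs = [r] := List.length_eq_one_iff.1 hlen
      refine ⟨W, hzW, r, ?_, ?_⟩
      · have h1 := hreg.1
        rw [RingTheory.Sequence.isWeaklyRegular_cons_iff] at h1
        exact SecRegB.nzd_of_isSMulRegular h1.1
      · rw [hI, Ideal.ofList_singleton]
    · have hcl : IsClosed (Set.range σ) := σ.isClosedEmbedding.isClosed_range
      obtain ⟨_, ⟨W, hW, rfl⟩, hxW, hWs⟩ :=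
        X.isBasis_affineOpens.exists_subset_of_mem_open hx hcl.isOpen_compl
      refine ⟨⟨W, hW⟩, hxW, 1, one_mem _, ?_⟩
      rw [Ideal.span_singleton_one, Scheme.Hom.ker_apply, eq_top_iff]
      intro b _
      rw [RingHom.mem_ker]
      have hbot : σ ⁻¹ᵁ W = ⊥ := by
        apply le_antisymm _ bot_le
        intro w hw
        exact (hWs hw ⟨w, rfl⟩).elim
      have : Subsingleton Γ(S, σ ⁻¹ᵁ W) := by
        rw [hbot]; infer_instance
      exact Subsingleton.elim _ _
  · have h1 : σ.toImage ≫ σ.imageι = σ := σ.toImage_imageι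
    have h2 : σ.ker.subschemeι ≫ f = inv σ.toImage := by
      rw [← cancel_epi σ.toImage, IsIso.hom_inv_id]
      have : σ.toImage ≫ σ.ker.subschemeι ≫ f = (σ.toImage ≫ σ.imageι) ≫ f := by
        rw [Category.assoc]
      rw [this, h1, hσ]
    rw [h2]
    infer_instance

end Groth.Agent.Lead.SecRegC
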