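import Mathlib
import Groth.Agent.Lead.SecRegC
import Groth.Agent.Helper5.SmRelDim1
import Groth.Agent.Helper3.FibIrr1
import Groth.Prelude.Def_RegImm

/-!
# The diagonal of a smooth variety is a regular immersion of codimension `dim X`
-/

set_option autoImplicit false

namespace Groth.Agent.Lead.DiagReg

open AlgebraicGeometry CategoryTheory Limits

universe u

/-- a chart of relative dimension `m` makes the restricted morphism smooth of relative
dimension `m` -/
theorem smoothOfRelDim_resLE {X Y : Scheme.{u}} (f : X ⟶ Y) {U : Y.Opens} (hU : IsAffineOpen U)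
    {V : X.Opens} (hV : IsAffineOpen V) (e : V ≤ f ⁻¹ᵁ U) (m : ℕ)
    (h : (f.appLE U V e).hom.IsStandardSmoothOfRelativeDimension m) :
    SmoothOfRelativeDimension m (V.ι ≫ f) := by
  haveI : IsAffine ↑V := hV
  haveI : IsAffine ↑U := hU
  have h1 : SmoothOfRelativeDimension m (f.resLE U V e) := by
    rw [HasRingHomProperty.iff_of_isAffine (P := @SmoothOfRelativeDimension m)]
    have hR : RingHom.RespectsIso (@RingHom.IsStandardSmoothOfRelativeDimension m) :=
      RingHom.isStandardSmoothOfRelativeDimension_respectsIso (n := m)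
    apply RingHom.locally_of hR
    have key : (f.resLE U V e).appTop = U.topIso.hom ≫ f.appLE U V e ≫ V.topIso.inv :=
      Scheme.Hom.resLE_app_top f e
    rw [key, CommRingCat.hom_comp, hR.cancel_left_isIso, CommRingCat.hom_comp,
      hR.cancel_right_isIso]
    exact h
  rw [← Scheme.Hom.resLE_comp_ι f e]
  exact inferInstanceAs (SmoothOfRelativeDimension (m + 0) (f.resLE U V e ≫ U.ι))

theorem relDim_eq (K : Type u) [Field K] (X : Scheme.{u}) (f : X ⟶ Spec (CommRingCat.of K))
    [Smooth f] [IsIntegral X] (n : ℕ) (hn : topologicalKrullDim X = n) :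
    SmoothOfRelativeDimension n f := by
  constructor
  intro x
  obtain ⟨U₀, hU₀, V₀, hV₀, hx, e₀, hss⟩ := Smooth.exists_isStandardSmooth f x
  obtain ⟨m, hm⟩ := SecRegC.exists_relDim hss
  have hmn : m = n := by
    haveI := smoothOfRelDim_resLE f hU₀ hV₀ e₀ m hm
    have h1 : FlatMor.fibreDimAt (V₀.ι ≫ f) ⟨x, hx⟩ = m :=
      Groth.Agent.Helper5.SmRelDim.s2768 m (V₀.ι ≫ f) ⟨x, hx⟩
    rw [Groth.Agent.Helper5.SmRelDim.fibreDimAt_precomp] at h1
    have hpre : (f ⁻¹' {f x} : Set X) = Set.univ := by
      ext y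
      simp only [Set.mem_preimage, Set.mem_singleton_iff, Set.mem_univ, iff_true]
      exact Subsingleton.elim _ _
    have hirr : IsIrreducible (f ⁻¹' {f x} : Set X) := by
      rw [hpre]; exact IrreducibleSpace.isIrreducible_univ X
    have h2 := Groth.Agent.Helper3.FibIrr1.fibreDimAt_eq_of_irreducible f x hirr
    have h3 : topologicalKrullDim ↥(f ⁻¹' {f x} : Set X) = topologicalKrullDim X := by
      rw [hpre]
      exact IsHomeomorph.topologicalKrullDim_eq _ (Homeomorph.Set.univ X).isHomeomorph
    have h4 : (V₀.ι ⟨x, hx⟩ : X) = x := rfl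
    rw [h4, h2, h3, hn] at h1
    exact_mod_cast h1.symm
  subst hmn
  exact ⟨U₀, hU₀, V₀, hV₀, hx, e₀, hm⟩

theorem main (K : Type u) [Field K] (X : Scheme.{u}) (f : X ⟶ Spec (CommRingCat.of K))
    [Smooth f] [IsSeparated f] [IsIntegral X] (n : ℕ) (hn : topologicalKrullDim X = n) :
    RegImm.IsRegularImmersionOfCodim RegImm.Kind.regular n (pullback.diagonal f) := by
  haveI := relDim_eq K X f n hn
  haveI : SmoothOfRelativeDimension n (pullback.fst f f) := by
    haveI := smoothOfRelativeDimension_isStableUnderBaseChange n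
    exact MorphismProperty.pullback_fst f f ‹_›
  refine ⟨inferInstance, fun z => ?_⟩
  obtain ⟨U₀, hU₀, V₀, hV₀, hx, e₀, hss⟩ :=
    SmoothOfRelativeDimension.exists_isStandardSmoothOfRelativeDimension (n := n)
      (f := pullback.fst f f) (pullback.diagonal f z)
  obtain ⟨W, hzW, rs, hlen, hreg, hI⟩ := SecRegB.exists_chart (pullback.fst f f)
    (pullback.diagonal f) (pullback.diagonal_fst f) z n hU₀ hV₀ hx e₀ hss
  refine ⟨W, hzW, inferInstance, rs, hlen, hreg, ?_⟩
  rw [← Scheme.Hom.ker_apply]
  exact hI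

end Groth.Agent.Lead.DiagReg
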