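import Mathlib
import Groth.Agent.Lead.FEtFF

set_option autoImplicit false
universe u
open CategoryTheory CategoryTheory.Limits AlgebraicGeometry TopologicalSpace Opposite

namespace Groth.Agent.Lead.FFGlue

section Glue

variable {Y Z S : Scheme.{u}} (f : Y ⟶ S) (g : Z ⟶ S) [IsAffineHom g] (W : Y.Opens)

/-- the piece of `W` over the affine open `V` of `S` -/
noncomputable abbrev pV (V : S.affineOpens) :
    pullback W.ι (pullback.fst f V.1.ι) ⟶ pullback f V.1.ι :=
  pullback.snd W.ι (pullback.fst f V.1.ι)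

variable (hW : ∀ V : S.affineOpens, IsIso (pV f W V).appTop) (c : (W : Scheme.{u}) ⟶ Z)
  (hc : c ≫ g = W.ι ≫ f)

instance isAffine_pullback_affineOpen (V : S.affineOpens) : IsAffine (pullback g V.1.ι) := by
  haveI : IsAffine (V.1 : Scheme.{u}) := V.2
  exact isAffine_of_isAffineHom (pullback.snd g V.1.ι)

include hc in
theorem cV_cond (V : S.affineOpens) :
    (pullback.fst W.ι (pullback.fst f V.1.ι) ≫ c) ≫ g =
      (pV f W V ≫ pullback.snd f V.1.ι) ≫ V.1.ι := by
  rw [Category.assoc, hc, ← Category.assoc, pullback.condition, Category.assoc, Category.assoc,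
    pullback.condition]

/-- the restriction of `c` over `V` -/
noncomputable def cV (V : S.affineOpens) :
    pullback W.ι (pullback.fst f V.1.ι) ⟶ pullback g V.1.ι :=
  pullback.lift (pullback.fst W.ι (pullback.fst f V.1.ι) ≫ c) (pV f W V ≫ pullback.snd f V.1.ι)
    (cV_cond f g W c hc V)

include hW in
theorem exists_aV (V : S.affineOpens) :
    ∃! a : pullback f V.1.ι ⟶ pullback g V.1.ι, pV f W V ≫ a = cV f g W c hc V := by
  haveI := hW V
  exact FEtFF.existsUnique_of_isIso_appTop (pV f W V) (cV f g W c hc V)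

/-- the extension over `V` -/
noncomputable def gV (V : S.affineOpens) : pullback f V.1.ι ⟶ Z :=
  (exists_aV f g W hW c hc V).exists.choose ≫ pullback.fst g V.1.ι

theorem pV_gV (V : S.affineOpens) :
    pV f W V ≫ gV f g W hW c hc V = pullback.fst W.ι (pullback.fst f V.1.ι) ≫ c := by
  have h1 := (exists_aV f g W hW c hc V).exists.choose_spec
  rw [gV, ← Category.assoc, h1, cV, pullback.lift_fst]

/-- characterization of `gV` -/
theorem eq_gV (V : S.affineOpens) (b : pullback f V.1.ι ⟶ Z)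
    (hb1 : b ≫ g = pullback.fst f V.1.ι ≫ f)
    (hb2 : pV f W V ≫ b = pullback.fst W.ι (pullback.fst f V.1.ι) ≫ c) :
    b = gV f g W hW c hc V := by
  let b' : pullback f V.1.ι ⟶ pullback g V.1.ι :=
    pullback.lift b (pullback.snd f V.1.ι) (by rw [hb1, pullback.condition])
  have hb' : pV f W V ≫ b' = cV f g W c hc V := by
    apply pullback.hom_ext
    · rw [Category.assoc, pullback.lift_fst, hb2, cV, pullback.lift_fst]
    · rw [Category.assoc, pullback.lift_snd, cV, pullback.lift_snd]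
  have h1 := (exists_aV f g W hW c hc V).unique hb'
    (exists_aV f g W hW c hc V).exists.choose_spec
  rw [gV, ← h1, pullback.lift_fst]

theorem gV_comp (V : S.affineOpens) :
    gV f g W hW c hc V ≫ g = pullback.fst f V.1.ι ≫ f := by
  haveI := hW V
  haveI : IsAffine (V.1 : Scheme.{u}) := V.2
  have h1 := (exists_aV f g W hW c hc V).exists.choose_spec
  -- the extension is a morphism over `V`
  have h2 : (exists_aV f g W hW c hc V).exists.choose ≫ pullback.snd g V.1.ι =
      pullback.snd f V.1.ι := by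
    apply (FEtFF.existsUnique_of_isIso_appTop (pV f W V)
      (pV f W V ≫ pullback.snd f V.1.ι)).unique
    · rw [← Category.assoc, h1, cV, pullback.lift_snd]
    · rfl
  rw [gV, Category.assoc, pullback.condition, ← Category.assoc, h2, pullback.condition]

/-- the cover of `Y` by the preimages of affine opens of `S` -/
noncomputable abbrev cov : Y.OpenCover := S.directedAffineCover.pullback₁ f

/-- transition maps -/
noncomputable def tr {V V' : S.affineOpens} (hVV' : V ≤ V') :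
    pullback f V.1.ι ⟶ pullback f V'.1.ι :=
  pullback.map f V.1.ι f V'.1.ι (𝟙 _) (S.homOfLE hVV') (𝟙 _) (by simp) (by simp)

theorem tr_fst {V V' : S.affineOpens} (hVV' : V ≤ V') :
    tr f hVV' ≫ pullback.fst f V'.1.ι = pullback.fst f V.1.ι := by
  rw [tr, pullback.lift_fst, Category.comp_id]

theorem tr_gV {V V' : S.affineOpens} (hVV' : V ≤ V') :
    tr f hVV' ≫ gV f g W hW c hc V' = gV f g W hW c hc V := by
  apply eq_gV
  · rw [Category.assoc, gV_comp, ← Category.assoc, tr_fst]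
  · let q : pullback W.ι (pullback.fst f V.1.ι) ⟶ pullback W.ι (pullback.fst f V'.1.ι) :=
      pullback.lift (pullback.fst W.ι (pullback.fst f V.1.ι))
        (pV f W V ≫ tr f hVV')
        (by rw [Category.assoc, tr_fst]; exact pullback.condition)
    have hq1 : q ≫ pV f W V' = pV f W V ≫ tr f hVV' := pullback.lift_snd _ _ _
    have hq2 : q ≫ pullback.fst W.ι (pullback.fst f V'.1.ι) =
        pullback.fst W.ι (pullback.fst f V.1.ι) := pullback.lift_fst _ _ _
    rw [← Category.assoc, ← hq1, Category.assoc, pV_gV, ← Category.assoc, hq2]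

theorem trans_eq_tr {V V' : S.affineOpens} (hij : V ⟶ V') :
    Scheme.Cover.trans (cov f) hij = tr f (leOfHom hij) := by
  have hle : V ≤ V' := leOfHom hij
  have e : hij = homOfLE hle := Subsingleton.elim _ _
  subst e
  rfl

include hW hc in
/-- Morphisms to a scheme affine over `S`, defined on an open `W` whose pieces over affine opens
have the same global functions, extend uniquely. -/
theorem existsUnique_extension :
    ∃! a : Y ⟶ Z, a ≫ g = f ∧ W.ι ≫ a = c := by
  let a : Y ⟶ Z := Scheme.OpenCover.glueMorphismsOfLocallyDirected (cov f)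
    (fun V => gV f g W hW c hc V) (fun {V V'} hij => by
      have h1 := trans_eq_tr f hij
      have h2 := tr_gV f g W hW c hc (leOfHom hij)
      exact (congrArg (· ≫ gV f g W hW c hc V') h1).trans h2)
  have ha : ∀ V : S.affineOpens, pullback.fst f V.1.ι ≫ a = gV f g W hW c hc V := fun V =>
    Scheme.OpenCover.map_glueMorphismsOfLocallyDirected (cov f) _ _ V
  refine ⟨a, ⟨?_, ?_⟩, ?_⟩
  · apply (cov f).hom_ext
    intro V
    change pullback.fst f V.1.ι ≫ a ≫ g = pullback.fst f V.1.ι ≫ f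
    rw [← Category.assoc, ha, gV_comp]
  · apply ((cov f).pullback₁ W.ι).hom_ext
    intro V
    change pullback.fst W.ι (pullback.fst f V.1.ι) ≫ W.ι ≫ a =
      pullback.fst W.ι (pullback.fst f V.1.ι) ≫ c
    rw [← Category.assoc, pullback.condition, Category.assoc, ha]
    exact pV_gV f g W hW c hc V
  · rintro a' ⟨ha1, ha2⟩
    apply (cov f).hom_ext
    intro V
    change pullback.fst f V.1.ι ≫ a' = pullback.fst f V.1.ι ≫ a
    rw [ha]
    apply eq_gV
    · rw [Category.assoc, ha1]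
    · change pullback.snd W.ι (pullback.fst f V.1.ι) ≫ pullback.fst f V.1.ι ≫ a' = _
      rw [← Category.assoc, ← pullback.condition, Category.assoc, ha2]

end Glue

section Pieces

theorem isIso_appTop_of_bijective {W Y : Scheme.{u}} (p : W ⟶ Y) [IsOpenImmersion p]
    (hb : Function.Bijective (Y.presheaf.map (homOfLE (le_top : p.opensRange ≤ ⊤)).op)) :
    IsIso p.appTop := by
  have e2 : p.opensRange.ι ''ᵁ (p.opensRange.ι ⁻¹ᵁ ⊤) = p.opensRange := by
    rw [Scheme.Hom.image_preimage_eq_opensRange_inf, Scheme.Opens.opensRange_ι, inf_top_eq]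
  have h2 := (ExtFree.bij_congrO rfl e2 (p.opensRange.ι.image_preimage_le ⊤) le_top).mpr hb
  have h3 : p.opensRange.ι.appTop =
      Y.presheaf.map (homOfLE (p.opensRange.ι.image_preimage_le ⊤)).op :=
    Scheme.Opens.ι_app p.opensRange ⊤
  haveI : IsIso p.opensRange.ι.appTop := by
    rw [h3]
    exact (ConcreteCategory.isIso_iff_bijective _).mpr h2
  haveI : IsIso p.isoOpensRange.hom.appTop :=
    inferInstanceAs (IsIso (p.isoOpensRange.hom.app ⊤))
  have h4 : p.appTop = p.opensRange.ι.appTop ≫ p.isoOpensRange.hom.appTop := by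
    rw [← Scheme.Hom.comp_appTop, Scheme.Hom.isoOpensRange_hom_ι]
  rw [h4]
  exact IsIso.comp_isIso

variable {S : Scheme.{u}} (U : S.Opens)
  (h : ∀ V : S.Opens, Function.Bijective (S.presheaf.map (homOfLE (inf_le_left : V ⊓ U ≤ V)).op))

include h in
/-- the Hartogs property passes to open subschemes -/
theorem bij_opens (V : S.Opens) (V' : (V : Scheme.{u}).Opens) :
    Function.Bijective ((V : Scheme.{u}).presheaf.map
      (homOfLE (inf_le_left : V' ⊓ V.ι ⁻¹ᵁ U ≤ V')).op) := by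
  have e2 : V.ι ''ᵁ (V' ⊓ V.ι ⁻¹ᵁ U) = V.ι ''ᵁ V' ⊓ U := by
    ext x
    constructor
    · rintro ⟨v, ⟨hv1, hv2⟩, rfl⟩
      exact ⟨⟨v, hv1, rfl⟩, hv2⟩
    · rintro ⟨⟨v, hv1, rfl⟩, hxU⟩
      exact ⟨v, ⟨hv1, hxU⟩, rfl⟩
  have h1 := h (V.ι ''ᵁ V')
  have h2 := (ExtFree.bij_congrO rfl e2 (V.ι.image_mono inf_le_left) inf_le_left).mpr h1
  exact h2

include h in
theorem hW_of_finite_flat {Y : Scheme.{u}} (f : Y ⟶ S) [IsFinite f] [Flat f]
    [LocallyOfFinitePresentation f] (V : S.affineOpens) :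
    IsIso (pV f (f ⁻¹ᵁ U) V).appTop := by
  have hb := FEtFF.bijective_res_preimage (V.1.ι ⁻¹ᵁ U) (bij_opens U h V.1) (pullback.snd f V.1.ι)
  apply isIso_appTop_of_bijective
  have e : (pV f (f ⁻¹ᵁ U) V).opensRange = pullback.snd f V.1.ι ⁻¹ᵁ (V.1.ι ⁻¹ᵁ U) := by
    change (pullback.snd (f ⁻¹ᵁ U).ι (pullback.fst f V.1.ι)).opensRange = _
    rw [Scheme.Hom.opensRange_pullbackSnd, Scheme.Opens.opensRange_ι,
      ← Scheme.Hom.comp_preimage, ← Scheme.Hom.comp_preimage, pullback.condition]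
  exact (ExtFree.bij_congrO rfl e _ _).mpr hb

end Pieces

section Main

theorem restrict_map_left_fst {X : Scheme.{u}} (U : X.Opens) {Y Y' : FEt.Cat X} (ψ : Y ⟶ Y') :
    ((FEt.restrict U.ι).map ψ).left ≫ pullback.fst Y'.hom U.ι =
      pullback.fst Y.hom U.ι ≫ ψ.left := pullback.lift_fst _ _ _

theorem restrict_map_left_snd {X : Scheme.{u}} (U : X.Opens) {Y Y' : FEt.Cat X} (ψ : Y ⟶ Y') :
    ((FEt.restrict U.ι).map ψ).left ≫ pullback.snd Y'.hom U.ι =
      pullback.snd Y.hom U.ι := pullback.lift_snd _ _ _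

theorem lfp_of_lft {X S : Scheme.{u}} [IsLocallyNoetherian S] (f : X ⟶ S) [LocallyOfFiniteType f] :
    LocallyOfFinitePresentation f := by
  rw [HasRingHomProperty.iff_appLE (P := @LocallyOfFinitePresentation)]
  intro V W e
  haveI : IsNoetherianRing Γ(S, V.1) := IsLocallyNoetherian.component_noetherian V
  exact RingHom.FinitePresentation.of_finiteType.mp
    (HasRingHomProperty.appLE (P := @LocallyOfFiniteType) f inferInstance V W e)

/-- S19995 -/
theorem main_hom
    (S G₁ G₂ : Scheme.{u}) [AlgebraicGeometry.IsNoetherian S] (f₁ : G₁ ⟶ S) (f₂ : G₂ ⟶ S)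
    [AlgebraicGeometry.IsFinite f₁] [AlgebraicGeometry.Flat f₁]
    [AlgebraicGeometry.IsFinite f₂] [AlgebraicGeometry.Flat f₂]
    (U : S.Opens)
    (hU : ∀ s : S, s ∉ U → (2 : ℕ∞) ≤ LocCoh.depth (S.presheaf.stalk s) (S.presheaf.stalk s))
    (φU : ((f₁ ⁻¹ᵁ U : G₁.Opens) : Scheme.{u}) ⟶ ((f₂ ⁻¹ᵁ U : G₂.Opens) : Scheme.{u}))
    (hφU : φU ≫ (f₂ ⁻¹ᵁ U).ι ≫ f₂ = (f₁ ⁻¹ᵁ U).ι ≫ f₁) :
    ∃! φ : G₁ ⟶ G₂, φ ≫ f₂ = f₁ ∧ (f₁ ⁻¹ᵁ U).ι ≫ φ = φU ≫ (f₂ ⁻¹ᵁ U).ι := by
  haveI : LocallyOfFinitePresentation f₁ := lfp_of_lft f₁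
  have h := Hartogs2.bijective_res U hU
  exact existsUnique_extension f₁ f₂ (f₁ ⁻¹ᵁ U) (fun V => hW_of_finite_flat U h f₁ V)
    (φU ≫ (f₂ ⁻¹ᵁ U).ι) (by rw [Category.assoc]; exact hφU)

/-- S0259 -/
theorem main_fet {X : Scheme.{u}} [IsNoetherian X] (U : X.Opens)
    (h : ∀ x : X, x ∉ U → (2 : ℕ∞) ≤ LocCoh.depth (X.presheaf.stalk x) (X.presheaf.stalk x)) :
    (FEt.restrict U.ι).Full ∧ (FEt.restrict U.ι).Faithful := by
  have hb := Hartogs2.bijective_res U h
  constructor
  · refine ⟨fun {Y Y'} φ => ?_⟩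
    haveI : IsFinite Y.hom := Y.prop.1
    haveI : Etale Y.hom := Y.prop.2
    haveI : IsFinite Y'.hom := Y'.prop.1
    let φl : pullback Y.hom U.ι ⟶ pullback Y'.hom U.ι := φ.left
    let f : Y.left ⟶ X := Y.hom
    let f' : Y'.left ⟶ X := Y'.hom
    haveI : IsFinite f := Y.prop.1
    haveI : Etale f := Y.prop.2
    haveI : IsFinite f' := Y'.prop.1
    have hφ : φl ≫ pullback.snd f' U.ι = pullback.snd f U.ι := by
      have := MorphismProperty.Over.w φ
      exact this
    let e := pullbackRestrictIsoRestrict f U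
    have he : e.hom ≫ (f ⁻¹ᵁ U).ι = pullback.fst f U.ι := pullbackRestrictIsoRestrict_hom_ι f U
    let c : ((f ⁻¹ᵁ U : Y.left.Opens) : Scheme.{u}) ⟶ Y'.left := e.inv ≫ φl ≫ pullback.fst f' U.ι
    have hc : c ≫ f' = (f ⁻¹ᵁ U).ι ≫ f := by
      rw [← cancel_epi e.hom]
      calc e.hom ≫ c ≫ f' = (φl ≫ pullback.fst f' U.ι) ≫ f' := by
            simp only [c, Category.assoc, Iso.hom_inv_id_assoc]
        _ = φl ≫ (pullback.snd f' U.ι ≫ U.ι) := by rw [Category.assoc, pullback.condition]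
        _ = (φl ≫ pullback.snd f' U.ι) ≫ U.ι := (Category.assoc _ _ _).symm
        _ = pullback.snd f U.ι ≫ U.ι := congrArg (· ≫ U.ι) hφ
        _ = pullback.fst f U.ι ≫ f := pullback.condition.symm
        _ = e.hom ≫ (f ⁻¹ᵁ U).ι ≫ f := by rw [← he, Category.assoc]
    obtain ⟨a, ⟨ha1, ha2⟩, -⟩ := existsUnique_extension f f' (f ⁻¹ᵁ U)
      (fun V => hW_of_finite_flat U hb f V) c hc
    refine ⟨MorphismProperty.Over.homMk a ha1 trivial, ?_⟩
    ext : 1
    apply pullback.hom_ext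
    · refine (restrict_map_left_fst U _).trans ?_
      change pullback.fst f U.ι ≫ a = φl ≫ pullback.fst f' U.ι
      rw [← he, Category.assoc, ha2]
      simp only [c, Iso.hom_inv_id_assoc]
    · exact (restrict_map_left_snd U _).trans hφ.symm
  · refine ⟨fun {Y Y'} ψ₁ ψ₂ hψ => ?_⟩
    let f : Y.left ⟶ X := Y.hom
    let f' : Y'.left ⟶ X := Y'.hom
    haveI : IsFinite f := Y.prop.1
    haveI : Etale f := Y.prop.2
    haveI : IsFinite f' := Y'.prop.1
    have h1 : pullback.fst f U.ι ≫ ψ₁.left = pullback.fst f U.ι ≫ ψ₂.left := by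
      rw [← restrict_map_left_fst, ← restrict_map_left_fst, hψ]
    have he : (pullbackRestrictIsoRestrict f U).hom ≫ (f ⁻¹ᵁ U).ι = pullback.fst f U.ι :=
      pullbackRestrictIsoRestrict_hom_ι f U
    have h2 : (f ⁻¹ᵁ U).ι ≫ ψ₁.left = (f ⁻¹ᵁ U).ι ≫ ψ₂.left := by
      rw [← cancel_epi (pullbackRestrictIsoRestrict f U).hom, ← Category.assoc, ← Category.assoc,
        he]
      exact h1
    have hw1 : ψ₁.left ≫ f' = f := MorphismProperty.Over.w ψ₁
    have hw2 : ψ₂.left ≫ f' = f := MorphismProperty.Over.w ψ₂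
    obtain ⟨a, -, ha⟩ := existsUnique_extension f f' (f ⁻¹ᵁ U)
      (fun V => hW_of_finite_flat U hb f V) ((f ⁻¹ᵁ U).ι ≫ ψ₁.left)
      (by rw [Category.assoc, hw1])
    have e1 := ha ψ₁.left ⟨hw1, rfl⟩
    have e2 := ha ψ₂.left ⟨hw2, h2.symm⟩
    ext : 1
    rw [e1, e2]

end Main

end Groth.Agent.Lead.FFGlue
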