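import Mathlib
import Groth.Agent.Helper1.TraceEtale
import Groth.Agent.Helper4.FinLocFree6
import Groth.Agent.Helper4.FinLocFree2
import Groth.Agent.Lead.Hartogs2
import Groth.Agent.Lead.FFGlue

set_option autoImplicit false
universe u
open CategoryTheory CategoryTheory.Limits AlgebraicGeometry TopologicalSpace Opposite

namespace Groth.Agent.Lead.DiscPurity

open Groth.Agent.Helper4 Groth.Agent.Helper4.QcqsMod

section Algebra

theorem etale_iff_isUnit_discr {A B : Type u} [CommRing A] [CommRing B]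
    [Algebra A B] {ι : Type} [Fintype ι] [DecidableEq ι] (b : Module.Basis ι A B) :
    Algebra.Etale A B ↔ IsUnit (Algebra.discr A b) := by
  rw [Groth.Agent.Helper1.TraceEtale.etale_iff_exists_dualFamily b,
    Groth.Agent.Helper1.TraceEtale.exists_dualFamily_iff_isUnit_discr b]

/-- the discriminant of a basis becomes a unit in a localization over which the algebra is étale -/
theorem isUnit_map_discr {A B A' B' : Type u} [CommRing A] [CommRing B] [CommRing A'] [CommRing B']
    [Algebra A B] [Algebra A A'] [Algebra B B'] [Algebra A' B'] [Algebra A B']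
    [IsScalarTower A A' B'] [IsScalarTower A B B'] (g : A) [IsLocalization.Away g A']
    [IsLocalization.Away (algebraMap A B g) B'] [Algebra.Etale A' B']
    {n : ℕ} (b : Module.Basis (Fin n) A B) : IsUnit (algebraMap A A' (Algebra.discr A b)) := by
  haveI : IsLocalization (Algebra.algebraMapSubmonoid B (Submonoid.powers g)) B' := by
    rw [Algebra.algebraMapSubmonoid, Submonoid.map_powers]
    infer_instance
  rw [← Algebra.discr_localizationLocalization A (Submonoid.powers g) B' b]
  exact (etale_iff_isUnit_discr _).mp inferInstance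

end Algebra

section Geometry

variable {X Y : Scheme.{u}} (π : Y ⟶ X)

theorem etale_app_congr {W₁ W₂ : X.Opens} (h : W₁ = W₂) (h1 : (π.app W₁).hom.Etale) :
    (π.app W₂).hom.Etale := by
  subst h
  exact h1

/-- if `π` is étale over `U`, the ring maps over affine opens inside `U` are étale -/
theorem etale_app_of_le [IsAffineHom π] (U : X.Opens) [Etale (pullback.snd π U.ι)] {W' : X.Opens}
    (hW' : IsAffineOpen W') (hle : W' ≤ U) : (π.app W').hom.Etale := by
  haveI : Etale (π ∣_ U) := by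
    delta morphismRestrict
    infer_instance
  have e : U.ι ''ᵁ (U.ι ⁻¹ᵁ W') = W' := by
    rw [Scheme.Hom.image_preimage_eq_opensRange_inf, Scheme.Opens.opensRange_ι]
    exact inf_eq_right.mpr hle
  have haff : IsAffineOpen (U.ι ⁻¹ᵁ W') := by
    rw [← Scheme.Hom.isAffineOpen_iff_of_isOpenImmersion U.ι, e]
    exact hW'
  haveI : IsAffineHom (π ∣_ U) := IsZariskiLocalAtTarget.restrict (P := @IsAffineHom) ‹_› U
  have h := (FinLocFree6.affineHom_iff_app @Etale RingHom.Etale (π ∣_ U)).mp inferInstance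
    (U.ι ⁻¹ᵁ W') haff
  rw [morphismRestrict_app] at h
  have h2 := (RingHom.Etale.respectsIso.cancel_right_isIso _ _).mp h
  exact etale_app_congr π e h2

theorem etale_stable : RingHom.StableUnderCompositionWithLocalizationAwaySource RingHom.Etale := by
  intro R S T _ _ _ _ r _ f hf
  have h1 : (algebraMap R S).Etale := by
    rw [RingHom.etale_algebraMap]
    exact Algebra.Etale.of_isLocalizationAway r
  exact RingHom.Etale.stableUnderComposition _ _ h1 hf

/-- a finite flat morphism to a locally noetherian scheme which is étale over an open `U` whose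
complement consists of points of depth at least two is étale -/
theorem etale_of_flat [IsLocallyNoetherian X] (U : X.Opens)
    (hU : ∀ x : X, x ∉ U → (2 : ℕ∞) ≤ LocCoh.depth (X.presheaf.stalk x) (X.presheaf.stalk x))
    [IsFinite π] [Flat π] [Etale (pullback.snd π U.ι)] : Etale π := by
  haveI : LocallyOfFinitePresentation π := FFGlue.lfp_of_lft π
  let G := (Scheme.Modules.pushforward π).obj (Coh.structureModule Y)
  have hE : FlatMod.IsFinLocFree G := FinLocFree6.isFinLocFree_push_of_finite_flat_lfp π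
  haveI : (Coh.structureModule Y).IsQuasicoherent :=
    FinLocFree4.isQuasicoherent_of_isFinLocFree _ (FinLocFree6.isFinLocFree_unit (X := Y))
  haveI : G.IsQuasicoherent := QcohGlue.isQuasicoherent_pushforward π (Coh.structureModule Y)
  have hHart := Hartogs2.bijective_res U hU
  rw [HasRingHomProperty.iff_exists_appLE (P := @Etale) etale_stable]
  intro y
  obtain ⟨W, hW, n, hxW, ⟨b₀⟩⟩ := FinLocFree2.exists_affine_basis G hE (π y)
  refine ⟨⟨W, hW⟩, ⟨π ⁻¹ᵁ W, hW.preimage π⟩, hxW, le_rfl, ?_⟩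
  change (π.appLE W (π ⁻¹ᵁ W) le_rfl).hom.Etale
  rw [Scheme.Hom.appLE_eq_app]
  letI iAB : Algebra Γ(X, W) Γ(Y, π ⁻¹ᵁ W) := (π.app W).hom.toAlgebra
  let b : Module.Basis (Fin n) Γ(X, W) Γ(Y, π ⁻¹ᵁ W) := b₀.map (FinLocFree6.pushUnitEquiv π W)
  let d : Γ(X, W) := Algebra.discr Γ(X, W) b
  have hgerm : ∀ (z : X) (hz : z ∈ W ⊓ U), IsUnit (X.presheaf.germ W z hz.1 d) := by
    intro z hz
    obtain ⟨g, hgU, hzg⟩ := hW.exists_basicOpen_le (V := U) ⟨z, hz.2⟩ hz.1
    have hW' : IsAffineOpen (X.basicOpen g) := hW.basicOpen g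
    have hle : X.basicOpen g ≤ W := X.basicOpen_le g
    letI iAA' : Algebra Γ(X, W) Γ(X, X.basicOpen g) :=
      (X.presheaf.map (homOfLE hle).op).hom.toAlgebra
    haveI : IsLocalization.Away g Γ(X, X.basicOpen g) := hW.isLocalization_basicOpen g
    have hle' : π ⁻¹ᵁ (X.basicOpen g) ≤ π ⁻¹ᵁ W := fun _ h => hle h
    letI iBB' : Algebra Γ(Y, π ⁻¹ᵁ W) Γ(Y, π ⁻¹ᵁ (X.basicOpen g)) :=
      (Y.presheaf.map (homOfLE hle').op).hom.toAlgebra
    have e : π ⁻¹ᵁ (X.basicOpen g) = Y.basicOpen (π.app W g) := Scheme.preimage_basicOpen π g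
    haveI : IsLocalization.Away (algebraMap Γ(X, W) Γ(Y, π ⁻¹ᵁ W) g)
        Γ(Y, π ⁻¹ᵁ (X.basicOpen g)) :=
      (hW.preimage π).isLocalization_of_eq_basicOpen (π.app W g) (homOfLE hle') e
    letI iA'B' : Algebra Γ(X, X.basicOpen g) Γ(Y, π ⁻¹ᵁ (X.basicOpen g)) :=
      (π.app (X.basicOpen g)).hom.toAlgebra
    letI iAB' : Algebra Γ(X, W) Γ(Y, π ⁻¹ᵁ (X.basicOpen g)) :=
      ((π.app (X.basicOpen g)).hom.comp (X.presheaf.map (homOfLE hle).op).hom).toAlgebra
    haveI : IsScalarTower Γ(X, W) Γ(X, X.basicOpen g) Γ(Y, π ⁻¹ᵁ (X.basicOpen g)) :=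
      IsScalarTower.of_algebraMap_eq (fun _ => rfl)
    haveI : IsScalarTower Γ(X, W) Γ(Y, π ⁻¹ᵁ W) Γ(Y, π ⁻¹ᵁ (X.basicOpen g)) :=
      IsScalarTower.of_algebraMap_eq (fun a => by
        have := π.naturality (homOfLE hle).op
        exact congrArg (fun φ => φ.hom a) this)
    haveI : Algebra.Etale Γ(X, X.basicOpen g) Γ(Y, π ⁻¹ᵁ (X.basicOpen g)) :=
      RingHom.etale_algebraMap.mp (etale_app_of_le π U hW' hgU)
    have h1 : IsUnit (algebraMap Γ(X, W) Γ(X, X.basicOpen g) d) :=
      isUnit_map_discr (A' := Γ(X, X.basicOpen g)) (B' := Γ(Y, π ⁻¹ᵁ (X.basicOpen g))) g b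
    have h2 := h1.map (X.presheaf.germ (X.basicOpen g) z hzg).hom
    have h3 := germ_resO hle z hzg d
    rw [← h3]
    exact h2
  have hunit' : IsUnit (X.presheaf.map (homOfLE (inf_le_left : W ⊓ U ≤ W)).op d) := by
    apply X.toRingedSpace.isUnit_of_isUnit_germ (W ⊓ U)
    intro z hz
    have e := germ_resO (inf_le_left : W ⊓ U ≤ W) z hz d
    have hu := hgerm z hz
    rw [← e] at hu
    exact hu
  have hd : IsUnit d := by
    obtain ⟨e', he'⟩ := hunit'.exists_right_inv
    obtain ⟨e0, rfl⟩ := (hHart W).2 e'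
    rw [← map_mul] at he'
    have h1 : d * e0 = 1 := by
      apply (hHart W).1
      rw [he', map_one]
    exact IsUnit.of_mul_eq_one _ h1
  have hEt : Algebra.Etale Γ(X, W) Γ(Y, π ⁻¹ᵁ W) := (etale_iff_isUnit_discr b).mpr hd
  exact RingHom.etale_algebraMap.mpr hEt

end Geometry

end Groth.Agent.Lead.DiscPurity
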