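import Mathlib

set_option autoImplicit false
universe u
open TensorProduct KaehlerDifferential

namespace Groth.Agent.Lead.DomSepA

section Alg
variable (R A B L : Type u) [CommRing R] [CommRing A] [CommRing B] [CommRing L]
  [Algebra R A] [Algebra R B] [Algebra A B] [IsScalarTower R A B]
  [Algebra R L] [Algebra A L] [Algebra B L] [IsScalarTower R A L] [IsScalarTower R B L]
  [IsScalarTower A B L]

/-- compatibility of the two base change maps -/
theorem map_mapBaseChange (x : B ⊗[A] Ω[A⁄R]) :
    KaehlerDifferential.map R R B L (mapBaseChange R A B x) =
      mapBaseChange R A L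
        (LinearMap.rTensor Ω[A⁄R] (IsScalarTower.toAlgHom A B L).toLinearMap x) := by
  induction x with
  | zero => simp
  | add x y hx hy => rw [map_add, map_add, hx, hy, map_add, map_add]
  | tmul b ω =>
    rw [mapBaseChange_tmul, LinearMap.rTensor_tmul, mapBaseChange_tmul]
    change KaehlerDifferential.map R R B L (b • KaehlerDifferential.map R R A B ω) =
      (algebraMap B L b) • KaehlerDifferential.map R R A L ω
    rw [map_smul, algebraMap_smul]
    congr 1
    have hω : ω ∈ Submodule.span A (Set.range (D R A)) := by
      rw [KaehlerDifferential.span_range_derivation]; trivial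
    induction hω using Submodule.span_induction with
    | mem y hy =>
      obtain ⟨a, rfl⟩ := hy
      rw [map_D, map_D, map_D, ← IsScalarTower.algebraMap_apply]
    | zero => simp
    | add y z _ _ hy hz => rw [map_add, map_add, hy, hz, map_add]
    | smul a y _ hy =>
      rw [map_smul, ← algebraMap_smul B a, map_smul, hy, map_smul, algebraMap_smul]

theorem mapBaseChange_injective [Algebra.FormallyEtale A L] [Module.Flat A Ω[A⁄R]]
    (hinj : Function.Injective (algebraMap B L)) :
    Function.Injective (mapBaseChange R A B) := by
  rw [injective_iff_map_eq_zero]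
  intro x hx
  have h1 := map_mapBaseChange R A B L x
  rw [hx, map_zero] at h1
  have h2 : LinearMap.rTensor Ω[A⁄R] (IsScalarTower.toAlgHom A B L).toLinearMap x = 0 := by
    apply (tensorKaehlerEquivOfFormallyEtale R A L).injective
    rw [tensorKaehlerEquivOfFormallyEtale_apply, ← h1, map_zero]
  have h3 : Function.Injective
      (LinearMap.rTensor Ω[A⁄R] (IsScalarTower.toAlgHom A B L).toLinearMap) :=
    Module.Flat.rTensor_preserves_injective_linearMap _ hinj
  exact h3 (h2.trans (map_zero _).symm)

end Alg

end Groth.Agent.Lead.DomSepA
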