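import Mathlib
import Groth.Agent.Lead.DomSepA
import Groth.Agent.Lead.BCMap5
import Groth.Agent.Lead.OmegaLocC
import Groth.Agent.Lead.OmegaLocB
import Groth.Agent.Lead.StalkPull
import Groth.Agent.Helper4.QcohLocal

set_option autoImplicit false
set_option linter.style.haveILetI false
universe u
open CategoryTheory CategoryTheory.Limits AlgebraicGeometry TopologicalSpace Opposite TensorProduct

namespace Groth.Agent.Lead.DomSepB
open Scheme.Modules OmegaSh Groth.Agent.Helper4

theorem formallyEtale_evaluation_generic {Y : Scheme.{u}} [IsIntegral Y] {V : Y.Opens}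
    (hV : IsAffineOpen V) (y : Y) (hy : y = genericPoint Y) (hyV : y ∈ V) :
    letI := (Y.evaluation V y hyV).hom.toAlgebra
    Algebra.FormallyEtale Γ(Y, V) (Y.residueField y) := by
  subst hy
  letI := (Y.evaluation V (genericPoint Y) hyV).hom.toAlgebra
  letI algS := Y.presheaf.algebra_section_stalk ⟨genericPoint Y, hyV⟩
  haveI := hV.isLocalization_stalk ⟨genericPoint Y, hyV⟩
  haveI : Algebra.FormallyEtale Γ(Y, V) (Y.presheaf.stalk (genericPoint Y)) :=
    Algebra.FormallyEtale.of_isLocalization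
      (hV.primeIdealOf ⟨genericPoint Y, hyV⟩).asIdeal.primeCompl
  have hbij : Function.Bijective (Y.residue (genericPoint Y)).hom := by
    refine ⟨?_, Y.residue_surjective _⟩
    rw [injective_iff_map_eq_zero]
    intro a ha
    have h1 : a ∈ IsLocalRing.maximalIdeal (Y.presheaf.stalk (genericPoint Y)) := by
      rw [← IsLocalRing.ker_residue]
      exact ha
    have h2 : IsLocalRing.maximalIdeal (Y.presheaf.stalk (genericPoint Y)) = ⊥ :=
      IsLocalRing.isField_iff_maximalIdeal_eq.mp
        (Field.toIsField (Y.functionField))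
    rw [h2] at h1
    exact h1
  let e : Y.presheaf.stalk (genericPoint Y) ≃ₐ[Γ(Y, V)] Y.residueField (genericPoint Y) :=
    AlgEquiv.ofBijective ⟨(Y.residue (genericPoint Y)).hom, fun a => rfl⟩ hbij
  exact Algebra.FormallyEtale.of_equiv e

theorem evaluation_injective {X : Scheme.{u}} [IsIntegral X] {U : X.Opens}
    (hξ : genericPoint X ∈ U) :
    Function.Injective (X.evaluation U (genericPoint X) hξ) := by
  rw [injective_iff_map_eq_zero]
  intro b hb
  rw [Scheme.evaluation_eq_zero_iff_notMem_basicOpen] at hb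
  rw [← AlgebraicGeometry.basicOpen_eq_bot_iff]
  by_contra hne
  apply hb
  have hne' : ((X.basicOpen b : X.Opens) : Set X).Nonempty := by
    rw [Set.nonempty_iff_ne_empty]
    intro h
    apply hne
    ext1
    exact h
  rw [← SetLike.mem_coe, (genericPoint_spec X).mem_open_set_iff (X.basicOpen b).isOpen]
  simpa using hne'


section Main
variable (k : Type u) [Field k] {X Y : Scheme.{u}}
  (pX : X ⟶ Spec (CommRingCat.of k)) (pY : Y ⟶ Spec (CommRingCat.of k)) (φ : X ⟶ Y)
  (w : φ ≫ pY = pX) [IsIntegral X] [IsIntegral Y] [Smooth pX] [Smooth pY]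

include w in
theorem app_injective (hdom : DenseRange φ.base)
    (hsep : letI := (φ.residueFieldMap (genericPoint X)).hom.toAlgebra
      Algebra.IsSeparable (Y.residueField (φ.base (genericPoint X)))
        (X.residueField (genericPoint X)))
    (ΩY : Y.Modules) (dY : OmegaSh.Der pY ΩY) (hY : OmegaSh.IsUniversal dY)
    (ΩX : X.Modules) (dX : OmegaSh.Der pX ΩX) (hX : OmegaSh.IsUniversal dX)
    (c : (Scheme.Modules.pullback φ).obj ΩY ⟶ ΩX) (hc : OmegaSh.IsDiffCompat φ dY dX c)
    {V : Y.Opens} (hV : IsAffineOpen V) {U : X.Opens} (hU : IsAffineOpen U)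
    (e : U ≤ φ ⁻¹ᵁ V) (hne : (U : Set X).Nonempty) :
    Function.Injective (c.app U) := by
  haveI : IsDominant φ := ⟨hdom⟩
  subst w
  -- generic points
  have hξU : genericPoint X ∈ U := by
    rw [← SetLike.mem_coe, (genericPoint_spec X).mem_open_set_iff U.isOpen]
    simpa using hne
  have hξV : φ (genericPoint X) ∈ V := e hξU
  have hgen : φ (genericPoint X) = genericPoint Y := StalkPull.map_genericPoint φ
  -- algebras
  let T : (Spec (CommRingCat.of k)).Opens := ⊤
  have hT : IsAffineOpen T := isAffineOpen_top _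
  have eY : V ≤ pY ⁻¹ᵁ T := le_top
  have eX : U ≤ (φ ≫ pY) ⁻¹ᵁ T := le_top
  letI algRA := (pY.appLE T V eY).hom.toAlgebra
  letI algRB := ((φ ≫ pY).appLE T U eX).hom.toAlgebra
  letI algAB := (φ.appLE V U e).hom.toAlgebra
  haveI towRAB : IsScalarTower Γ(Spec (CommRingCat.of k), T) Γ(Y, V) Γ(X, U) :=
    IsScalarTower.of_algebraMap_eq' (by
      change ((φ ≫ pY).appLE T U eX).hom = (φ.appLE V U e).hom.comp (pY.appLE T V eY).hom
      rw [← CommRingCat.hom_comp, Scheme.Hom.appLE_comp_appLE])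
  -- fields
  letI algKL := (φ.residueFieldMap (genericPoint X)).hom.toAlgebra
  letI algBL := (X.evaluation U (genericPoint X) hξU).hom.toAlgebra
  letI algAK := (Y.evaluation V (φ (genericPoint X)) hξV).hom.toAlgebra
  letI algAL := (φ.appLE V U e ≫ X.evaluation U (genericPoint X) hξU).hom.toAlgebra
  letI algRL := ((φ ≫ pY).appLE T U eX ≫ X.evaluation U (genericPoint X) hξU).hom.toAlgebra
  haveI towABL : IsScalarTower Γ(Y, V) Γ(X, U) (X.residueField (genericPoint X)) :=
    IsScalarTower.of_algebraMap_eq' rfl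
  haveI towRBL : IsScalarTower Γ(Spec (CommRingCat.of k), T) Γ(X, U)
      (X.residueField (genericPoint X)) :=
    IsScalarTower.of_algebraMap_eq' rfl
  haveI towRAL : IsScalarTower Γ(Spec (CommRingCat.of k), T) Γ(Y, V)
      (X.residueField (genericPoint X)) :=
    IsScalarTower.of_algebraMap_eq' (by
      change ((φ ≫ pY).appLE T U eX ≫ X.evaluation U (genericPoint X) hξU).hom =
        (φ.appLE V U e ≫ X.evaluation U (genericPoint X) hξU).hom.comp (pY.appLE T V eY).hom
      rw [← CommRingCat.hom_comp, ← Category.assoc, Scheme.Hom.appLE_comp_appLE])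
  haveI towAKL : IsScalarTower Γ(Y, V) (Y.residueField (φ (genericPoint X)))
      (X.residueField (genericPoint X)) :=
    IsScalarTower.of_algebraMap_eq' (by
      change (φ.appLE V U e ≫ X.evaluation U (genericPoint X) hξU).hom =
        (φ.residueFieldMap (genericPoint X)).hom.comp
          (Y.evaluation V (φ (genericPoint X)) hξV).hom
      rw [← CommRingCat.hom_comp, Scheme.evaluation_naturality]
      congr 1
      rw [Scheme.Hom.appLE, Category.assoc]
      congr 1
      rw [← Scheme.germ_residue, ← Scheme.germ_residue, ← Category.assoc,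
        TopCat.Presheaf.germ_res])
  haveI feAK : Algebra.FormallyEtale Γ(Y, V) (Y.residueField (φ (genericPoint X))) :=
    formallyEtale_evaluation_generic hV _ hgen hξV
  haveI feKL : Algebra.FormallyEtale (Y.residueField (φ (genericPoint X)))
      (X.residueField (genericPoint X)) :=
    Algebra.FormallyEtale.of_isSeparable _ _
  haveI feAL : Algebra.FormallyEtale Γ(Y, V) (X.residueField (genericPoint X)) :=
    Algebra.FormallyEtale.comp Γ(Y, V) (Y.residueField (φ (genericPoint X)))
      (X.residueField (genericPoint X))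
  -- smoothness
  have hsm : (pY.appLE T V eY).hom.Smooth :=
    HasRingHomProperty.appLE (P := @Smooth) pY inferInstance ⟨T, hT⟩ ⟨V, hV⟩ eY
  haveI : Algebra.Smooth Γ(Spec (CommRingCat.of k), T) Γ(Y, V) := hsm
  haveI : Module.Flat Γ(Y, V) Ω[Γ(Y, V)⁄Γ(Spec (CommRingCat.of k), T)] := inferInstance
  have hinjKD := DomSepA.mapBaseChange_injective Γ(Spec (CommRingCat.of k), T) Γ(Y, V) Γ(X, U)
    (X.residueField (genericPoint X)) (evaluation_injective hξU)
  -- dictionary
  obtain ⟨εY, hεY⟩ := OmegaLocC.exists_sectionsEquiv pY dY hY hV hT eY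
  obtain ⟨εX, hεX⟩ := OmegaLocC.exists_sectionsEquiv (φ ≫ pY) dX hX hU hT eX
  letI modA : Module Γ(Y, V) Γ((Scheme.Modules.pullback φ).obj ΩY, U) :=
    Module.compHom _ (φ.appLE V U e).hom
  haveI : IsScalarTower Γ(Y, V) Γ(X, U) Γ((Scheme.Modules.pullback φ).obj ΩY, U) :=
    IsScalarTower.of_compHom _ _ _
  haveI qY : ΩY.IsQuasicoherent := OmegaLocB.isQuasicoherent_of_isUniversal pY dY hY
  obtain ⟨ρ, hρ, hbc⟩ := BCMap.exists_isBaseChange_pbSec φ ΩY hV hU e
  -- key: c ∘ ρ on d s
  have key : ∀ s : Γ(Y, V), c.app U (ρ (dY.app V s)) = dX.app U (φ.appLE V U e s) := by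
    intro s
    rw [hρ, BCMap.pbSec_apply]
    have h1 := StalkExact.app_res c (homOfLE e)
      (((pullbackPushforwardAdjunction φ).unit.app ΩY).app V (dY.app V s))
    refine h1.trans ?_
    refine (congrArg (fun z => ΩX.presheaf.map (homOfLE e).op z) (hc V s)).trans ?_
    exact (dX.d_map (homOfLE e).op (φ.app V s)).symm
  -- the composite
  let cU : Γ((Scheme.Modules.pullback φ).obj ΩY, U) →ₗ[Γ(X, U)] Γ(ΩX, U) :=
    { toFun := fun m => c.app U m
      map_add' := fun a b => _root_.map_add _ a b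
      map_smul' := fun r x => Hom.app_smul c r x }
  let E : Γ(X, U) ⊗[Γ(Y, V)] Ω[Γ(Y, V)⁄Γ(Spec (CommRingCat.of k), T)] ≃ₗ[Γ(X, U)]
      Γ((Scheme.Modules.pullback φ).obj ΩY, U) :=
    (TensorProduct.AlgebraTensorModule.congr (LinearEquiv.refl Γ(X, U) Γ(X, U)) εY.symm).trans
      hbc.equiv
  have hone : ∀ ω : Ω[Γ(Y, V)⁄Γ(Spec (CommRingCat.of k), T)],
      εX (cU (E ((1 : Γ(X, U)) ⊗ₜ[Γ(Y, V)] ω))) =
      KaehlerDifferential.mapBaseChange Γ(Spec (CommRingCat.of k), T) Γ(Y, V) Γ(X, U)
        ((1 : Γ(X, U)) ⊗ₜ[Γ(Y, V)] ω) := by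
    intro ω
    have hω : ω ∈ Submodule.span Γ(Y, V)
        (Set.range (KaehlerDifferential.D Γ(Spec (CommRingCat.of k), T) Γ(Y, V))) := by
      rw [KaehlerDifferential.span_range_derivation]; trivial
    induction hω using Submodule.span_induction with
    | mem y hy =>
      obtain ⟨s, rfl⟩ := hy
      have h1 : E ((1 : Γ(X, U)) ⊗ₜ[Γ(Y, V)]
          (KaehlerDifferential.D Γ(Spec (CommRingCat.of k), T) Γ(Y, V) s)) =
          ρ (dY.app V s) := by
        change hbc.equiv ((1 : Γ(X, U)) ⊗ₜ[Γ(Y, V)] (εY.symm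
          (KaehlerDifferential.D Γ(Spec (CommRingCat.of k), T) Γ(Y, V) s))) = _
        rw [IsBaseChange.equiv_tmul, one_smul, ← hεY, LinearEquiv.symm_apply_apply]
      rw [h1]
      change εX (c.app U (ρ (dY.app V s))) = _
      rw [key, hεX, KaehlerDifferential.mapBaseChange_tmul, one_smul,
        KaehlerDifferential.map_D]
      rfl
    | zero => simp
    | add y z _ _ hy hz =>
      rw [TensorProduct.tmul_add, _root_.map_add, _root_.map_add, _root_.map_add, hy, hz,
        _root_.map_add]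
    | smul a y _ hy =>
      rw [TensorProduct.tmul_smul, ← algebraMap_smul Γ(X, U) a, _root_.map_smul,
        _root_.map_smul, _root_.map_smul, hy, _root_.map_smul]
  have hΦ : ∀ t, εX (cU (E t)) =
      KaehlerDifferential.mapBaseChange Γ(Spec (CommRingCat.of k), T) Γ(Y, V) Γ(X, U) t := by
    intro t
    induction t with
    | zero => simp
    | add x y hx hy =>
      rw [_root_.map_add, _root_.map_add, _root_.map_add, hx, hy, _root_.map_add]
    | tmul b ω =>
      have hb : (b ⊗ₜ[Γ(Y, V)] ω : Γ(X, U) ⊗[Γ(Y, V)] Ω[Γ(Y, V)⁄Γ(Spec (CommRingCat.of k), T)]) =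
          b • ((1 : Γ(X, U)) ⊗ₜ[Γ(Y, V)] ω) := by
        rw [TensorProduct.smul_tmul', smul_eq_mul, mul_one]
      rw [hb, _root_.map_smul, _root_.map_smul, _root_.map_smul, _root_.map_smul, hone]
  have hinj : Function.Injective cU := by
    intro m₁ m₂ h
    obtain ⟨t₁, rfl⟩ := E.surjective m₁
    obtain ⟨t₂, rfl⟩ := E.surjective m₂
    have h' := congrArg εX h
    rw [hΦ, hΦ] at h'
    rw [hinjKD h']
  exact hinj

include w in
/-- S13458 -/
theorem main (hdom : DenseRange φ.base)
    (hsep : letI := (φ.residueFieldMap (genericPoint X)).hom.toAlgebra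
      Algebra.IsSeparable (Y.residueField (φ.base (genericPoint X)))
        (X.residueField (genericPoint X)))
    (ΩY : Y.Modules) (dY : OmegaSh.Der pY ΩY) (hY : OmegaSh.IsUniversal dY)
    (ΩX : X.Modules) (dX : OmegaSh.Der pX ΩX) (hX : OmegaSh.IsUniversal dX)
    (c : (Scheme.Modules.pullback φ).obj ΩY ⟶ ΩX) (hc : OmegaSh.IsDiffCompat φ dY dX c) :
    Mono c := by
  haveI qY : ΩY.IsQuasicoherent := OmegaLocB.isQuasicoherent_of_isUniversal pY dY hY
  haveI qX : ΩX.IsQuasicoherent := OmegaLocB.isQuasicoherent_of_isUniversal pX dX hX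
  haveI := StalkPull.isQuasicoherent_pullbackObj φ ΩY
  apply QcohLocal.mono_of_app_injective_of_affine_cover
  intro x
  obtain ⟨_, ⟨V, hV : IsAffineOpen V, rfl⟩, hxV, -⟩ :=
    Y.isBasis_affineOpens.exists_subset_of_mem_open (Set.mem_univ (φ x)) isOpen_univ
  obtain ⟨_, ⟨U, hU : IsAffineOpen U, rfl⟩, hxU, hUV⟩ :=
    X.isBasis_affineOpens.exists_subset_of_mem_open (show x ∈ φ ⁻¹ᵁ V from hxV)
      (φ ⁻¹ᵁ V).isOpen
  exact ⟨U, hU, hxU, app_injective k pX pY φ w hdom hsep ΩY dY hY ΩX dX hX c hc hV hU hUV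
    ⟨x, hxU⟩⟩

end Main

end Groth.Agent.Lead.DomSepB
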