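import Mathlib
import Groth.Prelude.Def_RefHull
import Groth.Prelude.Def_CurvBase
import Groth.Agent.Lead.HomSh2
import Groth.Agent.Lead.Hartogs2
import Groth.Agent.Helper3.IsoPt

/-!
# The dual of a coherent module on a reduced curve has no embedded closed points
-/

set_option autoImplicit false
set_option linter.style.haveILetI false
set_option linter.unusedSectionVars false

universe u

open CategoryTheory CategoryTheory.Limits AlgebraicGeometry TopologicalSpace Opposite

namespace Groth.Agent.Lead.DualTFA

/-- in a reduced Noetherian local ring whose maximal ideal is not a minimal prime, the maximal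
ideal contains a nonzerodivisor -/
theorem exists_mem_nonZeroDivisors (R : Type*) [CommRing R] [IsLocalRing R] [IsNoetherianRing R]
    [IsReduced R] (hm : IsLocalRing.maximalIdeal R ∉ minimalPrimes R) :
    ∃ a ∈ IsLocalRing.maximalIdeal R, a ∈ nonZeroDivisors R := by
  classical
  have hfin : (minimalPrimes R).Finite := minimalPrimes.finite_of_isNoetherianRing R
  let s : Finset (Ideal R) := hfin.toFinset
  have hnot : ¬ ((IsLocalRing.maximalIdeal R : Set R) ⊆ ⋃ p ∈ (↑s : Set (Ideal R)), (p : Set R)) := by
    intro h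
    have h' := (Ideal.subset_union_prime (f := fun p : Ideal R => p) (⊥ : Ideal R) (⊥ : Ideal R)
      (s := s) (fun p hp _ _ => by
        have : p ∈ minimalPrimes R := hfin.mem_toFinset.mp hp
        exact this.1.1)).mp h
    obtain ⟨p, hp, hle⟩ := h'
    have hpm : p ∈ minimalPrimes R := hfin.mem_toFinset.mp hp
    haveI : p.IsPrime := hpm.1.1
    have h2 : p = IsLocalRing.maximalIdeal R :=
      le_antisymm (IsLocalRing.le_maximalIdeal (Ideal.IsPrime.ne_top inferInstance)) hle
    exact hm (h2 ▸ hpm)
  rw [Set.not_subset] at hnot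
  obtain ⟨a, ham, ha⟩ := hnot
  refine ⟨a, ham, ?_⟩
  rw [mem_nonZeroDivisors_iff_right]
  intro b hab
  have hb : b ∈ sInf (minimalPrimes R) := by
    rw [Submodule.mem_sInf]
    intro p hp
    haveI : Ideal.IsPrime p := hp.1.1
    have h0 : b * a ∈ p := by rw [hab]; exact p.zero_mem
    rcases Ideal.IsPrime.mem_or_mem inferInstance h0 with h | h
    · exact h
    · exfalso
      apply ha
      simp only [Set.mem_iUnion]
      exact ⟨p, hfin.mem_toFinset.mpr hp, h⟩
  have hrad : sInf (minimalPrimes R) = (⊥ : Ideal R).radical := Ideal.sInf_minimalPrimes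
  rw [hrad] at hb
  rw [Ideal.radical_bot_of_isReduced] at hb
  exact hb

/-- pure algebra: no embedded maximal ideal in a module of homomorphisms to the ring, when the
maximal ideal contains a nonzerodivisor -/
theorem not_isAssociatedPrime_hom {R M O D : Type*} [CommRing R] [IsLocalRing R]
    [AddCommGroup M] [Module R M] [AddCommGroup O] [Module R O] [AddCommGroup D] [Module R D]
    (u : R ≃ₗ[R] O) (E : D →ₗ[R] (M →ₗ[R] O)) (hE : Function.Injective E) (a : R)
    (ha : a ∈ IsLocalRing.maximalIdeal R) (hreg : a ∈ nonZeroDivisors R) :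
    ¬ IsAssociatedPrime (IsLocalRing.maximalIdeal R) D := by
  rintro ⟨hp, θ, hθ⟩
  have h1 : a ∈ (Submodule.colon (⊥ : Submodule R D) {θ}).radical := hθ ▸ ha
  obtain ⟨n, hn⟩ := h1
  rw [Submodule.mem_colon_singleton, Submodule.mem_bot] at hn
  have hθ0 : θ = 0 := by
    apply hE
    rw [map_zero]
    ext v
    rw [LinearMap.zero_apply]
    have h2 : a ^ n • (E θ v) = 0 := by
      rw [← LinearMap.smul_apply, ← map_smul, hn, map_zero, LinearMap.zero_apply]
    have h3 : a ^ n * u.symm (E θ v) = 0 := by
      rw [← smul_eq_mul, ← map_smul, h2, map_zero]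
    have h4 : u.symm (E θ v) = 0 :=
      (mem_nonZeroDivisors_iff_right.mp (pow_mem hreg n)) _ (by rw [mul_comm]; exact h3)
    exact u.symm.map_eq_zero_iff.mp h4
  subst hθ0
  apply hp.ne_top
  rw [hθ, Ideal.radical_eq_top]
  rw [Ideal.eq_top_iff_one, Submodule.mem_colon_singleton, smul_zero]
  exact Submodule.zero_mem _

variable {X : Scheme.{u}}

/-- **S18916, general form**: on a Noetherian reduced scheme, at a closed non-isolated point the
dual of a module of finite type has no embedded component -/
theorem not_isAssPoint_dual [IsNoetherian X] [AlgebraicGeometry.IsReduced X] (F : X.Modules)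
    (hft : SheafOfModules.IsFiniteType (R := X.ringCatSheaf) F) (x : X)
    (hx : IsClosed ({x} : Set X)) (hno : ¬ IsOpen ({x} : Set X)) :
    ¬ Curv2.IsAssPoint (RefHull.dual F) x := by
  -- a proper generization
  have hgen : ¬ ∀ y : X, y ⤳ x → y = x := fun h =>
    hno (Groth.Agent.Helper3.IsoPt.isOpen_singleton_of_isClosed_of_forall_specializes x hx h)
  push Not at hgen
  obtain ⟨y, hyx, hne⟩ := hgen
  obtain ⟨q, hq⟩ : y ∈ Set.range (X.fromSpecStalk x) := by
    rw [Scheme.range_fromSpecStalk]
    exact hyx
  have hm : IsLocalRing.maximalIdeal (X.presheaf.stalk x) ∉ minimalPrimes (X.presheaf.stalk x) := by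
    intro hmin
    have hle : q.asIdeal ≤ IsLocalRing.maximalIdeal (X.presheaf.stalk x) :=
      IsLocalRing.le_maximalIdeal q.isPrime.ne_top
    have h2 : IsLocalRing.maximalIdeal (X.presheaf.stalk x) ≤ q.asIdeal :=
      hmin.2 ⟨q.isPrime, bot_le⟩ hle
    have h3 : q = IsLocalRing.closedPoint (X.presheaf.stalk x) :=
      PrimeSpectrum.ext (le_antisymm hle h2)
    apply hne
    rw [← hq, h3]
    exact Scheme.fromSpecStalk_closedPoint
  obtain ⟨a, ham, hreg⟩ := exists_mem_nonZeroDivisors (X.presheaf.stalk x) hm
  exact not_isAssociatedPrime_hom (Groth.Agent.Lead.Hartogs2.unitEquiv x)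
    (RefHull.evalStalk F (Coh.structureModule X) x)
    (Groth.Agent.Lead.HomSh.evalStalk_injective_of_isFT F _ hft x) a ham hreg

end Groth.Agent.Lead.DualTFA
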