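import Mathlib

set_option autoImplicit false
set_option linter.style.haveILetI false
universe u
open CategoryTheory CategoryTheory.Limits AlgebraicGeometry TopologicalSpace Opposite

namespace Groth.Agent.Lead.DvrFib

variable {X Y S T : Scheme.{u}} {f : T ⟶ S} {g : Y ⟶ X} {iX : X ⟶ S} {iY : Y ⟶ T}
  (H : IsPullback g iY iX f)
  {US : S.Opens} {UT : T.Opens}
  {UX : X.Opens} (hUST : UT ≤ f ⁻¹ᵁ US) (hUSX : UX ≤ iX ⁻¹ᵁ US)
  {UY : Y.Opens} (hUY : UY = g ⁻¹ᵁ UX ⊓ iY ⁻¹ᵁ UT)

set_option backward.isDefEq.respectTransparency false in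
open TensorProduct in
lemma mono_pushoutSection_of_iSup_eq' {ι : Type*} [Finite ι] (VX : ι → X.Opens) (hVU : iSup VX = UX)
    (hV : ∀ i, Mono (pushoutSection H hUST (show VX i ≤ _ by aesop) rfl))
    [IsDomain Γ(S, US)] [IsBezout Γ(S, US)]
    (htf : ∀ (W : X.Opens) (hW : W ≤ iX ⁻¹ᵁ US) (a : Γ(S, US)) (s : Γ(X, W)), a ≠ 0 →
      iX.appLE US W hW a * s = 0 → s = 0) :
    Mono (pushoutSection H hUST hUSX hUY) := by
  have hVS (i : _) : VX i ≤ iX ⁻¹ᵁ US := by clear hV; aesop
  classical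
  algebraize [(iX.appLE US UX hUSX).hom, (f.appLE US UT hUST).hom]
  let (i : _) := (iX.appLE US (VX i) (by aesop)).hom.toAlgebra
  -- This is the map `Γ(X ×ₛ T, U ∩ Uₜ) ⟶ ∏ᵢ Γ(X ×ₛ T, Vᵢ ∩ Uₜ)` on the bottom.
  let ψY : Γ(Y, UY) →+* Π i, Γ(Y, g ⁻¹ᵁ VX i ⊓ iY ⁻¹ᵁ UT) := RingHom.pi fun i ↦
      (Y.presheaf.map (homOfLE (by subst hUY hVU; gcongr; exact le_iSup _ _)).op).hom
  -- The map `Γ(X, U) ⟶ ∏ᵢ Γ(X, Vᵢ)`
  let ψ : Γ(X, UX) →ₐ[Γ(S, US)] Π i, Γ(X, VX i) := AlgHom.pi fun i ↦
    ⟨(X.presheaf.map (homOfLE (hVU ▸ le_iSup VX i)).op).hom, fun r ↦ by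
      dsimp [RingHom.algebraMap_toAlgebra]
      simp only [← CommRingCat.comp_apply, Scheme.Hom.appLE_map]⟩
  -- ... is injective by the sheaf axiom,
  have hψ : Function.Injective ψ := by
    intro s t est
    apply X.IsSheaf.section_ext fun x hx ↦ ?_
    simp only [← hVU, Opens.mem_iSup] at hx
    obtain ⟨i, hxi⟩ := hx
    exact ⟨_, _, hxi, congr($est i)⟩
  -- ... and remains injective after tensoring with `Γ(T, Uₜ)` since the cokernel is flat
  have hψ' : Function.Injective (Algebra.TensorProduct.map (AlgHom.id Γ(T, UT) Γ(T, UT)) ψ) := by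
    have hQ : Module.Flat Γ(S, US) ((Π i, Γ(X, VX i)) ⧸ LinearMap.range ψ.toLinearMap) := by
      rw [Module.Flat.flat_iff_torsion_eq_bot_of_isBezout, eq_bot_iff]
      rintro q ⟨⟨a, ha⟩, haq⟩
      obtain ⟨t, rfl⟩ := Submodule.Quotient.mk_surjective _ q
      have ha0 : a ≠ 0 := nonZeroDivisors.ne_zero ha
      have hmem : a • t ∈ LinearMap.range ψ.toLinearMap := by
        rw [← Submodule.Quotient.mk_eq_zero, Submodule.Quotient.mk_smul]
        exact haq
      obtain ⟨s, hs⟩ := hmem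
      have hsi : ∀ i, X.presheaf.map (homOfLE (hVU ▸ le_iSup VX i)).op s =
          iX.appLE US (VX i) (hVS i) a * t i := fun i => by
        have := congrFun hs i
        simpa [ψ, Algebra.smul_def, RingHom.algebraMap_toAlgebra] using this
      have hcompat : TopCat.Presheaf.IsCompatible X.presheaf VX t := by
        intro i j
        have e1 : iX.appLE US (VX i ⊓ VX j) (inf_le_left.trans (hVS i)) a =
            X.presheaf.map (Opens.infLELeft (VX i) (VX j)).op
              (iX.appLE US (VX i) (hVS i) a) := by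
          rw [← CommRingCat.comp_apply, Scheme.Hom.appLE_map]
        have e2 : iX.appLE US (VX i ⊓ VX j) (inf_le_left.trans (hVS i)) a =
            X.presheaf.map (Opens.infLERight (VX i) (VX j)).op
              (iX.appLE US (VX j) (hVS j) a) := by
          rw [← CommRingCat.comp_apply, Scheme.Hom.appLE_map]
        have h0 : iX.appLE US (VX i ⊓ VX j) (inf_le_left.trans (hVS i)) a *
            (X.presheaf.map (Opens.infLELeft (VX i) (VX j)).op (t i) -
              X.presheaf.map (Opens.infLERight (VX i) (VX j)).op (t j)) = 0 := by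
          rw [mul_sub]
          nth_rewrite 1 [e1]
          rw [e2, ← map_mul, ← map_mul, ← hsi i, ← hsi j, ← CommRingCat.comp_apply,
            ← CommRingCat.comp_apply, ← Functor.map_comp, ← Functor.map_comp]
          exact sub_self _
        exact sub_eq_zero.mp (htf _ _ a _ ha0 h0)
      obtain ⟨t', ht', -⟩ := X.sheaf.existsUnique_gluing' VX UX
        (fun i => homOfLE (hVU ▸ le_iSup VX i)) hVU.ge t hcompat
      rw [Submodule.mem_bot, Submodule.Quotient.mk_eq_zero]
      exact ⟨t', funext fun i => ht' i⟩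
    exact LinearMap.lTensor_injective_of_exact_of_flat (LinearMap.range ψ.toLinearMap).mkQ
      (Submodule.mkQ_surjective _) ψ.toLinearMap hψ (LinearMap.exact_map_mkQ_range _) Γ(T, UT)
  simp_rw [@ConcreteCategory.mono_iff_injective_of_preservesPullback] at hV ⊢
  cases nonempty_fintype ι
  -- And the map at the right
  let φ : (Γ(T, UT) ⊗[Γ(S, US)] Π i, Γ(X, VX i)) →+* Π i, Γ(Y, g ⁻¹ᵁ VX i ⊓ iY ⁻¹ᵁ UT) :=
    (RingHom.pi fun i ↦ (pushoutSection H hUST (show VX i ≤ _ by aesop) rfl).hom.comp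
      ((CommRingCat.isPushout_tensorProduct _ _ _).flip.isoPushout.hom.hom.comp
      (by exact Pi.evalRingHom _ _))).comp (Algebra.TensorProduct.piRight _ Γ(S, US) _ _).toRingHom
  -- ... is also injective by our hypotheses on `Vᵢ`.
  have hφ : Function.Injective φ := by
    dsimp [φ]
    refine .comp ?_ (Algebra.TensorProduct.piRight _ Γ(S, US) _ _).injective
    exact .piMap fun i ↦ (hV _).comp <| CommRingCat.isPushout_tensorProduct _ _ _
      |>.flip.isoPushout.commRingCatIsoToRingEquiv.injective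
  let e : pushout (iX.appLE US UX hUSX) (f.appLE US UT hUST) ≅
      .of (Γ(T, UT) ⊗[Γ(S, US)] Γ(X, UX)) :=
    (CommRingCat.isPushout_tensorProduct _ _ _).flip.isoPushout.symm
  suffices (ψY.comp (pushoutSection H hUST hUSX hUY).hom).comp e.inv.hom = φ.comp
      (Algebra.TensorProduct.map (AlgHom.id Γ(T, UT) Γ(T, UT)) ψ).toRingHom by
    refine .of_comp (f := ψY) ?_
    convert (hφ.comp hψ').comp e.commRingCatIsoToRingEquiv.injective
    ext1 x; simpa using! congr($this (e.hom x))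
  ext1
  · have H₁ : e.inv.hom.comp Algebra.TensorProduct.includeLeftRingHom =
        (pushout.inr (C := CommRingCat) _ _).hom :=
      congr($((CommRingCat.isPushout_tensorProduct _ _ _).flip.inr_isoPushout_hom).hom)
    have H₂ (x j) : φ (x ⊗ₜ[↑Γ(S, US)] 1) j = pushoutSection H hUST (UX := VX j) (by simp_all) rfl
        (pushout.inr (C := CommRingCat) _ _ x) := congr(pushoutSection H hUST (UX := VX j) _ rfl
        ($((CommRingCat.isPushout_tensorProduct ↑Γ(S, US)
          ↑Γ(T, UT) ↑Γ(X, VX j)).flip.inr_isoPushout_hom) x))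
    simp only [RingHom.comp_assoc, H₁]
    ext x j
    simp [ψY, H₂, ← CategoryTheory.comp_apply, pushoutSection]
  · have H₁ : e.inv.hom.comp Algebra.TensorProduct.includeRight.toRingHom =
        (pushout.inl (C := CommRingCat) _ _).hom :=
      congr($((CommRingCat.isPushout_tensorProduct _ _ _).flip.inl_isoPushout_hom).hom)
    have H₂ (x j) : φ (1 ⊗ₜ[↑Γ(S, US)] x) j = pushoutSection H hUST (UX := VX j) (by simp_all) rfl
        (pushout.inl (C := CommRingCat) _ _ (x j)) := congr(pushoutSection H hUST (UX := VX j) _ rfl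
        ($((CommRingCat.isPushout_tensorProduct ↑Γ(S, US)
          ↑Γ(T, UT) ↑Γ(X, VX j)).flip.inl_isoPushout_hom) (x j)))
    simp only [RingHom.comp_assoc, H₁]
    ext x j
    simp [ψY, H₂, -CommRingCat.hom_comp, ← CategoryTheory.comp_apply, pushoutSection, ψ]

lemma mono_pushoutSection_of_isCompact_of_torsionFree
    [IsDomain Γ(S, US)] [IsBezout Γ(S, US)]
    (htf : ∀ (W : X.Opens) (hW : W ≤ iX ⁻¹ᵁ US) (a : Γ(S, US)) (s : Γ(X, W)), a ≠ 0 →
      iX.appLE US W hW a * s = 0 → s = 0)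
    (hUS : IsAffineOpen US) (hUT : IsAffineOpen UT) (hUX : IsCompact (X := X) UX) :
    Mono (pushoutSection H hUST hUSX hUY) := by
  obtain ⟨I, hI, e⟩ := isCompact_iff_finite_and_eq_biUnion_affineOpens.mp hUX
  have := hI.to_subtype
  exact mono_pushoutSection_of_iSup_eq' (ι := I) H hUST hUSX hUY (·)
    (by rwa [iSup_subtype, eq_comm])
    (fun i ↦ have := isIso_pushoutSection_of_isAffineOpen H hUST _ rfl hUS hUT i.1.2;
      inferInstance) htf

omit H hUST hUSX hUY in
lemma torsionFree_of_flat [Flat iX] [IsDomain Γ(S, US)] (hUS : IsAffineOpen US)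
    (W : X.Opens) (hW : W ≤ iX ⁻¹ᵁ US) (a : Γ(S, US)) (s : Γ(X, W)) (ha : a ≠ 0)
    (h : iX.appLE US W hW a * s = 0) : s = 0 := by
  apply X.IsSheaf.section_ext fun x hx ↦ ?_
  obtain ⟨V, hV, hxV, hVW⟩ := Opens.isBasis_iff_nbhd.mp X.isBasis_affineOpens hx
  refine ⟨V, hVW, hxV, ?_⟩
  rw [map_zero]
  have hflat := iX.flat_appLE hUS hV (hVW.trans hW)
  algebraize [(iX.appLE US V (hVW.trans hW)).hom]
  have hreg := Module.Flat.isSMulRegular_of_nonZeroDivisors (M := Γ(X, V))
    (mem_nonZeroDivisors_of_ne_zero ha)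
  apply hreg
  show a • _ = a • 0
  rw [smul_zero, Algebra.smul_def, RingHom.algebraMap_toAlgebra]
  have := congrArg (X.presheaf.map (homOfLE hVW).op) h
  rw [map_mul, map_zero, ← CommRingCat.comp_apply, Scheme.Hom.appLE_map] at this
  exact this

lemma appLE_eq_of_eq {X Y : Scheme.{u}} {f f' : X ⟶ Y} (h : f = f') {U : Y.Opens} {V : X.Opens}
    (e : V ≤ f ⁻¹ᵁ U) (e' : V ≤ f' ⁻¹ᵁ U) : f.appLE U V e = f'.appLE U V e' := by
  subst h; rfl

theorem main (A : Type u) [CommRing A] [IsDomain A] [IsDiscreteValuationRing A]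
    (X : Scheme.{u}) (f : X ⟶ Spec (CommRingCat.of A)) [Flat f] [QuasiCompact f] [QuasiSeparated f]
    (g : Spec Γ(X, ⊤) ⟶ Spec (CommRingCat.of A)) (hg : X.toSpecΓ ≫ g = f)
    (s : ↥(Spec (CommRingCat.of A))) :
    (pullback.map f ((Spec (CommRingCat.of A)).fromSpecResidueField s) g
        ((Spec (CommRingCat.of A)).fromSpecResidueField s)
        X.toSpecΓ (𝟙 _) (𝟙 _) ((Category.comp_id f).trans hg.symm)
        ((Category.comp_id _).trans (Category.id_comp _).symm)).ker = ⊥ := by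
  let S := Spec (CommRingCat.of A)
  let fs : Spec (S.residueField s) ⟶ S := S.fromSpecResidueField s
  have e1 : f ≫ 𝟙 _ = X.toSpecΓ ≫ g := (Category.comp_id f).trans hg.symm
  have e2 : fs ≫ 𝟙 _ = 𝟙 _ ≫ fs := (Category.comp_id _).trans (Category.id_comp _).symm
  show (pullback.map f fs g fs X.toSpecΓ (𝟙 _) (𝟙 _) e1 e2).ker = ⊥
  generalize hm : pullback.map f fs g fs X.toSpecΓ (𝟙 _) (𝟙 _) e1 e2 = m
  have hm1 : m ≫ pullback.fst g fs = pullback.fst f fs ≫ X.toSpecΓ := by
    rw [← hm]; exact pullback.lift_fst _ _ _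
  have hm2 : m ≫ pullback.snd g fs = pullback.snd f fs := by
    rw [← hm]; exact (pullback.lift_snd _ _ _).trans (Category.comp_id _)
  haveI : CompactSpace X := QuasiCompact.compactSpace_of_compactSpace f
  haveI : CompactSpace ↥(pullback f fs) :=
    QuasiCompact.compactSpace_of_compactSpace (pullback.snd f fs)
  haveI : IsAffine (pullback g fs) := inferInstance
  let eA : Γ(S, ⊤) ≃+* A := (Scheme.ΓSpecIso (CommRingCat.of A)).commRingCatIsoToRingEquiv
  haveI : IsDomain Γ(S, ⊤) := MulEquiv.isDomain A eA.toMulEquiv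
  haveI : IsPrincipalIdealRing Γ(S, ⊤) :=
    IsPrincipalIdealRing.of_surjective eA.symm.toRingHom eA.symm.surjective
  haveI : IsBezout Γ(S, ⊤) := inferInstance
  have HX := IsPullback.of_hasPullback f fs
  have HY := IsPullback.of_hasPullback g fs
  let PSX := pushoutSection HX (US := ⊤) (UT := ⊤) (UX := ⊤) (UY := ⊤)
      (by simp) (by simp) (by simp)
  let PSY := pushoutSection HY (US := ⊤) (UT := ⊤) (UX := ⊤) (UY := ⊤)
      (by simp) (by simp) (by simp)
  haveI hXmono : Mono PSX :=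
    mono_pushoutSection_of_isCompact_of_torsionFree HX _ _ _
      (fun W hW a s ha h => torsionFree_of_flat (isAffineOpen_top S) W hW a s ha h)
      (isAffineOpen_top S) (isAffineOpen_top _) (by simpa using CompactSpace.isCompact_univ)
  haveI hYiso : IsIso PSY :=
    isIso_pushoutSection_of_isAffineOpen HY _ _ _ (isAffineOpen_top _) (isAffineOpen_top _)
      (isAffineOpen_top _)
  haveI : IsIso X.toSpecΓ.appTop := by rw [Scheme.toSpecΓ_appTop]; infer_instance
  have happ : ∀ {P Q : Scheme.{u}} (h : P ⟶ Q), h.appTop = h.appLE ⊤ ⊤ (by simp) := fun h =>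
    Scheme.Hom.app_eq_appLE _
  have q1 : g.appLE ⊤ ⊤ (by simp) ≫ X.toSpecΓ.appTop = 𝟙 _ ≫ f.appLE ⊤ ⊤ (by simp) := by
    rw [Category.id_comp, happ, Scheme.Hom.appLE_comp_appLE]
    exact appLE_eq_of_eq hg _ _
  have q2 : fs.appLE ⊤ ⊤ (by simp) ≫ 𝟙 _ = 𝟙 _ ≫ fs.appLE ⊤ ⊤ (by simp) := by
    rw [Category.comp_id, Category.id_comp]
  let φ := pushout.map (g.appLE ⊤ ⊤ (by simp)) (fs.appLE ⊤ ⊤ (by simp))
    (f.appLE ⊤ ⊤ (by simp)) (fs.appLE ⊤ ⊤ (by simp)) X.toSpecΓ.appTop (𝟙 _) (𝟙 _) q1 q2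
  haveI : IsIso φ := inferInstance
  have key : φ ≫ PSX = PSY ≫ m.appTop := by
    apply pushout.hom_ext
    · simp only [φ, PSX, PSY, pushout.map, pushout.inl_desc_assoc, pushout.inl_desc,
        Category.assoc]
      rw [happ X.toSpecΓ, happ m, Scheme.Hom.appLE_comp_appLE, Scheme.Hom.appLE_comp_appLE]
      exact appLE_eq_of_eq hm1.symm _ _
    · simp only [φ, PSX, PSY, pushout.map, pushout.inr_desc_assoc, pushout.inr_desc,
        Category.id_comp]
      rw [happ m, Scheme.Hom.appLE_comp_appLE]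
      exact appLE_eq_of_eq hm2.symm _ _
  haveI : Mono m.appTop := by
    have : m.appTop = inv PSY ≫ φ ≫ PSX := by
      rw [key, IsIso.inv_hom_id_assoc]
    rw [this]; infer_instance
  have hinj : Function.Injective m.appTop :=
    (ConcreteCategory.mono_iff_injective_of_preservesPullback _).mp inferInstance
  have hker : RingHom.ker (m.app ⊤).hom = ⊥ :=
    (RingHom.injective_iff_ker_eq_bot _).mp hinj
  exact Scheme.IdealSheafData.ext_of_isAffine
    (by rw [m.ker_apply ⟨⊤, isAffineOpen_top _⟩]; exact hker)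

end Groth.Agent.Lead.DvrFib
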