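import Mathlib
import Groth.Prelude.Def_CohPull
import Groth.Agent.Helper6.PushEdge1
import Groth.Agent.Helper1.CohTopPush

set_option autoImplicit false
set_option linter.style.haveILetI false
set_option linter.unusedSectionVars false
set_option linter.unusedVariables false

/-!
# The edge map `H^1(Y, f_* A) → H^1(X, A)` is injective (abelian sheaves on spaces)
-/

namespace Groth.Agent.Lead.EdgeInj

open CategoryTheory Limits Abelian Opposite TopologicalSpace
open Groth.Agent.Helper6 Groth.Agent.Helper6.PushEdge1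

universe u

variable {X Y : TopCat.{u}} (f : X ⟶ Y)

/-- `f_*` of an injective abelian sheaf is injective. -/
theorem injective_push (I : CohTop.Ab X) [Injective I] : Injective ((CohTop.push f).obj I) := by
  haveI : PreservesFiniteLimits (CohPull.inv f) := CohPull.inv_preservesFiniteLimits f
  exact Injective.injective_of_adjoint (CohPull.invPushAdj f) I

/-- generalized compatibility of the edge map with connecting maps -/
theorem edge_δ_gen {S : ShortComplex (CohTop.Ab X)} (hS : S.ShortExact)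
    {T : ShortComplex (CohTop.Ab Y)} (hT : T.ShortExact)
    (τ₁ : (CohPull.inv f).obj T.X₁ ⟶ S.X₁) (τ₂ : (CohPull.inv f).obj T.X₂ ⟶ S.X₂)
    (τ₃ : (CohPull.inv f).obj T.X₃ ⟶ S.X₃)
    (c₁₂ : τ₁ ≫ S.f = (CohPull.inv f).map T.f ≫ τ₂)
    (c₂₃ : τ₂ ≫ S.g = (CohPull.inv f).map T.g ≫ τ₃) (p : ℕ) (w : Sheaf.H T.X₃ p) :
    Sheaf.H.map τ₁ (p + 1) (CohPull.pullAb f T.X₁ (p + 1) (w.comp hT.extClass rfl)) =
      (Sheaf.H.map τ₃ p (CohPull.pullAb f T.X₃ p w)).comp hS.extClass rfl := by
  have h1 := pullAb_δ f hT p w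
  let φ : T.map (CohPull.inv f) ⟶ S :=
    { τ₁ := τ₁
      τ₂ := τ₂
      τ₃ := τ₃
      comm₁₂ := c₁₂
      comm₂₃ := c₂₃ }
  have h2 := map_δ (hT.map_of_exact (CohPull.inv f)) hS φ p (CohPull.pullAb f T.X₃ p w)
  exact (congrArg (fun y => Sheaf.H.map τ₁ (p + 1) y) h1).trans h2

set_option maxHeartbeats 3200000 in
theorem edge_one_injective (A : CohTop.Ab X) : Function.Injective (edge f A 1) := by
  rw [injective_iff_map_eq_zero]
  intro x hx
  -- the injective embedding
  let S : ShortComplex (CohTop.Ab X) :=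
    ShortComplex.mk (Injective.ι A) (cokernel.π (Injective.ι A)) (cokernel.condition _)
  have hS : S.ShortExact :=
    { exact := ShortComplex.exact_cokernel _
      mono_f := by dsimp [S]; infer_instance
      epi_g := by dsimp [S]; infer_instance }
  haveI hI : Injective S.X₂ := by dsimp [S]; infer_instance
  haveI : Mono S.f := hS.mono_f
  -- the pushed-forward sequence, made right exact
  let T : ShortComplex (CohTop.Ab Y) :=
    ShortComplex.mk ((CohTop.push f).map S.f) (cokernel.π ((CohTop.push f).map S.f))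
      (cokernel.condition _)
  have hT : T.ShortExact :=
    { exact := ShortComplex.exact_cokernel _
      mono_f := by dsimp [T]; infer_instance
      epi_g := by dsimp [T]; infer_instance }
  have hzero : (CohTop.push f).map S.f ≫ (CohTop.push f).map S.g = 0 := by
    rw [← Functor.map_comp, S.zero, Functor.map_zero]
  let ι : T.X₃ ⟶ (CohTop.push f).obj S.X₃ :=
    cokernel.desc ((CohTop.push f).map S.f) ((CohTop.push f).map S.g) hzero
  have hπι : T.g ≫ ι = (CohTop.push f).map S.g := cokernel.π_desc _ _ _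
  have hex : (S.map (CohTop.push f)).Exact :=
    hS.exact.map_of_mono_of_preservesKernel _ hS.mono_f inferInstance
  haveI hmono : Mono ι := (ShortComplex.exact_iff_mono_cokernel_desc _).1 hex
  -- lift `x` along the connecting map
  haveI : Injective ((CohTop.push f).obj S.X₂) := injective_push f S.X₂
  have hsub : Subsingleton (Sheaf.H ((CohTop.push f).obj S.X₂) 1) := inferInstance
  obtain ⟨w, rfl⟩ := Ext.covariant_sequence_exact₁ _ hT x (@Subsingleton.elim _ hsub _ _) rfl
  have c₂₃ : cou f S.X₂ ≫ S.g =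
      (CohPull.inv f).map T.g ≫ (CohPull.inv f).map ι ≫ cou f S.X₃ := by
    rw [← Category.assoc, ← Functor.map_comp, hπι]
    exact (cou_natural f S.g).symm
  have h1 := edge_δ_gen f hS hT (cou f S.X₁) (cou f S.X₂) ((CohPull.inv f).map ι ≫ cou f S.X₃)
    (cou_natural f S.f).symm c₂₃ 0 w
  have h3 : Sheaf.H.map ((CohPull.inv f).map ι ≫ cou f S.X₃) 0 (CohPull.pullAb f T.X₃ 0 w) =
      edge f S.X₃ 0 (Sheaf.H.map ι 0 w) := by
    rw [edge_apply, pullAb_natural, ← Sheaf.H.map_comp_apply]
  have hx' : (edge f S.X₃ 0 (Sheaf.H.map ι 0 w)).comp hS.extClass rfl = 0 := by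
    rw [← h3, ← h1]
    exact hx
  obtain ⟨v, hv⟩ := Ext.covariant_sequence_exact₃ _ hS _ rfl hx'
  obtain ⟨u, rfl⟩ := (edge_zero_bijective f S.X₂).2 v
  have h4 : edge f S.X₃ 0 (Sheaf.H.map ((CohTop.push f).map S.g) 0 u) =
      edge f S.X₃ 0 (Sheaf.H.map ι 0 w) := by
    rw [edge_natural]; exact hv
  have h5 := (edge_zero_bijective f S.X₃).1 h4
  have h6 : Sheaf.H.map ι 0 (Sheaf.H.map T.g 0 u) = Sheaf.H.map ι 0 w := by
    rw [← Sheaf.H.map_comp_apply, hπι]; exact h5
  have h7 : Sheaf.H.map T.g 0 u = w :=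
    Ext.postcomp_mk₀_injective_of_mono _ ι h6
  subst h7
  have hc : (Ext.mk₀ T.g).comp hT.extClass (zero_add 1) = 0 := hT.comp_extClass
  rw [Sheaf.H.map_apply, Ext.comp_assoc_of_second_deg_zero, hc, Ext.comp_zero]

end Groth.Agent.Lead.EdgeInj
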