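import Mathlib
import Groth.Prelude.Def_CohPull
import Groth.Prelude.Def_Canon
import Groth.Prelude.Def_ClSub2
import Groth.Agent.Helper6.PushEdge2
import Groth.Agent.Lead.EdgeInj

set_option autoImplicit false
set_option linter.style.haveILetI false
set_option linter.unusedSectionVars false
set_option linter.unusedVariables false

/-!
# The edge map `H^1(Y, f_* G) → H^1(X, G)` for O-modules: injective and linear over a base ring
-/

namespace Groth.Agent.Lead.EdgeInjSch

open CategoryTheory Limits Abelian Opposite TopologicalSpace AlgebraicGeometry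
open Groth.Agent.Helper6

universe u

variable {X Y : Scheme.{u}} (f : X ⟶ Y)

theorem pushEdge_one_injective (G : X.Modules) :
    Function.Injective (CohPull.pushEdge f G 1) := by
  have h : ⇑(CohPull.pushEdge f G 1) = ⇑(PushEdge1.edge f.base (Coh.toAb G) 1) :=
    funext (PushEdge2.pushEdge_apply f G 1)
  rw [h]
  exact Groth.Agent.Lead.EdgeInj.edge_one_injective f.base (Coh.toAb G)

/-- multiplication by a global function of `Y` on `f_* G` is `f_*` of multiplication by its
pullback -/
theorem smulAb_push (G : X.Modules) (rY : Coh.Γtop Y) (rX : Coh.Γtop X)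
    (h : f.appTop.hom rY = rX) :
    Coh.smulAb ((Scheme.Modules.pushforward f).obj G) rY =
      (CohTop.push f.base).map (Coh.smulAb G rX) := by
  ext U m
  change (Coh.smulAb ((Scheme.Modules.pushforward f).obj G) rY).hom.app U m =
    (Coh.smulAb G rX).hom.app (op (f ⁻¹ᵁ U.unop)) m
  rw [Coh.smulAb_app, Coh.smulAb_app]
  change @HSMul.hSMul (X.ringCatSheaf.obj.obj (op (f ⁻¹ᵁ U.unop)))
    (G.val.obj (op (f ⁻¹ᵁ U.unop))) (G.val.obj (op (f ⁻¹ᵁ U.unop))) _
    ((f.app U.unop).hom (Coh.resTop Y U rY)) m = _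
  congr 1
  subst h
  have := congr($(f.naturality (homOfLE (le_top (a := U.unop))).op) rY)
  exact this

section Lin

variable (A : Type u) [CommRing A] [X.Over (Spec (CommRingCat.of A))]
  [Y.Over (Spec (CommRingCat.of A))]

theorem appTop_toGlobal (hf : f ≫ (Y ↘ Spec (CommRingCat.of A)) = X ↘ Spec (CommRingCat.of A))
    (a : A) :
    f.appTop.hom (Coh.toGlobal (Y ↘ Spec (CommRingCat.of A)) a) =
      Coh.toGlobal (X ↘ Spec (CommRingCat.of A)) a := by
  have h : (X ↘ Spec (CommRingCat.of A)).appTop =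
      (Y ↘ Spec (CommRingCat.of A)).appTop ≫ f.appTop := by
    rw [← hf]; rfl
  change f.appTop.hom ((Y ↘ Spec (CommRingCat.of A)).appTop.hom _) =
    (X ↘ Spec (CommRingCat.of A)).appTop.hom _
  rw [h]
  rfl

/-- the edge map in degree one as a linear map over the base ring -/
noncomputable def edgeLin
    (hf : f ≫ (Y ↘ Spec (CommRingCat.of A)) = X ↘ Spec (CommRingCat.of A)) (G : X.Modules) :
    Coh.HH Y ((Scheme.Modules.pushforward f).obj G) 1 →ₗ[A] Coh.HH X G 1 where
  toFun := CohPull.pushEdge f G 1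
  map_add' := map_add _
  map_smul' a x := by
    change CohPull.pushEdge f G 1 (Sheaf.H.map (Coh.smulAb ((Scheme.Modules.pushforward f).obj G)
        (Coh.toGlobal (Y ↘ Spec (CommRingCat.of A)) a)) 1 x) =
      Sheaf.H.map (Coh.smulAb G (Coh.toGlobal (X ↘ Spec (CommRingCat.of A)) a)) 1
        (CohPull.pushEdge f G 1 x)
    rw [PushEdge2.pushEdge_apply, PushEdge2.pushEdge_apply,
      smulAb_push f G _ _ (appTop_toGlobal f A hf a)]
    exact PushEdge1.edge_natural f.base (Coh.smulAb G _) 1 x

theorem edgeLin_injective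
    (hf : f ≫ (Y ↘ Spec (CommRingCat.of A)) = X ↘ Spec (CommRingCat.of A)) (G : X.Modules) :
    Function.Injective (edgeLin f A hf G) :=
  pushEdge_one_injective f G

end Lin

/-- a morphism of modules bijective on all sections is an isomorphism -/
theorem isIso_of_app_bijective {F G : Y.Modules} (φ : F ⟶ G)
    (h : ∀ U : Y.Opens, Function.Bijective (φ.app U)) : IsIso φ := by
  suffices IsIso ((Scheme.Modules.toPresheaf Y).map φ) from
    isIso_of_reflects_iso φ (Scheme.Modules.toPresheaf Y)
  haveI : ∀ V, IsIso (((Scheme.Modules.toPresheaf Y).map φ).app V) := by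
    intro V
    exact (ConcreteCategory.isIso_iff_bijective _).mpr (h V.unop)
  exact NatIso.isIso_of_isIso_app _

theorem isIso_unitToPush (hfib : ∀ V : Y.Opens, IsIso (f.app V)) : IsIso (ClSub.unitToPush f) := by
  refine isIso_of_app_bijective _ fun U => ?_
  have := hfib U
  exact (ConcreteCategory.isIso_iff_bijective (f.app U)).mp inferInstance

theorem H_map_injective_of_isIso {F G : Y.Modules} (φ : F ⟶ G) (hφ : IsIso φ) (n : ℕ) :
    Function.Injective (Sheaf.H.map ((SheafOfModules.toSheaf Y.ringCatSheaf).map φ) n) := by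
  obtain ⟨ψ, h1, h2⟩ := hφ.out
  intro x y hxy
  have e1 := (SheafOfModules.toSheaf Y.ringCatSheaf).map_comp φ ψ
  have hab : (SheafOfModules.toSheaf Y.ringCatSheaf).map φ ≫
      (SheafOfModules.toSheaf Y.ringCatSheaf).map ψ = 𝟙 _ :=
    e1.symm.trans ((congrArg (fun t => (SheafOfModules.toSheaf Y.ringCatSheaf).map t) h1).trans
      ((SheafOfModules.toSheaf Y.ringCatSheaf).map_id _))
  have h := congrArg (Sheaf.H.map ((SheafOfModules.toSheaf Y.ringCatSheaf).map ψ) n) hxy
  rw [← Sheaf.H.map_comp_apply, ← Sheaf.H.map_comp_apply, hab,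
    Sheaf.H.map_id_apply, Sheaf.H.map_id_apply] at h
  exact h

end Groth.Agent.Lead.EdgeInjSch
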