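import Mathlib
import Groth.Agent.S3694
import Groth.Agent.Lead.EtThick
import Groth.Agent.Lead.Thickening

set_option autoImplicit false
universe u

namespace Groth.Agent.Lead.EtBC

open AlgebraicGeometry CategoryTheory CategoryTheory.Limits

theorem isIso_of_etale_univInj_surj {X Y : Scheme.{u}} (f : X ⟶ Y) [Etale f] [UniversallyInjective f]
    [Surjective f] : IsIso f := by
  haveI : IsOpenImmersion f := Groth.Agent.S3694.aux f
  exact (isIso_iff_isOpenImmersion_and_surjective f).mpr ⟨inferInstance, inferInstance⟩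

/-- a universally closed bijective morphism is an open map -/
theorem isOpenMap_of_univClosed_bij {X Y : Scheme.{u}} (f : X ⟶ Y) [UniversallyClosed f]
    (hb : Function.Bijective f) : IsOpenMap f := by
  intro U hU
  have hc : IsClosedMap f := f.isClosedMap
  have := hc _ hU.isClosed_compl
  rw [Set.image_compl_eq hb] at this
  exact isClosed_compl_iff.mp this

/-- descent of morphisms to an étale scheme along a universal homeomorphism `j : Y' ⟶ Y`:
a morphism `a : Y' ⟶ X` over `S` descends to `Y`. -/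
theorem exists_descent {S X Y Y' : Scheme.{u}} (f : X ⟶ S) [Etale f] (q : Y ⟶ S)
    (j : Y' ⟶ Y) [UniversallyClosed j] [UniversallyInjective j] [Surjective j]
    (a : Y' ⟶ X) (ha : a ≫ f = j ≫ q) : ∃ φ : Y ⟶ X, φ ≫ f = q ∧ j ≫ φ = a := by
  let P := pullback q f
  let p₁ : P ⟶ Y := pullback.fst q f
  let p₂ : P ⟶ X := pullback.snd q f
  haveI : Etale p₁ := inferInstanceAs (Etale (pullback.fst q f))
  let b : Y' ⟶ P := pullback.lift j a ha.symm
  have hb1 : b ≫ p₁ = j := pullback.lift_fst _ _ _
  have hb2 : b ≫ p₂ = a := pullback.lift_snd _ _ _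
  let Q := pullback p₁ j
  let hQ : Q ⟶ P := pullback.fst p₁ j
  let qQ : Q ⟶ Y' := pullback.snd p₁ j
  haveI : Etale qQ := inferInstanceAs (Etale (pullback.snd p₁ j))
  haveI : UniversallyClosed hQ := inferInstanceAs (UniversallyClosed (pullback.fst p₁ j))
  haveI : UniversallyInjective hQ :=
    MorphismProperty.pullback_fst (P := @UniversallyInjective) p₁ j ‹_›
  haveI : Surjective hQ := inferInstanceAs (Surjective (pullback.fst p₁ j))
  let σ : Y' ⟶ Q := pullback.lift b (𝟙 Y') (by rw [hb1, Category.id_comp])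
  have hσ1 : σ ≫ hQ = b := pullback.lift_fst _ _ _
  have hσ2 : σ ≫ qQ = 𝟙 Y' := pullback.lift_snd _ _ _
  haveI : IsOpenImmersion σ := Groth.Agent.Lead.EtThick.isOpenImmersion_of_section σ qQ hσ2
  have hopen : IsOpen (Set.range b) := by
    have : Set.range b = hQ '' Set.range σ := by
      rw [← Set.range_comp]
      rw [← hσ1]
      rfl
    rw [this]
    exact isOpenMap_of_univClosed_bij hQ ⟨hQ.injective, hQ.surjective⟩ _ σ.isOpenEmbedding.isOpen_range
  let Γ : P.Opens := ⟨Set.range b, hopen⟩
  have hsub : Set.range b ⊆ Set.range Γ.ι := by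
    rw [Scheme.Opens.range_ι]; exact le_rfl
  let k₀ : Y' ⟶ Γ := IsOpenImmersion.lift Γ.ι b hsub
  have hk₀ : k₀ ≫ Γ.ι = b := IsOpenImmersion.lift_fac _ _ _
  haveI : Surjective k₀ := by
    constructor
    rintro ⟨z, ⟨y', rfl⟩⟩
    refine ⟨y', ?_⟩
    apply Γ.ι.injective
    rw [← Scheme.Hom.comp_apply, hk₀]
    rfl
  let p : (Γ : Scheme) ⟶ Y := Γ.ι ≫ p₁
  have hkp : k₀ ≫ p = j := by
    simp only [p]; rw [← Category.assoc, hk₀, hb1]
  haveI : Etale p := inferInstanceAs (Etale (Γ.ι ≫ p₁))
  haveI : UniversallyInjective (k₀ ≫ p) := by rw [hkp]; infer_instance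
  haveI : UniversallyInjective p := Groth.Agent.Lead.universallyInjective_of_comp_surjective k₀ p
  haveI : Surjective p := by
    constructor
    intro y
    obtain ⟨y', rfl⟩ := j.surjective y
    refine ⟨k₀ y', ?_⟩
    rw [← Scheme.Hom.comp_apply, hkp]
  haveI : IsIso p := isIso_of_etale_univInj_surj p
  refine ⟨inv p ≫ Γ.ι ≫ p₂, ?_, ?_⟩
  · rw [Category.assoc, Category.assoc]
    have : p₂ ≫ f = p₁ ≫ q := pullback.condition.symm
    rw [this, ← Category.assoc Γ.ι, ← Category.assoc (inv p)]
    show (inv p ≫ p) ≫ q = q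
    rw [IsIso.inv_hom_id, Category.id_comp]
  · rw [← hkp, Category.assoc, IsIso.hom_inv_id_assoc, ← Category.assoc, hk₀, hb2]

theorem pullback_hom_bijective {S S' : Scheme.{u}} (g : S' ⟶ S) [IsIntegralHom g] [UniversallyInjective g]
    [Surjective g] (X Y : Over S) [Etale X.hom] :
    Function.Bijective (fun φ : Y ⟶ X => (Over.pullback g).map φ) := by
  haveI : Surjective (pullback.fst Y.hom g) := inferInstance
  constructor
  · intro φ ψ h
    have h1 := congrArg (fun t => t.left ≫ pullback.fst X.hom g) h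
    simp only [Over.pullback_map_left, Over.pullback_obj_left, pullback.lift_fst] at h1
    ext
    exact Groth.Agent.Lead.EtThick.hom_ext_of_surjective (pullback.fst Y.hom g) X.hom φ.left ψ.left h1
      (by rw [Over.w, Over.w])
  · intro ψ
    haveI : UniversallyClosed (pullback.fst Y.hom g) := inferInstance
    haveI : UniversallyInjective (pullback.fst Y.hom g) :=
      MorphismProperty.pullback_fst (P := @UniversallyInjective) Y.hom g ‹_›
    have hψ : ψ.left ≫ pullback.snd X.hom g = pullback.snd Y.hom g := Over.w ψ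
    obtain ⟨φ, hφ1, hφ2⟩ := exists_descent X.hom Y.hom (pullback.fst Y.hom g)
      (ψ.left ≫ pullback.fst X.hom g) (by
        rw [Category.assoc, pullback.condition, ← Category.assoc, hψ, pullback.condition])
    refine ⟨Over.homMk φ hφ1, ?_⟩
    ext
    simp only [Over.pullback_map_left, Over.pullback_obj_left, Over.homMk_left]
    apply pullback.hom_ext
    · rw [pullback.lift_fst, hφ2]
    · rw [pullback.lift_snd, hψ]

end Groth.Agent.Lead.EtBC
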