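import Mathlib
import Groth.Prelude.Def_EtBase
import Groth.Agent.Lead.EtThick

set_option autoImplicit false
universe u

open AlgebraicGeometry CategoryTheory CategoryTheory.Limits Opposite

namespace Groth.Agent.Lead.EtBCFull

theorem bc_map_left_fst {X Y : Scheme.{u}} (f : X ⟶ Y) {V V' : Y.Etale} (a : V ⟶ V') :
    (((EtCoh.bc f).map a).left : pullback V.hom f ⟶ pullback V'.hom f) ≫ pullback.fst V'.hom f =
      pullback.fst V.hom f ≫ a.left := by
  simp only [EtCoh.bc, MorphismProperty.Over.pullback]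
  exact pullback.lift_fst _ _ _

theorem bc_hom_snd {X Y : Scheme.{u}} (f : X ⟶ Y) {V V' : Y.Etale}
    (h : (EtCoh.bc f).obj V ⟶ (EtCoh.bc f).obj V') :
    ((h.left : pullback V.hom f ⟶ pullback V'.hom f) ≫ pullback.snd V'.hom f) = pullback.snd V.hom f :=
  Over.w h.hom

theorem almost_full {Z X : Scheme.{u}} (i : Z ⟶ X) [IsClosedImmersion i] (U U' : X.Etale)
    (h : (EtCoh.bc i).obj U ⟶ (EtCoh.bc i).obj U') :
    ∃ (W : X.Etale) (a : W ⟶ U) (b : W ⟶ U'), IsIso ((EtCoh.bc i).map a) ∧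
      (EtCoh.bc i).map a ≫ h = (EtCoh.bc i).map b := by
  let UZ := pullback U.hom i
  let UZ' := pullback U'.hom i
  let hl : UZ ⟶ UZ' := h.left
  have hhl : hl ≫ pullback.snd U'.hom i = pullback.snd U.hom i := bc_hom_snd i h
  let P := pullback U.hom U'.hom
  let q₁ : P ⟶ U.left := pullback.fst U.hom U'.hom
  let q₂ : P ⟶ U'.left := pullback.snd U.hom U'.hom
  have hq : q₁ ≫ U.hom = q₂ ≫ U'.hom := pullback.condition
  haveI : Etale q₁ := inferInstanceAs (Etale (pullback.fst U.hom U'.hom))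
  let pX : P ⟶ X := q₁ ≫ U.hom
  haveI : Etale pX := inferInstanceAs (Etale (q₁ ≫ U.hom))
  -- graph of h
  have hγc : pullback.fst U.hom i ≫ U.hom = (hl ≫ pullback.fst U'.hom i) ≫ U'.hom := by
    calc pullback.fst U.hom i ≫ U.hom = pullback.snd U.hom i ≫ i := pullback.condition
      _ = (hl ≫ pullback.snd U'.hom i) ≫ i := by rw [hhl]
      _ = hl ≫ pullback.fst U'.hom i ≫ U'.hom := by rw [Category.assoc, pullback.condition]
      _ = (hl ≫ pullback.fst U'.hom i) ≫ U'.hom := (Category.assoc _ _ _).symm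
  let γ : UZ ⟶ P := pullback.lift (pullback.fst U.hom i) (hl ≫ pullback.fst U'.hom i) hγc
  have hγ1 : γ ≫ q₁ = pullback.fst U.hom i := pullback.lift_fst _ _ _
  have hγ2 : γ ≫ q₂ = hl ≫ pullback.fst U'.hom i := pullback.lift_snd _ _ _
  let PZ := pullback pX i
  let iP : PZ ⟶ P := pullback.fst pX i
  haveI : IsClosedImmersion iP := inferInstanceAs (IsClosedImmersion (pullback.fst pX i))
  let sP : PZ ⟶ Z := pullback.snd pX i
  haveI : Etale sP := inferInstanceAs (Etale (pullback.snd pX i))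
  have hPZ : iP ≫ pX = sP ≫ i := pullback.condition
  let γZ : UZ ⟶ PZ := pullback.lift γ (pullback.snd U.hom i) (by
    show γ ≫ q₁ ≫ U.hom = _
    rw [← Category.assoc, hγ1, pullback.condition])
  have hγZ1 : γZ ≫ iP = γ := pullback.lift_fst _ _ _
  have hγZ2 : γZ ≫ sP = pullback.snd U.hom i := pullback.lift_snd _ _ _
  let rZ : PZ ⟶ UZ := pullback.lift (iP ≫ q₁) sP (by rw [Category.assoc]; exact hPZ)
  have hrZ1 : rZ ≫ pullback.fst U.hom i = iP ≫ q₁ := pullback.lift_fst _ _ _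
  have hrZ2 : rZ ≫ pullback.snd U.hom i = sP := pullback.lift_snd _ _ _
  have hγr : γZ ≫ rZ = 𝟙 UZ := by
    apply pullback.hom_ext
    · rw [Category.assoc, hrZ1, ← Category.assoc, hγZ1, hγ1, Category.id_comp]
    · rw [Category.assoc, hrZ2, hγZ2, Category.id_comp]
  haveI : Etale (pullback.snd U.hom i) := inferInstance
  haveI : Etale (rZ ≫ pullback.snd U.hom i) := by rw [hrZ2]; infer_instance
  haveI : Etale rZ := Etale.of_comp rZ (pullback.snd U.hom i)
  haveI : IsOpenImmersion γZ := Groth.Agent.Lead.EtThick.isOpenImmersion_of_section γZ rZ hγr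
  -- the open W
  have hclosed : IsClosed (iP '' (Set.range γZ)ᶜ) :=
    iP.isClosedEmbedding.isClosedMap _ γZ.isOpenEmbedding.isOpen_range.isClosed_compl
  let W : P.Opens := ⟨(iP '' (Set.range γZ)ᶜ)ᶜ, hclosed.isOpen_compl⟩
  have hW : ∀ t : PZ, iP t ∈ W → t ∈ Set.range γZ := by
    intro t ht
    by_contra hn
    exact ht ⟨t, hn, rfl⟩
  let WX : (W : Scheme) ⟶ X := W.ι ≫ pX
  haveI : Etale WX := inferInstanceAs (Etale (W.ι ≫ pX))
  let WE : X.Etale := Scheme.Etale.mk WX
  let a : WE ⟶ U := MorphismProperty.Over.homMk (W.ι ≫ q₁) (Category.assoc _ _ _)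
  let b : WE ⟶ U' := MorphismProperty.Over.homMk (W.ι ≫ q₂)
    ((Category.assoc _ _ _).trans (congrArg (W.ι ≫ ·) hq.symm))
  have hal : a.left = W.ι ≫ q₁ := rfl
  have hbl : b.left = W.ι ≫ q₂ := rfl
  let WZ := pullback WX i
  let al : WZ ⟶ UZ := ((EtCoh.bc i).map a).left
  let bl : WZ ⟶ UZ' := ((EtCoh.bc i).map b).left
  have hal1 : al ≫ pullback.fst U.hom i = pullback.fst WX i ≫ W.ι ≫ q₁ := bc_map_left_fst i a
  have hal2 : al ≫ pullback.snd U.hom i = pullback.snd WX i := bc_hom_snd i ((EtCoh.bc i).map a)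
  have hbl1 : bl ≫ pullback.fst U'.hom i = pullback.fst WX i ≫ W.ι ≫ q₂ := bc_map_left_fst i b
  have hbl2 : bl ≫ pullback.snd U'.hom i = pullback.snd WX i := bc_hom_snd i ((EtCoh.bc i).map b)
  -- ω : WZ → PZ
  let ω : WZ ⟶ PZ := pullback.lift (pullback.fst WX i ≫ W.ι) (pullback.snd WX i) (by
    rw [Category.assoc]; exact pullback.condition)
  have hω1 : ω ≫ iP = pullback.fst WX i ≫ W.ι := pullback.lift_fst _ _ _
  have hω2 : ω ≫ sP = pullback.snd WX i := pullback.lift_snd _ _ _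
  have hωr : Set.range ω ⊆ Set.range γZ := by
    rintro _ ⟨t, rfl⟩
    apply hW
    rw [← Scheme.Hom.comp_apply, hω1, Scheme.Hom.comp_apply]
    exact (pullback.fst WX i t).2
  let ω' : WZ ⟶ UZ := IsOpenImmersion.lift γZ ω hωr
  have hω' : ω' ≫ γZ = ω := IsOpenImmersion.lift_fac _ _ _
  have hω'al : ω' = al := by
    have e1 : ω' = ω ≫ rZ := by rw [← hω', Category.assoc, hγr, Category.comp_id]
    rw [e1]
    apply pullback.hom_ext
    · rw [Category.assoc, hrZ1, ← Category.assoc, hω1, hal1, Category.assoc]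
    · rw [Category.assoc, hrZ2, hω2, hal2]
  -- (※)
  have hkey : al ≫ hl ≫ pullback.fst U'.hom i = pullback.fst WX i ≫ W.ι ≫ q₂ := by
    calc al ≫ hl ≫ pullback.fst U'.hom i = ω' ≫ γ ≫ q₂ := by rw [hω'al, hγ2]
      _ = ω' ≫ (γZ ≫ iP) ≫ q₂ := by rw [hγZ1]
      _ = (ω' ≫ γZ) ≫ iP ≫ q₂ := by simp only [Category.assoc]
      _ = (ω ≫ iP) ≫ q₂ := by rw [hω', Category.assoc]
      _ = pullback.fst WX i ≫ W.ι ≫ q₂ := by rw [hω1, Category.assoc]
  have hcomp : al ≫ hl = bl := by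
    apply pullback.hom_ext
    · rw [Category.assoc, hkey, hbl1]
    · rw [Category.assoc, hhl, hal2, hbl2]
  -- inverse of al
  have hγW : Set.range γ ⊆ Set.range W.ι := by
    rw [Scheme.Opens.range_ι]
    rintro _ ⟨x, rfl⟩
    rintro ⟨t, ht, hte⟩
    apply ht
    refine ⟨x, ?_⟩
    apply iP.isClosedEmbedding.injective
    rw [hte, ← Scheme.Hom.comp_apply, hγZ1]
  let γW : UZ ⟶ W := IsOpenImmersion.lift W.ι γ hγW
  have hγWf : γW ≫ W.ι = γ := IsOpenImmersion.lift_fac _ _ _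
  let s : UZ ⟶ WZ := pullback.lift γW (pullback.snd U.hom i) (by
    show γW ≫ W.ι ≫ q₁ ≫ U.hom = _
    rw [← Category.assoc, hγWf, ← Category.assoc, hγ1, pullback.condition])
  have hs1 : s ≫ pullback.fst WX i = γW := pullback.lift_fst _ _ _
  have hs2 : s ≫ pullback.snd WX i = pullback.snd U.hom i := pullback.lift_snd _ _ _
  have hsal : s ≫ al = 𝟙 UZ := by
    apply pullback.hom_ext
    · rw [Category.assoc, hal1, ← Category.assoc, hs1, ← Category.assoc, hγWf, hγ1, Category.id_comp]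
    · rw [Category.assoc, hal2, hs2, Category.id_comp]
  have hals : al ≫ s = 𝟙 WZ := by
    apply pullback.hom_ext
    · rw [Category.assoc, hs1, Category.id_comp, ← cancel_mono W.ι, Category.assoc, hγWf]
      apply pullback.hom_ext
      · rw [Category.assoc, Category.assoc]
        erw [hγ1]
        rw [hal1]
      · rw [Category.assoc, Category.assoc]
        erw [hγ2]
        rw [hkey]
    · rw [Category.assoc, hs2, hal2, Category.id_comp]
  haveI : IsIso al := ⟨s, hals, hsal⟩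
  refine ⟨WE, a, b, ?_, ?_⟩
  · haveI : IsIso ((Scheme.Etale.forget Z ⋙ Over.forget Z).map ((EtCoh.bc i).map a)) :=
      (show IsIso al from inferInstance)
    exact isIso_of_reflects_iso _ (Scheme.Etale.forget Z ⋙ Over.forget Z)
  · apply MorphismProperty.Over.Hom.ext
    exact hcomp

end Groth.Agent.Lead.EtBCFull
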