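import Mathlib
import Groth.Agent.Lead.EtCMA
import Groth.Agent.Helper7.EtPoly2
import Groth.Agent.S2141
import Groth.Agent.S7771

set_option autoImplicit false
set_option linter.style.haveILetI false
set_option linter.unusedSectionVars false

namespace Groth.Agent.Lead.EtCMB

open IsLocalRing TensorProduct Algebra

universe u

section M0

variable (k : Type u) [Field k] (n : ℕ)

/-- the ideal `(X_1, …, X_n)` of the polynomial ring is the kernel of the constant coefficient -/
theorem span_X_eq_ker :
    Ideal.span (Set.range (MvPolynomial.X : Fin n → MvPolynomial (Fin n) k)) =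
      RingHom.ker (MvPolynomial.constantCoeff : MvPolynomial (Fin n) k →+* k) := by
  ext f
  rw [← Set.image_univ, MvPolynomial.mem_ideal_span_X_image, RingHom.mem_ker,
    MvPolynomial.constantCoeff_eq]
  constructor
  · intro h
    by_contra hne
    have h0 : (0 : Fin n →₀ ℕ) ∈ f.support := MvPolynomial.mem_support_iff.2 hne
    obtain ⟨i, -, hi⟩ := h 0 h0
    exact hi rfl
  · intro h m hm
    by_contra hcon
    push Not at hcon
    have : m = 0 := by
      ext i
      exact hcon i (Set.mem_univ i)
    subst this
    exact (MvPolynomial.mem_support_iff.1 hm) h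

theorem span_X_isMaximal :
    (Ideal.span (Set.range (MvPolynomial.X : Fin n → MvPolynomial (Fin n) k))).IsMaximal := by
  rw [span_X_eq_ker]
  apply RingHom.ker_isMaximal_of_surjective
  intro c
  exact ⟨MvPolynomial.C c, MvPolynomial.constantCoeff_C _ c⟩

end M0

end Groth.Agent.Lead.EtCMB

namespace Groth.Agent.Lead.EtCMB

open IsLocalRing TensorProduct Algebra

universe u

theorem main (k A : Type u) [Field k] [CommRing A] [Algebra k A]
    [Algebra.FiniteType k A] (n : ℕ) [Algebra (MvPolynomial (Fin n) k) A]
    [IsScalarTower k (MvPolynomial (Fin n) k) A] (p : Ideal A) [p.IsPrime]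
    (hn : FlatMor.localDim (PrimeSpectrum A) ⟨p, inferInstance⟩ = (n : WithBot ℕ∞))
    [Module.Finite k p.ResidueField] [Algebra.IsSeparable k p.ResidueField]
    (hg : ∀ i : Fin n, algebraMap (MvPolynomial (Fin n) k) A (MvPolynomial.X i) ∈ p) :
    Algebra.IsEtaleAt (MvPolynomial (Fin n) k) p ↔
      Ideal.span (Set.range fun i : Fin n =>
        algebraMap A (Localization.AtPrime p)
          (algebraMap (MvPolynomial (Fin n) k) A (MvPolynomial.X i))) =
        IsLocalRing.maximalIdeal (Localization.AtPrime p) := by
  haveI : Algebra.FiniteType (MvPolynomial (Fin n) k) A :=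
    Algebra.FiniteType.of_restrictScalars_finiteType k (MvPolynomial (Fin n) k) A
  haveI : IsNoetherianRing A := Algebra.FiniteType.isNoetherianRing k A
  haveI : p.LiesOver (p.under (MvPolynomial (Fin n) k)) := ⟨rfl⟩
  letI := Localization.AtPrime.algebraOfLiesOver (p.under (MvPolynomial (Fin n) k)) p
  letI := Localization.AtPrime.algebraOfLiesOver (p.under (MvPolynomial (Fin n) k)) p
  -- the contraction of `p` is `(X_1, …, X_n)`
  have hp0 : p.under (MvPolynomial (Fin n) k) =
      Ideal.span (Set.range (MvPolynomial.X : Fin n → MvPolynomial (Fin n) k)) := by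
    symm
    apply (span_X_isMaximal k n).eq_of_le (Ideal.IsPrime.ne_top inferInstance)
    rw [Ideal.span_le]
    rintro _ ⟨i, rfl⟩
    exact hg i
  have hpmax : (p.under (MvPolynomial (Fin n) k)).IsMaximal := hp0 ▸ span_X_isMaximal k n
  have hmapspan : (p.under (MvPolynomial (Fin n) k)).map
      (algebraMap (MvPolynomial (Fin n) k) (Localization.AtPrime p)) =
      Ideal.span (Set.range fun i : Fin n =>
        algebraMap A (Localization.AtPrime p)
          (algebraMap (MvPolynomial (Fin n) k) A (MvPolynomial.X i))) := by
    rw [hp0, Ideal.map_span, ← Set.range_comp]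
    congr 2
  -- dimension of the local ring
  haveI : Algebra.IsAlgebraic k p.ResidueField := Algebra.IsAlgebraic.of_finite k _
  have hdimA : ringKrullDim (Localization.AtPrime p) = n := by
    have h := Groth.Agent.S2141.result (k := k) p 0 (by
      rw [trdeg_eq_zero]; rfl)
    rw [hn] at h
    simpa using h.symm
  constructor
  · intro h
    haveI : Algebra.IsUnramifiedAt (MvPolynomial (Fin n) k) p :=
      (FormallyEtale.iff_formallyUnramified_and_formallySmooth.1 h).1
    have := ((Algebra.isUnramifiedAt_iff_map_eq (MvPolynomial (Fin n) k)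
      (p.under (MvPolynomial (Fin n) k)) p).1 inferInstance).2
    rw [← hmapspan, this]
  · intro h
    have hmap : (p.under (MvPolynomial (Fin n) k)).map
        (algebraMap (MvPolynomial (Fin n) k) (Localization.AtPrime p)) = maximalIdeal _ := by
      rw [hmapspan, h]
    haveI hsep : Algebra.IsSeparable (p.under (MvPolynomial (Fin n) k)).ResidueField
        p.ResidueField :=
      Algebra.isSeparable_tower_top_of_isSeparable k _ _
    haveI : Algebra.IsUnramifiedAt (MvPolynomial (Fin n) k) p :=
      (Algebra.isUnramifiedAt_iff_map_eq (MvPolynomial (Fin n) k)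
        (p.under (MvPolynomial (Fin n) k)) p).2 ⟨hsep, hmap⟩
    haveI : IsRegularRing (MvPolynomial (Fin n) k) := inferInstance
    haveI hregR : IsRegularLocalRing (Localization.AtPrime (p.under (MvPolynomial (Fin n) k))) :=
      IsRegularRing.isRegularLocalRing_localization _
    have hdimR : ringKrullDim (Localization.AtPrime (p.under (MvPolynomial (Fin n) k))) = n := by
      rw [IsLocalization.AtPrime.ringKrullDim_eq_height (p.under (MvPolynomial (Fin n) k)),
        Groth.Agent.Helper5.FtDim.height_of_isMaximal_mvPolynomial k n _ hpmax]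
      rfl
    haveI : IsNoetherianRing (Localization.AtPrime p) :=
      IsLocalization.isNoetherianRing p.primeCompl _ inferInstance
    haveI hreg : IsRegularLocalRing (Localization.AtPrime p) := by
      apply IsRegularLocalRing.of_spanFinrank_maximalIdeal_le
      rw [hdimA, ← h]
      have h1 := Submodule.spanFinrank_span_le_ncard_of_finite (R := Localization.AtPrime p)
        (Set.finite_range fun i : Fin n =>
          algebraMap A (Localization.AtPrime p)
            (algebraMap (MvPolynomial (Fin n) k) A (MvPolynomial.X i)))
      have h2 : (Set.range fun i : Fin n =>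
          algebraMap A (Localization.AtPrime p)
            (algebraMap (MvPolynomial (Fin n) k) A (MvPolynomial.X i))).ncard ≤ n := by
        rw [← Set.image_univ]
        refine (Set.ncard_image_le (Set.finite_univ)).trans ?_
        simp [Set.ncard_univ]
      exact_mod_cast h1.trans h2
    haveI : LocCoh.IsCohenMacaulayLocalRing (Localization.AtPrime p) :=
      ⟨Groth.Agent.Helper2.RegCM.cm_of_isRegularLocalRing _⟩
    exact Groth.Agent.S7771.result (MvPolynomial (Fin n) k) A p (by rw [hdimR, hdimA])

end Groth.Agent.Lead.EtCMB
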