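import Mathlib
import Groth.Agent.Lead.EtChartA

/-!
# Étale charts adapted to a section: the scheme part
-/

set_option autoImplicit false
universe u
open CategoryTheory CategoryTheory.Limits AlgebraicGeometry TopologicalSpace MvPolynomial

namespace Groth.Agent.Lead.EtChartB

set_option backward.defeqAttrib.useBackward true in
set_option backward.isDefEq.respectTransparency false in
theorem exists_stdSmooth_chart {X Y : Scheme.{u}} (f : X ⟶ Y) [LocallyOfFinitePresentation f]
    (x : X) (H : (f.stalkMap x).hom.FormallySmooth) :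
    ∃ (U : Y.Opens) (_ : IsAffineOpen U) (V : X.Opens) (_ : IsAffineOpen V) (hVU : V ≤ f ⁻¹ᵁ U),
      x ∈ V ∧ (f.appLE U V hVU).hom.IsStandardSmooth := by
  obtain ⟨_, ⟨U, hU, rfl⟩, hxU, -⟩ :=
    Y.isBasis_affineOpens.exists_subset_of_mem_open (Set.mem_univ (f x)) isOpen_univ
  obtain ⟨_, ⟨V, hV, rfl⟩, hxV, hVU⟩ :=
    X.isBasis_affineOpens.exists_subset_of_mem_open hxU (U.2.preimage f.continuous)
  have := f.finitePresentation_appLE hU hV hVU
  algebraize [(f.appLE U V hVU).hom]
  have : Algebra.IsSmoothAt _ _ := (formallySmooth_stalkMap_iff U hU V hV hVU hxV).mp H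
  obtain ⟨r, hrx, hr⟩ := Algebra.IsSmoothAt.exists_notMem_isStandardSmooth Γ(Y, U)
    (hV.primeIdealOf ⟨x, hxV⟩).asIdeal
  refine ⟨_, hU, _, hV.basicOpen r, (X.basicOpen_le r).trans hVU, ?_, ?_⟩
  · rwa [← PrimeSpectrum.mem_basicOpen, IsAffineOpen.primeIdealOf,
      ← hV.fromSpec_preimage_basicOpen, Scheme.Hom.mem_preimage, ← Scheme.Hom.comp_apply,
      IsAffineOpen.isoSpec_hom, IsAffineOpen.toSpecΓ_fromSpec] at hrx
  · have := hV.isLocalization_basicOpen r
    rw [← RingHom.isStandardSmooth_algebraMap] at hr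
    convert!
      RingHom.isStandardSmooth_respectsIso.1 _
        (IsLocalization.algEquiv (.powers r) _ Γ(X, X.basicOpen r)).toRingEquiv hr
    ext
    dsimp
    simp only [IsScalarTower.algebraMap_apply Γ(Y, U) Γ(X, V) (Localization _),
      IsLocalization.map_eq]
    simp only [RingHom.algebraMap_toAlgebra, RingHomCompTriple.comp_apply, ← ConcreteCategory.comp_apply,
      Scheme.Hom.appLE_map]

/-- the forward direction: a point of the section in the smooth locus has an étale chart to affine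
space carrying the section to the zero section. -/
theorem exists_chart {X Y : Scheme.{u}} (f : X ⟶ Y) [LocallyOfFinitePresentation f] (i : Y ⟶ X)
    (hi : i ≫ f = 𝟙 Y) (y : Y) (h : i y ∈ f.smoothLocus) :
    ∃ (U : Y.Opens) (V : X.Opens) (_ : y ∈ U) (hUV : U ≤ i ⁻¹ᵁ V) (hVU : V ≤ f ⁻¹ᵁ U) (m : ℕ)
        (v : ULift.{u} (Fin m) → Γ(V, ⊤)),
        Etale (AffineSpace.homOfVector (f.resLE U V hVU) v) ∧
          ∀ j, (i.resLE V U hUV).appTop (v j) = 0 := by
  obtain ⟨U₀, hU₀, V₀, hV₀, e₀, hx, hss⟩ := exists_stdSmooth_chart f (i y) h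
  obtain ⟨U, hU, V, e, e', hyU, hP⟩ := SecRegB.glue f i (P := RingHom.IsStandardSmooth)
    RingHom.isStandardSmooth_localizationPreserves hi y hU₀ hV₀ hx e₀ hss
  set φ := (f.appLE U V.1 e).hom with hφ
  set s := (i.appLE V.1 U e').hom with hs
  have hsφ : s.comp φ = RingHom.id _ := by
    rw [hs, hφ, ← CommRingCat.hom_comp, Scheme.Hom.appLE_comp_appLE,
      SecRegB.appLE_id_of_eq _ hi]
    rfl
  obtain ⟨n, g, hgC, hge, hgs⟩ := EtChartA.exists_coords φ hP s hsφ
  have hgC' : ∀ c, g (C c) = φ c := fun c => RingHom.congr_fun hgC c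
  refine ⟨U, V.1, hyU, e', e, n, fun j => V.1.topIso.inv.hom (g (MvPolynomial.X j.down)), ?_, ?_⟩
  · haveI : IsAffine ↑U := hU
    haveI : IsAffine ↑V.1 := V.2
    rw [EtChartA.etale_homOfVector_iff]
    set ρ : MvPolynomial (ULift.{u} (Fin n)) Γ(Y, U) →+* MvPolynomial (Fin n) Γ(Y, U) :=
      (rename ULift.down : MvPolynomial (ULift.{u} (Fin n)) Γ(Y, U) →ₐ[Γ(Y, U)]
        MvPolynomial (Fin n) Γ(Y, U)).toRingHom with hρ
    have hρC : ∀ a, ρ (C a) = C a := fun a => rename_C _ _
    have hρX : ∀ j, ρ (MvPolynomial.X j) = MvPolynomial.X j.down := fun j => rename_X _ _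
    have hρb : Function.Bijective ρ :=
      (renameEquiv Γ(Y, U) (Equiv.ulift.{u} (α := Fin n))).bijective
    set μ : MvPolynomial (ULift.{u} (Fin n)) Γ(↑U, ⊤) →+* MvPolynomial (ULift.{u} (Fin n)) Γ(Y, U) :=
      MvPolynomial.map U.topIso.hom.hom with hμ
    have hμb : Function.Bijective μ :=
      ⟨map_injective _ (ConcreteCategory.bijective_of_isIso U.topIso.hom).1,
        map_surjective _ (ConcreteCategory.bijective_of_isIso U.topIso.hom).2⟩
    have hE : eval₂Hom (f.resLE U V.1 e).appTop.hom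
        (fun j : ULift.{u} (Fin n) => V.1.topIso.inv.hom (g (MvPolynomial.X j.down))) =
        V.1.topIso.inv.hom.comp (g.comp (ρ.comp μ)) := by
      apply MvPolynomial.ringHom_ext
      · intro a
        rw [coe_eval₂Hom, eval₂_C, RingHom.comp_apply, RingHom.comp_apply, RingHom.comp_apply,
          hμ, map_C, hρC, hgC']
        have h3 : (f.resLE U V.1 e).appTop = U.topIso.hom ≫ f.appLE U V.1 e ≫ V.1.topIso.inv :=
          Scheme.Hom.resLE_app_top f e
        rw [h3]
        rfl
      · intro j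
        rw [coe_eval₂Hom, eval₂_X, RingHom.comp_apply, RingHom.comp_apply, RingHom.comp_apply,
          hμ, map_X, hρX]
    rw [hE]
    refine RingHom.Etale.stableUnderComposition _ _ ?_ (RingHom.Etale.of_bijective
      (ConcreteCategory.bijective_of_isIso V.1.topIso.inv))
    refine RingHom.Etale.stableUnderComposition _ _ ?_ hge
    exact RingHom.Etale.stableUnderComposition _ _ (RingHom.Etale.of_bijective hμb)
      (RingHom.Etale.of_bijective hρb)
  · intro j
    have h3 : (i.resLE V.1 U e').appTop = V.1.topIso.hom ≫ i.appLE V.1 U e' ≫ U.topIso.inv :=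
      Scheme.Hom.resLE_app_top i e'
    rw [h3]
    show U.topIso.inv.hom ((i.appLE V.1 U e').hom (V.1.topIso.hom.hom
      (V.1.topIso.inv.hom (g (MvPolynomial.X j.down))))) = 0
    have h4 : V.1.topIso.hom.hom (V.1.topIso.inv.hom (g (MvPolynomial.X j.down))) =
        g (MvPolynomial.X j.down) := by
      rw [← RingHom.comp_apply, ← CommRingCat.hom_comp, Iso.inv_hom_id]
      rfl
    rw [h4]
    have h5 : (i.appLE V.1 U e').hom (g (MvPolynomial.X j.down)) = 0 := hgs j.down
    rw [h5, map_zero]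

end Groth.Agent.Lead.EtChartB
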