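import Mathlib
import Groth.Prelude.Def_Desc
import Groth.Agent.Lead.DescDD
import Groth.Agent.Lead.EtBC

set_option autoImplicit false
universe u

namespace Groth.Agent.Lead.EtDescSub

open AlgebraicGeometry CategoryTheory CategoryTheory.Limits MorphismProperty

instance descendsAlong_univInj_surj : DescendsAlong @UniversallyInjective.{u} @Surjective.{u} := by
  rw [universallyInjective_eq_diagonal]
  infer_instance

/-- an étale morphism which becomes an isomorphism after a surjective base change is an isomorphism -/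
theorem isIso_of_pullback_fst_isIso {X Y Z : Scheme.{u}} (f : X ⟶ Z) (g : Y ⟶ Z) [Surjective f]
    [Etale g] [IsIso (pullback.fst f g)] : IsIso g := by
  haveI : UniversallyInjective g :=
    of_pullback_fst_of_descendsAlong (P := @UniversallyInjective) (Q := @Surjective) (f := f) (g := g)
      ‹_› inferInstance
  haveI : Surjective g :=
    of_pullback_fst_of_descendsAlong (P := @Surjective) (Q := @Surjective) (f := f) (g := g)
      ‹_› inferInstance
  exact Groth.Agent.Lead.EtBC.isIso_of_etale_univInj_surj g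

/-- the second component of a morphism of canonical descent data is constant along the fibres of
`X ×_S U ⟶ U` -/
theorem toDD_hom_const {X S : Scheme.{u}} (p : X ⟶ S) {U U' : Over S}
    (ψ : (Desc.toDD p).obj U ⟶ (Desc.toDD p).obj U') {Z : Scheme.{u}}
    (a₀ a₁ : Z ⟶ pullback p U.hom) (ha : a₀ ≫ pullback.snd p U.hom = a₁ ≫ pullback.snd p U.hom) :
    a₀ ≫ (ψ.hom.left : pullback p U.hom ⟶ pullback p U'.hom) ≫ pullback.snd p U'.hom =
      a₁ ≫ (ψ.hom.left : pullback p U.hom ⟶ pullback p U'.hom) ≫ pullback.snd p U'.hom := by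
  let ψl : pullback p U.hom ⟶ pullback p U'.hom := ψ.hom.left
  have hψ1 : ψl ≫ pullback.fst p U'.hom = pullback.fst p U.hom := Over.w ψ.hom
  have hx : (a₀ ≫ pullback.fst p U.hom) ≫ p = (a₁ ≫ pullback.fst p U.hom) ≫ p := by
    rw [Category.assoc, Category.assoc, pullback.condition, ← Category.assoc, ← Category.assoc]
    exact congrArg (· ≫ U.hom) ha
  let v : Desc.Lifts ((Desc.toDD p).obj U).obj (a₀ ≫ pullback.fst p U.hom) := ⟨a₀, rfl⟩
  let w : Desc.Lifts ((Desc.toDD p).obj U').obj (a₀ ≫ pullback.fst p U.hom) :=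
    ⟨a₀ ≫ ψl, by
      show (a₀ ≫ ψl) ≫ pullback.fst p U'.hom = _
      rw [Category.assoc, hψ1]⟩
  have hc : (((Desc.toDD p).obj U').φ (a₀ ≫ pullback.fst p U.hom)
      (a₁ ≫ pullback.fst p U.hom) hx w).1 = (((Desc.toDD p).obj U).φ (a₀ ≫ pullback.fst p U.hom)
      (a₁ ≫ pullback.fst p U.hom) hx v).1 ≫ ψl :=
    ψ.comm (a₀ ≫ pullback.fst p U.hom) (a₁ ≫ pullback.fst p U.hom) hx v w rfl
  have hv : (((Desc.toDD p).obj U).φ (a₀ ≫ pullback.fst p U.hom)
      (a₁ ≫ pullback.fst p U.hom) hx v).1 = a₁ := by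
    show pullback.lift _ _ _ = a₁
    apply pullback.hom_ext
    · rw [pullback.lift_fst]
    · rw [pullback.lift_snd]; exact ha
  rw [hv] at hc
  have hw : (((Desc.toDD p).obj U').φ (a₀ ≫ pullback.fst p U.hom)
      (a₁ ≫ pullback.fst p U.hom) hx w).1 ≫ pullback.snd p U'.hom =
      (a₀ ≫ ψl) ≫ pullback.snd p U'.hom := by
    show pullback.lift _ _ _ ≫ _ = _
    rw [pullback.lift_snd]
    rfl
  rw [hc] at hw
  show a₀ ≫ ψl ≫ _ = a₁ ≫ ψl ≫ _
  simp only [← Category.assoc]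
  exact hw.symm

theorem toDD_map_surjective {X S : Scheme.{u}} (p : X ⟶ S)
    (hp : ∀ U : Over S, Etale U.hom → Topology.IsQuotientMap (pullback.snd p U.hom).base) (U₁ U₂ : Over S)
    [Etale U₁.hom] [Etale U₂.hom] : Function.Surjective ((Desc.toDD p).map : (U₁ ⟶ U₂) → _) := by
  intro ψ
  let X₁ := pullback p U₁.hom
  let π₁ : X₁ ⟶ U₁.left := pullback.snd p U₁.hom
  let f₁ : X₁ ⟶ X := pullback.fst p U₁.hom
  have hπ₁ : Function.Surjective π₁ := (hp U₁ inferInstance).surjective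
  haveI : Surjective π₁ := ⟨hπ₁⟩
  let ψl : X₁ ⟶ pullback p U₂.hom := ψ.hom.left
  have hψ1 : ψl ≫ pullback.fst p U₂.hom = f₁ := Over.w ψ.hom
  let a : X₁ ⟶ U₂.left := ψl ≫ pullback.snd p U₂.hom
  have hconst : ∀ {Z : Scheme.{u}} (a₀ a₁ : Z ⟶ X₁), a₀ ≫ π₁ = a₁ ≫ π₁ → a₀ ≫ a = a₁ ≫ a :=
    fun a₀ a₁ h => toDD_hom_const p ψ a₀ a₁ h
  have ha : a ≫ U₂.hom = π₁ ≫ U₁.hom := by
    simp only [a, π₁, Category.assoc]
    rw [← pullback.condition, ← Category.assoc, hψ1, pullback.condition]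
  -- the product `P = U₁ ×_S U₂`
  let P := pullback U₁.hom U₂.hom
  let q₁ : P ⟶ U₁.left := pullback.fst U₁.hom U₂.hom
  let q₂ : P ⟶ U₂.left := pullback.snd U₁.hom U₂.hom
  haveI : Etale q₁ := inferInstanceAs (Etale (pullback.fst U₁.hom U₂.hom))
  let PS : Over S := Over.mk (q₁ ≫ U₁.hom)
  haveI : Etale PS.hom := inferInstanceAs (Etale (q₁ ≫ U₁.hom))
  let b : X₁ ⟶ P := pullback.lift π₁ a ha.symm
  have hb1 : b ≫ q₁ = π₁ := pullback.lift_fst _ _ _
  have hb2 : b ≫ q₂ = a := pullback.lift_snd _ _ _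
  let XP := pullback p PS.hom
  let πP : XP ⟶ P := pullback.snd p PS.hom
  let fP : XP ⟶ X := pullback.fst p PS.hom
  have hcP : fP ≫ p = πP ≫ q₁ ≫ U₁.hom := pullback.condition
  have hπP : Topology.IsQuotientMap πP := hp PS inferInstance
  -- the section σ
  let σ : X₁ ⟶ XP := pullback.lift f₁ b (by
    show f₁ ≫ p = b ≫ q₁ ≫ U₁.hom
    rw [← Category.assoc, hb1]; exact pullback.condition)
  have hσ1 : σ ≫ fP = f₁ := pullback.lift_fst _ _ _
  have hσ2 : σ ≫ πP = b := pullback.lift_snd _ _ _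
  -- the étale retraction of σ
  let r : XP ⟶ X₁ := pullback.lift fP (πP ≫ q₁) (by rw [hcP, Category.assoc])
  have hr1 : r ≫ f₁ = fP := pullback.lift_fst _ _ _
  have hr2 : r ≫ π₁ = πP ≫ q₁ := pullback.lift_snd _ _ _
  have hσr : σ ≫ r = 𝟙 X₁ := by
    apply pullback.hom_ext
    · rw [Category.assoc]; erw [hr1]; rw [hσ1]; exact (Category.id_comp _).symm
    · rw [Category.assoc]; erw [hr2]; rw [← Category.assoc, hσ2, hb1]; exact (Category.id_comp _).symm
  haveI : Etale f₁ := inferInstanceAs (Etale (pullback.fst p U₁.hom))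
  haveI : Etale fP := inferInstanceAs (Etale (pullback.fst p PS.hom))
  haveI : Etale (r ≫ f₁) := by rw [hr1]; infer_instance
  haveI : Etale r := Etale.of_comp r f₁
  haveI : IsOpenImmersion σ := Groth.Agent.Lead.EtThick.isOpenImmersion_of_section σ r hσr
  -- key factorization (★)
  have star : ∀ {T : Scheme.{u}} (w : T ⟶ XP) (z : T ⟶ X₁), w ≫ πP = z ≫ b →
      ∃ z' : T ⟶ X₁, z' ≫ σ = w := by
    intro T w z hwz
    have hu1 : (w ≫ fP) ≫ p = (z ≫ π₁) ≫ U₁.hom := by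
      rw [Category.assoc, hcP, ← Category.assoc, hwz, Category.assoc, ← Category.assoc b, hb1,
        Category.assoc]
    let z' : T ⟶ X₁ := pullback.lift (w ≫ fP) (z ≫ π₁) hu1
    have hz'1 : z' ≫ f₁ = w ≫ fP := pullback.lift_fst _ _ _
    have hz'2 : z' ≫ π₁ = z ≫ π₁ := pullback.lift_snd _ _ _
    have hz'a : z' ≫ a = z ≫ a := hconst z' z hz'2
    refine ⟨z', ?_⟩
    apply pullback.hom_ext
    · rw [Category.assoc]; erw [hσ1]; exact hz'1
    · rw [Category.assoc]; erw [hσ2]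
      show z' ≫ b = w ≫ πP
      rw [hwz]
      apply pullback.hom_ext
      · rw [Category.assoc, Category.assoc]; erw [hb1]; exact hz'2
      · rw [Category.assoc, Category.assoc]; erw [hb2]; exact hz'a
  -- saturation
  have hsat : πP ⁻¹' (Set.range b) = Set.range σ := by
    apply Set.Subset.antisymm
    · rintro w ⟨z, hz⟩
      obtain ⟨t, ht1, ht2⟩ := Scheme.Pullback.exists_preimage_pullback (f := πP) (g := b) w z hz.symm
      obtain ⟨z', hz'⟩ := star (pullback.fst πP b) (pullback.snd πP b) pullback.condition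
      refine ⟨z' t, ?_⟩
      rw [← Scheme.Hom.comp_apply, hz', ht1]
    · rintro _ ⟨z, rfl⟩
      refine ⟨z, ?_⟩
      rw [← Scheme.Hom.comp_apply, hσ2]
  have hopen : IsOpen (Set.range b) := by
    rw [← hπP.isOpen_preimage, hsat]
    exact σ.isOpenEmbedding.isOpen_range
  let Γ : P.Opens := ⟨Set.range b, hopen⟩
  have hsub : Set.range b ⊆ Set.range Γ.ι := by
    rw [Scheme.Opens.range_ι]; exact le_rfl
  let k₀ : X₁ ⟶ Γ := IsOpenImmersion.lift Γ.ι b hsub
  have hk₀ : k₀ ≫ Γ.ι = b := IsOpenImmersion.lift_fac _ _ _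
  let pΓ : (Γ : Scheme) ⟶ U₁.left := Γ.ι ≫ q₁
  have hkp : k₀ ≫ pΓ = π₁ := by
    simp only [pΓ]; rw [← Category.assoc, hk₀, hb1]
  haveI : Etale pΓ := inferInstanceAs (Etale (Γ.ι ≫ q₁))
  -- the base change of pΓ along π₁ is an isomorphism
  have hkey : ∀ {T : Scheme.{u}} (z : T ⟶ X₁) (γ : T ⟶ Γ), z ≫ π₁ = γ ≫ pΓ → γ = z ≫ k₀ := by
    intro T z γ hzγ
    have hc : (z ≫ f₁) ≫ p = (γ ≫ Γ.ι) ≫ q₁ ≫ U₁.hom := by
      rw [Category.assoc, Category.assoc]
      have : f₁ ≫ p = π₁ ≫ U₁.hom := pullback.condition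
      rw [this, ← Category.assoc, hzγ]
      simp only [pΓ, Category.assoc]
    let w : T ⟶ XP := pullback.lift (z ≫ f₁) (γ ≫ Γ.ι) hc
    have hw1 : w ≫ fP = z ≫ f₁ := pullback.lift_fst _ _ _
    have hw2 : w ≫ πP = γ ≫ Γ.ι := pullback.lift_snd _ _ _
    have hwr : Set.range w ⊆ Set.range σ := by
      rw [← hsat]
      rintro _ ⟨t, rfl⟩
      show πP (w t) ∈ Set.range b
      rw [← Scheme.Hom.comp_apply, hw2, Scheme.Hom.comp_apply]
      exact (γ t).2
    let z' : T ⟶ X₁ := IsOpenImmersion.lift σ w hwr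
    have hz' : z' ≫ σ = w := IsOpenImmersion.lift_fac _ _ _
    have hz'b : z' ≫ b = γ ≫ Γ.ι := by rw [← hσ2, ← Category.assoc, hz', hw2]
    have hzz : z' = z := by
      apply pullback.hom_ext
      · show z' ≫ f₁ = z ≫ f₁
        calc z' ≫ f₁ = z' ≫ σ ≫ fP := by rw [hσ1]
          _ = w ≫ fP := by rw [← Category.assoc, hz']
          _ = z ≫ f₁ := hw1
      · show z' ≫ π₁ = z ≫ π₁
        calc z' ≫ π₁ = z' ≫ b ≫ q₁ := by rw [hb1]
          _ = (γ ≫ Γ.ι) ≫ q₁ := by rw [← Category.assoc, hz'b]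
          _ = γ ≫ pΓ := by simp only [pΓ, Category.assoc]
          _ = z ≫ π₁ := hzγ.symm
    rw [← cancel_mono Γ.ι, Category.assoc, hk₀, ← hz'b, hzz]
  haveI : IsIso (pullback.fst π₁ pΓ) := by
    refine ⟨pullback.lift (𝟙 X₁) k₀ (by rw [Category.id_comp, hkp]), ?_, pullback.lift_fst _ _ _⟩
    apply pullback.hom_ext
    · rw [Category.assoc, pullback.lift_fst, Category.comp_id, Category.id_comp]
    · rw [Category.assoc, pullback.lift_snd, Category.id_comp]
      exact (hkey _ _ pullback.condition).symm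
  haveI : IsIso pΓ := isIso_of_pullback_fst_isIso π₁ pΓ
  let g : U₁.left ⟶ U₂.left := inv pΓ ≫ Γ.ι ≫ q₂
  have hg : π₁ ≫ g = a := by
    simp only [g]
    rw [← hkp, Category.assoc, IsIso.hom_inv_id_assoc, ← Category.assoc, hk₀, hb2]
  have hgS : g ≫ U₂.hom = U₁.hom := by
    simp only [g, Category.assoc]
    have : q₂ ≫ U₂.hom = q₁ ≫ U₁.hom := pullback.condition.symm
    rw [this, ← Category.assoc Γ.ι]
    show inv pΓ ≫ pΓ ≫ U₁.hom = U₁.hom
    rw [IsIso.inv_hom_id_assoc]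
  refine ⟨Over.homMk g hgS, ?_⟩
  apply Desc.SchDD.hom_ext
  ext
  show ((Desc.toDD p).map (Over.homMk g hgS : U₁ ⟶ U₂)).hom.left = ψl
  apply pullback.hom_ext
  · exact (Groth.Agent.Lead.toDD_map_fst p _).trans hψ1.symm
  · exact (Groth.Agent.Lead.toDD_map_snd p _).trans hg

end Groth.Agent.Lead.EtDescSub
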