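import Mathlib
import Groth.Agent.Lead.EtDescSub

set_option autoImplicit false
universe u

namespace Groth.Agent.Lead.EtDescGen

open AlgebraicGeometry CategoryTheory CategoryTheory.Limits MorphismProperty

/-- General descent of morphisms to an étale scheme along a submersive morphism `π : X' ⟶ X`:
a morphism `a : X' ⟶ Y` over `S` which is constant along the fibres of `π` descends to `X`, provided
the base change of `π` to `X ×_S Y` is a quotient map. -/
theorem exists_descent {S X X' Y : Scheme.{u}} (p : X ⟶ S) (q : Y ⟶ S) [Etale q] (π : X' ⟶ X)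
    [Surjective π]
    (hquot : Topology.IsQuotientMap (pullback.snd π (pullback.fst p q)))
    (a : X' ⟶ Y) (ha : a ≫ q = π ≫ p)
    (hconst : ∀ {T : Scheme.{u}} (a₀ a₁ : T ⟶ X'), a₀ ≫ π = a₁ ≫ π → a₀ ≫ a = a₁ ≫ a) :
    ∃ u : X ⟶ Y, u ≫ q = p ∧ π ≫ u = a := by
  let P := pullback p q
  let q₁ : P ⟶ X := pullback.fst p q
  let q₂ : P ⟶ Y := pullback.snd p q
  haveI : Etale q₁ := inferInstanceAs (Etale (pullback.fst p q))
  let b : X' ⟶ P := pullback.lift π a ha.symm
  have hb1 : b ≫ q₁ = π := pullback.lift_fst _ _ _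
  have hb2 : b ≫ q₂ = a := pullback.lift_snd _ _ _
  let XP := pullback π q₁
  let πP : XP ⟶ P := pullback.snd π q₁
  let r : XP ⟶ X' := pullback.fst π q₁
  haveI : Etale r := inferInstanceAs (Etale (pullback.fst π q₁))
  have hrπ : r ≫ π = πP ≫ q₁ := pullback.condition
  let σ : X' ⟶ XP := pullback.lift (𝟙 X') b (by rw [Category.id_comp, hb1])
  have hσ1 : σ ≫ r = 𝟙 X' := pullback.lift_fst _ _ _
  have hσ2 : σ ≫ πP = b := pullback.lift_snd _ _ _
  haveI : IsOpenImmersion σ := Groth.Agent.Lead.EtThick.isOpenImmersion_of_section σ r hσ1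
  have star : ∀ {T : Scheme.{u}} (w : T ⟶ XP) (z : T ⟶ X'), w ≫ πP = z ≫ b →
      (w ≫ r) ≫ σ = w := by
    intro T w z hwz
    have h1 : (w ≫ r) ≫ π = z ≫ π := by
      rw [Category.assoc, hrπ, ← Category.assoc, hwz, Category.assoc, hb1]
    have h2 : (w ≫ r) ≫ a = z ≫ a := hconst _ _ h1
    apply pullback.hom_ext
    · rw [Category.assoc]; erw [hσ1]; rw [Category.comp_id]
    · rw [Category.assoc]; erw [hσ2]
      show (w ≫ r) ≫ b = w ≫ πP
      rw [hwz]
      apply pullback.hom_ext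
      · have e1 : (z ≫ b) ≫ pullback.fst p q = z ≫ π := by rw [Category.assoc]; erw [hb1]
        rw [e1, Category.assoc, Category.assoc]; erw [hb1]; rw [Category.assoc] at h1; exact h1
      · have e2 : (z ≫ b) ≫ pullback.snd p q = z ≫ a := by rw [Category.assoc]; erw [hb2]
        rw [e2, Category.assoc, Category.assoc]; erw [hb2]; rw [Category.assoc] at h2; exact h2
  have hsat : πP ⁻¹' (Set.range b) = Set.range σ := by
    apply Set.Subset.antisymm
    · rintro w ⟨z, hz⟩
      obtain ⟨t, ht1, ht2⟩ := Scheme.Pullback.exists_preimage_pullback (f := πP) (g := b) w z hz.symm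
      have hz' := star (pullback.fst πP b) (pullback.snd πP b) pullback.condition
      refine ⟨(pullback.fst πP b ≫ r) t, ?_⟩
      rw [← Scheme.Hom.comp_apply, hz', ht1]
    · rintro _ ⟨z, rfl⟩
      refine ⟨z, ?_⟩
      rw [← Scheme.Hom.comp_apply, hσ2]
  have hopen : IsOpen (Set.range b) := by
    rw [← hquot.isOpen_preimage, hsat]
    exact σ.isOpenEmbedding.isOpen_range
  let Γ : P.Opens := ⟨Set.range b, hopen⟩
  have hsub : Set.range b ⊆ Set.range Γ.ι := by
    rw [Scheme.Opens.range_ι]; exact le_rfl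
  let k₀ : X' ⟶ Γ := IsOpenImmersion.lift Γ.ι b hsub
  have hk₀ : k₀ ≫ Γ.ι = b := IsOpenImmersion.lift_fac _ _ _
  let pΓ : (Γ : Scheme) ⟶ X := Γ.ι ≫ q₁
  have hkp : k₀ ≫ pΓ = π := by
    simp only [pΓ]; rw [← Category.assoc, hk₀, hb1]
  haveI : Etale pΓ := inferInstanceAs (Etale (Γ.ι ≫ q₁))
  have hkey : ∀ {T : Scheme.{u}} (z : T ⟶ X') (γ : T ⟶ Γ), z ≫ π = γ ≫ pΓ → γ = z ≫ k₀ := by
    intro T z γ hzγ
    have hc : z ≫ π = (γ ≫ Γ.ι) ≫ q₁ := by rw [hzγ]; simp only [pΓ, Category.assoc]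
    let w : T ⟶ XP := pullback.lift z (γ ≫ Γ.ι) hc
    have hw1 : w ≫ r = z := pullback.lift_fst _ _ _
    have hw2 : w ≫ πP = γ ≫ Γ.ι := pullback.lift_snd _ _ _
    have hwr : Set.range w ⊆ Set.range σ := by
      rw [← hsat]
      rintro _ ⟨t, rfl⟩
      show πP (w t) ∈ Set.range b
      rw [← Scheme.Hom.comp_apply, hw2, Scheme.Hom.comp_apply]
      exact (γ t).2
    let z' : T ⟶ X' := IsOpenImmersion.lift σ w hwr
    have hz' : z' ≫ σ = w := IsOpenImmersion.lift_fac _ _ _
    have hzz : z' = z := by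
      calc z' = z' ≫ σ ≫ r := by rw [hσ1, Category.comp_id]
        _ = w ≫ r := by rw [← Category.assoc, hz']
        _ = z := hw1
    have hz'b : z ≫ b = γ ≫ Γ.ι := by rw [← hσ2, ← Category.assoc, ← hzz, hz', hw2]
    rw [← cancel_mono Γ.ι, Category.assoc, hk₀, hz'b]
  haveI : IsIso (pullback.fst π pΓ) := by
    refine ⟨pullback.lift (𝟙 X') k₀ (by rw [Category.id_comp, hkp]), ?_, pullback.lift_fst _ _ _⟩
    apply pullback.hom_ext
    · rw [Category.assoc, pullback.lift_fst, Category.comp_id, Category.id_comp]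
    · rw [Category.assoc, pullback.lift_snd, Category.id_comp]
      exact (hkey _ _ pullback.condition).symm
  haveI : IsIso pΓ := Groth.Agent.Lead.EtDescSub.isIso_of_pullback_fst_isIso π pΓ
  refine ⟨inv pΓ ≫ Γ.ι ≫ q₂, ?_, ?_⟩
  · simp only [Category.assoc]
    have : q₂ ≫ q = q₁ ≫ p := pullback.condition.symm
    rw [this, ← Category.assoc Γ.ι]
    show inv pΓ ≫ pΓ ≫ p = p
    rw [IsIso.inv_hom_id_assoc]
  · rw [← hkp, Category.assoc, IsIso.hom_inv_id_assoc, ← Category.assoc, hk₀, hb2]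

end Groth.Agent.Lead.EtDescGen
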