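import Mathlib
import Groth.Prelude.Def_SGA1
import Groth.Agent.Lead.EtDescGen

set_option autoImplicit false
universe u

open AlgebraicGeometry CategoryTheory CategoryTheory.Limits

namespace Groth.Agent.Lead.EtDescGen

instance univSubmersive_stable : (SGA1.UnivSubmersive.{u}).IsStableUnderBaseChange := by
  unfold SGA1.UnivSubmersive; infer_instance

theorem univSubmersive_quot {X Y : Scheme.{u}} (f : X ⟶ Y) (hf : SGA1.UnivSubmersive f) :
    Topology.IsQuotientMap f :=
  MorphismProperty.universally_le _ _ hf

theorem hom_descends {S S' X Y : Scheme.{u}} (g : S' ⟶ S) (hg : SGA1.UnivSubmersive g)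
    (p : X ⟶ S) (q : Y ⟶ S) [Etale q]
    (f' : pullback p g ⟶ pullback q g) (hf' : f' ≫ pullback.snd q g = pullback.snd p g)
    (hcoc : pullback.map p (pullback.fst g g ≫ g) p g (𝟙 X) (pullback.fst g g) (𝟙 S)
        ((Category.comp_id _).trans (Category.id_comp _).symm) (Category.comp_id _) ≫ f' ≫ pullback.fst q g =
      pullback.map p (pullback.fst g g ≫ g) p g (𝟙 X) (pullback.snd g g) (𝟙 S)
        ((Category.comp_id _).trans (Category.id_comp _).symm) ((Category.comp_id _).trans pullback.condition) ≫
        f' ≫ pullback.fst q g) :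
    ∃! u : X ⟶ Y, u ≫ q = p ∧ f' ≫ pullback.fst q g = pullback.fst p g ≫ u := by
  let π : pullback p g ⟶ X := pullback.fst p g
  have hπ : SGA1.UnivSubmersive π := MorphismProperty.pullback_fst (P := SGA1.UnivSubmersive) p g hg
  haveI : Surjective π := ⟨(univSubmersive_quot π hπ).surjective⟩
  have hquot : Topology.IsQuotientMap (pullback.snd π (pullback.fst p q)) :=
    univSubmersive_quot _ (MorphismProperty.pullback_snd (P := SGA1.UnivSubmersive) π _ hπ)
  let a : pullback p g ⟶ Y := f' ≫ pullback.fst q g
  have ha : a ≫ q = π ≫ p := by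
    simp only [a, Category.assoc]
    rw [pullback.condition, ← Category.assoc, hf', pullback.condition]
  have hconst : ∀ {T : Scheme.{u}} (a₀ a₁ : T ⟶ pullback p g), a₀ ≫ π = a₁ ≫ π → a₀ ≫ a = a₁ ≫ a := by
    intro T a₀ a₁ h
    have hs : (a₀ ≫ pullback.snd p g) ≫ g = (a₁ ≫ pullback.snd p g) ≫ g := by
      rw [Category.assoc, Category.assoc, ← pullback.condition, ← Category.assoc, ← Category.assoc]
      exact congrArg (· ≫ p) h
    let s : T ⟶ pullback g g := pullback.lift (a₀ ≫ pullback.snd p g) (a₁ ≫ pullback.snd p g) hs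
    have hs1 : s ≫ pullback.fst g g = a₀ ≫ pullback.snd p g := pullback.lift_fst _ _ _
    have hs2 : s ≫ pullback.snd g g = a₁ ≫ pullback.snd p g := pullback.lift_snd _ _ _
    let t : T ⟶ pullback p (pullback.fst g g ≫ g) := pullback.lift (a₀ ≫ π) s (by
      rw [← Category.assoc, hs1, Category.assoc, Category.assoc, pullback.condition])
    have ht1 : t ≫ pullback.fst p (pullback.fst g g ≫ g) = a₀ ≫ π := pullback.lift_fst _ _ _
    have ht2 : t ≫ pullback.snd p (pullback.fst g g ≫ g) = s := pullback.lift_snd _ _ _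
    have e0 : t ≫ pullback.map p (pullback.fst g g ≫ g) p g (𝟙 X) (pullback.fst g g) (𝟙 S)
        ((Category.comp_id _).trans (Category.id_comp _).symm) (Category.comp_id _) = a₀ := by
      apply pullback.hom_ext
      · rw [Category.assoc, pullback.lift_fst, ← Category.assoc, ht1, Category.comp_id]
      · rw [Category.assoc, pullback.lift_snd, ← Category.assoc, ht2, hs1]
    have e1 : t ≫ pullback.map p (pullback.fst g g ≫ g) p g (𝟙 X) (pullback.snd g g) (𝟙 S)
        ((Category.comp_id _).trans (Category.id_comp _).symm)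
        ((Category.comp_id _).trans pullback.condition) = a₁ := by
      apply pullback.hom_ext
      · rw [Category.assoc, pullback.lift_fst, ← Category.assoc, ht1, Category.comp_id]; exact h
      · rw [Category.assoc, pullback.lift_snd, ← Category.assoc, ht2, hs2]
    have := congrArg (t ≫ ·) hcoc
    simp only [← Category.assoc] at this
    rw [e0, e1] at this
    simpa [a] using this
  obtain ⟨u, hu1, hu2⟩ := exists_descent p q π hquot a ha hconst
  refine ⟨u, ⟨hu1, hu2.symm⟩, ?_⟩
  rintro u' ⟨hu'1, hu'2⟩
  exact Groth.Agent.Lead.EtThick.hom_ext_of_surjective π q u' u (hu'2.symm.trans hu2.symm)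
    (hu'1.trans hu1.symm)

end Groth.Agent.Lead.EtDescGen
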