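import Mathlib
import Groth.Prelude.Def_SGA1
import Groth.Agent.Lead.EtDescGen2

set_option autoImplicit false
universe u

open AlgebraicGeometry CategoryTheory CategoryTheory.Limits

namespace Groth.Agent.Lead.EtDescConn

/-- fibres of a morphism with connected geometric fibres are connected -/
theorem isConnected_fibre {S' S : Scheme.{u}} (g : S' ⟶ S) [Surjective g]
    (hconn : ∀ (K : Type u) [Field K] [IsAlgClosed K] (ξ : Spec (CommRingCat.of K) ⟶ S),
      ConnectedSpace ↑(pullback g ξ)) (s : S) : _root_.IsConnected (g ⁻¹' {s}) := by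
  let K := AlgebraicClosure (S.residueField s)
  let ξ : Spec (CommRingCat.of K) ⟶ S :=
    Spec.map (CommRingCat.ofHom (algebraMap (S.residueField s) K)) ≫ S.fromSpecResidueField s
  haveI := hconn K ξ
  have hr : Set.range ξ = {s} := by
    apply Set.Subset.antisymm
    · rintro _ ⟨t, rfl⟩
      simp only [ξ, Scheme.Hom.comp_apply, Set.mem_singleton_iff]
      exact Scheme.fromSpecResidueField_apply _ _
    · rintro _ rfl
      obtain ⟨t⟩ : Nonempty (Spec (CommRingCat.of K)) := inferInstance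
      refine ⟨t, ?_⟩
      simp only [ξ, Scheme.Hom.comp_apply]
      exact Scheme.fromSpecResidueField_apply _ _
  have : g ⁻¹' {s} = Set.range (pullback.fst g ξ) := by
    rw [Scheme.Pullback.range_fst, hr]
  rw [this]
  exact isConnected_range (pullback.fst g ξ).continuous

theorem connectedSpace_of_quot {S' S : Scheme.{u}} (g : S' ⟶ S)
    (hg : Topology.IsQuotientMap g)
    (hconn : ∀ (K : Type u) [Field K] [IsAlgClosed K] (ξ : Spec (CommRingCat.of K) ⟶ S),
      ConnectedSpace ↑(pullback g ξ)) [ConnectedSpace S] : ConnectedSpace S' := by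
  haveI : Surjective g := ⟨hg.surjective⟩
  have hfib := isConnected_fibre g hconn
  obtain ⟨s⟩ : Nonempty S := inferInstance
  obtain ⟨a, rfl⟩ := hg.surjective s
  have h1 := hg.isCoinducing.preimage_connectedComponent hfib a
  rw [PreconnectedSpace.connectedComponent_eq_univ, Set.preimage_univ] at h1
  haveI : Nonempty S' := ⟨a⟩
  haveI : PreconnectedSpace S' := ⟨by rw [h1]; exact isPreconnected_connectedComponent⟩
  exact ⟨inferInstance⟩

/-- a morphism from a connected `K`-scheme to an étale `K`-scheme (`K` algebraically closed... only a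
`K`-point is needed) is constant -/
theorem const_of_connected {K : Type u} [Field K] {F Z : Scheme.{u}} [ConnectedSpace F]
    (sF : F ⟶ Spec (CommRingCat.of K)) (sZ : Z ⟶ Spec (CommRingCat.of K)) [Etale sZ]
    (G : F ⟶ Z) (hG : G ≫ sZ = sF) (φ₀ φ₁ : Spec (CommRingCat.of K) ⟶ F)
    (h₀ : φ₀ ≫ sF = 𝟙 _) (h₁ : φ₁ ≫ sF = 𝟙 _) : φ₀ ≫ G = φ₁ ≫ G := by
  let y₀ : Spec (CommRingCat.of K) ⟶ Z := φ₀ ≫ G
  have hy₀ : y₀ ≫ sZ = 𝟙 _ := by rw [Category.assoc, hG, h₀]
  haveI : IsOpenImmersion y₀ := Groth.Agent.Lead.EtThick.isOpenImmersion_of_section y₀ sZ hy₀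
  haveI : IsClosedImmersion y₀ := isClosedImmersion_of_comp_eq_id sZ y₀ hy₀
  have hclopen : IsClopen (G ⁻¹' Set.range y₀) :=
    ⟨y₀.isClosedEmbedding.isClosed_range.preimage G.continuous,
      y₀.isOpenEmbedding.isOpen_range.preimage G.continuous⟩
  obtain ⟨pt⟩ : Nonempty (Spec (CommRingCat.of K)) := inferInstance
  have hne : (G ⁻¹' Set.range y₀).Nonempty := ⟨φ₀ pt, pt, by rw [Scheme.Hom.comp_apply]⟩
  have huniv := hclopen.eq_univ hne
  have hsub : Set.range G ⊆ Set.range y₀ := by
    rintro _ ⟨t, rfl⟩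
    have : t ∈ G ⁻¹' Set.range y₀ := by rw [huniv]; trivial
    exact this
  let G' : F ⟶ Spec (CommRingCat.of K) := IsOpenImmersion.lift y₀ G hsub
  have hG' : G' ≫ y₀ = G := IsOpenImmersion.lift_fac _ _ _
  have hG'2 : G' = sF := by
    calc G' = G' ≫ y₀ ≫ sZ := by rw [hy₀, Category.comp_id]
      _ = G ≫ sZ := by rw [← Category.assoc, hG']
      _ = sF := hG
  have e : G = sF ≫ y₀ := by rw [← hG'2, hG']
  calc φ₀ ≫ G = y₀ := rfl
    _ = (φ₁ ≫ sF) ≫ y₀ := by rw [h₁, Category.id_comp]
    _ = φ₁ ≫ G := by rw [Category.assoc, ← e]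

/-- constancy along geometrically connected fibres -/
theorem const_of_geomConnected {S' S X Y : Scheme.{u}} (g : S' ⟶ S)
    (hconn : ∀ (K : Type u) [Field K] [IsAlgClosed K] (ξ : Spec (CommRingCat.of K) ⟶ S),
      ConnectedSpace ↑(pullback g ξ))
    (p : X ⟶ S) (q : Y ⟶ S) [Etale q] (a : pullback p g ⟶ Y)
    (ha : a ≫ q = pullback.fst p g ≫ p)
    {K : Type u} [Field K] [IsAlgClosed K] (f₀ f₁ : Spec (CommRingCat.of K) ⟶ pullback p g)
    (h : f₀ ≫ pullback.fst p g = f₁ ≫ pullback.fst p g) : f₀ ≫ a = f₁ ≫ a := by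
  let π : pullback p g ⟶ X := pullback.fst p g
  let xb : Spec (CommRingCat.of K) ⟶ X := f₀ ≫ π
  let ξ : Spec (CommRingCat.of K) ⟶ S := xb ≫ p
  haveI := hconn K ξ
  let F := pullback g ξ
  let sF : F ⟶ Spec (CommRingCat.of K) := pullback.snd g ξ
  have hf₀ : (f₀ ≫ pullback.snd p g) ≫ g = 𝟙 _ ≫ ξ := by
    rw [Category.assoc, ← pullback.condition, Category.id_comp]; rfl
  have hf₁ : (f₁ ≫ pullback.snd p g) ≫ g = 𝟙 _ ≫ ξ := by
    rw [Category.assoc, ← pullback.condition, Category.id_comp, ← Category.assoc]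
    show (f₁ ≫ π) ≫ p = (f₀ ≫ π) ≫ p
    rw [h]
  let φ₀ : Spec (CommRingCat.of K) ⟶ F := pullback.lift (f₀ ≫ pullback.snd p g) (𝟙 _) hf₀
  let φ₁ : Spec (CommRingCat.of K) ⟶ F := pullback.lift (f₁ ≫ pullback.snd p g) (𝟙 _) hf₁
  have hφ₀ : φ₀ ≫ sF = 𝟙 _ := pullback.lift_snd _ _ _
  have hφ₁ : φ₁ ≫ sF = 𝟙 _ := pullback.lift_snd _ _ _
  let θ : F ⟶ pullback p g := pullback.lift (sF ≫ xb) (pullback.fst g ξ) (by
    rw [Category.assoc]; exact pullback.condition.symm)
  have hθ1 : θ ≫ π = sF ≫ xb := pullback.lift_fst _ _ _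
  have hθ2 : θ ≫ pullback.snd p g = pullback.fst g ξ := pullback.lift_snd _ _ _
  have hφθ₀ : φ₀ ≫ θ = f₀ := by
    apply pullback.hom_ext
    · rw [Category.assoc]; erw [hθ1]; rw [← Category.assoc, hφ₀, Category.id_comp]
    · rw [Category.assoc, hθ2]; exact pullback.lift_fst _ _ _
  have hφθ₁ : φ₁ ≫ θ = f₁ := by
    apply pullback.hom_ext
    · rw [Category.assoc]; erw [hθ1]; rw [← Category.assoc, hφ₁, Category.id_comp]; exact h
    · rw [Category.assoc, hθ2]; exact pullback.lift_fst _ _ _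
  let Z := pullback q ξ
  let sZ : Z ⟶ Spec (CommRingCat.of K) := pullback.snd q ξ
  haveI : Etale sZ := inferInstanceAs (Etale (pullback.snd q ξ))
  let G : F ⟶ Z := pullback.lift (θ ≫ a) sF (by
    rw [Category.assoc, ha, ← Category.assoc]
    erw [hθ1]
    rw [Category.assoc])
  have hG1 : G ≫ pullback.fst q ξ = θ ≫ a := pullback.lift_fst _ _ _
  have hG2 : G ≫ sZ = sF := pullback.lift_snd _ _ _
  have key := const_of_connected sF sZ G hG2 φ₀ φ₁ hφ₀ hφ₁
  have := congrArg (· ≫ pullback.fst q ξ) key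
  simp only [Category.assoc, hG1] at this
  rw [← Category.assoc, ← Category.assoc, hφθ₀, hφθ₁] at this
  exact this

/-- morphisms into an unramified scheme agreeing on all geometric points agree -/
theorem hom_ext_of_geomPoints {E Y S : Scheme.{u}} (f : Y ⟶ S) [LocallyOfFiniteType f]
    [FormallyUnramified f] (a b : E ⟶ Y) (h2 : a ≫ f = b ≫ f)
    (h1 : ∀ (K : Type u) [Field K] [IsAlgClosed K] (e : Spec (CommRingCat.of K) ⟶ E),
      e ≫ a = e ≫ b) : a = b := by
  let Kf : E → Type u := fun e => AlgebraicClosure (E.residueField e)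
  let pt : ∀ e : E, Spec (CommRingCat.of (Kf e)) ⟶ E := fun e =>
    Spec.map (CommRingCat.ofHom (algebraMap (E.residueField e) (Kf e))) ≫ E.fromSpecResidueField e
  let j : (∐ fun e : E => Spec (CommRingCat.of (Kf e))) ⟶ E := Sigma.desc pt
  haveI : Surjective j := by
    constructor
    intro e
    obtain ⟨t⟩ : Nonempty (Spec (CommRingCat.of (Kf e))) := inferInstance
    refine ⟨(Sigma.ι (fun e : E => Spec (CommRingCat.of (Kf e))) e) t, ?_⟩
    rw [← Scheme.Hom.comp_apply, Sigma.ι_desc]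
    simp only [pt, Scheme.Hom.comp_apply]
    exact Scheme.fromSpecResidueField_apply _ _
  refine Groth.Agent.Lead.EtThick.hom_ext_of_surjective j f a b ?_ h2
  apply Sigma.hom_ext
  intro e
  rw [← Category.assoc, ← Category.assoc, Sigma.ι_desc]
  exact h1 (Kf e) (pt e)

theorem main {S' S : Scheme.{u}} (g : S' ⟶ S)
    (hg : SGA1.UnivSubmersive g)
    (hconn : ∀ (K : Type u) [Field K] [IsAlgClosed K] (ξ : Spec (CommRingCat.of K) ⟶ S), ConnectedSpace ↑(pullback g ξ)) :
    (ConnectedSpace S → ConnectedSpace S') ∧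
    ∀ (X Y : Over S) [Etale X.hom] [Etale Y.hom], Function.Bijective ((Over.pullback g).map : (X ⟶ Y) → _) := by
  have hgq : Topology.IsQuotientMap g := Groth.Agent.Lead.EtDescGen.univSubmersive_quot g hg
  refine ⟨fun _ => connectedSpace_of_quot g hgq hconn, ?_⟩
  intro X Y _ _
  let π : pullback X.hom g ⟶ X.left := pullback.fst X.hom g
  have hπ : SGA1.UnivSubmersive π := MorphismProperty.pullback_fst (P := SGA1.UnivSubmersive) X.hom g hg
  haveI : Surjective π := ⟨(Groth.Agent.Lead.EtDescGen.univSubmersive_quot π hπ).surjective⟩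
  constructor
  · intro φ ψ h
    have h1 := congrArg (fun t => t.left ≫ pullback.fst Y.hom g) h
    simp only [Over.pullback_map_left, Over.pullback_obj_left, pullback.lift_fst] at h1
    ext
    exact Groth.Agent.Lead.EtThick.hom_ext_of_surjective π Y.hom φ.left ψ.left h1
      (by rw [Over.w, Over.w])
  · intro ψ
    have hψ : ψ.left ≫ pullback.snd Y.hom g = pullback.snd X.hom g := Over.w ψ
    obtain ⟨a, hadef⟩ : ∃ a : pullback X.hom g ⟶ Y.left, a = ψ.left ≫ pullback.fst Y.hom g := ⟨_, rfl⟩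
    have ha : a ≫ Y.hom = π ≫ X.hom := by
      rw [hadef, Category.assoc, pullback.condition, ← Category.assoc, hψ, pullback.condition]
    have hquot : Topology.IsQuotientMap (pullback.snd π (pullback.fst X.hom Y.hom)) :=
      Groth.Agent.Lead.EtDescGen.univSubmersive_quot _
        (MorphismProperty.pullback_snd (P := SGA1.UnivSubmersive) π _ hπ)
    have hE : pullback.fst π π ≫ a = pullback.snd π π ≫ a := by
      apply hom_ext_of_geomPoints Y.hom
      · rw [Category.assoc, Category.assoc, ha, ← Category.assoc, ← Category.assoc, pullback.condition]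
      · intro K _ _ e
        rw [← Category.assoc, ← Category.assoc]
        apply const_of_geomConnected g hconn X.hom Y.hom a ha
        rw [Category.assoc, Category.assoc, pullback.condition]
    have hconst : ∀ {T : Scheme.{u}} (a₀ a₁ : T ⟶ pullback X.hom g), a₀ ≫ π = a₁ ≫ π →
        a₀ ≫ a = a₁ ≫ a := by
      intro T a₀ a₁ h
      have e0 : pullback.lift a₀ a₁ h ≫ pullback.fst π π = a₀ := pullback.lift_fst _ _ _
      have e1 : pullback.lift a₀ a₁ h ≫ pullback.snd π π = a₁ := pullback.lift_snd _ _ _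
      rw [← e0, Category.assoc, hE, ← Category.assoc, e1]
    obtain ⟨u, hu1, hu2⟩ := Groth.Agent.Lead.EtDescGen.exists_descent X.hom Y.hom π hquot a ha hconst
    refine ⟨Over.homMk u hu1, ?_⟩
    ext
    simp only [Over.pullback_map_left, Over.pullback_obj_left, Over.homMk_left]
    apply pullback.hom_ext
    · rw [pullback.lift_fst, ← hadef]; exact hu2
    · rw [pullback.lift_snd, hψ]

end Groth.Agent.Lead.EtDescConn
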