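import Mathlib
import Groth.Agent.S3694
import Groth.Agent.Lead.EtThick

set_option autoImplicit false
universe u

namespace Groth.Agent.Lead.EtGraph

open AlgebraicGeometry CategoryTheory CategoryTheory.Limits

/-- the graph of an `S`-morphism to an étale `S`-scheme is an open immersion -/
theorem graph_isOpenImmersion {S X Y : Scheme.{u}} (p : X ⟶ S) (q : Y ⟶ S) [Etale q]
    (f : X ⟶ Y) (hf : f ≫ q = p) :
    IsOpenImmersion (pullback.lift (𝟙 X) f ((Category.id_comp p).trans hf.symm) : X ⟶ pullback p q) := by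
  haveI : Etale (pullback.fst p q) := inferInstance
  exact Groth.Agent.Lead.EtThick.isOpenImmersion_of_section _ (pullback.fst p q) (pullback.lift_fst _ _ _)

/-- an étale, universally injective, surjective morphism is an isomorphism -/
theorem isIso_of_etale_univInj_surj {X Y : Scheme.{u}} (f : X ⟶ Y) [Etale f] [UniversallyInjective f]
    [Surjective f] : IsIso f := by
  haveI : IsOpenImmersion f := Groth.Agent.S3694.aux f
  exact (isIso_iff_isOpenImmersion_and_surjective f).mpr ⟨inferInstance, inferInstance⟩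

theorem existsUnique_of_open {S X Y : Scheme.{u}} (p : X ⟶ S) (q : Y ⟶ S) [Etale q]
    (Γ : (pullback p q).Opens) (h1 : UniversallyInjective (Γ.ι ≫ pullback.fst p q))
    (h2 : Surjective (Γ.ι ≫ pullback.fst p q)) :
    ∃! f : {f : X ⟶ Y // f ≫ q = p},
        Set.range (pullback.lift (𝟙 X) f.1 ((Category.id_comp p).trans f.2.symm) : X ⟶ pullback p q).base =
          (Γ : Set ↥(pullback p q)) := by
  haveI : Etale (pullback.fst p q) := inferInstance
  haveI : Etale (Γ.ι ≫ pullback.fst p q) := inferInstance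
  haveI : IsIso (Γ.ι ≫ pullback.fst p q) := isIso_of_etale_univInj_surj _
  let e := Γ.ι ≫ pullback.fst p q
  have he : inv e ≫ Γ.ι ≫ pullback.fst p q = 𝟙 X := IsIso.inv_hom_id e
  let f : X ⟶ Y := inv e ≫ Γ.ι ≫ pullback.snd p q
  have hf : f ≫ q = p := by
    simp only [f, Category.assoc, ← pullback.condition]
    rw [← Category.assoc Γ.ι, ← Category.assoc (inv e)]
    erw [IsIso.inv_hom_id e]
    simp
  have hgraph : ∀ (f' : X ⟶ Y) (hf' : f' ≫ q = p) (h : X ⟶ Γ),
      h ≫ Γ.ι = pullback.lift (𝟙 X) f' ((Category.id_comp p).trans hf'.symm) → h = inv e := by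
    intro f' hf' h hh
    have : h ≫ e = 𝟙 X := by
      simp only [e]
      rw [← Category.assoc, hh, pullback.lift_fst]
    exact (IsIso.eq_inv_of_inv_hom_id this)
  have hgr : pullback.lift (𝟙 X) f ((Category.id_comp p).trans hf.symm) = inv e ≫ Γ.ι := by
    apply pullback.hom_ext
    · rw [pullback.lift_fst, Category.assoc, he]
    · rw [pullback.lift_snd, Category.assoc]
  refine ⟨⟨f, hf⟩, ?_, ?_⟩
  · show Set.range (pullback.lift (𝟙 X) f _ : X ⟶ pullback p q).base = _
    rw [hgr]
    rw [Scheme.Hom.comp_base]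
    simp only [TopCat.hom_comp, ContinuousMap.coe_comp]
    rw [Set.range_comp, Set.range_eq_univ.mpr (inv e).surjective, Set.image_univ]
    exact Scheme.Opens.range_ι Γ
  · rintro ⟨f', hf'⟩ hr
    have hsub : Set.range (pullback.lift (𝟙 X) f' ((Category.id_comp p).trans hf'.symm) : X ⟶ pullback p q).base
        ⊆ Set.range Γ.ι.base := by
      rw [hr]; exact (Scheme.Opens.range_ι Γ).ge
    let h : X ⟶ Γ := IsOpenImmersion.lift Γ.ι _ hsub
    have hh : h ≫ Γ.ι = _ := IsOpenImmersion.lift_fac _ _ _
    have h1 := hgraph f' hf' h hh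
    apply Subtype.ext
    show f' = f
    have : f' = (pullback.lift (𝟙 X) f' ((Category.id_comp p).trans hf'.symm) : X ⟶ pullback p q) ≫
        pullback.snd p q := by rw [pullback.lift_snd]
    rw [this, ← hh, h1, Category.assoc]

end Groth.Agent.Lead.EtGraph
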