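import Groth.Agent.Lead.HomGlueB
import Mathlib
open CategoryTheory Limits AlgebraicGeometry

namespace Groth.Agent.Lead.EtSecA
universe u

/-- algebra: a formally unramified essentially-finite-type local algebra over an algebraically closed field
(viewed as a local ring) is trivial -/
lemma bijective_of_field {A B : Type u} [CommRing A] [CommRing B] [IsLocalRing A] [IsLocalRing B]
    [Algebra A B] [IsLocalHom (algebraMap A B)] [Algebra.EssFiniteType A B]
    [Algebra.FormallyUnramified A B] (hA : IsField A) [IsAlgClosed (IsLocalRing.ResidueField A)] :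
    Function.Bijective (algebraMap A B) := by
  have hmA : IsLocalRing.maximalIdeal A = ⊥ := IsLocalRing.isField_iff_maximalIdeal_eq.mp hA
  have hmB : IsLocalRing.maximalIdeal B = ⊥ := by
    rw [← Algebra.FormallyUnramified.map_maximalIdeal (R := A) (S := B), hmA, Ideal.map_bot]
  have hsurj : Function.Surjective (algebraMap (IsLocalRing.ResidueField A)
      (IsLocalRing.ResidueField B)) :=
    IsAlgClosed.algebraMap_bijective_of_isIntegral.2
  letI := hA.toField
  refine ⟨(algebraMap A B).injective, fun b ↦ ?_⟩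
  obtain ⟨a', ha'⟩ := hsurj (IsLocalRing.residue B b)
  obtain ⟨a, rfl⟩ := IsLocalRing.residue_surjective a'
  refine ⟨a, ?_⟩
  have h1 : IsLocalRing.residue B (algebraMap A B a) = IsLocalRing.residue B b := by
    rw [← ha']
    rfl
  have h2 : algebraMap A B a - b ∈ IsLocalRing.maximalIdeal B := by
    rw [← IsLocalRing.residue_eq_zero_iff, map_sub, h1, sub_self]
  rw [hmB, Ideal.mem_bot, sub_eq_zero] at h2
  exact h2

end Groth.Agent.Lead.EtSecA

namespace Groth.Agent.Lead.EtSecA
universe u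
open Groth.Agent.Lead

theorem main (X Y : Scheme.{u}) (hX : ∀ x : X, IsField (X.presheaf.stalk x))
    (hX' : ∀ x : X, IsAlgClosed (X.residueField x))
    (f : Y ⟶ X) [Etale f] (y : Y) :
    ∃ (V : X.Opens) (s : (V : Scheme.{u}) ⟶ Y), f.base y ∈ V ∧ s ≫ f = V.ι ∧
      y ∈ Set.range s.base := by
  have hbij : Function.Bijective (f.stalkMap y).hom := by
    algebraize [(f.stalkMap y).hom]
    have : IsLocalHom (algebraMap (X.presheaf.stalk (f y)) (Y.presheaf.stalk y)) :=
      inferInstanceAs <| IsLocalHom (f.stalkMap y).hom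
    have : Algebra.EssFiniteType (X.presheaf.stalk (f y)) (Y.presheaf.stalk y) := by
      rw [← RingHom.essFiniteType_algebraMap, RingHom.algebraMap_toAlgebra]
      exact LocallyOfFiniteType.stalkMap f y
    have : Algebra.FormallyUnramified (X.presheaf.stalk (f y)) (Y.presheaf.stalk y) := by
      rw [← RingHom.formallyUnramified_algebraMap, RingHom.algebraMap_toAlgebra]
      exact FormallyUnramified.stalkMap f y
    haveI : IsAlgClosed (IsLocalRing.ResidueField (X.presheaf.stalk (f y))) := hX' (f y)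
    exact bijective_of_field (hX (f y))
  haveI : IsIso (f.stalkMap y) := (ConcreteCategory.isIso_iff_bijective _).mpr hbij
  let b : Spec (X.presheaf.stalk (f y)) ⟶ Y := Spec.map (inv (f.stalkMap y)) ≫ Y.fromSpecStalk y
  have hb : b ≫ f = X.fromSpecStalk (f y) ≫ 𝟙 X := by
    rw [Category.comp_id, Category.assoc, ← Scheme.SpecMap_stalkMap_fromSpecStalk,
      ← Category.assoc, ← Spec.map_comp, IsIso.hom_inv_id, Spec.map_id, Category.id_comp]
  obtain ⟨V, b₁, h1, h2⟩ := HomGlueB.exists_extension (f y) (𝟙 X) f b hb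
  obtain ⟨e, he⟩ : ∃ e : (V.1 : Scheme.{u}) ≅ Spec Γ(X, V.1), e.hom ≫ V.aff.fromSpec = V.1.ι :=
    ⟨V.aff.isoSpec, V.aff.isoSpec_hom_fromSpec⟩
  obtain ⟨b₂, hb₂⟩ : ∃ b₂ : Spec Γ(X, V.1) ⟶ Y, b₂ = b₁ := ⟨b₁, rfl⟩
  obtain ⟨π₀, hπ₀⟩ : ∃ π₀ : Spec (X.presheaf.stalk (f y)) ⟶ Spec Γ(X, V.1),
    π₀ = (HomGlueB.cone (f y)).π.app V := ⟨_, rfl⟩
  have h1' : π₀ ≫ b₂ = b := by rw [hb₂, hπ₀]; exact h1
  have h2' : b₂ ≫ f = V.aff.fromSpec := by
    rw [hb₂]; exact h2.trans (Category.comp_id _)
  refine ⟨V.1, e.hom ≫ b₂, V.mem, ?_, ?_⟩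
  · rw [Category.assoc, h2', he]
  · have hy : y ∈ Set.range b := by
      have hr : Set.range b = Set.range (Y.fromSpecStalk y) := by
        change Set.range (Spec.map (inv (f.stalkMap y)) ≫ Y.fromSpecStalk y) = _
        rw [Scheme.Hom.comp_base, TopCat.coe_comp, Set.range_comp,
          Set.range_eq_univ.mpr (Spec.map (inv (f.stalkMap y))).surjective, Set.image_univ]
      rw [hr]
      exact ⟨_, Scheme.fromSpecStalk_closedPoint⟩
    obtain ⟨t, ht⟩ := hy
    refine ⟨e.inv (π₀ t), ?_⟩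
    rw [← Scheme.Hom.comp_apply, Iso.inv_hom_id_assoc, ← Scheme.Hom.comp_apply, h1', ht]

end Groth.Agent.Lead.EtSecA
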