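import Mathlib

set_option autoImplicit false
universe u

namespace Groth.Agent.Lead.EtaleProd

variable (A S T : Type u) [CommRing A] [CommRing S] [CommRing T] [Algebra A S] [Algebra A T]

/-- the Bool-indexed family -/
def P : Bool → Type u := fun b => match b with | true => S | false => T

instance (b : Bool) : CommRing (P S T b) := match b with
  | true => (inferInstance : CommRing S)
  | false => (inferInstance : CommRing T)

instance (b : Bool) : Algebra A (P S T b) := match b with
  | true => (inferInstance : Algebra A S)
  | false => (inferInstance : Algebra A T)

/-- the comparison equivalence -/
def prodEquivPi : (S × T) ≃ₐ[A] (Π b, P S T b) where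
  toFun x := fun b => match b with | true => x.1 | false => x.2
  invFun f := (f true, f false)
  left_inv x := rfl
  right_inv f := by funext b; cases b <;> rfl
  map_mul' x y := by funext b; cases b <;> rfl
  map_add' x y := by funext b; cases b <;> rfl
  commutes' r := by funext b; cases b <;> rfl

theorem etale_prod [Algebra.Etale A S] [Algebra.Etale A T] : Algebra.Etale A (S × T) := by
  haveI : ∀ b, Algebra.Etale A (P S T b) := fun b => match b with
    | true => (inferInstance : Algebra.Etale A S)
    | false => (inferInstance : Algebra.Etale A T)
  exact Algebra.Etale.of_equiv (prodEquivPi A S T).symm

end Groth.Agent.Lead.EtaleProd
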