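import Mathlib

set_option autoImplicit false
universe u
open CategoryTheory AlgebraicGeometry Limits

namespace Groth.Agent.Lead.ExtMod

theorem extend_after_modification {X Y S : Scheme.{u}} [IsNoetherian X] (a : X ⟶ S) (b : Y ⟶ S)
    [IsProper b] (U : X.Opens) (f : (U : Scheme.{u}) ⟶ Y) (hf : f ≫ b = U.ι ≫ a) :
    ∃ (X' : Scheme.{u}) (p : X' ⟶ X) (f' : X' ⟶ Y), IsProper p ∧ IsIso (p ∣_ U) ∧ f' ≫ b = p ≫ a ∧
      (p ⁻¹ᵁ U).ι ≫ f' = (p ∣_ U) ≫ f := by
  let γ : (U : Scheme.{u}) ⟶ pullback a b := pullback.lift U.ι f hf.symm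
  have hγ1 : γ ≫ pullback.fst a b = U.ι := pullback.lift_fst _ _ _
  have hγ2 : γ ≫ pullback.snd a b = f := pullback.lift_snd _ _ _
  haveI : IsImmersion (γ ≫ pullback.fst a b) := by rw [hγ1]; infer_instance
  haveI : IsImmersion γ := IsImmersion.of_comp γ (pullback.fst a b)
  haveI : TopologicalSpace.NoetherianSpace (U : Scheme.{u}) :=
    inferInstanceAs (TopologicalSpace.NoetherianSpace (U : Set X))
  haveI : QuasiCompact γ := inferInstance
  let p : γ.image ⟶ X := γ.imageι ≫ pullback.fst a b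
  have hp : γ.toImage ≫ p = U.ι := by
    simp only [p]
    rw [← Category.assoc, γ.toImage_imageι, hγ1]
  have hrange : Set.range γ.toImage ⊆ Set.range (p ⁻¹ᵁ U).ι := by
    rintro _ ⟨u, rfl⟩
    rw [Scheme.Opens.range_ι]
    show p (γ.toImage u) ∈ U
    rw [← Scheme.Hom.comp_apply, hp]
    exact u.2
  let τ : (U : Scheme.{u}) ⟶ (p ⁻¹ᵁ U : Scheme.{u}) :=
    IsOpenImmersion.lift (p ⁻¹ᵁ U).ι γ.toImage hrange
  have hτ : τ ≫ (p ⁻¹ᵁ U).ι = γ.toImage := IsOpenImmersion.lift_fac _ _ _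
  have hτp : τ ≫ (p ∣_ U) = 𝟙 _ := by
    rw [← cancel_mono U.ι, Category.assoc, morphismRestrict_ι, ← Category.assoc, hτ, hp,
      Category.id_comp]
  haveI : IsOpenImmersion τ := by
    haveI : IsOpenImmersion (τ ≫ (p ⁻¹ᵁ U).ι) := by rw [hτ]; infer_instance
    exact IsOpenImmersion.of_comp τ (p ⁻¹ᵁ U).ι
  haveI : IsProper p := inferInstance
  haveI : IsClosedImmersion (τ ≫ (p ∣_ U)) := by rw [hτp]; infer_instance
  haveI : IsClosedImmersion τ := IsClosedImmersion.of_comp τ (p ∣_ U)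
  -- surjectivity of `τ`
  have hsurj : τ.opensRange = ⊤ := by
    rw [eq_top_iff]
    rintro x -
    by_contra hx
    -- the complement of the range is a nonempty open
    let V : (p ⁻¹ᵁ U : Scheme.{u}).Opens := ⟨(Set.range τ)ᶜ, τ.isClosedEmbedding.isClosed_range.isOpen_compl⟩
    have hxV : x ∈ V := hx
    let V' : γ.image.Opens := (p ⁻¹ᵁ U).ι ''ᵁ V
    have hV' : ((V' : Set γ.image)).Nonempty := ⟨(p ⁻¹ᵁ U).ι x, x, hxV, rfl⟩
    obtain ⟨_, hy, ⟨u, rfl⟩⟩ := γ.toImage.denseRange.inter_open_nonempty _ V'.2 hV'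
    obtain ⟨z, hzV, hz⟩ := hy
    have : z = τ u := by
      apply (p ⁻¹ᵁ U).ι.isOpenEmbedding.injective
      refine hz.trans ?_
      rw [← hτ]
      rfl
    exact hzV ⟨u, this.symm⟩
  haveI : IsIso τ := isIso_of_isOpenImmersion_of_opensRange_eq_top τ hsurj
  have hres : (p ∣_ U) = inv τ := by
    rw [← cancel_epi τ, hτp, IsIso.hom_inv_id]
  refine ⟨γ.image, p, γ.imageι ≫ pullback.snd a b, inferInstance, ?_, ?_, ?_⟩
  · rw [hres]; infer_instance
  · simp only [p, Category.assoc]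
    rw [pullback.condition]
  · rw [← cancel_epi τ, ← Category.assoc, hτ, ← Category.assoc, γ.toImage_imageι, hγ2,
      ← Category.assoc, hτp, Category.id_comp]

end Groth.Agent.Lead.ExtMod
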