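import Mathlib
import Groth.Prelude.Def_ModSite2
import Groth.Prelude.Def_CohB1
import Groth.Agent.Helper9.ShriekHom
import Groth.Agent.Helper4.AssDict
import Groth.Agent.Helper1.DeltaComp

/-!
# `ℰxt` sheaves with supports of a module supported in the closed set
-/

set_option autoImplicit false
set_option linter.style.haveILetI false
set_option linter.unusedSectionVars false

universe u

open CategoryTheory CategoryTheory.Limits AlgebraicGeometry TopologicalSpace Opposite

namespace Groth.Agent.Lead.ExtZSupp

open Groth.Agent.Helper9.TensorSh Groth.Agent.Helper9.TensorAdj Groth.Agent.Helper9.TensorFlat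

attribute [local instance] hasSheafHom

section Site

variable {C : Type u} [SmallCategory C] {J : GrothendieckTopology C} (O : Sheaf J CommRingCat.{u})
  (U : C)

/-- the internal Hom out of a zero module is zero -/
theorem isZero_sheafHom_of_isZero (M N : ModSite.Mod O) [ModSite.HasSheafHom M] (hM : IsZero M) :
    IsZero ((ModSite.sheafHom M).obj N) := by
  have hz : ∀ T : ModSite.Mod O, IsZero ((TN M).obj T) := fun T =>
    IsZero.of_iso ((TN T).map_isZero hM) ((symIso T).app M)
  rw [IsZero.iff_id_eq_zero]
  apply ((ModSite.sheafHomAdj M).homEquiv _ _).symm.injective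
  exact (hz _).eq_of_src _ _

/-- sections with supports of a module vanishing on `U` -/
theorem isIso_sectOnι_app [ModSite.HasPushOver O U] (M : ModSite.Mod O)
    (hM : IsZero ((ModSite.restr O U).obj M)) : IsIso ((ModSite.sectOnι O U).app M) := by
  have h0 : IsZero ((ModSite.restr O U ⋙ ModSite.pushOver O U).obj M) := by
    haveI : (ModSite.pushOver O U).IsRightAdjoint := (ModSite.restrPushOverAdj O U).isRightAdjoint
    haveI : PreservesLimitsOfSize.{0, 0} (ModSite.pushOver O U) :=
      (ModSite.restrPushOverAdj O U).rightAdjoint_preservesLimits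
    haveI : PreservesLimit (Functor.empty.{0} _) (ModSite.pushOver O U) := inferInstance
    haveI : (ModSite.pushOver O U).PreservesZeroMorphisms :=
      Functor.preservesZeroMorphisms_of_preserves_terminal_object
    exact (ModSite.pushOver O U).map_isZero hM
  have h1 : (ModSite.restrPushOverAdj O U).unit.app M = 0 := h0.eq_of_tgt _ _
  show IsIso (kernel.ι ((ModSite.restrPushOverAdj O U).unit.app M))
  rw [h1]
  infer_instance

variable (M : ModSite.Mod O) [ModSite.HasSheafHom M]

/-- if `M|_U = 0` then `ℋom(M, N)|_U = 0` -/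
theorem isZero_restr_sheafHom (hM : IsZero ((ModSite.restr O U).obj M)) (N : ModSite.Mod O) :
    IsZero ((ModSite.restr O U).obj ((ModSite.sheafHom M).obj N)) := by
  obtain ⟨e⟩ := Groth.Agent.Helper9.ShriekHom.nonempty_restr_sheafHom_iso O U M N
  exact IsZero.of_iso (isZero_sheafHom_of_isZero _ _ _ hM) e

/-- `Γ_Z ℋom(M, -) ≅ ℋom(M, -)` for `M` vanishing on `U` -/
noncomputable def sectOnSheafHomIso [ModSite.HasPushOver O U]
    (hM : IsZero ((ModSite.restr O U).obj M)) :
    ModSite.sheafHom M ⋙ ModSite.sectOn O U ≅ ModSite.sheafHom M :=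
  haveI : ∀ N, IsIso ((Functor.whiskerLeft (ModSite.sheafHom M) (ModSite.sectOnι O U)).app N) :=
    fun N => isIso_sectOnι_app O U _ (isZero_restr_sheafHom O U M hM N)
  haveI : IsIso (Functor.whiskerLeft (ModSite.sheafHom M) (ModSite.sectOnι O U)) :=
    NatIso.isIso_of_isIso_app _
  asIso (Functor.whiskerLeft (ModSite.sheafHom M) (ModSite.sectOnι O U)) ≪≫
    Functor.rightUnitor _

end Site

section Scheme

variable {X : Scheme.{u}}

/-- a module whose support misses `U` vanishes on `U` -/
theorem isZero_restr_of_support (U : X.Opens) (F : X.Modules)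
    (hsupp : ∀ x ∈ CohB1.support F, x ∉ (U : Set X)) :
    IsZero ((ModSite.restr X.sheaf U).obj F) := by
  rw [IsZero.iff_id_eq_zero]
  apply SheafOfModules.hom_ext
  apply PresheafOfModules.hom_ext
  intro W
  ext s
  show s = 0
  apply Groth.Agent.Helper4.AssDict.section_eq_zero_of_germ F W.unop.left s
  intro x hx
  have hxU : x ∈ (U : Set X) := W.unop.hom.le hx
  have : Subsingleton (F.presheaf.stalk x) := by
    by_contra h
    exact hsupp x h hxU
  exact Subsingleton.elim _ _

end Scheme

end Groth.Agent.Lead.ExtZSupp
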