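import Mathlib
import Groth.Agent.Lead.ExtZSupp
import Groth.Agent.Helper1.ExtRes3

/-!
# Coherence of the `ℰxt` sheaves with supports of a coherent module supported in the closed set
-/

set_option autoImplicit false
set_option linter.style.haveILetI false
set_option linter.unusedSectionVars false

universe u

open CategoryTheory CategoryTheory.Limits AlgebraicGeometry TopologicalSpace Opposite

namespace Groth.Agent.Lead.ExtZSupp

open Groth.Agent.Helper1 Groth.Agent.Helper1.ExtRes

variable {X : Scheme.{u}}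

/-- coherence of the `ℰxt` sheaves of coherent modules on a locally Noetherian scheme -/
theorem isCoh_extSh_of_isLocallyNoetherian [IsLocallyNoetherian X]
    [HasInjectiveResolutions (ModSite.Mod X.sheaf)] (F G : X.Modules)
    [ModSite.HasSheafHom (O := X.sheaf) F] (hF : Coh.IsCoh F) (hG : Coh.IsCoh G) (i : ℕ) :
    Coh.IsCoh ((ModSite.extSh (O := X.sheaf) F i).obj G) := by
  apply isCoh_of_affine_cover
  intro x
  obtain ⟨U, hU, hxU⟩ := Groth.Agent.Helper4.QcohLimits.exists_affine_nhd x
  refine ⟨U, hU, hxU, ?_⟩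
  haveI : IsAffine (U : Scheme.{u}) := hU
  haveI : IsLocallyNoetherian (U : Scheme.{u}) := inferInstance
  haveI : IsNoetherian (U : Scheme.{u}) := { }
  haveI := hasInjectiveResolutions_mod (U : Scheme.{u})
  haveI : ModSite.HasSheafHom (O := (U : Scheme.{u}).sheaf) (F.restrict U.ι) :=
    Groth.Agent.Helper9.TensorAdj.hasSheafHom _
  obtain ⟨e⟩ := nonempty_extSh_res_iso U.ι F i
  exact Groth.Agent.Lead.PerfLib.isCoh_of_iso (e.app G).symm
    (isCoh_extSh_of_isAffine (G.restrict U.ι) (Groth.Agent.Lead.PcLib.isCoh_restrict U.ι hG) i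
      (F.restrict U.ι) (Groth.Agent.Lead.PcLib.isCoh_restrict U.ι hF))

/-- **S12880** -/
theorem isCoh_extZSh_of_support_subset (X : Scheme.{u}) [IsLocallyNoetherian X] (U : X.Opens)
    (F G : X.Modules) (hF : Coh.IsCoh F) (hG : Coh.IsCoh G)
    (hsupp : ∀ x ∈ CohB1.support F, x ∉ (U : Set X))
    [ModSite.HasSheafHom (O := X.sheaf) F] [HasInjectiveResolutions (ModSite.Mod X.sheaf)]
    (i : ℕ) : Coh.IsCoh ((ModSite.extZSh (O := X.sheaf) U F i).obj G) := by
  have e := DeltaFun.rightDerivedIso
    (sectOnSheafHomIso X.sheaf U F (isZero_restr_of_support U F hsupp)) i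
  exact Groth.Agent.Lead.PerfLib.isCoh_of_iso (e.app G).symm
    (isCoh_extSh_of_isLocallyNoetherian F G hF hG i)

end Groth.Agent.Lead.ExtZSupp
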