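import Mathlib
import Groth.Agent.Lead.FD10

/-!
# FD12: descending a faithfully flat finitely presented algebra to a finitely presented base
-/

set_option autoImplicit false
universe u
open TensorProduct

namespace Groth.Agent.Lead.FD12

/-- Generic step: given `Pl → A` such that the presentation of `B` over `A` has coefficients in
`Pl`, with `Pl` finitely presented over `R`. -/
theorem descend_of_hasCoeffs {R Pl A B : Type u} [CommRing R] [CommRing Pl]
    [CommRing A] [CommRing B] [Algebra R Pl] [Algebra R A] [Algebra Pl A] [IsScalarTower R Pl A]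
    [Algebra A B] [Algebra Pl B] [IsScalarTower Pl A B]
    [Algebra.FinitePresentation R Pl] [Module.FaithfullyFlat A B]
    [Algebra.FinitePresentation A B]
    (hc : (Algebra.Presentation.ofFinitePresentation A B).coeffs ⊆ Set.range (algebraMap Pl A)) :
    ∃ (A₀ B₀ : Type u) (_ : CommRing A₀) (_ : CommRing B₀) (_ : Algebra R A₀) (_ : Algebra A₀ A)
      (_ : IsScalarTower R A₀ A) (_ : Algebra A₀ B₀), Algebra.FinitePresentation R A₀ ∧
      Algebra.FinitePresentation A₀ B₀ ∧ Module.FaithfullyFlat A₀ B₀ ∧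
      Nonempty (B ≃ₐ[A] A ⊗[A₀] B₀) := by
  classical
  let P := Algebra.Presentation.ofFinitePresentation A B
  haveI : P.HasCoeffs Pl := ⟨hc⟩
  let e : A ⊗[Pl] P.ModelOfHasCoeffs Pl ≃ₐ[A] B := P.tensorModelOfHasCoeffsEquiv Pl
  haveI : Module.FaithfullyFlat A (A ⊗[Pl] P.ModelOfHasCoeffs Pl) :=
    Module.FaithfullyFlat.of_linearEquiv A B e.toLinearEquiv
  obtain ⟨C, _, _, _, ψ, hC⟩ := FD10.exists_fp_faithfullyFlat (A₀ := Pl) (P.ModelOfHasCoeffs Pl) A
  letI : Algebra R C := ((algebraMap Pl C).comp (algebraMap R Pl)).toAlgebra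
  haveI : IsScalarTower R Pl C := IsScalarTower.of_algebraMap_eq (fun _ => rfl)
  haveI : Algebra.FinitePresentation R C := Algebra.FinitePresentation.trans R Pl C
  letI : Algebra C A := ψ.toRingHom.toAlgebra
  haveI : IsScalarTower Pl C A := IsScalarTower.of_algebraMap_eq (fun p => (ψ.commutes p).symm)
  haveI : IsScalarTower R C A := IsScalarTower.of_algebraMap_eq (fun r => by
    change _ = ψ (algebraMap Pl C (algebraMap R Pl r))
    rw [ψ.commutes, ← IsScalarTower.algebraMap_apply])
  refine ⟨C, C ⊗[Pl] P.ModelOfHasCoeffs Pl, inferInstance, inferInstance, inferInstance,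
    inferInstance, inferInstance, inferInstance, inferInstance, inferInstance, hC, ?_⟩
  exact ⟨e.symm.trans
    (Algebra.TensorProduct.cancelBaseChange Pl C A A (P.ModelOfHasCoeffs Pl)).symm⟩

/-- Let `R → A → B` be ring maps with `A → B` faithfully flat and of finite presentation. Then
there are an `R`-algebra `A₀` of finite presentation mapping to `A` and a faithfully flat finitely
presented `A₀`-algebra `B₀` with `B ≅ A ⊗_{A₀} B₀` as `A`-algebras. -/
theorem descend_faithfullyFlat_finitePresentation {R A B : Type u} [CommRing R] [CommRing A]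
    [CommRing B] [Algebra R A] [Algebra A B] [Algebra.FinitePresentation A B]
    [Module.FaithfullyFlat A B] :
    ∃ (A₀ B₀ : Type u) (_ : CommRing A₀) (_ : CommRing B₀) (_ : Algebra R A₀) (_ : Algebra A₀ A)
      (_ : IsScalarTower R A₀ A) (_ : Algebra A₀ B₀), Algebra.FinitePresentation R A₀ ∧
      Algebra.FinitePresentation A₀ B₀ ∧ Module.FaithfullyFlat A₀ B₀ ∧
      Nonempty (B ≃ₐ[A] A ⊗[A₀] B₀) := by
  classical
  let P := Algebra.Presentation.ofFinitePresentation A B
  haveI : Finite P.coeffs := P.finite_coeffs.to_subtype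
  let φ : MvPolynomial P.coeffs R →ₐ[R] A := MvPolynomial.aeval (fun i => (i : A))
  letI : Algebra (MvPolynomial P.coeffs R) A := φ.toRingHom.toAlgebra
  haveI : IsScalarTower R (MvPolynomial P.coeffs R) A :=
    IsScalarTower.of_algebraMap_eq (fun r => (φ.commutes r).symm)
  letI : Algebra (MvPolynomial P.coeffs R) B := ((algebraMap A B).comp φ.toRingHom).toAlgebra
  haveI : IsScalarTower (MvPolynomial P.coeffs R) A B :=
    IsScalarTower.of_algebraMap_eq (fun _ => rfl)
  refine descend_of_hasCoeffs (R := R) (Pl := MvPolynomial P.coeffs R) (A := A) (B := B) ?_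
  intro x hx
  exact ⟨MvPolynomial.X ⟨x, hx⟩, MvPolynomial.aeval_X _ _⟩

end Groth.Agent.Lead.FD12
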