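import Groth.Agent.Lead.FD16
import Groth.Agent.Lead.LimFinite
import Groth.Agent.Lead.LimSurj
import Groth.Prelude.Def_Mor2

/-!
# FD17: finite locally free of degree `d` descends through cofiltered limits
-/

open CategoryTheory Limits AlgebraicGeometry Topology

namespace Groth.Agent.Lead.FD17
open Groth.Agent.Lead.LimFrame Groth.Agent.Lead.LimPullback Groth.Agent.Lead.LimBC
  Groth.Agent.Lead.LimHom Groth.Agent.Lead.ProConsLib
universe u

/-- rank of a base change, in factored form -/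
lemma finrank_eq_of_fac {X Y X₀ Y₀ M : Scheme.{u}} (f : X ⟶ Y) (f₀ : X₀ ⟶ Y₀) (qX : X ⟶ X₀)
    (qY : Y ⟶ Y₀) (hX : IsPullback qX f f₀ qY) (m : M ⟶ Y₀) (t : Y ⟶ M) (ht : t ≫ m = qY)
    [Flat (pullback.snd f₀ m)] [IsFinite (pullback.snd f₀ m)] (y : Y) :
    f.finrank y = (pullback.snd f₀ m).finrank (t y) := by
  subst ht
  have : IsPullback (pullback.lift qX (f ≫ t) (by rw [hX.w, Category.assoc])) f
      (pullback.snd f₀ m) t :=
    IsPullback.of_right (by rw [pullback.lift_fst]; exact hX) (pullback.lift_snd _ _ _)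
      (IsPullback.of_hasPullback f₀ m)
  exact Scheme.Hom.finrank_of_isPullback _ _ _ _ this y

/-- the locus where the rank differs from `d` is constructible -/
lemma isConstructible_finrank_ne {X Y : Scheme.{u}} (f : X ⟶ Y) [Flat f] [IsFinite f]
    [LocallyOfFinitePresentation f] (d : ℕ) : IsConstructible {y : Y | f.finrank y ≠ d} := by
  have hlc := Scheme.Hom.isLocallyConstant_finrank f
  have hopen : IsOpen {y : Y | f.finrank y ≠ d} := hlc {n | n ≠ d}
  have hclosed : IsClosed {y : Y | f.finrank y ≠ d} := by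
    have : IsOpen {y : Y | f.finrank y = d} := hlc {n | n = d}
    rw [← isOpen_compl_iff]
    convert this using 1
    ext y
    simp
  refine IsRetrocompact.isConstructible hopen ?_
  intro U hU hUo
  exact hU.inter_left hclosed

variable {I : Type u} [SmallCategory I] [IsCofiltered I] {D : I ⥤ Scheme.{u}} {c : Cone D}
  (hc : IsLimit c) [∀ {i j : I} (f : i ⟶ j), IsAffineHom (D.map f)] (i₀ : I)
  {X₀ Y₀ : Scheme.{u}} (g₀ : Y₀ ⟶ D.obj i₀) (f₀ : X₀ ⟶ Y₀)

include hc in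
set_option backward.isDefEq.respectTransparency false in
theorem finLocFreeOfDeg_descends [CompactSpace X₀] [QuasiSeparatedSpace X₀] [CompactSpace Y₀]
    [QuasiSeparatedSpace Y₀] [LocallyOfFinitePresentation f₀] (d : ℕ)
    {X Y : Scheme.{u}} (f : X ⟶ Y) (g : Y ⟶ c.pt) (qY : Y ⟶ Y₀) (qX : X ⟶ X₀)
    (hY : IsPullback qY g g₀ (c.π.app i₀)) (hX : IsPullback qX f f₀ qY)
    (hf : Mor2.IsFinLocFreeOfDeg d f) :
    ∃ j : Over i₀, Mor2.IsFinLocFreeOfDeg d (stageMap D i₀ f₀ g₀ j) := by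
  obtain ⟨⟨hfin, hflat, hfp⟩, hrank⟩ := hf
  have h1 : IsFinite (LimFrame.limMap D c i₀ f₀ g₀) := frame_in (P := @IsFinite) hY hX hfin
  have h2 : Flat (LimFrame.limMap D c i₀ f₀ g₀) := frame_in (P := @Flat) hY hX hflat
  obtain ⟨j₁, hj₁⟩ := LimFinite.isFinite_descends hc i₀ g₀ f₀ h1
  obtain ⟨j₂, hj₂⟩ := FD16.flat_descends hc i₀ g₀ f₀ h2
  let j : Over i₀ := IsCofiltered.min j₁ j₂
  haveI hjfin : IsFinite (stageMap D i₀ f₀ g₀ j) :=
    stage_of_hom @IsFinite (IsCofiltered.minToLeft j₁ j₂) hj₁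
  haveI hjflat : Flat (stageMap D i₀ f₀ g₀ j) :=
    stage_of_hom @Flat (IsCofiltered.minToRight j₁ j₂) hj₂
  -- the bad locus at stage `j`
  let E : Set ↥((pbDiag D i₀ g₀).obj j) := {y | (stageMap D i₀ f₀ g₀ j).finrank y ≠ d}
  have hE : IsConstructible E := isConstructible_finrank_ne (stageMap D i₀ f₀ g₀ j) d
  have hA : ∀ {j k : Over i₀} (f : j ⟶ k), IsAffineHom ((pbDiag D i₀ g₀).map f) :=
    fun f ↦ isAffineHom_pbDiag_map i₀ g₀ f
  have hC : CompactSpace ↥((pbDiag D i₀ g₀).obj j) := compactSpace_pbDiag D i₀ g₀ j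
  have hQ : QuasiSeparatedSpace ↥((pbDiag D i₀ g₀).obj j) := quasiSeparatedSpace_pbDiag D i₀ g₀ j
  let eY := hY.flip.isoPullback
  have hsnd : eY.hom ≫ pullback.snd (c.π.app i₀) g₀ = qY := hY.flip.isoPullback_hom_snd
  have hempty : ((pbCone D c i₀ g₀).π.app j).base ⁻¹' E = ∅ := by
    rw [Set.eq_empty_iff_forall_notMem]
    intro y hy
    have h3 := finrank_eq_of_fac f f₀ qX qY hX (pullback.snd (D.map j.hom) g₀)
      (eY.hom ≫ (pbCone D c i₀ g₀).π.app j) (by
        rw [Category.assoc, ← hsnd]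
        congr 1
        simp [pbCone]) (eY.inv y)
    rw [hrank] at h3
    apply hy
    change (stageMap D i₀ f₀ g₀ j).finrank (((pbCone D c i₀ g₀).π.app j) y) = d
    rw [h3]
    congr 1
    rw [← Scheme.Hom.comp_apply, Iso.inv_hom_id_assoc]
    rfl
  obtain ⟨k, φ, hk⟩ := LimCons.exists_preimage_eq_empty (pbConeIsLimit i₀ g₀ hc) j E
    (pro_of_isConstructible hE) hempty
  refine ⟨k, ⟨stage_of_hom @IsFinite φ hjfin, stage_of_hom @Flat φ hjflat, inferInstance⟩, ?_⟩
  intro y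
  have h4 := finrank_eq_of_fac (stageMap D i₀ f₀ g₀ k) f₀ _ _
    (IsPullback.of_hasPullback f₀ (pullback.snd (D.map k.hom) g₀))
    (pullback.snd (D.map j.hom) g₀) ((pbDiag D i₀ g₀).map φ) (by simp [pbDiag]) y
  rw [h4]
  by_contra hne
  have : y ∈ ((pbDiag D i₀ g₀).map φ).base ⁻¹' E := hne
  rw [hk] at this
  exact this

end Groth.Agent.Lead.FD17
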