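import Mathlib
import Groth.Agent.Lead.FD21
import Groth.Agent.Lead.ModDict11
import Groth.Agent.Lead.StalkPull
import Groth.Agent.Helper5.AffFlat3
import Groth.Agent.Helper4.FTTilde

/-!
# FD22: Noetherian approximation of a finitely presented morphism of affine schemes together with a
finitely presented quasi-coherent module (scheme-level assembly of FD21)
-/

set_option autoImplicit false
universe u
open TensorProduct CategoryTheory AlgebraicGeometry Limits

namespace Groth.Agent.Lead.FD22

open Groth.Agent.Lead.ModDict Groth.Agent.Helper8.TildeBC Scheme.Modules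

/-- transport of flatness along an equivalence, for module structures given by `compHom` -/
theorem flat_compHom_of_equiv {A B : Type u} [CommRing A] [CommRing B] (φ ψ : A →+* B) (h : φ = ψ)
    {M N : Type u} [AddCommGroup M] [Module B M] [AddCommGroup N] [Module B N] (e : M ≃ₗ[B] N)
    (hM : @Module.Flat A M _ _ (Module.compHom M φ)) :
    @Module.Flat A N _ _ (Module.compHom N ψ) := by
  subst h
  letI := Module.compHom M φ
  letI := Module.compHom N φ
  let e' : N ≃ₗ[A] M :=
    { e.symm.toAddEquiv with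
      map_smul' := fun a n => by
        change e.symm (φ a • n) = φ a • e.symm n
        exact map_smul e.symm _ _ }
  exact Module.Flat.of_linearEquiv e'

section iso
variable {X : Scheme.{u}} [IsAffine X] (F : X.Modules) [F.IsQuasicoherent]

/-- on an affine scheme, a quasi-coherent module is the pullback along `X ≅ Spec Γ(X)` of the
tilde of its global sections -/
noncomputable def isoPullbackTilde :
    (Scheme.Modules.pullback X.isoSpec.hom).obj
      ((tilde.functor Γ(X, ⊤)).obj ((secF (isAffineOpen_top X)).obj F)) ≅ F :=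
  (Scheme.Modules.pullback X.isoSpec.hom).mapIso (tildeIso (isAffineOpen_top X) F) ≪≫
    (Scheme.Modules.pullback X.isoSpec.hom).mapIso
      ((restrictFunctorIsoPullback (isAffineOpen_top X).fromSpec).app F) ≪≫
    (pullbackComp X.isoSpec.hom (isAffineOpen_top X).fromSpec).app F ≪≫
    (pullbackCongr (show X.isoSpec.hom ≫ (isAffineOpen_top X).fromSpec = 𝟙 X by
      rw [IsAffineOpen.fromSpec_top, Iso.hom_inv_id])).app F ≪≫
    (pullbackId X).app F

end iso

/-- Noetherian approximation of a finitely presented morphism of affine schemes with a finitely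
presented quasi-coherent module; flatness over the base descends too. -/
theorem main {X S : Scheme.{u}} (f : X ⟶ S) [IsAffine X] [IsAffine S]
    [LocallyOfFinitePresentation f] (F : X.Modules) [F.IsQuasicoherent]
    (hF : SheafOfModules.IsFinitePresentation (R := X.ringCatSheaf) F) :
    ∃ (X₀ S₀ : Scheme.{u}) (f₀ : X₀ ⟶ S₀) (g : S ⟶ S₀) (g' : X ⟶ X₀), IsAffine X₀ ∧ IsAffine S₀ ∧
      IsPullback g' f f₀ g ∧ Algebra.FiniteType ℤ Γ(S₀, ⊤) ∧ LocallyOfFiniteType f₀ ∧
      ∃ F₀ : X₀.Modules, Coh.IsCoh F₀ ∧ (FlatMod.IsFlatOver f F → FlatMod.IsFlatOver f₀ F₀) ∧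
        Nonempty ((Scheme.Modules.pullback g').obj F₀ ≅ F) := by
  have h1 : f.appTop.hom.FinitePresentation :=
    (HasRingHomProperty.iff_of_isAffine (P := @LocallyOfFinitePresentation)).mp inferInstance
  algebraize [f.appTop.hom]
  have hX := isAffineOpen_top X
  letI modN : Module Γ(S, ⊤) ((secF hX).obj F) := Module.compHom _ f.appTop.hom
  haveI : IsScalarTower Γ(S, ⊤) Γ(X, ⊤) ((secF hX).obj F) :=
    IsScalarTower.of_algebraMap_smul fun r m => rfl
  haveI : Module.FinitePresentation Γ(X, ⊤) ((secF hX).obj F) := fp_secF hX F hF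
  obtain ⟨C₀, D₀, _, _, _, α, β, M₀, _, _, _, _, hpo, hft, hφft, hfin, ⟨eN⟩, hflat⟩ :=
    FD21.exists_noeth_model_module (A := Γ(S, ⊤)) (B := Γ(X, ⊤)) ((secF hX).obj F)
  have hpb := isPullback_SpecMap_of_isPushout _ _ _ _ hpo
  refine ⟨Spec (.of D₀), Spec (.of C₀), Spec.map (CommRingCat.ofHom (algebraMap C₀ D₀)),
    S.isoSpec.hom ≫ Spec.map (CommRingCat.ofHom α), X.isoSpec.hom ≫ Spec.map (CommRingCat.ofHom β),
    inferInstance, inferInstance, ?_, ?_, ?_, ?_⟩
  · refine hpb.of_iso X.isoSpec.symm (Iso.refl _) S.isoSpec.symm (Iso.refl _) ?_ ?_ ?_ ?_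
    · simp
    · have : CommRingCat.ofHom (algebraMap Γ(S, ⊤) Γ(X, ⊤)) = f.appTop := rfl
      rw [this]
      exact Scheme.isoSpec_inv_naturality f
    · simp
    · simp
  · exact Algebra.FiniteType.equiv hft
      (Scheme.ΓSpecIso (.of C₀)).commRingCatIsoToRingEquiv.symm.toIntAlgEquiv
  · exact (HasRingHomProperty.Spec_iff (P := @LocallyOfFiniteType)).mpr
      (RingHom.finiteType_algebraMap.mpr hφft)
  · refine ⟨tilde (R := CommRingCat.of D₀) (ModuleCat.of D₀ M₀), ⟨?_, ?_⟩, ?_, ⟨?_⟩⟩
    · exact inferInstanceAs (tilde (R := CommRingCat.of D₀) (ModuleCat.of D₀ M₀)).IsQuasicoherent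
    · exact Groth.Agent.Helper4.FTTilde.isFT_tilde_of_finite (CommRingCat.of D₀)
        (ModuleCat.of D₀ M₀)
    · intro hfl
      refine (Groth.Agent.Helper5.AffFlat.s2394 C₀ D₀ M₀).mpr (hflat ?_)
      have e : (⊤ : X.Opens) ≤ f ⁻¹ᵁ ⊤ := le_top
      have h2 := (Groth.Agent.Helper5.AffFlat.flat_sections_iff f F (isAffineOpen_top S) hX
        e).mp (fun x _ => hfl x)
      have h3 : f.appLE ⊤ ⊤ e = f.appTop := by
        rw [Scheme.Hom.appLE]
        simp [Scheme.Hom.appTop]
      exact flat_compHom_of_equiv (f.appLE ⊤ ⊤ e).hom f.appTop.hom (by rw [h3])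
        (Groth.Agent.Lead.StalkPull.secFEquiv hX F) h2
    · refine (pullbackComp X.isoSpec.hom (Spec.map (CommRingCat.ofHom β))).symm.app _ ≪≫ ?_
      refine (Scheme.Modules.pullback X.isoSpec.hom).mapIso
        ((tildePullbackIso (CommRingCat.ofHom β)).app (ModuleCat.of D₀ M₀)) ≪≫ ?_
      refine (Scheme.Modules.pullback X.isoSpec.hom).mapIso
        ((tilde.functor Γ(X, ⊤)).mapIso ?_) ≪≫ isoPullbackTilde F
      exact eN.symm.toModuleIso

end Groth.Agent.Lead.FD22
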