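import Mathlib
import Groth.Prelude.Def_FEt

/-!
# Finite étale covers of an affine scheme and finite étale algebras
-/

universe u

set_option linter.style.haveILetI false

namespace Groth.Agent.Lead.FEtAlg

open CategoryTheory CategoryTheory.Limits AlgebraicGeometry TensorProduct

section SpecObj

variable (R : Type u) [CommRing R]

theorem prop_specMap (B : Type u) [CommRing B] [Algebra R B] [Module.Finite R B]
    [Algebra.Etale R B] : FEt.prop (Spec.map (CommRingCat.ofHom (algebraMap R B))) := by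
  refine ⟨?_, ?_⟩
  · rw [IsFinite.SpecMap_iff]
    exact RingHom.finite_algebraMap.mpr inferInstance
  · rw [HasRingHomProperty.Spec_iff (P := @Etale)]
    exact RingHom.etale_algebraMap.mpr inferInstance

/-- The finite étale cover attached to a finite étale algebra. -/
noncomputable def specObj (B : Type u) [CommRing B] [Algebra R B] [Module.Finite R B]
    [Algebra.Etale R B] : FEt.Cat (Spec (CommRingCat.of R)) :=
  MorphismProperty.Over.mk ⊤ (Spec.map (CommRingCat.ofHom (algebraMap R B))) (prop_specMap R B)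

variable {R}
variable {B₁ B₂ B₃ : Type u} [CommRing B₁] [CommRing B₂] [CommRing B₃] [Algebra R B₁]
  [Algebra R B₂] [Algebra R B₃]
  [Module.Finite R B₁] [Algebra.Etale R B₁] [Module.Finite R B₂] [Algebra.Etale R B₂]
  [Module.Finite R B₃] [Algebra.Etale R B₃]

/-- The morphism of covers attached to an algebra homomorphism (contravariantly). -/
noncomputable def specHom (ψ : B₂ →ₐ[R] B₁) : specObj R B₁ ⟶ specObj R B₂ :=
  MorphismProperty.Over.homMk (Spec.map (CommRingCat.ofHom ψ.toRingHom)) (by
    show Spec.map (CommRingCat.ofHom ψ.toRingHom) ≫ Spec.map (CommRingCat.ofHom (algebraMap R B₂)) =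
      Spec.map (CommRingCat.ofHom (algebraMap R B₁))
    rw [← Spec.map_comp, ← CommRingCat.ofHom_comp]
    congr 2
    exact ψ.comp_algebraMap) trivial

theorem specHom_left (ψ : B₂ →ₐ[R] B₁) :
    (specHom ψ).left = Spec.map (CommRingCat.ofHom ψ.toRingHom) := rfl

theorem specHom_injective : Function.Injective (specHom : (B₂ →ₐ[R] B₁) → _) := by
  intro ψ ψ' h
  have h1 : (specHom ψ).left = (specHom ψ').left := by rw [h]
  rw [specHom_left, specHom_left] at h1
  have h2 := Spec.map_injective h1
  have h3 : ψ.toRingHom = ψ'.toRingHom := congrArg CommRingCat.Hom.hom h2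
  exact AlgHom.coe_ringHom_injective h3

theorem specHom_surjective (g : specObj R B₁ ⟶ specObj R B₂) : ∃ ψ : B₂ →ₐ[R] B₁, specHom ψ = g := by
  let gl : Spec (CommRingCat.of B₁) ⟶ Spec (CommRingCat.of B₂) := g.left
  obtain ⟨θ, hθ⟩ : ∃ θ : CommRingCat.of B₂ ⟶ CommRingCat.of B₁, Spec.map θ = gl :=
    ⟨Spec.preimage gl, Spec.map_preimage _⟩
  have hw : gl ≫ Spec.map (CommRingCat.ofHom (algebraMap R B₂)) =
      Spec.map (CommRingCat.ofHom (algebraMap R B₁)) := MorphismProperty.Over.w g
  rw [← hθ, ← Spec.map_comp] at hw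
  have hw' := Spec.map_injective hw
  let ψ : B₂ →ₐ[R] B₁ :=
    { θ.hom with
      commutes' := fun r => by
        have := congrArg (fun φ => φ.hom r) hw'
        simpa using this }
  refine ⟨ψ, ?_⟩
  apply MorphismProperty.Over.Hom.ext
  show Spec.map (CommRingCat.ofHom ψ.toRingHom) = gl
  rw [← hθ]
  rfl

theorem specHom_comp (ψ : B₂ →ₐ[R] B₁) (χ : B₃ →ₐ[R] B₂) :
    specHom ψ ≫ specHom χ = specHom (ψ.comp χ) := by
  apply MorphismProperty.Over.Hom.ext
  show (Spec.map (CommRingCat.ofHom ψ.toRingHom) : Spec (CommRingCat.of B₁) ⟶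
      Spec (CommRingCat.of B₂)) ≫ (Spec.map (CommRingCat.ofHom χ.toRingHom) :
      Spec (CommRingCat.of B₂) ⟶ Spec (CommRingCat.of B₃)) =
    Spec.map (CommRingCat.ofHom (ψ.comp χ).toRingHom)
  rw [← Spec.map_comp, ← CommRingCat.ofHom_comp]
  rfl

theorem specHom_id : specHom (AlgHom.id R B₁) = 𝟙 (specObj R B₁) := by
  apply MorphismProperty.Over.Hom.ext
  show Spec.map (CommRingCat.ofHom (RingHom.id B₁)) = 𝟙 (Spec (CommRingCat.of B₁))
  rw [CommRingCat.ofHom_id, Spec.map_id]

/-- Isomorphic algebras give isomorphic covers. -/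
noncomputable def specIso (e : B₁ ≃ₐ[R] B₂) : specObj R B₁ ≅ specObj R B₂ where
  hom := specHom e.symm.toAlgHom
  inv := specHom e.toAlgHom
  hom_inv_id := by
    rw [specHom_comp, ← specHom_id]
    congr 1
    ext x
    simp
  inv_hom_id := by
    rw [specHom_comp, ← specHom_id]
    congr 1
    ext x
    simp

end SpecObj

section Exists

variable (R : Type u) [CommRing R]

theorem exists_iso_specObj (W : FEt.Cat (Spec (CommRingCat.of R))) :
    ∃ (B : Type u) (_ : CommRing B) (_ : Algebra R B) (_ : Module.Finite R B)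
      (_ : Algebra.Etale R B), Nonempty (W ≅ specObj R B) := by
  haveI : IsFinite W.hom := W.prop.1
  haveI : Etale W.hom := W.prop.2
  let p : W.left ⟶ Spec (CommRingCat.of R) := W.hom
  haveI : IsFinite p := W.prop.1
  haveI : Etale p := W.prop.2
  haveI : IsAffine W.left := isAffine_of_isAffineHom p
  let φ : CommRingCat.of R ⟶ Γ(W.left, ⊤) :=
    (Scheme.ΓSpecIso (CommRingCat.of R)).inv ≫ p.appTop
  have hφ : W.left.isoSpec.hom ≫ Spec.map φ = p := by
    rw [Spec.map_comp, ← Scheme.isoSpec_Spec_inv, ← Category.assoc,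
      Scheme.isoSpec_hom_naturality, Category.assoc, Iso.hom_inv_id, Category.comp_id]
  have hφ' : Spec.map φ = W.left.isoSpec.inv ≫ p := by
    rw [← hφ, Iso.inv_hom_id_assoc]
  have hfin : IsFinite (Spec.map φ) := by rw [hφ']; infer_instance
  have het : Etale (Spec.map φ) := by rw [hφ']; infer_instance
  letI : Algebra R Γ(W.left, ⊤) := φ.hom.toAlgebra
  have h1 : φ.hom.Finite := (IsFinite.SpecMap_iff φ).mp hfin
  have h2 : φ.hom.Etale := (HasRingHomProperty.Spec_iff (P := @Etale)).mp het
  haveI : Module.Finite R Γ(W.left, ⊤) := h1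
  haveI : Algebra.Etale R Γ(W.left, ⊤) := h2
  refine ⟨Γ(W.left, ⊤), inferInstance, inferInstance, inferInstance, inferInstance, ⟨?_⟩⟩
  exact MorphismProperty.Over.isoMk W.left.isoSpec hφ

end Exists

end Groth.Agent.Lead.FEtAlg
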