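import Mathlib
import Groth.Prelude.Def_FEt
import Groth.Agent.Lead.FEtAlgA

/-!
# Restriction of finite étale covers along `Spec R' ⟶ Spec R` in terms of algebras
-/

universe u

set_option linter.style.haveILetI false

namespace Groth.Agent.Lead.FEtAlg

open CategoryTheory CategoryTheory.Limits AlgebraicGeometry TensorProduct

variable (R R' : Type u) [CommRing R] [CommRing R'] [Algebra R R']

/-- The base change morphism. -/
noncomputable abbrev bc : Spec (CommRingCat.of R') ⟶ Spec (CommRingCat.of R) :=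
  Spec.map (CommRingCat.ofHom (algebraMap R R'))

section One

variable (B : Type u) [CommRing B] [Algebra R B]

/-- The fibre product `Spec B ×_{Spec R} Spec R'` is `Spec (R' ⊗ B)`. -/
noncomputable def leftIso :
    pullback (Spec.map (CommRingCat.ofHom (algebraMap R B))) (bc R R') ≅
      Spec (CommRingCat.of (R' ⊗[R] B)) :=
  pullbackSymmetry _ _ ≪≫ pullbackSpecIso R R' B

theorem leftIso_inv_fst : (leftIso R R' B).inv ≫ pullback.fst _ _ =
    Spec.map (CommRingCat.ofHom
      (Algebra.TensorProduct.includeRight (R := R) (A := R') (B := B)).toRingHom) := by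
  unfold leftIso
  rw [Iso.trans_inv, Category.assoc, pullbackSymmetry_inv_comp_fst, pullbackSpecIso_inv_snd]
  rfl

theorem leftIso_inv_snd : (leftIso R R' B).inv ≫ pullback.snd _ _ =
    Spec.map (CommRingCat.ofHom (algebraMap R' (R' ⊗[R] B))) := by
  unfold leftIso
  rw [Iso.trans_inv, Category.assoc, pullbackSymmetry_inv_comp_snd, pullbackSpecIso_inv_fst']

variable [Module.Finite R B] [Algebra.Etale R B]

/-- The restriction of `Spec B` is `Spec (R' ⊗ B)`. -/
noncomputable def restrictSpecIso :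
    (FEt.restrict (bc R R')).obj (specObj R B) ≅ specObj R' (R' ⊗[R] B) :=
  MorphismProperty.Over.isoMk (leftIso R R' B) (by
    show (leftIso R R' B).hom ≫ Spec.map (CommRingCat.ofHom (algebraMap R' (R' ⊗[R] B))) =
      pullback.snd _ _
    rw [← leftIso_inv_snd, Iso.hom_inv_id_assoc])

theorem restrictSpecIso_inv_left :
    (restrictSpecIso R R' B).inv.left = (leftIso R R' B).inv := rfl

end One

section Two

variable {R}
variable {B₁ B₂ : Type u} [CommRing B₁] [CommRing B₂] [Algebra R B₁] [Algebra R B₂]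
  [Module.Finite R B₁] [Algebra.Etale R B₁] [Module.Finite R B₂] [Algebra.Etale R B₂]

theorem restrict_map_specHom (ψ : B₂ →ₐ[R] B₁) :
    specHom (Algebra.TensorProduct.map (AlgHom.id R' R') ψ) ≫ (restrictSpecIso R R' B₂).inv =
      (restrictSpecIso R R' B₁).inv ≫ (FEt.restrict (bc R R')).map (specHom ψ) := by
  apply MorphismProperty.Over.Hom.ext
  show (Spec.map (CommRingCat.ofHom
      (Algebra.TensorProduct.map (AlgHom.id R' R') ψ).toRingHom) :
      Spec (CommRingCat.of (R' ⊗[R] B₁)) ⟶ Spec (CommRingCat.of (R' ⊗[R] B₂))) ≫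
        (leftIso R R' B₂).inv =
    (leftIso R R' B₁).inv ≫ pullback.lift
      (pullback.fst (Spec.map (CommRingCat.ofHom (algebraMap R B₁))) (bc R R') ≫
        Spec.map (CommRingCat.ofHom ψ.toRingHom))
      (pullback.snd (Spec.map (CommRingCat.ofHom (algebraMap R B₁))) (bc R R')) _
  apply pullback.hom_ext
  · rw [Category.assoc, Category.assoc, pullback.lift_fst, leftIso_inv_fst,
      ← Category.assoc, leftIso_inv_fst, ← Spec.map_comp, ← Spec.map_comp,
      ← CommRingCat.ofHom_comp, ← CommRingCat.ofHom_comp]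
    congr 2
  · rw [Category.assoc, Category.assoc, pullback.lift_snd, leftIso_inv_snd, leftIso_inv_snd,
      ← Spec.map_comp, ← CommRingCat.ofHom_comp]
    congr 2
    ext r
    simp [Algebra.TensorProduct.algebraMap_apply]

end Two

section Main

variable
  (H1 : ∀ (C : Type u) [CommRing C] [Algebra R' C] [Module.Finite R' C] [Algebra.Etale R' C],
    ∃ (B : Type u) (_ : CommRing B) (_ : Algebra R B), Module.Finite R B ∧ Algebra.Etale R B ∧
      Nonempty (R' ⊗[R] B ≃ₐ[R'] C))
  (H2 : ∀ (B₁ B₂ : Type u) [CommRing B₁] [CommRing B₂] [Algebra R B₁] [Algebra R B₂]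
    [Module.Finite R B₁] [Algebra.Etale R B₁] [Module.Finite R B₂] [Algebra.Etale R B₂],
    Function.Bijective (fun φ : B₁ →ₐ[R] B₂ =>
      Algebra.TensorProduct.map (AlgHom.id R' R') φ))

include H2 in
theorem map_bijective_specObj (B₁ B₂ : Type u) [CommRing B₁] [CommRing B₂] [Algebra R B₁]
    [Algebra R B₂] [Module.Finite R B₁] [Algebra.Etale R B₁] [Module.Finite R B₂]
    [Algebra.Etale R B₂] :
    Function.Bijective (fun g : specObj R B₁ ⟶ specObj R B₂ =>
      (FEt.restrict (bc R R')).map g) := by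
  constructor
  · intro g g' h
    obtain ⟨ψ, rfl⟩ := specHom_surjective g
    obtain ⟨ψ', rfl⟩ := specHom_surjective g'
    have h' : (FEt.restrict (bc R R')).map (specHom ψ) =
        (FEt.restrict (bc R R')).map (specHom ψ') := h
    have e1 := restrict_map_specHom R' ψ
    have e2 := restrict_map_specHom R' ψ'
    rw [h'] at e1
    rw [← e2] at e1
    have e3 := (cancel_mono _).mp e1
    have e4 := specHom_injective e3
    rw [(H2 B₂ B₁).1 e4]
  · intro h
    let h' : specObj R' (R' ⊗[R] B₁) ⟶ specObj R' (R' ⊗[R] B₂) :=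
      (restrictSpecIso R R' B₁).inv ≫ h ≫ (restrictSpecIso R R' B₂).hom
    obtain ⟨θ, hθ⟩ := specHom_surjective h'
    obtain ⟨ψ, hψ⟩ := (H2 B₂ B₁).2 θ
    refine ⟨specHom ψ, ?_⟩
    show (FEt.restrict (bc R R')).map (specHom ψ) = h
    have e1 := restrict_map_specHom R' ψ
    have hψ' : Algebra.TensorProduct.map (AlgHom.id R' R') ψ = θ := hψ
    rw [hψ', hθ] at e1
    rw [← cancel_epi (restrictSpecIso R R' B₁).inv, ← e1]
    simp only [h', Category.assoc, Iso.hom_inv_id, Category.comp_id]

include H2 in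
theorem map_bijective (W₁ W₂ : FEt.Cat (Spec (CommRingCat.of R))) :
    Function.Bijective (fun g : W₁ ⟶ W₂ => (FEt.restrict (bc R R')).map g) := by
  obtain ⟨B₁, _, _, _, _, ⟨a⟩⟩ := exists_iso_specObj R W₁
  obtain ⟨B₂, _, _, _, _, ⟨b⟩⟩ := exists_iso_specObj R W₂
  have hb := map_bijective_specObj R R' H2 B₁ B₂
  constructor
  · intro g g' h
    have h' : (FEt.restrict (bc R R')).map g = (FEt.restrict (bc R R')).map g' := h
    have : a.inv ≫ g ≫ b.hom = a.inv ≫ g' ≫ b.hom := by
      apply hb.1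
      show (FEt.restrict (bc R R')).map (a.inv ≫ g ≫ b.hom) =
        (FEt.restrict (bc R R')).map (a.inv ≫ g' ≫ b.hom)
      rw [Functor.map_comp, Functor.map_comp, h', ← Functor.map_comp, ← Functor.map_comp]
    have h2 := (cancel_epi a.inv).mp this
    exact (cancel_mono b.hom).mp h2
  · intro h
    obtain ⟨g₀, hg₀⟩ := hb.2 ((FEt.restrict (bc R R')).map a.inv ≫ h ≫
      (FEt.restrict (bc R R')).map b.hom)
    refine ⟨a.hom ≫ g₀ ≫ b.inv, ?_⟩
    show (FEt.restrict (bc R R')).map (a.hom ≫ g₀ ≫ b.inv) = h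
    have hg₀' : (FEt.restrict (bc R R')).map g₀ = (FEt.restrict (bc R R')).map a.inv ≫ h ≫
      (FEt.restrict (bc R R')).map b.hom := hg₀
    rw [Functor.map_comp, Functor.map_comp, hg₀']
    have ha : (FEt.restrict (bc R R')).map a.hom ≫ (FEt.restrict (bc R R')).map a.inv = 𝟙 _ := by
      rw [← Functor.map_comp, Iso.hom_inv_id, CategoryTheory.Functor.map_id]
    have hb' : (FEt.restrict (bc R R')).map b.hom ≫ (FEt.restrict (bc R R')).map b.inv = 𝟙 _ := by
      rw [← Functor.map_comp, Iso.hom_inv_id, CategoryTheory.Functor.map_id]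
    calc (FEt.restrict (bc R R')).map a.hom ≫ ((FEt.restrict (bc R R')).map a.inv ≫ h ≫
          (FEt.restrict (bc R R')).map b.hom) ≫ (FEt.restrict (bc R R')).map b.inv
        = ((FEt.restrict (bc R R')).map a.hom ≫ (FEt.restrict (bc R R')).map a.inv) ≫ h ≫
          ((FEt.restrict (bc R R')).map b.hom ≫ (FEt.restrict (bc R R')).map b.inv) := by
          simp only [Category.assoc]
      _ = h := by rw [ha, hb', Category.id_comp, Category.comp_id]

include H1 H2 in
theorem restrict_isEquivalence : (FEt.restrict (bc R R')).IsEquivalence := by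
  haveI : (FEt.restrict (bc R R')).Faithful :=
    ⟨fun {W₁ W₂} g g' h => (map_bijective R R' H2 W₁ W₂).1 h⟩
  haveI : (FEt.restrict (bc R R')).Full :=
    ⟨fun {W₁ W₂} h => (map_bijective R R' H2 W₁ W₂).2 h⟩
  haveI : (FEt.restrict (bc R R')).EssSurj := ⟨fun Z => by
    obtain ⟨C, _, _, _, _, ⟨c⟩⟩ := exists_iso_specObj R' Z
    obtain ⟨B, _, _, hfin, het, ⟨e⟩⟩ := H1 C
    haveI := hfin
    haveI := het
    exact ⟨specObj R B, ⟨restrictSpecIso R R' B ≪≫ specIso e ≪≫ c.symm⟩⟩⟩
  exact {}

end Main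

end Groth.Agent.Lead.FEtAlg
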