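import Mathlib
import Groth.Prelude.Def_FlatMod2

set_option autoImplicit false
universe u
open CategoryTheory CategoryTheory.Limits AlgebraicGeometry TopologicalSpace Opposite TensorProduct

namespace Groth.Agent.Lead.FFComp

section Alg

variable {A B N : Type u} [CommRing A] [CommRing B] [Algebra A B] [AddCommGroup N] [Module B N]
  [Module A N] [IsScalarTower A B N]

theorem cancel_nat {M' M : Type u} [AddCommGroup M'] [AddCommGroup M] [Module A M'] [Module A M]
    (φ : M' →ₗ[A] M) (z : N ⊗[B] (B ⊗[A] M')) :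
    (φ.lTensor N) (AlgebraTensorModule.cancelBaseChange A B B N M' z) =
      AlgebraTensorModule.cancelBaseChange A B B N M ((φ.baseChange B).lTensor N z) := by
  induction z using TensorProduct.induction_on with
  | zero => simp
  | add x y hx hy => rw [map_add, map_add, map_add, map_add, hx, hy]
  | tmul n w =>
    induction w using TensorProduct.induction_on with
    | zero => simp
    | add x y hx hy =>
      rw [TensorProduct.tmul_add, map_add, map_add, map_add, map_add, hx, hy]
    | tmul b m => simp

/-- if a faithfully flat `B`-module is flat over `A`, then `B` is flat over `A` -/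
theorem flat_of_faithfullyFlat_module [Module.FaithfullyFlat B N] (h : Module.Flat A N) :
    Module.Flat A B := by
  rw [Module.Flat.iff_lTensor_preserves_injective_linearMap]
  intro M' M _ _ _ _ φ hφ
  have h1 : Function.Injective (φ.lTensor N) :=
    Module.Flat.lTensor_preserves_injective_linearMap φ hφ
  have h2 : Function.Injective ((φ.baseChange B).lTensor N) := by
    intro z w hzw
    apply (AlgebraTensorModule.cancelBaseChange A B B N M').injective
    apply h1
    rw [cancel_nat, cancel_nat, hzw]
  have h3 := (Module.FaithfullyFlat.lTensor_injective_iff_injective B N (φ.baseChange B)).mp h2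
  exact h3

end Alg


section Geom

variable {X Y Z : Scheme.{u}}

/-- local rings: flat + nonvanishing fibre ⇒ faithfully flat -/
theorem faithfullyFlat_of_local {B N : Type u} [CommRing B] [IsLocalRing B] [AddCommGroup N]
    [Module B N] (hfl : Module.Flat B N)
    (hne : IsLocalRing.maximalIdeal B • (⊤ : Submodule B N) ≠ ⊤) : Module.FaithfullyFlat B N := by
  refine ⟨fun m hm => ?_⟩
  rw [IsLocalRing.eq_maximalIdeal hm]
  exact hne

set_option backward.isDefEq.respectTransparency false in
/-- S4681 -/
theorem main (f : X ⟶ Y) (g : Y ⟶ Z) (F : X.Modules) (hFfl : FlatMod.IsFlatOver f F)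
    (hFff : (∀ y : ↥Y, ∃ x : ↥X, f x = y ∧
      letI := FlatMod.moduleStalkOver f F x
      IsLocalRing.maximalIdeal (Y.presheaf.stalk (f x)) •
        (⊤ : Submodule (Y.presheaf.stalk (f x)) (F.presheaf.stalk x)) ≠ ⊤)) :
    (Flat g ∧ Surjective g) ↔
      (FlatMod.IsFlatOver (f ≫ g) F ∧
        (∀ z : ↥Z, ∃ x : ↥X, (f ≫ g) x = z ∧
      letI := FlatMod.moduleStalkOver (f ≫ g) F x
      IsLocalRing.maximalIdeal (Z.presheaf.stalk ((f ≫ g) x)) •
        (⊤ : Submodule (Z.presheaf.stalk ((f ≫ g) x)) (F.presheaf.stalk x)) ≠ ⊤)) := by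
  -- common setup at a point `x`
  have setup : ∀ x : X,
      letI mB := FlatMod.moduleStalkOver f F x
      letI mA := FlatMod.moduleStalkOver (f ≫ g) F x
      letI aAB : Algebra (Z.presheaf.stalk ((f ≫ g) x)) (Y.presheaf.stalk (f x)) :=
        (g.stalkMap (f x)).hom.toAlgebra
      IsScalarTower (Z.presheaf.stalk ((f ≫ g) x)) (Y.presheaf.stalk (f x))
        (F.presheaf.stalk x) := by
    intro x
    letI mB := FlatMod.moduleStalkOver f F x
    letI mA := FlatMod.moduleStalkOver (f ≫ g) F x
    letI aAB : Algebra (Z.presheaf.stalk ((f ≫ g) x)) (Y.presheaf.stalk (f x)) :=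
      (g.stalkMap (f x)).hom.toAlgebra
    refine ⟨fun a b n => ?_⟩
    change (f.stalkMap x) ((g.stalkMap (f x)) a * b) • n =
      ((f ≫ g).stalkMap x) a • ((f.stalkMap x) b • n)
    rw [map_mul, mul_smul, Scheme.Hom.stalkMap_comp]
    rfl
  constructor
  · rintro ⟨hg, hs⟩
    refine ⟨fun x => ?_, fun z => ?_⟩
    · letI mB := FlatMod.moduleStalkOver f F x
      letI mA := FlatMod.moduleStalkOver (f ≫ g) F x
      letI aAB : Algebra (Z.presheaf.stalk ((f ≫ g) x)) (Y.presheaf.stalk (f x)) :=
        (g.stalkMap (f x)).hom.toAlgebra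
      haveI := setup x
      haveI hB : Module.Flat (Y.presheaf.stalk (f x)) (F.presheaf.stalk x) := hFfl x
      haveI hAB : Module.Flat (Z.presheaf.stalk ((f ≫ g) x)) (Y.presheaf.stalk (f x)) :=
        (Flat.iff_flat_stalkMap g).mp hg (f x)
      have h2 : Module.Flat (Z.presheaf.stalk ((f ≫ g) x)) (F.presheaf.stalk x) :=
        Module.Flat.trans _ (Y.presheaf.stalk (f x)) _
      exact h2
    · obtain ⟨y, rfl⟩ := g.surjective z
      obtain ⟨x, rfl, hx⟩ := hFff y
      refine ⟨x, rfl, ?_⟩
      letI mB := FlatMod.moduleStalkOver f F x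
      letI mA := FlatMod.moduleStalkOver (f ≫ g) F x
      letI aAB : Algebra (Z.presheaf.stalk ((f ≫ g) x)) (Y.presheaf.stalk (f x)) :=
        (g.stalkMap (f x)).hom.toAlgebra
      haveI := setup x
      intro htop
      apply hx
      rw [eq_top_iff]
      intro n _
      have hn : n ∈ IsLocalRing.maximalIdeal (Z.presheaf.stalk ((f ≫ g) x)) •
          (⊤ : Submodule (Z.presheaf.stalk ((f ≫ g) x)) (F.presheaf.stalk x)) := by
        rw [htop]; trivial
      refine Submodule.smul_induction_on hn (fun a ha m _ => ?_) (fun a b ha hb => add_mem ha hb)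
      have : a • m = (algebraMap (Z.presheaf.stalk ((f ≫ g) x)) (Y.presheaf.stalk (f x)) a) • m :=
        (algebraMap_smul _ a m).symm
      rw [this]
      refine Submodule.smul_mem_smul ?_ trivial
      exact _root_.map_nonunit (g.stalkMap (f x)).hom a ha
  · rintro ⟨hfl, hnv⟩
    refine ⟨?_, ⟨fun z => ?_⟩⟩
    · rw [Flat.iff_flat_stalkMap]
      intro y
      obtain ⟨x, rfl, hx⟩ := hFff y
      letI mB := FlatMod.moduleStalkOver f F x
      letI mA := FlatMod.moduleStalkOver (f ≫ g) F x
      letI aAB : Algebra (Z.presheaf.stalk ((f ≫ g) x)) (Y.presheaf.stalk (f x)) :=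
        (g.stalkMap (f x)).hom.toAlgebra
      haveI := setup x
      haveI hB : Module.FaithfullyFlat (Y.presheaf.stalk (f x)) (F.presheaf.stalk x) :=
        faithfullyFlat_of_local (hFfl x) hx
      have hA : Module.Flat (Z.presheaf.stalk ((f ≫ g) x)) (F.presheaf.stalk x) := hfl x
      have h2 : Module.Flat (Z.presheaf.stalk ((f ≫ g) x)) (Y.presheaf.stalk (f x)) :=
        flat_of_faithfullyFlat_module (N := F.presheaf.stalk x) hA
      exact h2
    · obtain ⟨x, hx, -⟩ := hnv z
      exact ⟨f x, hx⟩

end Geom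

end Groth.Agent.Lead.FFComp
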