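import Mathlib

/-!
# Finite projective base change: the algebra of coordinate maps
-/

set_option autoImplicit false
set_option linter.unusedSectionVars false
set_option linter.unusedVariables false
universe u
open TensorProduct

namespace Groth.Agent.Lead.FLBC

section Coord
variable {A B N N' : Type u} [CommRing A] [CommRing B] [Algebra A B]
  [AddCommGroup N] [Module A N] [AddCommGroup N'] [Module A N'] [Module B N']
  [IsScalarTower A B N'] {c : N →ₗ[A] N'} (hc : IsBaseChange B c)

/-- the coordinate map `N' = B ⊗ N → N` attached to a functional `s : B → A` -/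
noncomputable def coord (s : B →ₗ[A] A) : N' →ₗ[A] N :=
  ((TensorProduct.lid A N).toLinearMap ∘ₗ TensorProduct.map s LinearMap.id) ∘ₗ
    (hc.equiv.symm.toLinearMap.restrictScalars A)

theorem coord_smul (s : B →ₗ[A] A) (b : B) (n : N) : coord hc s (b • c n) = s b • n := by
  have h1 : hc.equiv.symm (b • c n) = b ⊗ₜ[A] n := by
    rw [LinearEquiv.symm_apply_eq, IsBaseChange.equiv_tmul]
  change (TensorProduct.lid A N) (TensorProduct.map s LinearMap.id (hc.equiv.symm (b • c n))) = _
  rw [h1, TensorProduct.map_tmul, TensorProduct.lid_tmul, LinearMap.id_apply]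

theorem sum_coord {ι : Type*} [Fintype ι] (bk : ι → B) (sk : ι → (B →ₗ[A] A))
    (hdual : ∀ b, ∑ k, sk k b • bk k = b) (y : N') :
    ∑ k, bk k • c (coord hc (sk k) y) = y := by
  obtain ⟨t, rfl⟩ := hc.equiv.surjective y
  induction t using TensorProduct.induction_on with
  | zero => simp
  | tmul b n =>
    rw [IsBaseChange.equiv_tmul]
    have h1 : ∀ k, bk k • c (coord hc (sk k) (b • c n)) = (sk k b • bk k) • c n := by
      intro k
      rw [coord_smul, map_smul, smul_comm, smul_assoc]
    rw [Finset.sum_congr rfl (fun k _ => h1 k), ← Finset.sum_smul, hdual]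
  | add t₁ t₂ h₁ h₂ =>
    simp only [map_add, smul_add, Finset.sum_add_distrib, h₁, h₂]

theorem coord_res {N₂ N₂' : Type u} [AddCommGroup N₂] [Module A N₂] [AddCommGroup N₂']
    [Module A N₂'] [Module B N₂'] [IsScalarTower A B N₂'] {c₂ : N₂ →ₗ[A] N₂'}
    (hc₂ : IsBaseChange B c₂) (r : N →ₗ[A] N₂) (r' : N' →ₗ[B] N₂')
    (hr : ∀ n, r' (c n) = c₂ (r n)) (s : B →ₗ[A] A) (y : N') :
    r (coord hc s y) = coord hc₂ s (r' y) := by
  obtain ⟨t, rfl⟩ := hc.equiv.surjective y
  induction t using TensorProduct.induction_on with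
  | zero => simp
  | tmul b n =>
    rw [IsBaseChange.equiv_tmul, coord_smul, map_smul, map_smul, hr, coord_smul]
  | add t₁ t₂ h₁ h₂ => simp only [map_add, h₁, h₂]

end Coord

/-- dual basis of a finite projective module -/
theorem exists_dual_basis (A B : Type u) [CommRing A] [AddCommGroup B] [Module A B]
    [Module.Finite A B] [Module.Projective A B] :
    ∃ (n : ℕ) (bk : Fin n → B) (sk : Fin n → (B →ₗ[A] A)), ∀ b, ∑ k, sk k b • bk k = b := by
  obtain ⟨n, p, s, -, -, hps⟩ := Module.Finite.exists_comp_eq_id_of_projective A B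
  refine ⟨n, fun k => p (Pi.single k 1), fun k => LinearMap.proj k ∘ₗ s, fun b => ?_⟩
  have h1 : s b = ∑ k, (s b k) • (Pi.single k (1 : A) : Fin n → A) := by
    ext j
    simp [Finset.sum_apply, Pi.single_apply]
  have h2 : p (s b) = b := congrArg (fun t => t b) hps
  calc ∑ k, (LinearMap.proj k ∘ₗ s) b • p (Pi.single k 1)
      = p (∑ k, (s b k) • (Pi.single k (1 : A) : Fin n → A)) := by
        rw [map_sum]
        refine Finset.sum_congr rfl fun k _ => ?_
        rw [map_smul]
        rfl
    _ = b := by rw [← h1, h2]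

/-- the abstract criterion: a semilinear map with coordinate maps is a base change -/
theorem nonempty_equiv {A B H H' : Type u} [CommRing A] [CommRing B] [Algebra A B]
    [AddCommGroup H] [Module A H] [AddCommGroup H'] [Module B H']
    (φ : H →+ H') {ι : Type*} [Fintype ι] (bk : ι → B) (sk : ι → (B →ₗ[A] A))
    (hdual : ∀ b, ∑ k, sk k b • bk k = b)
    (hφ : ∀ (a : A) (x : H), φ (a • x) = algebraMap A B a • φ x)
    (v : ι → H' →+ H) (h1 : ∀ k b x, v k (b • φ x) = sk k b • x)
    (h2 : ∀ y, ∑ k, bk k • φ (v k y) = y) :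
    Nonempty (B ⊗[A] H ≃ₗ[B] H') := by
  letI : Module A H' := Module.compHom H' (algebraMap A B)
  haveI : IsScalarTower A B H' := IsScalarTower.of_compHom _ _ _
  let φL : H →ₗ[A] H' :=
    { toFun := φ
      map_add' := map_add φ
      map_smul' := fun a x => hφ a x }
  let Φ : B ⊗[A] H →ₗ[B] H' := LinearMap.liftBaseChange B φL
  have hΦ : ∀ b x, Φ (b ⊗ₜ[A] x) = b • φ x := fun b x => rfl
  let Ψ : H' → B ⊗[A] H := fun y => ∑ k, bk k ⊗ₜ[A] v k y
  have hΨadd : ∀ y z, Ψ (y + z) = Ψ y + Ψ z := by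
    intro y z
    simp only [Ψ, map_add, tmul_add, Finset.sum_add_distrib]
  have hΨΦ : ∀ t, Ψ (Φ t) = t := by
    intro t
    induction t using TensorProduct.induction_on with
    | zero => simp [Ψ]
    | tmul b x =>
      rw [hΦ]
      change ∑ k, bk k ⊗ₜ[A] v k (b • φ x) = _
      have e : ∀ k, bk k ⊗ₜ[A] v k (b • φ x) = (sk k b • bk k) ⊗ₜ[A] x := by
        intro k
        rw [h1, tmul_smul, smul_tmul']
      rw [Finset.sum_congr rfl (fun k _ => e k), ← sum_tmul, hdual]
    | add t₁ t₂ e₁ e₂ => rw [map_add, hΨadd, e₁, e₂]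
  have hΦΨ : ∀ y, Φ (Ψ y) = y := by
    intro y
    change Φ (∑ k, bk k ⊗ₜ[A] v k y) = y
    rw [map_sum]
    simp only [hΦ]
    exact h2 y
  exact ⟨LinearEquiv.ofBijective Φ
    ⟨Function.LeftInverse.injective hΨΦ, Function.RightInverse.surjective hΦΨ⟩⟩

end Groth.Agent.Lead.FLBC
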