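import Mathlib
import Groth.Prelude
import Groth.Agent.Lead.FLBCa
import Groth.Agent.Helper9.FBAff
import Groth.Agent.Lead.EdgeInjSch
import Groth.Agent.Lead.StalkPull

/-!
# Finite projective base change: coordinate maps `g'_* g'^* M → M` of abelian sheaves
-/

set_option autoImplicit false
set_option linter.style.haveILetI false
set_option linter.unusedSectionVars false
set_option linter.unusedVariables false
universe u

open CategoryTheory Limits AlgebraicGeometry Opposite TopologicalSpace TensorProduct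
open Groth.Agent.Lead.BCMap Groth.Agent.Helper9.FBAff Groth.Agent.Helper9.FBSch

namespace Groth.Agent.Lead.FLBC

attribute [local instance] modRestr towerRestr

/-- the structure map `A → Γ(X, ⊤)` of a scheme over `Spec A` -/
noncomputable def aX (A : Type u) [CommRing A] (X : Scheme.{u}) [X.Over (Spec (CommRingCat.of A))] :
    A →+* Γ(X, ⊤) :=
  (X ↘ Spec (CommRingCat.of A)).appTop.hom.comp (Scheme.ΓSpecIso (CommRingCat.of A)).inv.hom

section Geo

variable (A B : Type u) [CommRing A] [CommRing B] [Algebra A B]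
  (X X' : Scheme.{u}) [X.Over (Spec (CommRingCat.of A))] [X'.Over (Spec (CommRingCat.of B))]
  (g' : X' ⟶ X)
  (h : IsPullback g' (X' ↘ Spec (CommRingCat.of B)) (X ↘ Spec (CommRingCat.of A))
      (Spec.map (CommRingCat.ofHom (algebraMap A B))))

include h in
theorem appTop_aX (r : A) :
    g'.appLE ⊤ ⊤ (le_refl _) (aX A X r) = aX B X' (algebraMap A B r) := by
  have h0 : g'.appLE ⊤ ⊤ (le_refl _) = g'.appTop := by
    show g'.app ⊤ ≫ X'.presheaf.map (𝟙 (op (g' ⁻¹ᵁ ⊤))) = g'.app ⊤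
    rw [CategoryTheory.Functor.map_id]
    exact Category.comp_id _
  have h1 : (X ↘ Spec (CommRingCat.of A)).appTop ≫ g'.appTop =
      (Spec.map (CommRingCat.ofHom (algebraMap A B))).appTop ≫
        (X' ↘ Spec (CommRingCat.of B)).appTop := congrArg Scheme.Hom.appTop h.w
  have h2 := Scheme.ΓSpecIso_inv_naturality (CommRingCat.ofHom (algebraMap A B))
  have h3 : (Scheme.ΓSpecIso (CommRingCat.of A)).inv ≫
      (X ↘ Spec (CommRingCat.of A)).appTop ≫ g'.appTop =
      CommRingCat.ofHom (algebraMap A B) ≫ (Scheme.ΓSpecIso (CommRingCat.of B)).inv ≫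
        (X' ↘ Spec (CommRingCat.of B)).appTop := by
    rw [h1, ← Category.assoc, ← h2, Category.assoc]
  rw [h0]
  exact congrArg (fun φ => φ.hom r) h3

include h in
theorem isPushout_sections (U : X.Opens) (hUa : IsAffineOpen U) :
    IsPushout (CommRingCat.ofHom (strT (aX A X) U le_top))
      (CommRingCat.ofHom (algebraMap A B))
      (g'.appLE U (g' ⁻¹ᵁ U) (le_refl _))
      (CommRingCat.ofHom (strT (aX B X') (g' ⁻¹ᵁ U) le_top)) := by
  have e : (⊤ : (Spec (CommRingCat.of B)).Opens) ≤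
      (Spec.map (CommRingCat.ofHom (algebraMap A B))) ⁻¹ᵁ ⊤ := le_refl _
  have hU : U ≤ (X ↘ Spec (CommRingCat.of A)) ⁻¹ᵁ ⊤ := le_top
  have hU'eq : g' ⁻¹ᵁ U = g' ⁻¹ᵁ U ⊓ (X' ↘ Spec (CommRingCat.of B)) ⁻¹ᵁ ⊤ :=
    (inf_top_eq _).symm
  have hpo := (isIso_pushoutSection_iff h e hU hU'eq).mp
    (isIso_pushoutSection_of_isAffineOpen h e hU hU'eq (isAffineOpen_top _)
      (isAffineOpen_top _) hUa)
  have hnat : (Scheme.ΓSpecIso (CommRingCat.of A)).inv ≫
      (Spec.map (CommRingCat.ofHom (algebraMap A B))).appLE ⊤ ⊤ e =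
      CommRingCat.ofHom (algebraMap A B) ≫ (Scheme.ΓSpecIso (CommRingCat.of B)).inv := by
    have h0 : (Spec.map (CommRingCat.ofHom (algebraMap A B))).appLE ⊤ ⊤ e =
        (Spec.map (CommRingCat.ofHom (algebraMap A B))).appTop := by
      show (Spec.map (CommRingCat.ofHom (algebraMap A B))).app ⊤ ≫
        (Spec (CommRingCat.of B)).presheaf.map (𝟙 (op _)) = _
      rw [CategoryTheory.Functor.map_id]
      exact Category.comp_id _
    rw [h0]
    exact (Scheme.ΓSpecIso_inv_naturality (CommRingCat.ofHom (algebraMap A B))).symm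
  have hleft : IsPushout (Scheme.ΓSpecIso (CommRingCat.of A)).inv
      (CommRingCat.ofHom (algebraMap A B))
      ((Spec.map (CommRingCat.ofHom (algebraMap A B))).appLE ⊤ ⊤ e)
      (Scheme.ΓSpecIso (CommRingCat.of B)).inv := IsPushout.of_horiz_isIso ⟨hnat⟩
  have hp := hleft.paste_horiz hpo
  have e1 : CommRingCat.ofHom (strT (aX A X) U le_top) =
      (Scheme.ΓSpecIso (CommRingCat.of A)).inv ≫
        (X ↘ Spec (CommRingCat.of A)).appLE ⊤ U hU := by
    ext r; rfl
  have e2 : CommRingCat.ofHom (strT (aX B X') (g' ⁻¹ᵁ U) le_top) =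
      (Scheme.ΓSpecIso (CommRingCat.of B)).inv ≫
        (X' ↘ Spec (CommRingCat.of B)).appLE ⊤ (g' ⁻¹ᵁ U) (by simp) := by
    ext r; rfl
  rw [e1, e2]
  exact hp

variable [Flat g'] [IsAffineHom g'] (M : X.Modules) [M.IsQuasicoherent]

/-- pullback of sections over `U`, as an `A`-linear map into a `B`-module -/
noncomputable abbrev cU (U : X.Opens) :
    SecT M (aX A X) U le_top →ₗ[A]
      SecT ((Scheme.Modules.pullback g').obj M) (aX B X') (g' ⁻¹ᵁ U) le_top :=
  cR g' (le_refl _ : (⊤ : X'.Opens) ≤ g' ⁻¹ᵁ ⊤) (aX A X) (aX B X') (appTop_aX A B X X' g' h)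
    (le_top : U ≤ ⊤) (le_top : g' ⁻¹ᵁ U ≤ ⊤) (le_refl _) M

theorem cU_isBaseChange (U : X.Opens) (hUa : IsAffineOpen U) :
    IsBaseChange B (cU A B X X' g' h M U) :=
  cR_isBaseChange g' (le_refl _ : (⊤ : X'.Opens) ≤ g' ⁻¹ᵁ ⊤) (aX A X) (aX B X')
    (appTop_aX A B X X' g' h) (le_top : U ≤ ⊤) (le_top : g' ⁻¹ᵁ U ≤ ⊤) (le_refl _) hUa
    (hUa.preimage g') (isPushout_sections A B X X' g' h U hUa) M

end Geo

end Groth.Agent.Lead.FLBC
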