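import Mathlib
import Groth.Prelude
import Groth.Agent.Lead.FLBCb

/-!
# Finite projective base change: the coordinate morphisms of abelian sheaves
-/

set_option autoImplicit false
set_option linter.style.haveILetI false
set_option linter.unusedSectionVars false
set_option linter.unusedVariables false
universe u

open CategoryTheory Limits AlgebraicGeometry Opposite TopologicalSpace TensorProduct
open Groth.Agent.Lead.BCMap Groth.Agent.Helper9.FBAff Groth.Agent.Helper9.FBSch

namespace Groth.Agent.Lead.FLBC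

attribute [local instance] modRestr towerRestr

/-- the affine opens as an indexed family -/
abbrev Bas (X : Scheme.{u}) : X.affineOpens → X.Opens := Subtype.val

theorem isBasis_Bas (X : Scheme.{u}) : Opens.IsBasis (Set.range (Bas X)) := by
  rw [Subtype.range_val]
  exact X.isBasis_affineOpens

section Sigma

variable (A B : Type u) [CommRing A] [CommRing B] [Algebra A B]
  (X X' : Scheme.{u}) [X.Over (Spec (CommRingCat.of A))] [X'.Over (Spec (CommRingCat.of B))]
  (g' : X' ⟶ X)
  (h : IsPullback g' (X' ↘ Spec (CommRingCat.of B)) (X ↘ Spec (CommRingCat.of A))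
      (Spec.map (CommRingCat.ofHom (algebraMap A B))))
  [Flat g'] [IsAffineHom g'] (M : X.Modules) [M.IsQuasicoherent]

/-- coordinate maps on sections over affine opens -/
noncomputable def sigmaApp (s : B →ₗ[A] A) (U : X.affineOpens) :
    Γ((Scheme.Modules.pullback g').obj M, g' ⁻¹ᵁ U.1) →+ Γ(M, U.1) :=
  (coord (cU_isBaseChange A B X X' g' h M U.1 U.2) s).toAddMonoidHom

theorem sigmaApp_smul (s : B →ₗ[A] A) (U : X.affineOpens) (b : B) (m : Γ(M, U.1)) :
    sigmaApp A B X X' g' h M s U
      ((strT (aX B X') (g' ⁻¹ᵁ U.1) le_top b) •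
        (pbSec g' M U.1 (g' ⁻¹ᵁ U.1) (le_refl _) m)) =
      (strT (aX A X) U.1 le_top (s b)) • m :=
  coord_smul (cU_isBaseChange A B X X' g' h M U.1 U.2) s b m

theorem sigmaApp_res (s : B →ₗ[A] A) (U V : X.affineOpens) (hVU : V.1 ≤ U.1)
    (y : Γ((Scheme.Modules.pullback g').obj M, g' ⁻¹ᵁ U.1)) :
    M.presheaf.map (homOfLE hVU).op (sigmaApp A B X X' g' h M s U y) =
      sigmaApp A B X X' g' h M s V
        (((Scheme.Modules.pullback g').obj M).presheaf.map
          (homOfLE (g'.preimage_mono hVU)).op y) :=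
  coord_res (cU_isBaseChange A B X X' g' h M U.1 U.2) (cU_isBaseChange A B X X' g' h M V.1 V.2)
    (resT M (aX A X) le_top le_top hVU)
    (resT ((Scheme.Modules.pullback g').obj M) (aX B X') le_top le_top (g'.preimage_mono hVU))
    (fun n => (pbSec_res g' M (le_refl _) (le_refl _) hVU (g'.preimage_mono hVU) n).symm) s y

theorem sigmaApp_sum {ι : Type*} [Fintype ι] (bk : ι → B) (sk : ι → (B →ₗ[A] A))
    (hdual : ∀ b, ∑ k, sk k b • bk k = b) (U : X.affineOpens)
    (y : Γ((Scheme.Modules.pullback g').obj M, g' ⁻¹ᵁ U.1)) :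
    ∑ k, (strT (aX B X') (g' ⁻¹ᵁ U.1) le_top (bk k)) •
      (pbSec g' M U.1 (g' ⁻¹ᵁ U.1) (le_refl _) (sigmaApp A B X X' g' h M (sk k) U y)) = y :=
  sum_coord (cU_isBaseChange A B X X' g' h M U.1 U.2) bk sk hdual y

/-- the coordinate maps as a natural transformation on the basis of affine opens -/
noncomputable def sigmaNat (s : B →ₗ[A] A) :
    (inducedFunctor (Bas X)).op ⋙
        (Coh.toAb ((Scheme.Modules.pushforward g').obj
          ((Scheme.Modules.pullback g').obj M))).obj ⟶
      (inducedFunctor (Bas X)).op ⋙ (Coh.toAb M).obj where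
  app U := AddCommGrpCat.ofHom (sigmaApp A B X X' g' h M s U.unop)
  naturality U V i := by
    ext y
    exact (sigmaApp_res A B X X' g' h M s U.unop V.unop i.unop.hom.le y).symm

/-- the coordinate morphism of abelian sheaves `g'_* g'^* M → M` -/
noncomputable def sigma (s : B →ₗ[A] A) :
    Coh.toAb ((Scheme.Modules.pushforward g').obj ((Scheme.Modules.pullback g').obj M)) ⟶
      Coh.toAb M :=
  ObjectProperty.homMk (TopCat.Sheaf.restrictHomEquivHom _ (Coh.toAb M) (isBasis_Bas X)
    (sigmaNat A B X X' g' h M s))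

theorem sigma_app (s : B →ₗ[A] A) (U : X.affineOpens)
    (y : Γ((Scheme.Modules.pullback g').obj M, g' ⁻¹ᵁ U.1)) :
    (sigma A B X X' g' h M s).hom.app (op U.1) y = sigmaApp A B X X' g' h M s U y := by
  have h1 := TopCat.Sheaf.extend_hom_app _ (Coh.toAb M) (isBasis_Bas X)
    (sigmaNat A B X X' g' h M s) U
  exact congrArg (fun φ => (ConcreteCategory.hom φ) y) h1

end Sigma

end Groth.Agent.Lead.FLBC
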