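import Mathlib
import Groth.Prelude
import Groth.Agent.Lead.FLBCc
import Groth.Agent.Helper1.FinFib
import Groth.Agent.Helper4.SchAdj

/-!
# Finite projective base change of cohomology (S0035)
-/

set_option autoImplicit false
set_option linter.style.haveILetI false
set_option linter.unusedSectionVars false
set_option linter.unusedVariables false
universe u

open CategoryTheory Limits AlgebraicGeometry Opposite TopologicalSpace TensorProduct
open Groth.Agent.Lead.BCMap Groth.Agent.Helper9.FBAff Groth.Agent.Helper9.FBSch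
open Groth.Agent.Helper6

namespace Groth.Agent.Lead.FLBC

attribute [local instance] modRestr towerRestr

theorem pbSec_self {X X' : Scheme.{u}} (g' : X' ⟶ X) (M : X.Modules) (U : X.Opens) (m : Γ(M, U)) :
    pbSec g' M U (g' ⁻¹ᵁ U) (le_refl _) m =
      ((Scheme.Modules.pullbackPushforwardAdjunction g').unit.app M).app U m := by
  rw [pbSec_apply]
  have e : (homOfLE (le_refl (g' ⁻¹ᵁ U))).op = 𝟙 (op (g' ⁻¹ᵁ U)) := rfl
  rw [e, CategoryTheory.Functor.map_id]
  rfl

theorem sum_hom_app {X : Scheme.{u}}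
    {F G : Sheaf (Opens.grothendieckTopology X) AddCommGrpCat.{u}} {ι : Type*}
    (s : Finset ι) (ψ : ι → (F ⟶ G)) (U : (Opens X)ᵒᵖ) (y : F.obj.obj U) :
    (∑ k ∈ s, ψ k).hom.app U y = ∑ k ∈ s, (ψ k).hom.app U y := by
  classical
  induction s using Finset.induction_on with
  | empty =>
    rw [Finset.sum_empty, Finset.sum_empty]
    rfl
  | insert a s ha ih =>
    rw [Finset.sum_insert ha, Finset.sum_insert ha, ← ih]
    rfl

theorem H_map_sum {X : Scheme.{u}}
    {F G : Sheaf (Opens.grothendieckTopology X) AddCommGrpCat.{u}} {ι : Type*}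
    (s : Finset ι) (ψ : ι → (F ⟶ G)) (n : ℕ) (z : Sheaf.H F n) :
    Sheaf.H.map (∑ k ∈ s, ψ k) n z = ∑ k ∈ s, Sheaf.H.map (ψ k) n z := by
  classical
  induction s using Finset.induction_on with
  | empty =>
    rw [Finset.sum_empty, Finset.sum_empty]
    change ((Sheaf.functorH _ n).map (0 : F ⟶ G)).hom z = 0
    rw [Functor.map_zero]
    rfl
  | insert a s ha ih =>
    rw [Finset.sum_insert ha, Finset.sum_insert ha, Sheaf.H.map_add_apply, ih]

section Ident

variable (A B : Type u) [CommRing A] [CommRing B] [Algebra A B]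
  (X X' : Scheme.{u}) [X.Over (Spec (CommRingCat.of A))] [X'.Over (Spec (CommRingCat.of B))]
  (g' : X' ⟶ X)
  (h : IsPullback g' (X' ↘ Spec (CommRingCat.of B)) (X ↘ Spec (CommRingCat.of A))
      (Spec.map (CommRingCat.ofHom (algebraMap A B))))
  [Flat g'] [IsAffineHom g'] (M : X.Modules) [M.IsQuasicoherent]

/-- the unit on underlying abelian sheaves -/
noncomputable abbrev etaAb :
    Coh.toAb M ⟶ Coh.toAb ((Scheme.Modules.pushforward g').obj
      ((Scheme.Modules.pullback g').obj M)) :=
  (SheafOfModules.toSheaf X.ringCatSheaf).map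
    ((Scheme.Modules.pullbackPushforwardAdjunction g').unit.app M)

/-- the action of `b : B` on `g'_* g'^* M` -/
noncomputable abbrev betaAb (b : B) :
    Coh.toAb ((Scheme.Modules.pushforward g').obj ((Scheme.Modules.pullback g').obj M)) ⟶
      Coh.toAb ((Scheme.Modules.pushforward g').obj ((Scheme.Modules.pullback g').obj M)) :=
  (CohTop.push g'.base).map (Coh.smulAb ((Scheme.Modules.pullback g').obj M) (aX B X' b))

theorem eta_beta_sigma (s : B →ₗ[A] A) (b : B) :
    etaAb X X' g' M ≫ betaAb B X X' g' M b ≫ sigma A B X X' g' h M s =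
      Coh.smulAb M (aX A X (s b)) := by
  apply Sheaf.hom_ext
  apply TopCat.Sheaf.hom_ext _ (Coh.toAb M) (isBasis_Bas X)
  intro U
  ext m
  change (sigma A B X X' g' h M s).hom.app (op U.1)
    ((Coh.smulAb ((Scheme.Modules.pullback g').obj M) (aX B X' b)).hom.app (op (g' ⁻¹ᵁ U.1))
      (((Scheme.Modules.pullbackPushforwardAdjunction g').unit.app M).app U.1 m)) =
    (Coh.smulAb M (aX A X (s b))).hom.app (op U.1) m
  rw [sigma_app, Coh.smulAb_app, Coh.smulAb_app, ← pbSec_self]
  exact sigmaApp_smul A B X X' g' h M s U b m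

theorem sum_sigma_eta_beta {ι : Type*} [Fintype ι] (bk : ι → B) (sk : ι → (B →ₗ[A] A))
    (hdual : ∀ b, ∑ k, sk k b • bk k = b) :
    ∑ k, (sigma A B X X' g' h M (sk k) ≫ etaAb X X' g' M ≫ betaAb B X X' g' M (bk k)) =
      𝟙 _ := by
  apply Sheaf.hom_ext
  apply TopCat.Sheaf.hom_ext _
    (Coh.toAb ((Scheme.Modules.pushforward g').obj ((Scheme.Modules.pullback g').obj M)))
    (isBasis_Bas X)
  intro U
  ext y
  rw [sum_hom_app]
  have e : ∀ k, (sigma A B X X' g' h M (sk k) ≫ etaAb X X' g' M ≫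
      betaAb B X X' g' M (bk k)).hom.app (op U.1) y =
      (strT (aX B X') (g' ⁻¹ᵁ U.1) le_top (bk k)) •
        (pbSec g' M U.1 (g' ⁻¹ᵁ U.1) (le_refl _) (sigmaApp A B X X' g' h M (sk k) U y)) := by
    intro k
    change (Coh.smulAb ((Scheme.Modules.pullback g').obj M) (aX B X' (bk k))).hom.app
      (op (g' ⁻¹ᵁ U.1))
      (((Scheme.Modules.pullbackPushforwardAdjunction g').unit.app M).app U.1
        ((sigma A B X X' g' h M (sk k)).hom.app (op U.1) y)) = _
    rw [sigma_app, Coh.smulAb_app, ← pbSec_self]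
    rfl
  rw [Finset.sum_congr rfl (fun k _ => e k)]
  exact sigmaApp_sum A B X X' g' h M bk sk hdual U y

end Ident

section Main

variable (A B : Type u) [CommRing A] [CommRing B] [Algebra A B]
  [Module.Finite A B] [Module.Projective A B]
  (X X' : Scheme.{u}) [X.Over (Spec (CommRingCat.of A))] [X'.Over (Spec (CommRingCat.of B))]
  (g' : X' ⟶ X)
  (h : IsPullback g' (X' ↘ Spec (CommRingCat.of B)) (X ↘ Spec (CommRingCat.of A))
      (Spec.map (CommRingCat.ofHom (algebraMap A B))))
  (M : X.Modules) [M.IsQuasicoherent] (i : ℕ)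

include h in
theorem appTop_aX' (r : A) :
    g'.appTop.hom (aX A X r) = aX B X' (algebraMap A B r) := by
  have h0 : g'.appLE ⊤ ⊤ (le_refl _) = g'.appTop := by
    show g'.app ⊤ ≫ X'.presheaf.map (𝟙 (op (g' ⁻¹ᵁ ⊤))) = g'.app ⊤
    rw [CategoryTheory.Functor.map_id]
    exact Category.comp_id _
  exact (congrArg (fun φ => φ.hom (aX A X r)) h0).symm.trans (appTop_aX A B X X' g' h r)

include h in
/-- **finite locally free base change of cohomology** (no finiteness hypothesis on `X`) -/
theorem main :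
    Nonempty (B ⊗[A] Coh.HH X M i ≃ₗ[B]
      Coh.HH X' ((Scheme.Modules.pullback g').obj M) i) := by
  obtain ⟨n, bk, sk, hdual⟩ := exists_dual_basis A B
  haveI : Flat (Spec.map (CommRingCat.ofHom (algebraMap A B))) :=
    Flat.SpecMap_iff.mpr (RingHom.flat_algebraMap_iff.mpr inferInstance)
  haveI : Flat g' := MorphismProperty.of_isPullback h.flip inferInstance
  haveI : IsAffineHom g' :=
    MorphismProperty.of_isPullback (P := @IsAffineHom) h.flip inferInstance
  haveI := Groth.Agent.Helper4.SchAdj.isGrothendieckAbelian_modules X'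
  let M' := (Scheme.Modules.pullback g').obj M
  haveI : M'.IsQuasicoherent := Groth.Agent.Lead.StalkPull.isQuasicoherent_pullbackObj g' M
  have hbij : Function.Bijective (PushEdge1.edge g'.base (Coh.toAb M') i) :=
    PushEdge2.edge_bijective g' i M' (fun q hq => by
      obtain ⟨q, rfl⟩ := Nat.exists_eq_succ_of_ne_zero hq.ne'
      exact Groth.Agent.Helper1.FinFib.isZero_Rpush_of_isAffineHom g' M' q)
  let E : Sheaf.H (Coh.toAb ((Scheme.Modules.pushforward g').obj M')) i ≃+
      Sheaf.H (Coh.toAb M') i :=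
    AddEquiv.ofBijective (PushEdge1.edge g'.base (Coh.toAb M') i) hbij
  have hE : ∀ (b : B) (z : Sheaf.H (Coh.toAb ((Scheme.Modules.pushforward g').obj M')) i),
      (b • (show Coh.HH X' M' i from E z)) = E (Sheaf.H.map (betaAb B X X' g' M b) i z) := by
    intro b z
    exact (PushEdge1.edge_natural g'.base (Coh.smulAb M' (aX B X' b)) i z).symm
  let φ : Coh.HH X M i →+ Coh.HH X' M' i :=
    E.toAddMonoidHom.comp (Sheaf.H.map (etaAb X X' g' M) i)
  let v : Fin n → Coh.HH X' M' i →+ Coh.HH X M i := fun k =>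
    (Sheaf.H.map (sigma A B X X' g' h M (sk k)) i).comp E.symm.toAddMonoidHom
  refine nonempty_equiv φ bk sk hdual ?_ v ?_ ?_
  · intro r x
    have e0 : Coh.smulAb ((Scheme.Modules.pushforward g').obj M') (aX A X r) =
        betaAb B X X' g' M (algebraMap A B r) :=
      Groth.Agent.Lead.EdgeInjSch.smulAb_push g' M' (aX A X r) (aX B X' (algebraMap A B r))
        (appTop_aX' A B X X' g' h r)
    have e1 : Coh.smulAb M (aX A X r) ≫ etaAb X X' g' M =
        etaAb X X' g' M ≫ betaAb B X X' g' M (algebraMap A B r) := by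
      rw [← e0]
      exact (Canon.toSheaf_map_comp_smulAb _ _).symm
    change E (Sheaf.H.map (etaAb X X' g' M) i (Sheaf.H.map (Coh.smulAb M (aX A X r)) i x)) =
      algebraMap A B r • (show Coh.HH X' M' i from E (Sheaf.H.map (etaAb X X' g' M) i x))
    rw [hE, ← Sheaf.H.map_comp_apply, ← Sheaf.H.map_comp_apply, e1]
  · intro k b x
    change Sheaf.H.map (sigma A B X X' g' h M (sk k)) i
      (E.symm (b • (show Coh.HH X' M' i from E (Sheaf.H.map (etaAb X X' g' M) i x)))) =
      Sheaf.H.map (Coh.smulAb M (aX A X (sk k b))) i x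
    rw [hE, AddEquiv.symm_apply_apply, ← Sheaf.H.map_comp_apply, ← Sheaf.H.map_comp_apply,
      eta_beta_sigma]
  · intro y
    obtain ⟨z, rfl⟩ := E.surjective y
    have e : ∀ k, bk k • φ (v k (E z)) =
        E (Sheaf.H.map (sigma A B X X' g' h M (sk k) ≫ etaAb X X' g' M ≫
          betaAb B X X' g' M (bk k)) i z) := by
      intro k
      change bk k • (show Coh.HH X' M' i from E (Sheaf.H.map (etaAb X X' g' M) i
        (Sheaf.H.map (sigma A B X X' g' h M (sk k)) i (E.symm (E z))))) = _
      rw [hE, AddEquiv.symm_apply_apply, Sheaf.H.map_comp_apply, Sheaf.H.map_comp_apply]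
    rw [Finset.sum_congr rfl (fun k _ => e k), ← map_sum, ← H_map_sum,
      sum_sigma_eta_beta A B X X' g' h M bk sk hdual, Sheaf.H.map_id_apply]

end Main

end Groth.Agent.Lead.FLBC
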