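import Mathlib
import Groth.Agent.Lead.FLFDual2
import Groth.Agent.Helper1.SHLoc3
import Groth.Agent.Helper1.ExtSh6

/-!
# `Ext` and `ℰxt` of a tensor product with a finite locally free module
-/

set_option autoImplicit false
set_option linter.style.haveILetI false
set_option linter.unusedSectionVars false

universe u

open CategoryTheory CategoryTheory.Limits AlgebraicGeometry TopologicalSpace Opposite Abelian
open Groth.Agent.Helper9.TensorSh Groth.Agent.Helper9.TensorAdj Groth.Agent.Helper9.TensorFlat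

namespace Groth.Agent.Lead.FLFDual

open Groth.Agent.Lead.SheafHomAdj

variable {X : Scheme.{u}}

/-- `- ⊗ M` as an endofunctor of `X.Modules` -/
noncomputable abbrev TNX (M : X.Modules) : X.Modules ⥤ X.Modules :=
  (DCoh.tensorBi (X := X)).flip.obj M

/-- `M ⊗ -` as an endofunctor of `X.Modules` -/
noncomputable abbrev TLX (M : X.Modules) : X.Modules ⥤ X.Modules :=
  (DCoh.tensorBi (X := X)).obj M

/-- `ℋom(M, -)` as an endofunctor of `X.Modules` -/
noncomputable abbrev SH (M : X.Modules) [ModSite.HasSheafHom (O := X.sheaf) M] :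
    X.Modules ⥤ X.Modules :=
  ModSite.sheafHom (O := X.sheaf) M

/-- the adjunction `- ⊗ M ⊣ ℋom(M, -)` on `X.Modules` -/
noncomputable abbrev adjX (M : X.Modules) [ModSite.HasSheafHom (O := X.sheaf) M] :
    TNX M ⊣ SH M :=
  ModSite.sheafHomAdj (O := X.sheaf) M

instance additive_TNX (M : X.Modules) : (TNX M).Additive :=
  @additive_TN _ _ _ X.sheaf M

instance additive_SH (M : X.Modules) [ModSite.HasSheafHom (O := X.sheaf) M] : (SH M).Additive :=
  (adjX M).right_adjoint_additive

/-- symmetry of the tensor product, on `X.Modules` -/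
noncomputable def symX (M : X.Modules) : TLX M ≅ TNX M := symIso (O := X.sheaf) M

section SH

variable (E : X.Modules) [ModSite.HasSheafHom (O := X.sheaf) E]

/-- the adjunction `E ⊗ - ⊣ ℋom(E, -)` for the chosen internal Hom of the prelude -/
noncomputable def adjSH : TLX E ⊣ SH E :=
  (adjX E).ofNatIsoLeft (symX E).symm

/-- the chosen internal Hom of the prelude is the constructed sheaf Hom -/
noncomputable def shIso : SH E ≅ homFunctor E :=
  (adjSH E).rightAdjointUniq (adj E)

/-- `ℋom(E, O) ≅ E^∨` -/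
noncomputable def shDualIso : (SH E).obj (Coh.structureModule X) ≅ RefHull.dual E :=
  (shIso E).app (Coh.structureModule X)


noncomputable def i4 (G : X.Modules) : (TLX G).obj (RefHull.dual E) ≅ (TLX G).obj ((SH E).obj (Coh.structureModule X)) := (TLX G).mapIso (shDualIso E).symm

noncomputable def i4' (G : X.Modules) : CohB1.tensorMod G (RefHull.dual E) ≅ CohB1.tensorMod G ((SH E).obj (Coh.structureModule X)) := i4 E G

noncomputable def i3 (G : X.Modules) : CohB1.tensorMod (RefHull.dual E) G ≅ CohB1.tensorMod G (RefHull.dual E) := Ref1B.braid _ _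

noncomputable def i12 (hE : FlatMod.IsFinLocFree E) (G : X.Modules) : (SH E).obj G ≅ CohB1.tensorMod (RefHull.dual E) G := (shIso E).app G ≪≫ (cIso E G hE).symm

noncomputable def shObjIso (hE : FlatMod.IsFinLocFree E) (G : X.Modules) :
    (SH E).obj G ≅ CohB1.tensorMod G ((SH E).obj (Coh.structureModule X)) :=
  i12 E hE G ≪≫ i3 E G ≪≫ i4' E G


/-- **`Extⁱ(F ⊗ E, G) ≃ Extⁱ(F, G ⊗ E^∨)` for `E` finite locally free** -/
theorem nonempty_ext_tensor_addEquiv (hE : FlatMod.IsFinLocFree E) (F G : X.Modules)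
    [HasExt.{u} X.Modules] (i : ℕ) :
    Nonempty (Abelian.Ext (CohB1.tensorMod F E) G i ≃+
      Abelian.Ext F (CohB1.tensorMod G
        ((ModSite.sheafHom (O := X.sheaf) E).obj (Coh.structureModule X))) i) := by
  have adjL : TLX E ⊣ SH E := adjSH E
  haveI : (TLX E).Additive := inferInstance
  haveI : (SH E).Additive := adjL.right_adjoint_additive
  haveI : PreservesFiniteLimits (SH E) := by
    haveI : PreservesLimitsOfSize.{0, 0} (SH E) := adjL.rightAdjoint_preservesLimits
    exact PreservesLimitsOfSize.preservesFiniteLimits _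
  haveI : PreservesFiniteColimits (SH E) :=
    Groth.Agent.Helper1.SHLoc.preservesFiniteColimits_sheafHom E hE adjL
  haveI : EnoughInjectives X.Modules :=
    Groth.Agent.Helper9.ModCechExt.enoughInjectives_mod X.ringCatSheaf
  have hR : ∀ I : X.Modules, Injective I → Injective ((SH E).obj I) := fun I hI =>
    Groth.Agent.Helper1.SHLoc.injective_sheafHom_obj E hE adjL I
  obtain ⟨i1⟩ := Groth.Agent.Helper9.ExtAdj.nonempty_iso adjL hR F i G
  have e1 : Abelian.Ext.{u} (CohB1.tensorMod E F) G i ≃+ Abelian.Ext.{u} F ((SH E).obj G) i :=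
    i1.addCommGroupIsoToAddEquiv
  have e0 : Abelian.Ext.{u} (CohB1.tensorMod F E) G i ≃+ Abelian.Ext.{u} (CohB1.tensorMod E F) G i :=
    Groth.Agent.Helper9.ModUnitExt.extPrecompIso (Ref1B.braid E F) G i
  have e2 : Abelian.Ext.{u} F ((SH E).obj G) i ≃+
      Abelian.Ext.{u} F (CohB1.tensorMod G ((SH E).obj (Coh.structureModule X))) i :=
    Groth.Agent.Helper1.ExtTw.extPostcompIso F (shObjIso E hE G) i
  exact ⟨(e0.trans e1).trans e2⟩

end SH


section ExtSh

/-- every module on a scheme has an internal Hom in the sense of the prelude -/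
theorem hasSheafHom_modSite (M : X.Modules) : ModSite.HasSheafHom (O := X.sheaf) M :=
  ((adj M).ofNatIsoLeft (symX M)).isLeftAdjoint

/-- `- ⊗ M ≅ - ⊗ M'` for `M ≅ M'` -/
noncomputable def tnxCongr {M M' : X.Modules} (e : M ≅ M') : TNX M ≅ TNX M' :=
  (DCoh.tensorBi (X := X)).flip.mapIso e

/-- the internal Hom functors of isomorphic modules are isomorphic -/
noncomputable def shCongr {M M' : X.Modules} (e : M ≅ M') [ModSite.HasSheafHom (O := X.sheaf) M]
    [ModSite.HasSheafHom (O := X.sheaf) M'] : SH M ≅ SH M' :=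
  (adjX M).rightAdjointUniq ((adjX M').ofNatIsoLeft (tnxCongr e.symm))

variable (E F : X.Modules)

noncomputable def a1 : TNX (CohB1.tensorMod E F) ≅ TLX (CohB1.tensorMod E F) :=
  (symX (CohB1.tensorMod E F)).symm

noncomputable def a2 : TLX (CohB1.tensorMod E F) ≅ TLX F ⋙ TLX E :=
  Groth.Agent.Helper1.Inv.assocIso (O := X.sheaf) E F

noncomputable def a3 : TLX F ⋙ TLX E ≅ TNX F ⋙ TLX E :=
  Functor.isoWhiskerRight (symX F) (TLX E)

noncomputable def a4 : TNX F ⋙ TLX E ≅ TLX E ⋙ TNX F :=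
  (Groth.Agent.Helper1.ExtSh.assocMid (O := X.sheaf) E F).symm

/-- `- ⊗ (E ⊗ F) ≅ (E ⊗ -) ⊗ F` -/
noncomputable def tnTensorIso : TNX (CohB1.tensorMod E F) ≅ TLX E ⋙ TNX F :=
  a1 E F ≪≫ a2 E F ≪≫ a3 E F ≪≫ a4 E F


section main

variable [ModSite.HasSheafHom (O := X.sheaf) F]
  [ModSite.HasSheafHom (O := X.sheaf) (CohB1.tensorMod E F)]

/-- the adjunction `(E ⊗ -) ⊗ F ⊣ E^∨ ⊗ ℋom(F, -)` -/
noncomputable def adjComp (hE : FlatMod.IsFinLocFree E) :
    TLX E ⋙ TNX F ⊣ SH F ⋙ TLX (RefHull.dual E) :=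
  (adjDual' E hE).comp (adjX F)

/-- the adjunction `- ⊗ (E ⊗ F) ⊣ E^∨ ⊗ ℋom(F, -)` -/
noncomputable def adjTensor (hE : FlatMod.IsFinLocFree E) :
    TNX (CohB1.tensorMod E F) ⊣ SH F ⋙ TLX (RefHull.dual E) :=
  (adjComp E F hE).ofNatIsoLeft (tnTensorIso E F).symm

/-- `ℋom(E ⊗ F, -) ≅ E^∨ ⊗ ℋom(F, -)` for `E` finite locally free -/
noncomputable def shTensorIso (hE : FlatMod.IsFinLocFree E) :
    SH (CohB1.tensorMod E F) ≅ SH F ⋙ TLX (RefHull.dual E) :=
  (adjX (CohB1.tensorMod E F)).rightAdjointUniq (adjTensor E F hE)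


/-- `E^∨ ⊗ -` is exact for `E` finite locally free -/
theorem exact_TLX_dual (hE : FlatMod.IsFinLocFree E) :
    PreservesFiniteLimits (TLX (RefHull.dual E)) ∧ PreservesFiniteColimits (TLX (RefHull.dual E)) := by
  constructor
  · haveI : PreservesLimitsOfSize.{0, 0} (TLX (RefHull.dual E)) :=
      (adjDual' E hE).rightAdjoint_preservesLimits
    exact PreservesLimitsOfSize.preservesFiniteLimits _
  · haveI : PreservesColimitsOfSize.{0, 0} (TLX (RefHull.dual E)) :=
      (adj (RefHull.dual E)).leftAdjoint_preservesColimits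
    exact PreservesColimitsOfSize.preservesFiniteColimits _

/-- `ℰxt^q(E ⊗ F, -) ≅ E^∨ ⊗ ℰxt^q(F, -)` -/
theorem nonempty_extSh_tensor_natIso (hE : FlatMod.IsFinLocFree E)
    [HasInjectiveResolutions X.Modules] (q : ℕ) :
    Nonempty ((SH (CohB1.tensorMod E F)).rightDerived q ≅
      (SH F).rightDerived q ⋙ TLX (RefHull.dual E)) := by
  haveI : EnoughInjectives X.Modules :=
    Groth.Agent.Helper9.ModCechExt.enoughInjectives_mod X.ringCatSheaf
  haveI : (TLX (RefHull.dual E)).Additive := inferInstance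
  haveI : PreservesFiniteLimits (TLX (RefHull.dual E)) := (exact_TLX_dual E hE).1
  haveI : PreservesFiniteColimits (TLX (RefHull.dual E)) := (exact_TLX_dual E hE).2
  haveI : PreservesFiniteLimits (SH F) := by
    haveI : PreservesLimitsOfSize.{0, 0} (SH F) := (adjX F).rightAdjoint_preservesLimits
    exact PreservesLimitsOfSize.preservesFiniteLimits _
  obtain ⟨i1⟩ := Groth.Agent.Helper1.ExtSh.nonempty_iso_rightDerived_postcomp
    (SH F) (TLX (RefHull.dual E)) q
  exact ⟨Groth.Agent.Helper1.DeltaFun.rightDerivedIso (shTensorIso E F hE) q ≪≫ i1⟩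


/-- **`ℰxt^q(E ⊗ F, G) ≅ ℰxt^q(F, G) ⊗ E^∨` for `E` finite locally free** -/
theorem nonempty_extSh_tensor_iso (hE : FlatMod.IsFinLocFree E)
    [ModSite.HasSheafHom (O := X.sheaf) E]
    [HasInjectiveResolutions (ModSite.Mod X.sheaf)] (G : X.Modules) (q : ℕ) :
    Nonempty ((ModSite.extSh (O := X.sheaf) (CohB1.tensorMod E F) q).obj G ≅
      CohB1.tensorMod ((ModSite.extSh (O := X.sheaf) F q).obj G)
        ((ModSite.sheafHom (O := X.sheaf) E).obj (Coh.structureModule X))) := by
  haveI hir : HasInjectiveResolutions X.Modules := ‹HasInjectiveResolutions (ModSite.Mod X.sheaf)›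
  obtain ⟨i⟩ := nonempty_extSh_tensor_natIso E F hE q
  have j1 : ((SH (CohB1.tensorMod E F)).rightDerived q).obj G ≅
      CohB1.tensorMod (RefHull.dual E) (((SH F).rightDerived q).obj G) := i.app G
  have j2 : CohB1.tensorMod (RefHull.dual E) (((SH F).rightDerived q).obj G) ≅
      CohB1.tensorMod (((SH F).rightDerived q).obj G) (RefHull.dual E) := Ref1B.braid _ _
  have j3 : CohB1.tensorMod (((SH F).rightDerived q).obj G) (RefHull.dual E) ≅
      CohB1.tensorMod (((SH F).rightDerived q).obj G) ((SH E).obj (Coh.structureModule X)) :=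
    i4' E (((SH F).rightDerived q).obj G)
  exact ⟨j1 ≪≫ j2 ≪≫ j3⟩

end main

/-- **`ℰxt^q(F ⊗ E, G) ≅ ℰxt^q(F, G) ⊗ E^∨` for `E` finite locally free** -/
theorem nonempty_extSh_tensor_iso' (hE : FlatMod.IsFinLocFree E)
    [ModSite.HasSheafHom (O := X.sheaf) E] [ModSite.HasSheafHom (O := X.sheaf) F]
    [ModSite.HasSheafHom (O := X.sheaf) (CohB1.tensorMod F E)]
    [HasInjectiveResolutions (ModSite.Mod X.sheaf)] (G : X.Modules) (q : ℕ) :
    Nonempty ((ModSite.extSh (O := X.sheaf) (CohB1.tensorMod F E) q).obj G ≅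
      CohB1.tensorMod ((ModSite.extSh (O := X.sheaf) F q).obj G)
        ((ModSite.sheafHom (O := X.sheaf) E).obj (Coh.structureModule X))) := by
  haveI hir : HasInjectiveResolutions X.Modules := ‹HasInjectiveResolutions (ModSite.Mod X.sheaf)›
  haveI := hasSheafHom_modSite (CohB1.tensorMod E F)
  obtain ⟨i⟩ := nonempty_extSh_tensor_iso E F hE G q
  have c : SH (CohB1.tensorMod F E) ≅ SH (CohB1.tensorMod E F) := shCongr (Ref1B.braid F E)
  have j0 : ((SH (CohB1.tensorMod F E)).rightDerived q).obj G ≅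
      ((SH (CohB1.tensorMod E F)).rightDerived q).obj G :=
    (Groth.Agent.Helper1.DeltaFun.rightDerivedIso c q).app G
  exact ⟨j0 ≪≫ i⟩

end ExtSh

end Groth.Agent.Lead.FLFDual
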