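import Mathlib
import Groth.Prelude
import Groth.Agent.Helper3.PullGenA
import Groth.Agent.Helper1.LG6

set_option autoImplicit false
set_option linter.style.haveILetI false
set_option linter.unusedVariables false
universe u
open CategoryTheory CategoryTheory.Limits AlgebraicGeometry TopologicalSpace Opposite TensorProduct

namespace Groth.Agent.Lead.FTDesc

open Groth.Agent.Helper9.SkyMod1 Groth.Agent.Helper9.SkyMod2 Groth.Agent.Helper9.SkyMod3
  Groth.Agent.Helper9.SkyMod4 Groth.Agent.Helper3.PullGen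

variable {X Y : Scheme.{u}} (f : X ⟶ Y) (L : Y.Modules) (x : X)

theorem compat_germ (V : Y.Opens) (hx : f x ∈ V) (τ : Γ(L, V)) :
    ((pullStalkIso x f).hom.app L).hom
        (((Scheme.Modules.pullback f).obj L).presheaf.germ (f ⁻¹ᵁ V) x hx (unitSec f L V τ)) =
      ((ModuleCat.extendRestrictScalarsAdj (f.stalkMap x).hom).unit.app
        ((St (f.base x)).obj L)).hom (L.presheaf.germ V (f.base x) hx τ) := by
  have hu := Adjunction.unit_leftAdjointUniq_hom_app (adjPull x f)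
    ((adjExt x f).ofNatIsoRight (pushSkyNatIso f x).symm) L
  have h2 := congrArg (fun ψ => ψ.app V τ) hu
  exact congrFun h2 ⟨hx⟩

theorem compat (m : L.presheaf.stalk (f x)) :
    ((pullStalkIso x f).hom.app L).hom (pgFun f L x m) =
      ((ModuleCat.extendRestrictScalarsAdj (f.stalkMap x).hom).unit.app
        ((St (f.base x)).obj L)).hom m := by
  obtain ⟨V, hxV, τ, rfl⟩ := TopCat.Presheaf.exists_germ_eq L.presheaf m
  rw [pgFun_germ]
  exact compat_germ f L x V hxV τ

theorem top_of_span (hfl : (f.stalkMap x).hom.Flat)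
    (G' : Submodule (Y.presheaf.stalk (f x)) (L.presheaf.stalk (f x)))
    (h : Submodule.span (X.presheaf.stalk x) (pgFun f L x '' (G' : Set _)) = ⊤) : G' = ⊤ := by
  letI := (f.stalkMap x).hom.toAlgebra
  haveI : Module.Flat (Y.presheaf.stalk (f x)) (X.presheaf.stalk x) := hfl
  haveI : IsLocalHom (algebraMap (Y.presheaf.stalk (f x)) (X.presheaf.stalk x)) :=
    inferInstanceAs (IsLocalHom (f.stalkMap x).hom)
  haveI : Module.FaithfullyFlat (Y.presheaf.stalk (f x)) (X.presheaf.stalk x) :=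
    Module.FaithfullyFlat.of_flat_of_isLocalHom
  let E : ((Scheme.Modules.pullback f).obj L).presheaf.stalk x ≃ₗ[X.presheaf.stalk x]
      (X.presheaf.stalk x) ⊗[Y.presheaf.stalk (f x)] (L.presheaf.stalk (f x)) :=
    ((pullStalkIso x f).app L).toLinearEquiv
  have hE : ∀ m, E (pgFun f L x m) = (1 : X.presheaf.stalk x) ⊗ₜ m := fun m => compat f L x m
  apply Submodule.baseChange_injective (A := X.presheaf.stalk x)
  rw [Submodule.baseChange_top, Submodule.baseChange_eq_span]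
  have h2 := congrArg (Submodule.map E.toLinearMap) h
  rw [Submodule.map_span, Submodule.map_top, LinearEquiv.range] at h2
  rw [← h2]
  congr 1
  ext z
  constructor
  · rintro ⟨m, hm, rfl⟩
    exact ⟨pgFun f L x m, ⟨m, hm, rfl⟩, hE m⟩
  · rintro ⟨_, ⟨m, hm, rfl⟩, rfl⟩
    exact ⟨m, hm, (hE m).symm⟩

section gen
open Groth.Agent.Helper1.LG

variable {X : Scheme.{u}} (M : X.Modules)

theorem germ_rM {V W : X.Opens} (h : W ≤ V) (x : X) (hx : x ∈ W) (m : Γ(M, V)) :
    M.presheaf.germ W x hx (rM M h m) = M.presheaf.germ V x (h hx) m :=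
  TopCat.Presheaf.germ_res_apply M.presheaf (homOfLE h) x hx m

theorem germ_rX {V W : X.Opens} (h : W ≤ V) (x : X) (hx : x ∈ W) (a : Γ(X, V)) :
    X.presheaf.germ W x hx (rX h a) = X.presheaf.germ V x (h hx) a :=
  TopCat.Presheaf.germ_res_apply X.presheaf (homOfLE h) x hx a

theorem germ_sum {V : X.Opens} (x : X) (hx : x ∈ V) {K : Type*} (t : Finset K)
    (g : K → Γ(M, V)) :
    M.presheaf.germ V x hx (∑ k ∈ t, g k) = ∑ k ∈ t, M.presheaf.germ V x hx (g k) :=
  map_sum (M.presheaf.germ V x hx).hom g t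

/-- stalks are spanned by the germs of generating sections -/
theorem span_of_genOn {U : X.Opens} {I : Type u} [Fintype I] (s : I → Γ(M, U))
    (h : GenOn (R := X.ringCatSheaf) M U s) (x : X) (hx : x ∈ U) :
    Submodule.span (X.presheaf.stalk x)
      (Set.range fun i => M.presheaf.germ U x hx (s i)) = ⊤ := by
  rw [genOn_iff] at h
  rw [eq_top_iff]
  intro m _
  obtain ⟨V, hVU, hxV, t, rfl⟩ := TopCat.Presheaf.exists_le_germ_eq M.presheaf m hx
  obtain ⟨W, hW, hxW, a, ha⟩ := h V hVU t x hxV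
  rw [← germ_rM M hW x hxW t, ha, germ_sum]
  refine Submodule.sum_mem _ fun i _ => ?_
  rw [Groth.Agent.Helper9.SkyMod2.germ_smul]
  refine Submodule.smul_mem _ _ (Submodule.subset_span ⟨i, ?_⟩)
  exact (germ_rM M (hW.trans hVU) x hxW (s i)).symm

/-- local combinations from a stalkwise statement -/
theorem exists_local_combination {U : X.Opens} {I K : Type u} [Fintype I] [Fintype K]
    (u : K → Γ(M, U)) (t : I → Γ(M, U)) (x : X) (hx : x ∈ U)
    (h : ∀ i, M.presheaf.germ U x hx (t i) ∈ Submodule.span (X.presheaf.stalk x)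
      (Set.range fun k => M.presheaf.germ U x hx (u k))) :
    ∃ (W : X.Opens) (hW : W ≤ U), x ∈ W ∧ ∃ a : I → K → Γ(X, W),
      ∀ i, rM M hW (t i) = ∑ k, a i k • rM M hW (u k) := by
  classical
  have h1 : ∀ i, ∃ c : K → X.presheaf.stalk x,
      ∑ k, c k • M.presheaf.germ U x hx (u k) = M.presheaf.germ U x hx (t i) :=
    fun i => (Submodule.mem_span_range_iff_exists_fun _).mp (h i)
  choose c hc using h1
  have h2 : ∀ p : I × K, ∃ (W : X.Opens) (_ : W ≤ U) (hxW : x ∈ W) (a : Γ(X, W)),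
      X.presheaf.germ W x hxW a = c p.1 p.2 := by
    intro p
    obtain ⟨W, hW, hxW, a, ha⟩ := TopCat.Presheaf.exists_le_germ_eq X.presheaf (c p.1 p.2) hx
    exact ⟨W, hW, hxW, a, ha⟩
  choose W hWU hxW a ha using h2
  let W₁ : X.Opens := (⨅ p, W p) ⊓ U
  have hxW₁ : x ∈ W₁ := by
    refine ⟨?_, hx⟩
    have : x ∈ ((⨅ p, W p : X.Opens) : Set X) := by
      rw [Opens.coe_iInf]; exact Set.mem_iInter.mpr hxW
    exact this
  have hW₁U : W₁ ≤ U := inf_le_right
  have hW₁ : ∀ p, W₁ ≤ W p := fun p => inf_le_left.trans (iInf_le W p)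
  let b : I → K → Γ(X, W₁) := fun i k => rX (hW₁ (i, k)) (a (i, k))
  have hb : ∀ i k, X.presheaf.germ W₁ x hxW₁ (b i k) = c i k := by
    intro i k
    rw [germ_rX]; exact ha (i, k)
  have h3 : ∀ i, M.presheaf.germ W₁ x hxW₁ (rM M hW₁U (t i)) =
      M.presheaf.germ W₁ x hxW₁ (∑ k, b i k • rM M hW₁U (u k)) := by
    intro i
    rw [germ_rM, germ_sum, ← hc i]
    refine Finset.sum_congr rfl fun k _ => ?_
    rw [Groth.Agent.Helper9.SkyMod2.germ_smul, hb, germ_rM]
  have h4 : ∀ i, ∃ (W' : X.Opens) (hW' : W' ≤ W₁), x ∈ W' ∧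
      rM M hW' (rM M hW₁U (t i)) = rM M hW' (∑ k, b i k • rM M hW₁U (u k)) := by
    intro i
    obtain ⟨W', hxW', iU, iV, e⟩ := TopCat.Presheaf.germ_eq M.presheaf x hxW₁ hxW₁ _ _ (h3 i)
    refine ⟨W', iU.le, hxW', ?_⟩
    have : iV = iU := Subsingleton.elim _ _
    rw [this] at e
    exact e
  choose W' hW' hxW' e using h4
  let W₂ : X.Opens := (⨅ i, W' i) ⊓ W₁
  have hxW₂ : x ∈ W₂ := by
    refine ⟨?_, hxW₁⟩
    have : x ∈ ((⨅ i, W' i : X.Opens) : Set X) := by
      rw [Opens.coe_iInf]; exact Set.mem_iInter.mpr hxW'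
    exact this
  have hW₂₁ : W₂ ≤ W₁ := inf_le_right
  have hW₂ : ∀ i, W₂ ≤ W' i := fun i => inf_le_left.trans (iInf_le W' i)
  refine ⟨W₂, hW₂₁.trans hW₁U, hxW₂, fun i k => rX hW₂₁ (b i k), fun i => ?_⟩
  have e' := congrArg (rM M (hW₂ i)) (e i)
  rw [rM_rM, rM_rM, rM_rM] at e'
  rw [e', rM_sum]
  refine Finset.sum_congr rfl fun k _ => ?_
  rw [rM_smul, rM_rM]

/-- generation from a stalkwise statement -/
theorem genOn_of_span {U : X.Opens} {K : Type u} [Fintype K] (u : K → Γ(M, U))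
    (h : ∀ (x : X) (hx : x ∈ U), Submodule.span (X.presheaf.stalk x)
      (Set.range fun k => M.presheaf.germ U x hx (u k)) = ⊤) :
    GenOn (R := X.ringCatSheaf) M U u := by
  rw [genOn_iff]
  intro V hV t x hxV
  obtain ⟨W, hW, hxW, a, ha⟩ := exists_local_combination M (U := V) (I := PUnit.{u + 1})
    (fun k => rM M hV (u k)) (fun _ => t) x hxV (by
      intro _
      have := h x (hV hxV)
      have h2 : (Set.range fun k => M.presheaf.germ V x hxV (rM M hV (u k))) =
          Set.range fun k => M.presheaf.germ U x (hV hxV) (u k) := by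
        congr 1; funext k; exact germ_rM M hV x hxV (u k)
      rw [h2, this]; trivial)
  refine ⟨W, hW, hxW, a PUnit.unit, ?_⟩
  rw [ha PUnit.unit]
  refine Finset.sum_congr rfl fun k _ => ?_
  rw [rM_rM]

end gen

section main
open Groth.Agent.Helper1.LG

theorem main {X Y : Scheme.{u}} (f : X ⟶ Y) [Flat f] [Surjective f]
    (hf : IsOpenMap f.base) (F : Y.Modules)
    (h : SheafOfModules.IsFiniteType (R := X.ringCatSheaf) ((Scheme.Modules.pullback f).obj F)) :
    SheafOfModules.IsFiniteType (R := Y.ringCatSheaf) F := by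
  classical
  rw [Groth.Agent.Helper1.LG.isFiniteType_iff] at h ⊢
  intro y
  obtain ⟨x, rfl⟩ := f.surjective y
  obtain ⟨U, hxU, I, _, s, hs⟩ := h x
  have hspan_s := span_of_genOn ((Scheme.Modules.pullback f).obj F) s hs
  have hfg : (Submodule.span (X.presheaf.stalk x) (Set.range (pgFun f F x))).FG := by
    rw [span_range_pgFun, ← hspan_s x hxU]
    exact Submodule.fg_span (Set.finite_range _)
  obtain ⟨T', hT'sub, hT'⟩ := (Submodule.fg_span_iff_fg_span_finset_subset _).mp hfg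
  have hm : ∀ k : T', ∃ m : F.presheaf.stalk (f x), pgFun f F x m = k.1 := fun k => hT'sub k.2
  choose m hm using hm
  have hτ : ∀ k : T', ∃ (V : Y.Opens) (hV : f x ∈ V) (τ : Γ(F, V)),
      F.presheaf.germ V (f x) hV τ = m k :=
    fun k => TopCat.Presheaf.exists_germ_eq F.presheaf (m k)
  choose V hV τ hτ using hτ
  let V₀ : Y.Opens := ⨅ k, V k
  have hyV₀ : f x ∈ V₀ := by
    have : f x ∈ ((⨅ k, V k : Y.Opens) : Set Y) := by
      rw [Opens.coe_iInf]; exact Set.mem_iInter.mpr hV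
    exact this
  let τ₀ : T' → Γ(F, V₀) := fun k => rM F (iInf_le V k) (τ k)
  have hτ₀ : ∀ k, F.presheaf.germ V₀ (f x) hyV₀ (τ₀ k) = m k := by
    intro k
    rw [germ_rM]; exact hτ k
  let u : T' → Γ((Scheme.Modules.pullback f).obj F, f ⁻¹ᵁ V₀) :=
    fun k => unitSec f F V₀ (τ₀ k)
  have hu : ∀ (x' : X) (hx' : x' ∈ f ⁻¹ᵁ V₀) (k : T'),
      ((Scheme.Modules.pullback f).obj F).presheaf.germ (f ⁻¹ᵁ V₀) x' hx' (u k) =
        pgFun f F x' (F.presheaf.germ V₀ (f x') hx' (τ₀ k)) :=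
    fun x' hx' k => (pgFun_germ f F x' V₀ hx' (τ₀ k)).symm
  let U₁ : X.Opens := U ⊓ f ⁻¹ᵁ V₀
  have hxU₁ : x ∈ U₁ := ⟨hxU, hyV₀⟩
  have hU₁l : U₁ ≤ U := inf_le_left
  have hU₁r : U₁ ≤ f ⁻¹ᵁ V₀ := inf_le_right
  obtain ⟨U₂, hU₂, hxU₂, a, ha⟩ := exists_local_combination
    ((Scheme.Modules.pullback f).obj F) (U := U₁)
    (fun k => rM _ hU₁r (u k)) (fun i => rM _ hU₁l (s i)) x hxU₁ (by
      intro i
      have hr : (Set.range fun k : T' => ((Scheme.Modules.pullback f).obj F).presheaf.germ U₁ x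
          hxU₁ (rM _ hU₁r (u k))) = (T' : Set _) := by
        ext z
        constructor
        · rintro ⟨k, rfl⟩
          beta_reduce
          rw [germ_rM, hu, hτ₀, hm]; exact k.2
        · intro hz
          refine ⟨⟨z, hz⟩, ?_⟩
          beta_reduce
          rw [germ_rM, hu, hτ₀, hm]
      rw [hr, ← hT', span_range_pgFun]; trivial)
  have key : ∀ (x' : X) (hx' : x' ∈ U₂), Submodule.span (Y.presheaf.stalk (f x'))
      (Set.range fun k => F.presheaf.germ V₀ (f x') (hU₂ hx').2 (τ₀ k)) = ⊤ := by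
    intro x' hx'
    have hx'U₁ := hU₂ hx'
    apply top_of_span f F x' ((Flat.iff_flat_stalkMap f).mp inferInstance x')
    rw [eq_top_iff, ← hspan_s x' hx'U₁.1, Submodule.span_le]
    rintro _ ⟨i, rfl⟩
    have e1 : ((Scheme.Modules.pullback f).obj F).presheaf.germ U x' hx'U₁.1 (s i) =
        ((Scheme.Modules.pullback f).obj F).presheaf.germ U₂ x' hx'
          (rM _ hU₂ (rM _ hU₁l (s i))) := by rw [germ_rM, germ_rM]
    change ((Scheme.Modules.pullback f).obj F).presheaf.germ U x' hx'U₁.1 (s i) ∈ _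
    rw [e1, ha i, germ_sum]
    refine Submodule.sum_mem _ fun k _ => ?_
    rw [Groth.Agent.Helper9.SkyMod2.germ_smul]
    refine Submodule.smul_mem _ _ (Submodule.subset_span ?_)
    rw [germ_rM, germ_rM, hu]
    exact ⟨_, Submodule.subset_span ⟨k, rfl⟩, rfl⟩
  let V₁ : Y.Opens := ⟨f.base '' (U₂ : Set X), hf _ U₂.isOpen⟩
  have hV₁ : V₁ ≤ V₀ := by
    rintro _ ⟨x', hx', rfl⟩
    exact (hU₂ hx').2
  refine ⟨V₁, ⟨x, hxU₂, rfl⟩, T', inferInstance, fun k => rM F hV₁ (τ₀ k), ?_⟩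
  apply genOn_of_span
  intro y' hy'
  have hy'' := hy'
  obtain ⟨x', hx', rfl⟩ := hy''
  have h3 := key x' hx'
  have h4 : (Set.range fun k => F.presheaf.germ V₁ (f x') hy' (rM F hV₁ (τ₀ k))) =
      Set.range fun k => F.presheaf.germ V₀ (f x') (hU₂ hx').2 (τ₀ k) := by
    congr 1; funext k; exact germ_rM F hV₁ (f x') hy' (τ₀ k)
  rw [h4]; exact h3

end main

end Groth.Agent.Lead.FTDesc
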