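import Mathlib

set_option autoImplicit false
set_option linter.style.haveILetI false
universe u
open CategoryTheory CategoryTheory.Limits AlgebraicGeometry TopologicalSpace Opposite

namespace Groth.Agent.Lead.FgOpen

/-- A pushout of commutative rings is generated by the two images. -/
theorem closure_eq_top_of_isPushout {R B A Q : CommRingCat.{u}} {f : R ⟶ B} {g : R ⟶ A}
    {inl : B ⟶ Q} {inr : A ⟶ Q} (h : IsPushout f g inl inr) :
    Subring.closure (Set.range inl.hom ∪ Set.range inr.hom) = ⊤ := by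
  let T : Subring Q := Subring.closure (Set.range inl.hom ∪ Set.range inr.hom)
  let inl' : B ⟶ CommRingCat.of T := CommRingCat.ofHom
    (inl.hom.codRestrict T (fun b => Subring.subset_closure (Or.inl ⟨b, rfl⟩)))
  let inr' : A ⟶ CommRingCat.of T := CommRingCat.ofHom
    (inr.hom.codRestrict T (fun a => Subring.subset_closure (Or.inr ⟨a, rfl⟩)))
  have w : f ≫ inl' = g ≫ inr' := by
    ext r
    exact congrArg (fun φ => φ.hom r) h.w
  let ι : CommRingCat.of T ⟶ Q := CommRingCat.ofHom T.subtype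
  have hd : h.desc inl' inr' w ≫ ι = 𝟙 Q := by
    apply h.hom_ext
    · rw [h.inl_desc_assoc]; ext b; rfl
    · rw [h.inr_desc_assoc]; ext a; rfl
  rw [eq_top_iff]
  intro q _
  have hq : q = ι.hom ((h.desc inl' inr' w).hom q) := by
    have := congrArg (fun φ => φ.hom q) hd
    simpa using this.symm
  rw [hq]
  exact ((h.desc inl' inr' w).hom q).2

theorem exists_fg_mem_closure {k : Type u} [Field k] {A : Type u} [CommRing A] [Algebra k A]
    {B Q : Type u} [CommRing B] [CommRing Q] (inl : B →+* Q) (inr : A →+* Q)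
    (h : Subring.closure (Set.range inl ∪ Set.range inr) = ⊤) (q : Q) :
    ∃ A' : Subalgebra k A, A'.FG ∧
      q ∈ Subring.closure (Set.range inl ∪ inr '' (A' : Set A)) := by
  have hq : q ∈ Subring.closure (Set.range inl ∪ Set.range inr) := h ▸ Subring.mem_top q
  have mono : ∀ {A₁ A₂ : Subalgebra k A}, A₁ ≤ A₂ →
      Subring.closure (Set.range inl ∪ inr '' (A₁ : Set A)) ≤
        Subring.closure (Set.range inl ∪ inr '' (A₂ : Set A)) :=
    fun h12 => Subring.closure_mono (Set.union_subset_union_right _ (Set.image_mono h12))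
  induction hq using Subring.closure_induction with
  | mem x hx =>
    rcases hx with ⟨b, rfl⟩ | ⟨a, rfl⟩
    · exact ⟨⊥, Subalgebra.fg_bot, Subring.subset_closure (Or.inl ⟨b, rfl⟩)⟩
    · refine ⟨Algebra.adjoin k {a}, ⟨{a}, by simp⟩, Subring.subset_closure
        (Or.inr ⟨a, Algebra.subset_adjoin (Set.mem_singleton a), rfl⟩)⟩
  | zero => exact ⟨⊥, Subalgebra.fg_bot, Subring.zero_mem _⟩
  | one => exact ⟨⊥, Subalgebra.fg_bot, Subring.one_mem _⟩
  | add x y _ _ hx hy =>
    obtain ⟨A₁, h1, hx⟩ := hx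
    obtain ⟨A₂, h2, hy⟩ := hy
    exact ⟨A₁ ⊔ A₂, h1.sup h2, Subring.add_mem _ (mono le_sup_left hx) (mono le_sup_right hy)⟩
  | neg x _ hx =>
    obtain ⟨A₁, h1, hx⟩ := hx
    exact ⟨A₁, h1, Subring.neg_mem _ hx⟩
  | mul x y _ _ hx hy =>
    obtain ⟨A₁, h1, hx⟩ := hx
    obtain ⟨A₂, h2, hy⟩ := hy
    exact ⟨A₁ ⊔ A₂, h1.sup h2, Subring.mul_mem _ (mono le_sup_left hx) (mono le_sup_right hy)⟩

section Geom
variable {X S T : Scheme.{u}} (f : X ⟶ S) (g : T ⟶ S) [IsAffine S] [IsAffine T]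

theorem closure_sections (U : X.Opens) (hU : IsAffineOpen U) :
    Subring.closure
      (Set.range ((pullback.fst f g).appLE U (pullback.fst f g ⁻¹ᵁ U) le_rfl).hom ∪
        Set.range ((pullback.snd f g).appLE ⊤ (pullback.fst f g ⁻¹ᵁ U) le_top).hom) = ⊤ := by
  have H := IsPullback.of_hasPullback f g
  have hiso := isIso_pushoutSection_of_isAffineOpen H (US := ⊤) (UT := ⊤) (UX := U)
    (UY := pullback.fst f g ⁻¹ᵁ U) (by simp) (by simp) (by simp)
    (isAffineOpen_top S) (isAffineOpen_top T) hU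
  have hpo := (isIso_pushoutSection_iff ..).mp hiso
  exact closure_eq_top_of_isPushout hpo

end Geom


section Main
variable (k : Type u) [Field k] (X : Scheme.{u}) (f : X ⟶ Spec (CommRingCat.of k))

/-- `Spec A ⟶ Spec k`. -/
noncomputable abbrev gOf (A : Type u) [CommRing A] [Algebra k A] :
    Spec (CommRingCat.of A) ⟶ Spec (CommRingCat.of k) :=
  Spec.map (CommRingCat.ofHom (algebraMap k A))

variable (A : Type u) [CommRing A] [Algebra k A]

theorem main
    (V : Set ↥(pullback f (gOf k A))) (hV : IsOpen V) (hVc : IsCompact V) :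
    ∃ (A' : Subalgebra k A), A'.FG ∧
      ∃ (V' : Set ↥(pullback f (gOf k ↥A'))), IsOpen V' ∧ IsCompact V' ∧
        ∀ π : pullback f (gOf k A) ⟶ pullback f (gOf k ↥A'),
          π ≫ pullback.fst _ _ = pullback.fst _ _ →
          π ≫ pullback.snd _ _ = pullback.snd _ _ ≫
              Spec.map (CommRingCat.ofHom A'.val.toRingHom) →
            π.base ⁻¹' V' = V := by
  let g := gOf k A
  let P := pullback f g
  let Vo : P.Opens := ⟨V, hV⟩
  have loc : ∀ p : V, ∃ (U : X.Opens) (_ : IsAffineOpen U)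
      (s : Γ(P, pullback.fst f g ⁻¹ᵁ U)), (p : P) ∈ P.basicOpen s ∧ P.basicOpen s ≤ Vo := by
    intro p
    obtain ⟨U, hU, hpU, -⟩ := exists_isAffineOpen_mem_and_subset
      (x := pullback.fst f g p.1) (U := ⊤) trivial
    haveI : IsAffineHom (pullback.fst f g) :=
      MorphismProperty.pullback_fst f g (inferInstance : IsAffineHom g)
    have hW : IsAffineOpen (pullback.fst f g ⁻¹ᵁ U) := hU.preimage _
    obtain ⟨s, hs1, hs2⟩ := hW.exists_basicOpen_le (V := Vo) ⟨p.1, p.2⟩ hpU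
    exact ⟨U, hU, s, hs2, hs1⟩
  choose U hU s hs1 hs2 using loc
  obtain ⟨t, ht⟩ := hVc.elim_finite_subcover (fun p : V => (P.basicOpen (s p) : Set P))
    (fun p => (P.basicOpen (s p)).isOpen)
    (fun x hx => Set.mem_iUnion.mpr ⟨⟨x, hx⟩, hs1 ⟨x, hx⟩⟩)
  let inl : ∀ p : V, Γ(X, U p) →+* Γ(P, pullback.fst f g ⁻¹ᵁ U p) := fun p =>
    ((pullback.fst f g).appLE (U p) (pullback.fst f g ⁻¹ᵁ U p) le_rfl).hom
  let inr : ∀ p : V, A →+* Γ(P, pullback.fst f g ⁻¹ᵁ U p) := fun p =>
    ((pullback.snd f g).appLE ⊤ (pullback.fst f g ⁻¹ᵁ U p) le_top).hom.comp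
      (Scheme.ΓSpecIso (CommRingCat.of A)).inv.hom
  have hcl : ∀ p : V, Subring.closure (Set.range (inl p) ∪ Set.range (inr p)) = ⊤ := by
    intro p
    have h1 := closure_sections f g (U p) (hU p)
    have h2 : Set.range (inr p) =
        Set.range ((pullback.snd f g).appLE ⊤ (pullback.fst f g ⁻¹ᵁ U p) le_top).hom := by
      have hsurj : Function.Surjective (Scheme.ΓSpecIso (CommRingCat.of A)).inv.hom :=
        (ConcreteCategory.bijective_of_isIso (Scheme.ΓSpecIso (CommRingCat.of A)).inv).2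
      have hco : (⇑(inr p) : A → _) =
          ⇑((pullback.snd f g).appLE ⊤ (pullback.fst f g ⁻¹ᵁ U p) le_top).hom ∘
            ⇑(Scheme.ΓSpecIso (CommRingCat.of A)).inv.hom := rfl
      rw [hco]
      exact hsurj.range_comp _
    rw [h2]
    exact h1
  have fg : ∀ p : V, ∃ A' : Subalgebra k A, A'.FG ∧
      s p ∈ Subring.closure (Set.range (inl p) ∪ (inr p) '' (A' : Set A)) :=
    fun p => exists_fg_mem_closure (inl p) (inr p) (hcl p) (s p)
  choose A'p hA'fg hA'mem using fg
  let A' : Subalgebra k A := t.sup A'p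
  have hA' : A'.FG :=
    Finset.sup_induction Subalgebra.fg_bot (fun a ha b hb => ha.sup hb) (fun b _ => hA'fg b)
  refine ⟨A', hA', ?_⟩
  let g' := gOf k ↥A'
  let j : Spec (CommRingCat.of A) ⟶ Spec (CommRingCat.of ↥A') :=
    Spec.map (CommRingCat.ofHom A'.val.toRingHom)
  have hj : j ≫ g' = g := by
    change Spec.map _ ≫ Spec.map _ = Spec.map _
    rw [← Spec.map_comp, ← CommRingCat.ofHom_comp]
    congr 2
  let P' := pullback f g'
  let π₀ : P ⟶ P' := pullback.lift (pullback.fst f g) (pullback.snd f g ≫ j)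
    (by rw [Category.assoc, hj, pullback.condition])
  have hπ1 : π₀ ≫ pullback.fst f g' = pullback.fst f g := pullback.lift_fst _ _ _
  have hπ2 : π₀ ≫ pullback.snd f g' = pullback.snd f g ≫ j := pullback.lift_snd _ _ _
  haveI : IsAffineHom (pullback.fst f g') :=
    MorphismProperty.pullback_fst f g' (inferInstance : IsAffineHom g')
  have hWW : ∀ p : V, pullback.fst f g ⁻¹ᵁ U p = π₀ ⁻¹ᵁ (pullback.fst f g' ⁻¹ᵁ U p) := by
    intro p
    rw [← Scheme.Hom.comp_preimage, hπ1]
  let ρ : ∀ p : V, Γ(P', pullback.fst f g' ⁻¹ᵁ U p) →+* Γ(P, pullback.fst f g ⁻¹ᵁ U p) :=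
    fun p => (π₀.appLE (pullback.fst f g' ⁻¹ᵁ U p) (pullback.fst f g ⁻¹ᵁ U p) (hWW p).le).hom
  have key : ∀ p : V, p ∈ t → ∃ s' : Γ(P', pullback.fst f g' ⁻¹ᵁ U p), ρ p s' = s p := by
    intro p hp
    have hle : A'p p ≤ A' := Finset.le_sup hp
    have h1 : Subring.closure (Set.range (inl p) ∪ (inr p) '' (A' : Set A)) ≤ (ρ p).range := by
      rw [Subring.closure_le]
      rintro x (⟨b, rfl⟩ | ⟨a, ha, rfl⟩)
      · refine ⟨((pullback.fst f g').appLE (U p) (pullback.fst f g' ⁻¹ᵁ U p) le_rfl).hom b, ?_⟩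
        have h0 := Scheme.Hom.appLE_comp_appLE π₀ (pullback.fst f g') (U p)
          (pullback.fst f g' ⁻¹ᵁ U p) (pullback.fst f g ⁻¹ᵁ U p) le_rfl (hWW p).le
        have h2 := congrArg (fun φ => φ.hom b) h0
        simp only [hπ1] at h2
        exact h2
      · refine ⟨((pullback.snd f g').appLE ⊤ (pullback.fst f g' ⁻¹ᵁ U p) le_top).hom
          ((Scheme.ΓSpecIso (CommRingCat.of ↥A')).inv.hom ⟨a, ha⟩), ?_⟩
        have h0 := Scheme.Hom.appLE_comp_appLE π₀ (pullback.snd f g') ⊤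
          (pullback.fst f g' ⁻¹ᵁ U p) (pullback.fst f g ⁻¹ᵁ U p) le_top (hWW p).le
        have h2 := congrArg
          (fun φ => φ.hom ((Scheme.ΓSpecIso (CommRingCat.of ↥A')).inv.hom ⟨a, ha⟩)) h0
        simp only [hπ2] at h2
        have h4 := Scheme.Hom.appLE_comp_appLE (pullback.snd f g) j ⊤ ⊤
          (pullback.fst f g ⁻¹ᵁ U p) le_top le_top
        have h5 := congrArg
          (fun φ => φ.hom ((Scheme.ΓSpecIso (CommRingCat.of ↥A')).inv.hom ⟨a, ha⟩)) h4
        have hnat := Scheme.ΓSpecIso_inv_naturality (CommRingCat.ofHom A'.val.toRingHom)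
        have h3 := congrArg (fun φ => φ.hom ⟨a, ha⟩) hnat
        have h6 : j.appLE ⊤ ⊤ le_top = j.appTop := by
          simp [Scheme.Hom.appLE]
        refine h2.trans (h5.symm.trans ?_)
        change ((pullback.snd f g).appLE ⊤ (pullback.fst f g ⁻¹ᵁ U p) le_top).hom
          ((j.appLE ⊤ ⊤ le_top).hom _) = ((pullback.snd f g).appLE ⊤ _ le_top).hom
            ((Scheme.ΓSpecIso (CommRingCat.of A)).inv.hom a)
        rw [h6]
        congr 1
        exact h3.symm
    exact h1 (Subring.closure_mono (Set.union_subset_union_right _ (Set.image_mono hle))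
      (hA'mem p))
  choose s' hs' using key
  refine ⟨⋃ p : {p // p ∈ t}, (P'.basicOpen (s' p.1 p.2) : Set P'), ?_, ?_, ?_⟩
  · exact isOpen_iUnion fun p => (P'.basicOpen _).isOpen
  · apply isCompact_iUnion
    intro p
    have hW' : IsAffineOpen (pullback.fst f g' ⁻¹ᵁ U p.1) := (hU p.1).preimage _
    exact (hW'.basicOpen _).isCompact
  · intro π h1 h2
    have hπ : π = π₀ := by
      apply pullback.hom_ext
      · rw [h1, hπ1]
      · rw [h2, hπ2]
    rw [hπ, Set.preimage_iUnion]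
    have hpre : ∀ p : {p // p ∈ t},
        π₀.base ⁻¹' (P'.basicOpen (s' p.1 p.2) : Set P') = (P.basicOpen (s p.1) : Set P) := by
      intro p
      have e1 : π₀ ⁻¹ᵁ P'.basicOpen (s' p.1 p.2) = P.basicOpen (π₀.app _ (s' p.1 p.2)) :=
        Scheme.preimage_basicOpen π₀ _
      have e2 : P.basicOpen (s p.1) = P.basicOpen (π₀.app _ (s' p.1 p.2)) := by
        rw [← hs' p.1 p.2]
        change P.basicOpen ((π₀.app _ ≫ P.presheaf.map _).hom _) = _
        rw [CommRingCat.comp_apply, Scheme.basicOpen_res]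
        apply inf_eq_right.mpr
        rw [hWW p.1]
        exact Scheme.basicOpen_le _ _
      rw [e2, ← e1]
      rfl
    simp_rw [hpre]
    apply Set.Subset.antisymm
    · exact Set.iUnion_subset fun p => hs2 p.1
    · intro x hx
      obtain ⟨p, hp, hxp⟩ := Set.mem_iUnion₂.mp (ht hx)
      exact Set.mem_iUnion.mpr ⟨⟨p, hp⟩, hxp⟩

end Main

end Groth.Agent.Lead.FgOpen
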