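import Mathlib

/-!
# Containment of ideals checked over the generic points of a reduced Noetherian base

`ring_le`: `R` reduced Noetherian, `A` an `R`-algebra, `I'` an ideal with `A ⧸ I'` flat over `R`.
An element `s` lying in `I'` locally at every prime of `V(I')` over a minimal prime of `R` lies
in `I'`.
-/

set_option autoImplicit false
universe u

namespace Groth.Agent.Lead.FibLeA

/-- in a reduced ring an element outside all minimal primes is a nonzerodivisor. -/
theorem mem_nonZeroDivisors_of_notMem_minimalPrimes {R : Type u} [CommRing R] [IsReduced R]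
    (r : R) (hr : ∀ p ∈ minimalPrimes R, r ∉ p) : r ∈ nonZeroDivisors R := by
  rw [mem_nonZeroDivisors_iff_right]
  intro x hx
  have h1 : x ∈ nilradical R := by
    rw [nilradical, ← Ideal.sInf_minimalPrimes, Ideal.mem_sInf]
    intro p hp
    have h2 : x * r ∈ p := by rw [hx]; exact p.zero_mem
    exact ((Ideal.minimalPrimes_isPrime hp).mem_or_mem h2).resolve_right (hr p hp)
  rw [nilradical_eq_zero] at h1
  exact h1

theorem ring_le {R A : Type u} [CommRing R] [IsNoetherianRing R] [IsReduced R] [CommRing A]
    [Algebra R A] (I' : Ideal A) [Module.Flat R (A ⧸ I')] (s : A)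
    (h : ∀ q : Ideal A, q.IsPrime → I' ≤ q → q.comap (algebraMap R A) ∈ minimalPrimes R →
      ∃ u : A, u ∉ q ∧ u * s ∈ I') : s ∈ I' := by
  classical
  by_contra hs
  let K : Ideal A :=
    { carrier := {a | a * s ∈ I'}
      add_mem' := by
        intro a b ha hb
        show (a + b) * s ∈ I'
        rw [add_mul]
        exact I'.add_mem ha hb
      zero_mem' := by
        show (0 : A) * s ∈ I'
        rw [zero_mul]
        exact I'.zero_mem
      smul_mem' := by
        intro c a ha
        show (c • a) * s ∈ I'
        rw [smul_eq_mul, mul_assoc]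
        exact I'.mul_mem_left c ha }
  have hK : ∀ a, a ∈ K ↔ a * s ∈ I' := fun a => Iff.rfl
  have hI'K : I' ≤ K := fun a ha => (hK a).mpr (I'.mul_mem_right s ha)
  by_cases hJ : ∃ p ∈ minimalPrimes R, K.comap (algebraMap R A) ≤ p
  · obtain ⟨p, hp, hKp⟩ := hJ
    haveI hpp : p.IsPrime := Ideal.minimalPrimes_isPrime hp
    have hdisj : Disjoint (K : Set A) (Submonoid.map (algebraMap R A) p.primeCompl : Set A) := by
      rw [Set.disjoint_left]
      rintro a haK ⟨r, hr, rfl⟩
      exact hr (hKp haK)
    obtain ⟨q, hq, hKq, hqd⟩ := Ideal.exists_le_prime_disjoint K _ hdisj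
    have hqp : q.comap (algebraMap R A) ≤ p := by
      intro r hr
      by_contra hrp
      exact Set.disjoint_left.mp hqd hr ⟨r, hrp, rfl⟩
    have hqmin : q.comap (algebraMap R A) ∈ minimalPrimes R := by
      have h1 : p ≤ q.comap (algebraMap R A) :=
        hp.2 ⟨Ideal.comap_isPrime _ _, bot_le⟩ hqp
      rw [le_antisymm hqp h1]
      exact hp
    obtain ⟨u, huq, hus⟩ := h q hq (hI'K.trans hKq) hqmin
    exact huq (hKq ((hK u).mpr hus))
  · push Not at hJ
    have hfin : (minimalPrimes R).Finite := minimalPrimes.finite_of_isNoetherianRing R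
    have hnot : ¬ ((K.comap (algebraMap R A) : Set R) ⊆
        ⋃ p ∈ (hfin.toFinset : Set (Ideal R)), (id p : Ideal R)) := by
      intro hsub
      rw [Ideal.subset_union_prime (R := R) (s := hfin.toFinset) (f := id) ⊥ ⊥ (fun p hp _ _ =>
        Ideal.minimalPrimes_isPrime (hfin.mem_toFinset.mp hp))] at hsub
      obtain ⟨p, hp, hle⟩ := hsub
      exact hJ p (hfin.mem_toFinset.mp hp) hle
    rw [Set.not_subset] at hnot
    obtain ⟨r, hrK, hrn⟩ := hnot
    have hr : ∀ p ∈ minimalPrimes R, r ∉ p := by
      intro p hp hrp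
      apply hrn
      simp only [Set.mem_iUnion]
      exact ⟨p, by simpa using hp, hrp⟩
    have hnzd := mem_nonZeroDivisors_of_notMem_minimalPrimes r hr
    have hreg : IsSMulRegular (A ⧸ I') r := Module.Flat.isSMulRegular_of_nonZeroDivisors hnzd
    have h0 : r • (Ideal.Quotient.mk I' s) = r • (0 : A ⧸ I') := by
      rw [smul_zero, Algebra.smul_def]
      show Ideal.Quotient.mk I' (algebraMap R A r) * Ideal.Quotient.mk I' s = 0
      rw [← map_mul]
      exact Ideal.Quotient.eq_zero_iff_mem.mpr ((hK _).mp hrK)
    exact hs (Ideal.Quotient.eq_zero_iff_mem.mp (hreg h0))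

/-- the localization of a reduced ring at a minimal prime has zero maximal ideal. -/
theorem maximalIdeal_eq_bot {R L : Type u} [CommRing R] [CommRing L] [Algebra R L]
    (p : Ideal R) [p.IsPrime] [IsLocalization.AtPrime L p] [IsLocalRing L] [IsReduced L]
    (hp : p ∈ minimalPrimes R) : IsLocalRing.maximalIdeal L = ⊥ := by
  rw [eq_bot_iff]
  intro z hz
  have h1 : z ∈ nilradical L := by
    rw [nilradical_eq_sInf, Ideal.mem_sInf]
    intro P hP
    haveI : P.IsPrime := hP
    have hd : Disjoint (p.primeCompl : Set R) (P.comap (algebraMap R L) : Set R) := by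
      rw [Set.disjoint_left]
      intro r hr hrP
      have hu : IsUnit (algebraMap R L r) := IsLocalization.map_units L (⟨r, hr⟩ : p.primeCompl)
      exact (inferInstance : P.IsPrime).ne_top (Ideal.eq_top_of_isUnit_mem _ hrP hu)
    have hle : P.comap (algebraMap R L) ≤ p := by
      intro r hr
      by_contra hrp
      exact Set.disjoint_left.mp hd hrp hr
    have heq : P.comap (algebraMap R L) = p :=
      le_antisymm hle (hp.2 ⟨Ideal.comap_isPrime _ _, bot_le⟩ hle)
    have h2 : (IsLocalRing.maximalIdeal L).comap (algebraMap R L) = p :=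
      IsLocalization.AtPrime.comap_maximalIdeal L p
    have h3 : P = IsLocalRing.maximalIdeal L := by
      rw [← IsLocalization.map_comap p.primeCompl L P,
        ← IsLocalization.map_comap p.primeCompl L (IsLocalRing.maximalIdeal L), Ideal.under_def,
        Ideal.under_def, heq, h2]
    rw [h3]
    exact hz
  rw [nilradical_eq_zero] at h1
  exact h1

end Groth.Agent.Lead.FibLeA
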