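import Mathlib
import Groth.Prelude.Def_BlowUp2
import Groth.Agent.Helper5.FibStalk
import Groth.Agent.Helper9.IdealComap
import Groth.Agent.Lead.EffCartier
import Groth.Agent.Lead.FibLeA

/-!
# Containment of closed subschemes flat over a reduced locally Noetherian base, checked on fibres
-/

set_option autoImplicit false
universe u
open CategoryTheory CategoryTheory.Limits AlgebraicGeometry TopologicalSpace IsLocalRing

namespace Groth.Agent.Lead.FibLeB

/-- the stalk-level consequence of a containment of inverse images on a fibre. -/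
theorem germ_mem {X S : Scheme.{u}} (φ : X ⟶ S) (D D' : X.IdealSheafData) (t : S)
    (hfib : D.comap (φ.fiberι t) ≤ D'.comap (φ.fiberι t))
    (U : X.affineOpens) (s : Γ(X, U.1)) (hs : s ∈ D.ideal U)
    (y : ↥(φ.fiber t)) (hy : (φ.fiberι t) y ∈ U.1) :
    X.presheaf.germ U.1 _ hy s ∈
      Ideal.map (X.presheaf.germ U.1 _ hy).hom (D'.ideal U) ⊔
        Ideal.map (φ.stalkMap ((φ.fiberι t) y)).hom
          (maximalIdeal (S.presheaf.stalk (φ ((φ.fiberι t) y)))) := by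
  obtain ⟨W, hW, hyW, hWU⟩ := (Opens.isBasis_iff_nbhd.1 (φ.fiber t).isBasis_affineOpens)
    (show y ∈ (φ.fiberι t) ⁻¹ᵁ U.1 from hy)
  have h1 := Groth.Agent.Helper9.IdealComap.ideal_comap (φ.fiberι t) D U ⟨W, hW⟩ hWU
  have h2 := Groth.Agent.Helper9.IdealComap.ideal_comap (φ.fiberι t) D' U ⟨W, hW⟩ hWU
  have h3 : ((φ.fiberι t).appLE U.1 W hWU).hom s ∈
      Ideal.map ((φ.fiberι t).appLE U.1 W hWU).hom (D'.ideal U) := by
    rw [← h2]
    apply hfib ⟨W, hW⟩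
    rw [h1]
    exact Ideal.mem_map_of_mem _ hs
  have hst : ∀ a : Γ(X, U.1), ((φ.fiberι t).stalkMap y).hom (X.presheaf.germ U.1 _ hy a) =
      (φ.fiber t).presheaf.germ W y hyW (((φ.fiberι t).appLE U.1 W hWU).hom a) := by
    intro a
    have := Scheme.Hom.germ_stalkMap_apply (φ.fiberι t) U.1 y hy a
    rw [Scheme.Hom.appLE, CommRingCat.comp_apply, TopCat.Presheaf.germ_res_apply]
    exact this
  have h4 : ((φ.fiberι t).stalkMap y).hom (X.presheaf.germ U.1 _ hy s) ∈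
      Ideal.map ((φ.fiberι t).stalkMap y).hom
        (Ideal.map (X.presheaf.germ U.1 _ hy).hom (D'.ideal U)) := by
    rw [hst s, Ideal.map_map]
    have h5 := Ideal.mem_map_of_mem ((φ.fiber t).presheaf.germ W y hyW).hom h3
    rw [Ideal.map_map] at h5
    have h6 : (((φ.fiber t).presheaf.germ W y hyW).hom.comp
        ((φ.fiberι t).appLE U.1 W hWU).hom) =
        (((φ.fiberι t).stalkMap y).hom.comp (X.presheaf.germ U.1 _ hy).hom) := by
      ext a
      exact (hst a).symm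
    rw [h6] at h5
    exact h5
  obtain ⟨hsurj, hker⟩ := Groth.Agent.Helper5.FibStalk.s9501 φ t y
  rw [← hker]
  have h7 : X.presheaf.germ U.1 _ hy s ∈
      Ideal.comap ((φ.fiberι t).stalkMap y).hom (Ideal.map ((φ.fiberι t).stalkMap y).hom
        (Ideal.map (X.presheaf.germ U.1 _ hy).hom (D'.ideal U))) := h4
  rw [Ideal.comap_map_of_surjective _ hsurj] at h7
  exact h7

/-- same statement at an arbitrary point. -/
theorem germ_mem' {X S : Scheme.{u}} (φ : X ⟶ S) (D D' : X.IdealSheafData)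
    (hfib : ∀ t : S, D.comap (φ.fiberι t) ≤ D'.comap (φ.fiberι t))
    (U : X.affineOpens) (s : Γ(X, U.1)) (hs : s ∈ D.ideal U) (x : X) (hx : x ∈ U.1) :
    X.presheaf.germ U.1 x hx s ∈
      Ideal.map (X.presheaf.germ U.1 x hx).hom (D'.ideal U) ⊔
        Ideal.map (φ.stalkMap x).hom (maximalIdeal (S.presheaf.stalk (φ x))) := by
  obtain ⟨t, y, rfl⟩ : ∃ t, ∃ y : ↥(φ.fiber t), φ.fiberι t y = x :=
    ⟨φ x, φ.asFiber x, φ.fiberι_asFiber x⟩
  exact germ_mem φ D D' t (hfib t) U s hs y hx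

set_option maxHeartbeats 1000000 in
theorem main {X S : Scheme.{u}} [IsLocallyNoetherian S] [AlgebraicGeometry.IsReduced S]
    (φ : X ⟶ S) (D D' : X.IdealSheafData) [Flat (D'.subschemeι ≫ φ)]
    (hfib : ∀ t : S, D.comap (φ.fiberι t) ≤ D'.comap (φ.fiberι t)) : D ≤ D' := by
  let ι := {p : X.affineOpens × S.affineOpens // p.1.1 ≤ φ ⁻¹ᵁ p.2.1}
  apply Scheme.IdealSheafData.le_of_iSup_eq_top (ι := ι) (fun i => i.1.1)
  · rw [eq_top_iff]
    intro x _
    obtain ⟨W, hW, hfxW, -⟩ := (Opens.isBasis_iff_nbhd.1 S.isBasis_affineOpens)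
      (show φ x ∈ (⊤ : S.Opens) from trivial)
    obtain ⟨U, hU, hxU, e⟩ := (Opens.isBasis_iff_nbhd.1 X.isBasis_affineOpens)
      (show x ∈ φ ⁻¹ᵁ W from hfxW)
    exact Opens.mem_iSup.mpr ⟨⟨(⟨U, hU⟩, ⟨W, hW⟩), e⟩, hxU⟩
  · rintro ⟨⟨⟨U, hU⟩, ⟨W, hW⟩⟩, e⟩
    show D.ideal ⟨U, hU⟩ ≤ D'.ideal ⟨U, hU⟩
    have e' : U ≤ φ ⁻¹ᵁ W := e
    intro s hs
    letI algRA : Algebra Γ(S, W) Γ(X, U) := (φ.appLE W U e').hom.toAlgebra
    haveI : IsNoetherianRing Γ(S, W) := IsLocallyNoetherian.component_noetherian ⟨W, hW⟩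
    haveI hflat : Module.Flat Γ(S, W) (Γ(X, U) ⧸ D'.ideal ⟨U, hU⟩) :=
      (EffCartier.ringHomFlat_quot_iff _ _).mp
        (EffCartier.flat_quot_of_flat φ D' ⟨W, hW⟩ ⟨U, hU⟩ e')
    apply FibLeA.ring_le (R := Γ(S, W)) (D'.ideal ⟨U, hU⟩) s
    intro q hq hI'q hmin
    obtain ⟨x, hxdef⟩ : ∃ x : X, x = hU.fromSpec ⟨q, hq⟩ := ⟨_, rfl⟩
    have hxU : x ∈ U := by
      have h0 : x ∈ Set.range hU.fromSpec := ⟨⟨q, hq⟩, hxdef.symm⟩
      rw [hU.range_fromSpec] at h0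
      exact h0
    have hprime : hU.primeIdealOf ⟨x, hxU⟩ = ⟨q, hq⟩ := by
      apply hU.fromSpec.isOpenEmbedding.injective
      exact (hU.fromSpec_primeIdealOf ⟨x, hxU⟩).trans hxdef
    have hqa : (hU.primeIdealOf ⟨x, hxU⟩).asIdeal = q := congrArg PrimeSpectrum.asIdeal hprime
    letI algAT : Algebra Γ(X, U) (X.presheaf.stalk x) :=
      X.presheaf.algebra_section_stalk ⟨x, hxU⟩
    haveI hlocT : IsLocalization.AtPrime (X.presheaf.stalk x)
        (hU.primeIdealOf ⟨x, hxU⟩).asIdeal := hU.isLocalization_stalk ⟨x, hxU⟩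
    -- the maximal ideal of the base local ring vanishes
    have hφxW : φ x ∈ W := e' hxU
    letI algRL : Algebra Γ(S, W) (S.presheaf.stalk (φ x)) :=
      S.presheaf.algebra_section_stalk ⟨φ x, hφxW⟩
    haveI hlocL : IsLocalization.AtPrime (S.presheaf.stalk (φ x))
        (hW.primeIdealOf ⟨φ x, hφxW⟩).asIdeal := hW.isLocalization_stalk ⟨φ x, hφxW⟩
    have hq_comap : (hU.primeIdealOf ⟨x, hxU⟩).asIdeal.comap (algebraMap Γ(S, W) Γ(X, U)) =
        (hW.primeIdealOf ⟨φ x, hφxW⟩).asIdeal :=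
      congrArg PrimeSpectrum.asIdeal (IsAffineOpen.comap_primeIdealOf_appLE W hW U hU e' hxU)
    have hpmin : (hW.primeIdealOf ⟨φ x, hφxW⟩).asIdeal ∈ minimalPrimes Γ(S, W) := by
      rw [← hq_comap, hqa]
      exact hmin
    have hm0 : maximalIdeal (S.presheaf.stalk (φ x)) = ⊥ :=
      FibLeA.maximalIdeal_eq_bot (hW.primeIdealOf ⟨φ x, hφxW⟩).asIdeal hpmin
    have hg := germ_mem' φ D D' hfib ⟨U, hU⟩ s hs x hxU
    rw [hm0, Ideal.map_bot, sup_bot_eq] at hg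
    have hg' : algebraMap Γ(X, U) (X.presheaf.stalk x) s ∈
        Ideal.map (algebraMap Γ(X, U) (X.presheaf.stalk x)) (D'.ideal ⟨U, hU⟩) := hg
    rw [IsLocalization.algebraMap_mem_map_algebraMap_iff
      (hU.primeIdealOf ⟨x, hxU⟩).asIdeal.primeCompl] at hg'
    obtain ⟨u, hu, hus⟩ := hg'
    refine ⟨u, ?_, hus⟩
    rw [← hqa]
    exact hu

end Groth.Agent.Lead.FibLeB
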