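import Mathlib
import Groth.Agent.Helper1.PicLoc4
import Groth.Agent.Helper9.PullMon5
import Groth.Agent.Lead.FLFDual2
import Groth.Agent.Helper1.TensorLin1
import Groth.Agent.Helper1.TW2
import Groth.Agent.Lead.PerfLib11
import Groth.Agent.Lead.ResPropF
import Groth.Agent.Lead.LocLift
import Groth.Agent.Lead.StratB

/-!
# FibLiftA: lifting morphisms of finite locally free modules from the closed fibre
(local Noetherian base, `H¹(X₀, 𝓗om(F₀, G₀)) = 0`)
-/

set_option autoImplicit false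
set_option linter.style.haveILetI false
universe u
open CategoryTheory CategoryTheory.Limits AlgebraicGeometry TopologicalSpace Opposite

namespace Groth.Agent.Lead.FibLift

open Scheme.Modules Groth.Agent.Helper1.Form Groth.Agent.Helper1.PicLoc Groth.Agent.Helper4

section Quot

variable {A : Type u} [CommRing A] {X : Scheme.{u}} [X.Over (Spec (CommRingCat.of A))]

/-- a linear left adjoint endofunctor preserves quotients modulo an ideal -/
theorem isQuot_map {T T' : X.Modules ⥤ X.Modules} (adj : T ⊣ T') [T.Additive] [T.Linear A]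
    (J : Ideal A) {M Q : X.Modules} {p : M ⟶ Q} (hp : IsQuot J p) : IsQuot J (T.map p) := by
  haveI := hp.epi
  haveI : T.IsLeftAdjoint := adj.isLeftAdjoint
  haveI : T'.Additive := adj.right_adjoint_additive
  refine ⟨inferInstance, ?_, ?_⟩
  · intro a ha
    rw [← Functor.map_smul, hp.kills a ha, Functor.map_zero]
  · intro Z f hf
    have hk : Kills J (adj.homEquiv M Z f) := by
      intro a ha
      have h1 := adj.homEquiv_naturality_left (a • 𝟙 M) f
      rw [Functor.map_smul, CategoryTheory.Functor.map_id, Linear.smul_comp, Category.id_comp,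
        hf a ha, Linear.smul_comp, Category.id_comp] at h1
      rw [← h1, adj.homEquiv_unit, Functor.map_zero, comp_zero]
    obtain ⟨g', hg'⟩ := hp.fac _ hk
    refine ⟨(adj.homEquiv Q Z).symm g', ?_⟩
    apply (adj.homEquiv M Z).injective
    rw [adj.homEquiv_naturality_left, Equiv.apply_symm_apply, hg']

end Quot

section Main

variable (A : Type u) [CommRing A] [IsNoetherianRing A] [IsLocalRing A]
  (X : Scheme.{u}) [X.Over (Spec (CommRingCat.of A))]
  [IsProper (X ↘ Spec (CommRingCat.of A))] [Flat (X ↘ Spec (CommRingCat.of A))]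
  {X₀ : Scheme.{u}} {i : X₀ ⟶ X}
  {f₀ : X₀ ⟶ Spec (CommRingCat.of (A ⧸ IsLocalRing.maximalIdeal A))}
  (hsq : IsPullback i f₀ (X ↘ Spec (CommRingCat.of A))
    (Spec.map (CommRingCat.ofHom (Ideal.Quotient.mk (IsLocalRing.maximalIdeal A)))))

include hsq in
theorem isClosedImmersion_of_sq : IsClosedImmersion i := by
  haveI : IsClosedImmersion (Spec.map (CommRingCat.ofHom
      (Ideal.Quotient.mk (IsLocalRing.maximalIdeal A)))) :=
    IsClosedImmersion.spec_of_surjective _ Ideal.Quotient.mk_surjective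
  exact Groth.Agent.Lead.ThickBC.isClosedImmersion_of_isPullback hsq

include hsq in
/-- lifting morphisms from the closed fibre, abstract form: `T` is a right adjoint of `F ⊗ -`
which is also a linear left adjoint -/
theorem exists_lift_aux (F G : X.Modules) (T T'' : X.Modules ⥤ X.Modules)
    (adjT : DCoh.tensorBi.obj F ⊣ T) (adjT' : T ⊣ T'') [T.Additive] [T.Linear A]
    [G.IsQuasicoherent] (hNcoh : Coh.IsCoh (T.obj G))
    (hNfl : FlatMod.IsFlatOver (X ↘ Spec (CommRingCat.of A)) (T.obj G))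
    [DCoh.HasSheafHom ((Scheme.Modules.pullback i).obj F)]
    (h1 : Subsingleton (Coh.HH X₀ ((DCoh.sheafHom ((Scheme.Modules.pullback i).obj F)).obj
      ((Scheme.Modules.pullback i).obj G)) 1))
    (u₀ : (Scheme.Modules.pullback i).obj F ⟶ (Scheme.Modules.pullback i).obj G) :
    ∃ u : F ⟶ G, (Scheme.Modules.pullback i).map u = u₀ := by
  haveI : IsClosedImmersion i := isClosedImmersion_of_sq A X hsq
  obtain ⟨N, hN⟩ : ∃ N : X.Modules, N = T.obj G := ⟨_, rfl⟩
  haveI : (T.obj G).IsQuasicoherent := hNcoh.1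
  -- the quotients modulo the maximal ideal
  have hqG : IsQuot (IsLocalRing.maximalIdeal A) (unitN i G) :=
    isQuot_unitN (IsLocalRing.maximalIdeal A) hsq G
  have hqN : IsQuot (IsLocalRing.maximalIdeal A) (unitN i (T.obj G)) :=
    isQuot_unitN (IsLocalRing.maximalIdeal A) hsq (T.obj G)
  have hqT : IsQuot (IsLocalRing.maximalIdeal A) (T.map (unitN i G)) :=
    isQuot_map adjT' (IsLocalRing.maximalIdeal A) hqG
  obtain ⟨c, hc⟩ : ∃ c : (Scheme.Modules.pushforward i).obj ((Scheme.Modules.pullback i).obj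
      (T.obj G)) ≅ T.obj ((Scheme.Modules.pushforward i).obj ((Scheme.Modules.pullback i).obj G)),
      unitN i (T.obj G) ≫ c.hom = T.map (unitN i G) := ⟨hqN.iso hqT, hqN.fac_iso_hom hqT⟩
  -- the conjugate isomorphism
  obtain ⟨F₀, hF₀⟩ : ∃ F₀ : X₀.Modules, F₀ = (Scheme.Modules.pullback i).obj F := ⟨_, rfl⟩
  obtain ⟨G₀, hG₀⟩ : ∃ G₀ : X₀.Modules, G₀ = (Scheme.Modules.pullback i).obj G := ⟨_, rfl⟩
  have hκ : Nonempty ((Scheme.Modules.pushforward i ⋙ T) ≅
      (DCoh.sheafHom ((Scheme.Modules.pullback i).obj F) ⋙ Scheme.Modules.pushforward i)) := by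
    let adj₁ : DCoh.tensorBi.obj F ⋙ Scheme.Modules.pullback i ⊣
        Scheme.Modules.pushforward i ⋙ T :=
      adjT.comp (Scheme.Modules.pullbackPushforwardAdjunction i)
    let adj₂ : Scheme.Modules.pullback i ⋙
        DCoh.tensorBi.obj ((Scheme.Modules.pullback i).obj F) ⊣
        DCoh.sheafHom ((Scheme.Modules.pullback i).obj F) ⋙ Scheme.Modules.pushforward i :=
      (Scheme.Modules.pullbackPushforwardAdjunction i).comp
        (DCoh.sheafHomAdj ((Scheme.Modules.pullback i).obj F))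
    exact ⟨conjugateIsoEquiv adj₁ adj₂ ((Groth.Agent.Helper9.PullMon5.pbBiIso i).app F).symm⟩
  obtain ⟨κ⟩ := hκ
  have he₀ : Nonempty ((Scheme.Modules.pullback i).obj (T.obj G) ≅
      (DCoh.sheafHom ((Scheme.Modules.pullback i).obj F)).obj
        ((Scheme.Modules.pullback i).obj G)) :=
    ⟨(Scheme.Modules.pushforward i).preimageIso
      (c ≪≫ κ.app ((Scheme.Modules.pullback i).obj G))⟩
  obtain ⟨e₀⟩ := he₀
  have hvan : Subsingleton (Coh.HH X₀ ((Scheme.Modules.pullback i).obj (T.obj G)) 1) :=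
    Groth.Agent.Lead.StratB.subsingleton_HH_of_iso e₀.symm 1 h1
  have hsurj := surjective_unitN_app_top' A X hsq (T.obj G) hNcoh hNfl hvan
  -- lifting
  obtain ⟨ρF, -⟩ : ∃ ρF : (DCoh.tensorBi.obj F).obj (Coh.structureModule X) ≅ F, True :=
    ⟨SecTwist.unitorR F, trivial⟩
  obtain ⟨v, hv⟩ : ∃ v : F ⟶ (Scheme.Modules.pushforward i).obj
      ((Scheme.Modules.pullback i).obj G),
      v = (Scheme.Modules.pullbackPushforwardAdjunction i).homEquiv F
        ((Scheme.Modules.pullback i).obj G) u₀ := ⟨_, rfl⟩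
  obtain ⟨v', hv'⟩ : ∃ v' : Coh.structureModule X ⟶
      T.obj ((Scheme.Modules.pushforward i).obj ((Scheme.Modules.pullback i).obj G)),
      v' = adjT.homEquiv (Coh.structureModule X)
        ((Scheme.Modules.pushforward i).obj ((Scheme.Modules.pullback i).obj G))
        (ρF.hom ≫ v) := ⟨_, rfl⟩
  obtain ⟨s, hs⟩ := hsurj (c.inv.app ⊤ (v'.app ⊤ (1 : Γ(X, ⊤))))
  obtain ⟨φ, hφdef⟩ : ∃ φ : Coh.structureModule X ⟶ T.obj G,
      φ = Groth.Agent.Lead.LocLift.homOfTop (T.obj G) s := ⟨_, rfl⟩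
  have hφ : φ ≫ T.map (unitN i G) = v' := by
    apply Groth.Agent.Lead.LocLift.hom_unit_ext
    have e1 : (φ ≫ T.map (unitN i G)).app ⊤ (1 : Γ(X, ⊤)) =
        c.hom.app ⊤ ((unitN i (T.obj G)).app ⊤ (φ.app ⊤ (1 : Γ(X, ⊤)))) := by
      rw [← hc]
      rfl
    rw [e1, hφdef, Groth.Agent.Lead.LocLift.homOfTop_app_one, hs]
    have h3 : c.inv.app ⊤ ≫ c.hom.app ⊤ = 𝟙 _ := by
      rw [← Scheme.Modules.Hom.comp_app, Iso.inv_hom_id]
      rfl
    exact congrArg (fun k => k.hom (v'.app ⊤ (1 : Γ(X, ⊤)))) h3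
  obtain ⟨u, hudef⟩ : ∃ u : F ⟶ G,
      u = ρF.inv ≫ (adjT.homEquiv (Coh.structureModule X) G).symm φ := ⟨_, rfl⟩
  have hu : u ≫ unitN i G = v := by
    have h4 := adjT.homEquiv_naturality_right_symm φ (unitN i G)
    rw [hudef, Category.assoc, ← h4, hφ, hv', Equiv.symm_apply_apply, Iso.inv_hom_id_assoc]
  refine ⟨u, ?_⟩
  apply ((Scheme.Modules.pullbackPushforwardAdjunction i).homEquiv F
    ((Scheme.Modules.pullback i).obj G)).injective
  rw [← hv, Adjunction.homEquiv_unit]
  have h5 := (Scheme.Modules.pullbackPushforwardAdjunction i).unit.naturality u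
  exact h5.symm.trans hu

include hsq in
/-- **lifting morphisms from the closed fibre** -/
theorem exists_lift (F G : X.Modules) (hF : FlatMod.IsFinLocFree F) (hG : FlatMod.IsFinLocFree G)
    [DCoh.HasSheafHom ((Scheme.Modules.pullback i).obj F)]
    (h1 : Subsingleton (Coh.HH X₀ ((DCoh.sheafHom ((Scheme.Modules.pullback i).obj F)).obj
      ((Scheme.Modules.pullback i).obj G)) 1))
    (u₀ : (Scheme.Modules.pullback i).obj F ⟶ (Scheme.Modules.pullback i).obj G) :
    ∃ u : F ⟶ G, (Scheme.Modules.pullback i).map u = u₀ := by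
  have hD : FlatMod.IsFinLocFree (RefHull.dual F) :=
    Groth.Agent.Lead.FLFDual.isFinLocFree_dual F hF
  have hNflf : FlatMod.IsFinLocFree (CohB1.tensorMod (RefHull.dual F) G) :=
    Groth.Agent.Lead.ResProp.isFinLocFree_tensorMod hD hG
  haveI : G.IsQuasicoherent := (Groth.Agent.Lead.PerfLib.isCoh_of_isFinLocFree hG).1
  haveI : (DCoh.tensorBi.obj (RefHull.dual F)).Linear A :=
    Groth.Agent.Helper1.TensorLin.linear_tensor A (RefHull.dual F)
  exact exists_lift_aux A X hsq F G (DCoh.tensorBi.obj (RefHull.dual F)) (DCoh.tensorBi.obj F)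
    (Groth.Agent.Lead.FLFDual.adjDual' F hF) (Groth.Agent.Lead.FLFDual.adjDual F hF)
    (Groth.Agent.Lead.PerfLib.isCoh_of_isFinLocFree hNflf)
    (Groth.Agent.Lead.PerfLib.isFlatOver_of_isFinLocFree _ hNflf) h1 u₀

end Main

end Groth.Agent.Lead.FibLift
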