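import Mathlib

/-!
# FibLiftC: the fibrewise injectivity criterion (algebra)

`A` a ring, `𝔪` a maximal ideal, `N` flat over `A`, `φ : M → N` injective modulo `𝔪`.  Then the
kernel of `φ` is contained in `⋂ 𝔪ⁿ M`; when `M` is a finite module over a Noetherian `A`-algebra
`R` and `φ` is `R`-linear, Krull's theorem yields `r ∈ 𝔪 R` with `r • z = z` for `z ∈ ker φ`.
-/

set_option autoImplicit false
set_option linter.style.haveILetI false
universe u v w t
open TensorProduct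

namespace Groth.Agent.Lead.FibLift

section Alg

variable {A : Type u} [CommRing A] {M : Type v} {N : Type w} [AddCommGroup M] [Module A M]
  [AddCommGroup N] [Module A N]

lemma one_tmul_eq_zero_iff (J : Ideal A) (z : M) :
    ((1 : A ⧸ J) ⊗ₜ[A] z = 0) ↔ z ∈ (J • ⊤ : Submodule A M) := by
  rw [← (quotTensorEquivQuotSMul M J).map_eq_zero_iff, quotTensorEquivQuotSMul_mk_one_tmul,
    Submodule.Quotient.mk_eq_zero]

/-- injectivity modulo `𝔪` gives injectivity of the base change to `A ⧸ 𝔪` -/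
lemma baseChange_injective (𝔪 : Ideal A) (φ : M →ₗ[A] N)
    (h : ∀ z, φ z ∈ (𝔪 • ⊤ : Submodule A N) → z ∈ (𝔪 • ⊤ : Submodule A M)) :
    Function.Injective (φ.baseChange (A ⧸ 𝔪)) := by
  rw [injective_iff_map_eq_zero]
  intro y hy
  obtain ⟨z, rfl⟩ := TensorProduct.mk_surjective A M (A ⧸ 𝔪) Ideal.Quotient.mk_surjective y
  rw [TensorProduct.mk_apply] at hy ⊢
  rw [LinearMap.baseChange_tmul, one_tmul_eq_zero_iff] at hy
  exact (one_tmul_eq_zero_iff 𝔪 z).2 (h z hy)

/-- tensoring a map injective modulo `𝔪` with a module killed by `𝔪` stays injective -/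
lemma lTensor_injective_of_torsion (𝔪 : Ideal A) [𝔪.IsMaximal] (φ : M →ₗ[A] N)
    (h : ∀ z, φ z ∈ (𝔪 • ⊤ : Submodule A N) → z ∈ (𝔪 • ⊤ : Submodule A M))
    (W : Type t) [AddCommGroup W] [Module A W] (hW : Module.IsTorsionBySet A W 𝔪) :
    Function.Injective (φ.lTensor W) := by
  letI : Field (A ⧸ 𝔪) := Ideal.Quotient.field 𝔪
  letI : Module (A ⧸ 𝔪) W := hW.module
  haveI : IsScalarTower A (A ⧸ 𝔪) W := hW.isScalarTower
  have hk := baseChange_injective 𝔪 φ h
  have hW' : Function.Injective ((φ.baseChange (A ⧸ 𝔪)).lTensor W) :=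
    Module.Flat.lTensor_preserves_injective_linearMap _ hk
  let eM := TensorProduct.AlgebraTensorModule.cancelBaseChange A (A ⧸ 𝔪) (A ⧸ 𝔪) W M
  let eN := TensorProduct.AlgebraTensorModule.cancelBaseChange A (A ⧸ 𝔪) (A ⧸ 𝔪) W N
  have hnat : ∀ x, eN ((φ.baseChange (A ⧸ 𝔪)).lTensor W x) = φ.lTensor W (eM x) := by
    intro x
    induction x using TensorProduct.induction_on with
    | zero => simp
    | tmul w y =>
      induction y using TensorProduct.induction_on with
      | zero => simp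
      | tmul a x => simp [eM, eN]
      | add y₁ y₂ h₁ h₂ => rw [tmul_add, map_add, map_add, h₁, h₂, map_add, map_add]
    | add x₁ x₂ h₁ h₂ => rw [map_add, map_add, h₁, h₂, map_add, map_add]
  intro x y hxy
  obtain ⟨x', rfl⟩ := eM.surjective x
  obtain ⟨y', rfl⟩ := eM.surjective y
  rw [← hnat, ← hnat] at hxy
  rw [hW' (eN.injective hxy)]

/-- the inductive step: for `N` flat and `φ` injective modulo the maximal ideal `𝔪`,
`z ∈ I M` and `φ z ∈ 𝔪 I N` give `z ∈ 𝔪 I M` -/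
theorem mem_mul_smul_top (𝔪 : Ideal A) [𝔪.IsMaximal] [Module.Flat A N] (φ : M →ₗ[A] N)
    (h : ∀ z, φ z ∈ (𝔪 • ⊤ : Submodule A N) → z ∈ (𝔪 • ⊤ : Submodule A M))
    (I : Ideal A) (z : M) (hz : z ∈ (I • ⊤ : Submodule A M))
    (hφz : φ z ∈ ((𝔪 * I) • ⊤ : Submodule A N)) : z ∈ ((𝔪 * I) • ⊤ : Submodule A M) := by
  have hle : 𝔪 * I ≤ I := Ideal.mul_le_right
  let q : (A ⧸ (𝔪 * I)) →ₗ[A] (A ⧸ I) :=
    Submodule.mapQ (𝔪 * I) I LinearMap.id (by rw [Submodule.comap_id]; exact hle)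
  have hqmk : ∀ a : A, q (Ideal.Quotient.mk (𝔪 * I) a) = Ideal.Quotient.mk I a := fun a => rfl
  have hqs : Function.Surjective q := by
    intro y
    obtain ⟨a, rfl⟩ := Ideal.Quotient.mk_surjective y
    exact ⟨Ideal.Quotient.mk _ a, hqmk a⟩
  have hex : Function.Exact (LinearMap.ker q).subtype q := LinearMap.exact_subtype_ker_map q
  have hW : Module.IsTorsionBySet A (LinearMap.ker q) 𝔪 := by
    rintro ⟨w, hw⟩ ⟨a, ha⟩
    obtain ⟨b, rfl⟩ := Ideal.Quotient.mk_surjective w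
    rw [LinearMap.mem_ker, hqmk, Ideal.Quotient.eq_zero_iff_mem] at hw
    apply Subtype.ext
    change a • (Ideal.Quotient.mk (𝔪 * I) b) = 0
    rw [← Ideal.Quotient.mk_eq_mk, ← Submodule.Quotient.mk_smul, Ideal.Quotient.mk_eq_mk,
      Ideal.Quotient.eq_zero_iff_mem, smul_eq_mul]
    exact Ideal.mul_mem_mul ha hw
  have h1 : (q.rTensor M) ((1 : A ⧸ (𝔪 * I)) ⊗ₜ[A] z) = 0 := by
    rw [LinearMap.rTensor_tmul]
    have : q 1 = 1 := hqmk 1
    rw [this]
    exact (one_tmul_eq_zero_iff I z).2 hz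
  have hexM := rTensor_exact M hex hqs
  obtain ⟨ζ, hζ⟩ := (hexM _).1 h1
  have h2 : ((LinearMap.ker q).subtype.rTensor N) ((φ.lTensor (LinearMap.ker q)) ζ) = 0 := by
    have : ((LinearMap.ker q).subtype.rTensor N) ((φ.lTensor (LinearMap.ker q)) ζ) =
        (φ.lTensor (A ⧸ (𝔪 * I))) (((LinearMap.ker q).subtype.rTensor M) ζ) := by
      rw [← LinearMap.comp_apply, ← LinearMap.comp_apply, LinearMap.rTensor_comp_lTensor,
        LinearMap.lTensor_comp_rTensor]
    rw [this, hζ, LinearMap.lTensor_tmul]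
    exact (one_tmul_eq_zero_iff _ _).2 hφz
  have h3 : (φ.lTensor (LinearMap.ker q)) ζ = 0 := by
    apply Module.Flat.rTensor_preserves_injective_linearMap (M := N) (LinearMap.ker q).subtype
      (LinearMap.ker q).injective_subtype
    rw [h2, map_zero]
  have h4 : ζ = 0 := by
    apply lTensor_injective_of_torsion 𝔪 φ h (LinearMap.ker q) hW
    rw [h3, map_zero]
  rw [← one_tmul_eq_zero_iff, ← hζ, h4, map_zero]

/-- the kernel of a map injective modulo `𝔪` to a flat module lies in `𝔪ⁿ M` for all `n` -/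
theorem mem_pow_smul_top (𝔪 : Ideal A) [𝔪.IsMaximal] [Module.Flat A N] (φ : M →ₗ[A] N)
    (h : ∀ z, φ z ∈ (𝔪 • ⊤ : Submodule A N) → z ∈ (𝔪 • ⊤ : Submodule A M))
    (z : M) (hz : φ z = 0) (n : ℕ) : z ∈ ((𝔪 ^ n) • ⊤ : Submodule A M) := by
  induction n with
  | zero => rw [pow_zero, Ideal.one_eq_top, Submodule.top_smul]; trivial
  | succ n ih =>
    rw [pow_succ']
    apply mem_mul_smul_top 𝔪 φ h (𝔪 ^ n) z ih
    rw [hz]
    exact zero_mem _

end Alg

section Krull

variable {A : Type u} [CommRing A] {R : Type v} [CommRing R] [Algebra A R]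
  {M : Type w} {N : Type t} [AddCommGroup M] [Module A M] [Module R M] [IsScalarTower A R M]
  [AddCommGroup N] [Module A N] [Module R N] [IsScalarTower A R N]

lemma mem_smul_top_iff (I : Ideal A) (x : M) :
    x ∈ (I • ⊤ : Submodule A M) ↔ x ∈ (I.map (algebraMap A R) • ⊤ : Submodule R M) := by
  have := Ideal.smul_restrictScalars (R := A) (S := R) I (⊤ : Submodule R M)
  rw [Submodule.restrictScalars_top] at this
  rw [← this, Submodule.restrictScalars_mem]

/-- **fibrewise injectivity + Krull**: elements of the kernel are fixed by some `r ∈ 𝔪 R` -/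
theorem exists_smul_eq_self (𝔪 : Ideal A) [𝔪.IsMaximal] [IsNoetherianRing R] [Module.Finite R M]
    [Module.Flat A N] (φ : M →ₗ[R] N)
    (h : ∀ z, φ z ∈ (𝔪.map (algebraMap A R) • ⊤ : Submodule R N) →
      z ∈ (𝔪.map (algebraMap A R) • ⊤ : Submodule R M))
    (z : M) (hz : φ z = 0) : ∃ r ∈ 𝔪.map (algebraMap A R), r • z = z := by
  have hA : ∀ z, (φ.restrictScalars A) z ∈ (𝔪 • ⊤ : Submodule A N) →
      z ∈ (𝔪 • ⊤ : Submodule A M) := by
    intro z hz
    rw [mem_smul_top_iff (R := R)] at hz ⊢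
    exact h z hz
  have hmem : z ∈ (⨅ n : ℕ, (𝔪.map (algebraMap A R)) ^ n • ⊤ : Submodule R M) := by
    rw [Submodule.mem_iInf]
    intro n
    rw [← Ideal.map_pow, ← mem_smul_top_iff]
    exact mem_pow_smul_top 𝔪 (φ.restrictScalars A) hA z hz n
  obtain ⟨r, hr⟩ := (Ideal.mem_iInf_smul_pow_eq_bot_iff (𝔪.map (algebraMap A R)) z).1 hmem
  exact ⟨r.1, r.2, hr⟩

end Krull

end Groth.Agent.Lead.FibLift
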