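import Mathlib
import Groth.Agent.Lead.IdealMulB

/-!
# Krull intersection for `I^n F`: global sections in every `I^n F` vanish near `V(I)`
-/

set_option autoImplicit false
set_option linter.unusedSectionVars false
set_option linter.style.haveILetI false

open CategoryTheory Limits AlgebraicGeometry TopologicalSpace Opposite

universe u

namespace Groth.Agent.Lead.IdealMul

open Groth.Agent.Helper4 Groth.Agent.Lead.Thick Groth.Agent.Helper4.StalkDict

variable {X : Scheme.{u}}

/-- a section killed by `a` vanishes on `D(a)` (germwise) -/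
theorem germ_eq_zero_of_smul_eq_zero (F : X.Modules) {W : X.Opens} (a : Γ(X, W)) (m : Γ(F, W))
    (h : a • m = 0) (y : X) (hyW : y ∈ W) (hy : y ∈ X.basicOpen a) :
    F.presheaf.germ W y hyW m = 0 := by
  have hu : IsUnit (X.presheaf.germ W y hyW a) := (X.mem_basicOpen a y hyW).mp hy
  have h1 : X.presheaf.germ W y hyW a • F.presheaf.germ W y hyW m = 0 := by
    rw [← germ_smul, h, map_zero]
  obtain ⟨v, hv⟩ := hu
  rw [← hv] at h1
  have := congrArg (fun z => (↑v⁻¹ : X.presheaf.stalk y) • z) h1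
  simpa [smul_smul] using this

/-- restriction of a global section to `W` -/
noncomputable abbrev resTop (F : X.Modules) (W : X.Opens) (s : Γ(F, ⊤)) : Γ(F, W) :=
  F.presheaf.map (homOfLE (le_top : W ≤ ⊤)).op s

theorem germ_resTop (F : X.Modules) (W : X.Opens) (s : Γ(F, ⊤)) (y : X) (hy : y ∈ W) :
    F.presheaf.germ W y hy (resTop F W s) = F.presheaf.germ ⊤ y trivial s :=
  QcqsMod.germ_res F le_top y hy s

variable (I : X.IdealSheafData)

theorem resTop_mem_of_lift (F : X.Modules) [F.IsQuasicoherent] (s : Γ(F, ⊤)) (n : ℕ)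
    (t : Γ((Dual3.idealMul (I ^ n)).obj F, ⊤)) (ht : (Dual3.idealMulι (I ^ n) F).app ⊤ t = s)
    {W : X.Opens} (hW : IsAffineOpen W) :
    resTop F W s ∈ I.ideal ⟨W, hW⟩ ^ n • (⊤ : Submodule Γ(X, W) Γ(F, W)) := by
  have h1 : resTop F W s = (Dual3.idealMulι (I ^ n) F).app W
      (((Dual3.idealMul (I ^ n)).obj F).presheaf.map (homOfLE (le_top : W ≤ ⊤)).op t) := by
    rw [StalkExact.app_res, ht]
  rw [h1]
  have := app_mem_secR (Dual3.idealMulι (I ^ n) F) W
    (((Dual3.idealMul (I ^ n)).obj F).presheaf.map (homOfLE (le_top : W ≤ ⊤)).op t)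
  rw [secR_idealMulι (I ^ n) F hW] at this
  exact this

/-- **Krull**: a global section lying in every `I^n F` vanishes on a neighbourhood of `V(I)` -/
theorem exists_nhd_of_forall_lift [IsLocallyNoetherian X] (F : X.Modules) [F.IsQuasicoherent]
    (hF : SheafOfModules.IsFiniteType (R := X.ringCatSheaf) F) (s : Γ(F, ⊤))
    (h : ∀ n : ℕ, ∃ t : Γ((Dual3.idealMul (I ^ n)).obj F, ⊤),
      (Dual3.idealMulι (I ^ n) F).app ⊤ t = s) :
    ∃ V : X.Opens, I.supportSet ⊆ (V : Set X) ∧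
      F.presheaf.map (homOfLE (le_top : V ≤ ⊤)).op s = 0 := by
  have key : ∀ W : X.affineOpens, ∃ r : Γ(X, W.1), r ∈ I.ideal W ∧
      r • resTop F W.1 s = resTop F W.1 s := by
    intro W
    haveI : IsNoetherianRing Γ(X, W.1) := IsLocallyNoetherian.component_noetherian W
    haveI : Module.Finite Γ(X, W.1) Γ(F, W.1) := SecDict.finite_sections W.2 F inferInstance hF
    have hmem : resTop F W.1 s ∈
        (⨅ i : ℕ, I.ideal W ^ i • ⊤ : Submodule Γ(X, W.1) Γ(F, W.1)) := by
      rw [Submodule.mem_iInf]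
      intro n
      obtain ⟨t, ht⟩ := h n
      exact resTop_mem_of_lift I F s n t ht W.2
    obtain ⟨r, hr⟩ := (Ideal.mem_iInf_smul_pow_eq_bot_iff (I.ideal W) _).mp hmem
    exact ⟨r.1, r.2, hr⟩
  choose r hrI hr using key
  refine ⟨⨆ W : X.affineOpens, X.basicOpen (1 - r W), ?_, ?_⟩
  · intro x hx
    obtain ⟨W, hW, hxW⟩ := QcohLimits.exists_affine_nhd x
    have hx' : x ∈ I.support := hx
    rw [Scheme.IdealSheafData.mem_support_iff_of_mem (U := ⟨W, hW⟩) hxW,
      Scheme.mem_zeroLocus_iff] at hx'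
    have h1 : x ∉ X.basicOpen (r ⟨W, hW⟩) := hx' _ (hrI ⟨W, hW⟩)
    rw [X.mem_basicOpen _ x hxW] at h1
    have h2 : IsUnit (X.presheaf.germ W x hxW (1 - r ⟨W, hW⟩)) := by
      rw [map_sub, map_one]
      exact IsLocalRing.isUnit_one_sub_self_of_mem_nonunits _ h1
    have h3 : x ∈ X.basicOpen (1 - r ⟨W, hW⟩) := (X.mem_basicOpen _ x hxW).mpr h2
    exact (le_iSup (fun W : X.affineOpens => X.basicOpen (1 - r W)) ⟨W, hW⟩) h3
  · apply QcqsMod.section_ext
    intro y hy
    rw [map_zero, QcqsMod.germ_res F le_top y hy s]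
    obtain ⟨W, hyW⟩ := Opens.mem_iSup.mp hy
    have hyW' : y ∈ W.1 := X.basicOpen_le _ hyW
    rw [← germ_resTop F W.1 s y hyW']
    apply germ_eq_zero_of_smul_eq_zero F (1 - r W) _ _ y hyW' hyW
    rw [sub_smul, one_smul, hr W, sub_self]

/-- a section of a quasi-coherent module over an affine open which vanishes near `V(I)` lies in
`I^n F` for every `n` -/
theorem mem_pow_smul_of_vanish_nhd (F : X.Modules) [F.IsQuasicoherent] {W : X.Opens}
    (hW : IsAffineOpen W) (m : Γ(F, W))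
    (h : ∀ (x : X) (hx : x ∈ W), x ∈ I.support → F.presheaf.germ W x hx m = 0) (n : ℕ) :
    m ∈ I.ideal ⟨W, hW⟩ ^ n • (⊤ : Submodule Γ(X, W) Γ(F, W)) := by
  set 𝔞 : Ideal Γ(X, W) := Submodule.colon (⊥ : Submodule Γ(X, W) Γ(F, W)) {m} with h𝔞
  have htop : 𝔞 ⊔ I.ideal ⟨W, hW⟩ = ⊤ := by
    by_contra hne
    obtain ⟨𝔪, h𝔪, hle⟩ := Ideal.exists_le_maximal _ hne
    let p : PrimeSpectrum Γ(X, W) := ⟨𝔪, h𝔪.isPrime⟩
    have hxW : hW.fromSpec p ∈ W := by
      have : hW.fromSpec p ∈ Set.range hW.fromSpec := ⟨p, rfl⟩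
      rw [hW.range_fromSpec] at this
      exact this
    have hp : hW.primeIdealOf ⟨hW.fromSpec p, hxW⟩ = p := by
      apply hW.fromSpec.isOpenEmbedding.injective
      exact hW.fromSpec_primeIdealOf ⟨hW.fromSpec p, hxW⟩
    have hsupp : hW.fromSpec p ∈ I.support := by
      rw [Scheme.IdealSheafData.mem_support_iff_of_mem (U := ⟨W, hW⟩) hxW,
        Scheme.mem_zeroLocus_iff]
      intro f hf hfx
      rw [mem_basicOpen_iff_notMem_primeIdealOf hW _ hxW, hp] at hfx
      exact hfx (hle (Ideal.mem_sup_right hf))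
    have h0 := h _ hxW hsupp
    rw [QcqsMod.germ_eq_zero_iff' F hW (QcqsMod.isLocalizingOn_of_isAffineOpen F hW) _ hxW, hp]
      at h0
    exact h0 (le_sup_left.trans hle)
  obtain ⟨b, hb, r, hr, hbr⟩ := Submodule.mem_sup.mp (htop ▸ (Submodule.mem_top : (1 : Γ(X, W)) ∈ ⊤))
  have hbm : b • m = 0 := by
    rw [h𝔞, Submodule.mem_colon_singleton, Submodule.mem_bot] at hb
    exact hb
  have hrm : r • m = m := by
    have : (b + r) • m = m := by rw [hbr, one_smul]
    rwa [add_smul, hbm, zero_add] at this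
  have hpow : ∀ k : ℕ, r ^ k • m = m := by
    intro k
    induction k with
    | zero => rw [pow_zero, one_smul]
    | succ k ih => rw [pow_succ, mul_smul, hrm, ih]
  rw [← hpow n]
  exact Submodule.smul_mem_smul (Ideal.pow_mem_pow hr n) trivial

/-- a global section vanishing near `V(I)` lifts to `I^n F` -/
theorem exists_lift_of_vanish_nhd (F : X.Modules) [F.IsQuasicoherent] (s : Γ(F, ⊤))
    (V : X.Opens) (hV : I.supportSet ⊆ (V : Set X))
    (hs : F.presheaf.map (homOfLE (le_top : V ≤ ⊤)).op s = 0) (n : ℕ) :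
    ∃ t : Γ((Dual3.idealMul (I ^ n)).obj F, ⊤), (Dual3.idealMulι (I ^ n) F).app ⊤ t = s := by
  apply (SubSec.exists_kernel_section_iff (η (I ^ n).subschemeι F) ⊤ s).mpr
  apply QcqsMod.section_ext
  intro y hy
  rw [map_zero]
  obtain ⟨W, hW, hyW⟩ := QcohLimits.exists_affine_nhd y
  have hmem : resTop F W s ∈ I.ideal ⟨W, hW⟩ ^ n • (⊤ : Submodule Γ(X, W) Γ(F, W)) := by
    apply mem_pow_smul_of_vanish_nhd I F hW
    intro x hx hxs
    rw [germ_resTop]
    have hxV : x ∈ V := hV hxs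
    rw [← QcqsMod.germ_res F le_top x hxV s, hs, map_zero]
  have hmem' : resTop F W s ∈ secR (Dual3.idealMulι (I ^ n) F) W := by
    rw [secR_idealMulι (I ^ n) F hW]
    exact hmem
  obtain ⟨t, ht⟩ := (mem_secR _ W _).mp hmem'
  have h0 : (η (I ^ n).subschemeι F).app W (resTop F W s) = 0 := by
    rw [← ht]
    have := congrArg (fun φ => (Scheme.Modules.Hom.app φ W) t)
      (kernel.condition (η (I ^ n).subschemeι F))
    exact this
  rw [← QcqsMod.germ_res _ le_top y hyW, ← StalkExact.app_res, h0, map_zero]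

end Groth.Agent.Lead.IdealMul
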