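import Mathlib
import Groth.Agent.Lead.FibLiftA
import Groth.Agent.Lead.FibLiftB
import Groth.Agent.Lead.FibLiftC
import Groth.Agent.Helper2.KerFPSch
import Groth.Agent.Lead.IdealMulE
import Groth.Agent.Helper4.SecDict
import Groth.Agent.Helper4.QcohEpi
import Groth.Agent.Helper4.AffineDict

/-!
# FibLiftD: monomorphisms along the closed fibre; the closed fibre as a base change;
the lifting theorem for morphisms of finite locally free modules (`S4476`)
-/

set_option autoImplicit false
set_option linter.style.haveILetI false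
universe u
open CategoryTheory CategoryTheory.Limits AlgebraicGeometry TopologicalSpace Opposite TensorProduct

namespace Groth.Agent.Lead.FibLift

open Scheme.Modules Groth.Agent.Helper1.Form Groth.Agent.Helper1.PicLoc Groth.Agent.Helper4
  Groth.Agent.Helper1.QuotPush Groth.Agent.Lead.BCMap

section FibreSquare

variable (A : Type u) [CommRing A] [IsLocalRing A]

/-- the canonical ring map `A → κ(closed point)` -/
noncomputable def toRes : CommRingCat.of A ⟶
    (Spec (CommRingCat.of A)).residueField (IsLocalRing.closedPoint A) :=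
  (stalkClosedPointIso (CommRingCat.of A)).inv ≫
    (Spec (CommRingCat.of A)).residue (IsLocalRing.closedPoint A)

lemma specMap_toRes : Spec.map (toRes A) =
    (Spec (CommRingCat.of A)).fromSpecResidueField (IsLocalRing.closedPoint A) := by
  rw [toRes, Spec.map_comp, Spec_stalkClosedPointIso]
  rfl

lemma toRes_surjective : Function.Surjective (toRes A).hom := by
  have h1 : Function.Surjective (stalkClosedPointIso (CommRingCat.of A)).inv.hom :=
    (ConcreteCategory.bijective_of_isIso (stalkClosedPointIso (CommRingCat.of A)).inv).2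
  have h2 := Scheme.residue_surjective (Spec (CommRingCat.of A)) (IsLocalRing.closedPoint A)
  exact h2.comp h1

lemma ker_toRes : RingHom.ker (toRes A).hom = IsLocalRing.maximalIdeal A := by
  ext a
  have h1 : (toRes A).hom a = IsLocalRing.residue _
      ((stalkClosedPointIso (CommRingCat.of A)).inv.hom a) := rfl
  have h2 : (toRes A).hom a = 0 ↔
      ¬ IsUnit ((stalkClosedPointIso (CommRingCat.of A)).inv.hom a) := by
    rw [h1]
    exact (IsLocalRing.residue_eq_zero_iff _).trans
      ((IsLocalRing.mem_maximalIdeal _).trans mem_nonunits_iff)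
  have hid : (stalkClosedPointIso (CommRingCat.of A)).hom.hom
      ((stalkClosedPointIso (CommRingCat.of A)).inv.hom a) = a := by
    have := congrArg (fun φ => φ.hom a) (stalkClosedPointIso (CommRingCat.of A)).inv_hom_id
    exact this
  have h3 : IsUnit ((stalkClosedPointIso (CommRingCat.of A)).inv.hom a) ↔ IsUnit a := by
    constructor
    · intro h
      have := h.map (stalkClosedPointIso (CommRingCat.of A)).hom.hom
      rwa [hid] at this
    · intro h
      exact h.map _
  rw [RingHom.mem_ker, h2, h3, IsLocalRing.mem_maximalIdeal, mem_nonunits_iff]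

/-- **the closed fibre is the base change to the residue field `A ⧸ 𝔪`** -/
theorem exists_fibre_square (X : Scheme.{u}) (f : X ⟶ Spec (CommRingCat.of A)) :
    ∃ f₀ : f.fiber (IsLocalRing.closedPoint A) ⟶
        Spec (CommRingCat.of (A ⧸ IsLocalRing.maximalIdeal A)),
      IsPullback (f.fiberι (IsLocalRing.closedPoint A)) f₀ f
        (Spec.map (CommRingCat.ofHom (Ideal.Quotient.mk (IsLocalRing.maximalIdeal A)))) := by
  have hker := ker_toRes A
  have H : ∀ a : A, a ∈ IsLocalRing.maximalIdeal A → (toRes A).hom a = 0 := fun a ha => by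
    rw [← hker] at ha
    exact ha
  let l : A ⧸ IsLocalRing.maximalIdeal A →+*
      (Spec (CommRingCat.of A)).residueField (IsLocalRing.closedPoint A) :=
    Ideal.Quotient.lift (IsLocalRing.maximalIdeal A) (toRes A).hom H
  have hbij : Function.Bijective l :=
    ⟨RingHom.lift_injective_of_ker_le_ideal _ H hker.le,
      Ideal.Quotient.lift_surjective_of_surjective _ H (toRes_surjective A)⟩
  haveI : IsIso (CommRingCat.ofHom l) := (ConcreteCategory.isIso_iff_bijective _).mpr hbij
  let e := asIso (Spec.map (CommRingCat.ofHom l))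
  have he : e.hom ≫ Spec.map (CommRingCat.ofHom
      (Ideal.Quotient.mk (IsLocalRing.maximalIdeal A))) =
      (Spec (CommRingCat.of A)).fromSpecResidueField (IsLocalRing.closedPoint A) := by
    rw [← specMap_toRes, asIso_hom, ← Spec.map_comp]
    congr 1
  refine ⟨f.fiberToSpecResidueField _ ≫ e.hom, ?_⟩
  have h0 : IsPullback (f.fiberι (IsLocalRing.closedPoint A))
      (f.fiberToSpecResidueField (IsLocalRing.closedPoint A)) f
      ((Spec (CommRingCat.of A)).fromSpecResidueField (IsLocalRing.closedPoint A)) :=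
    IsPullback.of_hasPullback _ _
  exact IsPullback.of_iso h0 (Iso.refl _) (Iso.refl _) e (Iso.refl _) (by simp) (by simp)
    (by simp) (by simp [he])

end FibreSquare

section Mono

variable (A : Type u) [CommRing A] [IsNoetherianRing A] [IsLocalRing A]
  (X : Scheme.{u}) [X.Over (Spec (CommRingCat.of A))]
  [IsProper (X ↘ Spec (CommRingCat.of A))] [Flat (X ↘ Spec (CommRingCat.of A))]
  {X₀ : Scheme.{u}} {i : X₀ ⟶ X}
  {f₀ : X₀ ⟶ Spec (CommRingCat.of (A ⧸ IsLocalRing.maximalIdeal A))}
  (hsq : IsPullback i f₀ (X ↘ Spec (CommRingCat.of A))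
    (Spec.map (CommRingCat.ofHom (Ideal.Quotient.mk (IsLocalRing.maximalIdeal A)))))

include hsq in
/-- the kernel of the unit `N ⟶ i_* i^* N` over an affine open is `𝔪 N` -/
theorem unitN_app_eq_zero_iff (N : X.Modules) [N.IsQuasicoherent] {U : X.Opens}
    (hU : IsAffineOpen U) (m : Γ(N, U)) :
    (unitN i N).app U m = 0 ↔
      m ∈ ((IsLocalRing.maximalIdeal A).map (ρ (A := A) U)) •
        (⊤ : Submodule Γ(X, U) Γ(N, U)) := by
  haveI : IsClosedImmersion i := isClosedImmersion_of_sq A X hsq
  have hV : IsAffineOpen (i ⁻¹ᵁ U) := hU.preimage i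
  letI := (i.appLE U (i ⁻¹ᵁ U) le_rfl).hom.toAlgebra
  letI : Module Γ(X, U) Γ((Scheme.Modules.pullback i).obj N, i ⁻¹ᵁ U) :=
    Module.compHom _ (i.appLE U (i ⁻¹ᵁ U) le_rfl).hom
  haveI : IsScalarTower Γ(X, U) Γ(X₀, i ⁻¹ᵁ U)
      Γ((Scheme.Modules.pullback i).obj N, i ⁻¹ᵁ U) := IsScalarTower.of_compHom _ _ _
  obtain ⟨r, hr, hb⟩ := exists_isBaseChange_pbSec i N hU hV le_rfl
  have happ : i.appLE U (i ⁻¹ᵁ U) le_rfl = i.app U := (Scheme.Hom.app_eq_appLE i).symm
  have hs : Function.Surjective (algebraMap Γ(X, U) Γ(X₀, i ⁻¹ᵁ U)) := by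
    change Function.Surjective (i.appLE U (i ⁻¹ᵁ U) le_rfl).hom
    rw [happ]
    exact i.app_surjective U hU
  have hker : RingHom.ker (algebraMap Γ(X, U) Γ(X₀, i ⁻¹ᵁ U)) =
      (IsLocalRing.maximalIdeal A).map (ρ (A := A) U) := by
    change RingHom.ker (i.appLE U (i ⁻¹ᵁ U) le_rfl).hom = _
    rw [happ]
    exact ker_app_eq _ hsq hU
  have heq : ∀ m : Γ(N, U), (unitN i N).app U m = r m := fun m => by
    rw [unitN_app, hr]
  rw [heq]
  constructor
  · intro hm
    rw [← hker]
    exact mem_smul_top_of_isBaseChange r hb hs m hm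
  · intro hm
    rw [← hker] at hm
    have h0 : r m = 0 := by
      refine Submodule.smul_induction_on hm ?_ ?_
      · intro c hc n _
        rw [LinearMap.map_smul, ← algebraMap_smul Γ(X₀, i ⁻¹ᵁ U) c (r n),
          (RingHom.mem_ker).1 hc, zero_smul]
      · intro a b ha hb
        rw [map_add, ha, hb, add_zero]
    exact h0

include hsq in
/-- a morphism which is a monomorphism on the closed fibre is injective modulo `𝔪` on affine
opens -/
theorem injMod_app {F G : X.Modules} [F.IsQuasicoherent] [G.IsQuasicoherent] (u : F ⟶ G)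
    (hmono : Mono ((Scheme.Modules.pullback i).map u)) {U : X.Opens} (hU : IsAffineOpen U)
    (z : Γ(F, U))
    (hz : u.app U z ∈ ((IsLocalRing.maximalIdeal A).map (ρ (A := A) U)) •
      (⊤ : Submodule Γ(X, U) Γ(G, U))) :
    z ∈ ((IsLocalRing.maximalIdeal A).map (ρ (A := A) U)) •
      (⊤ : Submodule Γ(X, U) Γ(F, U)) := by
  rw [← unitN_app_eq_zero_iff A X hsq G hU] at hz
  rw [← unitN_app_eq_zero_iff A X hsq F hU]
  have hnat := (Scheme.Modules.pullbackPushforwardAdjunction i).unit.naturality u
  have h1 : (unitN i G).app U (u.app U z) =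
      ((Scheme.Modules.pullback i).map u).app (i ⁻¹ᵁ U) ((unitN i F).app U z) := by
    have := congrArg (fun φ => (Scheme.Modules.Hom.app φ U) z) hnat
    exact this
  have h2 : ((Scheme.Modules.pullback i).map u).app (i ⁻¹ᵁ U) ((unitN i F).app U z) = 0 :=
    h1.symm.trans hz
  apply AffineDict.app_injective_of_mono ((Scheme.Modules.pullback i).map u) (i ⁻¹ᵁ U)
  exact h2.trans (map_zero _).symm

/-- sections of a finite locally free module over an affine open are flat over `A` -/
theorem flat_sections_A (G : X.Modules) (hG : FlatMod.IsFinLocFree G) {U : X.Opens}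
    (hU : IsAffineOpen U) :
    @Module.Flat A Γ(G, U) _ _ (Module.compHom _ (ρ (A := A) U)) := by
  haveI : G.IsQuasicoherent := (Groth.Agent.Lead.PerfLib.isCoh_of_isFinLocFree hG).1
  have e : U ≤ (X ↘ Spec (CommRingCat.of A)) ⁻¹ᵁ ⊤ := fun _ _ => trivial
  have h0 := Groth.Agent.Helper2.KerFPSch.flat_sections (X ↘ Spec (CommRingCat.of A)) G
    (Groth.Agent.Lead.PerfLib.isFlatOver_of_isFinLocFree _ hG)
    (isAffineOpen_top (Spec (CommRingCat.of A))) hU e
  letI alg1 : Algebra A Γ(Spec (CommRingCat.of A), ⊤) :=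
    (Scheme.ΓSpecIso (CommRingCat.of A)).inv.hom.toAlgebra
  letI modB : Module Γ(Spec (CommRingCat.of A), ⊤) Γ(G, U) :=
    Module.compHom _ ((X ↘ Spec (CommRingCat.of A)).appLE ⊤ U e).hom
  letI modA : Module A Γ(G, U) := Module.compHom _ (ρ (A := A) U)
  haveI : IsScalarTower A Γ(Spec (CommRingCat.of A), ⊤) Γ(G, U) :=
    IsScalarTower.of_algebraMap_smul fun a m => rfl
  haveI : Module.Flat A Γ(Spec (CommRingCat.of A), ⊤) := by
    have hbij : Function.Bijective (algebraMap A Γ(Spec (CommRingCat.of A), ⊤)) :=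
      ConcreteCategory.bijective_of_isIso (Scheme.ΓSpecIso (CommRingCat.of A)).inv
    exact Module.Flat.of_linearEquiv
      (LinearEquiv.ofBijective (Algebra.linearMap A Γ(Spec (CommRingCat.of A), ⊤)) hbij).symm
  haveI : Module.Flat Γ(Spec (CommRingCat.of A), ⊤) Γ(G, U) := h0
  exact Module.Flat.trans A Γ(Spec (CommRingCat.of A), ⊤) Γ(G, U)

include hsq in
/-- the kernel of a morphism to a finite locally free module which is a monomorphism on the
closed fibre has zero stalks along the closed fibre -/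
theorem subsingleton_stalk_kernel {F G : X.Modules} (hF : Coh.IsCoh F)
    (hG : FlatMod.IsFinLocFree G) (u : F ⟶ G)
    (hmono : Mono ((Scheme.Modules.pullback i).map u)) (z₀ : X₀) :
    Subsingleton ((kernel u).presheaf.stalk (i z₀)) := by
  haveI : F.IsQuasicoherent := hF.1
  haveI : G.IsQuasicoherent := (Groth.Agent.Lead.PerfLib.isCoh_of_isFinLocFree hG).1
  haveI : IsLocallyNoetherian X :=
    LocallyOfFiniteType.isLocallyNoetherian (X ↘ Spec (CommRingCat.of A))
  suffices H : ∀ a : (kernel u).presheaf.stalk (i z₀), a = 0 from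
    ⟨fun a b => (H a).trans (H b).symm⟩
  intro a
  obtain ⟨W, hxW, t, rfl⟩ := TopCat.Presheaf.exists_germ_eq (kernel u).presheaf (x := i z₀) a
  obtain ⟨_, ⟨U, hU : IsAffineOpen U, rfl⟩, hxU, hUW⟩ :=
    X.isBasis_affineOpens.exists_subset_of_mem_open hxW W.isOpen
  rw [← TopCat.Presheaf.germ_res_apply _ (homOfLE hUW) (i z₀) hxU t]
  set s : Γ(kernel u, U) := (kernel u).presheaf.map (homOfLE hUW).op t with hs
  set z : Γ(F, U) := (kernel.ι u).app U s with hzdef
  have huz : u.app U z = 0 := by
    have := congrArg (fun φ => (Scheme.Modules.Hom.app φ U) s) (kernel.condition u)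
    exact this
  haveI : IsNoetherianRing Γ(X, U) := IsLocallyNoetherian.component_noetherian ⟨U, hU⟩
  haveI : Module.Finite Γ(X, U) Γ(F, U) := SecDict.finite_sections hU F hF.1 hF.2
  letI alg : Algebra A Γ(X, U) := (ρ (A := A) U).toAlgebra
  letI mF : Module A Γ(F, U) := Module.compHom _ (ρ (A := A) U)
  letI mG : Module A Γ(G, U) := Module.compHom _ (ρ (A := A) U)
  haveI : IsScalarTower A Γ(X, U) Γ(F, U) := IsScalarTower.of_compHom _ _ _
  haveI : IsScalarTower A Γ(X, U) Γ(G, U) := IsScalarTower.of_compHom _ _ _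
  haveI : Module.Flat A Γ(G, U) := flat_sections_A A X G hG hU
  obtain ⟨r, hr, hrz⟩ := exists_smul_eq_self (IsLocalRing.maximalIdeal A) (QcohEpi.appLin u U)
    (fun z hz => injMod_app A X hsq u hmono hU z hz) z huz
  have hs0 : (1 - r) • s = 0 := by
    apply AffineDict.app_injective_of_mono (kernel.ι u) U
    rw [map_zero, Scheme.Modules.Hom.app_smul, ← hzdef, sub_smul, one_smul, hrz, sub_self]
  apply Groth.Agent.Lead.IdealMul.germ_eq_zero_of_smul_eq_zero (kernel u) (1 - r) s hs0 (i z₀) hxU
  have hr0 : (i.app U).hom r = 0 := by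
    have : r ∈ RingHom.ker (i.app U).hom := by
      rw [ker_app_eq _ hsq hU]
      exact hr
    exact this
  have hpre : i ⁻¹ᵁ X.basicOpen (1 - r) = X₀.basicOpen ((i.app U).hom (1 - r)) :=
    Scheme.preimage_basicOpen i (1 - r)
  have hmem : z₀ ∈ i ⁻¹ᵁ X.basicOpen (1 - r) := by
    rw [hpre, map_sub, map_one, hr0, sub_zero, Scheme.basicOpen_of_isUnit _ isUnit_one]
    exact hxU
  exact hmem

include hsq in
/-- **a morphism from a coherent module to a finite locally free module which is a monomorphism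
on the closed fibre is a monomorphism** -/
theorem mono_of_mono_pullback {F G : X.Modules} (hF : Coh.IsCoh F)
    (hG : FlatMod.IsFinLocFree G) (u : F ⟶ G)
    (hmono : Mono ((Scheme.Modules.pullback i).map u)) : Mono u := by
  haveI : F.IsQuasicoherent := hF.1
  haveI : G.IsQuasicoherent := (Groth.Agent.Lead.PerfLib.isCoh_of_isFinLocFree hG).1
  haveI : IsLocallyNoetherian X :=
    LocallyOfFiniteType.isLocallyNoetherian (X ↘ Spec (CommRingCat.of A))
  have hK : Coh.IsCoh (kernel u) :=
    Groth.Agent.Lead.PerfLib.isCoh_kernel hF (Groth.Agent.Lead.PerfLib.isCoh_of_isFinLocFree hG) u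
  haveI : (kernel u).IsQuasicoherent := hK.1
  have hz : IsZero (kernel u) := isZero_of_subsingleton_stalk A X hsq (kernel u) hK.2
    (fun z₀ => subsingleton_stalk_kernel A X hsq hF hG u hmono z₀)
  exact Preadditive.mono_of_isZero_kernel u hz

end Mono

section Main

/-- **S4476** -/
theorem main (A : Type u) [CommRing A] [IsNoetherianRing A]
    [IsLocalRing A] (X : Scheme.{u}) [X.Over (Spec (CommRingCat.of A))]
    [IsProper (X ↘ Spec (CommRingCat.of A))] [Flat (X ↘ Spec (CommRingCat.of A))]
    (F G : X.Modules) (hF : FlatMod.IsFinLocFree F) (hG : FlatMod.IsFinLocFree G)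
    [DCoh.HasSheafHom (CohIII.fiberMod (X ↘ Spec (CommRingCat.of A)) F (IsLocalRing.closedPoint A))]
    (h1 : Subsingleton (Coh.HH ((X ↘ Spec (CommRingCat.of A)).fiber (IsLocalRing.closedPoint A))
      ((DCoh.sheafHom (CohIII.fiberMod (X ↘ Spec (CommRingCat.of A)) F
        (IsLocalRing.closedPoint A))).obj
        (CohIII.fiberMod (X ↘ Spec (CommRingCat.of A)) G (IsLocalRing.closedPoint A))) 1))
    (u₀ : CohIII.fiberMod (X ↘ Spec (CommRingCat.of A)) F (IsLocalRing.closedPoint A) ⟶
      CohIII.fiberMod (X ↘ Spec (CommRingCat.of A)) G (IsLocalRing.closedPoint A)) :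
    (∃ u : F ⟶ G,
      (Scheme.Modules.pullback ((X ↘ Spec (CommRingCat.of A)).fiberι
        (IsLocalRing.closedPoint A))).map u = u₀) ∧
    ∀ u : F ⟶ G,
      (Scheme.Modules.pullback ((X ↘ Spec (CommRingCat.of A)).fiberι
        (IsLocalRing.closedPoint A))).map u = u₀ →
        (Mono u₀ → Mono u) ∧ (Epi u₀ → Epi u) := by
  obtain ⟨f₀, hsq⟩ := exists_fibre_square A X (X ↘ Spec (CommRingCat.of A))
  haveI : F.IsQuasicoherent := (Groth.Agent.Lead.PerfLib.isCoh_of_isFinLocFree hF).1
  haveI : G.IsQuasicoherent := (Groth.Agent.Lead.PerfLib.isCoh_of_isFinLocFree hG).1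
  refine ⟨exists_lift A X hsq F G hF hG h1 u₀, ?_⟩
  intro u hu
  constructor
  · intro hm
    exact mono_of_mono_pullback A X hsq (Groth.Agent.Lead.PerfLib.isCoh_of_isFinLocFree hF) hG u
      (by rw [hu]; exact hm)
  · intro he
    exact epi_of_epi_pullback A X hsq (Groth.Agent.Lead.PerfLib.isCoh_of_isFinLocFree hG).2 u
      (by rw [hu]; exact he)

end Main

end Groth.Agent.Lead.FibLift
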