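import Groth.Agent.Helper2.LfpComp
import Mathlib
open CategoryTheory Limits AlgebraicGeometry Topology

namespace Groth.Agent.Lead.FibLocus
universe u

theorem isLocallyConstructible_compl {T : Type*} [TopologicalSpace T] {s : Set T}
    (hs : IsLocallyConstructible s) : IsLocallyConstructible sᶜ := by
  intro x
  obtain ⟨U, hU, hUo, hc⟩ := hs x
  refine ⟨U, hU, hUo, ?_⟩
  rw [Set.preimage_compl]
  exact hc.compl

variable {X Y S : Scheme.{u}} (f : X ⟶ Y) (g : Y ⟶ S)

/-- the map induced by `f` between the fibres of `f ≫ g` and `g` over `s` -/
noncomputable abbrev fibMap (s : S) :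
    pullback (f ≫ g) (S.fromSpecResidueField s) ⟶ pullback g (S.fromSpecResidueField s) :=
  pullback.lift (pullback.fst (f ≫ g) (S.fromSpecResidueField s) ≫ f)
    (pullback.snd (f ≫ g) (S.fromSpecResidueField s))
    ((Category.assoc _ _ _).trans pullback.condition)

set_option backward.isDefEq.respectTransparency false in
theorem isPullback_fibMap (s : S) :
    IsPullback (pullback.fst (f ≫ g) (S.fromSpecResidueField s)) (fibMap f g s) f
      (pullback.fst g (S.fromSpecResidueField s)) := by
  refine (IsPullback.of_right ?_ ?_ (IsPullback.of_hasPullback g (S.fromSpecResidueField s)).flip).flip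
  · have e : fibMap f g s ≫ pullback.snd g (S.fromSpecResidueField s) =
        pullback.snd (f ≫ g) (S.fromSpecResidueField s) := pullback.lift_snd _ _ _
    rw [e]
    exact (IsPullback.of_hasPullback (f ≫ g) (S.fromSpecResidueField s)).flip
  · exact pullback.lift_fst _ _ _

set_option backward.isDefEq.respectTransparency false in
/-- the fibre map over `s` is surjective iff every point of `Y` over `s` is in the image of `f` -/
theorem surjective_fibMap_iff (s : S) :
    Function.Surjective (fibMap f g s).base ↔ ∀ y : Y, g.base y = s → y ∈ Set.range f.base := by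
  constructor
  · intro h y hy
    obtain ⟨y', hy'1, -⟩ := Scheme.Pullback.exists_preimage_pullback (f := g)
      (g := S.fromSpecResidueField s) y (IsLocalRing.closedPoint _)
      (by rw [hy, Scheme.fromSpecResidueField_apply])
    obtain ⟨x', hx'⟩ := h y'
    refine ⟨(pullback.fst (f ≫ g) (S.fromSpecResidueField s)).base x', ?_⟩
    rw [← Scheme.Hom.comp_apply, (isPullback_fibMap f g s).w, Scheme.Hom.comp_apply, hx', hy'1]
  · intro h y'
    have hy : g.base ((pullback.fst g (S.fromSpecResidueField s)).base y') = s := by
      rw [← Scheme.Hom.comp_apply, pullback.condition, Scheme.Hom.comp_apply,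
        Scheme.fromSpecResidueField_apply]
    obtain ⟨x, hx⟩ := h _ hy
    obtain ⟨x', -, hx'⟩ := Scheme.exists_preimage_of_isPullback (isPullback_fibMap f g s) x y' hx
    exact ⟨x', hx'⟩

theorem setOf_surjective_fibMap_eq :
    {s : S | Function.Surjective (fibMap f g s).base} = (g.base '' (Set.range f.base)ᶜ)ᶜ := by
  ext s
  rw [Set.mem_setOf_eq, surjective_fibMap_iff, Set.mem_compl_iff, Set.mem_image]
  constructor
  · rintro h ⟨y, hy1, hy2⟩
    exact hy1 (h y hy2)
  · intro h y hy
    by_contra hy'
    exact h ⟨y, hy', hy⟩

theorem isLocallyConstructible_setOf_surjective_fibMap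
    [LocallyOfFinitePresentation g] [QuasiCompact g] [QuasiSeparated g]
    [LocallyOfFinitePresentation (f ≫ g)] [QuasiCompact (f ≫ g)] :
    IsLocallyConstructible {s : S | Function.Surjective (fibMap f g s).base} := by
  rw [setOf_surjective_fibMap_eq]
  have hfp : LocallyOfFinitePresentation f :=
    Groth.Agent.Helper2.LfpComp.locallyOfFinitePresentation_of_comp f g inferInstance inferInstance
  have hfc : QuasiCompact f := QuasiCompact.of_comp f g
  have h1 : IsLocallyConstructible (Set.range f.base) := by
    rw [← Set.image_univ]
    exact f.isLocallyConstructible_image IsLocallyConstructible.univ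
  exact isLocallyConstructible_compl (g.isLocallyConstructible_image (isLocallyConstructible_compl h1))

end Groth.Agent.Lead.FibLocus
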