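import Mathlib
import Groth.Agent.Lead.FibSepA
import Groth.Agent.Helper4.SecDict

set_option autoImplicit false
universe u
open TensorProduct CategoryTheory AlgebraicGeometry Limits Opposite

namespace Groth.Agent.Lead.FibSepB

open Scheme.Modules Groth.Agent.Helper8.TildeBC Groth.Agent.Lead.ModDict Groth.Agent.Helper4
open FibSepA SubalgSepB

set_option backward.isDefEq.respectTransparency false in
/-- Property (H) for the sections of `X ×_S S'` over a box, from the fibrewise hypothesis. -/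
theorem HRmod_box {X S : Scheme.{u}} [IsLocallyNoetherian X] (p : X ⟶ S) (F : X.Modules)
    (hF : Coh.IsCoh F) {ι : Type u} (G : ι → X.Modules) [∀ i, (G i).IsQuasicoherent]
    (hG : ∀ i, FlatMod.IsFlatOver p (G i)) (u : ∀ i, F ⟶ G i)
    (hfib : ∀ s : S, ∀ (V : (pullback p (S.fromSpecResidueField s)).Opens)
      (t : ↑(((Scheme.Modules.pullback (pullback.fst p (S.fromSpecResidueField s))).obj
        F).presheaf.obj (op V))),
      (∀ i, (Scheme.Modules.Hom.mapPresheaf ((Scheme.Modules.pullback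
        (pullback.fst p (S.fromSpecResidueField s))).map (u i))).app (op V) t = 0) → t = 0)
    {S' : Scheme.{u}} (g : S' ⟶ S)
    {S₀ : S.Opens} (hS₀ : IsAffineOpen S₀) {S'₀ : S'.Opens} (hS'₀ : IsAffineOpen S'₀)
    (hS' : S'₀ ≤ g ⁻¹ᵁ S₀) {U : X.Opens} (hU : IsAffineOpen U) (hUS : U ≤ p ⁻¹ᵁ S₀) :
    letI : Algebra Γ(X, U) Γ(pullback p g,
        pullback.fst p g ⁻¹ᵁ U ⊓ pullback.snd p g ⁻¹ᵁ S'₀) :=
      ((pullback.fst p g).appLE U _ inf_le_left).hom.toAlgebra
    FieldSepD.HRmod Γ(X, U) (fun i => ((secF hU).map (u i)).hom)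
      Γ(pullback p g, pullback.fst p g ⁻¹ᵁ U ⊓ pullback.snd p g ⁻¹ᵁ S'₀) := by
  haveI : F.IsQuasicoherent := hF.1
  letI : Algebra Γ(X, U) Γ(pullback p g,
      pullback.fst p g ⁻¹ᵁ U ⊓ pullback.snd p g ⁻¹ᵁ S'₀) :=
    ((pullback.fst p g).appLE U _ inf_le_left).hom.toAlgebra
  letI : Algebra Γ(S, S₀) Γ(X, U) := (p.appLE S₀ U hUS).hom.toAlgebra
  letI : Algebra Γ(S, S₀) Γ(S', S'₀) := (g.appLE S₀ S'₀ hS').hom.toAlgebra
  letI : ∀ i, Module Γ(S, S₀) ((secF hU).obj (G i)) := fun i =>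
    Module.compHom _ (algebraMap Γ(S, S₀) Γ(X, U))
  haveI : ∀ i, IsScalarTower Γ(S, S₀) Γ(X, U) ((secF hU).obj (G i)) := fun i =>
    IsScalarTower.of_algebraMap_smul fun r m => rfl
  haveI : ∀ i, Module.Flat Γ(S, S₀) ((secF hU).obj (G i)) := fun i =>
    flat_secF_gen p (G i) (hG i) hS₀ hU hUS
  haveI : IsNoetherianRing Γ(X, U) := IsLocallyNoetherian.component_noetherian ⟨U, hU⟩
  haveI h1 : Module.Finite Γ(X, U) Γ(F, U) := SecDict.finite_sections hU F hF.1 hF.2
  haveI h2 : Module.Finite Γ(X, U) ((secF hU).obj F) :=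
    Module.Finite.equiv (SecDict.sectionsEquiv hU F)
  obtain ⟨eq⟩ := exists_equiv_gen p g hS₀ hS'₀ hS' hU hUS
  refine FieldSepD.HRmod_of_equiv (fun i => ((secF hU).map (u i)).hom) eq ?_
  exact AdicSepC.alg_main (fun i => ((secF hU).map (u i)).hom)
    (fun K _ _ => FH_geom p F G u hfib hS₀ hU hUS K) Γ(S', S'₀)

set_option backward.isDefEq.respectTransparency false in
/-- S4910, the nontrivial direction. -/
theorem main {X S : Scheme.{u}} [IsLocallyNoetherian X] (p : X ⟶ S) (F : X.Modules)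
    (hF : Coh.IsCoh F) {ι : Type u} (G : ι → X.Modules) [∀ i, Coh.IsQCoh (G i)]
    (hG : ∀ i, FlatMod.IsFlatOver p (G i)) (u : ∀ i, F ⟶ G i)
    (hfib : ∀ s : S, ∀ (V : (pullback p (S.fromSpecResidueField s)).Opens)
      (t : ↑(((Scheme.Modules.pullback (pullback.fst p (S.fromSpecResidueField s))).obj
        F).presheaf.obj (op V))),
      (∀ i, (Scheme.Modules.Hom.mapPresheaf ((Scheme.Modules.pullback
        (pullback.fst p (S.fromSpecResidueField s))).map (u i))).app (op V) t = 0) → t = 0)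
    (S' : Scheme.{u}) (g : S' ⟶ S) :
    ∀ (V : (pullback p g).Opens)
      (t : ↑(((Scheme.Modules.pullback (pullback.fst p g)).obj F).presheaf.obj (op V))),
      (∀ i, (Scheme.Modules.Hom.mapPresheaf ((Scheme.Modules.pullback
        (pullback.fst p g)).map (u i))).app (op V) t = 0) → t = 0 := by
  haveI : F.IsQuasicoherent := hF.1
  haveI hGq : ∀ i, (G i).IsQuasicoherent := fun i => ‹∀ i, Coh.IsQCoh (G i)› i
  intro V t ht
  apply DerPbA.section_eq_zero_of_locally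
  intro x' hx'
  obtain ⟨_, ⟨S₀, hS₀, rfl⟩, hsS₀, -⟩ := S.isBasis_affineOpens.exists_subset_of_mem_open
    (Set.mem_univ (g (pullback.snd p g x'))) isOpen_univ
  obtain ⟨_, ⟨S'₀, hS'₀, rfl⟩, hs'S'₀, hS'le⟩ :=
    S'.isBasis_affineOpens.exists_subset_of_mem_open
      (show pullback.snd p g x' ∈ ((g ⁻¹ᵁ S₀ : S'.Opens) : Set S') from hsS₀) (g ⁻¹ᵁ S₀).isOpen
  have hS' : S'₀ ≤ g ⁻¹ᵁ S₀ := hS'le
  have hxp : pullback.fst p g x' ∈ ((p ⁻¹ᵁ S₀ : X.Opens) : Set X) := by
    change p (pullback.fst p g x') ∈ S₀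
    have : p (pullback.fst p g x') = g (pullback.snd p g x') := by
      rw [← Scheme.Hom.comp_apply, ← Scheme.Hom.comp_apply, pullback.condition]
    rw [this]
    exact hsS₀
  obtain ⟨_, ⟨U, hU, rfl⟩, hxU, hUle⟩ := X.isBasis_affineOpens.exists_subset_of_mem_open
    hxp (p ⁻¹ᵁ S₀).isOpen
  have hUS : U ≤ p ⁻¹ᵁ S₀ := hUle
  have Hp := IsPullback.of_hasPullback p g
  have hV'' : IsAffineOpen (pullback.fst p g ⁻¹ᵁ U ⊓ pullback.snd p g ⁻¹ᵁ S'₀) :=
    FieldSepB.isAffineOpen_inf Hp hS' hUS hS₀ hS'₀ hU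
  obtain ⟨c, hcV, hxc⟩ := hV''.exists_basicOpen_le (V := V) ⟨x', hx'⟩ ⟨hxU, hs'S'₀⟩
  have hV' : IsAffineOpen ((pullback p g).basicOpen c) := hV''.basicOpen c
  have hV'V'' : (pullback p g).basicOpen c ≤
      pullback.fst p g ⁻¹ᵁ U ⊓ pullback.snd p g ⁻¹ᵁ S'₀ :=
    (pullback p g).basicOpen_le c
  have e : (pullback p g).basicOpen c ≤ pullback.fst p g ⁻¹ᵁ U :=
    hV'V''.trans inf_le_left
  have hW : hV'.fromSpec ''ᵁ ⊤ = (pullback p g).basicOpen c :=
    StalkDict.image_top hV'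
  have hWV : hV'.fromSpec ''ᵁ ⊤ ≤ V := hW.le.trans hcV
  refine ⟨hV'.fromSpec ''ᵁ ⊤, hWV, hW.symm ▸ hxc, ?_⟩
  obtain ⟨τ, hτ⟩ : ∃ τ : (secF hV').obj
      ((Scheme.Modules.pullback (pullback.fst p g)).obj F),
    τ = ((Scheme.Modules.pullback (pullback.fst p g)).obj F).presheaf.map
      (homOfLE hWV).op t := ⟨_, rfl⟩
  suffices hτ0 : τ = 0 by
    rw [hτ] at hτ0
    exact hτ0
  have hτi : ∀ i, ((secF hV').map
      ((Scheme.Modules.pullback (pullback.fst p g)).map (u i))).hom τ = 0 := by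
    intro i
    have hnat := congrArg (fun ψ => ψ.hom t)
      ((Scheme.Modules.Hom.mapPresheaf
        ((Scheme.Modules.pullback (pullback.fst p g)).map (u i))).naturality
          (homOfLE hWV).op)
    change (Scheme.Modules.Hom.mapPresheaf
      ((Scheme.Modules.pullback (pullback.fst p g)).map (u i))).app
      (op (hV'.fromSpec ''ᵁ ⊤)) τ = 0
    rw [hτ]
    refine Eq.trans hnat ?_
    change ((Scheme.Modules.pullback (pullback.fst p g)).obj (G i)).presheaf.map
      (homOfLE hWV).op ((Scheme.Modules.Hom.mapPresheaf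
        ((Scheme.Modules.pullback (pullback.fst p g)).map (u i))).app (op V) t) = 0
    rw [ht i, map_zero]
  letI : Algebra Γ(X, U) Γ(pullback p g,
      pullback.fst p g ⁻¹ᵁ U ⊓ pullback.snd p g ⁻¹ᵁ S'₀) :=
    ((pullback.fst p g).appLE U _ inf_le_left).hom.toAlgebra
  haveI := hV''.isLocalization_basicOpen c
  have hHR := HRmod_box p F hF G hG u hfib g hS₀ hS'₀ hS' hU hUS
  have hσ := FieldSepE.sep_extendScalars_loc c ((pullback.fst p g).appLE U _ e).hom
    (congr($(Scheme.Hom.appLE_map (pullback.fst p g) (inf_le_left :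
      pullback.fst p g ⁻¹ᵁ U ⊓ pullback.snd p g ⁻¹ᵁ S'₀ ≤ _)
      (homOfLE hV'V'').op).hom).symm)
    (fun i => (secF hU).map (u i)) hHR
    ((secFPullbackIso (pullback.fst p g) hU hV' e F).hom.hom τ) (by
      intro i
      have hn := ArtSepB.secFPullbackIso_naturality (pullback.fst p g) hU hV' e (u i)
      have hn' := congrArg (fun ψ => ψ.hom τ) hn
      simp only [ModuleCat.hom_comp, LinearMap.comp_apply] at hn'
      rw [← hn', hτi i, map_zero])
  have hinj : Function.Injective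
      (secFPullbackIso (pullback.fst p g) hU hV' e F).hom.hom :=
    ((ModuleCat.mono_iff_injective _).mp inferInstance)
  exact hinj (hσ.trans (map_zero _).symm)

end Groth.Agent.Lead.FibSepB
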