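import Mathlib
import Groth.Agent.Lead.NilSepA
import Groth.Agent.Lead.SubalgSepB

set_option autoImplicit false
universe u
open TensorProduct CategoryTheory AlgebraicGeometry Limits Opposite

namespace Groth.Agent.Lead.NilSepB

open Scheme.Modules Groth.Agent.Helper8.TildeBC Groth.Agent.Lead.ModDict Groth.Agent.Helper4

section alg
variable {A C : Type u} [CommRing A] [CommRing C] [Algebra A C]

theorem eB_nat (B : Type u) [CommRing B] [Algebra A B] {Q₁ Q₂ : Type u} [AddCommGroup Q₁]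
    [Module C Q₁] [Module A Q₁] [IsScalarTower A C Q₁] [AddCommGroup Q₂]
    [Module C Q₂] [Module A Q₂] [IsScalarTower A C Q₂] (v : Q₁ →ₗ[C] Q₂)
    (x : (C ⊗[A] B) ⊗[C] Q₁) :
    SubalgSepA.eB (A := A) (C := C) B Q₂ (v.lTensor (C ⊗[A] B) x) =
      (v.restrictScalars A).rTensor B (SubalgSepA.eB (A := A) (C := C) B Q₁ x) := by
  induction x using TensorProduct.induction_on with
  | zero => simp
  | tmul r q =>
    induction r using TensorProduct.induction_on with
    | zero => simp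
    | tmul c b => simp [SubalgSepA.eB]
    | add x y hx hy => simp only [TensorProduct.add_tmul, map_add, hx, hy]
  | add x y hx hy => simp only [map_add, hx, hy]

theorem comm_nat (B : Type u) [CommRing B] [Algebra A B] {Q₁ Q₂ : Type u} [AddCommGroup Q₁]
    [Module A Q₁] [AddCommGroup Q₂] [Module A Q₂] (v : Q₁ →ₗ[A] Q₂) (τ : B ⊗[A] Q₁) :
    v.rTensor B (TensorProduct.comm A B Q₁ τ) = TensorProduct.comm A B Q₂ (v.lTensor B τ) := by
  induction τ using TensorProduct.induction_on with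
  | zero => simp
  | tmul b m => simp
  | add x y hx hy => simp only [map_add, hx, hy]

/-- Joint injectivity over `C ⊗[A] B` gives joint injectivity of the `A`-linear base change
to `B`. -/
theorem inj_of_HRmod (B : Type u) [CommRing B] [Algebra A B] {M : Type u} [AddCommGroup M]
    [Module C M] [Module A M] [IsScalarTower A C M] {ι : Type*} {N : ι → Type u}
    [∀ i, AddCommGroup (N i)] [∀ i, Module C (N i)] [∀ i, Module A (N i)]
    [∀ i, IsScalarTower A C (N i)] (w : ∀ i, M →ₗ[C] N i)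
    (h : FieldSepD.HRmod C w (C ⊗[A] B)) (τ : B ⊗[A] M)
    (hτ : ∀ i, ((w i).restrictScalars A).lTensor B τ = 0) : τ = 0 := by
  obtain ⟨n, hn⟩ := h 1 ((SubalgSepA.eB (A := A) (C := C) B M).symm (TensorProduct.comm A B M τ))
    (fun i => by
      refine ⟨0, ?_⟩
      rw [pow_zero, one_smul]
      apply (SubalgSepA.eB (A := A) (C := C) B (N i)).injective
      rw [eB_nat, LinearEquiv.apply_symm_apply, map_zero]
      rw [comm_nat, hτ i, map_zero])
  rw [one_pow, one_smul] at hn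
  have h1 := congrArg (SubalgSepA.eB (A := A) (C := C) B M) hn
  rw [LinearEquiv.apply_symm_apply, map_zero] at h1
  exact (TensorProduct.comm A B M).injective (h1.trans (map_zero _).symm)

end alg

open SubalgSepB in
set_option backward.isDefEq.respectTransparency false in
/-- S5910 -/
theorem main {X : Scheme.{u}} (A : CommRingCat.{u}) (p : X ⟶ Spec A)
    (J : Ideal ↑A) (hJ : IsNilpotent J)
    (hfree : ∀ k : ℕ, Module.Free (↑A ⧸ J) ((↑A ⧸ J) ⊗[↑A] ↥(J ^ k)))
    (F : X.Modules) [Coh.IsQCoh F] {ι : Type u} (G : ι → X.Modules) [∀ i, Coh.IsQCoh (G i)]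
    (hG : ∀ i, FlatMod.IsFlatOver p (G i)) (u : ∀ i, F ⟶ G i)
    (h0 : ∀ (V : (pullback p (Spec.map (CommRingCat.ofHom (Ideal.Quotient.mk J)))).Opens)
      (t : ↑(((Scheme.Modules.pullback (pullback.fst p (Spec.map (CommRingCat.ofHom
        (Ideal.Quotient.mk J))))).obj F).presheaf.obj (op V))),
      (∀ i, (Scheme.Modules.Hom.mapPresheaf ((Scheme.Modules.pullback (pullback.fst p
        (Spec.map (CommRingCat.ofHom (Ideal.Quotient.mk J))))).map (u i))).app (op V) t = 0) →
        t = 0) :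
    ∀ (V : X.Opens) (t : ↑(F.presheaf.obj (op V))),
      (∀ i, (Scheme.Modules.Hom.mapPresheaf (u i)).app (op V) t = 0) → t = 0 := by
  haveI : F.IsQuasicoherent := ‹Coh.IsQCoh F›
  haveI hGq : ∀ i, (G i).IsQuasicoherent := fun i => ‹∀ i, Coh.IsQCoh (G i)› i
  intro V t ht
  apply DerPbA.section_eq_zero_of_locally
  intro x hx
  obtain ⟨_, ⟨U, hU, rfl⟩, hxU, hUV⟩ := X.isBasis_affineOpens.exists_subset_of_mem_open
    hx V.2
  have hW : hU.fromSpec ''ᵁ ⊤ = U := StalkDict.image_top hU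
  have hWV : hU.fromSpec ''ᵁ ⊤ ≤ V := hW.le.trans hUV
  refine ⟨hU.fromSpec ''ᵁ ⊤, hWV, hW.symm ▸ hxU, ?_⟩
  obtain ⟨τ, hτ⟩ : ∃ τ : (secF hU).obj F, τ = F.presheaf.map (homOfLE hWV).op t := ⟨_, rfl⟩
  suffices hτ0 : τ = 0 by
    rw [hτ] at hτ0
    exact hτ0
  have hτi : ∀ i, ((secF hU).map (u i)).hom τ = 0 := by
    intro i
    have hnat := congrArg (fun ψ => ψ.hom t)
      ((Scheme.Modules.Hom.mapPresheaf (u i)).naturality (homOfLE hWV).op)
    change (Scheme.Modules.Hom.mapPresheaf (u i)).app (op (hU.fromSpec ''ᵁ ⊤)) τ = 0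
    rw [hτ]
    refine Eq.trans hnat ?_
    change (G i).presheaf.map (homOfLE hWV).op
      ((Scheme.Modules.Hom.mapPresheaf (u i)).app (op V) t) = 0
    rw [ht i, map_zero]
  -- algebraic set-up
  letI := algA p U
  letI : Module A ((secF hU).obj F) := Module.compHom _ (algebraMap A Γ(X, U))
  haveI : IsScalarTower A Γ(X, U) ((secF hU).obj F) :=
    IsScalarTower.of_algebraMap_smul fun r m => rfl
  letI : ∀ i, Module A ((secF hU).obj (G i)) := fun i =>
    Module.compHom _ (algebraMap A Γ(X, U))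
  haveI : ∀ i, IsScalarTower A Γ(X, U) ((secF hU).obj (G i)) := fun i =>
    IsScalarTower.of_algebraMap_smul fun r m => rfl
  haveI : ∀ i, Module.Flat A ((secF hU).obj (G i)) := fun i => flat_secF p (G i) (hG i) hU
  -- the hypothesis on the closed subscheme
  have Hp := IsPullback.of_hasPullback p (Spec.map (CommRingCat.ofHom (algebraMap A (A ⧸ J))))
  have hTtopB : (⊤ : (Spec (CommRingCat.of (A ⧸ J))).Opens) ≤
      (Spec.map (CommRingCat.ofHom (algebraMap A (A ⧸ J)))) ⁻¹ᵁ ⊤ := le_top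
  have hUtop : U ≤ p ⁻¹ᵁ ⊤ := le_top
  have hV''B : IsAffineOpen
      (pullback.fst p (Spec.map (CommRingCat.ofHom (algebraMap A (A ⧸ J)))) ⁻¹ᵁ U ⊓
        pullback.snd p (Spec.map (CommRingCat.ofHom (algebraMap A (A ⧸ J)))) ⁻¹ᵁ ⊤) :=
    FieldSepB.isAffineOpen_inf Hp hTtopB hUtop (isAffineOpen_top _) (isAffineOpen_top _) hU
  letI : Algebra Γ(X, U) Γ(pullback p (Spec.map (CommRingCat.ofHom (algebraMap A (A ⧸ J)))),
      pullback.fst p (Spec.map (CommRingCat.ofHom (algebraMap A (A ⧸ J)))) ⁻¹ᵁ U ⊓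
        pullback.snd p (Spec.map (CommRingCat.ofHom (algebraMap A (A ⧸ J)))) ⁻¹ᵁ ⊤) :=
    ((pullback.fst p (Spec.map (CommRingCat.ofHom (algebraMap A (A ⧸ J))))).appLE U _
      inf_le_left).hom.toAlgebra
  have h1 := HRmod_of_sep
    (pullback.fst p (Spec.map (CommRingCat.ofHom (algebraMap A (A ⧸ J))))) F G u
    h0 hU hV''B inf_le_left
  obtain ⟨eqB⟩ := exists_equiv_affine (A := A) (A ⧸ J) p hU
  have h2 := FieldSepD.HRmod_of_equiv (fun i => ((secF hU).map (u i)).hom) eqB.symm h1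
  exact NilSepA.nil_core J hJ hfree
    (fun i => ((secF hU).map (u i)).hom.restrictScalars A)
    (fun σ hσ => inj_of_HRmod (A := A) (C := Γ(X, U)) (A ⧸ J)
      (fun i => ((secF hU).map (u i)).hom) h2 σ hσ) τ hτi

end Groth.Agent.Lead.NilSepB
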