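import Mathlib
import Groth.Agent.Lead.FibSepC
import Groth.Agent.Lead.NilSepB

set_option autoImplicit false
universe u
open TensorProduct CategoryTheory AlgebraicGeometry Limits Opposite

namespace Groth.Agent.Lead.FibSepD

open FieldSepB FibSepA SubalgSepB FibSepC

set_option backward.isDefEq.respectTransparency false in
/-- S6063 -/
theorem main {X : Scheme.{u}} (A : CommRingCat.{u}) (p : X ⟶ Spec A)
    (J : Ideal ↑A) (hJ : IsNilpotent J)
    (hfree : ∀ k : ℕ, Module.Free (↑A ⧸ J) ((↑A ⧸ J) ⊗[↑A] ↥(J ^ k)))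
    {ι : Type u} (Z : ι → Scheme.{u}) (v : ∀ i, Z i ⟶ X) [∀ i, Flat (v i ≫ p)]
    (h0 : ∀ (V : (pullback p (Spec.map (CommRingCat.ofHom (Ideal.Quotient.mk J)))).Opens)
      (t : Γ(pullback p (Spec.map (CommRingCat.ofHom (Ideal.Quotient.mk J))), V)),
      (∀ i, (pullback.map (v i ≫ p) (Spec.map (CommRingCat.ofHom (Ideal.Quotient.mk J))) p
        (Spec.map (CommRingCat.ofHom (Ideal.Quotient.mk J))) (v i) (𝟙 _) (𝟙 _)
        (Category.comp_id _) ((Category.comp_id _).trans (Category.id_comp _).symm)).app V t = 0) →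
        t = 0) :
    ∀ (V : X.Opens) (t : Γ(X, V)), (∀ i, (v i).app V t = 0) → t = 0 := by
  intro V t ht
  refine X.IsSheaf.section_ext fun x hx => ?_
  obtain ⟨_, ⟨U, hU, rfl⟩, hxU, hUV⟩ := X.isBasis_affineOpens.exists_subset_of_mem_open hx V.2
  have hUV' : U ≤ V := hUV
  refine ⟨U, hUV', hxU, ?_⟩
  rw [map_zero]
  obtain ⟨τ, hτ⟩ : ∃ τ : Γ(X, U), τ = X.presheaf.map (homOfLE hUV').op t := ⟨_, rfl⟩
  suffices hτ0 : τ = 0 by
    rw [hτ] at hτ0
    exact hτ0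
  have hτj : ∀ j : Jidx v U, (v j.1).appLE U j.2.1 j.2.2.2 τ = 0 := by
    intro j
    rw [hτ, ← CommRingCat.comp_apply, Scheme.Hom.map_appLE]
    unfold Scheme.Hom.appLE
    rw [CommRingCat.comp_apply, ht, map_zero]
  -- algebraic set-up
  letI := algN v U
  letI := algA p U
  have hjtop : ∀ j : Jidx v U, j.2.1 ≤ (v j.1 ≫ p) ⁻¹ᵁ ⊤ := fun j => le_top
  letI algAN : ∀ j : Jidx v U, Algebra A (Nfam v U j) := fun j =>
    ((Scheme.ΓSpecIso A).inv ≫ (v j.1 ≫ p).appLE ⊤ j.2.1 (hjtop j)).hom.toAlgebra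
  haveI : ∀ j : Jidx v U, IsScalarTower A Γ(X, U) (Nfam v U j) := fun j =>
    .of_algebraMap_eq' (by
      change ((Scheme.ΓSpecIso A).inv ≫ (v j.1 ≫ p).appLE ⊤ j.2.1 (hjtop j)).hom =
        ((v j.1).appLE U j.2.1 j.2.2.2).hom.comp
          ((Scheme.ΓSpecIso A).inv ≫ p.appLE ⊤ U le_top).hom
      rw [← CommRingCat.hom_comp, Category.assoc, Scheme.Hom.appLE_comp_appLE])
  haveI : ∀ j : Jidx v U, Module.Flat A (Nfam v U j) := fun j => by
    have h1 : ((v j.1 ≫ p).appLE ⊤ j.2.1 (hjtop j)).hom.Flat :=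
      (v j.1 ≫ p).flat_appLE (isAffineOpen_top _) j.2.2.1 (hjtop j)
    have h2 : ((Scheme.ΓSpecIso A).inv).hom.Flat :=
      RingHom.Flat.of_bijective (ConcreteCategory.bijective_of_isIso (Scheme.ΓSpecIso A).inv)
    exact (RingHom.Flat.comp h2 h1 :)
  -- the hypothesis on the closed subscheme
  have Hp := IsPullback.of_hasPullback p (Spec.map (CommRingCat.ofHom (algebraMap A (A ⧸ J))))
  have hTtopB : (⊤ : (Spec (CommRingCat.of (A ⧸ J))).Opens) ≤
      (Spec.map (CommRingCat.ofHom (algebraMap A (A ⧸ J)))) ⁻¹ᵁ ⊤ := le_top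
  have hUtop : U ≤ p ⁻¹ᵁ ⊤ := le_top
  have hV''B : IsAffineOpen
      (pullback.fst p (Spec.map (CommRingCat.ofHom (algebraMap A (A ⧸ J)))) ⁻¹ᵁ U ⊓
        pullback.snd p (Spec.map (CommRingCat.ofHom (algebraMap A (A ⧸ J)))) ⁻¹ᵁ ⊤) :=
    FieldSepB.isAffineOpen_inf Hp hTtopB hUtop (isAffineOpen_top _) (isAffineOpen_top _) hU
  letI : Algebra Γ(X, U) Γ(pullback p (Spec.map (CommRingCat.ofHom (algebraMap A (A ⧸ J)))),
      pullback.fst p (Spec.map (CommRingCat.ofHom (algebraMap A (A ⧸ J)))) ⁻¹ᵁ U ⊓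
        pullback.snd p (Spec.map (CommRingCat.ofHom (algebraMap A (A ⧸ J)))) ⁻¹ᵁ ⊤) :=
    ((pullback.fst p (Spec.map (CommRingCat.ofHom (algebraMap A (A ⧸ J))))).appLE U _
      inf_le_left).hom.toAlgebra
  have h1 := geoC v (pullback.fst p (Spec.map (CommRingCat.ofHom (algebraMap A (A ⧸ J)))))
    (fun i => pullback.fst (v i ≫ p) (Spec.map (CommRingCat.ofHom (algebraMap A (A ⧸ J))))) _
    (fun i => FieldSepC.sq p (Spec.map (CommRingCat.ofHom (algebraMap A (A ⧸ J)))) (v i))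
    h0 hU hV''B inf_le_left
  have h1' := HRmod_of_HR Γ(X, U) (Nfam v U) _ h1
  obtain ⟨eqB⟩ := exists_equiv_affine (A := A) (A ⧸ J) p hU
  have h2 := FieldSepD.HRmod_of_equiv (fun j => Algebra.linearMap Γ(X, U) (Nfam v U j))
    eqB.symm h1'
  exact NilSepA.nil_core J hJ hfree
    (fun j => (Algebra.linearMap Γ(X, U) (Nfam v U j)).restrictScalars A)
    (fun σ hσ => NilSepB.inj_of_HRmod (A := A) (C := Γ(X, U)) (A ⧸ J)
      (fun j => Algebra.linearMap Γ(X, U) (Nfam v U j)) h2 σ hσ) τ hτj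

end Groth.Agent.Lead.FibSepD
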