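import Mathlib
open CategoryTheory Limits AlgebraicGeometry

namespace Groth.Agent.Lead.FibStageA
universe u

variable {I : Type u} [SmallCategory I]
  (DX DS : I ⥤ Scheme.{u}) (φ : DX ⟶ DS) (cX : Cone DX) (cS : Cone DS)
  (f : cX.pt ⟶ cS.pt) (hf : ∀ i, f ≫ cS.π.app i = cX.π.app i ≫ φ.app i)

set_option backward.isDefEq.respectTransparency false in
/-- the system of base changes `X_i ×_{S_i} S` -/
noncomputable def W : I ⥤ Scheme.{u} where
  obj i := pullback (φ.app i) (cS.π.app i)
  map {i j} a := pullback.map (φ.app i) (cS.π.app i) (φ.app j) (cS.π.app j) (DX.map a) (𝟙 _)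
    (DS.map a) (φ.naturality a).symm (by rw [Category.id_comp, cS.w])
  map_id i := by
    apply pullback.hom_ext <;> simp
  map_comp a b := by
    apply pullback.hom_ext <;> simp

/-- first projection -/
noncomputable def Wfst (i : I) : (W DX DS φ cS).obj i ⟶ DX.obj i := pullback.fst _ _
/-- second projection -/
noncomputable def Wsnd (i : I) : (W DX DS φ cS).obj i ⟶ cS.pt := pullback.snd _ _

lemma W_condition (i : I) : Wfst DX DS φ cS i ≫ φ.app i = Wsnd DX DS φ cS i ≫ cS.π.app i :=
  pullback.condition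

lemma W_isPullback (i : I) :
    IsPullback (Wfst DX DS φ cS i) (Wsnd DX DS φ cS i) (φ.app i) (cS.π.app i) :=
  IsPullback.of_hasPullback _ _

variable {DX DS φ cS} in
lemma W_hom_ext {i : I} {Q : Scheme.{u}} {m m' : Q ⟶ (W DX DS φ cS).obj i}
    (h1 : m ≫ Wfst DX DS φ cS i = m' ≫ Wfst DX DS φ cS i)
    (h2 : m ≫ Wsnd DX DS φ cS i = m' ≫ Wsnd DX DS φ cS i) : m = m' :=
  pullback.hom_ext h1 h2

/-- lifting into `W` -/
noncomputable def Wlift {i : I} {Q : Scheme.{u}} (a : Q ⟶ DX.obj i) (b : Q ⟶ cS.pt)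
    (h : a ≫ φ.app i = b ≫ cS.π.app i) : Q ⟶ (W DX DS φ cS).obj i := pullback.lift a b h

@[reassoc (attr := simp)]
lemma Wlift_fst {i : I} {Q : Scheme.{u}} (a : Q ⟶ DX.obj i) (b : Q ⟶ cS.pt)
    (h : a ≫ φ.app i = b ≫ cS.π.app i) : Wlift DX DS φ cS a b h ≫ Wfst DX DS φ cS i = a :=
  pullback.lift_fst _ _ _

@[reassoc (attr := simp)]
lemma Wlift_snd {i : I} {Q : Scheme.{u}} (a : Q ⟶ DX.obj i) (b : Q ⟶ cS.pt)
    (h : a ≫ φ.app i = b ≫ cS.π.app i) : Wlift DX DS φ cS a b h ≫ Wsnd DX DS φ cS i = b :=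
  pullback.lift_snd _ _ _

set_option backward.isDefEq.respectTransparency false in
@[reassoc (attr := simp)]
lemma W_map_fst {i j : I} (a : i ⟶ j) :
    (W DX DS φ cS).map a ≫ Wfst DX DS φ cS j = Wfst DX DS φ cS i ≫ DX.map a := by
  simp [W, Wfst]

set_option backward.isDefEq.respectTransparency false in
@[reassoc (attr := simp)]
lemma W_map_snd {i j : I} (a : i ⟶ j) :
    (W DX DS φ cS).map a ≫ Wsnd DX DS φ cS j = Wsnd DX DS φ cS i := by
  simp [W, Wsnd]

/-- the cone over `W` with apex `X` -/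
noncomputable def coneW : Cone (W DX DS φ cS) where
  pt := cX.pt
  π :=
    { app := fun i ↦ Wlift DX DS φ cS (cX.π.app i) f (hf i).symm
      naturality := by
        intro i j a
        dsimp only [Functor.const_obj_obj, Functor.const_obj_map]
        rw [Category.id_comp]
        apply W_hom_ext
        · rw [Category.assoc, W_map_fst, Wlift_fst_assoc, Wlift_fst, cX.w]
        · rw [Category.assoc, W_map_snd, Wlift_snd, Wlift_snd] }

@[reassoc (attr := simp)]
lemma coneW_π_fst (i : I) :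
    (coneW DX DS φ cX cS f hf).π.app i ≫ Wfst DX DS φ cS i = cX.π.app i :=
  Wlift_fst _ _ _ _ _ _ _

@[reassoc (attr := simp)]
lemma coneW_π_snd (i : I) : (coneW DX DS φ cX cS f hf).π.app i ≫ Wsnd DX DS φ cS i = f :=
  Wlift_snd _ _ _ _ _ _ _

/-- the cone over `DX` induced by a cone over `W` -/
noncomputable abbrev coneX (s : Cone (W DX DS φ cS)) : Cone DX where
  pt := s.pt
  π :=
    { app := fun i ↦ s.π.app i ≫ Wfst DX DS φ cS i
      naturality := by
        intro i j a
        dsimp only [Functor.const_obj_obj, Functor.const_obj_map]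
        rw [Category.id_comp, Category.assoc, ← W_map_fst, ← Category.assoc, s.w] }

variable {DX DS φ cX cS f} in
/-- the cone `coneW` is a limit cone -/
noncomputable def coneWIsLimit [IsCofiltered I] (hX : IsLimit cX) (hS : IsLimit cS) :
    IsLimit (coneW DX DS φ cX cS f hf) := by
  have key : ∀ (s : Cone (W DX DS φ cS)) (i j : I),
      s.π.app i ≫ Wsnd DX DS φ cS i = s.π.app j ≫ Wsnd DX DS φ cS j := by
    intro s i j
    obtain ⟨k, a, b, -⟩ := IsCofilteredOrEmpty.cone_objs i j
    rw [← s.w a, ← s.w b, Category.assoc, Category.assoc, W_map_snd, W_map_snd]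
  have lift_fac : ∀ (s : Cone (W DX DS φ cS)) (i : I),
      (hX.lift (coneX DX DS φ cS s) : s.pt ⟶ cX.pt) ≫ cX.π.app i =
        s.π.app i ≫ Wfst DX DS φ cS i := fun s i ↦ hX.fac (coneX DX DS φ cS s) i
  have lift_f : ∀ (s : Cone (W DX DS φ cS)) (i : I),
      (hX.lift (coneX DX DS φ cS s) : s.pt ⟶ cX.pt) ≫ f = s.π.app i ≫ Wsnd DX DS φ cS i := by
    intro s i
    apply hS.hom_ext
    intro j
    rw [Category.assoc, hf j, ← Category.assoc, lift_fac s j, Category.assoc, W_condition,
      ← Category.assoc, key s j i, Category.assoc]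
  refine
    { lift := fun s ↦ hX.lift (coneX DX DS φ cS s)
      fac := ?_
      uniq := ?_ }
  · intro s i
    have e1 : (hX.lift (coneX DX DS φ cS s) : s.pt ⟶ cX.pt) ≫
        Wlift DX DS φ cS (cX.π.app i) f (hf i).symm = s.π.app i := by
      apply W_hom_ext
      · rw [Category.assoc, Wlift_fst, lift_fac]
      · rw [Category.assoc, Wlift_snd, lift_f s i]
    exact e1
  · intro s m hm
    have e2 : ∀ i, (m : s.pt ⟶ cX.pt) ≫ cX.π.app i = s.π.app i ≫ Wfst DX DS φ cS i := by
      intro i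
      have := hm i
      change (m : s.pt ⟶ cX.pt) ≫ Wlift DX DS φ cS (cX.π.app i) f (hf i).symm = s.π.app i at this
      rw [← this, Category.assoc, Wlift_fst]
    apply hX.hom_ext
    intro i
    exact (e2 i).trans (lift_fac s i).symm

end Groth.Agent.Lead.FibStageA
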