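import Groth.Agent.Lead.FibStageA
import Mathlib
open CategoryTheory Limits AlgebraicGeometry

namespace Groth.Agent.Lead.FibStageB
universe u
open Groth.Agent.Lead.FibStageA

variable {I : Type u} [SmallCategory I]
  (DX DS : I ⥤ Scheme.{u}) (φ : DX ⟶ DS) (cS : Cone DS)

/-- the comparison map `X_i → X_j ×_{S_j} S_i` -/
noncomputable abbrev κ {i j : I} (a : i ⟶ j) : DX.obj i ⟶ pullback (φ.app j) (DS.map a) :=
  pullback.lift (DX.map a) (φ.app i) (φ.naturality a)

/-- the map `W_j → X_j ×_{S_j} S_i` -/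
noncomputable def θ {i j : I} (a : i ⟶ j) :
    (W DX DS φ cS).obj j ⟶ pullback (φ.app j) (DS.map a) :=
  pullback.lift (Wfst DX DS φ cS j) (Wsnd DX DS φ cS j ≫ cS.π.app i)
    (by rw [W_condition, Category.assoc, cS.w])

@[reassoc (attr := simp)]
lemma θ_fst {i j : I} (a : i ⟶ j) :
    θ DX DS φ cS a ≫ pullback.fst (φ.app j) (DS.map a) = Wfst DX DS φ cS j :=
  pullback.lift_fst _ _ _

@[reassoc (attr := simp)]
lemma θ_snd {i j : I} (a : i ⟶ j) :
    θ DX DS φ cS a ≫ pullback.snd (φ.app j) (DS.map a) = Wsnd DX DS φ cS j ≫ cS.π.app i :=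
  pullback.lift_snd _ _ _

lemma isPullback_θ {i j : I} (a : i ⟶ j) :
    IsPullback (θ DX DS φ cS a) (Wsnd DX DS φ cS j) (pullback.snd (φ.app j) (DS.map a))
      (cS.π.app i) := by
  have big : IsPullback (θ DX DS φ cS a ≫ pullback.fst (φ.app j) (DS.map a)) (Wsnd DX DS φ cS j)
      (φ.app j) (cS.π.app i ≫ DS.map a) := by
    rw [θ_fst, cS.w]
    exact W_isPullback DX DS φ cS j
  exact IsPullback.of_right big (θ_snd DX DS φ cS a) (IsPullback.of_hasPullback _ _)

lemma isPullback_W_map {i j : I} (a : i ⟶ j) :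
    IsPullback ((W DX DS φ cS).map a) (Wfst DX DS φ cS i) (θ DX DS φ cS a) (κ DX DS φ a) := by
  have big : IsPullback ((W DX DS φ cS).map a ≫ Wsnd DX DS φ cS j) (Wfst DX DS φ cS i)
      (cS.π.app i) (κ DX DS φ a ≫ pullback.snd (φ.app j) (DS.map a)) := by
    rw [W_map_snd, pullback.lift_snd]
    exact (W_isPullback DX DS φ cS i).flip
  refine IsPullback.of_right big ?_ (isPullback_θ DX DS φ cS a).flip
  apply pullback.hom_ext
  · rw [Category.assoc, θ_fst, W_map_fst, Category.assoc, pullback.lift_fst]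
  · rw [Category.assoc, θ_snd, W_map_snd_assoc, Category.assoc, pullback.lift_snd, W_condition]

lemma isClosedImmersion_W_map {i j : I} (a : i ⟶ j) [IsClosedImmersion (κ DX DS φ a)] :
    IsClosedImmersion ((W DX DS φ cS).map a) :=
  MorphismProperty.of_isPullback (P := @IsClosedImmersion) (isPullback_W_map DX DS φ cS a).flip
    inferInstance

end Groth.Agent.Lead.FibStageB
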