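import Groth.Agent.Lead.HomGlueA
import Mathlib
open CategoryTheory Limits AlgebraicGeometry

namespace Groth.Agent.Lead.FibStageC
universe u
open Groth.Agent.Lead.HomGlueA

set_option backward.isDefEq.respectTransparency false in
/-- projections from a cofiltered limit of closed immersions are closed immersions -/
theorem isClosedImmersion_π {J : Type u} [SmallCategory J] [IsCofiltered J]
    (D : J ⥤ Scheme.{u}) (c : Cone D) (hc : IsLimit c)
    [∀ {i j : J} (f : i ⟶ j), IsClosedImmersion (D.map f)] (j₀ : J) :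
    IsClosedImmersion (c.π.app j₀) := by
  have hA : ∀ {i j : J} (f : i ⟶ j), IsAffineHom (D.map f) := fun f ↦ inferInstance
  rw [isClosedImmersion_iff_isAffineHom]
  refine ⟨isAffineHom_π_app D c hc j₀, fun U hU t ↦ ?_⟩
  have hk : ∀ k : Over j₀, IsAffine ((opensDiagram D j₀ U).obj k) := fun k ↦ hU.preimage (D.map _)
  obtain ⟨k, tk, hk⟩ := exists_appTop_π_eq_of_isAffine_of_isLimit _ _
    (isLimitOpensCone D c hc j₀ U) ((c.π.app j₀ ⁻¹ᵁ U).topIso.inv t)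
  have e1 : c.π.app j₀ ⁻¹ᵁ U ≤ c.π.app k.left ⁻¹ᵁ (D.map k.hom ⁻¹ᵁ U) :=
    le_of_eq (by rw [← Scheme.Hom.comp_preimage, c.w])
  have h1 : ((c.π.app k.left).resLE (D.map k.hom ⁻¹ᵁ U) (c.π.app j₀ ⁻¹ᵁ U) e1).appTop tk =
      (c.π.app j₀ ⁻¹ᵁ U).topIso.inv t := hk
  rw [Scheme.Hom.appTop, Scheme.Hom.resLE_app_top] at h1
  have h2 : (c.π.app k.left).appLE (D.map k.hom ⁻¹ᵁ U) (c.π.app j₀ ⁻¹ᵁ U) e1
      ((D.map k.hom ⁻¹ᵁ U).topIso.hom tk) = t := by
    rw [CommRingCat.comp_apply, CommRingCat.comp_apply] at h1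
    exact (ConcreteCategory.bijective_of_isIso (c.π.app j₀ ⁻¹ᵁ U).topIso.inv).1 h1
  obtain ⟨u, hu⟩ := (D.map k.hom).app_surjective U hU ((D.map k.hom ⁻¹ᵁ U).topIso.hom tk)
  refine ⟨u, ?_⟩
  rw [← h2, ← hu, Scheme.Hom.app_eq_appLE, Scheme.Hom.app_eq_appLE, ← CommRingCat.comp_apply,
    Scheme.Hom.appLE_comp_appLE]
  exact ConcreteCategory.congr_hom (appLE_congr (c.w k.hom).symm U _ _ _) u

end Groth.Agent.Lead.FibStageC
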