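import Groth.Agent.Lead.LimPullback
import Mathlib
open CategoryTheory Limits AlgebraicGeometry

namespace Groth.Agent.Lead.FibStageD
universe u

/-- a point lying in the image of every stage lies in the image of the limit -/
lemma mem_range_π {J : Type u} [SmallCategory J] [IsCofiltered J] {D : J ⥤ Scheme.{u}}
    {c : Cone D} (hc : IsLimit c) [∀ {i j : J} (f : i ⟶ j), IsAffineHom (D.map f)] (j₀ : J)
    (z : D.obj j₀) (h : ∀ (j : J) (φ : j ⟶ j₀), z ∈ Set.range (D.map φ)) :
    z ∈ Set.range (c.π.app j₀) := by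
  let g := (D.obj j₀).fromSpecResidueField z
  have hne : ∀ (j : J) (φ : j ⟶ j₀), Nonempty ↑(pullback (D.map φ) g) := by
    intro j φ
    obtain ⟨y, hy⟩ := h j φ
    let t : Spec ((D.obj j₀).residueField z) := IsLocalRing.closedPoint _
    obtain ⟨w, -, -⟩ := Scheme.Pullback.exists_preimage_pullback (f := D.map φ) (g := g) y t
      (by rw [hy, Scheme.fromSpecResidueField_apply])
    exact ⟨w⟩
  obtain ⟨w⟩ := Groth.Agent.Lead.LimPullback.nonempty_pullback hc j₀ g hne
  refine ⟨pullback.fst (c.π.app j₀) g w, ?_⟩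
  rw [← Scheme.Hom.comp_apply, pullback.condition, Scheme.Hom.comp_apply,
    Scheme.fromSpecResidueField_apply]

end Groth.Agent.Lead.FibStageD
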