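import Groth.Agent.Lead.FibStageC
import Groth.Agent.Lead.FibStageD
import Groth.Agent.Helper5.EtLoc1
import Mathlib
open CategoryTheory Limits AlgebraicGeometry TopologicalSpace

namespace Groth.Agent.Lead.FibStageE
universe u

/-- set-theoretic fibres of quasi-compact morphisms locally of finite type are Noetherian -/
lemma noetherianSpace_preimage {P S : Scheme.{u}} (g : P ⟶ S) [LocallyOfFiniteType g]
    [QuasiCompact g] (s : S) : NoetherianSpace ↥(g ⁻¹' {s}) := by
  have hlft : LocallyOfFiniteType (g.fiberToSpecResidueField s) :=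
    MorphismProperty.pullback_snd _ _ inferInstance
  have hLN : IsLocallyNoetherian (g.fiber s) :=
    LocallyOfFiniteType.isLocallyNoetherian (g.fiberToSpecResidueField s)
  have hcpt : CompactSpace ↥(g.fiber s) := inferInstance
  have hN : IsNoetherian (g.fiber s) := { }
  have hNS : NoetherianSpace ↥(g.fiber s) := inferInstance
  exact (noetherianSpace_iff_of_homeomorph (g.fiberHomeo s)).mp hNS


section Stab
variable {J : Type u} [SmallCategory J] [IsCofiltered J] (D : J ⥤ Scheme.{u}) (c : Cone D)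
  (hc : IsLimit c) [∀ {i j : J} (a : i ⟶ j), IsClosedImmersion (D.map a)]
  {S : Scheme.{u}} (g : ∀ j, D.obj j ⟶ S) (hg : ∀ {i j : J} (a : i ⟶ j), D.map a ≫ g j = g i)
  [∀ j, LocallyOfFiniteType (g j)] [∀ j, QuasiCompact (g j)]

include hc hg in
/-- the fibres of a limit of closed immersions of finite type `S`-schemes are attained at a
finite stage -/
theorem exists_stage_fibre_surjective (s : S) :
    ∃ j : J, ∀ y : D.obj j, g j y = s → y ∈ Set.range (c.π.app j) := by
  have hA : ∀ {i j : J} (f : i ⟶ j), IsAffineHom (D.map f) := fun f ↦ inferInstance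
  obtain ⟨j₀⟩ := IsCofiltered.nonempty (C := J)
  haveI := noetherianSpace_preimage (g j₀) s
  -- the closed subsets of the fibre cut out by the stages
  let C : Over j₀ → Closeds ↥((g j₀) ⁻¹' {s}) := fun k ↦
    ⟨Subtype.val ⁻¹' Set.range (D.map k.hom),
      (D.map k.hom).isClosedEmbedding.isClosed_range.preimage continuous_subtype_val⟩
  have hmono : ∀ {k k' : Over j₀} (b : k' ⟶ k), C k' ≤ C k := by
    intro k k' b z hz
    obtain ⟨y, hy⟩ := hz
    refine ⟨D.map b.left y, ?_⟩
    rw [← hy, ← Scheme.Hom.comp_apply, ← D.map_comp, Over.w b]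
  obtain ⟨_, ⟨k₁, rfl⟩, hmin⟩ := WellFounded.has_min (wellFounded_lt (α := Closeds ↥((g j₀) ⁻¹' {s})))
    (Set.range C) ⟨_, ⟨Over.mk (𝟙 j₀), rfl⟩⟩
  refine ⟨k₁.left, fun y hy ↦ ?_⟩
  have hz : g j₀ (D.map k₁.hom y) = s := by
    rw [← Scheme.Hom.comp_apply, hg, hy]
  have hall : ∀ (j : J) (φ : j ⟶ j₀), D.map k₁.hom y ∈ Set.range (D.map φ) := by
    intro j φ
    let k : Over j₀ := Over.mk φ
    let k' := IsCofiltered.min k₁ k
    have h1 : C k' ≤ C k₁ := hmono (IsCofiltered.minToLeft k₁ k)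
    have h2 : C k' ≤ C k := hmono (IsCofiltered.minToRight k₁ k)
    have h3 : C k' = C k₁ := by
      by_contra hne
      exact hmin (C k') ⟨k', rfl⟩ (lt_of_le_of_ne h1 hne)
    have h4 : (⟨D.map k₁.hom y, hz⟩ : ↥((g j₀) ⁻¹' {s})) ∈ C k₁ := ⟨y, rfl⟩
    rw [← h3] at h4
    exact h2 h4
  obtain ⟨x', hx'⟩ := FibStageD.mem_range_π hc j₀ (D.map k₁.hom y) hall
  refine ⟨x', ?_⟩
  apply (D.map k₁.hom).isClosedEmbedding.injective
  rw [← hx', ← Scheme.Hom.comp_apply, c.w]

include hg in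
lemma π_g_eq (i j : J) : c.π.app i ≫ g i = c.π.app j ≫ g j := by
  obtain ⟨k, a, b, -⟩ := IsCofilteredOrEmpty.cone_objs i j
  rw [← c.w a, ← c.w b, Category.assoc, Category.assoc, hg, hg]

include hc hg in
/-- the local fibre dimension of the limit is attained at a finite stage -/
theorem exists_fibreDimAt_eq (x : c.pt) :
    ∃ j : J, FlatMor.fibreDimAt (g j) (c.π.app j x) = FlatMor.fibreDimAt (c.π.app j ≫ g j) x := by
  obtain ⟨j₀⟩ := IsCofiltered.nonempty (C := J)
  obtain ⟨j, hj⟩ := exists_stage_fibre_surjective D c hc g hg ((c.π.app j₀ ≫ g j₀) x)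
  refine ⟨j, ?_⟩
  have hψ : IsClosedImmersion (c.π.app j) := FibStageC.isClosedImmersion_π D c hc j
  have hfx : (c.π.app j ≫ g j) x = (c.π.app j₀ ≫ g j₀) x := by rw [π_g_eq D c g hg j j₀]
  rw [Groth.Agent.Helper5.EtLoc.fibreDimAt_eq_localDim_preimage,
    Groth.Agent.Helper5.EtLoc.fibreDimAt_eq_localDim_preimage]
  let e : ↥((c.π.app j ≫ g j) ⁻¹' {(c.π.app j ≫ g j) x}) → ↥((g j) ⁻¹' {g j (c.π.app j x)}) :=
    fun p ↦ ⟨c.π.app j p.1, p.2⟩
  have hcont : Continuous e :=
    ((c.π.app j).continuous.comp continuous_subtype_val).subtype_mk _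
  have hemb : Topology.IsEmbedding e := by
    refine Topology.IsEmbedding.of_comp hcont continuous_subtype_val ?_
    exact (c.π.app j).isClosedEmbedding.isEmbedding.comp Topology.IsEmbedding.subtypeVal
  have hsurj : Function.Surjective e := by
    rintro ⟨y, hy⟩
    have hy' : g j y = (c.π.app j₀ ≫ g j₀) x := by
      rw [← hfx]; exact hy
    obtain ⟨x', rfl⟩ := hj y hy'
    exact ⟨⟨x', hy⟩, rfl⟩
  have := Groth.Agent.Helper5.SubDim.localDim_homeomorph (hemb.toHomeomorphOfSurjective hsurj)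
    ⟨x, rfl⟩
  exact this.symm

end Stab

end Groth.Agent.Lead.FibStageE
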