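import Groth.Agent.Lead.FibStageB
import Groth.Agent.Lead.FibStageE
import Groth.Agent.Helper5.EqAt7
import Groth.Agent.Helper5.BCMin13
import Groth.Agent.S5792
import Groth.Agent.S0402
import Mathlib
open CategoryTheory Limits AlgebraicGeometry TopologicalSpace

namespace Groth.Agent.Lead.FibStageF
universe u
open Groth.Agent.Lead.FibStageA Groth.Agent.Lead.FibStageB Groth.Agent.Lead.FibStageE

lemma fibreDimAt_congr {X Y : Scheme.{u}} {f f' : X ⟶ Y} (h : f = f') (x : X) :
    FlatMor.fibreDimAt f x = FlatMor.fibreDimAt f' x := by subst h; rfl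

/-- fibre dimension bound from the pointwise bound -/
lemma dim_fiber_le_of_fibreDimAt_le {X Y : Scheme.{u}} (f : X ⟶ Y) (d : ℕ)
    (h : ∀ x : X, FlatMor.fibreDimAt f x ≤ d) (s : Y) : topologicalKrullDim ↥(f.fiber s) ≤ d := by
  rw [Groth.Agent.S5792.result]
  refine iSup_le fun z ↦ ?_
  have key : ∀ (s' : Y) (hs : f (f.fiberι s z) = s'),
      ∃ z' : ↥(f.fiber s'), f.fiberι s' z' = f.fiberι s z ∧
        FlatMor.localDim ↥(f.fiber s') z' ≤ d := by
    rintro _ rfl
    exact ⟨f.asFiber _, f.fiberι_asFiber _, h _⟩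
  have hz : f (f.fiberι s z) = s := by
    have : f.fiberι s z ∈ f ⁻¹' {s} := by rw [← f.range_fiberι s]; exact ⟨z, rfl⟩
    exact this
  obtain ⟨z', hz', hd⟩ := key s hz
  have : z' = z := (f.fiberι s).isEmbedding.injective hz'
  rw [← this]
  exact hd

/-- the pointwise bound from the fibre dimension bound -/
lemma fibreDimAt_le_of_dim_fiber_le {X Y : Scheme.{u}} (f : X ⟶ Y) (d : ℕ)
    (h : ∀ s : Y, topologicalKrullDim ↥(f.fiber s) ≤ d) (x : X) : FlatMor.fibreDimAt f x ≤ d := by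
  refine le_trans ?_ (h (f x))
  unfold FlatMor.fibreDimAt FlatMor.localDim
  refine (iInf_le _ ⟨(⊤ : Opens ↥(f.fiber (f x))), trivial⟩).trans ?_
  exact topologicalKrullDim_subspace_le _ _


theorem main {I : Type u} [SmallCategory I] [IsCofiltered I]
    (DX DS : I ⥤ Scheme.{u}) (φ : DX ⟶ DS) (cX : Cone DX) (cS : Cone DS)
    (hX : IsLimit cX) (hS : IsLimit cS)
    [∀ (i j : I) (a : i ⟶ j), IsAffineHom (DS.map a)] [∀ i, CompactSpace (DS.obj i)]
    [∀ i, QuasiSeparatedSpace (DS.obj i)] [∀ i, LocallyOfFiniteType (φ.app i)]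
    [∀ i, QuasiCompact (φ.app i)]
    (hcl : ∀ (i j : I) (a : i ⟶ j),
      IsClosedImmersion (pullback.lift (DX.map a) (φ.app i) (φ.naturality a)))
    (f : cX.pt ⟶ cS.pt) (hf : ∀ i, f ≫ cS.π.app i = cX.π.app i ≫ φ.app i) (d : ℕ)
    (hd : ∀ s : cS.pt, topologicalKrullDim ↥(f.fiber s) ≤ d) :
    ∃ i : I, ∀ s : DS.obj i, topologicalKrullDim ↥((φ.app i).fiber s) ≤ d := by
  have hκ : ∀ {i j : I} (a : i ⟶ j), IsClosedImmersion (κ DX DS φ a) := fun a ↦ hcl _ _ a
  have hAS : ∀ {i j : I} (a : i ⟶ j), IsAffineHom (DS.map a) := fun a ↦ inferInstance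
  have hAX : ∀ {i j : I} (a : i ⟶ j), IsAffineHom (DX.map a) := by
    intro i j a
    have e : DX.map a = κ DX DS φ a ≫ pullback.fst (φ.app j) (DS.map a) :=
      (pullback.lift_fst _ _ _).symm
    have h1 : IsAffineHom (pullback.fst (φ.app j) (DS.map a)) :=
      MorphismProperty.pullback_fst _ _ (hAS a)
    have := hκ a
    rw [e]
    infer_instance
  have hcX : ∀ i, CompactSpace ↥(DX.obj i) := fun i ↦
    QuasiCompact.compactSpace_of_compactSpace (φ.app i)
  -- the bad loci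
  let Z : ∀ i : I, Set ↥(DX.obj i) := fun i ↦ {x | FlatMor.fibreDimAt (φ.app i) x ≤ d}ᶜ
  have hZc : ∀ i, IsClosed (Z i) := fun i ↦ (Groth.Agent.S0402.result (φ.app i) d).isClosed_compl
  have hZm : ∀ {i j : I} (a : i ⟶ j), Set.MapsTo (DX.map a) (Z i) (Z j) := by
    intro i j a x hx hle
    apply hx
    have := hκ a
    have hlft : LocallyOfFiniteType (pullback.snd (φ.app j) (DS.map a)) :=
      MorphismProperty.pullback_snd _ _ inferInstance
    have e1 : φ.app i = κ DX DS φ a ≫ pullback.snd (φ.app j) (DS.map a) :=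
      (pullback.lift_snd _ _ _).symm
    have e2 := Groth.Agent.Helper5.EqAt.fibreDimAt_closedImmersion_le (κ DX DS φ a)
      (pullback.snd (φ.app j) (DS.map a)) x
    have e3 := Groth.Agent.Helper5.BCMin.fibreDimAt_of_isPullback (φ.app j) (DS.map a)
      (pullback.fst (φ.app j) (DS.map a)) (pullback.snd (φ.app j) (DS.map a))
      (IsPullback.of_hasPullback _ _) (κ DX DS φ a x)
    have e4 : pullback.fst (φ.app j) (DS.map a) (κ DX DS φ a x) = DX.map a x := by
      rw [← Scheme.Hom.comp_apply, pullback.lift_fst]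
    change FlatMor.fibreDimAt (φ.app i) x ≤ d
    rw [fibreDimAt_congr e1 x]
    refine e2.trans ?_
    rw [e3, e4]
    exact hle
  by_contra hcon
  push Not at hcon
  have hZne : ∀ i, (Z i).Nonempty := by
    intro i
    by_contra hemp
    rw [Set.not_nonempty_iff_eq_empty] at hemp
    obtain ⟨s, hs⟩ := hcon i
    refine absurd ?_ (not_le.mpr hs)
    refine dim_fiber_le_of_fibreDimAt_le (φ.app i) d (fun x ↦ ?_) s
    by_contra hx
    have : x ∈ Z i := hx
    rw [hemp] at this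
    exact this
  obtain ⟨x, hx⟩ := exists_mem_of_isClosed_of_nonempty DX cX hX Z hZc hZne
    (fun i ↦ (hZc i).isCompact) hZm
  -- the base-changed system
  have hWcl : ∀ {i j : I} (a : i ⟶ j), IsClosedImmersion ((W DX DS φ cS).map a) := fun a ↦
    have := hκ a
    isClosedImmersion_W_map DX DS φ cS a
  have hWlft : ∀ j, LocallyOfFiniteType (Wsnd DX DS φ cS j) := fun j ↦
    MorphismProperty.pullback_snd (P := @LocallyOfFiniteType) _ _ inferInstance
  have hWqc : ∀ j, QuasiCompact (Wsnd DX DS φ cS j) := fun j ↦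
    MorphismProperty.pullback_snd (P := @QuasiCompact) _ _ inferInstance
  obtain ⟨j, hj⟩ := exists_fibreDimAt_eq (W DX DS φ cS) (coneW DX DS φ cX cS f hf)
    (coneWIsLimit hf hX hS) (fun j ↦ Wsnd DX DS φ cS j) (fun a ↦ W_map_snd DX DS φ cS a) x
  apply hx j
  change FlatMor.fibreDimAt (φ.app j) (cX.π.app j x) ≤ d
  have e5 := Groth.Agent.Helper5.BCMin.fibreDimAt_of_isPullback (φ.app j) (cS.π.app j)
    (Wfst DX DS φ cS j) (Wsnd DX DS φ cS j) (W_isPullback DX DS φ cS j)
    ((coneW DX DS φ cX cS f hf).π.app j x)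
  have e6 : Wfst DX DS φ cS j ((coneW DX DS φ cX cS f hf).π.app j x) = cX.π.app j x :=
    congr($(coneW_π_fst DX DS φ cX cS f hf j) x)
  rw [← e6, ← e5, hj, fibreDimAt_congr (coneW_π_snd DX DS φ cX cS f hf j) x]
  exact fibreDimAt_le_of_dim_fiber_le f d hd x

end Groth.Agent.Lead.FibStageF
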