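import Groth.Agent.Lead.FibStageF
import Groth.Agent.S7379
import Mathlib
open CategoryTheory Limits AlgebraicGeometry TopologicalSpace

namespace Groth.Agent.Lead.FibStageG
universe u
open Groth.Agent.Lead.FibStageF

/-- fibre dimensions are invariant under precomposition with an isomorphism -/
lemma dim_fiber_le_of_iso {A B S : Scheme.{u}} (u : A ⟶ B) [IsIso u] (g : B ⟶ S)
    [LocallyOfFiniteType g] (d : ℕ) (h : ∀ s : S, topologicalKrullDim ↥(g.fiber s) ≤ d) (s : S) :
    topologicalKrullDim ↥((u ≫ g).fiber s) ≤ d := by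
  refine dim_fiber_le_of_fibreDimAt_le (u ≫ g) d (fun a ↦ ?_) s
  have sq : IsPullback u (u ≫ g) g (𝟙 S) := IsPullback.of_horiz_isIso ⟨by simp⟩
  rw [Groth.Agent.Helper5.BCMin.fibreDimAt_of_isPullback g (𝟙 S) u (u ≫ g) sq a]
  exact fibreDimAt_le_of_dim_fiber_le g d h (u a)

theorem main {X S Z : Scheme.{u}} [CompactSpace S]
    [QuasiSeparatedSpace S] (f : X ⟶ S) [LocallyOfFinitePresentation f] [QuasiCompact f]
    [QuasiSeparated f]
    (d : ℕ) (ι : Z ⟶ X) [IsClosedImmersion ι]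
    (hZ : ∀ s : S, topologicalKrullDim ↥((ι ≫ f).fiber s) ≤ d) :
    ∃ (Z' : Scheme.{u}) (ι' : Z' ⟶ X) (k : Z ⟶ Z'), IsClosedImmersion ι' ∧
      LocallyOfFinitePresentation ι' ∧
      k ≫ ι' = ι ∧ ∀ s : S, topologicalKrullDim ↥((ι' ≫ f).fiber s) ≤ d := by
  have hXc : CompactSpace ↥X := QuasiCompact.compactSpace_of_compactSpace f
  have hXq : QuasiSeparatedSpace ↥X := quasiSeparatedSpace_of_quasiSeparated f
  obtain ⟨I, _, _, _, D, c, hc, hD, ⟨e⟩⟩ := Groth.Agent.S7379.result ι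
  have hci : ∀ i, IsClosedImmersion (D.obj i).hom := fun i ↦ (hD i).1
  have hfp : ∀ i, LocallyOfFinitePresentation (D.obj i).hom := fun i ↦ (hD i).2
  let DX : Iᵒᵖ ⥤ Scheme.{u} := D ⋙ Over.forget X
  let DS : Iᵒᵖ ⥤ Scheme.{u} := (Functor.const Iᵒᵖ).obj S
  let φ : DX ⟶ DS :=
    { app := fun i ↦ (D.obj i).hom ≫ f
      naturality := by
        intro i j a
        change (D.map a).left ≫ (D.obj j).hom ≫ f = ((D.obj i).hom ≫ f) ≫ 𝟙 S
        rw [Category.comp_id, ← Category.assoc, Over.w] }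
  haveI : IsConnected Iᵒᵖ := IsCofiltered.isConnected _
  let cX : Cone DX := (Over.forget X).mapCone c
  have hcX : IsLimit cX := isLimitOfPreserves (Over.forget X) hc
  let cS : Cone DS := Limits.constCone Iᵒᵖ S
  have hcS : IsLimit cS := Limits.isLimitConstCone Iᵒᵖ S
  have hAS : ∀ (i j : Iᵒᵖ) (a : i ⟶ j), IsAffineHom (DS.map a) := fun i j a ↦ by
    change IsAffineHom (𝟙 S); infer_instance
  have hSc : ∀ i : Iᵒᵖ, CompactSpace ↥(DS.obj i) := fun i ↦ ‹CompactSpace ↥S›
  have hSq : ∀ i : Iᵒᵖ, QuasiSeparatedSpace ↥(DS.obj i) := fun i ↦ ‹QuasiSeparatedSpace ↥S›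
  have hlft : ∀ i, LocallyOfFiniteType (φ.app i) := fun i ↦ by
    have := hci i
    have := hfp i
    change LocallyOfFiniteType ((D.obj i).hom ≫ f); infer_instance
  have hqc : ∀ i, QuasiCompact (φ.app i) := fun i ↦ by
    have := hci i
    change QuasiCompact ((D.obj i).hom ≫ f); infer_instance
  have hcl : ∀ (i j : Iᵒᵖ) (a : i ⟶ j),
      IsClosedImmersion (pullback.lift (DX.map a) (φ.app i) (φ.naturality a)) := by
    intro i j a
    have h1 : IsClosedImmersion (DX.map a) := by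
      have : IsClosedImmersion ((D.map a).left ≫ (D.obj j).hom) := by rw [Over.w]; exact hci i
      have := hci j
      exact IsClosedImmersion.of_comp (D.map a).left (D.obj j).hom
    have h2 : IsIso (pullback.fst (φ.app j) (DS.map a)) := by
      change IsIso (pullback.fst (φ.app j) (𝟙 S)); infer_instance
    have : IsClosedImmersion (pullback.lift (DX.map a) (φ.app i) (φ.naturality a) ≫
        pullback.fst (φ.app j) (DS.map a)) := by rw [pullback.lift_fst]; exact h1
    exact IsClosedImmersion.of_comp _ (pullback.fst (φ.app j) (DS.map a))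
  let f' : cX.pt ⟶ cS.pt := c.pt.hom ≫ f
  have hf' : ∀ i, f' ≫ cS.π.app i = cX.π.app i ≫ φ.app i := by
    intro i
    change (c.pt.hom ≫ f) ≫ 𝟙 S = (c.π.app i).left ≫ (D.obj i).hom ≫ f
    have w1 : (c.π.app i).left ≫ (D.obj i).hom = c.pt.hom := Over.w (c.π.app i)
    rw [Category.comp_id, ← Category.assoc, w1]
  have hd' : ∀ s : cS.pt, topologicalKrullDim ↥(f'.fiber s) ≤ d := by
    have hiso : IsIso e.hom.left := inferInstanceAs (IsIso ((Over.forget X).map e.hom))
    have e1 : e.hom.left ≫ ι ≫ f = f' := by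
      change e.hom.left ≫ ι ≫ f = c.pt.hom ≫ f
      rw [← Category.assoc]
      congr 1
      exact Over.w e.hom
    have hlftg : LocallyOfFiniteType (ι ≫ f) := inferInstance
    have := dim_fiber_le_of_iso e.hom.left (ι ≫ f) d hZ
    rw [e1] at this
    exact this
  obtain ⟨i, hi⟩ := @FibStageF.main Iᵒᵖ _ _ DX DS φ cX cS hcX hcS hAS hSc hSq hlft hqc hcl f' hf'
    d hd'
  refine ⟨(D.obj i).left, (D.obj i).hom, e.inv.left ≫ (c.π.app i).left, hci i, hfp i, ?_, hi⟩
  have w1 : (c.π.app i).left ≫ (D.obj i).hom = c.pt.hom := Over.w (c.π.app i)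
  have w2 : e.inv.left ≫ c.pt.hom = ι := Over.w e.inv
  rw [Category.assoc, w1, w2]

end Groth.Agent.Lead.FibStageG
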