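import Mathlib
import Groth.Prelude
import Groth.Agent.Helper2.TopDim
import Groth.Agent.Helper5.LscDim5
import Groth.Agent.Helper5.SubDim5

/-!
# Fibre dimension: topological preliminaries for vanishing above the fibre dimension
-/

set_option autoImplicit false
set_option linter.unusedSectionVars false
set_option linter.style.haveILetI false

open CategoryTheory Limits AlgebraicGeometry TopologicalSpace Opposite

universe u

namespace Groth.Agent.Lead.FibVan

/-- In a Noetherian space a downward directed family of closed sets has a least member. -/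
theorem exists_least_closed {W : Type*} [TopologicalSpace W] [NoetherianSpace W] {J : Type*}
    [Nonempty J] (A : J → Set W) (hA : ∀ j, IsClosed (A j))
    (hdir : ∀ i j, ∃ k, A k ⊆ A i ∧ A k ⊆ A j) :
    ∃ i, ∀ j, A i ⊆ A j := by
  let B : J → Closeds W := fun j => ⟨A j, hA j⟩
  obtain ⟨j₀⟩ := ‹Nonempty J›
  obtain ⟨m, ⟨i, rfl⟩, hmin⟩ :=
    (wellFounded_lt (α := Closeds W)).has_min (Set.range B) ⟨B j₀, j₀, rfl⟩
  refine ⟨i, fun j => ?_⟩
  obtain ⟨k, hki, hkj⟩ := hdir i j
  have hle : B k ≤ B i := hki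
  have heq : B k = B i := by
    by_contra hne
    exact hmin (B k) ⟨k, rfl⟩ (lt_of_le_of_ne hle hne)
  have : A i = A k := congrArg (fun C : Closeds W => (C : Set W)) heq.symm
  rw [this]
  exact hkj

/-- local dimension does not increase along an inducing map -/
theorem localDim_le_of_isInducing {A B : Type*} [TopologicalSpace A] [TopologicalSpace B]
    (e : A → B) (he : Topology.IsInducing e) (a : A) :
    FlatMor.localDim A a ≤ FlatMor.localDim B (e a) := by
  unfold FlatMor.localDim
  refine le_iInf fun V => ?_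
  refine iInf_le_of_le ⟨⟨e ⁻¹' (V.1 : Set B), V.1.2.preimage he.continuous⟩, V.2⟩ ?_
  let φ : ↥(e ⁻¹' (V.1 : Set B)) → ↥(V.1 : Set B) := fun z => ⟨e z.1, z.2⟩
  have hφ : Topology.IsInducing φ := by
    have h1 : Topology.IsInducing (fun z : ↥(e ⁻¹' (V.1 : Set B)) => e z.1) :=
      he.comp Topology.IsInducing.subtypeVal
    exact Topology.IsInducing.of_comp (by fun_prop) continuous_subtype_val h1
  exact hφ.topologicalKrullDim_le

/-- the fibre dimension does not increase along a topological embedding over the base -/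
theorem fibreDimAt_le_of_isEmbedding {X₁ X₂ Y : Scheme.{u}} (a : X₁ ⟶ X₂) (t₂ : X₂ ⟶ Y)
    (ha : Topology.IsEmbedding a.base) (x : X₁) :
    FlatMor.fibreDimAt (a ≫ t₂) x ≤ FlatMor.fibreDimAt t₂ (a.base x) := by
  rw [Groth.Agent.Helper5.EtLoc.fibreDimAt_eq_localDim_preimage,
    Groth.Agent.Helper5.EtLoc.fibreDimAt_eq_localDim_preimage]
  have hx : t₂.base (a.base x) = (a ≫ t₂).base x := (Scheme.Hom.comp_apply a t₂ x).symm
  let e : ↥((a ≫ t₂) ⁻¹' {(a ≫ t₂) x}) → ↥(t₂ ⁻¹' {t₂ (a x)}) := fun z =>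
    ⟨a.base z.1, by
      have hz : (a ≫ t₂).base z.1 = (a ≫ t₂).base x := z.2
      show t₂.base (a.base z.1) = t₂.base (a.base x)
      have h1 : t₂.base (a.base z.1) = (a ≫ t₂).base z.1 :=
        (Scheme.Hom.comp_apply a t₂ z.1).symm
      rw [h1, hz, hx]⟩
  have he : Topology.IsInducing e := by
    have h1 : Topology.IsInducing (fun z : ↥((a ≫ t₂) ⁻¹' {(a ≫ t₂) x}) => a.base z.1) :=
      ha.isInducing.comp Topology.IsInducing.subtypeVal
    exact Topology.IsInducing.of_comp
      (Continuous.subtype_mk (a.base.hom.continuous.comp continuous_subtype_val) _)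
      continuous_subtype_val h1
  exact localDim_le_of_isInducing e he ⟨x, rfl⟩

/-- fibre dimension bound, fibrewise vs pointwise -/
theorem fiber_dim_le_iff {X Y : Scheme.{u}} (f : X ⟶ Y) (y : Y) (d : ℕ) :
    topologicalKrullDim ↥(f.fiber y) ≤ d ↔ ∀ x : X, f.base x = y → FlatMor.fibreDimAt f x ≤ d := by
  rw [Groth.Agent.Helper5.LscDim.dim_fiber_eq_dim_preimage,
    Groth.Agent.Helper5.LscDim.dim_preimage_eq_iSup]
  constructor
  · intro h x hx
    exact le_trans (le_iSup (fun z : ↥(f ⁻¹' {y}) => FlatMor.fibreDimAt f z.1) ⟨x, hx⟩) h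
  · intro h
    exact iSup_le fun z => h z.1 z.2

theorem fiber_dim_le_of_forall {X Y : Scheme.{u}} (f : X ⟶ Y) (d : ℕ)
    (h : ∀ x : X, FlatMor.fibreDimAt f x ≤ d) (y : Y) :
    topologicalKrullDim ↥(f.fiber y) ≤ d :=
  (fiber_dim_le_iff f y d).2 fun x _ => h x

theorem forall_of_fiber_dim_le {X Y : Scheme.{u}} (f : X ⟶ Y) (d : ℕ)
    (h : ∀ y : Y, topologicalKrullDim ↥(f.fiber y) ≤ d) (x : X) :
    FlatMor.fibreDimAt f x ≤ d :=
  (fiber_dim_le_iff f (f.base x) d).1 (h _) x rfl

/-- set-theoretic fibres of quasi-compact morphisms locally of finite type are Noetherian -/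
theorem noetherianSpace_preimage_singleton {X Y : Scheme.{u}} (t : X ⟶ Y) [LocallyOfFiniteType t]
    [QuasiCompact t] (y : Y) : NoetherianSpace ↥(t ⁻¹' {y}) := by
  haveI : LocallyOfFiniteType (t.fiberToSpecResidueField y) :=
    inferInstanceAs (LocallyOfFiniteType (Limits.pullback.snd t (Y.fromSpecResidueField y)))
  haveI : IsLocallyNoetherian (t.fiber y) :=
    LocallyOfFiniteType.isLocallyNoetherian (t.fiberToSpecResidueField y)
  haveI : IsNoetherian (t.fiber y) := {}
  exact (noetherianSpace_iff_of_homeomorph (t.fiberHomeo y)).1 inferInstance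

end Groth.Agent.Lead.FibVan
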