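import Mathlib
import Groth.Agent.Lead.FibVanA
import Groth.Agent.Lead.LimPullback
import Groth.Agent.Helper5.EtLoc1
import Groth.Agent.S0402

/-!
# Fibre dimension in a cofiltered limit of closed immersions
-/

set_option autoImplicit false
set_option linter.unusedSectionVars false
set_option linter.style.haveILetI false

open CategoryTheory Limits AlgebraicGeometry TopologicalSpace Opposite

universe u

namespace Groth.Agent.Lead.FibVan

variable {I : Type u} [SmallCategory I] [IsCofiltered I] {D : I ⥤ Scheme.{u}} {c : Cone D}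
  (hc : IsLimit c)

include hc in
/-- a point lying in the image of every stage lies in the image of the limit -/
theorem mem_range_π_of_forall [∀ {i j : I} (f : i ⟶ j), IsAffineHom (D.map f)] (i₀ : I)
    (w : D.obj i₀) (h : ∀ (j : I) (φ : j ⟶ i₀), w ∈ Set.range (D.map φ).base) :
    w ∈ Set.range (c.π.app i₀).base := by
  let g := (D.obj i₀).fromSpecResidueField w
  have hne : ∀ (j : I) (φ : j ⟶ i₀), Nonempty ↑(pullback (D.map φ) g) := by
    intro j φ
    obtain ⟨x, hx⟩ := h j φ
    let p : ↥(Spec ((D.obj i₀).residueField w)) := IsLocalRing.closedPoint _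
    have hp : (D.map φ).base x = g.base p := by
      rw [hx]; exact (Scheme.fromSpecResidueField_apply w p).symm
    obtain ⟨z, -, -⟩ := Scheme.Pullback.exists_preimage_pullback x p hp
    exact ⟨z⟩
  obtain ⟨z⟩ := Groth.Agent.Lead.LimPullback.nonempty_pullback hc i₀ g hne
  refine ⟨(pullback.fst (c.π.app i₀) g).base z, ?_⟩
  have h1 : (pullback.fst (c.π.app i₀) g ≫ c.π.app i₀).base z
      = (pullback.snd (c.π.app i₀) g ≫ g).base z := by rw [pullback.condition]
  rw [Scheme.Hom.comp_apply, Scheme.Hom.comp_apply] at h1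
  rw [h1]
  exact Scheme.fromSpecResidueField_apply w _

variable {Y : Scheme.{u}} (t : D ⟶ (Functor.const I).obj Y) (f : c.pt ⟶ Y)
  (hf : ∀ i, c.π.app i ≫ t.app i = f)

lemma t_naturality {i j : I} (a : i ⟶ j) : D.map a ≫ t.app j = t.app i := by
  have := t.naturality a
  simpa using this

include hc hf in
/-- pointwise stabilisation of the fibre dimension in a limit of closed immersions -/
theorem exists_fibreDimAt_le (hcl : ∀ {i j : I} (a : i ⟶ j), IsClosedImmersion (D.map a))
    (hπ : ∀ i, IsClosedImmersion (c.π.app i))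
    [∀ i, LocallyOfFiniteType (t.app i)] [∀ i, QuasiCompact (t.app i)] (s : c.pt) :
    ∃ i, FlatMor.fibreDimAt (t.app i) ((c.π.app i).base s) ≤ FlatMor.fibreDimAt f s := by
  haveI : ∀ {i j : I} (a : i ⟶ j), IsAffineHom (D.map a) := fun a => by
    haveI := hcl a; infer_instance
  obtain ⟨i₀⟩ := IsCofiltered.nonempty (C := I)
  let y : Y := f.base s
  haveI : NoetherianSpace ↥((t.app i₀) ⁻¹' {y}) := noetherianSpace_preimage_singleton (t.app i₀) y
  let A : Over i₀ → Set ↥((t.app i₀) ⁻¹' {y}) := fun j =>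
    Subtype.val ⁻¹' (Set.range (D.map j.hom).base)
  have hA : ∀ j, IsClosed (A j) := fun j => by
    haveI := hcl j.hom
    exact ((D.map j.hom).isClosedEmbedding.isClosed_range).preimage continuous_subtype_val
  haveI : Nonempty (Over i₀) := ⟨Over.mk (𝟙 i₀)⟩
  have hdir : ∀ j j' : Over i₀, ∃ k, A k ⊆ A j ∧ A k ⊆ A j' := by
    intro j j'
    let k : Over i₀ := IsCofiltered.min j j'
    let u : k ⟶ j := IsCofiltered.minToLeft j j'
    let u' : k ⟶ j' := IsCofiltered.minToRight j j'
    refine ⟨k, ?_, ?_⟩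
    · rintro w ⟨x, hx⟩
      refine ⟨(D.map u.left).base x, ?_⟩
      rw [← hx, ← Scheme.Hom.comp_apply, ← D.map_comp, Over.w u]
    · rintro w ⟨x, hx⟩
      refine ⟨(D.map u'.left).base x, ?_⟩
      rw [← hx, ← Scheme.Hom.comp_apply, ← D.map_comp, Over.w u']
  obtain ⟨j₁, hj₁⟩ := exists_least_closed A hA hdir
  let i : I := j₁.left
  let a : D.obj i ⟶ D.obj i₀ := D.map j₁.hom
  haveI : IsClosedImmersion a := hcl j₁.hom
  haveI : IsClosedImmersion (c.π.app i) := hπ i
  refine ⟨i, ?_⟩
  rw [Groth.Agent.Helper5.EtLoc.fibreDimAt_eq_localDim_preimage,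
    Groth.Agent.Helper5.EtLoc.fibreDimAt_eq_localDim_preimage]
  -- the map of fibres induced by `c.π.app i`
  have hfs : ∀ z : c.pt, (t.app i).base ((c.π.app i).base z) = f.base z := by
    intro z
    rw [← Scheme.Hom.comp_apply, hf i]
  let e₀ : ↥(f ⁻¹' {f s}) → ↥((t.app i) ⁻¹' {(t.app i) ((c.π.app i) s)}) := fun z =>
    ⟨(c.π.app i).base z.1, by
      show (t.app i).base ((c.π.app i).base z.1) = (t.app i).base ((c.π.app i).base s)
      rw [hfs, hfs]; exact z.2⟩
  have hemb : Topology.IsEmbedding e₀ := by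
    have h1 : Topology.IsEmbedding (fun z : ↥(f ⁻¹' {f s}) => (c.π.app i).base z.1) :=
      (c.π.app i).isEmbedding.comp Topology.IsEmbedding.subtypeVal
    exact Topology.IsEmbedding.of_comp
      (Continuous.subtype_mk ((c.π.app i).base.hom.continuous.comp continuous_subtype_val) _)
      continuous_subtype_val h1
  have hsurj : Function.Surjective e₀ := by
    rintro ⟨x, hx⟩
    have hx' : (t.app i).base x = (t.app i).base ((c.π.app i).base s) := hx
    have hax : (t.app i₀).base (a.base x) = y := by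
      rw [← Scheme.Hom.comp_apply, t_naturality t j₁.hom, hx', hfs]
    let w : ↥((t.app i₀) ⁻¹' {y}) := ⟨a.base x, hax⟩
    have hw : w ∈ A j₁ := ⟨x, rfl⟩
    have hall : ∀ (j : I) (φ : j ⟶ i₀), a.base x ∈ Set.range (D.map φ).base := by
      intro j φ
      exact hj₁ (Over.mk φ) hw
    obtain ⟨z, hz⟩ := mem_range_π_of_forall hc i₀ (a.base x) hall
    have hz' : a.base ((c.π.app i).base z) = a.base x := by
      rw [← Scheme.Hom.comp_apply, c.w j₁.hom]; exact hz
    have hzx : (c.π.app i).base z = x := a.isEmbedding.injective hz'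
    refine ⟨⟨z, ?_⟩, Subtype.ext hzx⟩
    show f.base z = f.base s
    rw [← hfs z, hzx, hx', hfs]
  have hopen : Topology.IsOpenEmbedding e₀ :=
    ⟨hemb, by rw [hsurj.range_eq]; exact isOpen_univ⟩
  exact le_of_eq (Groth.Agent.Helper5.EtLoc.localDim_of_isOpenEmbedding e₀ hopen ⟨s, rfl⟩).symm

include hc hf in
/-- global stabilisation of the fibre dimension in a limit of closed immersions -/
theorem exists_stage_fibreDimAt_le (hcl : ∀ {i j : I} (a : i ⟶ j), IsClosedImmersion (D.map a))
    (hπ : ∀ i, IsClosedImmersion (c.π.app i))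
    [∀ i, LocallyOfFiniteType (t.app i)] [∀ i, QuasiCompact (t.app i)]
    [∀ i, CompactSpace (D.obj i)] (d : ℕ) (hd : ∀ s : c.pt, FlatMor.fibreDimAt f s ≤ d) :
    ∃ i, ∀ x : D.obj i, FlatMor.fibreDimAt (t.app i) x ≤ d := by
  haveI hAff : ∀ {i j : I} (a : i ⟶ j), IsAffineHom (D.map a) := fun a => by
    haveI := hcl a; infer_instance
  by_contra hcon
  push Not at hcon
  let Z : ∀ i : I, Set (D.obj i) := fun i => {x | FlatMor.fibreDimAt (t.app i) x ≤ d}ᶜ
  have hZc : ∀ i, IsClosed (Z i) := fun i =>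
    (Groth.Agent.S0402.result (t.app i) d).isClosed_compl
  have hZne : ∀ i, (Z i).Nonempty := fun i => by
    obtain ⟨x, hx⟩ := hcon i
    exact ⟨x, not_le.mpr hx⟩
  have hZcpt : ∀ i, IsCompact (Z i) := fun i => (hZc i).isCompact
  have hmaps : ∀ {i i' : I} (a : i ⟶ i'), Set.MapsTo (D.map a).base (Z i) (Z i') := by
    intro i i' a x hx hle
    apply hx
    show FlatMor.fibreDimAt (t.app i) x ≤ d
    haveI := hcl a
    have h1 := fibreDimAt_le_of_isEmbedding (D.map a) (t.app i') (D.map a).isEmbedding x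
    rw [t_naturality t a] at h1
    exact h1.trans hle
  obtain ⟨s, hs⟩ := exists_mem_of_isClosed_of_nonempty D c hc Z hZc hZne hZcpt
    (fun {i i'} a => hmaps a)
  obtain ⟨i, hi⟩ := exists_fibreDimAt_le hc t f hf hcl hπ s
  exact hs i (hi.trans (hd s))

end Groth.Agent.Lead.FibVan
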