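import Groth.Agent.Lead.LimQF
import Groth.Agent.S9358
import Groth.Agent.S0402
open CategoryTheory Limits AlgebraicGeometry Topology

namespace Groth.Agent.Lead.LimDim
open Groth.Agent.Lead.LimFrame Groth.Agent.Lead.LimPullback Groth.Agent.Lead.LimBC
  Groth.Agent.Lead.LimHom Groth.Agent.Lead.LimIso
universe u

/-- locally of finite type with all fibre dimensions at most `d` -/
def relDimLE (d : ℕ) : MorphismProperty Scheme.{u} :=
  fun _ _ f => LocallyOfFiniteType f ∧ ∀ x, FlatMor.fibreDimAt f x ≤ d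

instance (d : ℕ) : (relDimLE.{u} d).IsStableUnderBaseChange where
  of_isPullback {X Y Y' S f g f' g'} sq hg := by
    obtain ⟨h1, h2⟩ := hg
    haveI := h1
    refine ⟨MorphismProperty.of_isPullback sq h1, ?_⟩
    exact (Groth.Agent.S9358.result g f f' g' sq d).2.1 h2

variable {I : Type u} [SmallCategory I] [IsCofiltered I] {D : I ⥤ Scheme.{u}} {c : Cone D}
  (hc : IsLimit c) [∀ {i j : I} (f : i ⟶ j), IsAffineHom (D.map f)] (i₀ : I)
  {X₀ Y₀ : Scheme.{u}} (g₀ : Y₀ ⟶ D.obj i₀) (f₀ : X₀ ⟶ Y₀)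

include hc in
set_option backward.isDefEq.respectTransparency false in
theorem fibreDim_descends [CompactSpace X₀] [QuasiSeparatedSpace X₀] [CompactSpace Y₀]
    [QuasiSeparatedSpace Y₀] [LocallyOfFiniteType f₀] (d : ℕ)
    (h : ∀ x, FlatMor.fibreDimAt (LimFrame.limMap D c i₀ f₀ g₀) x ≤ d) :
    ∃ j : Over i₀, ∀ x, FlatMor.fibreDimAt (stageMap D i₀ f₀ g₀ j) x ≤ d := by
  have hf₀c : QuasiCompact f₀ := inferInstance
  have hπ : IsAffineHom (c.π.app i₀) := isAffineHom_π_app D c hc i₀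
  let q := pullback.snd (c.π.app i₀) g₀
  have hq : IsAffineHom q := MorphismProperty.pullback_snd _ _ hπ
  let F := LimFrame.limMap D c i₀ f₀ g₀
  let pr := pullback.fst f₀ q
  have hpr : IsAffineHom pr := MorphismProperty.pullback_fst _ _ hq
  have hXc : CompactSpace ↥(pullback f₀ q) := QuasiCompact.compactSpace_of_compactSpace pr
  let U : X₀.Opens := ⟨{x | FlatMor.fibreDimAt f₀ x ≤ d}, Groth.Agent.S0402.result f₀ d⟩
  -- (1) the image of `X` lies in `U`
  have h1 : ∀ x : ↥(pullback f₀ q), pr.base x ∈ U := by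
    intro x
    show FlatMor.fibreDimAt f₀ (pr.base x) ≤ d
    rw [← (Groth.Agent.S9358.result f₀ q pr F (IsPullback.of_hasPullback f₀ q) d).1 x]
    exact h x
  -- (2) a compact open inside `U` containing the image of `X`
  have hK : IsCompact (Set.range pr.base) := isCompact_range pr.base.hom.continuous
  have hKU : Set.range pr.base ⊆ (U : Set X₀) := by
    rintro _ ⟨x, rfl⟩; exact h1 x
  obtain ⟨W, hWo, hWc, hKW, hWU⟩ :=
    LimImm.exists_compact_open_between hK U.2 hKU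
  have hE : IsConstructible Wᶜ := (hWc.isConstructible hWo).compl
  -- (3) the image of some `X_j` lies in `W`
  have hemp : (pullback.snd (c.π.app i₀) (f₀ ≫ g₀)).base ⁻¹' Wᶜ = ∅ := by
    rw [Set.eq_empty_iff_forall_notMem]
    intro z hz
    apply hz
    apply hKW
    refine ⟨(bcIso (c.π.app i₀) f₀ g₀).hom.base z, ?_⟩
    rw [← Scheme.Hom.comp_apply, bcIso_hom_fst]
  obtain ⟨j, hj⟩ := LimSurj.exists_preimage_eq_empty hc i₀ (f₀ ≫ g₀) Wᶜ hE hemp
  refine ⟨j, fun x => ?_⟩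
  rw [(Groth.Agent.S9358.result f₀ (pullback.snd (D.map j.hom) g₀)
    (pullback.fst f₀ (pullback.snd (D.map j.hom) g₀)) (stageMap D i₀ f₀ g₀ j)
    (IsPullback.of_hasPullback _ _) d).1 x]
  apply hWU
  by_contra hx
  have : (bcIso (D.map j.hom) f₀ g₀).inv.base x ∈
      (pullback.snd (D.map j.hom) (f₀ ≫ g₀)).base ⁻¹' Wᶜ := by
    change (pullback.snd (D.map j.hom) (f₀ ≫ g₀)).base ((bcIso (D.map j.hom) f₀ g₀).inv.base x) ∈ Wᶜ
    rw [← Scheme.Hom.comp_apply, ← bcIso_hom_fst, Iso.inv_hom_id_assoc]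
    exact hx
  rw [hj] at this
  exact this

include hc in
theorem main [CompactSpace X₀] [QuasiSeparatedSpace X₀] [CompactSpace Y₀]
    [QuasiSeparatedSpace Y₀] [LocallyOfFiniteType f₀] (d : ℕ)
    {X Y : Scheme.{u}} (f : X ⟶ Y) (g : Y ⟶ c.pt) (qY : Y ⟶ Y₀) (qX : X ⟶ X₀)
    (hY : IsPullback qY g g₀ (c.π.app i₀)) (hX : IsPullback qX f f₀ qY)
    (hd : ∀ x : X, FlatMor.fibreDimAt f x ≤ d) :
    ∃ (i : I) (φ : i ⟶ i₀) (Xi Yi : Scheme.{u}) (fi : Xi ⟶ Yi) (gi : Yi ⟶ D.obj i) (pY : Yi ⟶ Y₀)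
      (pX : Xi ⟶ X₀), IsPullback pY gi g₀ (D.map φ) ∧ IsPullback pX fi f₀ pY ∧
        ∀ x : Xi, FlatMor.fibreDimAt fi x ≤ d := by
  have hflft : LocallyOfFiniteType f := MorphismProperty.of_isPullback hX inferInstance
  have h1 := Groth.Agent.Lead.LimFrame.frame_in (P := relDimLE d) hY hX ⟨hflft, hd⟩
  obtain ⟨j, hj⟩ := fibreDim_descends hc i₀ g₀ f₀ d h1.2
  exact Groth.Agent.Lead.LimFrame.frame_out (P := fun _ _ f => ∀ x, FlatMor.fibreDimAt f x ≤ d) j hj

end Groth.Agent.Lead.LimDim
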