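import Mathlib
import Groth.Agent.Lead.FibVanB
import Groth.Agent.Lead.QcohVan
import Groth.Agent.Lead.LimDim
import Groth.Agent.Lead.PropStage
import Groth.Agent.Lead.RpushBCB
import Groth.Agent.S9358
import Groth.Agent.S0590
import Groth.Agent.S7409
import Groth.Agent.S2079

/-!
# Quasi-coherent cohomology vanishes above the fibre dimension: proper morphisms over any base
-/

set_option autoImplicit false
set_option linter.unusedSectionVars false
set_option linter.style.haveILetI false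

open CategoryTheory Limits AlgebraicGeometry TopologicalSpace Opposite

universe u

namespace Groth.Agent.Lead.FibVan

/-- the fibre dimension is unchanged by an isomorphism of the base -/
theorem fibreDimAt_comp_iso_le {X Y Y' : Scheme.{u}} (f : X ⟶ Y) [LocallyOfFiniteType f]
    (e : Y ⟶ Y') [IsIso e] (d : ℕ) (hd : ∀ x : X, FlatMor.fibreDimAt f x ≤ d) (x : X) :
    FlatMor.fibreDimAt (f ≫ e) x ≤ d := by
  have sq : IsPullback (𝟙 X) (f ≫ e) f (inv e) := IsPullback.of_horiz_isIso ⟨by simp⟩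
  exact (Groth.Agent.S9358.result f (inv e) (𝟙 X) (f ≫ e) sq d).2.1 hd x

/-- proper over an affine Noetherian base, fibres of dimension `≤ d` -/
theorem subsingleton_HH_affine_noeth {X S : Scheme.{u}} (h : X ⟶ S) [IsProper h] [IsAffine S]
    [IsLocallyNoetherian S] (d : ℕ) (hd : ∀ x : X, FlatMor.fibreDimAt h x ≤ d)
    (N : X.Modules) [N.IsQuasicoherent] (p : ℕ) (hp : d < p) : Subsingleton (Coh.HH X N p) := by
  haveI : IsNoetherianRing Γ(S, ⊤) :=
    IsLocallyNoetherian.component_noetherian ⟨⊤, isAffineOpen_top S⟩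
  let h' : X ⟶ Spec (CommRingCat.of Γ(S, ⊤)) := h ≫ S.isoSpec.hom
  haveI : IsProper h' := inferInstanceAs (IsProper (h ≫ S.isoSpec.hom))
  have hd' : ∀ x : X, FlatMor.fibreDimAt h' x ≤ d :=
    fibreDimAt_comp_iso_le h S.isoSpec.hom d hd
  exact Groth.Agent.Lead.QcohVan.subsingleton_HH_qcoh_of_fibres Γ(S, ⊤) X h' d
    (fiber_dim_le_of_forall h' d hd') N inferInstance p hp

set_option maxHeartbeats 800000 in
/-- finitely presented case, by Noetherian approximation -/
theorem subsingleton_HH_fp {X Y : Scheme.{u}} (f : X ⟶ Y) [IsProper f]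
    [LocallyOfFinitePresentation f] [IsAffine Y] (d : ℕ)
    (hd : ∀ x : X, FlatMor.fibreDimAt f x ≤ d) (F : X.Modules) [F.IsQuasicoherent] (p : ℕ)
    (hp : d < p) : Subsingleton (Coh.HH X F p) := by
  obtain ⟨Λ, _, _, _, DS, cS, hcS, haff, hD, ⟨eS⟩⟩ := Groth.Agent.S0590.result Y
  haveI : ∀ (i j : Λᵒᵖ) (f : i ⟶ j), IsAffineHom (DS.map f) := haff
  haveI hA' : ∀ {i j : Λᵒᵖ} (f : i ⟶ j), IsAffineHom (DS.map f) := fun f ↦ haff _ _ f
  haveI : ∀ i, CompactSpace (DS.obj i) := fun i ↦ (hD i).1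
  haveI hln : ∀ i, IsLocallyNoetherian (DS.obj i) := by
    intro i
    haveI := (hD i).2
    haveI : IsNoetherianRing (ULift.{u} ℤ) :=
      isNoetherianRing_of_ringEquiv ℤ (ULift.ringEquiv : ULift.{u} ℤ ≃+* ℤ).symm
    haveI : IsLocallyNoetherian (Spec (CommRingCat.of (ULift.{u} ℤ))) := inferInstance
    exact LocallyOfFiniteType.isLocallyNoetherian (specULiftZIsTerminal.from (DS.obj i))
  haveI hqs : ∀ i, QuasiSeparatedSpace (DS.obj i) := fun i => inferInstance
  haveI : IsFiltered Λ := inferInstance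
  -- an affine stage
  haveI : IsAffine cS.pt := IsAffine.of_isIso eS.hom
  obtain ⟨ia, hia⟩ := Scheme.exists_isAffine_of_isLimit DS cS hcS
  -- descend `f`
  haveI : IsProper (f ≫ eS.inv) := inferInstance
  haveI : LocallyOfFinitePresentation (f ≫ eS.inv) := inferInstance
  obtain ⟨i', W, w, gW, hw1, hw2, hsq⟩ :=
    Groth.Agent.Lead.PropStage.descend_proper_fp (fun f => Groth.Agent.S7409.result f)
      DS cS hcS (f ≫ eS.inv)
  haveI := hw1
  haveI := hw2
  -- move to a stage below `ia`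
  let k₀ : Λᵒᵖ := IsCofiltered.min i' ia
  let u : k₀ ⟶ i' := IsCofiltered.minToLeft i' ia
  let v : k₀ ⟶ ia := IsCofiltered.minToRight i' ia
  let W₀ := pullback w (DS.map u)
  let w₀ : W₀ ⟶ DS.obj k₀ := pullback.snd w (DS.map u)
  have hW₀ : IsPullback (pullback.fst w (DS.map u)) w₀ w (DS.map u) := IsPullback.of_hasPullback _ _
  haveI : IsProper w₀ := MorphismProperty.pullback_snd _ _ hw1
  have hcomm : gW ≫ w = ((f ≫ eS.inv) ≫ cS.π.app k₀) ≫ DS.map u := by
    rw [hsq.w]; simp only [Category.assoc, cS.w]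
  let gW₀ : X ⟶ W₀ := pullback.lift gW ((f ≫ eS.inv) ≫ cS.π.app k₀) hcomm
  have hsq₀ : IsPullback gW₀ (f ≫ eS.inv) w₀ (cS.π.app k₀) := by
    have s : IsPullback (gW₀ ≫ pullback.fst w (DS.map u)) (f ≫ eS.inv) w
        (cS.π.app k₀ ≫ DS.map u) := by
      rw [pullback.lift_fst, cS.w u]; exact hsq
    exact IsPullback.of_right s (pullback.lift_snd _ _ _) hW₀
  haveI : CompactSpace W₀ := QuasiCompact.compactSpace_of_compactSpace w₀
  haveI : QuasiSeparatedSpace W₀ := quasiSeparatedSpace_of_quasiSeparated w₀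
  have hd' : ∀ x : X, FlatMor.fibreDimAt (f ≫ eS.inv) x ≤ d :=
    fibreDimAt_comp_iso_le f eS.inv d hd
  have hY : IsPullback (cS.π.app k₀) (𝟙 cS.pt) (𝟙 (DS.obj k₀)) (cS.π.app k₀) :=
    IsPullback.id_vert _
  obtain ⟨i, φ, Xi, Yi, fi, gi, pY, pX, h1, h2, hdi⟩ :=
    Groth.Agent.Lead.LimDim.main hcS k₀ (𝟙 (DS.obj k₀)) w₀ d (f ≫ eS.inv) (𝟙 cS.pt)
      (cS.π.app k₀) gW₀ hY hsq₀ hd'
  haveI : IsIso gi := h1.isIso_snd_of_isIso
  have hp' : IsPullback pX (fi ≫ gi) (w₀ ≫ 𝟙 _) (DS.map φ) := h2.paste_vert h1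
  rw [Category.comp_id] at hp'
  haveI : IsProper (fi ≫ gi) := MorphismProperty.of_isPullback hp' inferInstance
  haveI : IsProper fi := MorphismProperty.of_isPullback h2 inferInstance
  have hdi' : ∀ x : Xi, FlatMor.fibreDimAt (fi ≫ gi) x ≤ d := fibreDimAt_comp_iso_le fi gi d hdi
  -- the stage is affine
  haveI : IsAffine (DS.obj ia) := hia
  haveI : IsAffine (DS.obj i) := isAffine_of_isAffineHom (DS.map (φ ≫ v))
  -- the map `X ⟶ Xi`
  have hw' : gW₀ ≫ w₀ = ((f ≫ eS.inv) ≫ cS.π.app i) ≫ DS.map φ := by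
    rw [hsq₀.w]; simp only [Category.assoc, cS.w]
  let gX : X ⟶ Xi := hp'.lift gW₀ ((f ≫ eS.inv) ≫ cS.π.app i) hw'
  have hsqX : IsPullback gX (f ≫ eS.inv) (fi ≫ gi) (cS.π.app i) := by
    have s : IsPullback (gX ≫ pX) (f ≫ eS.inv) w₀ (cS.π.app i ≫ DS.map φ) := by
      rw [hp'.lift_fst, cS.w φ]; exact hsq₀
    exact IsPullback.of_right s (hp'.lift_snd _ _ _) hp'
  haveI : IsAffineHom (cS.π.app i) := isAffineHom_π_app DS cS hcS i
  haveI : IsAffineHom gX := MorphismProperty.of_isPullback hsqX.flip inferInstance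
  haveI : ((Scheme.Modules.pushforward gX).obj F).IsQuasicoherent :=
    Groth.Agent.Helper4.QcohGlue.isQuasicoherent_pushforward gX F
  apply Groth.Agent.Lead.RpushBC.subsingleton_HH_of_isAffineHom gX F p
  exact subsingleton_HH_affine_noeth (fi ≫ gi) d hdi' _ p hp

end Groth.Agent.Lead.FibVan
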