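import Mathlib
import Groth.Agent.Lead.FibVanC

/-!
# Quasi-coherent cohomology vanishes above the fibre dimension: general proper morphisms
-/

set_option autoImplicit false
set_option linter.unusedSectionVars false
set_option linter.style.haveILetI false

open CategoryTheory Limits AlgebraicGeometry TopologicalSpace Opposite

universe u

namespace Groth.Agent.Lead.FibVan

set_option maxHeartbeats 800000 in
/-- **Theorem C**: proper over an affine base with fibres of dimension `≤ d`: quasi-coherent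
cohomology vanishes above `d`. -/
theorem subsingleton_HH_of_fibreDimAt {X Y : Scheme.{u}} (f : X ⟶ Y) [IsProper f] [IsAffine Y]
    (d : ℕ) (hd : ∀ x : X, FlatMor.fibreDimAt f x ≤ d) (F : X.Modules) [F.IsQuasicoherent]
    (p : ℕ) (hp : d < p) : Subsingleton (Coh.HH X F p) := by
  obtain ⟨I, _, _, D, c, hc, e, hcl, h2⟩ := Groth.Agent.S2079.result f
  let D' : I ⥤ Scheme.{u} := D ⋙ Over.forget Y
  let c' : Cone D' := (Over.forget Y).mapCone c
  have hc' : IsLimit c' := isLimitOfPreserves (Over.forget Y) hc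
  let t : D' ⟶ (Functor.const I).obj Y :=
    { app := fun i => (D.obj i).hom
      naturality := fun i j a => by
        simp only [Functor.const_obj_obj, Functor.const_obj_map, Category.comp_id]
        exact Over.w (D.map a) }
  have hf : ∀ i, c'.π.app i ≫ t.app i = c.pt.hom := fun i => Over.w (c.π.app i)
  have hcl' : ∀ {i j : I} (a : i ⟶ j), IsClosedImmersion (D'.map a) := fun {i j} a => hcl i j a
  have hπ' : ∀ i, IsClosedImmersion (c'.π.app i) := fun i => (h2 i).1
  haveI : ∀ i, IsProper (t.app i) := fun i => (h2 i).2.1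
  haveI : ∀ i, LocallyOfFiniteType (t.app i) := fun i => inferInstance
  haveI : ∀ i, QuasiCompact (t.app i) := fun i => inferInstance
  haveI : ∀ i, CompactSpace (D'.obj i) := fun i => by
    haveI : IsProper (D.obj i).hom := (h2 i).2.1
    exact QuasiCompact.compactSpace_of_compactSpace (D.obj i).hom
  -- the fibre dimensions of the limit
  haveI : IsIso e.hom.left := inferInstanceAs (IsIso ((Over.forget Y).map e.hom))
  have hcpt : c.pt.hom = e.hom.left ≫ f := (Over.w e.hom).symm
  have hd' : ∀ s : c'.pt, FlatMor.fibreDimAt c.pt.hom s ≤ d := by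
    intro s
    rw [hcpt]
    exact (fibreDimAt_le_of_isEmbedding e.hom.left f
      e.hom.left.isOpenEmbedding.isEmbedding s).trans (hd _)
  obtain ⟨i, hi⟩ := exists_stage_fibreDimAt_le hc' t c.pt.hom hf hcl' hπ' d hd'
  -- reduce to the stage
  haveI : IsIso e.inv.left := inferInstanceAs (IsIso ((Over.forget Y).map e.inv))
  haveI : IsClosedImmersion (c.π.app i).left := (h2 i).1
  let j : X ⟶ (D.obj i).left := e.inv.left ≫ (c.π.app i).left
  haveI : IsClosedImmersion j := inferInstance
  haveI : IsAffineHom j := inferInstance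
  haveI : ((Scheme.Modules.pushforward j).obj F).IsQuasicoherent :=
    Groth.Agent.Helper4.QcohGlue.isQuasicoherent_pushforward j F
  apply Groth.Agent.Lead.RpushBC.subsingleton_HH_of_isAffineHom j F p
  haveI : IsProper (D.obj i).hom := (h2 i).2.1
  haveI : LocallyOfFinitePresentation (D.obj i).hom := (h2 i).2.2
  exact subsingleton_HH_fp (D.obj i).hom d hi _ p hp

/-- **higher direct images vanish above the fibre dimension** (any base) -/
theorem isZero_RpushAb_of_fibreDimAt {X Y : Scheme.{u}} (f : X ⟶ Y) [IsProper f] (d : ℕ)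
    (hd : ∀ x : X, FlatMor.fibreDimAt f x ≤ d) (M : X.Modules) [M.IsQuasicoherent] (i : ℕ)
    (hi : d < i) : IsZero ((Coh.RpushAb f i).obj (Coh.toAb M)) := by
  obtain ⟨e⟩ := Groth.Agent.S0461.result f.base (Coh.toAb M) i
  refine IsZero.of_iso ?_ e
  apply Groth.Agent.Helper1.Serre.isZero_sheafify_of_basis _ {W : Y.Opens | IsAffineOpen W}
  · exact Y.isBasis_affineOpens
  · intro W0 hW0
    obtain ⟨W, hWW0⟩ : ∃ W : Y.Opens, W = W0 := ⟨W0, rfl⟩
    subst hWW0
    have hW' : IsAffineOpen W := hW0
    show Subsingleton (CohTop.HU (Coh.toAb M) i (f ⁻¹ᵁ W))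
    obtain ⟨e2⟩ := Groth.Agent.Helper1.HHonHU.nonempty_HHon_HU X M (f ⁻¹ᵁ W) i
    suffices h : Subsingleton (Coh.HHon X M (f ⁻¹ᵁ W) i) from e2.symm.toEquiv.subsingleton
    haveI : IsAffine W.toScheme := hW'
    have sq : IsPullback (f ⁻¹ᵁ W).ι (f ∣_ W) f W.ι := (isPullback_morphismRestrict f W).flip
    haveI : IsProper (f ∣_ W) := MorphismProperty.of_isPullback sq inferInstance
    have hdW : ∀ x : (f ⁻¹ᵁ W).toScheme, FlatMor.fibreDimAt (f ∣_ W) x ≤ d :=
      (Groth.Agent.S9358.result f W.ι (f ⁻¹ᵁ W).ι (f ∣_ W) sq d).2.1 hd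
    haveI : (M.restrict (f ⁻¹ᵁ W).ι).IsQuasicoherent := inferInstance
    exact subsingleton_HH_of_fibreDimAt (f ∣_ W) d hdW (M.restrict (f ⁻¹ᵁ W).ι) i hi

end Groth.Agent.Lead.FibVan
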