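import Mathlib
import Groth.Agent.Lead.FibVanD

/-!
# Vanishing of higher direct images above the fibre dimension near a point
-/

set_option autoImplicit false
set_option linter.unusedSectionVars false
set_option linter.style.haveILetI false

open CategoryTheory Limits AlgebraicGeometry TopologicalSpace Opposite

universe u

namespace Groth.Agent.Lead.FibVan

open Groth.Agent.Helper1.CohTopFun

/-- an affine open neighbourhood of `y` over which all fibres have dimension `≤ d` -/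
theorem exists_affine_nhd_fibreDimAt_le {X Y : Scheme.{u}} (f : X ⟶ Y) [IsProper f] (y : Y)
    (d : ℕ) (hd : topologicalKrullDim ↥(f.fiber y) ≤ d) :
    ∃ V : Y.Opens, y ∈ V ∧ IsAffineOpen V ∧ IsProper (f ∣_ V) ∧
      ∀ x : (f ⁻¹ᵁ V).toScheme, FlatMor.fibreDimAt (f ∣_ V) x ≤ d := by
  let U : Set X := {x | FlatMor.fibreDimAt f x ≤ d}
  have hU : IsOpen U := Groth.Agent.S0402.result f d
  have hC : IsClosed (f.base '' Uᶜ) := f.isClosedMap _ hU.isClosed_compl
  have hyC : y ∈ (f.base '' Uᶜ)ᶜ := by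
    rintro ⟨x, hxU, hxy⟩
    exact hxU ((fiber_dim_le_iff f y d).1 hd x hxy)
  obtain ⟨V0, hV0, hyV0, hVle0⟩ := Opens.isBasis_iff_nbhd.mp Y.isBasis_affineOpens
    (show y ∈ (⟨(f.base '' Uᶜ)ᶜ, hC.isOpen_compl⟩ : Y.Opens) from hyC)
  obtain ⟨V, hVV0⟩ : ∃ V : Y.Opens, V = V0 := ⟨V0, rfl⟩
  subst hVV0
  have hV : IsAffineOpen V := hV0
  have hyV : y ∈ V := hyV0
  have hVle : V ≤ (⟨(f.base '' Uᶜ)ᶜ, hC.isOpen_compl⟩ : Y.Opens) := hVle0
  have sq : IsPullback (f ⁻¹ᵁ V).ι (f ∣_ V) f V.ι := (isPullback_morphismRestrict f V).flip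
  refine ⟨V, hyV, hV, MorphismProperty.of_isPullback sq inferInstance, fun x => ?_⟩
  rw [(Groth.Agent.S9358.result f V.ι (f ⁻¹ᵁ V).ι (f ∣_ V) sq d).1 x]
  by_contra hx
  have hx' : (f ⁻¹ᵁ V).ι.base x ∈ Uᶜ := hx
  have h1 : f.base ((f ⁻¹ᵁ V).ι.base x) ∈ f.base '' Uᶜ := ⟨_, hx', rfl⟩
  have h2 : f.base ((f ⁻¹ᵁ V).ι.base x) ∈ V := x.2
  exact hVle h2 h1

/-- a sheaf whose restriction to an open neighbourhood of `y` vanishes has zero stalk at `y` -/
theorem isZero_stalk_of_isZero_restr {Y : TopCat.{u}} (G : CohTop.Ab Y) (V : Opens Y) (y : Y)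
    (hy : y ∈ V) (hz : IsZero ((CohTop.restrFunctor V).obj G)) :
    IsZero (TopCat.Presheaf.stalk G.obj y) := by
  suffices h : ∀ t : ↑(TopCat.Presheaf.stalk G.obj y), t = 0 by
    haveI : Subsingleton ↑(TopCat.Presheaf.stalk G.obj y) := ⟨fun a b => by rw [h a, h b]⟩
    exact AddCommGrpCat.isZero_of_subsingleton _
  intro t
  obtain ⟨W, hyW, s, rfl⟩ := TopCat.Presheaf.germ_exist G.obj (x := y) t
  let W' : Opens (TopCat.of V) := (Opens.map V.inclusion').obj W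
  have hle : jObj V W' ≤ W := by
    rintro _ ⟨z, hz, rfl⟩; exact hz
  have hy' : y ∈ jObj V W' := ⟨⟨y, hy⟩, hyW, rfl⟩
  have hsec : IsZero (((CohTop.restrFunctor V).obj G).obj.obj (op W')) :=
    Functor.map_isZero (sheafSections _ _ |>.obj (op W')) hz
  haveI : Subsingleton ↑(G.obj.obj (op (jObj V W'))) := AddCommGrpCat.subsingleton_of_isZero hsec
  rw [← TopCat.Presheaf.germ_res_apply G.obj (homOfLE hle) y hy' s]
  have h0 : (ConcreteCategory.hom (G.obj.map (homOfLE hle).op)) s = 0 := Subsingleton.elim _ _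
  rw [h0, map_zero]

/-- the stalk of `R^i f_* M` vanishes above the dimension of the fibre -/
theorem isZero_stalk_RpushAb {X Y : Scheme.{u}} (f : X ⟶ Y) [IsProper f] (y : Y) (d : ℕ)
    (hd : topologicalKrullDim ↥(f.fiber y) ≤ d) (M : X.Modules) [M.IsQuasicoherent] (i : ℕ)
    (hi : d < i) :
    IsZero (TopCat.Presheaf.stalk ((Coh.RpushAb f i).obj (Coh.toAb M)).obj y) := by
  obtain ⟨V, hyV, hV, hprop, hdV⟩ := exists_affine_nhd_fibreDimAt_le f y d hd
  haveI := hprop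
  haveI : (M.restrict (f ⁻¹ᵁ V).ι).IsQuasicoherent := inferInstance
  have hz' := isZero_RpushAb_of_fibreDimAt (f ∣_ V) d hdV (M.restrict (f ⁻¹ᵁ V).ι) i hi
  obtain ⟨e1⟩ := nonempty_iso_restr_Rpush f.base V i (Coh.toAb M)
  have h2 : IsZero ((CohTop.Rpush (gV f.base V) i).obj
      (Coh.toAb (M.restrict (f ⁻¹ᵁ V).ι))) :=
    Groth.Agent.Lead.RpushBC.isZero_Rpush_of_eq (Groth.Agent.Lead.RpushBC.base_eq f V) i _ hz'
  have h3 : IsZero ((CohTop.restrFunctor V).obj ((Coh.RpushAb f i).obj (Coh.toAb M))) :=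
    IsZero.of_iso h2 e1
  exact isZero_stalk_of_isZero_restr _ V y hyV h3

end Groth.Agent.Lead.FibVan
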