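import Mathlib

set_option autoImplicit false
universe u
open CategoryTheory CategoryTheory.Limits AlgebraicGeometry TensorProduct

namespace Groth.Agent.Lead.FibreCI

/-- a finite algebra map which is surjective on all fibres is surjective -/
theorem surjective_of_fiber_surjective {R S : Type u} [CommRing R] [CommRing S] [Algebra R S]
    [Module.Finite R S]
    (h : ∀ p : PrimeSpectrum R,
      Function.Surjective (algebraMap p.asIdeal.ResidueField (p.asIdeal.Fiber S))) :
    Function.Surjective (algebraMap R S) := by
  let N : Submodule R S := LinearMap.range (Algebra.linearMap R S)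
  have hsub : Subsingleton (S ⧸ N) := by
    rw [← Module.support_eq_empty_iff (R := R)]
    ext p
    simp only [Set.mem_empty_iff_false, iff_false]
    rw [Module.mem_support_iff_nontrivial_residueField_tensorProduct,
      not_nontrivial_iff_subsingleton]
    refine ⟨fun a b => ?_⟩
    have key : ∀ z : p.asIdeal.ResidueField ⊗[R] (S ⧸ N), z = 0 := by
      intro z
      obtain ⟨w, rfl⟩ := LinearMap.lTensor_surjective p.asIdeal.ResidueField
        (Submodule.mkQ_surjective N) z
      obtain ⟨k, rfl⟩ := h p w
      have : algebraMap p.asIdeal.ResidueField (p.asIdeal.Fiber S) k = k ⊗ₜ[R] (1 : S) := by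
        rw [Algebra.TensorProduct.algebraMap_apply]
        simp
      rw [this, LinearMap.lTensor_tmul]
      have h1 : N.mkQ (1 : S) = 0 := by
        rw [Submodule.mkQ_apply, Submodule.Quotient.mk_eq_zero]
        exact ⟨1, by simp⟩
      rw [h1, TensorProduct.tmul_zero]
    rw [key a, key b]
  intro s
  have : (Submodule.Quotient.mk s : S ⧸ N) = 0 := Subsingleton.elim _ _
  rw [Submodule.Quotient.mk_eq_zero] at this
  obtain ⟨r, hr⟩ := this
  exact ⟨r, hr⟩


theorem surjective_of_isClosedImmersion_SpecMap {R S : CommRingCat.{u}} (φ : R ⟶ S)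
    [IsClosedImmersion (Spec.map φ)] : Function.Surjective φ.hom := by
  have h := (HasAffineProperty.iff_of_isAffine (P := @IsClosedImmersion)).mp
    (inferInstance : IsClosedImmersion (Spec.map φ))
  exact (RingHom.surjective_respectsIso.arrow_mk_iso_iff (arrowIsoΓSpecOfIsAffine φ)).mpr h.2

theorem isClosedImmersion_SpecMap_of_fiber {R S : Type u} [CommRing R] [CommRing S]
    [Algebra R S] [Module.Finite R S]
    (h : ∀ p : PrimeSpectrum R, IsClosedImmersion
      ((Spec.map (CommRingCat.ofHom (algebraMap R S))).fiberToSpecResidueField p)) :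
    IsClosedImmersion (Spec.map (CommRingCat.ofHom (algebraMap R S))) := by
  apply IsClosedImmersion.spec_of_surjective
  apply surjective_of_fiber_surjective
  intro p
  haveI : IsClosedImmersion (Spec.map (CommRingCat.ofHom
      (algebraMap p.asIdeal.ResidueField (p.asIdeal.Fiber S)))) :=
    (MorphismProperty.arrow_mk_iso_iff @IsClosedImmersion
      (Spec.fiberToSpecResidueFieldIso R S p)).mp (h p)
  exact surjective_of_isClosedImmersion_SpecMap (CommRingCat.ofHom
      (algebraMap p.asIdeal.ResidueField (p.asIdeal.Fiber S)))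

/-- fibre maps of a base change are base changes of fibre maps -/
theorem fiber_isClosedImmersion_of_isPullback {P X Y Z : Scheme.{u}} {fst : P ⟶ X}
    {snd : P ⟶ Y} {f : X ⟶ Z} {g : Y ⟶ Z} (h : IsPullback fst snd f g)
    (hf : ∀ z : Z, IsClosedImmersion (f.fiberToSpecResidueField z)) (y : Y) :
    IsClosedImmersion (snd.fiberToSpecResidueField y) :=
  MorphismProperty.of_isPullback (P := @IsClosedImmersion)
    (isPullback_fiberToSpecResidueField_of_isPullback h y) (hf (g y))

theorem isClosedImmersion_of_isFinite_of_fiber_aux {X : Scheme.{u}} {R : CommRingCat.{u}}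
    (f : X ⟶ Spec R) [IsFinite f]
    (h : ∀ y, IsClosedImmersion (f.fiberToSpecResidueField y)) : IsClosedImmersion f := by
  haveI : IsAffine X := isAffine_of_isAffineHom f
  obtain ⟨φ, hφ⟩ := Spec.map_surjective (X.isoSpec.inv ≫ f)
  have hfin : IsFinite (Spec.map φ) := by rw [hφ]; infer_instance
  have hpb : IsPullback X.isoSpec.inv (Spec.map φ) f (𝟙 _) :=
    IsPullback.of_horiz_isIso ⟨by rw [hφ, Category.comp_id]⟩
  have hfib := fiber_isClosedImmersion_of_isPullback hpb h
  letI : Algebra R Γ(X, ⊤) := φ.hom.toAlgebra
  haveI : Module.Finite R Γ(X, ⊤) := (IsFinite.SpecMap_iff φ).mp hfin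
  have hφ' : CommRingCat.ofHom (algebraMap R Γ(X, ⊤)) = φ := rfl
  have := isClosedImmersion_SpecMap_of_fiber (R := R) (S := Γ(X, ⊤)) (by
    intro p
    rw [hφ']
    exact hfib p)
  rw [hφ', hφ] at this
  have h2 : f = X.isoSpec.hom ≫ (X.isoSpec.inv ≫ f) := by simp
  rw [h2]
  infer_instance

/-- a finite morphism all of whose fibres are closed subschemes of the spectrum of the residue
field is a closed immersion -/
theorem isClosedImmersion_of_isFinite_of_fiber {X Y : Scheme.{u}} (f : X ⟶ Y) [IsFinite f]
    (h : ∀ y : Y, IsClosedImmersion (f.fiberToSpecResidueField y)) : IsClosedImmersion f := by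
  rw [IsZariskiLocalAtTarget.iff_of_openCover (P := @IsClosedImmersion) Y.affineCover]
  intro i
  have hpb : IsPullback (pullback.fst f (Y.affineCover.f i)) (pullback.snd f (Y.affineCover.f i))
      f (Y.affineCover.f i) := IsPullback.of_hasPullback _ _
  have hfin : IsFinite (pullback.snd f (Y.affineCover.f i)) := inferInstance
  exact @isClosedImmersion_of_isFinite_of_fiber_aux _ _ (pullback.snd f (Y.affineCover.f i)) hfin
    (fiber_isClosedImmersion_of_isPullback hpb h)

end Groth.Agent.Lead.FibreCI
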