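import Mathlib
open CategoryTheory Limits AlgebraicGeometry

namespace Groth.Agent.Lead.FieldPoint
universe u
variable {T : Scheme.{u}}

section chain
variable (c : Set T.IdealSheafData)

/-- the diagram of closed subschemes in a chain -/
noncomputable def chainDiag : (↥c)ᵒᵖ ⥤ Over T where
  obj I := Over.mk I.unop.1.subschemeι
  map {I J} h := Over.homMk (Scheme.IdealSheafData.inclusion (leOfHom h.unop))
    (Scheme.IdealSheafData.inclusion_subschemeι _)
  map_id I := by
    ext
    exact Scheme.IdealSheafData.inclusion_id _
  map_comp f g := by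
    ext
    exact (Scheme.IdealSheafData.inclusion_comp _ _).symm

/-- the cone with point the intersection -/
noncomputable def chainCone : Cone (chainDiag c) where
  pt := Over.mk (sSup c).subschemeι
  π :=
  { app := fun I ↦ Over.homMk (U := Over.mk (sSup c).subschemeι) (V := Over.mk I.unop.1.subschemeι)
      (Scheme.IdealSheafData.inclusion (le_sSup I.unop.2))
      (Scheme.IdealSheafData.inclusion_subschemeι _)
    naturality := fun I J h ↦ by
      ext
      simp only [Functor.const_obj_obj, Functor.const_obj_map, Category.id_comp, chainDiag,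
        Over.comp_left, Over.homMk_left]
      exact (Scheme.IdealSheafData.inclusion_comp _ _).symm }

theorem le_ker_of_cone (s : Cone (chainDiag c)) : sSup c ≤ s.pt.hom.ker := by
  refine sSup_le fun I hI ↦ ?_
  have h1 : (s.π.app (Opposite.op ⟨I, hI⟩)).left ≫ I.subschemeι = s.pt.hom :=
    Over.w (s.π.app (Opposite.op ⟨I, hI⟩))
  have h2 := Scheme.Hom.le_ker_comp (s.π.app (Opposite.op ⟨I, hI⟩)).left I.subschemeι
  rw [← h1]
  exact (Scheme.IdealSheafData.ker_subschemeι I).symm.le.trans h2

noncomputable def chainLift (s : Cone (chainDiag c)) : s.pt.left ⟶ (sSup c).subscheme :=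
  IsClosedImmersion.lift (sSup c).subschemeι s.pt.hom (by
    rw [Scheme.IdealSheafData.ker_subschemeι]; exact le_ker_of_cone c s)

theorem chainLift_fac (s : Cone (chainDiag c)) : chainLift c s ≫ (sSup c).subschemeι = s.pt.hom :=
  IsClosedImmersion.lift_fac _ _ _

noncomputable def chainConeIsLimit : IsLimit (chainCone c) where
  lift s := Over.homMk (U := s.pt) (V := Over.mk (sSup c).subschemeι) (chainLift c s)
    (chainLift_fac c s)
  fac s I := by
    ext
    have h1 : (s.π.app I).left ≫ I.unop.1.subschemeι = s.pt.hom := Over.w (s.π.app I)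
    change chainLift c s ≫ Scheme.IdealSheafData.inclusion (le_sSup I.unop.2) = (s.π.app I).left
    apply (cancel_mono I.unop.1.subschemeι).mp
    rw [Category.assoc, Scheme.IdealSheafData.inclusion_subschemeι, chainLift_fac]
    exact h1.symm
  uniq s m hm := by
    ext
    have h1 : m.left ≫ (sSup c).subschemeι = s.pt.hom := Over.w m
    change m.left = chainLift c s
    apply (cancel_mono (sSup c).subschemeι).mp
    rw [chainLift_fac]
    exact h1

end chain

end Groth.Agent.Lead.FieldPoint
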