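import Groth.Agent.Lead.FieldPoint1
open CategoryTheory Limits AlgebraicGeometry TopologicalSpace

namespace Groth.Agent.Lead.FieldPoint
universe u
variable {T : Scheme.{u}}

theorem nonempty_subscheme_iff (I : T.IdealSheafData) :
    Nonempty I.subscheme ↔ (I.support : Set T).Nonempty := by
  rw [← Scheme.IdealSheafData.range_subschemeι, Set.range_nonempty_iff_nonempty]

theorem nonempty_subscheme_sSup [CompactSpace T] (c : Set T.IdealSheafData)
    (hc : IsChain (· ≤ ·) c) (hne : c.Nonempty)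
    (h : ∀ I ∈ c, Nonempty I.subscheme) : Nonempty (sSup c).subscheme := by
  rw [nonempty_subscheme_iff, Scheme.IdealSheafData.support_sSup]
  have : Nonempty ↥c := hne.to_subtype
  have key := IsCompact.nonempty_iInter_of_directed_nonempty_isCompact_isClosed
    (fun I : ↥c ↦ ((I.1.support : Closeds T) : Set T)) ?_
    (fun I ↦ (nonempty_subscheme_iff I.1).mp (h I.1 I.2))
    (fun I ↦ I.1.support.isClosed.isCompact) (fun I ↦ I.1.support.isClosed)
  · obtain ⟨x, hx⟩ := key
    refine ⟨x, ?_⟩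
    simp only [Closeds.coe_iInf, Set.mem_iInter] at hx ⊢
    exact fun I hI ↦ hx ⟨I, hI⟩
  · intro I J
    rcases hc.total I.2 J.2 with hIJ | hIJ
    · refine ⟨J, ?_, subset_rfl⟩
      exact Scheme.IdealSheafData.support_antitone hIJ
    · refine ⟨I, subset_rfl, ?_⟩
      exact Scheme.IdealSheafData.support_antitone hIJ

end Groth.Agent.Lead.FieldPoint

namespace Groth.Agent.Lead.FieldPoint
universe u
variable {T : Scheme.{u}} (P : ∀ ⦃T' : Scheme.{u}⦄, (T' ⟶ T) → Prop)

section zorn
variable
  (h1 : ∀ ⦃T' T'' : Scheme.{u}⦄ (a : T' ⟶ T) (t : T'' ⟶ T') [IsClosedImmersion t] [Surjective t]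
      [CompactSpace T'] [QuasiSeparatedSpace T'] [CompactSpace T''] [QuasiSeparatedSpace T''],
      P (t ≫ a) ↔ P a)
  (h2 : ∀ ⦃I : Type u⦄ [SmallCategory I] [IsCofiltered I] (D : I ⥤ Over T) (c : Limits.Cone D)
      (_ : Limits.IsLimit c),
      (∀ (i j : I) (m : i ⟶ j), IsAffineHom (D.map m).left) →
      (∀ i, CompactSpace (D.obj i).left ∧ QuasiSeparatedSpace (D.obj i).left) →
      (∀ i, P (D.obj i).hom) → P c.pt.hom)

instance [CompactSpace T] (I : T.IdealSheafData) : CompactSpace I.subscheme :=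
  QuasiCompact.compactSpace_of_compactSpace I.subschemeι

instance [QuasiSeparatedSpace T] (I : T.IdealSheafData) : QuasiSeparatedSpace I.subscheme :=
  quasiSeparatedSpace_of_quasiSeparated I.subschemeι

include h1 h2 in
theorem exists_max [CompactSpace T] [QuasiSeparatedSpace T] [Nonempty T] (hT : P (𝟙 T)) :
    ∃ I : T.IdealSheafData, Maximal (fun I ↦ Nonempty I.subscheme ∧ P I.subschemeι) I := by
  apply zorn_le₀ {I : T.IdealSheafData | Nonempty I.subscheme ∧ P I.subschemeι}
  intro c hcs hc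
  rcases c.eq_empty_or_nonempty with rfl | hne
  · refine ⟨⊥, ⟨?_, ?_⟩, by simp⟩
    · rw [nonempty_subscheme_iff, Scheme.IdealSheafData.support_bot]
      exact Set.univ_nonempty
    · have := (h1 (𝟙 T) (⊥ : T.IdealSheafData).subschemeι).mpr hT
      rwa [Category.comp_id] at this
  · refine ⟨sSup c, ⟨nonempty_subscheme_sSup c hc hne (fun I hI ↦ (hcs hI).1), ?_⟩,
      fun I hI ↦ le_sSup hI⟩
    have : Nonempty ↥c := hne.to_subtype
    have : IsDirected ↥c (· ≤ ·) := ⟨fun I J ↦ by
      rcases hc.total I.2 J.2 with hIJ | hIJ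
      · exact ⟨J, hIJ, le_rfl⟩
      · exact ⟨I, le_rfl, hIJ⟩⟩
    refine h2 (chainDiag c) (chainCone c) (chainConeIsLimit c) ?_ ?_ ?_
    · intro i j m
      change IsAffineHom (Scheme.IdealSheafData.inclusion _)
      infer_instance
    · intro i
      exact ⟨inferInstanceAs (CompactSpace i.unop.1.subscheme),
        inferInstanceAs (QuasiSeparatedSpace i.unop.1.subscheme)⟩
    · intro i
      exact (hcs i.unop.2).2

end zorn

end Groth.Agent.Lead.FieldPoint
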