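import Mathlib
open CategoryTheory Limits AlgebraicGeometry TopologicalSpace

namespace Groth.Agent.Lead.FieldPoint
universe u

/-- a nonempty quasi-sober T0 space has a maximal point for generization -/
theorem exists_maximal_point (Z : Type*) [TopologicalSpace Z] [QuasiSober Z] [T0Space Z]
    [Nonempty Z] : ∃ η : Z, ∀ x : Z, x ⤳ η → x = η := by
  obtain ⟨z⟩ := ‹Nonempty Z›
  obtain ⟨C, hC, hzC, hmax⟩ := exists_preirreducible ({z} : Set Z) isPreirreducible_singleton
  have hCne : C.Nonempty := ⟨z, hzC rfl⟩
  have hCirr : IsIrreducible C := ⟨hCne, hC⟩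
  have hCcl : IsClosed C := by
    have h1 : closure C = C := hmax (closure C) hC.closure subset_closure
    rw [← h1]; exact isClosed_closure
  obtain ⟨η, hη⟩ := QuasiSober.sober hCirr hCcl
  refine ⟨η, fun x hx ↦ ?_⟩
  have h2 : C ⊆ closure {x} := by
    rw [← hη.def]
    exact closure_minimal (Set.singleton_subset_iff.mpr hx.mem_closure) isClosed_closure
  have h3 : closure {x} = C := hmax _ (isPreirreducible_singleton.closure) h2
  have h4 : IsGenericPoint x C := h3
  exact h4.eq hη

end Groth.Agent.Lead.FieldPoint
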