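import Groth.Agent.Lead.FieldPoint2
import Groth.Agent.Lead.FieldPoint3
open CategoryTheory Limits AlgebraicGeometry TopologicalSpace

namespace Groth.Agent.Lead.FieldPoint
universe u
variable {T : Scheme.{u}} (P : ∀ ⦃T' : Scheme.{u}⦄, (T' ⟶ T) → Prop)

section nbhd
variable
  (h1 : ∀ ⦃T' T'' : Scheme.{u}⦄ (a : T' ⟶ T) (t : T'' ⟶ T') [IsClosedImmersion t] [Surjective t]
      [CompactSpace T'] [QuasiSeparatedSpace T'] [CompactSpace T''] [QuasiSeparatedSpace T''],
      P (t ≫ a) ↔ P a)
  (h3 : ∀ ⦃T' Z V : Scheme.{u}⦄ (a : T' ⟶ T) [CompactSpace T'] [QuasiSeparatedSpace T']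
      (i : Z ⟶ T') [IsClosedImmersion i] (j : V ⟶ T') [IsOpenImmersion j] [CompactSpace V],
      Set.range j = (Set.range i)ᶜ → P a → P (j ≫ a) ∨ P (i ≫ a))

include h1 h3 in
theorem P_nbhd [CompactSpace T] [QuasiSeparatedSpace T] (I : T.IdealSheafData)
    (hI : Maximal (fun I : T.IdealSheafData ↦ Nonempty I.subscheme ∧ P I.subschemeι) I)
    (U : I.subscheme.Opens) (hUc : IsCompact (U : Set I.subscheme)) (η : I.subscheme)
    (hη : η ∈ U) : P (U.ι ≫ I.subschemeι) := by
  have hPι : P I.subschemeι := hI.1.2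
  have : CompactSpace (U : Scheme.{u}) := isCompact_iff_compactSpace.mp hUc
  have : QuasiSeparatedSpace (U : Scheme.{u}) := quasiSeparatedSpace_of_quasiSeparated U.ι
  by_cases hU : U = ⊤
  · subst hU
    have hiso : IsIso (⊤ : I.subscheme.Opens).ι := inferInstanceAs (IsIso I.subscheme.topIso.hom)
    exact (h1 I.subschemeι (⊤ : I.subscheme.Opens).ι).mpr hPι
  let W : Closeds I.subscheme := ⟨(U : Set I.subscheme)ᶜ, U.2.isClosed_compl⟩
  let J₀ := Scheme.IdealSheafData.vanishingIdeal W
  have hrange : Set.range J₀.subschemeι = (U : Set I.subscheme)ᶜ := by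
    rw [Scheme.IdealSheafData.range_subschemeι, Scheme.IdealSheafData.coe_support_vanishingIdeal]
    rfl
  rcases h3 I.subschemeι J₀.subschemeι U.ι (by rw [hrange, compl_compl, Scheme.Opens.range_ι])
    hPι with h | h
  · exact h
  exfalso
  -- the closed subscheme `Z' → T`
  set g := J₀.subschemeι ≫ I.subschemeι with hg
  have hK : P g.imageι := by
    have := (h1 g.imageι g.toImage).mp (by rw [Scheme.Hom.toImage_imageι]; exact h)
    exact this
  have hne : Nonempty J₀.subscheme := by
    rw [nonempty_subscheme_iff, Scheme.IdealSheafData.coe_support_vanishingIdeal]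
    by_contra hcon
    rw [Set.not_nonempty_iff_eq_empty] at hcon
    apply hU
    ext x
    simp only [Opens.coe_top, Set.mem_univ, iff_true]
    by_contra hx
    have : x ∈ (W : Set I.subscheme) := hx
    rw [hcon] at this
    exact this
  have hne' : Nonempty g.ker.subscheme := hne.map g.toImage
  have hle : I ≤ g.ker := by
    have := Scheme.Hom.le_ker_comp J₀.subschemeι I.subschemeι
    rwa [Scheme.IdealSheafData.ker_subschemeι] at this
  have heq : g.ker = I := le_antisymm (hI.2 ⟨hne', hK⟩ hle) hle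
  have hiso : IsIso J₀.subschemeι := by
    refine IsClosedImmersion.isIso_of_ker_eq g I.subschemeι J₀.subschemeι rfl ?_
    rw [heq, Scheme.IdealSheafData.ker_subschemeι]
  have hsurj : Function.Surjective J₀.subschemeι := by
    intro x
    exact ⟨inv J₀.subschemeι x, by rw [← Scheme.Hom.comp_apply]; simp⟩
  have : η ∈ Set.range J₀.subschemeι := hsurj η
  rw [hrange] at this
  exact this hη

end nbhd

end Groth.Agent.Lead.FieldPoint
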