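import Mathlib
open CategoryTheory Limits AlgebraicGeometry TopologicalSpace

namespace Groth.Agent.Lead.FieldPoint
universe u

/-- a small diagram of affine schemes has a limit in schemes -/
theorem hasLimit_of_isAffine {J : Type u} [SmallCategory J] (D₀ : J ⥤ Scheme.{u})
    [∀ j, IsAffine (D₀.obj j)] : HasLimit D₀ := by
  let F : J ⥤ AffineScheme.{u} :=
    { obj := fun j ↦ AffineScheme.of (D₀.obj j)
      map := fun f ↦ AffineScheme.ofHom (D₀.map f)
      map_id := fun j ↦ by
        apply AffineScheme.forgetToScheme.map_injective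
        exact D₀.map_id j
      map_comp := fun f g ↦ by
        apply AffineScheme.forgetToScheme.map_injective
        exact D₀.map_comp f g }
  have e : F ⋙ AffineScheme.forgetToScheme ≅ D₀ := NatIso.ofComponents (fun j ↦ Iso.refl _)
    (fun f ↦ by
      simp only [Iso.refl_hom, Category.comp_id, Category.id_comp]
      rfl)
  have : HasLimit (F ⋙ AffineScheme.forgetToScheme) :=
    ⟨⟨_, isLimitOfPreserves AffineScheme.forgetToScheme (limit.isLimit F)⟩⟩
  exact hasLimit_of_iso e

section nbhd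
variable {Z : Scheme.{u}} (η : Z)

/-- affine open neighbourhoods of a point -/
abbrev Nbhd := {U : Z.affineOpens // η ∈ U.1}

instance : Nonempty (Nbhd η) := by
  obtain ⟨W, hW, hηW, -⟩ := Opens.isBasis_iff_nbhd.mp Z.isBasis_affineOpens
    (show η ∈ (⊤ : Z.Opens) from trivial)
  exact ⟨⟨⟨W, hW⟩, hηW⟩⟩

instance : IsDirected (Nbhd η) (· ≥ ·) := ⟨fun U V ↦ by
  obtain ⟨W, hW, hηW, hle⟩ := Opens.isBasis_iff_nbhd.mp Z.isBasis_affineOpens
    (show η ∈ U.1.1 ⊓ V.1.1 from ⟨U.2, V.2⟩)
  exact ⟨⟨⟨W, hW⟩, hηW⟩, hle.trans inf_le_left, hle.trans inf_le_right⟩⟩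

example : IsCofiltered (Nbhd η) := inferInstance

variable {T : Scheme.{u}} (ι : Z ⟶ T)

noncomputable def nbhdDiag : Nbhd η ⥤ Over T where
  obj U := Over.mk (U.1.1.ι ≫ ι)
  map {U V} h := Over.homMk (Z.homOfLE (leOfHom h)) (by simp)
  map_id U := by ext; simp
  map_comp f g := by ext; simp

instance (U : Nbhd η) : IsAffine ((nbhdDiag η ι ⋙ Over.forget T).obj U) := U.1.2

end nbhd

end Groth.Agent.Lead.FieldPoint
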