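import Groth.Agent.Lead.FieldPoint4
import Groth.Agent.Lead.FieldPoint5
open CategoryTheory Limits AlgebraicGeometry TopologicalSpace

namespace Groth.Agent.Lead.FieldPoint
universe u

section onept
variable {Z : Scheme.{u}} (η : Z) {T : Scheme.{u}} (ι : Z ⟶ T)

/-- the projection from the limit of the affine neighbourhoods to `Z` -/
noncomputable def proj (L : Cone (nbhdDiag η ι ⋙ Over.forget T)) (U : Nbhd η) : L.pt ⟶ Z :=
  L.π.app U ≫ U.1.1.ι

theorem proj_eq (L : Cone (nbhdDiag η ι ⋙ Over.forget T)) (U V : Nbhd η) :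
    proj η ι L U = proj η ι L V := by
  obtain ⟨W, hWU, hWV⟩ := directed_of (· ≥ ·) U V
  have h1 := L.w (homOfLE hWU)
  have h2 := L.w (homOfLE hWV)
  simp only [proj]
  rw [← h1, ← h2]
  simp [nbhdDiag]

theorem proj_apply (hη : ∀ x : Z, x ⤳ η → x = η)
    (L : Cone (nbhdDiag η ι ⋙ Over.forget T)) (U : Nbhd η) (x : L.pt) :
    proj η ι L U x = η := by
  apply hη
  rw [specializes_iff_forall_open]
  intro V hV hηV
  obtain ⟨W, hW, hηW, hle⟩ := Opens.isBasis_iff_nbhd.mp Z.isBasis_affineOpens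
    (show η ∈ (⟨V, hV⟩ : Z.Opens) from hηV)
  let W' : Nbhd η := ⟨⟨W, hW⟩, hηW⟩
  rw [proj_eq η ι L U W']
  apply hle
  simp only [proj, Scheme.Hom.comp_apply]
  exact (L.π.app W' x).2

theorem mono_proj (L : Cone (nbhdDiag η ι ⋙ Over.forget T)) (hL : IsLimit L) (U : Nbhd η) :
    Mono (proj η ι L U) := by
  constructor
  intro W a b hab
  apply hL.hom_ext
  intro V
  rw [proj_eq η ι L U V] at hab
  simp only [proj, ← Category.assoc] at hab
  have hm : Mono V.1.1.ι := inferInstance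
  exact (cancel_mono V.1.1.ι).mp hab

theorem subsingleton_pt (hη : ∀ x : Z, x ⤳ η → x = η)
    (L : Cone (nbhdDiag η ι ⋙ Over.forget T)) (hL : IsLimit L) : Subsingleton L.pt := by
  obtain ⟨U⟩ := (inferInstance : Nonempty (Nbhd η))
  have := mono_proj η ι L hL U
  have hinj : Function.Injective (proj η ι L U) := (proj η ι L U).injective
  constructor
  intro x y
  apply hinj
  rw [proj_apply η ι hη, proj_apply η ι hη]

end onept

end Groth.Agent.Lead.FieldPoint

namespace Groth.Agent.Lead.FieldPoint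
universe u
variable {T : Scheme.{u}} (P : ∀ ⦃T' : Scheme.{u}⦄, (T' ⟶ T) → Prop)

theorem main [CompactSpace T] [QuasiSeparatedSpace T] [Nonempty T]
    (h1 : ∀ ⦃T' T'' : Scheme.{u}⦄ (a : T' ⟶ T) (t : T'' ⟶ T') [IsClosedImmersion t] [Surjective t]
      [CompactSpace T'] [QuasiSeparatedSpace T'] [CompactSpace T''] [QuasiSeparatedSpace T''],
      P (t ≫ a) ↔ P a)
    (h2 : ∀ ⦃I : Type u⦄ [SmallCategory I] [IsCofiltered I] (D : I ⥤ Over T) (c : Limits.Cone D)
      (_ : Limits.IsLimit c),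
      (∀ (i j : I) (m : i ⟶ j), IsAffineHom (D.map m).left) →
      (∀ i, CompactSpace (D.obj i).left ∧ QuasiSeparatedSpace (D.obj i).left) →
      (∀ i, P (D.obj i).hom) → P c.pt.hom)
    (h3 : ∀ ⦃T' Z V : Scheme.{u}⦄ (a : T' ⟶ T) [CompactSpace T'] [QuasiSeparatedSpace T']
      (i : Z ⟶ T') [IsClosedImmersion i] (j : V ⟶ T') [IsOpenImmersion j] [CompactSpace V],
      Set.range j = (Set.range i)ᶜ → P a → P (j ≫ a) ∨ P (i ≫ a))
    (hT : P (𝟙 T)) :
    ∃ (K : Type u) (_ : Field K) (t : Spec (CommRingCat.of K) ⟶ T), P t := by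
  obtain ⟨I, hI⟩ := exists_max P h1 h2 hT
  have hne : Nonempty I.subscheme := hI.1.1
  obtain ⟨η, hη⟩ := exists_maximal_point I.subscheme
  let D := nbhdDiag η I.subschemeι
  have hP : ∀ U : Nbhd η, P (D.obj U).hom :=
    fun U ↦ P_nbhd P h1 h3 I hI U.1.1 U.1.2.isCompact η U.2
  have hlim : HasLimit (D ⋙ Over.forget T) := hasLimit_of_isAffine _
  have hc₀ : IsLimit (limit.cone (D ⋙ Over.forget T)) := limit.isLimit _
  have hconn : IsConnected (Nbhd η) := IsCofiltered.isConnected _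
  let L : Cone D := liftLimit hc₀
  have hL : IsLimit L := liftedLimitIsLimit hc₀
  have hAff : ∀ (i j : Nbhd η) (m : i ⟶ j), IsAffineHom (D.map m).left := by
    intro i j m
    have : IsAffine (D.obj i).left := i.1.2
    have : IsAffine (D.obj j).left := j.1.2
    infer_instance
  have hPL : P L.pt.hom := h2 D L hL hAff
    (fun i ↦ by
      have : IsAffine (D.obj i).left := i.1.2
      exact ⟨inferInstance, inferInstance⟩) hP
  let L₀ := (Over.forget T).mapCone L
  have hL₀ : IsLimit L₀ := isLimitOfPreserves (Over.forget T) hL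
  have hsub : Subsingleton L.pt.left := subsingleton_pt η I.subschemeι hη L₀ hL₀
  have hAff' : ∀ {i j : Nbhd η} (m : i ⟶ j), IsAffineHom ((D ⋙ Over.forget T).map m) :=
    fun m ↦ hAff _ _ m
  have hne₀ : ∀ i, Nonempty ((D ⋙ Over.forget T).obj i) := fun i ↦ ⟨⟨η, i.2⟩⟩
  have hnonempty : Nonempty L.pt.left := Scheme.nonempty_of_isLimit (D ⋙ Over.forget T) L₀ hL₀
  have haff : IsAffine L.pt.left := Scheme.isAffine_of_isLimit L₀ hL₀
  -- the field point
  let R := Γ(L.pt.left, ⊤)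
  have hntr : Nontrivial R := by
    obtain ⟨x⟩ := hnonempty
    have y : Spec R := L.pt.left.isoSpec.hom x
    exact (PrimeSpectrum.nonempty_iff_nontrivial).mp ⟨y⟩
  obtain ⟨𝔪, h𝔪⟩ := Ideal.exists_maximal R
  let K := R ⧸ 𝔪
  letI : Field K := Ideal.Quotient.field 𝔪
  let t₀ : Spec (CommRingCat.of K) ⟶ L.pt.left :=
    Spec.map (CommRingCat.ofHom (Ideal.Quotient.mk 𝔪)) ≫ L.pt.left.isoSpec.inv
  have hcl : IsClosedImmersion t₀ := by
    have : IsClosedImmersion (Spec.map (CommRingCat.ofHom (Ideal.Quotient.mk 𝔪))) :=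
      IsClosedImmersion.spec_of_surjective _ Ideal.Quotient.mk_surjective
    infer_instance
  have hsurj : Surjective t₀ := ⟨fun x ↦ by
    obtain ⟨y⟩ : Nonempty (Spec (CommRingCat.of K)) := inferInstance
    exact ⟨y, Subsingleton.elim _ _⟩⟩
  refine ⟨K, inferInstance, t₀ ≫ L.pt.hom, ?_⟩
  exact (h1 L.pt.hom t₀).mpr hPL

end Groth.Agent.Lead.FieldPoint
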