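import Mathlib

set_option autoImplicit false
set_option linter.style.haveILetI false
universe u
open CategoryTheory Limits AlgebraicGeometry IsLocalRing

namespace Groth.Agent.Lead.FiltSub

/-- **Algebra lemma.** An antitone directed family of ideals in a Noetherian ring which is, locally at
every prime `p`, eventually contained in every power of `p`, is eventually zero. -/
theorem exists_eq_bot {R : Type u} [CommRing R] [IsNoetherianRing R] {D : Type u} [Preorder D]
    [IsDirected D (fun a b => a ≤ b)] [Nonempty D]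
    (b : D → Ideal R) (hb : ∀ i j, i ≤ j → b j ≤ b i)
    (h : ∀ (p : Ideal R) [p.IsPrime] (n : ℕ), ∃ i, ∀ r ∈ b i, ∃ t, t ∉ p ∧ t * r ∈ p ^ n) :
    ∃ i, b i = ⊥ := by
  classical
  obtain ⟨s, hs, hprim⟩ := Submodule.isLasker R R (⊥ : Ideal R)
  have key : ∀ J ∈ s, ∃ i, b i ≤ J := by
    intro J hJ
    have hJp : Ideal.IsPrimary J := hprim hJ
    haveI : (Ideal.radical J).IsPrime := Ideal.isPrime_radical hJp
    obtain ⟨n, hn⟩ := Ideal.exists_radical_pow_le_of_fg J (IsNoetherian.noetherian _)
    obtain ⟨i, hi⟩ := h (Ideal.radical J) n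
    refine ⟨i, fun r hr => ?_⟩
    obtain ⟨t, ht, htr⟩ := hi r hr
    have h1 : r * t ∈ J := by rw [mul_comm]; exact hn htr
    rcases (Ideal.isPrimary_iff.mp hJp).2 h1 with h2 | h2
    · exact h2
    · exact absurd h2 ht
  choose! ι hι using key
  obtain ⟨M, hM⟩ := Finset.exists_le (s.image ι)
  refine ⟨M, ?_⟩
  rw [eq_bot_iff, ← hs]
  intro r hr
  rw [Finset.inf_eq_iInf]
  simp only [id_eq, Submodule.mem_iInf]
  intro J hJ
  exact hι J hJ (hb _ _ (hM _ (Finset.mem_image_of_mem ι hJ)) hr)

end Groth.Agent.Lead.FiltSub
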