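import Mathlib

set_option autoImplicit false
set_option linter.style.haveILetI false
universe u
open CategoryTheory Limits AlgebraicGeometry IsLocalRing

namespace Groth.Agent.Lead.FiltSub

variable {X Z : Scheme.{u}}

/-- If `Spec (O_{X,w}/K) → X` lifts through `h : Z → X`, then `w` is in the range of `h` and sections
killed by `h` have germ at `w` lying in `K`. -/
theorem germ_mem_of_lift (h : Z ⟶ X) (w : X) (K : Ideal (X.presheaf.stalk w))
    (hK : K ≤ maximalIdeal (X.presheaf.stalk w))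
    (g : Spec (CommRingCat.of (X.presheaf.stalk w ⧸ K)) ⟶ Z)
    (hg : g ≫ h = Spec.map (CommRingCat.ofHom (Ideal.Quotient.mk K)) ≫ X.fromSpecStalk w) :
    w ∈ Set.range h ∧ ∀ (W : X.Opens) (hw : w ∈ W) (r : Γ(X, W)), h.app W r = 0 →
      X.presheaf.germ W w hw r ∈ K := by
  have hKtop : K ≠ ⊤ := fun e => (maximalIdeal.isMaximal _).ne_top (top_le_iff.mp (e ▸ hK))
  haveI : Nontrivial (X.presheaf.stalk w ⧸ K) := Ideal.Quotient.nontrivial_iff.mpr hKtop
  haveI : IsLocalRing (X.presheaf.stalk w ⧸ K) :=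
    IsLocalRing.of_surjective' (Ideal.Quotient.mk K) Ideal.Quotient.mk_surjective
  let q : X.presheaf.stalk w ⟶ CommRingCat.of (X.presheaf.stalk w ⧸ K) :=
    CommRingCat.ofHom (Ideal.Quotient.mk K)
  haveI : IsLocalHom q.hom := IsLocalHom.of_surjective _ Ideal.Quotient.mk_surjective
  obtain ⟨σ, hσ⟩ : ∃ σ, σ = Spec.map q ≫ X.fromSpecStalk w := ⟨_, rfl⟩
  have hcl : σ (closedPoint (X.presheaf.stalk w ⧸ K)) = w := by
    rw [hσ, Scheme.Hom.comp_apply]
    erw [Spec_closedPoint]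
    exact Scheme.fromSpecStalk_closedPoint
  refine ⟨⟨g (closedPoint _), ?_⟩, ?_⟩
  · rw [← Scheme.Hom.comp_apply, hg]
    rw [hσ] at hcl
    exact hcl
  · intro W hw r hr
    have hU : σ (closedPoint (X.presheaf.stalk w ⧸ K)) ∈ W := by rw [hcl]; exact hw
    have e1 := Scheme.germ_stalkClosedPointTo σ W hU
    have hσ' : g ≫ h = σ := by rw [hσ]; exact hg
    have e2 : σ.app W r = 0 := by
      subst hσ'
      refine (ConcreteCategory.congr_hom (Scheme.Hom.comp_app g h W) r).trans ?_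
      change (g.app (h ⁻¹ᵁ W)).hom ((h.app W).hom r) = 0
      rw [show (h.app W).hom r = 0 from hr, map_zero]
    have e3 : (X.presheaf.germ W _ hU ≫ Scheme.stalkClosedPointTo σ) r = 0 := by
      rw [e1]
      simp [e2]
    have e4 : X.presheaf.germ W _ hU ≫ Scheme.stalkClosedPointTo σ =
        X.presheaf.germ W w hw ≫ q := by
      subst hσ
      exact Scheme.germ_stalkClosedPointTo_Spec_fromSpecStalk q W hU
    rw [e4] at e3
    exact Ideal.Quotient.eq_zero_iff_mem.mp e3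

/-- From the isomorphism hypothesis to a lift. -/
theorem exists_lift {S : Scheme.{u}} (f : X ⟶ S) (h : Z ⟶ X) (w : X) (n : ℕ)
    (hiso : IsIso (pullback.snd h (pullback.fst f
      (Spec.map (CommRingCat.ofHom (Ideal.Quotient.mk
        (maximalIdeal (S.presheaf.stalk (f w)) ^ (n + 1)))) ≫ S.fromSpecStalk (f w))))) :
    ∃ g : Spec (CommRingCat.of (X.presheaf.stalk w ⧸
        Ideal.map (f.stalkMap w).hom (maximalIdeal (S.presheaf.stalk (f w)) ^ (n + 1)))) ⟶ Z,
      g ≫ h = Spec.map (CommRingCat.ofHom (Ideal.Quotient.mk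
        (Ideal.map (f.stalkMap w).hom (maximalIdeal (S.presheaf.stalk (f w)) ^ (n + 1))))) ≫
        X.fromSpecStalk w := by
  obtain ⟨τ, hτ⟩ : ∃ τ, τ = Spec.map (CommRingCat.ofHom (Ideal.Quotient.mk
        (maximalIdeal (S.presheaf.stalk (f w)) ^ (n + 1)))) ≫ S.fromSpecStalk (f w) := ⟨_, rfl⟩
  rw [← hτ] at hiso
  obtain ⟨K, hKdef⟩ : ∃ K, K = Ideal.map (f.stalkMap w).hom
    (maximalIdeal (S.presheaf.stalk (f w)) ^ (n + 1)) := ⟨_, rfl⟩
  rw [← hKdef]
  -- the induced map on quotients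
  let ψ : (S.presheaf.stalk (f w) ⧸ maximalIdeal (S.presheaf.stalk (f w)) ^ (n + 1)) →+*
      (X.presheaf.stalk w ⧸ K) :=
    Ideal.quotientMap K (f.stalkMap w).hom (by rw [hKdef]; exact Ideal.le_comap_map)
  have hψ : ψ.comp (Ideal.Quotient.mk _) = (Ideal.Quotient.mk K).comp (f.stalkMap w).hom := by
    ext a; simp [ψ]
  let σ : Spec (CommRingCat.of (X.presheaf.stalk w ⧸ K)) ⟶ X :=
    Spec.map (CommRingCat.ofHom (Ideal.Quotient.mk K)) ≫ X.fromSpecStalk w
  let ρ : Spec (CommRingCat.of (X.presheaf.stalk w ⧸ K)) ⟶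
      Spec (CommRingCat.of (S.presheaf.stalk (f w) ⧸ maximalIdeal (S.presheaf.stalk (f w)) ^ (n + 1))) :=
    Spec.map (CommRingCat.ofHom ψ)
  have hw : σ ≫ f = ρ ≫ τ := by
    rw [hτ]
    simp only [σ, ρ, Category.assoc]
    rw [← Scheme.SpecMap_stalkMap_fromSpecStalk, ← Spec.map_comp_assoc, ← Spec.map_comp_assoc]
    congr 2
  haveI := hiso
  refine ⟨pullback.lift σ ρ hw ≫ inv (pullback.snd h (pullback.fst f τ)) ≫
    pullback.fst h (pullback.fst f τ), ?_⟩
  rw [Category.assoc, Category.assoc, pullback.condition, IsIso.inv_hom_id_assoc,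
    pullback.lift_fst]

end Groth.Agent.Lead.FiltSub
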