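import Mathlib
import Groth.Agent.Lead.FiltSubA
import Groth.Agent.Lead.FiltSubB

set_option autoImplicit false
set_option linter.style.haveILetI false
universe u
open CategoryTheory Limits AlgebraicGeometry IsLocalRing

namespace Groth.Agent.Lead.FiltSub

theorem main {S X : Scheme.{u}} [IsNoetherian S] (f : X ⟶ S)
    [LocallyOfFiniteType f] [QuasiCompact f]
    {D : Type u} [Preorder D] [IsDirected D (fun a b => a ≤ b)] [Nonempty D]
    (Xi : D → Scheme.{u}) (x : ∀ i, Xi i ⟶ X) (hx : ∀ i, IsImmersion (x i))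
    (hmono : ∀ i j, i ≤ j → ∃ t : Xi i ⟶ Xi j, t ≫ x j = x i)
    (h : ∀ (s : S) (n : ℕ), ∃ i : D,
      IsIso (pullback.snd (x i) (pullback.fst f
        (Spec.map (CommRingCat.ofHom (Ideal.Quotient.mk (IsLocalRing.maximalIdeal (S.presheaf.stalk s) ^ (n + 1)))) ≫ S.fromSpecStalk s)))) :
    ∃ i : D, IsIso (x i) := by
  classical
  haveI : IsLocallyNoetherian X := LocallyOfFiniteType.isLocallyNoetherian f
  haveI : CompactSpace X := QuasiCompact.compactSpace_of_compactSpace f
  haveI : IsNoetherian X := {}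
  have hNoeth : ∀ i, TopologicalSpace.NoetherianSpace (Xi i) := fun i =>
    haveI := hx i
    (x i).isEmbedding.isInducing.noetherianSpace
  have hqc : ∀ i, QuasiCompact (x i) := fun i =>
    haveI := hNoeth i
    inferInstance
  -- the key local fact
  have hloc : ∀ (w : X) (n : ℕ), ∃ i, w ∈ Set.range (x i) ∧
      ∀ (W : X.Opens) (hw : w ∈ W) (r : Γ(X, W)), (x i).app W r = 0 →
        X.presheaf.germ W w hw r ∈ maximalIdeal (X.presheaf.stalk w) ^ (n + 1) := by
    intro w n
    obtain ⟨i, hi⟩ := h (f w) n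
    obtain ⟨g, hg⟩ := exists_lift f (x i) w n hi
    have hK : Ideal.map (f.stalkMap w).hom (maximalIdeal (S.presheaf.stalk (f w)) ^ (n + 1)) ≤
        maximalIdeal (X.presheaf.stalk w) ^ (n + 1) := by
      rw [Ideal.map_pow]
      apply Ideal.pow_right_mono
      rw [Ideal.map_le_iff_le_comap]
      intro a ha
      exact map_nonunit (f.stalkMap w).hom a ha
    obtain ⟨h1, h2⟩ := germ_mem_of_lift (x i) w _
      (hK.trans (Ideal.pow_le_self (Nat.succ_ne_zero n))) g hg
    exact ⟨i, h1, fun W hw r hr => hK (h2 W hw r hr)⟩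
  have hker : ∀ i j, i ≤ j → (x j).ker ≤ (x i).ker := by
    intro i j hij
    obtain ⟨t, ht⟩ := hmono i j hij
    rw [← ht]
    exact Scheme.Hom.le_ker_comp t (x j)
  have hrange : ∀ i j, i ≤ j → Set.range (x i) ⊆ Set.range (x j) := by
    intro i j hij
    obtain ⟨t, ht⟩ := hmono i j hij
    rintro _ ⟨z, rfl⟩
    refine ⟨t z, ?_⟩
    rw [← ht, Scheme.Hom.comp_apply]
  -- for each affine open, the kernel ideal eventually vanishes
  have haff : ∀ W : X.affineOpens, ∃ i, (x i).ker.ideal W = ⊥ := by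
    intro W
    haveI : IsNoetherianRing Γ(X, W.1) := IsLocallyNoetherian.component_noetherian W
    apply exists_eq_bot (fun i => (x i).ker.ideal W) (fun i j hij => hker i j hij W)
    intro p _ n
    let pp : Spec Γ(X, W.1) := ⟨p, inferInstance⟩
    obtain ⟨w, hwdef⟩ : ∃ w, w = W.2.fromSpec pp := ⟨_, rfl⟩
    have hwW : w ∈ W.1 := by
      have : w ∈ Set.range W.2.fromSpec := ⟨pp, hwdef.symm⟩
      rwa [W.2.range_fromSpec] at this
    obtain ⟨i, -, hi⟩ := hloc w n
    refine ⟨i, fun r hr => ?_⟩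
    haveI := hqc i
    rw [Scheme.Hom.ker_apply] at hr
    have h1 := hi W.1 hwW r hr
    subst hwdef
    letI := X.presheaf.algebra_section_stalk ⟨W.2.fromSpec pp, hwW⟩
    haveI hloc' : IsLocalization.AtPrime (X.presheaf.stalk (W.2.fromSpec pp)) p :=
      W.2.isLocalization_stalk' pp hwW
    rw [← IsLocalization.AtPrime.map_eq_maximalIdeal p (X.presheaf.stalk (W.2.fromSpec pp)),
      ← Ideal.map_pow] at h1
    obtain ⟨⟨a, s⟩, has⟩ := (IsLocalization.mem_map_algebraMap_iff p.primeCompl _).mp h1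
    change algebraMap Γ(X, W.1) _ r * algebraMap Γ(X, W.1) _ (s : Γ(X, W.1)) =
      algebraMap Γ(X, W.1) _ (a : Γ(X, W.1)) at has
    rw [← map_mul, IsLocalization.eq_iff_exists p.primeCompl] at has
    obtain ⟨c, hc⟩ := has
    refine ⟨(c * s : p.primeCompl), (c * s).2, ?_⟩
    have : ((c * s : p.primeCompl) : Γ(X, W.1)) * r = c * a := by
      rw [← hc]; push_cast; ring
    rw [this]
    exact Ideal.mul_mem_left _ _ (Ideal.pow_le_pow_right (Nat.le_succ n) a.2)
  -- a finite affine cover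
  obtain ⟨t, ht⟩ := isCompact_univ.elim_finite_subcover
    (fun W : X.affineOpens => (W.1 : Set X)) (fun W => W.1.2) (by
      intro z _
      obtain ⟨W, hW, hz, -⟩ := exists_isAffineOpen_mem_and_subset (x := z) (U := ⊤) trivial
      exact Set.mem_iUnion.mpr ⟨⟨W, hW⟩, hz⟩)
  choose iW hiW using haff
  obtain ⟨M, hM⟩ := Finset.exists_le (t.image iW)
  have hkerM : (x M).ker = ⊥ := by
    apply Scheme.IdealSheafData.ext_of_iSup_eq_top (fun W : t => W.1)
    · rw [eq_top_iff]
      intro z _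
      obtain ⟨W, hW⟩ := Set.mem_iUnion.mp (ht (Set.mem_univ z))
      obtain ⟨hWt, hz⟩ := Set.mem_iUnion.mp hW
      exact TopologicalSpace.Opens.mem_iSup.mpr ⟨⟨W, hWt⟩, hz⟩
    · intro W
      rw [Scheme.IdealSheafData.ideal_bot]
      exact le_bot_iff.mp ((hker _ _ (hM _ (Finset.mem_image_of_mem _ W.2)) W.1).trans
        (hiW W.1).le)
  have hopen : ∀ j, M ≤ j → IsOpenImmersion (x j) := by
    intro j hj
    have hk : (x j).ker = ⊥ := le_bot_iff.mp ((hker _ _ hj).trans hkerM.le)
    haveI := hx j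
    haveI := hqc j
    haveI : IsIso (x j).imageι := (Scheme.isIso_subschemeι_iff_eq_bot _).mpr hk
    rw [← (x j).toImage_imageι]
    infer_instance
  obtain ⟨j, hj⟩ := isCompact_univ.elim_directed_cover
    (fun i => interior (Set.range (x i))) (fun i => isOpen_interior) (by
      intro z _
      obtain ⟨i, hi, -⟩ := hloc z 0
      obtain ⟨k, hk1, hk2⟩ := exists_ge_ge M i
      haveI := hopen k hk1
      refine Set.mem_iUnion.mpr ⟨k, ?_⟩
      rw [(x k).isOpenEmbedding.isOpen_range.interior_eq]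
      exact hrange i k hk2 hi) (by
      intro i j
      obtain ⟨k, hk1, hk2⟩ := exists_ge_ge i j
      exact ⟨k, interior_mono (hrange i k hk1), interior_mono (hrange j k hk2)⟩)
  obtain ⟨k, hk1, hk2⟩ := exists_ge_ge M j
  refine ⟨k, ?_⟩
  haveI := hopen k hk1
  rw [isIso_iff_isOpenImmersion_and_surjective]
  exact ⟨inferInstance, ⟨fun z => hrange j k hk2 (interior_subset (hj (Set.mem_univ z)))⟩⟩

end Groth.Agent.Lead.FiltSub
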