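import Mathlib
import Groth.Prelude
import Groth.Agent.Helper1.SS15
import Groth.Agent.Helper1.UF8
import Groth.Agent.Helper4.SubSec
import Groth.Agent.Helper5.EtDense3
import Groth.Agent.Helper5.GammaBC
import Groth.Agent.Helper1.ClopenIdem1
import Groth.Agent.Lead.ProperFinA

/-!
# FinCovConn: a finite flat cover with `H⁰(coker(O_Y → ρ_* O_X)) = 0` of a proper geometrically
connected and reduced scheme is geometrically connected
-/

set_option autoImplicit false
set_option linter.style.haveILetI false
set_option linter.deprecated false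
universe u
open CategoryTheory CategoryTheory.Limits AlgebraicGeometry Opposite

namespace Groth.Agent.Lead.FinCovConn

/-- if `k → Γ(X, O_X)` is bijective, with `k` a field, then `X` is connected -/
theorem connectedSpace_of_bijective_field {k : Type u} [Field k] {X : Scheme.{u}}
    (φ : k →+* Γ(X, ⊤)) (h : Function.Bijective φ) : ConnectedSpace X := by
  rw [connectedSpace_iff_clopen]
  constructor
  · by_contra hne
    rw [not_nonempty_iff] at hne
    haveI : Subsingleton Γ(X, ⊤) := inferInstance
    have h1 : φ 1 = φ 0 := Subsingleton.elim _ _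
    exact one_ne_zero (h.1 h1)
  · intro C hC
    obtain ⟨e, he, hCe⟩ := Groth.Agent.Helper1.ClopenIdem.exists_idempotent_of_isClopen C hC
    obtain ⟨c, rfl⟩ := h.2 e
    have hc : c * c = c := h.1 (by rw [map_mul, he])
    have hc' : c = 0 ∨ c = 1 := by
      have : c * (c - 1) = 0 := by rw [mul_sub, mul_one, hc, sub_self]
      rcases mul_eq_zero.1 this with h | h
      · exact Or.inl h
      · exact Or.inr (sub_eq_zero.1 h)
    rcases hc' with h | h
    · left
      rw [← hCe, h, map_zero, Scheme.basicOpen_zero]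
      rfl
    · right
      rw [← hCe, h, map_one, Scheme.basicOpen_of_isUnit _ isUnit_one]
      rfl

theorem lfp_of_lft {X S : Scheme.{u}} [IsLocallyNoetherian S] (f : X ⟶ S)
    [LocallyOfFiniteType f] : LocallyOfFinitePresentation f := by
  constructor
  intro U hU V hV e
  haveI : IsNoetherianRing Γ(S, U) := IsLocallyNoetherian.component_noetherian ⟨U, hU⟩
  exact RingHom.FinitePresentation.of_finiteType.mp (f.finiteType_appLE hU hV e)

theorem surjective_appTop {X Y : Scheme.{u}} (ρ : X ⟶ Y) [Flat ρ] [Surjective ρ]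
    (h0 : Subsingleton (Coh.HH Y (cokernel (ClSub.unitToPush ρ)) 0)) :
    Function.Surjective ρ.appTop.hom := by
  haveI : Mono (ClSub.unitToPush ρ) :=
    Groth.Agent.Helper4.SubSec.mono_of_app_injective _ (fun T =>
      Groth.Agent.Helper5.EtDense.app_injective_of_flat_of_surjective ρ T)
  intro t
  have hsub : Subsingleton ((Coh.toAb (cokernel (ClSub.unitToPush ρ))).obj.obj (op ⊤)) :=
    (Groth.Agent.Lead.ProperFinA.h0Equiv (cokernel (ClSub.unitToPush ρ))).symm.toEquiv.subsingleton
  have hz : (cokernel.π (ClSub.unitToPush ρ)).app ⊤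
      (show ↑Γ((Scheme.Modules.pushforward ρ).obj (Coh.structureModule X), ⊤) from t) = 0 :=
    hsub.elim _ _
  obtain ⟨s, hs⟩ := (Groth.Agent.Helper4.SubSec.cokernel_π_app_eq_zero_iff
    (ClSub.unitToPush ρ) ⊤ _).mp hz
  exact ⟨s, hs⟩

theorem main (k : Type u) [Field k] (X Y : Scheme.{u}) (g : Y ⟶ Spec (CommRingCat.of k))
    (ρ : X ⟶ Y) [IsProper g] [GeometricallyConnected g] [GeometricallyReduced g]
    [IsFinite ρ] [Flat ρ] [Surjective ρ]
    (h0 : Subsingleton (Coh.HH Y (cokernel (ClSub.unitToPush ρ)) 0)) :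
    GeometricallyConnected (ρ ≫ g) := by
  haveI : Flat g := inferInstance
  haveI : LocallyOfFinitePresentation g := lfp_of_lft g
  have hg : Function.Bijective g.appTop.hom := by
    have h := fun s => Groth.Agent.Helper1.SS.isIso_appTop_of_geometrically g s
    haveI := Groth.Agent.Helper1.UF.isIso_app_of_isIso g h ⊤
    exact (ConcreteCategory.isIso_iff_bijective (g.app ⊤)).mp inferInstance
  have hρ : Function.Bijective ρ.appTop.hom :=
    ⟨Groth.Agent.Helper5.EtDense.app_injective_of_flat_of_surjective ρ ⊤, surjective_appTop ρ h0⟩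
  have hc : Function.Bijective (ρ ≫ g).appTop.hom := by
    rw [Scheme.Hom.comp_appTop]
    exact hρ.comp hg
  rw [geometricallyConnected_iff, geometrically_iff_of_commRing_of_isClosedUnderIsomorphisms]
  intro K _ _
  have H := IsPullback.of_hasPullback (ρ ≫ g) (Spec.map (CommRingCat.ofHom (algebraMap k K)))
  haveI : Flat (Spec.map (CommRingCat.ofHom (algebraMap k K))) :=
    (HasRingHomProperty.Spec_iff (P := @Flat)).mpr (RingHom.flat_algebraMap_iff.mpr inferInstance)
  haveI : CompactSpace X := QuasiCompact.compactSpace_of_compactSpace (ρ ≫ g)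
  haveI : QuasiSeparatedSpace X := quasiSeparatedSpace_of_quasiSeparated (ρ ≫ g)
  have hK := Groth.Agent.Helper5.GammaBC.bijective_appTop_of_bijective H hc
  exact connectedSpace_of_bijective_field
    ((pullback.snd (ρ ≫ g) (Spec.map (CommRingCat.ofHom (algebraMap k K)))).appTop.hom.comp
      (Scheme.ΓSpecIso (CommRingCat.of K)).inv.hom)
    (hK.comp (Scheme.ΓSpecIso (CommRingCat.of K)).commRingCatIsoToRingEquiv.symm.bijective)

end Groth.Agent.Lead.FinCovConn
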