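import Mathlib

set_option autoImplicit false
set_option linter.style.haveILetI false
universe u
open CategoryTheory CategoryTheory.Limits AlgebraicGeometry TopologicalSpace Opposite

namespace Groth.Agent.Lead.FinFib

variable {Z X : Scheme.{u}} (g : Z ⟶ X)

/-- the canonical map `(g_* O_Z)_x ⟶ O_{Z,z}` for `g z = x`. -/
noncomputable abbrev phi (x : X) (z : Z) (hz : g.base z = x) :
    (g.base _* Z.presheaf).stalk x ⟶ Z.presheaf.stalk z :=
  ((g.base _* Z.presheaf).stalkCongr (Inseparable.of_eq hz)).inv ≫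
    TopCat.Presheaf.stalkPushforward CommRingCat g.base Z.presheaf z

theorem germ_phi (x : X) (z : Z) (hz : g.base z = x) (U : X.Opens) (hx : x ∈ U) :
    (g.base _* Z.presheaf).germ U x hx ≫ phi g x z hz =
      Z.presheaf.germ (g ⁻¹ᵁ U) z (show g.base z ∈ U from hz ▸ hx) := by
  subst hz
  unfold phi
  rw [← Category.assoc]
  have h1 : (g.base _* Z.presheaf).germ U (g.base z) hx ≫
      ((g.base _* Z.presheaf).stalkCongr (Inseparable.of_eq rfl)).inv =
      (g.base _* Z.presheaf).germ U (g.base z) hx :=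
    TopCat.Presheaf.germ_stalkSpecializes _ hx (specializes_rfl)
  rw [h1]
  exact TopCat.Presheaf.stalkPushforward_germ _ g.base Z.presheaf U z hx

theorem isUnit_germ_app (x : X) (U : X.Opens) (hx : x ∈ U) (a : Γ(X, U))
    (hxa : x ∈ X.basicOpen a) :
    IsUnit ((g.base _* Z.presheaf).germ U x hx (g.app U a)) := by
  have h1 : IsUnit (X.presheaf.germ U x hx a) := (X.mem_basicOpen a x hx).mp hxa
  have h2 := TopCat.Presheaf.stalkFunctor_map_germ_apply U x hx g.c a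
  have h3 := h1.map ((TopCat.Presheaf.stalkFunctor CommRingCat x).map g.c).hom
  exact h2 ▸ h3

theorem eq_of_basicOpen {Y : Scheme.{u}} {W : Y.Opens} (hW : IsAffineOpen W) {y y' : Y}
    (hy : y ∈ W) (hy' : y' ∈ W)
    (h : ∀ b : Γ(Y, W), y ∈ Y.basicOpen b ↔ y' ∈ Y.basicOpen b) : y = y' := by
  apply Inseparable.eq
  rw [inseparable_iff_forall_isOpen]
  intro s hs
  constructor
  · intro hys
    obtain ⟨b, hb1, hb2⟩ := hW.exists_basicOpen_le (V := ⟨s, hs⟩) ⟨y, hys⟩ hy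
    exact hb1 ((h b).mp hb2)
  · intro hys
    obtain ⟨b, hb1, hb2⟩ := hW.exists_basicOpen_le (V := ⟨s, hs⟩) ⟨y', hys⟩ hy'
    exact hb1 ((h b).mpr hb2)

theorem exists_mul_eq [IsAffineHom g] (x : X) (U : X.Opens) (hU : IsAffineOpen U) (hx : x ∈ U)
    (c : (g.base _* Z.presheaf).stalk x) :
    ∃ (a : Γ(X, U)) (b : Γ(Z, g ⁻¹ᵁ U)), x ∈ X.basicOpen a ∧
      c * (g.base _* Z.presheaf).germ U x hx (g.app U a) =
        (g.base _* Z.presheaf).germ U x hx b := by
  obtain ⟨V, m, s, rfl⟩ := TopCat.Presheaf.exists_germ_eq (g.base _* Z.presheaf) c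
  obtain ⟨a, ha1, ha2⟩ := hU.exists_basicOpen_le (V := U ⊓ V) ⟨x, ⟨hx, m⟩⟩ hx
  have hW : IsAffineOpen (g ⁻¹ᵁ U) := hU.preimage g
  have e : g ⁻¹ᵁ X.basicOpen a = Z.basicOpen (g.app U a) := Scheme.preimage_basicOpen g a
  have hDU : X.basicOpen a ≤ U := X.basicOpen_le a
  have hDV : X.basicOpen a ≤ V := ha1.trans inf_le_right
  let C := g.base _* Z.presheaf
  let iU : X.basicOpen a ⟶ U := homOfLE hDU
  let iV : X.basicOpen a ⟶ V := homOfLE hDV
  let i : g ⁻¹ᵁ X.basicOpen a ⟶ g ⁻¹ᵁ U := (Opens.map g.base).map iU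
  have loc := hW.isLocalization_of_eq_basicOpen (g.app U a) i e
  letI := (Z.presheaf.map i.op).hom.toAlgebra
  obtain ⟨⟨b, ⟨_, n, rfl⟩⟩, hb⟩ := IsLocalization.surj (S := Γ(Z, g ⁻¹ᵁ X.basicOpen a))
    (Submonoid.powers (g.app U a))
    (Z.presheaf.map ((Opens.map g.base).map iV).op s)
  have hb' : C.map iV.op s * C.map iU.op ((g.app U a) ^ n) = C.map iU.op b := hb
  refine ⟨a ^ n, b, ?_, ?_⟩
  · rw [X.mem_basicOpen _ x hx, map_pow]
    exact ((X.mem_basicOpen a x hx).mp ha2).pow n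
  · have key := congrArg (C.germ (X.basicOpen a) x ha2) hb'
    rw [map_mul, TopCat.Presheaf.germ_res_apply, TopCat.Presheaf.germ_res_apply,
      TopCat.Presheaf.germ_res_apply] at key
    rw [map_pow]
    exact key

theorem main [IsFinite g] (x : X) :
    Set.BijOn (fun z : {z : Z // g.base z = x} =>
        Ideal.comap (phi g x z.1 z.2).hom (IsLocalRing.maximalIdeal (Z.presheaf.stalk z.1)))
      Set.univ {I : Ideal ((g.base _* Z.presheaf).stalk x) | I.IsMaximal} := by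
  obtain ⟨U, hU, hxU, -⟩ := exists_isAffineOpen_mem_and_subset (x := x) (U := ⊤) trivial
  have hW : IsAffineOpen (g ⁻¹ᵁ U) := hU.preimage g
  let C := g.base _* Z.presheaf
  let ρ : Γ(Z, g ⁻¹ᵁ U) →+* C.stalk x := (C.germ U x hxU).hom
  let gU : Γ(X, U) →+* Γ(Z, g ⁻¹ᵁ U) := (g.app U).hom
  have hint : gU.IsIntegral := (IsFinite.finite_app g U hU).to_isIntegral
  letI : Algebra Γ(X, U) Γ(Z, g ⁻¹ᵁ U) := gU.toAlgebra
  haveI : Algebra.IsIntegral Γ(X, U) Γ(Z, g ⁻¹ᵁ U) := ⟨hint⟩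
  let Φ : {z : Z // g.base z = x} → Ideal (C.stalk x) := fun z =>
    Ideal.comap (phi g x z.1 z.2).hom (IsLocalRing.maximalIdeal (Z.presheaf.stalk z.1))
  have hzW : ∀ z : {z : Z // g.base z = x}, z.1 ∈ g ⁻¹ᵁ U := by
    intro z
    change g.base z.1 ∈ U
    rw [z.2]
    exact hxU
  have hQ : ∀ (z : {z : Z // g.base z = x}) (b : Γ(Z, g ⁻¹ᵁ U)),
      ρ b ∈ Φ z ↔ z.1 ∉ Z.basicOpen b := by
    intro z b
    have h1 : (phi g x z.1 z.2).hom (ρ b) = Z.presheaf.germ (g ⁻¹ᵁ U) z.1 (hzW z) b :=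
      congrArg (fun φ => φ.hom b) (germ_phi g x z.1 z.2 U hxU)
    change (phi g x z.1 z.2).hom (ρ b) ∈ IsLocalRing.maximalIdeal _ ↔ _
    rw [h1, IsLocalRing.mem_maximalIdeal, mem_nonunits_iff, ← Z.mem_basicOpen b z.1 (hzW z)]
  have hE : ∀ (I I' : Ideal (C.stalk x)), (∀ b : Γ(Z, g ⁻¹ᵁ U), ρ b ∈ I → ρ b ∈ I') →
      I ≤ I' := by
    intro I I' h c hc
    obtain ⟨a, b, hxa, hab⟩ := exists_mul_eq g x U hU hxU c
    have hu := isUnit_germ_app g x U hxU a hxa
    have hb : ρ b ∈ I := by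
      change (C.germ U x hxU).hom b ∈ I
      rw [← hab]
      exact I.mul_mem_right _ hc
    have hb' : (C.germ U x hxU).hom b ∈ I' := h b hb
    rw [← hab] at hb'
    exact (Ideal.mul_unit_mem_iff_mem I' hu).mp hb'
  have hprime : ∀ z, (Φ z).IsPrime := fun z => Ideal.comap_isPrime _ _
  -- contraction of a proper ideal to `Γ(X, U)` avoids functions nonvanishing at `x`
  have hnotin : ∀ (I : Ideal (C.stalk x)), I ≠ ⊤ → ∀ a : Γ(X, U), ρ (gU a) ∈ I →
      x ∉ X.basicOpen a := by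
    intro I hI a ha hxa
    exact hI (Ideal.eq_top_of_isUnit_mem _ ha (isUnit_germ_app g x U hxU a hxa))
  have hpre : ∀ (z : Z) (a : Γ(X, U)), z ∈ Z.basicOpen (gU a) ↔ g.base z ∈ X.basicOpen a := by
    intro z a
    have e : g ⁻¹ᵁ X.basicOpen a = Z.basicOpen (g.app U a) := Scheme.preimage_basicOpen g a
    change z ∈ Z.basicOpen (g.app U a) ↔ z ∈ g ⁻¹ᵁ X.basicOpen a
    rw [e]
  have hmax : ∀ z, (Φ z).IsMaximal := by
    intro z
    haveI := hprime z
    by_contra hnot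
    obtain ⟨M, hM, hle⟩ := Ideal.exists_le_maximal (Φ z) (hprime z).ne_top
    have hne : Φ z ≠ M := fun h => hnot (h ▸ hM)
    haveI : (Ideal.comap ρ (Φ z)).IsPrime := Ideal.comap_isPrime ρ (Φ z)
    have hlt : Ideal.comap ρ (Φ z) < Ideal.comap ρ M := by
      refine lt_of_le_of_ne (Ideal.comap_mono hle) ?_
      intro heq
      apply hne
      apply le_antisymm hle
      apply hE
      intro b hb
      have hb2 : b ∈ Ideal.comap ρ M := hb
      rw [← heq] at hb2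
      exact hb2
    have hlt2 := Ideal.IsIntegral.comap_lt_comap (R := Γ(X, U)) hlt
    have hge : Ideal.comap (algebraMap Γ(X, U) Γ(Z, g ⁻¹ᵁ U)) (Ideal.comap ρ M) ≤
        Ideal.comap (algebraMap Γ(X, U) Γ(Z, g ⁻¹ᵁ U)) (Ideal.comap ρ (Φ z)) := by
      intro a ha
      have hxa : x ∉ X.basicOpen a := hnotin M hM.ne_top a ha
      change ρ (gU a) ∈ Φ z
      rw [hQ, hpre, z.2]
      exact hxa
    exact absurd hlt2 (not_lt_of_ge hge)
  refine ⟨fun z _ => hmax z, ?_, ?_⟩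
  · intro z _ z' _ hzz
    apply Subtype.ext
    apply eq_of_basicOpen hW (hzW z) (hzW z')
    intro b
    have h1 := hQ z b
    have h2 := hQ z' b
    have hzz' : Φ z = Φ z' := hzz
    rw [hzz'] at h1
    exact not_iff_not.mp (h1.symm.trans h2)
  · intro I hI
    have hI : I.IsMaximal := hI
    haveI : (Ideal.comap ρ I).IsPrime := Ideal.comap_isPrime ρ I
    let px : Ideal Γ(X, U) := Ideal.comap (X.presheaf.germ U x hxU).hom
      (IsLocalRing.maximalIdeal (X.presheaf.stalk x))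
    haveI : px.IsPrime := Ideal.comap_isPrime _ _
    have hpx : ∀ a : Γ(X, U), a ∈ px ↔ x ∉ X.basicOpen a := by
      intro a
      change (X.presheaf.germ U x hxU).hom a ∈ IsLocalRing.maximalIdeal _ ↔ _
      rw [IsLocalRing.mem_maximalIdeal, mem_nonunits_iff, ← X.mem_basicOpen a x hxU]
    have hle : Ideal.comap (algebraMap Γ(X, U) Γ(Z, g ⁻¹ᵁ U)) (Ideal.comap ρ I) ≤ px := by
      intro a ha
      rw [hpx]
      exact hnotin I hI.ne_top a ha
    obtain ⟨J, hJge, hJprime, hJ⟩ :=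
      Ideal.exists_ideal_over_prime_of_isIntegral_of_isPrime px (Ideal.comap ρ I) hle
    let y : Spec Γ(Z, g ⁻¹ᵁ U) := ⟨J, hJprime⟩
    let z : Z := hW.fromSpec y
    have hzmem : z ∈ g ⁻¹ᵁ U := by
      have : z ∈ Set.range hW.fromSpec := ⟨y, rfl⟩
      rw [hW.range_fromSpec] at this
      exact this
    have hzb : ∀ b : Γ(Z, g ⁻¹ᵁ U), z ∈ Z.basicOpen b ↔ b ∉ J := by
      intro b
      have e := hW.fromSpec_preimage_basicOpen b
      have : y ∈ hW.fromSpec ⁻¹ᵁ Z.basicOpen b ↔ y ∈ PrimeSpectrum.basicOpen b := by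
        rw [e]
        exact Iff.rfl
      exact this
    have hgz : g.base z = x := by
      apply eq_of_basicOpen hU hzmem hxU
      intro a
      rw [← hpre, hzb]
      have : gU a ∈ J ↔ a ∈ px := by
        rw [← hJ]
        rfl
      rw [this, hpx, not_not]
    refine ⟨⟨z, hgz⟩, Set.mem_univ _, ?_⟩
    have hle2 : I ≤ Φ ⟨z, hgz⟩ := by
      apply hE
      intro b hb
      rw [hQ]
      change z ∉ Z.basicOpen b
      rw [hzb, not_not]
      exact hJge hb
    exact (hI.eq_of_le (hprime _).ne_top hle2).symm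

end Groth.Agent.Lead.FinFib
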