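import Mathlib
import Groth.Agent.Helper2.Miracle
import Groth.Agent.Helper2.RegCM
import Groth.Agent.Helper4.RegNormal
import Groth.Agent.Lead.RegLocal

/-!
# Finite morphisms between regular schemes are flat (S10881)
-/

set_option autoImplicit false
universe u
open CategoryTheory AlgebraicGeometry TopologicalSpace Opposite IsLocalRing

namespace Groth.Agent.Lead.FinFlatReg

section Alg
variable {R S : Type u} [CommRing R] [CommRing S] [IsRegularLocalRing R] [IsRegularLocalRing S]
  [Algebra R S] [IsLocalHom (algebraMap R S)]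

/-- a prime of the finite subalgebra `C` between `m_R C` and `m_S ∩ C` is `m_S ∩ C` -/
theorem eq_of_le (C : Subalgebra R S) [Module.Finite R C] (Q : Ideal C) [Q.IsPrime]
    (h1 : (maximalIdeal R).map (algebraMap R C) ≤ Q)
    (h2 : Q ≤ (maximalIdeal S).comap (algebraMap C S)) :
    Q = (maximalIdeal S).comap (algebraMap C S) := by
  haveI : Algebra.IsIntegral R C := Algebra.IsIntegral.of_finite R C
  have h3 : Q.comap (algebraMap R C) = maximalIdeal R := by
    apply ((maximalIdeal.isMaximal R).eq_of_le ?_ ?_).symm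
    · exact (Ideal.comap_ne_top _ (Ideal.IsPrime.ne_top inferInstance))
    · exact Ideal.map_le_iff_le_comap.mp h1
  have h4 : Q.IsMaximal :=
    Ideal.isMaximal_of_isIntegral_of_isMaximal_comap Q (h3 ▸ maximalIdeal.isMaximal R)
  exact h4.eq_of_le (Ideal.comap_ne_top _ (Ideal.IsPrime.ne_top inferInstance)) h2

/-- the localization structure of `S` over the subalgebra `C` -/
theorem isLocalization_atPrime (C : Subalgebra R S)
    (hC : ∀ s : S, ∃ c c' : C, IsUnit (c' : S) ∧ s * c' = c) :
    IsLocalization.AtPrime S ((maximalIdeal S).comap (algebraMap C S)) where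
  map_units y := by
    have hy := y.2
    rw [Ideal.mem_primeCompl_iff, Ideal.mem_comap] at hy
    exact (IsLocalRing.notMem_maximalIdeal.mp hy)
  surj s := by
    obtain ⟨c, c', hu, h⟩ := hC s
    refine ⟨(c, ⟨c', ?_⟩), h⟩
    rw [Ideal.mem_primeCompl_iff, Ideal.mem_comap]
    exact IsLocalRing.notMem_maximalIdeal.mpr hu
  exists_of_eq {x y} h := ⟨1, by
    have : x = y := Subtype.ext h
    rw [this]⟩

theorem flat_of_finite_subalgebra (hinj : Function.Injective (algebraMap R S))
    (C : Subalgebra R S) [Module.Finite R C]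
    (hC : ∀ s : S, ∃ c c' : C, IsUnit (c' : S) ∧ s * c' = c) : Module.Flat R S := by
  haveI : IsDomain R := RegLocal.isDomain_of_isRegularLocalRing R
  haveI : IsDomain S := RegLocal.isDomain_of_isRegularLocalRing S
  haveI : IsIntegrallyClosed R :=
    Groth.Agent.Helper4.RegNormal.isIntegrallyClosed_of_isRegularLocalRing R
  haveI : FaithfulSMul R C := (faithfulSMul_iff_algebraMap_injective R C).mpr
    (fun a b h => hinj (congrArg Subtype.val h))
  haveI : Algebra.IsIntegral R C := Algebra.IsIntegral.of_finite R C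
  haveI : IsNoetherianRing C := by
    have h1 : IsNoetherian R C := isNoetherian_of_isNoetherianRing_of_finite R C
    exact isNoetherian_of_tower R h1
  set P : Ideal C := (maximalIdeal S).comap (algebraMap C S) with hP
  haveI : P.IsPrime := Ideal.comap_isPrime _ _
  haveI hPl : P.LiesOver (maximalIdeal R) := by
    constructor
    rw [Ideal.under_def, hP, Ideal.comap_comap]
    have : (algebraMap C S).comp (algebraMap R C) = algebraMap R S := rfl
    rw [this]
    exact (IsLocalRing.maximalIdeal_comap (algebraMap R S)).symm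
  haveI := isLocalization_atPrime C hC
  -- the height formula
  have hht := Ideal.height_eq_height_add_of_liesOver_of_hasGoingDown (maximalIdeal R) P
  have h0 : (P.map (Ideal.Quotient.mk ((maximalIdeal R).map (algebraMap R C)))).height = 0 := by
    have hle : (maximalIdeal R).map (algebraMap R C) ≤ P := by
      rw [Ideal.map_le_iff_le_comap]
      exact hPl.over.le
    haveI : (P.map (Ideal.Quotient.mk ((maximalIdeal R).map (algebraMap R C)))).IsPrime :=
      Ideal.map_isPrime_of_surjective Ideal.Quotient.mk_surjective (by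
        rw [Ideal.mk_ker]; exact hle)
    rw [Ideal.height_eq_zero_iff]
    refine ⟨⟨inferInstance, bot_le⟩, fun Q' ⟨hQ', _⟩ hQ'le => ?_⟩
    haveI := hQ'
    set Q := Q'.comap (Ideal.Quotient.mk ((maximalIdeal R).map (algebraMap R C))) with hQ
    haveI : Q.IsPrime := Ideal.comap_isPrime _ _
    have h1 : (maximalIdeal R).map (algebraMap R C) ≤ Q := by
      intro c hc
      rw [hQ, Ideal.mem_comap, Ideal.Quotient.eq_zero_iff_mem.mpr hc]
      exact Q'.zero_mem
    have h2 : Q ≤ P := by
      intro c hc
      have h3 : Ideal.Quotient.mk _ c ∈ P.map (Ideal.Quotient.mk _) := hQ'le hc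
      rw [Ideal.mem_map_iff_of_surjective _ Ideal.Quotient.mk_surjective] at h3
      obtain ⟨c', hc', he⟩ := h3
      have h4 : c' - c ∈ (maximalIdeal R).map (algebraMap R C) := by
        rw [← Ideal.Quotient.eq_zero_iff_mem, map_sub, he, sub_self]
      have h5 : c = c' - (c' - c) := by ring
      rw [h5]
      exact P.sub_mem hc' (hle h4)
    have h3 := eq_of_le C Q h1 h2
    rw [← hP] at h3
    rw [← h3, hQ, Ideal.map_comap_of_surjective _ Ideal.Quotient.mk_surjective]
  rw [h0, add_zero] at hht
  have hdimS : ringKrullDim S = ringKrullDim R := by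
    rw [IsLocalization.AtPrime.ringKrullDim_eq_height P S, hht,
      IsLocalRing.maximalIdeal_height_eq_ringKrullDim]
  set I : Ideal S := (maximalIdeal R).map (algebraMap R S) with hI
  have hIle : I ≤ maximalIdeal S := IsLocalRing.map_maximalIdeal_le (algebraMap R S)
  haveI : Nontrivial (S ⧸ I) := Ideal.Quotient.nontrivial_iff.mpr
    (fun h => (maximalIdeal.isMaximal S).ne_top (top_le_iff.mp (h ▸ hIle)))
  have hdim0 : ringKrullDim (S ⧸ I) = 0 := by
    apply le_antisymm _ ringKrullDim_nonneg_of_nontrivial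
    suffices h : Ring.KrullDimLE 0 (S ⧸ I) from Order.KrullDimLE.krullDim_le
    rw [Ring.krullDimLE_zero_iff]
    intro Jb hJb
    haveI := hJb
    set J := Jb.comap (Ideal.Quotient.mk I) with hJ
    haveI : J.IsPrime := Ideal.comap_isPrime _ _
    have hIJ : I ≤ J := by
      intro s hs
      rw [hJ, Ideal.mem_comap, Ideal.Quotient.eq_zero_iff_mem.mpr hs]
      exact Jb.zero_mem
    set Q := J.comap (algebraMap C S) with hQ
    haveI : Q.IsPrime := Ideal.comap_isPrime _ _
    have h1 : (maximalIdeal R).map (algebraMap R C) ≤ Q := by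
      rw [Ideal.map_le_iff_le_comap]
      intro r hr
      rw [Ideal.mem_comap, hQ, Ideal.mem_comap]
      exact hIJ (Ideal.mem_map_of_mem _ hr)
    have h2 : Q ≤ P := Ideal.comap_mono (IsLocalRing.le_maximalIdeal (Ideal.IsPrime.ne_top ‹_›))
    have h3 := eq_of_le C Q h1 h2
    have h4 : J = maximalIdeal S := by
      rw [← IsLocalization.map_comap P.primeCompl S J,
        ← IsLocalization.map_comap P.primeCompl S (maximalIdeal S)]
      exact congrArg (Ideal.map (algebraMap C S)) h3
    have h5 : Jb = (maximalIdeal S).map (Ideal.Quotient.mk I) := by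
      rw [← h4, hJ, Ideal.map_comap_of_surjective _ Ideal.Quotient.mk_surjective]
    rw [h5]
    exact Ideal.IsMaximal.map_of_surjective_of_ker_le Ideal.Quotient.mk_surjective
      (by rw [Ideal.mk_ker]; exact hIle)
  haveI : LocCoh.IsCohenMacaulayLocalRing S :=
    { supportDim_eq_depth := Groth.Agent.Helper2.RegCM.cm_of_isRegularLocalRing S }
  apply Groth.Agent.Helper2.Miracle.flat_of_cm_ring
  rw [hdimS, hdim0, add_zero]

end Alg

section Alg2

open TensorProduct in
theorem flat_of_square (A B R S : Type u) [CommRing A] [CommRing B] [CommRing R] [CommRing S]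
    [Algebra A B] [Algebra A R] [Algebra R S] [Algebra B S] [Algebra A S]
    [IsScalarTower A R S] [IsScalarTower A B S] [Module.Finite A B]
    [IsRegularLocalRing R] [IsRegularLocalRing S] [IsLocalHom (algebraMap R S)]
    (hinj : Function.Injective (algebraMap R S))
    (q : Ideal B) [q.IsPrime] [IsLocalization.AtPrime S q] : Module.Flat R S := by
  let ψ : R ⊗[A] B →ₐ[R] S :=
    Algebra.TensorProduct.productLeftAlgHom (Algebra.ofId R S) (IsScalarTower.toAlgHom A B S)
  haveI : Module.Finite R ψ.range :=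
    Module.Finite.of_surjective ψ.rangeRestrict.toLinearMap ψ.rangeRestrict_surjective
  apply flat_of_finite_subalgebra hinj ψ.range
  intro s
  obtain ⟨⟨b, m⟩, hbm⟩ := IsLocalization.surj q.primeCompl s
  refine ⟨⟨algebraMap B S b, ⟨1 ⊗ₜ b, by simp [ψ]⟩⟩, ⟨algebraMap B S m, ⟨1 ⊗ₜ (m : B), by simp [ψ]⟩⟩,
    IsLocalization.map_units S m, hbm⟩

end Alg2

section Sch

variable {X Y : Scheme.{u}}

/-- generization maps out of a domain stalk are injective -/
theorem stalkSpecializes_injective_of_isDomain (Y : Scheme.{u}) {η y : Y} (h : η ⤳ y)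
    [IsDomain (Y.presheaf.stalk y)] :
    Function.Injective (Y.presheaf.stalkSpecializes h) := by
  obtain ⟨_, ⟨V, hV, rfl⟩, hyV, -⟩ :=
    Y.isBasis_affineOpens.exists_subset_of_mem_open (Set.mem_univ y) isOpen_univ
  have hηV : η ∈ V := h.mem_open V.2 hyV
  letI a1 := Y.presheaf.algebra_section_stalk ⟨y, hyV⟩
  haveI l1 := hV.isLocalization_stalk ⟨y, hyV⟩
  apply l1.injective_of_map_algebraMap_zero
  intro a₀ ha
  have ha' : Y.presheaf.germ V η hηV a₀ = 0 := by
    rw [← ha, ← Y.presheaf.germ_stalkSpecializes hyV h]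
    rfl
  letI a2 := Y.presheaf.algebra_section_stalk ⟨η, hηV⟩
  haveI l2 := hV.isLocalization_stalk ⟨η, hηV⟩
  obtain ⟨t, ht⟩ := (IsLocalization.map_eq_zero_iff
    (hV.primeIdealOf ⟨η, hηV⟩).asIdeal.primeCompl (Y.presheaf.stalk η) a₀).mp ha'
  have h1 : Y.presheaf.germ V y hyV (t : Γ(Y, V)) * Y.presheaf.germ V y hyV a₀ = 0 := by
    rw [← map_mul, ht, map_zero]
  rcases mul_eq_zero.mp h1 with h2 | h2
  · exfalso
    have h3 : Y.presheaf.germ V η hηV (t : Γ(Y, V)) = 0 := by
      rw [← Y.presheaf.germ_stalkSpecializes hyV h]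
      show (Y.presheaf.stalkSpecializes h) (Y.presheaf.germ V y hyV (t : Γ(Y, V))) = 0
      rw [h2, map_zero]
    have h4 : IsUnit (Y.presheaf.germ V η hηV (t : Γ(Y, V))) :=
      IsLocalization.map_units (Y.presheaf.stalk η) t
    rw [h3] at h4
    exact not_isUnit_zero h4
  · exact h2

/-- the generic point of an irreducible component of `Y` has a field as local ring, if it is a
domain -/
theorem isField_stalk_of_closure_mem (Y : Scheme.{u}) (η : Y)
    (hη : closure {η} ∈ irreducibleComponents (Y : Type u)) [IsDomain (Y.presheaf.stalk η)] :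
    IsField (Y.presheaf.stalk η) := by
  have hmax : IsMax η := by
    intro y hy
    have hy' : y ⤳ η := hy
    show η ⤳ y
    rw [specializes_iff_mem_closure]
    have h1 : closure {η} ⊆ closure {y} := by
      apply closure_minimal _ isClosed_closure
      rw [Set.singleton_subset_iff]
      exact specializes_iff_mem_closure.mp hy'
    have h2 := hη.2 (isIrreducible_singleton.closure) h1
    exact h2 (subset_closure (Set.mem_singleton y))
  haveI := krullDimLE_of_coheight_le (X := Y) (z := η) (n := 0)
    (by rw [Order.coheight_eq_zero.mpr hmax]; rfl)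
  exact Ring.KrullDimLE.isField_of_isDomain

theorem stalkMap_injective_of_dominate (f : X ⟶ Y)
    (hY : ∀ y : Y, IsDomain (Y.presheaf.stalk y))
    (hdom : ∀ Z ∈ irreducibleComponents (X : Type u),
      closure (f.base '' Z) ∈ irreducibleComponents (Y : Type u))
    (x : X) : Function.Injective (f.stalkMap x).hom := by
  have hZ := irreducibleComponent_mem_irreducibleComponents x
  obtain ⟨ξ, hξ⟩ := QuasiSober.sober (isIrreducible_irreducibleComponent (x := x))
    isClosed_irreducibleComponent
  have hsp : ξ ⤳ x := by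
    rw [specializes_iff_mem_closure, hξ.def]
    exact mem_irreducibleComponent
  have hW := hdom _ hZ
  rw [← hξ.def, closure_image_closure f.continuous, Set.image_singleton] at hW
  haveI := hY (f ξ)
  haveI := hY (f x)
  have hF := isField_stalk_of_closure_mem Y (f ξ) hW
  have hnat := f.stalkSpecializes_stalkMap _ _ hsp
  have hinj1 : Function.Injective (f.stalkMap ξ).hom := by
    letI := hF.toField
    exact (f.stalkMap ξ).hom.injective
  have hinj2 := stalkSpecializes_injective_of_isDomain Y (hsp.map f.continuous)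
  have hcomp : Function.Injective
      (Y.presheaf.stalkSpecializes (hsp.map f.continuous) ≫ f.stalkMap ξ).hom := by
    rw [CommRingCat.hom_comp]
    exact hinj1.comp hinj2
  rw [hnat, CommRingCat.hom_comp] at hcomp
  exact Function.Injective.of_comp hcomp

theorem flat_of_finite_regular (f : X ⟶ Y) [IsFinite f]
    (hX : ∀ x : X, IsRegularLocalRing (X.presheaf.stalk x))
    (hY : ∀ y : Y, IsRegularLocalRing (Y.presheaf.stalk y))
    (hdom : ∀ Z ∈ irreducibleComponents (X : Type u),
      closure (f.base '' Z) ∈ irreducibleComponents (Y : Type u)) :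
    Flat f := by
  apply Flat.of_stalkMap
  intro x
  have hinj := stalkMap_injective_of_dominate f
    (fun y => haveI := hY y; RegLocal.isDomain_of_isRegularLocalRing _) hdom x
  obtain ⟨_, ⟨V, hV, rfl⟩, hyV, -⟩ :=
    Y.isBasis_affineOpens.exists_subset_of_mem_open (Set.mem_univ (f x)) isOpen_univ
  have hU : IsAffineOpen (f ⁻¹ᵁ V) := hV.preimage f
  have hxU : x ∈ f ⁻¹ᵁ V := hyV
  haveI := hX x
  haveI := hY (f x)
  letI a1 : Algebra Γ(Y, V) Γ(X, f ⁻¹ᵁ V) := (f.app V).hom.toAlgebra
  letI a2 : Algebra Γ(Y, V) (Y.presheaf.stalk (f x)) :=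
    Y.presheaf.algebra_section_stalk ⟨f x, hyV⟩
  letI a3 : Algebra (Y.presheaf.stalk (f x)) (X.presheaf.stalk x) := (f.stalkMap x).hom.toAlgebra
  letI a4 : Algebra Γ(X, f ⁻¹ᵁ V) (X.presheaf.stalk x) :=
    X.presheaf.algebra_section_stalk ⟨x, hxU⟩
  letI a5 : Algebra Γ(Y, V) (X.presheaf.stalk x) :=
    ((f.stalkMap x).hom.comp (Y.presheaf.germ V (f x) hyV).hom).toAlgebra
  haveI t1 : IsScalarTower Γ(Y, V) (Y.presheaf.stalk (f x)) (X.presheaf.stalk x) :=
    IsScalarTower.of_algebraMap_eq' rfl
  haveI t2 : IsScalarTower Γ(Y, V) Γ(X, f ⁻¹ᵁ V) (X.presheaf.stalk x) := by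
    apply IsScalarTower.of_algebraMap_eq'
    have := f.germ_stalkMap V x hyV
    exact congrArg CommRingCat.Hom.hom this
  haveI : Module.Finite Γ(Y, V) Γ(X, f ⁻¹ᵁ V) := IsFinite.finite_app f V hV
  haveI : IsLocalHom (algebraMap (Y.presheaf.stalk (f x)) (X.presheaf.stalk x)) :=
    inferInstanceAs (IsLocalHom (f.stalkMap x).hom)
  haveI := hU.isLocalization_stalk ⟨x, hxU⟩
  exact flat_of_square Γ(Y, V) Γ(X, f ⁻¹ᵁ V) (Y.presheaf.stalk (f x)) (X.presheaf.stalk x) hinj
    (hU.primeIdealOf ⟨x, hxU⟩).asIdeal

end Sch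

end Groth.Agent.Lead.FinFlatReg
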