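import Mathlib
import Groth.Prelude.Def_Coh
import Groth.Prelude.Def_CurvBase
import Groth.Prelude.Def_FlatMod2
import Groth.Agent.Helper4.AssDict
import Groth.Agent.Helper4.FinLocFree6
import Groth.Agent.Helper4.RegNormal
import Groth.Agent.Lead.RegLocal
import Groth.Agent.Lead.FinFlatReg

/-!
# Finite morphisms to regular schemes of dimension `≤ 1` (S14415)
-/

set_option autoImplicit false
universe u
open CategoryTheory AlgebraicGeometry TopologicalSpace Opposite IsLocalRing Submodule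

namespace Groth.Agent.Lead.FinFlatCurve

open Groth.Agent.Helper4 Groth.Agent.Lead

/-- a Noetherian integrally closed local domain of dimension `≤ 1` is a valuation ring -/
theorem valuationRing_of_normal (R : Type u) [CommRing R] [IsDomain R] [IsLocalRing R]
    [IsNoetherianRing R] [IsIntegrallyClosed R] (h : ringKrullDim R ≤ 1) : ValuationRing R := by
  haveI : Ring.KrullDimLE 1 R := Ring.krullDimLE_iff.mpr h
  have h3 : IsIntegrallyClosed R ∧ ∀ P : Ideal R, P ≠ ⊥ → P.IsPrime → P = maximalIdeal R := by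
    refine ⟨inferInstance, ?_⟩
    intro P hP hPp
    exact IsLocalRing.eq_maximalIdeal (hPp.isMaximal_of_ne_bot hP)
  exact ((tfae_of_isNoetherianRing_of_isLocalRing_of_isDomain R).out 3 1).mp h3

theorem lofp_of_loft_of_isLocallyNoetherian {X Y : Scheme.{u}} (f : X ⟶ Y)
    [IsLocallyNoetherian Y] [LocallyOfFiniteType f] : LocallyOfFinitePresentation f := by
  rw [HasRingHomProperty.iff_appLE (P := @LocallyOfFinitePresentation)]
  intro U V e
  have : IsNoetherianRing Γ(Y, U) := IsLocallyNoetherian.component_noetherian U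
  rw [← RingHom.FinitePresentation.of_finiteType]
  exact (HasRingHomProperty.iff_appLE (P := @LocallyOfFiniteType)).mp ‹_› U V e

variable {C C' : Scheme.{u}}

theorem specializes_of_primeIdealOf_le {U : C.Opens} (hU : IsAffineOpen U) (x x' : C)
    (hx : x ∈ U) (hx' : x' ∈ U)
    (hle : hU.primeIdealOf ⟨x', hx'⟩ ≤ hU.primeIdealOf ⟨x, hx⟩) : x' ⤳ x := by
  have h1 : hU.primeIdealOf ⟨x', hx'⟩ ⤳ hU.primeIdealOf ⟨x, hx⟩ :=
    (PrimeSpectrum.le_iff_specializes _ _).mp hle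
  have h2 := h1.map hU.fromSpec.continuous
  rwa [hU.fromSpec_primeIdealOf ⟨x', hx'⟩, hU.fromSpec_primeIdealOf ⟨x, hx⟩] at h2

theorem flat_of_ass (f : C ⟶ C') [IsAffineHom f]
    (hreg : ∀ y : C', IsRegularLocalRing (C'.presheaf.stalk y))
    (hdim : ∀ y : C', ringKrullDim (C'.presheaf.stalk y) ≤ 1)
    (hass : ∀ x : C, Curv2.IsAssPoint (Coh.structureModule C) x →
      ringKrullDim (C'.presheaf.stalk (f.base x)) = 0) : Flat f := by
  apply Flat.of_stalkMap
  intro x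
  haveI := hreg (f x)
  haveI : IsDomain (C'.presheaf.stalk (f x)) := RegLocal.isDomain_of_isRegularLocalRing _
  haveI : IsIntegrallyClosed (C'.presheaf.stalk (f x)) :=
    RegNormal.isIntegrallyClosed_of_isRegularLocalRing _
  haveI hval : ValuationRing (C'.presheaf.stalk (f x)) := valuationRing_of_normal _ (hdim (f x))
  letI a3 : Algebra (C'.presheaf.stalk (f x)) (C.presheaf.stalk x) := (f.stalkMap x).hom.toAlgebra
  show Module.Flat (C'.presheaf.stalk (f x)) (C.presheaf.stalk x)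
  rw [Module.Flat.flat_iff_torsion_eq_bot_of_isBezout, Submodule.eq_bot_iff]
  intro m hm
  obtain ⟨a, ha⟩ := (Submodule.mem_torsion_iff m).mp hm
  have ha' : (f.stalkMap x).hom (a : C'.presheaf.stalk (f x)) * m = 0 := ha
  have ha0 : (a : C'.presheaf.stalk (f x)) ≠ 0 := nonZeroDivisors.coe_ne_zero a
  by_contra hm0
  obtain ⟨_, ⟨V, hV, rfl⟩, hyV, -⟩ :=
    C'.isBasis_affineOpens.exists_subset_of_mem_open (Set.mem_univ (f x)) isOpen_univ
  have hU : IsAffineOpen (f ⁻¹ᵁ V) := hV.preimage f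
  have hxU : x ∈ f ⁻¹ᵁ V := hyV
  letI a1 := C'.presheaf.algebra_section_stalk ⟨f x, hyV⟩
  haveI l1 := hV.isLocalization_stalk ⟨f x, hyV⟩
  letI a2 := C.presheaf.algebra_section_stalk ⟨x, hxU⟩
  haveI l2 := hU.isLocalization_stalk ⟨x, hxU⟩
  obtain ⟨⟨a₀, s⟩, has⟩ := IsLocalization.surj (hV.primeIdealOf ⟨f x, hyV⟩).asIdeal.primeCompl
    (a : C'.presheaf.stalk (f x))
  obtain ⟨⟨b, t⟩, hbt⟩ := IsLocalization.surj (hU.primeIdealOf ⟨x, hxU⟩).asIdeal.primeCompl m
  have has' : (a : C'.presheaf.stalk (f x)) * C'.presheaf.germ V (f x) hyV (s : Γ(C', V)) =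
      C'.presheaf.germ V (f x) hyV a₀ := has
  have hbt' : m * C.presheaf.germ (f ⁻¹ᵁ V) x hxU (t : Γ(C, f ⁻¹ᵁ V)) =
      C.presheaf.germ (f ⁻¹ᵁ V) x hxU b := hbt
  have hsu : IsUnit (C'.presheaf.germ V (f x) hyV (s : Γ(C', V))) :=
    IsLocalization.map_units (C'.presheaf.stalk (f x)) s
  have htu : IsUnit (C.presheaf.germ (f ⁻¹ᵁ V) x hxU (t : Γ(C, f ⁻¹ᵁ V))) :=
    IsLocalization.map_units (C.presheaf.stalk x) t
  -- step 1, 2
  have h1 : C'.presheaf.germ V (f x) hyV a₀ ≠ 0 := by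
    rw [← has']
    exact mul_ne_zero ha0 hsu.ne_zero
  have h2 : C.presheaf.germ (f ⁻¹ᵁ V) x hxU b ≠ 0 := by
    rw [← hbt']
    intro h
    exact hm0 ((htu.mul_left_eq_zero).mp h)
  -- step 3
  have hgs : ∀ c : Γ(C', V), (f.stalkMap x).hom (C'.presheaf.germ V (f x) hyV c) =
      C.presheaf.germ (f ⁻¹ᵁ V) x hxU ((f.app V).hom c) :=
    fun c => Scheme.Hom.germ_stalkMap_apply f V x hyV c
  have h3 : C.presheaf.germ (f ⁻¹ᵁ V) x hxU ((f.app V).hom a₀ * b) = 0 := by
    rw [map_mul, ← hgs, ← has', ← hbt', map_mul]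
    calc (f.stalkMap x).hom (a : C'.presheaf.stalk (f x)) *
          (f.stalkMap x).hom (C'.presheaf.germ V (f x) hyV (s : Γ(C', V))) *
          (m * C.presheaf.germ (f ⁻¹ᵁ V) x hxU (t : Γ(C, f ⁻¹ᵁ V)))
        = ((f.stalkMap x).hom (a : C'.presheaf.stalk (f x)) * m) *
          ((f.stalkMap x).hom (C'.presheaf.germ V (f x) hyV (s : Γ(C', V))) *
            C.presheaf.germ (f ⁻¹ᵁ V) x hxU (t : Γ(C, f ⁻¹ᵁ V))) := by ring
      _ = 0 := by rw [ha', zero_mul]
  -- step 4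
  obtain ⟨t', ht'⟩ := (IsLocalization.map_eq_zero_iff
    (hU.primeIdealOf ⟨x, hxU⟩).asIdeal.primeCompl (C.presheaf.stalk x) _).mp h3
  have ht'u : IsUnit (C.presheaf.germ (f ⁻¹ᵁ V) x hxU (t' : Γ(C, f ⁻¹ᵁ V))) :=
    IsLocalization.map_units (C.presheaf.stalk x) t'
  set b' : Γ(C, f ⁻¹ᵁ V) := (t' : Γ(C, f ⁻¹ᵁ V)) * b with hb'
  have h4 : (f.app V).hom a₀ * b' = 0 := by
    rw [hb', ← ht']; ring
  have h5 : C.presheaf.germ (f ⁻¹ᵁ V) x hxU b' ≠ 0 := by
    rw [hb', map_mul]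
    intro h
    exact h2 ((ht'u.mul_right_eq_zero).mp h)
  -- step 5: an associated point
  haveI : (Coh.structureModule C).IsQuasicoherent :=
    FinLocFree4.isQuasicoherent_of_isFinLocFree _ (FinLocFree6.isFinLocFree_unit (X := C))
  let bm : Γ(Coh.structureModule C, f ⁻¹ᵁ V) := b'
  have hsm : ∀ c : Γ(C, f ⁻¹ᵁ V), c • bm = (c * b' : Γ(C, f ⁻¹ᵁ V)) := fun c => rfl
  have hcolon : (colon (⊥ : Submodule Γ(C, f ⁻¹ᵁ V) Γ(Coh.structureModule C, f ⁻¹ᵁ V)) {bm} :
      Ideal Γ(C, f ⁻¹ᵁ V)) ≤ (hU.primeIdealOf ⟨x, hxU⟩).asIdeal := by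
    intro c hc
    rw [mem_colon_singleton, mem_bot, hsm] at hc
    by_contra hcq
    have hcu : IsUnit (C.presheaf.germ (f ⁻¹ᵁ V) x hxU c) :=
      IsLocalization.map_units (C.presheaf.stalk x)
        (⟨c, hcq⟩ : (hU.primeIdealOf ⟨x, hxU⟩).asIdeal.primeCompl)
    have h6 : C.presheaf.germ (f ⁻¹ᵁ V) x hxU c * C.presheaf.germ (f ⁻¹ᵁ V) x hxU b' = 0 := by
      rw [← map_mul]
      have : (c * b' : Γ(C, f ⁻¹ᵁ V)) = 0 := hc
      rw [this, map_zero]
    exact h5 ((hcu.mul_right_eq_zero).mp h6)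
  obtain ⟨x', hx'U, hx'ass, hmin, hle⟩ :=
    AssDict.exists_isAssPoint_le hU (Coh.structureModule C) bm (hU.primeIdealOf ⟨x, hxU⟩) hcolon
  -- step 6
  have hd0 := hass x' hx'ass
  haveI := hreg (f x')
  haveI : IsDomain (C'.presheaf.stalk (f x')) := RegLocal.isDomain_of_isRegularLocalRing _
  haveI : Ring.KrullDimLE 0 (C'.presheaf.stalk (f x')) := Ring.krullDimLE_iff.mpr hd0.le
  have hfield : IsField (C'.presheaf.stalk (f x')) := Ring.KrullDimLE.isField_of_isDomain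
  -- step 7
  have hy'V : f x' ∈ V := hx'U
  have h7 : (f.app V).hom a₀ ∈ (hU.primeIdealOf ⟨x', hx'U⟩).asIdeal := by
    apply hmin.1.2
    rw [mem_colon_singleton, mem_bot, hsm]
    exact h4
  letI a2' := C.presheaf.algebra_section_stalk ⟨x', hx'U⟩
  haveI l2' := hU.isLocalization_stalk ⟨x', hx'U⟩
  have h8 : C.presheaf.germ (f ⁻¹ᵁ V) x' hx'U ((f.app V).hom a₀) ∈
      maximalIdeal (C.presheaf.stalk x') :=
    (IsLocalization.AtPrime.to_map_mem_maximal_iff (C.presheaf.stalk x')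
      (hU.primeIdealOf ⟨x', hx'U⟩).asIdeal ((f.app V).hom a₀)).mpr h7
  -- step 8
  have h9 : C'.presheaf.germ V (f x') hy'V a₀ = 0 := by
    by_contra hne
    have hu : IsUnit (C'.presheaf.germ V (f x') hy'V a₀) := by
      letI := hfield.toField
      exact isUnit_iff_ne_zero.mpr hne
    have hu' := hu.map (f.stalkMap x').hom
    rw [Scheme.Hom.germ_stalkMap_apply f V x' hy'V a₀] at hu'
    exact (mem_maximalIdeal _).mp h8 hu'
  -- step 9, 10
  have hsp : x' ⤳ x := specializes_of_primeIdealOf_le hU x x' hxU hx'U hle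
  have hsp' : f x' ⤳ f x := hsp.map f.continuous
  have hinj := FinFlatReg.stalkSpecializes_injective_of_isDomain C' hsp'
  apply h1
  apply hinj
  rw [map_zero]
  have := C'.presheaf.germ_stalkSpecializes hyV hsp'
  have h10 : (C'.presheaf.stalkSpecializes hsp') (C'.presheaf.germ V (f x) hyV a₀) =
      C'.presheaf.germ V (f x') hy'V a₀ := by
    rw [← this]
    rfl
  rw [h10, h9]

theorem s14415 (f : C ⟶ C') [IsFinite f] [IsLocallyNoetherian C']
    (hreg : ∀ y : C', IsRegularLocalRing (C'.presheaf.stalk y))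
    (hdim : ∀ y : C', ringKrullDim (C'.presheaf.stalk y) ≤ 1)
    (hass : ∀ x : C, Curv2.IsAssPoint (Coh.structureModule C) x →
      ringKrullDim (C'.presheaf.stalk (f.base x)) = 0) :
    FlatMod.IsFinLocFree ((Coh.push f).obj (Coh.structureModule C)) := by
  haveI : Flat f := flat_of_ass f hreg hdim hass
  haveI : LocallyOfFinitePresentation f := lofp_of_loft_of_isLocallyNoetherian f
  exact FinLocFree6.isFinLocFree_push_of_finite_flat_lfp f

end Groth.Agent.Lead.FinFlatCurve
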