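import Mathlib

set_option autoImplicit false
universe w v u
open CategoryTheory CategoryTheory.Limits

namespace Groth.Agent.Lead.Finest

variable {C : Type u} [Category.{v} C] (P : Cᵒᵖ ⥤ Type w)

/-- a presheaf is a sheaf for any presieve generating a covering sieve of its finest topology -/
theorem isSheafFor_of_generate_mem {X : C} (R : Presieve X)
    (h : Sieve.generate R ∈ Sheaf.finestTopologySingle P X) : Presieve.IsSheafFor P R := by
  rw [Presieve.isSheafFor_iff_generate]
  have := h X (𝟙 X)
  rwa [Sieve.pullback_id] at this

theorem le_finestTopologySingle (J : GrothendieckTopology C) (hJ : Presieve.IsSheaf J P) :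
    J ≤ Sheaf.finestTopologySingle P := by
  intro X S hS Y f
  exact hJ _ (J.pullback_stable f hS)

/-- a single morphism all of whose base changes satisfy the sheaf condition covers -/
theorem generate_singleton_mem [HasPullbacks C] {X V : C} (f : V ⟶ X)
    (h : ∀ ⦃Y : C⦄ (g : Y ⟶ X), Presieve.IsSheafFor P (Presieve.singleton (pullback.snd f g))) :
    Sieve.generate (Presieve.singleton f) ∈ Sheaf.finestTopologySingle P X := by
  intro Y g
  rw [← Sieve.pullbackArrows_comm, ← Presieve.isSheafFor_iff_generate, Presieve.pullback_singleton]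
  exact h g

/-- a sieve is covering if it is so after pulling back along the members of a covering sieve
generated by a family, -/
theorem mem_of_ofArrows {J : GrothendieckTopology C} {X : C} {ι : Type*} (Y : ι → C)
    (f : ∀ i, Y i ⟶ X) (hf : Sieve.ofArrows Y f ∈ J X) (R : Sieve X)
    (h : ∀ i, R.pullback (f i) ∈ J (Y i)) : R ∈ J X := by
  refine J.transitive hf R ?_
  rintro Z g ⟨W, a, b, ⟨i⟩, rfl⟩
  rw [Sieve.pullback_comp]
  exact J.pullback_stable a (h i)

/-- same with a single morphism -/
theorem mem_of_singleton {J : GrothendieckTopology C} {X V : C} (f : V ⟶ X)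
    (hf : Sieve.generate (Presieve.singleton f) ∈ J X) (R : Sieve X)
    (h : R.pullback f ∈ J V) : R ∈ J X := by
  refine J.transitive hf R ?_
  rintro Z g ⟨W, a, b, ⟨⟩, rfl⟩
  rw [Sieve.pullback_comp]
  exact J.pullback_stable a h

end Groth.Agent.Lead.Finest
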