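import Groth.Agent.Lead.FittSheafA
import Groth.Agent.Helper4.FPGlue
import Groth.Agent.Helper7.Fitt8
import Groth.Prelude.Def_BlowUp2
import Mathlib

/-!
# Lead: the Fitting ideal sheaves of a finitely presented module are of finite type
-/

set_option autoImplicit false
open CategoryTheory AlgebraicGeometry Opposite TopologicalSpace
universe u

namespace Groth.Agent.Lead.FittSheafC
open Scheme.Modules Groth.Agent.Helper4 Groth.Agent.Helper7.FittLib

variable {X : Scheme.{u}} (F : X.Modules)

theorem isFiniteTypeIdeal (hF : SheafOfModules.IsFinitePresentation (R := X.ringCatSheaf) F)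
    (r : ℕ) : BlowUp.IsFiniteTypeIdeal (Fitt.sheafIdeal F r) := by
  haveI : SheafOfModules.IsFinitePresentation (R := X.ringCatSheaf) F := hF
  haveI : F.IsQuasicoherent := inferInstance
  have hft : SheafOfModules.IsFiniteType (R := X.ringCatSheaf) F := inferInstance
  intro U
  rw [FittSheafA.ideal_sheafIdeal F hft r U]
  haveI := FPGlue.fp_sections F hF U.2
  exact fitt_fg r

end Groth.Agent.Lead.FittSheafC
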