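import Groth.Agent.Lead.StrictCoh
import Groth.Agent.Lead.FittSheafF
import Groth.Agent.Lead.FittSheafE
import Groth.Agent.Lead.FittSheafD
import Groth.Agent.Lead.LimPres
import Groth.Agent.Helper7.Fitt7
import Groth.Agent.Helper4.QcohEpi

/-!
# Strict transforms along the blow-up of a Fitting ideal
-/

set_option autoImplicit false
set_option linter.style.haveILetI false
universe u
open CategoryTheory CategoryTheory.Limits AlgebraicGeometry Opposite TopologicalSpace

namespace Groth.Agent.Lead.FittStrict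
open Groth.Agent.Helper4 Groth.Agent.Helper7.FittLib

variable {S S' : Scheme.{u}}

/-- a strict transform with respect to an effective Cartier inverse image ideal is quasi-coherent -/
theorem isQuasicoherent_of_isEffCartier (b : S' ⟶ S) (I : S.IdealSheafData)
    (hE : BlowUp.IsEffCartierIdeal (I.comap b)) (F : S.Modules) [F.IsQuasicoherent]
    (G : S'.Modules) (π : (Scheme.Modules.pullback b).obj F ⟶ G)
    (hG : BlowUp.IsStrictTransform b I F G π) : G.IsQuasicoherent := by
  haveI : ((Scheme.Modules.pullback b).obj F).IsQuasicoherent :=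
    StalkPull.isQuasicoherent_pullbackObj b F
  haveI : Epi π := hG.1
  refine StrictCoh.isQuasicoherent_of_epi π (I.comap b) (fun x => ?_) hG.2
  obtain ⟨V, hxV, f, -, hV⟩ := hE x
  refine ⟨V.1, V.2, hxV, fun n => ?_⟩
  rw [Scheme.IdealSheafData.ideal_pow]
  change (((I.comap b).ideal V) ^ n).FG
  rw [hV]
  exact Ideal.FG.pow ⟨{f}, by simp⟩

variable (F : S.Modules) [F.IsQuasicoherent]
  (hft : SheafOfModules.IsFiniteType (R := S.ringCatSheaf) F) (k : ℕ) (b : S' ⟶ S)
  (G : S'.Modules) (π : (Scheme.Modules.pullback b).obj F ⟶ G)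
  (hG : BlowUp.IsStrictTransform b (Fitt.sheafIdeal F k) F G π)

include hft hG in
theorem fitt_sections_eq_top [G.IsQuasicoherent] (V : S'.affineOpens) (δ : Γ(S', V.1))
    (hV : ((Fitt.sheafIdeal F k).comap b).ideal V = Ideal.span {δ}) :
    Fitt.ideal Γ(S', V.1) Γ(G, V.1) k = ⊤ := by
  haveI : ((Scheme.Modules.pullback b).obj F).IsQuasicoherent :=
    StalkPull.isQuasicoherent_pullbackObj b F
  have hftP : SheafOfModules.IsFiniteType (R := S'.ringCatSheaf)
      ((Scheme.Modules.pullback b).obj F) := LimPres.isFT_pullback b F hft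
  haveI : Epi π := hG.1
  haveI : Module.Finite Γ(S', V.1) Γ((Scheme.Modules.pullback b).obj F, V.1) :=
    SecDict.finite_sections V.2 _ inferInstance hftP
  have hfit : Fitt.ideal Γ(S', V.1) Γ((Scheme.Modules.pullback b).obj F, V.1) k =
      Ideal.span {δ} := by
    rw [← FittSheafA.ideal_sheafIdeal _ hftP k V, ← FittSheafE.comap_sheafIdeal b F hft k]
    exact hV
  set T := LinearMap.ker (δ • (LinearMap.id :
    Γ((Scheme.Modules.pullback b).obj F, V.1) →ₗ[Γ(S', V.1)] _)) with hT
  have h1 := fitt_quot_eq_top_of_principal _ k δ hfit T le_rfl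
  have hTle : T ≤ LinearMap.ker (QcohEpi.appLin π V.1) := by
    intro m hm
    have hm' : δ • m = 0 := hm
    rw [LinearMap.mem_ker, QcohEpi.appLin_apply]
    refine (hG.2 V m).mpr ⟨1, fun a ha => ?_⟩
    rw [pow_one] at ha
    have ha' : a ∈ Ideal.span {δ} := hV ▸ ha
    obtain ⟨c, rfl⟩ := Ideal.mem_span_singleton'.mp ha'
    rw [mul_smul, hm', smul_zero]
  have hsurj : Function.Surjective (T.liftQ (QcohEpi.appLin π V.1) hTle) := by
    intro y
    obtain ⟨m, rfl⟩ := QcohEpi.app_surjective_of_epi π V.2 y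
    exact ⟨T.mkQ m, rfl⟩
  have h2 := fitt_le_of_surjective (T.liftQ (QcohEpi.appLin π V.1) hTle) hsurj k
  rw [h1] at h2
  exact top_le_iff.mp h2

include hft hG in
/-- S8911 -/
theorem generated_by_le (hE : BlowUp.IsEffCartierIdeal ((Fitt.sheafIdeal F k).comap b))
    (s' : S') : ∃ U : S'.Opens, s' ∈ U ∧ ∃ q : FlatMod.freeMod (↑U) k ⟶ G.restrict U.ι, Epi q := by
  haveI : ((Scheme.Modules.pullback b).obj F).IsQuasicoherent :=
    StalkPull.isQuasicoherent_pullbackObj b F
  have hftP : SheafOfModules.IsFiniteType (R := S'.ringCatSheaf)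
      ((Scheme.Modules.pullback b).obj F) := LimPres.isFT_pullback b F hft
  haveI : Epi π := hG.1
  haveI : G.IsQuasicoherent := isQuasicoherent_of_isEffCartier b _ hE F G π hG
  have hftG : SheafOfModules.IsFiniteType (R := S'.ringCatSheaf) G :=
    QcohEpi.isFiniteType_of_epi π hftP
  rw [FittSheafF.main G hftG s' k]
  obtain ⟨V, hxV, δ, -, hV⟩ := hE s'
  rw [FittSheafB.mem_support_iff G hftG k V.2 s' hxV, fitt_sections_eq_top F hft k b G π hG V δ hV]
  intro h
  exact (V.2.primeIdealOf ⟨s', hxV⟩).isPrime.ne_top (top_le_iff.mp h)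

end Groth.Agent.Lead.FittStrict
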