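import Groth.Agent.Lead.FittStrict
import Groth.Agent.Lead.ThickBC
import Groth.Agent.Lead.AnnSheaf
import Groth.Agent.Helper4.FinLocFree2

/-!
# Strict transforms along the blow-up of a Fitting ideal: local freeness
-/

set_option autoImplicit false
set_option linter.style.haveILetI false
universe u
open CategoryTheory CategoryTheory.Limits AlgebraicGeometry Opposite TopologicalSpace

namespace Groth.Agent.Lead.FittStrict
open Groth.Agent.Helper4 Groth.Agent.Helper7.FittLib Groth.Agent.Helper4.FinLocFree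

theorem exists_pow_mul_eq_zero {A : Type*} [CommRing A] (x δ : A)
    (h : ∀ q : PrimeSpectrum A, δ ∉ q.asIdeal → ∃ s, s ∉ q.asIdeal ∧ s * x = 0) :
    ∃ n : ℕ, δ ^ n * x = 0 := by
  let 𝔞 : Ideal A := LinearMap.ker (LinearMap.toSpanSingleton A A x)
  have hmem : ∀ s : A, s ∈ 𝔞 ↔ s * x = 0 := fun s => by
    simp [𝔞, LinearMap.mem_ker, LinearMap.toSpanSingleton_apply]
  have hrad : δ ∈ 𝔞.radical := by
    rw [Ideal.radical_eq_sInf, Ideal.mem_sInf]
    rintro p ⟨hle, hp⟩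
    by_contra hδ
    obtain ⟨s, hs, hsx⟩ := h ⟨p, hp⟩ hδ
    exact hs (hle ((hmem s).mpr hsx))
  obtain ⟨n, hn⟩ := hrad
  exact ⟨n, (hmem _).mp hn⟩

variable {S S' : Scheme.{u}}

theorem primeIdealOf_fromSpec {V : S'.Opens} (hV : IsAffineOpen V) (q : PrimeSpectrum Γ(S', V))
    (hq : hV.fromSpec q ∈ V) : hV.primeIdealOf ⟨hV.fromSpec q, hq⟩ = q := by
  apply hV.fromSpec.isOpenEmbedding.injective
  exact hV.fromSpec_primeIdealOf ⟨hV.fromSpec q, hq⟩


/-- a basis on small affine neighbourhoods inside an open over which the module is free of rank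
`r` locally -/
theorem exists_affine_basis_of_restrict {X : Scheme.{u}} (F : X.Modules) [F.IsQuasicoherent]
    (W : X.Opens) (r : ℕ)
    (hfree : FlatMod.IsFinLocFreeOfRank r (F.restrict W.ι)) (z : X) (hz : z ∈ W)
    (W' : X.Opens) (hzW' : z ∈ W') :
    ∃ (U' : X.Opens) (_ : IsAffineOpen U'), z ∈ U' ∧ U' ≤ W ⊓ W' ∧
      Nonempty (Module.Basis (Fin r) Γ(X, U') Γ(F, U')) := by
  obtain ⟨V₀, hzV₀, ⟨iso⟩⟩ := hfree ⟨z, hz⟩
  have hfa : IsFreeAlong F (V₀.ι ≫ W.ι) r := (IsFreeAlong.restrict_iff _ _).mp ⟨iso⟩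
  have hfa' := hfa.opensRange
  have hzR : z ∈ (V₀.ι ≫ W.ι).opensRange := ⟨⟨⟨z, hz⟩, hzV₀⟩, rfl⟩
  have hRW : (V₀.ι ≫ W.ι).opensRange ≤ W := by
    rintro _ ⟨y, rfl⟩
    exact y.1.2
  have hfa'' := IsFreeAlong.of_le (inf_le_left : (V₀.ι ≫ W.ι).opensRange ⊓ W' ≤ _) hfa'
  obtain ⟨U', hU', hzU', hle, hb⟩ :=
    FinLocFree2.exists_affine_basis_of_isFreeAlong F hfa'' z ⟨hzR, hzW'⟩
  exact ⟨U', hU', hzU', fun y hy => ⟨hRW (hle hy).1, (hle hy).2⟩, hb⟩

variable (F : S.Modules) [F.IsQuasicoherent]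
  (hft : SheafOfModules.IsFiniteType (R := S.ringCatSheaf) F) (k : ℕ) (b : S' ⟶ S)
  (G : S'.Modules) (π : (Scheme.Modules.pullback b).obj F ⟶ G)
  (hG : BlowUp.IsStrictTransform b (Fitt.sheafIdeal F k) F G π)

include hft in
/-- Fitting ideals of the pullback over a small affine lying over an affine with a basis -/
theorem fitt_pullback_of_basis {U' : S.Opens} (hU' : IsAffineOpen U')
    (bU : Module.Basis (Fin k) Γ(S, U') Γ(F, U')) {V' : S'.Opens} (hV' : IsAffineOpen V')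
    (e : V' ≤ b ⁻¹ᵁ U') (i : ℕ) :
    ((Fitt.sheafIdeal F i).comap b).ideal ⟨V', hV'⟩ = if i < k then ⊥ else ⊤ := by
  rw [ThickBC.ideal_comap_appLE b (Fitt.sheafIdeal F i) ⟨U', hU'⟩ ⟨V', hV'⟩ e,
    FittSheafA.ideal_sheafIdeal F hft i ⟨U', hU'⟩, fitt_free bU i, Fintype.card_fin]
  split_ifs
  · exact Ideal.map_bot
  · exact Ideal.map_top _

include hft hG in
theorem fitt_sections_eq_bot [G.IsQuasicoherent]
    (hbasis : ∀ z : S, z ∉ (Fitt.sheafIdeal F k).support →
      ∃ (U' : S.Opens) (_ : IsAffineOpen U'), z ∈ U' ∧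
        Nonempty (Module.Basis (Fin k) Γ(S, U') Γ(F, U')))
    (V : S'.affineOpens) (δ : Γ(S', V.1)) (hδ : δ ∈ nonZeroDivisors Γ(S', V.1))
    (hV : ((Fitt.sheafIdeal F k).comap b).ideal V = Ideal.span {δ}) (j : ℕ) (hj : j < k) :
    Fitt.ideal Γ(S', V.1) Γ(G, V.1) j = ⊥ := by
  haveI : ((Scheme.Modules.pullback b).obj F).IsQuasicoherent :=
    StalkPull.isQuasicoherent_pullbackObj b F
  have hftP : SheafOfModules.IsFiniteType (R := S'.ringCatSheaf)
      ((Scheme.Modules.pullback b).obj F) := LimPres.isFT_pullback b F hft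
  haveI : Epi π := hG.1
  have hftG : SheafOfModules.IsFiniteType (R := S'.ringCatSheaf) G :=
    QcohEpi.isFiniteType_of_epi π hftP
  rw [eq_bot_iff]
  intro x hx
  rw [Ideal.mem_bot]
  have hxJ : x ∈ (Fitt.sheafIdeal G j).ideal V := by
    rw [FittSheafA.ideal_sheafIdeal G hftG j V]
    exact hx
  suffices key : ∀ q : PrimeSpectrum Γ(S', V.1), δ ∉ q.asIdeal →
      ∃ s, s ∉ q.asIdeal ∧ s * x = 0 by
    obtain ⟨n, hn⟩ := exists_pow_mul_eq_zero x δ key
    have h1 : δ ^ n ∈ nonZeroDivisors Γ(S', V.1) := pow_mem hδ n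
    rw [mul_comm] at hn
    exact (mem_nonZeroDivisors_iff.mp h1).2 x hn
  intro q hq
  -- the local statement at the point `y`
  set y : S' := V.2.fromSpec q with hy
  have hyV : y ∈ V.1 := by
    have := V.2.range_fromSpec
    rw [← SetLike.mem_coe, ← this]
    exact ⟨q, rfl⟩
  have hpy : V.2.primeIdealOf ⟨y, hyV⟩ = q := primeIdealOf_fromSpec V.2 q hyV
  -- `y` is not in the support of the inverse image ideal
  have hyE : y ∉ ((Fitt.sheafIdeal F k).comap b).support := by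
    rw [Scheme.IdealSheafData.mem_support_iff_of_mem (U := V) hyV,
      AnnSheaf.mem_zeroLocus_iff V.2 _ y hyV, hpy, PrimeSpectrum.mem_zeroLocus, hV]
    intro hle
    exact hq (hle (Ideal.subset_span rfl))
  have hz : b y ∉ (Fitt.sheafIdeal F k).support := by
    intro hmem
    apply hyE
    rw [Scheme.IdealSheafData.support_comap]
    exact hmem
  -- a basis near `b y`
  obtain ⟨U', hU', hzU', ⟨bU⟩⟩ := hbasis (b y) hz
  obtain ⟨V', hV', hyV', hV'le⟩ := FinLocFree2.exists_affine_nhd_le y (V.1 ⊓ b ⁻¹ᵁ U')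
    ⟨hyV, hzU'⟩
  have e : V' ≤ b ⁻¹ᵁ U' := hV'le.trans inf_le_right
  have hV'V : V' ≤ V.1 := hV'le.trans inf_le_left
  -- the map on sections over `V'` is bijective
  haveI : Module.Finite Γ(S', V') Γ((Scheme.Modules.pullback b).obj F, V') :=
    SecDict.finite_sections hV' _ inferInstance hftP
  have hinj : Function.Injective (QcohEpi.appLin π V') := by
    rw [← LinearMap.ker_eq_bot, eq_bot_iff]
    intro m hm
    rw [LinearMap.mem_ker, QcohEpi.appLin_apply] at hm
    obtain ⟨N, hN⟩ := (hG.2 ⟨V', hV'⟩ m).mp hm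
    have h1 : (1 : Γ(S', V')) ∈ ((Fitt.sheafIdeal F k).comap b ^ N).ideal ⟨V', hV'⟩ := by
      rw [Scheme.IdealSheafData.ideal_pow]
      change (1 : Γ(S', V')) ∈ (((Fitt.sheafIdeal F k).comap b).ideal ⟨V', hV'⟩) ^ N
      rw [fitt_pullback_of_basis F hft k b hU' bU hV' e k, if_neg (lt_irrefl k), Ideal.top_pow]
      exact Submodule.mem_top
    have := hN 1 h1
    rwa [one_smul] at this
  have hsurj : Function.Surjective (QcohEpi.appLin π V') :=
    QcohEpi.app_surjective_of_epi π hV'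
  let eq : Γ((Scheme.Modules.pullback b).obj F, V') ≃ₗ[Γ(S', V')] Γ(G, V') :=
    LinearEquiv.ofBijective (QcohEpi.appLin π V') ⟨hinj, hsurj⟩
  have hGV' : Fitt.ideal Γ(S', V') Γ(G, V') j = ⊥ := by
    rw [← fitt_congr eq j, ← FittSheafA.ideal_sheafIdeal _ hftP j ⟨V', hV'⟩,
      ← FittSheafE.comap_sheafIdeal b F hft j, fitt_pullback_of_basis F hft k b hU' bU hV' e j,
      if_pos hj]
  -- so `x` restricts to zero on `V'`
  have hxV' : S'.presheaf.map (homOfLE hV'V).op x = 0 := by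
    have h2 := (Fitt.sheafIdeal G j).ideal_le_comap_ideal (U := ⟨V', hV'⟩) (V := V) hV'V hxJ
    rw [Ideal.mem_comap, FittSheafA.ideal_sheafIdeal G hftG j ⟨V', hV'⟩, hGV', Ideal.mem_bot] at h2
    exact h2
  -- hence its germ at `y` vanishes
  letI := S'.presheaf.algebra_section_stalk ⟨y, hyV⟩
  haveI := V.2.isLocalization_stalk ⟨y, hyV⟩
  have hgerm : algebraMap Γ(S', V.1) (S'.presheaf.stalk y) x = 0 := by
    change S'.presheaf.germ V.1 y hyV x = 0
    have := TopCat.Presheaf.germ_res_apply S'.presheaf (homOfLE hV'V) y hyV' x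
    rw [← this, hxV', map_zero]
  obtain ⟨s, hs⟩ := (IsLocalization.map_eq_zero_iff
    (V.2.primeIdealOf ⟨y, hyV⟩).asIdeal.primeCompl (S'.presheaf.stalk y) x).mp hgerm
  refine ⟨s.1, ?_, hs⟩
  rw [← hpy]
  exact s.2

include hft hG in
theorem isFinLocFreeOfRank_strict_of_basis
    (hE : BlowUp.IsEffCartierIdeal ((Fitt.sheafIdeal F k).comap b))
    (hbasis : ∀ z : S, z ∉ (Fitt.sheafIdeal F k).support →
      ∃ (U' : S.Opens) (_ : IsAffineOpen U'), z ∈ U' ∧
        Nonempty (Module.Basis (Fin k) Γ(S, U') Γ(F, U'))) :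
    FlatMod.IsFinLocFreeOfRank k G := by
  haveI : ((Scheme.Modules.pullback b).obj F).IsQuasicoherent :=
    StalkPull.isQuasicoherent_pullbackObj b F
  have hftP : SheafOfModules.IsFiniteType (R := S'.ringCatSheaf)
      ((Scheme.Modules.pullback b).obj F) := LimPres.isFT_pullback b F hft
  haveI : Epi π := hG.1
  haveI : G.IsQuasicoherent := isQuasicoherent_of_isEffCartier b _ hE F G π hG
  have hftG : SheafOfModules.IsFiniteType (R := S'.ringCatSheaf) G :=
    QcohEpi.isFiniteType_of_epi π hftP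
  choose V hxV δ hδ hV using hE
  have hcov : ⨆ x, (V x).1 = ⊤ := by
    rw [eq_top_iff]
    intro x _
    exact Opens.mem_iSup.mpr ⟨x, hxV x⟩
  rw [FittSheafD.main G hftG k]
  refine ⟨fun j hj => ?_, fun j hj => ?_⟩
  · apply Scheme.IdealSheafData.ext_of_iSup_eq_top V hcov
    intro x
    rw [FittSheafA.ideal_sheafIdeal G hftG j (V x),
      fitt_sections_eq_bot F hft k b G π hG hbasis (V x) (δ x) (hδ x) (hV x) j hj]
    rfl
  · apply Scheme.IdealSheafData.ext_of_iSup_eq_top V hcov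
    intro x
    rw [FittSheafA.ideal_sheafIdeal G hftG j (V x)]
    have h1 := fitt_sections_eq_top F hft k b G π hG (V x) (δ x) (hV x)
    have h2 : Fitt.ideal Γ(S', (V x).1) Γ(G, (V x).1) k ≤ Fitt.ideal Γ(S', (V x).1) Γ(G, (V x).1) j :=
      fitt_mono_index hj
    rw [h1] at h2
    rw [top_le_iff.mp h2]
    rfl

include hft hG in
/-- S8912 -/
theorem isFinLocFreeOfRank_strict
    (hE : BlowUp.IsEffCartierIdeal ((Fitt.sheafIdeal F k).comap b))
    (hfree : FlatMod.IsFinLocFreeOfRank k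
      (F.restrict (Scheme.Opens.ι (Fitt.sheafIdeal F k).support.compl))) :
    FlatMod.IsFinLocFreeOfRank k G := by
  refine isFinLocFreeOfRank_strict_of_basis F hft k b G π hG hE (fun z hz => ?_)
  obtain ⟨U', hU', hzU', -, hb⟩ := exists_affine_basis_of_restrict F
    (Fitt.sheafIdeal F k).support.compl k hfree z hz ⊤ trivial
  exact ⟨U', hU', hzU', hb⟩

end Groth.Agent.Lead.FittStrict
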