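import Groth.Agent.Lead.FittStrict2
import Groth.Agent.Lead.FittSheafC
import Groth.Agent.Lead.CartIsoEq
import Groth.Agent.Helper1.ExtDepth2
import Groth.Agent.Helper4.FPGlue
import Groth.Agent.Helper4.FinLocFree7
import Groth.Prelude.Def_CInt

/-!
# Blowing up the Fitting ideal of a finitely presented module, generically locally free
-/

set_option autoImplicit false
set_option linter.style.haveILetI false
universe u
open CategoryTheory CategoryTheory.Limits AlgebraicGeometry Opposite TopologicalSpace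

namespace Groth.Agent.Lead.FittStrict
open Groth.Agent.Helper4 Groth.Agent.Helper7.FittLib Groth.Agent.Helper4.FinLocFree
open Groth.Agent.Lead.LiftPow (res res_res)

variable {X : Scheme.{u}}

/-- an ideal sheaf is the unit ideal on affine opens away from its support -/
theorem ideal_eq_top_of_disjoint (I : X.IdealSheafData) (V : X.affineOpens)
    (h : ∀ y ∈ V.1, y ∉ I.support) : I.ideal V = ⊤ := by
  by_contra hne
  obtain ⟨𝔪, hm, hle⟩ := Ideal.exists_le_maximal _ hne
  let q : PrimeSpectrum Γ(X, V.1) := ⟨𝔪, hm.isPrime⟩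
  have hyV : V.2.fromSpec q ∈ V.1 := by
    have := V.2.range_fromSpec
    rw [← SetLike.mem_coe, ← this]
    exact ⟨q, rfl⟩
  apply h _ hyV
  rw [Scheme.IdealSheafData.mem_support_iff_of_mem (U := V) hyV,
    AnnSheaf.mem_zeroLocus_iff V.2 _ _ hyV, primeIdealOf_fromSpec V.2 q hyV,
    PrimeSpectrum.mem_zeroLocus]
  exact hle

variable (F : X.Modules) [F.IsQuasicoherent]

variable (hft : SheafOfModules.IsFiniteType (R := X.ringCatSheaf) F) (U : X.Opens) (r : ℕ)
  (hfree : FlatMod.IsFinLocFreeOfRank r (F.restrict U.ι))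

include hft hfree in
theorem notMem_support_of_mem (z : X) (hz : z ∈ U) : z ∉ (Fitt.sheafIdeal F r).support := by
  obtain ⟨U', hU', hzU', -, ⟨bU⟩⟩ := exists_affine_basis_of_restrict F U r hfree z hz ⊤ trivial
  rw [FittSheafB.mem_support_iff F hft r hU' z hzU', fitt_free bU r, Fintype.card_fin,
    if_neg (lt_irrefl r)]
  intro h
  exact (hU'.primeIdealOf ⟨z, hzU'⟩).isPrime.ne_top (top_le_iff.mp h)

include hft hfree in
theorem sheafIdeal_eq_bot (hU : CInt.IsSchematicallyDense U) (j : ℕ) (hj : j < r) :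
    Fitt.sheafIdeal F j = ⊥ := by
  apply Scheme.IdealSheafData.ext_of_iSup_eq_top (fun W : X.affineOpens => W)
    (iSup_affineOpens_eq_top X)
  intro W
  change (Fitt.sheafIdeal F j).ideal W = ⊥
  rw [eq_bot_iff]
  intro a ha
  rw [Ideal.mem_bot]
  apply hU W.1
  rw [map_zero]
  apply CartIsoEq.eq_of_locally
  intro y hy
  obtain ⟨U', hU', hyU', hle, ⟨bU⟩⟩ :=
    exists_affine_basis_of_restrict F U r hfree y hy.2 W.1 hy.1
  have hle' : U' ≤ W.1 ⊓ U := fun t ht => ⟨(hle ht).2, (hle ht).1⟩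
  refine ⟨U', hle', hyU', ?_⟩
  have h2 := (Fitt.sheafIdeal F j).ideal_le_comap_ideal (U := ⟨U', hU'⟩) (V := W)
    (hle'.trans inf_le_left) ha
  rw [Ideal.mem_comap, FittSheafA.ideal_sheafIdeal F hft j ⟨U', hU'⟩, fitt_free bU j,
    Fintype.card_fin, if_pos hj, Ideal.mem_bot] at h2
  rw [map_zero]
  change res hle' (res inf_le_left a) = 0
  rw [res_res]
  exact h2

include hft hfree in
/-- a basis of size `r` near every point off the support of the `r`-th Fitting ideal -/
theorem exists_affine_basis_off_support (hU : CInt.IsSchematicallyDense U) (z : X)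
    (hz : z ∉ (Fitt.sheafIdeal F r).support) :
    ∃ (U' : X.Opens) (_ : IsAffineOpen U'), z ∈ U' ∧
      Nonempty (Module.Basis (Fin r) Γ(X, U') Γ(F, U')) := by
  let U₀ : X.Opens := (Fitt.sheafIdeal F r).support.compl
  obtain ⟨U₁, hU₁, hzU₁, hU₁le⟩ := FinLocFree2.exists_affine_nhd_le z U₀ hz
  haveI := SecDict.finite_sections hU₁ F inferInstance hft
  have h1' : ∀ k, k < r → Fitt.ideal Γ(X, U₁) Γ(F, U₁) k = ⊥ := by
    intro k hk
    rw [← FittSheafA.ideal_sheafIdeal F hft k ⟨U₁, hU₁⟩,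
      sheafIdeal_eq_bot F hft U r hfree hU k hk]
    rfl
  have h2' : ∀ k, r ≤ k → Fitt.ideal Γ(X, U₁) Γ(F, U₁) k = ⊤ := by
    intro k hk
    have h3 : Fitt.ideal Γ(X, U₁) Γ(F, U₁) r = ⊤ := by
      rw [← FittSheafA.ideal_sheafIdeal F hft r ⟨U₁, hU₁⟩]
      exact ideal_eq_top_of_disjoint _ ⟨U₁, hU₁⟩ (fun y hy => hU₁le hy)
    have h4 : Fitt.ideal Γ(X, U₁) Γ(F, U₁) r ≤ Fitt.ideal Γ(X, U₁) Γ(F, U₁) k :=
      fitt_mono_index hk
    rw [h3] at h4
    exact top_le_iff.mp h4
  have H := (locally_free_iff_fitt (R := Γ(X, U₁)) Γ(F, U₁) r).mpr ⟨h1', h2'⟩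
  obtain ⟨f, hf, hfr, hrank⟩ := H (hU₁.primeIdealOf ⟨z, hzU₁⟩).asIdeal
  haveI : Nontrivial (Localization.Away f) :=
    localizationAway_nontrivial (hU₁.primeIdealOf ⟨z, hzU₁⟩).asIdeal f hf
  haveI := hfr
  haveI : Module.Finite (Localization.Away f) (LocalizedModule (Submonoid.powers f) Γ(F, U₁)) :=
    inferInstance
  let bb := Module.finBasisOfFinrankEq (Localization.Away f)
    (LocalizedModule (Submonoid.powers f) Γ(F, U₁)) hrank
  have hfa : IsFreeAlong F (X.basicOpen f).ι r :=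
    FinLocFree7.isFreeAlong_basicOpen_of_free_away F hU₁ f r bb.repr
  have hzf : z ∈ X.basicOpen f := by
    have := (CartProdA.mem_primeIdealOf_iff ⟨U₁, hU₁⟩ z hzU₁ f).not.mp hf
    rwa [not_not] at this
  obtain ⟨U', hU', hzU', -, hb⟩ := FinLocFree2.exists_affine_basis_of_isFreeAlong F hfa z hzf
  exact ⟨U', hU', hzU', hb⟩

section Main

include hft hfree in
/-- S8913 -/
theorem main8913 (hF : CohB1.IsFP F) (hU : CInt.IsSchematicallyDense U) :
    BlowUp.IsAdmissibleFor U (Fitt.sheafIdeal F r) ∧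
      ∀ (X' : Scheme.{u}) (b : X' ⟶ X), BlowUp.IsBlowUp b (Fitt.sheafIdeal F r) →
        ∀ (G : X'.Modules) (π : (Scheme.Modules.pullback b).obj F ⟶ G),
          BlowUp.IsStrictTransform b (Fitt.sheafIdeal F r) F G π →
          FlatMod.IsFinLocFreeOfRank r G ∧ CohB1.IsFP (kernel π) ∧
            IsZero ((kernel π).restrict (b ⁻¹ᵁ U).ι) := by
  refine ⟨⟨FittSheafC.isFiniteTypeIdeal F hF r, ?_⟩, ?_⟩
  · exact Set.disjoint_left.mpr fun z hzs hzU =>
      notMem_support_of_mem F hft U r hfree z hzU hzs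
  intro X' b hb G π hG
  haveI : ((Scheme.Modules.pullback b).obj F).IsQuasicoherent :=
    StalkPull.isQuasicoherent_pullbackObj b F
  have hfpP : CohB1.IsFP ((Scheme.Modules.pullback b).obj F) := LimPres.isFP_pullback b F hF
  haveI : Epi π := hG.1
  have hGfree : FlatMod.IsFinLocFreeOfRank r G :=
    isFinLocFreeOfRank_strict_of_basis F hft r b G π hG hb.1
      (exists_affine_basis_off_support F hft U r hfree hU)
  haveI : G.IsQuasicoherent := isQuasicoherent_of_isEffCartier b _ hb.1 F G π hG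
  have hfg : ∀ x : X', ∃ (V : X'.Opens) (hV : IsAffineOpen V), x ∈ V ∧
      ∀ n, ((((Fitt.sheafIdeal F r).comap b) ^ n).ideal ⟨V, hV⟩).FG := by
    intro x
    obtain ⟨V, hxV, f, -, hV⟩ := hb.1 x
    refine ⟨V.1, V.2, hxV, fun n => ?_⟩
    rw [Scheme.IdealSheafData.ideal_pow]
    change ((((Fitt.sheafIdeal F r).comap b).ideal V) ^ n).FG
    rw [hV]
    exact Ideal.FG.pow ⟨{f}, by simp⟩
  haveI hK : (kernel π).IsQuasicoherent :=
    StrictCoh.isQuasicoherent_kernel π ((Fitt.sheafIdeal F r).comap b) hfg hG.2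
  have hinj : ∀ W : X'.Opens, Function.Injective ((kernel.ι π).app W) := fun W =>
    AffineDict.app_injective_of_mono (kernel.ι π) W
  have hcond : ∀ (W : X'.Opens) (k : Γ(kernel π, W)), π.app W ((kernel.ι π).app W k) = 0 := by
    intro W k
    have h := kernel.condition π
    have := congr($((Scheme.Modules.Hom.comp_app (kernel.ι π) π (U := W)).symm) k)
    rw [h] at this
    exact this
  refine ⟨hGfree, ?_, ?_⟩
  · -- the kernel is finitely presented
    apply FPGlue.isFinitePresentation_of_fp_sections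
    intro x
    obtain ⟨U₁, hxU₁, hiso⟩ := hGfree x
    have hfa : IsFreeAlong G U₁.ι r := hiso
    obtain ⟨V, hV, hxV, -, ⟨bG⟩⟩ := FinLocFree2.exists_affine_basis_of_isFreeAlong G hfa x hxU₁
    refine ⟨V, hV, hxV, ?_⟩
    haveI : Module.FinitePresentation Γ(X', V) Γ((Scheme.Modules.pullback b).obj F, V) :=
      FPGlue.fp_sections _ hfpP hV
    haveI : Module.Projective Γ(X', V) Γ(G, V) := Module.Projective.of_basis bG
    refine Module.finitePresentation_of_projective_of_exact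
      (QcohEpi.appLin (kernel.ι π) V) (QcohEpi.appLin π V) (hinj V)
      (QcohEpi.app_surjective_of_epi π hV) (fun m => ⟨fun hm => ?_, ?_⟩)
    · obtain ⟨k, hk⟩ := StrictCoh.exists_of_app_eq_zero π V m hm
      exact ⟨k, hk⟩
    · rintro ⟨k, rfl⟩
      exact hcond V k
  · -- the kernel vanishes over the preimage of `U`
    apply Groth.Agent.Helper1.ExtDepth.isZero_of_forall_affine
    intro W hW
    have hV' : IsAffineOpen ((b ⁻¹ᵁ U).ι ''ᵁ W) := hW.image_of_isOpenImmersion _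
    have hle : (b ⁻¹ᵁ U).ι ''ᵁ W ≤ b ⁻¹ᵁ U := Scheme.Opens.ι_image_le _ W
    have htop : ((Fitt.sheafIdeal F r).comap b).ideal ⟨_, hV'⟩ = ⊤ := by
      apply ideal_eq_top_of_disjoint
      intro y hy hys
      rw [Scheme.IdealSheafData.support_comap] at hys
      exact notMem_support_of_mem F hft U r hfree (b y) (hle hy) hys
    show Subsingleton Γ(kernel π, (b ⁻¹ᵁ U).ι ''ᵁ W)
    refine ⟨fun k₁ k₂ => ?_⟩
    suffices h0 : ∀ k : Γ(kernel π, (b ⁻¹ᵁ U).ι ''ᵁ W), k = 0 by rw [h0 k₁, h0 k₂]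
    intro k
    apply hinj _
    rw [map_zero]
    obtain ⟨N, hN⟩ := (hG.2 ⟨_, hV'⟩ _).mp (hcond _ k)
    have h1 : (1 : Γ(X', (b ⁻¹ᵁ U).ι ''ᵁ W)) ∈
        (((Fitt.sheafIdeal F r).comap b) ^ N).ideal ⟨_, hV'⟩ := by
      rw [Scheme.IdealSheafData.ideal_pow]
      change (1 : Γ(X', (b ⁻¹ᵁ U).ι ''ᵁ W)) ∈
        (((Fitt.sheafIdeal F r).comap b).ideal ⟨_, hV'⟩) ^ N
      rw [htop, Ideal.top_pow]
      exact Submodule.mem_top
    have := hN 1 h1
    rwa [one_smul] at this

end Main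

end Groth.Agent.Lead.FittStrict
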