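import Mathlib
import Groth.Prelude.Def_Pi1
import Groth.Prelude.Def_FlatMod2
import Groth.Prelude.Def_Coh
import Groth.Agent.Helper4.QcqsMod
import Groth.Agent.Helper4.FinLocFree5
import Groth.Agent.Helper4.QcohLocal
import Groth.Agent.Helper4.QcohGlue
import Groth.Agent.Lead.Hartogs2
import Groth.Agent.Lead.ReflExtB
import Groth.Agent.Lead.ExtFree

/-!
# Hartogs extension for flat quasi-coherent modules on normal Noetherian schemes (S16496)
-/

set_option autoImplicit false
universe u
open CategoryTheory CategoryTheory.Limits AlgebraicGeometry TopologicalSpace Opposite Submodule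

namespace Groth.Agent.Lead.FlatHartogs

open Groth.Agent.Helper4 Groth.Agent.Helper4.StalkDict Groth.Agent.Helper4.QcqsMod

variable {S : Scheme.{u}}

/-- sections of the structure sheaf are determined by their germs -/
theorem sectionO_eq_zero {W : S.Opens} (c : Γ(S, W))
    (h : ∀ z (hz : z ∈ W), S.presheaf.germ W z hz c = 0) : c = 0 := by
  apply TopCat.Presheaf.section_ext S.sheaf W c 0
  intro z hz
  exact (h z hz).trans (map_zero (S.presheaf.germ W z hz).hom).symm

theorem sectionO_ext {W : S.Opens} (c d : Γ(S, W))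
    (h : ∀ z (hz : z ∈ W), S.presheaf.germ W z hz c = S.presheaf.germ W z hz d) : c = d := by
  apply TopCat.Presheaf.section_ext S.sheaf W c d
  intro z hz
  exact h z hz

/-- a linear functional killing the kernel of `π` is a multiple of `π`, when the basic opens of the
values of `π` cover `W` and restriction to `W` is bijective. -/
theorem exists_mul_of_kills_ker {V W : S.Opens} (hWV : W ≤ V)
    (hO : Function.Bijective (S.presheaf.map (homOfLE hWV).op))
    {N : Type u} [AddCommGroup N] [Module Γ(S, V) N] (π lam : N →ₗ[Γ(S, V)] Γ(S, V))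
    (hker : LinearMap.ker π ≤ LinearMap.ker lam)
    (hcov : ∀ z ∈ W, ∃ r : N, z ∈ S.basicOpen (π r)) :
    ∃ b : Γ(S, V), ∀ r, lam r = b * π r := by
  have key : ∀ r r' : N, lam r * π r' = lam r' * π r := by
    intro r r'
    have h1 : π r' • r - π r • r' ∈ LinearMap.ker π := by
      rw [LinearMap.mem_ker, map_sub, map_smul, map_smul, smul_eq_mul, smul_eq_mul, mul_comm,
        sub_self]
    have h2 := hker h1
    rw [LinearMap.mem_ker, map_sub, map_smul, map_smul, smul_eq_mul, smul_eq_mul,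
      sub_eq_zero] at h2
    rw [mul_comm, h2, mul_comm]
  let D : N → S.Opens := fun r => W ⊓ S.basicOpen (π r)
  have hDW : ∀ r, D r ≤ W := fun r => inf_le_left
  have hDV : ∀ r, D r ≤ V := fun r => (hDW r).trans hWV
  have hDb : ∀ r, D r ≤ S.basicOpen (π r) := fun r => inf_le_right
  have hunit : ∀ r, IsUnit (S.presheaf.map (homOfLE (hDV r)).op (π r)) := by
    intro r
    apply S.toRingedSpace.isUnit_of_isUnit_germ (D r)
    intro z hz
    have h1 : IsUnit (S.presheaf.germ V z (hDV r hz) (π r)) :=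
      (S.mem_basicOpen (π r) z (hDV r hz)).mp (hDb r hz)
    rw [← germ_resO (hDV r) z hz (π r)] at h1
    exact h1
  choose u hu using fun r => (hunit r).exists_right_inv
  let σ : ∀ r, Γ(S, D r) := fun r => S.presheaf.map (homOfLE (hDV r)).op (lam r) * u r
  have hσ : ∀ r z (hz : z ∈ D r), S.presheaf.germ (D r) z hz (σ r) *
      S.presheaf.germ V z (hDV r hz) (π r) = S.presheaf.germ V z (hDV r hz) (lam r) := by
    intro r z hz
    have h1 := congrArg (S.presheaf.germ (D r) z hz) (hu r)
    rw [map_mul, map_one, germ_resO] at h1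
    show S.presheaf.germ (D r) z hz (S.presheaf.map (homOfLE (hDV r)).op (lam r) * u r) * _ = _
    rw [map_mul, germ_resO, mul_assoc, mul_comm (S.presheaf.germ (D r) z hz (u r)), h1, mul_one]
  have hpu : ∀ r z (hz : z ∈ D r), IsUnit (S.presheaf.germ V z (hDV r hz) (π r)) := by
    intro r z hz
    exact (S.mem_basicOpen (π r) z (hDV r hz)).mp (hDb r hz)
  have hcompat : TopCat.Presheaf.IsCompatible S.presheaf D σ := by
    intro r r'
    change S.presheaf.map (homOfLE (inf_le_left : D r ⊓ D r' ≤ D r)).op (σ r) =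
      S.presheaf.map (homOfLE (inf_le_right : D r ⊓ D r' ≤ D r')).op (σ r')
    apply sectionO_ext
    intro z hz
    have hzr : z ∈ D r := hz.1
    have hzr' : z ∈ D r' := hz.2
    rw [germ_resO, germ_resO]
    have e1 := hσ r z hzr
    have e2 := hσ r' z hzr'
    have k := congrArg (S.presheaf.germ V z (hDV r hzr)) (key r r')
    rw [map_mul, map_mul, ← e1, ← e2] at k
    apply ((hpu r z hzr).mul (hpu r' z hzr')).mul_left_inj.mp
    rw [← mul_assoc, k]
    ring
  have hcover : W ≤ ⨆ r, D r := by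
    intro z hz
    obtain ⟨r, hr⟩ := hcov z hz
    exact Opens.mem_iSup.mpr ⟨r, hz, hr⟩
  obtain ⟨σ0, hσ0, -⟩ := TopCat.Sheaf.existsUnique_gluing' S.sheaf D W
    (fun r => homOfLE (hDW r)) hcover σ hcompat
  obtain ⟨b, hb⟩ := hO.2 σ0
  refine ⟨b, fun r => ?_⟩
  apply hO.1
  apply sectionO_ext
  intro z hz
  rw [germ_resO, germ_resO, map_mul]
  obtain ⟨r', hr'⟩ := hcov z hz
  have hzr' : z ∈ D r' := ⟨hz, hr'⟩
  have hbz : S.presheaf.germ V z (hWV hz) b = S.presheaf.germ (D r') z hzr' (σ r') := by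
    rw [← germ_resO hWV z hz b, hb, ← hσ0 r']
    exact (germ_resO (hDW r') z hzr' σ0).symm
  have e2 := hσ r' z hzr'
  have k := congrArg (S.presheaf.germ V z (hWV hz)) (key r r')
  rw [map_mul, map_mul, ← e2] at k
  apply (hpu r' z hzr').mul_left_inj.mp
  rw [k, hbz]
  ring

section Core

variable (A : S.Modules) [A.IsQuasicoherent] {V W : S.Opens} (hV : IsAffineOpen V) (hWV : W ≤ V)

omit [A.IsQuasicoherent] in
/-- restriction is semilinear -/
theorem res_smul (b : Γ(S, V)) (m : Γ(A, V)) :
    A.presheaf.map (homOfLE hWV).op (b • m) =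
      S.presheaf.map (homOfLE hWV).op b • A.presheaf.map (homOfLE hWV).op m := by
  apply section_ext
  intro z hz
  rw [germ_res, germ_smul, germ_smul, germ_res, germ_resO]

include hV in
/-- injectivity of restriction for flat modules, given injectivity for the structure sheaf -/
theorem res_injective [Module.Flat Γ(S, V) Γ(A, V)] [IsNoetherianRing Γ(S, V)]
    (hO : Function.Injective (S.presheaf.map (homOfLE hWV).op))
    (m : Γ(A, V)) (hm : A.presheaf.map (homOfLE hWV).op m = 0) : m = 0 := by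
  set I : Ideal Γ(S, V) := colon (⊥ : Submodule Γ(S, V) Γ(A, V)) {m} with hI
  have hx0 : (LinearMap.toSpanSingleton Γ(S, V) Γ(A, V) m) ∘ₗ I.subtype = 0 := by
    ext ⟨h, hh⟩
    rw [hI, mem_colon_singleton, mem_bot] at hh
    simpa using hh
  obtain ⟨k, a, y, hxy, haf⟩ := Module.Flat.exists_factorization_of_comp_eq_zero_of_free hx0
  have ha1 : a 1 = 0 := by
    ext l
    rw [Finsupp.zero_apply]
    apply hO
    rw [map_zero]
    apply sectionO_eq_zero
    intro z hz
    rw [germ_resO]
    have hgm : A.presheaf.germ V z (hWV hz) m = 0 := by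
      rw [← germ_res A hWV z hz m, hm, map_zero]
    rw [AssDict.germ_eq_zero_iff hV A z (hWV hz) m, SetLike.not_le_iff_exists] at hgm
    obtain ⟨h, hhI, hhp⟩ := hgm
    have hu : IsUnit (S.presheaf.germ V z (hWV hz) h) :=
      QcohLocal.isUnit_germ_of_mem_primeCompl hV z (hWV hz) ⟨h, hhp⟩
    have h0 : a (I.subtype ⟨h, hhI⟩) = 0 := by
      rw [← LinearMap.comp_apply, haf, LinearMap.zero_apply]
    have h1 : h * a 1 l = 0 := by
      have : I.subtype ⟨h, hhI⟩ = h • (1 : Γ(S, V)) := by simp
      rw [this, map_smul] at h0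
      have := congrArg (fun v => v l) h0
      simpa using this
    have h2 := congrArg (S.presheaf.germ V z (hWV hz)) h1
    rw [map_mul, map_zero] at h2
    exact (hu.mul_right_eq_zero).mp h2
  have : m = LinearMap.toSpanSingleton Γ(S, V) Γ(A, V) m 1 := by simp
  rw [this, hxy, LinearMap.comp_apply, ha1, map_zero]

/-- the graph of "multiples of `s` which extend" -/
noncomputable def graph (s : Γ(A, W)) : Submodule Γ(S, V) (Γ(S, V) × Γ(A, V)) where
  carrier := {p | A.presheaf.map (homOfLE hWV).op p.2 = S.presheaf.map (homOfLE hWV).op p.1 • s}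
  zero_mem' := by
    show A.presheaf.map (homOfLE hWV).op 0 = S.presheaf.map (homOfLE hWV).op 0 • s
    rw [map_zero, map_zero, zero_smul]
  add_mem' := by
    intro p q hp hq
    show A.presheaf.map (homOfLE hWV).op (p.2 + q.2) =
      S.presheaf.map (homOfLE hWV).op (p.1 + q.1) • s
    have hp' : A.presheaf.map (homOfLE hWV).op p.2 = S.presheaf.map (homOfLE hWV).op p.1 • s := hp
    have hq' : A.presheaf.map (homOfLE hWV).op q.2 = S.presheaf.map (homOfLE hWV).op q.1 • s := hq
    rw [map_add, map_add, hp', hq', add_smul]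
  smul_mem' := by
    intro c p hp
    show A.presheaf.map (homOfLE hWV).op (c • p.2) =
      S.presheaf.map (homOfLE hWV).op (c * p.1) • s
    have hp' : A.presheaf.map (homOfLE hWV).op p.2 = S.presheaf.map (homOfLE hWV).op p.1 • s := hp
    rw [res_smul, hp', map_mul, mul_smul]

omit [A.IsQuasicoherent] in
theorem mem_graph (s : Γ(A, W)) (p : Γ(S, V) × Γ(A, V)) :
    p ∈ graph A hWV s ↔
      A.presheaf.map (homOfLE hWV).op p.2 = S.presheaf.map (homOfLE hWV).op p.1 • s := Iff.rfl

include hV in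
theorem graph_cover (hW : IsCompact (W : Set S)) (s : Γ(A, W)) (z : S) (hz : z ∈ W) :
    ∃ p ∈ graph A hWV s, z ∈ S.basicOpen p.1 := by
  obtain ⟨g, hgW, hzg⟩ := hV.exists_basicOpen_le (V := W) ⟨z, hz⟩ (hWV hz)
  obtain ⟨n, m', hm'⟩ := exists_pow_smul_eq_res hV A g (A.presheaf.map (homOfLE hgW).op s)
  set gW : Γ(S, W) := S.presheaf.map (homOfLE hWV).op g with hgW'
  set t : Γ(A, W) := gW ^ n • s - A.presheaf.map (homOfLE hWV).op m' with ht'
  have hbo : S.basicOpen gW = W ⊓ S.basicOpen g := S.basicOpen_res g (homOfLE hWV).op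
  have ht : A.presheaf.map (homOfLE (S.basicOpen_le gW)).op t = 0 := by
    apply section_ext
    intro y hy
    have hyg : y ∈ S.basicOpen g := by
      have := hy
      rw [hbo] at this
      exact this.2
    have hyW : y ∈ W := S.basicOpen_le gW hy
    have hgz : S.presheaf.germ W y hyW gW = S.presheaf.germ V y (hWV hyW) g :=
      germ_resO hWV y hyW g
    rw [map_zero, germ_res, ht', map_sub, germ_smul, map_pow, germ_res, hgz]
    have h1 := congrArg (A.presheaf.germ (S.basicOpen g) y hyg) hm'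
    rw [germ_smul, germ_res, germ_res, germ_resO, map_pow] at h1
    rw [h1, sub_self]
  obtain ⟨K, hK⟩ := exists_pow_smul_eq_zero_of_isCompact A hW gW t ht
  refine ⟨(g ^ (K + n), g ^ K • m'), ?_, ?_⟩
  · rw [mem_graph]
    show A.presheaf.map (homOfLE hWV).op (g ^ K • m') =
      S.presheaf.map (homOfLE hWV).op (g ^ (K + n)) • s
    rw [res_smul, map_pow, map_pow, ← hgW']
    rw [ht', smul_sub, sub_eq_zero, ← mul_smul, ← pow_add] at hK
    exact hK.symm
  · show z ∈ S.basicOpen (g ^ (K + n))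
    rw [S.mem_basicOpen _ z (hWV hz), map_pow]
    exact ((S.mem_basicOpen g z (hWV hz)).mp hzg).pow _

include hV in
theorem res_surjective [Module.Flat Γ(S, V) Γ(A, V)] [IsNoetherianRing Γ(S, V)]
    (hW : IsCompact (W : Set S))
    (hO : Function.Bijective (S.presheaf.map (homOfLE hWV).op))
    (s : Γ(A, W)) : ∃ m : Γ(A, V), A.presheaf.map (homOfLE hWV).op m = s := by
  set G := graph A hWV s with hG
  let p1 : G →ₗ[Γ(S, V)] Γ(S, V) := (LinearMap.fst _ _ _).comp G.subtype
  let p2 : G →ₗ[Γ(S, V)] Γ(A, V) := (LinearMap.snd _ _ _).comp G.subtype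
  have hp1 : Function.Injective p1 := by
    rw [injective_iff_map_eq_zero]
    rintro ⟨⟨b, m⟩, hbm⟩ hb
    have hb0 : b = 0 := hb
    subst hb0
    have h1 : A.presheaf.map (homOfLE hWV).op m = 0 := by
      have := (mem_graph A hWV s _).mp hbm
      rw [this]
      show S.presheaf.map (homOfLE hWV).op 0 • s = 0
      rw [map_zero, zero_smul]
    have hm0 := res_injective A hV hWV hO.1 m h1
    subst hm0
    rfl
  haveI : Module.Finite Γ(S, V) G := Module.Finite.of_injective p1 hp1
  obtain ⟨n, g, hg⟩ := Module.Finite.exists_fin (R := Γ(S, V)) (M := G)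
  let Pi : (Fin n →₀ Γ(S, V)) →ₗ[Γ(S, V)] G := Finsupp.linearCombination Γ(S, V) g
  have hPi : Function.Surjective Pi := by
    rw [← LinearMap.range_eq_top, Finsupp.range_linearCombination, hg]
  let π : (Fin n →₀ Γ(S, V)) →ₗ[Γ(S, V)] Γ(S, V) := p1 ∘ₗ Pi
  let x : (Fin n →₀ Γ(S, V)) →ₗ[Γ(S, V)] Γ(A, V) := p2 ∘ₗ Pi
  have hx0 : x ∘ₗ (LinearMap.ker π).subtype = 0 := by
    ext ⟨r, hr⟩
    have h1 : Pi r = 0 := hp1 (by rw [map_zero]; exact hr)
    show p2 (Pi r) = 0
    rw [h1, map_zero]
  haveI : Module.Finite Γ(S, V) (LinearMap.ker π) := inferInstance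
  obtain ⟨k, a, y, hxy, haf⟩ := Module.Flat.exists_factorization_of_comp_eq_zero_of_free
    (R := Γ(S, V)) (M := Γ(A, V)) (K := LinearMap.ker π) (N := Fin n →₀ Γ(S, V))
    (f := (LinearMap.ker π).subtype) (x := x) hx0
  have hcov : ∀ z ∈ W, ∃ r : Fin n →₀ Γ(S, V), z ∈ S.basicOpen (π r) := by
    intro z hz
    obtain ⟨p, hp, hzp⟩ := graph_cover A hV hWV hW s z hz
    obtain ⟨r, hr⟩ := hPi ⟨p, hp⟩
    refine ⟨r, ?_⟩
    have : π r = p.1 := by
      show p1 (Pi r) = p.1
      rw [hr]
      rfl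
    rwa [this]
  have hb : ∀ l : Fin k, ∃ b : Γ(S, V), ∀ r, (Finsupp.lapply l ∘ₗ a) r = b * π r := by
    intro l
    apply exists_mul_of_kills_ker hWV hO π (Finsupp.lapply l ∘ₗ a) _ hcov
    intro r hr
    rw [LinearMap.mem_ker, LinearMap.comp_apply]
    have h1 : a r = 0 := by
      have := congrArg (fun φ => φ ⟨r, hr⟩) haf
      simpa using this
    rw [h1, map_zero]
  choose b hb using hb
  let m : Γ(A, V) := ∑ l, b l • y (Finsupp.single l 1)
  have hkey : ∀ r : Fin n →₀ Γ(S, V), π r • m = x r := by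
    intro r
    rw [hxy, LinearMap.comp_apply]
    have h1 : y (a r) = ∑ l, (a r l) • y (Finsupp.single l 1) := by
      conv_lhs => rw [← Finsupp.univ_sum_single (a r)]
      rw [map_sum]
      refine Finset.sum_congr rfl fun l _ => ?_
      rw [← map_smul, Finsupp.smul_single, smul_eq_mul, mul_one]
    show π r • m = y (a r)
    rw [h1]
    show π r • (∑ l, b l • y (Finsupp.single l 1)) = _
    rw [Finset.smul_sum]
    refine Finset.sum_congr rfl fun l _ => ?_
    rw [smul_smul]
    have h2 : a r l = b l * π r := hb l r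
    rw [h2, mul_comm]
  refine ⟨m, ?_⟩
  apply section_ext
  intro z hz
  obtain ⟨p, hp, hzp⟩ := graph_cover A hV hWV hW s z hz
  obtain ⟨r, hr⟩ := hPi ⟨p, hp⟩
  have hπ : π r = p.1 := by
    show p1 (Pi r) = p.1
    rw [hr]
    rfl
  have hxr : x r = p.2 := by
    show p2 (Pi r) = p.2
    rw [hr]
    rfl
  have h1 : p.1 • m = p.2 := by rw [← hπ, ← hxr]; exact hkey r
  have h2 : S.presheaf.map (homOfLE hWV).op p.1 • A.presheaf.map (homOfLE hWV).op m =
      S.presheaf.map (homOfLE hWV).op p.1 • s := by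
    rw [← res_smul, h1]
    exact (mem_graph A hWV s p).mp hp
  have h3 := congrArg (A.presheaf.germ W z hz) h2
  rw [germ_smul, germ_smul] at h3
  have hu : IsUnit (S.presheaf.germ W z hz (S.presheaf.map (homOfLE hWV).op p.1)) := by
    rw [germ_resO]
    exact (S.mem_basicOpen p.1 z (hWV hz)).mp hzp
  exact hu.smul_left_cancel.mp h3

end Core

theorem two_le_of_not_le_one {x : WithBot ℕ∞} (h : ¬ x ≤ 1) : (2 : WithBot ℕ∞) ≤ x := by
  rw [not_le] at h
  induction x using WithBot.recBotCoe with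
  | bot => exact absurd h (by simp)
  | coe y =>
    have h1 : (1 : ℕ∞) < y := by exact_mod_cast h
    have h2 : (2 : ℕ∞) ≤ y := by
      have := Order.add_one_le_of_lt h1
      rwa [one_add_one_eq_two] at this
    exact WithBot.coe_le_coe.mpr h2

theorem s16496 (S : Scheme.{u}) [IsNoetherian S]
    (hS : Pi1.IsNormalScheme S) (A : S.Modules) (hA : Coh.IsQCoh A) (hAfl : FlatMod.IsFlat A)
    (U : S.Opens) (hU : ∀ s : S, ringKrullDim (S.presheaf.stalk s) ≤ 1 → s ∈ U) :
    IsIso ((Scheme.Modules.restrictAdjunction U.ι).unit.app A) := by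
  haveI : A.IsQuasicoherent := hA
  haveI : (Hartogs.pushRes U A).IsQuasicoherent :=
    QcohGlue.isQuasicoherent_pushforward U.ι (A.restrict U.ι)
  have hdepth : ∀ x : S, x ∉ U →
      (2 : ℕ∞) ≤ LocCoh.depth (S.presheaf.stalk x) (S.presheaf.stalk x) := by
    intro x hx
    obtain ⟨hd, hic⟩ := hS x
    haveI := hd
    haveI := hic
    haveI : IsNoetherianRing (S.presheaf.stalk x) := inferInstance
    apply ReflExtB.depth_two_of_normal
    exact two_le_of_not_le_one (fun h => hx (hU x h))
  have hOb := fun V => Hartogs2.bijective_res U hdepth V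
  show IsIso (Hartogs.unit U A)
  apply QcohLocal.isIso_of_app_bijective_of_affine_cover (F := A) (G := Hartogs.pushRes U A)
    (Hartogs.unit U A)
  intro x
  obtain ⟨_, ⟨V, hV, rfl⟩, hxV, -⟩ :=
    S.isBasis_affineOpens.exists_subset_of_mem_open (Set.mem_univ x) isOpen_univ
  refine ⟨V, hV, hxV, ?_⟩
  haveI : IsNoetherianRing Γ(S, V) := IsLocallyNoetherian.component_noetherian ⟨V, hV⟩
  haveI : Module.Flat Γ(S, V) Γ(A, V) :=
    FinLocFree5.flat_sections_of_flat_stalks A hV (fun y _ => hAfl y)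
  have hWc : IsCompact ((V ⊓ U : S.Opens) : Set S) := NoetherianSpace.isCompact _
  have hbij : Function.Bijective (A.presheaf.map (homOfLE (inf_le_left : V ⊓ U ≤ V)).op) := by
    refine ⟨?_, fun s => res_surjective A hV inf_le_left hWc (hOb V) s⟩
    rw [injective_iff_map_eq_zero]
    intro m hm
    exact res_injective A hV inf_le_left (hOb V).1 m hm
  show Function.Bijective (Scheme.Modules.Hom.app (Hartogs.unit U A) V)
  rw [Scheme.Modules.restrictAdjunction_unit_app_app]
  have e2 : U.ι ''ᵁ (U.ι ⁻¹ᵁ V) = V ⊓ U := by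
    rw [Scheme.Hom.image_preimage_eq_opensRange_inf, Scheme.Opens.opensRange_ι, inf_comm]
  exact (ExtFree.bij_congr A rfl e2 _ _).mpr hbij

end Groth.Agent.Lead.FlatHartogs
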