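import Mathlib
import Groth.Agent.Lead.ThickBC

set_option autoImplicit false
set_option linter.style.haveILetI false
open TensorProduct Function LinearMap
universe u

namespace Groth.Agent.Lead.FlatIdeal

section Pure
variable {R : Type u} [CommRing R] (I : Ideal R) {F : Type u} [AddCommGroup F] [Module R F]
  (K : Submodule R F)

lemma exists_tmul_of_mem_smul_top (n : F) (hn : n ∈ I • (⊤ : Submodule R F)) :
    ∃ t : I ⊗[R] F, TensorProduct.lid R F (rTensor F I.subtype t) = n := by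
  refine Submodule.smul_induction_on hn (fun a ha m _ => ⟨⟨a, ha⟩ ⊗ₜ m, by simp⟩) ?_
  rintro x y ⟨tx, hx⟩ ⟨ty, hy⟩
  exact ⟨tx + ty, by simp [hx, hy]⟩

/-- if `F/K` is flat then `K ∩ IF ⊆ IK` -/
theorem inf_smul_top_le [Module.Flat R (F ⧸ K)] : K ⊓ I • (⊤ : Submodule R F) ≤ I • K := by
  rintro x ⟨hxK, hxI⟩
  obtain ⟨t, ht⟩ := exists_tmul_of_mem_smul_top I x hxI
  have key : ∀ s : I ⊗[R] F,
      TensorProduct.lid R (F ⧸ K) (rTensor (F ⧸ K) I.subtype (lTensor I K.mkQ s)) =
        K.mkQ (TensorProduct.lid R F (rTensor F I.subtype s)) := by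
    intro s
    induction s using TensorProduct.induction_on with
    | zero => simp
    | add a b ha hb => simp only [map_add, ha, hb]
    | tmul a f => simp
  have h1 : lTensor I K.mkQ t = 0 := by
    have hinj : Injective (rTensor (F ⧸ K) I.subtype) :=
      Module.Flat.rTensor_preserves_injective_linearMap _ Subtype.val_injective
    apply hinj
    apply (TensorProduct.lid R (F ⧸ K)).injective
    rw [map_zero, map_zero, key, ht]
    exact (Submodule.Quotient.mk_eq_zero K).mpr hxK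
  have hex : Exact (lTensor I K.subtype) (lTensor I K.mkQ) :=
    lTensor_exact I (LinearMap.exact_subtype_mkQ K) (Submodule.mkQ_surjective K)
  obtain ⟨s, hs⟩ := (hex t).mp h1
  have hmem : ∀ s : I ⊗[R] K,
      TensorProduct.lid R F (rTensor F I.subtype (lTensor I K.subtype s)) ∈ I • K := by
    intro s
    induction s using TensorProduct.induction_on with
    | zero => simp
    | add a b ha hb =>
      simp only [map_add]
      exact Submodule.add_mem _ ha hb
    | tmul a k =>
      simp only [lTensor_tmul, Submodule.subtype_apply, rTensor_tmul, lid_tmul]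
      exact Submodule.smul_mem_smul a.2 k.2
  rw [← ht, ← hs]
  exact hmem s

end Pure

section Core
variable {R₁ : Type u} [CommRing R₁] {Q : Type u} [CommRing Q] [Algebra R₁ Q]
  (M₁ : Type u) [AddCommGroup M₁] [Module R₁ M₁]

lemma one_tmul_eq_zero (hsurj : Surjective (algebraMap R₁ Q)) (m : M₁)
    (h : (1 : Q) ⊗ₜ[R₁] m = 0) :
    m ∈ RingHom.ker (algebraMap R₁ Q) • (⊤ : Submodule R₁ M₁) := by
  let f : R₁ →ₐ[R₁] Q := Algebra.ofId R₁ Q
  have hf : Surjective f := hsurj
  have hk : RingHom.ker f = RingHom.ker (algebraMap R₁ Q) := by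
    ext x
    simp [RingHom.mem_ker, f, Algebra.ofId_apply]
  let e : (R₁ ⧸ RingHom.ker f) ≃ₐ[R₁] Q := Ideal.quotientKerAlgEquivOfSurjective hf
  have h2 : (1 : R₁ ⧸ RingHom.ker f) ⊗ₜ[R₁] m = 0 := by
    apply (LinearEquiv.rTensor M₁ e.toLinearEquiv).injective
    rw [map_zero]
    change (e 1) ⊗ₜ[R₁] m = 0
    rw [map_one]
    exact h
  rw [← hk]
  rw [← (quotTensorEquivQuotSMul M₁ (RingHom.ker f)).map_eq_zero_iff,
    ← map_one (Ideal.Quotient.mk (RingHom.ker f)),
    quotTensorEquivQuotSMul_mk_tmul, one_smul, Submodule.Quotient.mk_eq_zero] at h2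
  exact h2

variable {M₁} in
lemma tmul_finsupp {Λ : Type u} {R' : Type u} [CommRing R'] [Algebra R₁ R'] (r' : R')
    (c : Λ →₀ R₁) :
    r' ⊗ₜ[R₁] c = ∑ l ∈ c.support,
      (algebraMap R₁ R' (c l)) • (r' ⊗ₜ[R₁] (Finsupp.single l (1 : R₁) : Λ →₀ R₁)) := by
  conv_lhs => rw [← Finsupp.sum_single c, Finsupp.sum, TensorProduct.tmul_sum]
  refine Finset.sum_congr rfl fun l _ => ?_
  rw [← Finsupp.smul_single_one, TensorProduct.tmul_smul, TensorProduct.smul_tmul',
    TensorProduct.smul_tmul', Algebra.smul_def, smul_eq_mul]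


set_option backward.isDefEq.respectTransparency false in
theorem exists_presentation (hsurj : Surjective (algebraMap R₁ Q))
    (hnil : ∃ m : ℕ, RingHom.ker (algebraMap R₁ Q) ^ m = ⊥)
    [Module.Free Q (Q ⊗[R₁] M₁)] :
    ∃ (Λ : Type u) (φ : (Λ →₀ R₁) →ₗ[R₁] M₁), Surjective φ ∧
      ∀ c ∈ LinearMap.ker φ, ∀ l, c l ∈ RingHom.ker (algebraMap R₁ Q) := by
  classical
  obtain ⟨m, hm⟩ := hnil
  set N₁ := RingHom.ker (algebraMap R₁ Q) with hN₁
  let Λ := Module.Free.ChooseBasisIndex Q (Q ⊗[R₁] M₁)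
  let b : Module.Basis Λ Q (Q ⊗[R₁] M₁) := Module.Free.chooseBasis Q _
  let π : M₁ →ₗ[R₁] Q ⊗[R₁] M₁ := TensorProduct.mk R₁ Q M₁ 1
  have hπ : Surjective π := by
    intro z
    induction z using TensorProduct.induction_on with
    | zero => exact ⟨0, map_zero _⟩
    | add a b ha hb =>
      obtain ⟨x, hx⟩ := ha
      obtain ⟨y, hy⟩ := hb
      exact ⟨x + y, by rw [map_add, hx, hy]⟩
    | tmul q m' =>
      obtain ⟨r, rfl⟩ := hsurj q
      refine ⟨r • m', ?_⟩
      change (1 : Q) ⊗ₜ[R₁] (r • m') = algebraMap R₁ Q r ⊗ₜ m'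
      rw [TensorProduct.tmul_smul, TensorProduct.smul_tmul', Algebra.smul_def, mul_one]
  choose e he using fun l => hπ (b l)
  let φ : (Λ →₀ R₁) →ₗ[R₁] M₁ := Finsupp.linearCombination R₁ e
  have hπφ : ∀ c : Λ →₀ R₁, π (φ c) =
      b.repr.symm (Finsupp.mapRange.linearMap (Algebra.linearMap R₁ Q) c) := by
    intro c
    induction c using Finsupp.induction_linear with
    | zero => simp
    | add f g hf hg => rw [map_add, map_add, hf, hg, map_add, map_add]
    | single l r =>
      rw [Finsupp.linearCombination_single, map_smul, he, Finsupp.mapRange.linearMap_apply,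
        Finsupp.mapRange_single, Module.Basis.repr_symm_single, Algebra.linearMap_apply,
        algebraMap_smul]
  refine ⟨Λ, φ, ?_, ?_⟩
  · rw [← LinearMap.range_eq_top]
    apply Groth.Agent.Lead.ThickBC.eq_top_of_sup_smul_top N₁ m hm
    rw [eq_top_iff]
    intro x _
    let g : Q → R₁ := fun q => if q = 0 then 0 else Function.surjInv hsurj q
    have hg0 : g 0 = 0 := by simp [g]
    have hg : ∀ q, algebraMap R₁ Q (g q) = q := by
      intro q
      by_cases hq : q = 0
      · simp [g, hq]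
      · simp only [g, hq, if_false]
        exact Function.surjInv_eq hsurj q
    let d : Λ →₀ Q := b.repr (π x)
    let c : Λ →₀ R₁ := d.mapRange g hg0
    have hc : Finsupp.mapRange.linearMap (Algebra.linearMap R₁ Q) c = d := by
      ext l
      simp [c, hg]
    have h3 : π (x - φ c) = 0 := by
      rw [map_sub, hπφ, hc]
      simp [d]
    have h4 : x - φ c ∈ N₁ • (⊤ : Submodule R₁ M₁) := one_tmul_eq_zero M₁ hsurj _ h3
    have : x = φ c + (x - φ c) := by abel
    rw [this]
    exact Submodule.add_mem_sup (LinearMap.mem_range_self φ c) h4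
  · intro c hc l
    have h1 : π (φ c) = 0 := by rw [LinearMap.mem_ker.mp hc, map_zero]
    rw [hπφ] at h1
    have h3 : Finsupp.mapRange.linearMap (Algebra.linearMap R₁ Q) c = 0 := by
      apply b.repr.symm.injective
      rw [map_zero]
      exact h1
    have h4 := congrArg (fun g => g l) h3
    simpa [RingHom.mem_ker, hN₁] using h4

section Pres
variable {M₁}
variable {Λ : Type u} (φ : (Λ →₀ R₁) →ₗ[R₁] M₁) (hφ : Surjective φ) (N₁ : Ideal R₁)
  (hcoord : ∀ c ∈ LinearMap.ker φ, ∀ l, c l ∈ N₁)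
  (R' : Type u) [CommRing R'] [Algebra R₁ R']

include hφ in
lemma pres_exact : Exact (lTensor R' (LinearMap.ker φ).subtype) (lTensor R' φ) := by
  have hfg : Function.Exact (LinearMap.ker φ).subtype φ := LinearMap.exact_subtype_ker_map φ
  have hex := lTensor_exact (M := ↥(LinearMap.ker φ)) (N := Λ →₀ R₁) (P := M₁)
    (f := (LinearMap.ker φ).subtype) (g := φ) R' hfg hφ
  exact hex

/-- the coordinate ideal of the kernel -/
def coordIdeal : Ideal R₁ := Ideal.span {r | ∃ c ∈ LinearMap.ker φ, ∃ l, c l = r}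

include hφ in
theorem flat_of_map_eq_bot (hJ : (coordIdeal φ).map (algebraMap R₁ R') = ⊥) :
    Module.Flat R' (R' ⊗[R₁] M₁) := by
  have hsurj' : Surjective (φ.baseChange R') := LinearMap.lTensor_surjective R' hφ
  have hex := pres_exact φ hφ R'
  have hzero : ∀ w, lTensor R' (LinearMap.ker φ).subtype w = 0 := by
    intro w
    induction w using TensorProduct.induction_on with
    | zero => simp
    | add a b ha hb => rw [map_add, ha, hb, add_zero]
    | tmul r' c =>
      rw [lTensor_tmul, Submodule.subtype_apply, tmul_finsupp]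
      refine Finset.sum_eq_zero fun l _ => ?_
      have : algebraMap R₁ R' (c.1 l) ∈ (coordIdeal φ).map (algebraMap R₁ R') :=
        Ideal.mem_map_of_mem _ (Ideal.subset_span ⟨c.1, c.2, l, rfl⟩)
      rw [hJ, Submodule.mem_bot] at this
      rw [this, zero_smul]
  have hinj : Injective (φ.baseChange R') := by
    rw [injective_iff_map_eq_zero]
    intro z hz
    obtain ⟨w, rfl⟩ := (hex z).mp hz
    exact hzero w
  let E : (R' ⊗[R₁] (Λ →₀ R₁)) ≃ₗ[R'] R' ⊗[R₁] M₁ :=
    LinearEquiv.ofBijective (φ.baseChange R') ⟨hinj, hsurj'⟩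
  exact Module.Flat.of_linearEquiv E.symm

include hφ hcoord in
theorem map_eq_bot_of_flat (m : ℕ) (hm : N₁ ^ m = ⊥) (hfl : Module.Flat R' (R' ⊗[R₁] M₁)) :
    (coordIdeal φ).map (algebraMap R₁ R') = ⊥ := by
  have hsb : Surjective (φ.baseChange R') := LinearMap.lTensor_surjective R' hφ
  have hex := pres_exact φ hφ R'
  let K' : Submodule R' (R' ⊗[R₁] (Λ →₀ R₁)) := LinearMap.ker (φ.baseChange R')
  haveI : Module.Flat R' ((R' ⊗[R₁] (Λ →₀ R₁)) ⧸ K') :=
    Module.Flat.of_linearEquiv ((φ.baseChange R').quotKerEquivOfSurjective hsb)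
  let N' : Ideal R' := N₁.map (algebraMap R₁ R')
  have hN' : N' ^ m = ⊥ := by rw [← Ideal.map_pow, hm, Ideal.map_bot]
  have hA : K' ≤ N' • (⊤ : Submodule R' (R' ⊗[R₁] (Λ →₀ R₁))) := by
    intro z hz
    have hz' : lTensor R' φ z = 0 := LinearMap.mem_ker.mp hz
    obtain ⟨w, rfl⟩ := (hex z).mp hz'
    clear hz hz'
    induction w using TensorProduct.induction_on with
    | zero => simp
    | add a b ha hb =>
      rw [map_add]
      exact Submodule.add_mem _ ha hb
    | tmul r' c =>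
      rw [lTensor_tmul, Submodule.subtype_apply, tmul_finsupp]
      refine Submodule.sum_mem _ fun l _ => ?_
      exact Submodule.smul_mem_smul (Ideal.mem_map_of_mem _ (hcoord c.1 c.2 l))
        Submodule.mem_top
  have hB : K' ≤ N' • K' := fun z hz => inf_smul_top_le N' K' ⟨hz, hA hz⟩
  have hK' : K' = ⊥ := Groth.Agent.Lead.ThickBC.eq_bot_of_le_smul N' m hN' K' hB
  rw [coordIdeal, Ideal.map_span, Ideal.span_eq_bot]
  rintro _ ⟨r, ⟨c, hc, l, rfl⟩, rfl⟩
  have hz : ((1 : R') ⊗ₜ[R₁] c : R' ⊗[R₁] (Λ →₀ R₁)) ∈ K' := by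
    change lTensor R' φ ((1 : R') ⊗ₜ[R₁] c) = 0
    rw [lTensor_tmul, LinearMap.mem_ker.mp hc, tmul_zero]
  rw [hK', Submodule.mem_bot] at hz
  have h5 := congrArg (fun z => (TensorProduct.rid R₁ R')
    (lTensor R' (Finsupp.lapply (R := R₁) l) z)) hz
  simp only [lTensor_tmul, Finsupp.lapply_apply, rid_tmul, map_zero] at h5
  rw [Algebra.smul_def, mul_one] at h5
  exact h5

end Pres

theorem core_free (hsurj : Surjective (algebraMap R₁ Q))
    (hnil : ∃ m : ℕ, RingHom.ker (algebraMap R₁ Q) ^ m = ⊥)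
    [Module.Free Q (Q ⊗[R₁] M₁)] :
    ∃ J₁ : Ideal R₁, J₁ ≤ RingHom.ker (algebraMap R₁ Q) ∧
      ∀ (R' : Type u) [CommRing R'] [Algebra R₁ R'],
        (Module.Flat R' (R' ⊗[R₁] M₁) ↔ J₁.map (algebraMap R₁ R') = ⊥) := by
  obtain ⟨Λ, φ, hφ, hcoord⟩ := exists_presentation M₁ hsurj hnil
  obtain ⟨m, hm⟩ := hnil
  refine ⟨coordIdeal φ, ?_, fun R' _ _ => ⟨?_, ?_⟩⟩
  · rw [coordIdeal, Ideal.span_le]
    rintro _ ⟨c, hc, l, rfl⟩
    exact hcoord c hc l
  · exact map_eq_bot_of_flat φ hφ _ hcoord R' m hm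
  · exact flat_of_map_eq_bot φ hφ R'

end Core

end Groth.Agent.Lead.FlatIdeal
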