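import Mathlib
import Groth.Agent.Lead.FlatIdealA
import Groth.Agent.S0389

set_option autoImplicit false
set_option linter.style.haveILetI false
universe u
open TensorProduct Function

namespace Groth.Agent.Lead.FlatIdeal

attribute [local instance] Algebra.TensorProduct.rightAlgebra

section transport
variable {R Rb R₁ Q : Type u} [CommRing R] [CommRing Rb] [CommRing R₁] [CommRing Q]
  [Algebra R Rb] [Algebra R R₁] [Algebra R Q] [Algebra Rb Q] [Algebra R₁ Q]
  [IsScalarTower R Rb Q] [IsScalarTower R R₁ Q]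
  (M : Type u) [AddCommGroup M] [Module R M]

theorem free_transport (h : Module.Free Q (Q ⊗[Rb] (Rb ⊗[R] M))) :
    Module.Free Q (Q ⊗[R₁] (R₁ ⊗[R] M)) :=
  Module.Free.of_equiv
    ((TensorProduct.AlgebraTensorModule.cancelBaseChange R Rb Q Q M) ≪≫ₗ
      (TensorProduct.AlgebraTensorModule.cancelBaseChange R R₁ Q Q M).symm)

end transport

theorem quot_loc {R : Type u} [CommRing R] [IsNoetherianRing R] (hN : (nilradical R).IsPrime)
    (h : R) (hh : Ideal.Quotient.mk (nilradical R) h ≠ 0)
    {R₁ Q : Type u} [CommRing R₁] [CommRing Q] [Algebra R R₁] [IsLocalization.Away h R₁]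
    [Algebra (R ⧸ nilradical R) Q]
    [IsLocalization.Away (Ideal.Quotient.mk (nilradical R) h) Q]
    [Algebra R Q] [IsScalarTower R (R ⧸ nilradical R) Q]
    [Algebra R₁ Q] [IsScalarTower R R₁ Q] :
    Surjective (algebraMap R₁ Q) ∧ (∃ m : ℕ, RingHom.ker (algebraMap R₁ Q) ^ m = ⊥) ∧
      RingHom.ker (algebraMap R Q) ≤ nilradical R := by
  haveI : (nilradical R).IsPrime := hN
  haveI : IsDomain (R ⧸ nilradical R) := Ideal.Quotient.isDomain _
  have hinj : Injective (algebraMap (R ⧸ nilradical R) Q) :=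
    IsLocalization.injective Q (M := Submonoid.powers (Ideal.Quotient.mk (nilradical R) h))
      (powers_le_nonZeroDivisors_of_noZeroDivisors hh)
  have hcomp : ∀ r : R, algebraMap R₁ Q (algebraMap R R₁ r)
      = algebraMap (R ⧸ nilradical R) Q (Ideal.Quotient.mk (nilradical R) r) := fun r =>
    (IsScalarTower.algebraMap_apply R R₁ Q r).symm.trans
      (IsScalarTower.algebraMap_apply R (R ⧸ nilradical R) Q r)
  have key0 : ∀ r : R, algebraMap R₁ Q (algebraMap R R₁ r) = 0 → r ∈ nilradical R := by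
    intro r hr
    rw [hcomp, ← map_zero (algebraMap (R ⧸ nilradical R) Q)] at hr
    exact Ideal.Quotient.eq_zero_iff_mem.mp (hinj hr)
  have hsurj : Surjective (algebraMap R₁ Q) := by
    intro q
    obtain ⟨⟨rb, s⟩, hq⟩ :=
      IsLocalization.surj (Submonoid.powers (Ideal.Quotient.mk (nilradical R) h)) q
    have hq' : q * algebraMap (R ⧸ nilradical R) Q (s : R ⧸ nilradical R)
        = algebraMap (R ⧸ nilradical R) Q rb := hq
    obtain ⟨n, hn⟩ := s.2
    obtain ⟨r, rfl⟩ := Ideal.Quotient.mk_surjective rb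
    refine ⟨IsLocalization.mk' R₁ r (⟨h ^ n, n, rfl⟩ : Submonoid.powers h), ?_⟩
    have hu : IsUnit (algebraMap (R ⧸ nilradical R) Q (s : R ⧸ nilradical R)) :=
      IsLocalization.map_units Q s
    apply (IsUnit.mul_left_inj hu).mp
    have e1 : algebraMap (R ⧸ nilradical R) Q (s : R ⧸ nilradical R)
        = algebraMap R₁ Q (algebraMap R R₁ (h ^ n)) := by
      have hn' : Ideal.Quotient.mk (nilradical R) h ^ n = (s : R ⧸ nilradical R) := hn
      rw [hcomp, map_pow, hn']
    have hspec : IsLocalization.mk' R₁ r (⟨h ^ n, n, rfl⟩ : Submonoid.powers h)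
        * algebraMap R R₁ (h ^ n) = algebraMap R R₁ r :=
      IsLocalization.mk'_spec R₁ r (⟨h ^ n, n, rfl⟩ : Submonoid.powers h)
    calc algebraMap R₁ Q (IsLocalization.mk' R₁ r (⟨h ^ n, n, rfl⟩ : Submonoid.powers h))
          * algebraMap (R ⧸ nilradical R) Q (s : R ⧸ nilradical R)
        = algebraMap R₁ Q (IsLocalization.mk' R₁ r (⟨h ^ n, n, rfl⟩ : Submonoid.powers h))
          * algebraMap R₁ Q (algebraMap R R₁ (h ^ n)) := by rw [e1]
      _ = algebraMap R₁ Q (algebraMap R R₁ r) := by rw [← map_mul, hspec]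
      _ = algebraMap (R ⧸ nilradical R) Q (Ideal.Quotient.mk (nilradical R) r) := hcomp r
      _ = q * algebraMap (R ⧸ nilradical R) Q (s : R ⧸ nilradical R) := hq'.symm
  have hker : RingHom.ker (algebraMap R₁ Q) ≤ nilradical R₁ := by
    intro x hx
    obtain ⟨r, s, rfl⟩ := IsLocalization.exists_mk'_eq (Submonoid.powers h) x
    rw [RingHom.mem_ker] at hx
    have h1 : algebraMap R₁ Q (algebraMap R R₁ r) = 0 := by
      rw [← IsLocalization.mk'_spec R₁ r s, map_mul, hx, zero_mul]
    have h2 : r ∈ nilradical R := key0 r h1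
    have h3 : algebraMap R R₁ r ∈ nilradical R₁ := by
      rw [mem_nilradical] at h2 ⊢
      exact h2.map _
    rw [IsLocalization.mk'_eq_mul_mk'_one]
    exact Ideal.mul_mem_right _ _ h3
  refine ⟨hsurj, ?_, ?_⟩
  · haveI : IsNoetherianRing R₁ :=
      IsLocalization.isNoetherianRing (Submonoid.powers h) R₁ inferInstance
    obtain ⟨m, hm⟩ := IsNoetherianRing.isNilpotent_nilradical R₁
    have := Ideal.pow_right_mono hker m
    rw [hm, Ideal.zero_eq_bot] at this
    exact ⟨m, le_bot_iff.mp this⟩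
  · intro r hr
    rw [RingHom.mem_ker, IsScalarTower.algebraMap_apply R R₁ Q] at hr
    exact key0 r hr

theorem core_loc {R R₁ Q : Type u} [CommRing R] [CommRing R₁] [CommRing Q] [Algebra R R₁]
    [Algebra R₁ Q] [Algebra R Q] [IsScalarTower R R₁ Q] (h : R) [IsLocalization.Away h R₁]
    (M : Type u) [AddCommGroup M] [Module R M]
    (hsurj : Surjective (algebraMap R₁ Q))
    (hnil : ∃ m : ℕ, RingHom.ker (algebraMap R₁ Q) ^ m = ⊥)
    [Module.Free Q (Q ⊗[R₁] (R₁ ⊗[R] M))] :
    ∃ J : Ideal R, J ≤ RingHom.ker (algebraMap R Q) ∧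
      ∀ (R' : Type u) [CommRing R'] [Algebra R R'], IsUnit (algebraMap R R' h) →
        (Module.Flat R' (R' ⊗[R] M) ↔ J.map (algebraMap R R') = ⊥) := by
  obtain ⟨J₁, hJ₁, hiff⟩ := core_free (R₁ := R₁) (Q := Q) (R₁ ⊗[R] M) hsurj hnil
  refine ⟨J₁.comap (algebraMap R R₁), ?_, ?_⟩
  · intro r hr
    rw [RingHom.mem_ker, IsScalarTower.algebraMap_apply R R₁ Q]
    exact hJ₁ hr
  · intro R' _ _ hu
    letI : Algebra R₁ R' := (IsLocalization.Away.lift h hu).toAlgebra
    haveI : IsScalarTower R R₁ R' :=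
      IsScalarTower.of_algebraMap_eq (fun r => (IsLocalization.Away.lift_eq h hu r).symm)
    have e := TensorProduct.AlgebraTensorModule.cancelBaseChange R R₁ R' R' M
    have hmap : (J₁.comap (algebraMap R R₁)).map (algebraMap R R') = J₁.map (algebraMap R₁ R') := by
      rw [IsScalarTower.algebraMap_eq R R₁ R', ← Ideal.map_map]
      congr 1
      exact IsLocalization.map_under (Submonoid.powers h) R₁ J₁
    rw [hmap, ← hiff R']
    exact (Module.Flat.equiv_iff e).symm

theorem core_noeth {R S M : Type u} [CommRing R] [IsNoetherianRing R] [CommRing S] [Algebra R S]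
    [Algebra.FiniteType R S] [AddCommGroup M] [Module S M] [Module R M] [IsScalarTower R S M]
    [Module.Finite S M] (hN : (nilradical R).IsPrime) :
    ∃ (h : R) (J : Ideal R), ¬ IsNilpotent h ∧ J ≤ nilradical R ∧
      ∀ (R' : Type u) [CommRing R'] [Algebra R R'], IsUnit (algebraMap R R' h) →
        (Module.Flat R' (R' ⊗[R] M) ↔ J.map (algebraMap R R') = ⊥) := by
  haveI : (nilradical R).IsPrime := hN
  haveI : IsDomain (R ⧸ nilradical R) := Ideal.Quotient.isDomain _
  obtain ⟨fb, hfb, hfree, -⟩ := Groth.Agent.S0389.result (R := R ⧸ nilradical R)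
    (S := (R ⧸ nilradical R) ⊗[R] S) (M := ((R ⧸ nilradical R) ⊗[R] S) ⊗[S] M)
  obtain ⟨h, rfl⟩ := Ideal.Quotient.mk_surjective fb
  let ψ : Localization.Away h →+* Localization.Away (Ideal.Quotient.mk (nilradical R) h) :=
    IsLocalization.Away.map _ _ (Ideal.Quotient.mk (nilradical R)) h
  letI : Algebra (Localization.Away h)
      (Localization.Away (Ideal.Quotient.mk (nilradical R) h)) := ψ.toAlgebra
  haveI : IsScalarTower R (Localization.Away h)
      (Localization.Away (Ideal.Quotient.mk (nilradical R) h)) :=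
    IsScalarTower.of_algebraMap_eq (fun r => by
      have h1 : ψ (algebraMap R (Localization.Away h) r)
          = algebraMap (R ⧸ nilradical R) _ (Ideal.Quotient.mk (nilradical R) r) :=
        IsLocalization.map_eq _ r
      exact (IsScalarTower.algebraMap_apply R (R ⧸ nilradical R) _ r).trans h1.symm)
  obtain ⟨hsurj, hnil, hker⟩ := quot_loc hN h hfb (R₁ := Localization.Away h)
    (Q := Localization.Away (Ideal.Quotient.mk (nilradical R) h))
  have e₃ := Algebra.IsPushout.cancelBaseChange R (R ⧸ nilradical R) S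
    ((R ⧸ nilradical R) ⊗[R] S) M
  haveI := hfree
  have hfree2 : Module.Free (Localization.Away (Ideal.Quotient.mk (nilradical R) h))
      (Localization.Away (Ideal.Quotient.mk (nilradical R) h) ⊗[R ⧸ nilradical R]
        ((R ⧸ nilradical R) ⊗[R] M)) :=
    Module.Free.of_equiv (TensorProduct.AlgebraTensorModule.congr
      (LinearEquiv.refl (Localization.Away (Ideal.Quotient.mk (nilradical R) h))
        (Localization.Away (Ideal.Quotient.mk (nilradical R) h))) e₃)
  haveI := free_transport (R₁ := Localization.Away h) M hfree2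
  obtain ⟨J, hJ, hiff⟩ := core_loc (R₁ := Localization.Away h)
    (Q := Localization.Away (Ideal.Quotient.mk (nilradical R) h)) h M hsurj hnil
  refine ⟨h, J, ?_, hJ.trans hker, hiff⟩
  intro hnilp
  exact hfb (Ideal.Quotient.eq_zero_iff_mem.mpr (mem_nilradical.mpr hnilp))

end Groth.Agent.Lead.FlatIdeal
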