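import Mathlib
import Groth.Prelude
import Groth.Agent.Lead.FlatIdealB
import Groth.Agent.Lead.IdealMulB
import Groth.Agent.Helper2.FlatStageDictG
import Groth.Agent.Helper2.FlatStageLim
import Groth.Agent.Helper4.SecDict

set_option autoImplicit false
set_option linter.style.haveILetI false
universe u
open TensorProduct Function CategoryTheory CategoryTheory.Limits AlgebraicGeometry

namespace Groth.Agent.Lead.FlatIdeal

set_option backward.isDefEq.respectTransparency false in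
/-- chart dictionary: flatness of the pulled-back module over the part of the fibre product lying
over affine opens `W`, `V'` is flatness of the base-changed module of sections -/
theorem chart_iff {X Y Y' : Scheme.{u}} (f : X ⟶ Y) (pY : Y' ⟶ Y) (F : X.Modules)
    [F.IsQuasicoherent] {V : Y.Opens} (hV : IsAffineOpen V) {W : X.Opens} (hW : IsAffineOpen W)
    (e : W ≤ f ⁻¹ᵁ V) {V' : Y'.Opens} (hV' : IsAffineOpen V') (eV : V' ≤ pY ⁻¹ᵁ V) :
    letI : Algebra Γ(Y, V) Γ(Y', V') := (pY.appLE V V' eV).hom.toAlgebra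
    letI : Module Γ(Y, V) Γ(F, W) := Module.compHom _ (f.appLE V W e).hom
    (∀ x' : ↥(pullback f pY), pullback.fst f pY x' ∈ W → pullback.snd f pY x' ∈ V' →
        FlatMod.IsFlatOverAt (pullback.snd f pY)
          ((Scheme.Modules.pullback (pullback.fst f pY)).obj F) x') ↔
      Module.Flat Γ(Y', V') (Γ(Y', V') ⊗[Γ(Y, V)] Γ(F, W)) := by
  have hc : IsPullback (pullback.fst f pY) (pullback.snd f pY) f pY :=
    IsPullback.of_hasPullback f pY
  obtain ⟨W', hW'def⟩ : ∃ W' : (pullback f pY).Opens,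
    W' = pullback.fst f pY ⁻¹ᵁ W ⊓ pullback.snd f pY ⁻¹ᵁ V' := ⟨_, rfl⟩
  obtain ⟨hW', hpo⟩ := Groth.Agent.Helper2.FlatStageLim.stage_pushout hc hV hW e hV' eV hW'def
  have e1 : W' ≤ pullback.snd f pY ⁻¹ᵁ V' := by rw [hW'def]; exact inf_le_right
  have e2 : W' ≤ pullback.fst f pY ⁻¹ᵁ W := by rw [hW'def]; exact inf_le_left
  letI algRS : Algebra Γ(Y, V) Γ(X, W) := (f.appLE V W e).hom.toAlgebra
  letI modR : Module Γ(Y, V) Γ(F, W) := Module.compHom _ (f.appLE V W e).hom
  haveI : IsScalarTower Γ(Y, V) Γ(X, W) Γ(F, W) :=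
    IsScalarTower.of_algebraMap_smul fun r m => rfl
  letI algRR' : Algebra Γ(Y, V) Γ(Y', V') := (pY.appLE V V' eV).hom.toAlgebra
  letI algSS' : Algebra Γ(X, W) Γ(pullback f pY, W') :=
    ((pullback.fst f pY).appLE W W' e2).hom.toAlgebra
  letI algR'S' : Algebra Γ(Y', V') Γ(pullback f pY, W') :=
    ((pullback.snd f pY).appLE V' W' e1).hom.toAlgebra
  letI algRS' : Algebra Γ(Y, V) Γ(pullback f pY, W') :=
    ((f.appLE V W e) ≫ ((pullback.fst f pY).appLE W W' e2)).hom.toAlgebra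
  haveI : IsScalarTower Γ(Y, V) Γ(X, W) Γ(pullback f pY, W') :=
    IsScalarTower.of_algebraMap_eq (fun _ => rfl)
  haveI : IsScalarTower Γ(Y, V) Γ(Y', V') Γ(pullback f pY, W') :=
    IsScalarTower.of_algebraMap_eq (fun r => congr($(hpo.w).hom r))
  haveI hpush : Algebra.IsPushout Γ(Y, V) Γ(X, W) Γ(Y', V') Γ(pullback f pY, W') :=
    CommRingCat.isPushout_iff_isPushout.mp hpo
  haveI : Algebra.IsPushout Γ(Y, V) Γ(Y', V') Γ(X, W) Γ(pullback f pY, W') := hpush.symm
  have hdict := Groth.Agent.Helper2.FlatStageDict.isFlatOver_pullback_iff (pullback.snd f pY)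
    (pullback.fst f pY) F hV' hW hW' e1 e2
  have hmem : ∀ x' : ↥(pullback f pY), x' ∈ W' ↔
      (pullback.fst f pY x' ∈ W ∧ pullback.snd f pY x' ∈ V') := by
    intro x'
    rw [hW'def]
    rfl
  have e₃ := Algebra.IsPushout.cancelBaseChange Γ(Y, V) Γ(Y', V') Γ(X, W)
    Γ(pullback f pY, W') Γ(F, W)
  constructor
  · intro H
    have H' : ∀ x' ∈ W', FlatMod.IsFlatOverAt (pullback.snd f pY)
        ((Scheme.Modules.pullback (pullback.fst f pY)).obj F) x' :=
      fun x' hx' => H x' ((hmem x').mp hx').1 ((hmem x').mp hx').2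
    haveI := hdict.mp H'
    exact Module.Flat.of_linearEquiv e₃.symm
  · intro H x' h1 h2
    haveI := H
    have hfl : Module.Flat Γ(Y', V') (Γ(pullback f pY, W') ⊗[Γ(X, W)] Γ(F, W)) :=
      Module.Flat.of_linearEquiv e₃
    exact hdict.mpr hfl x' ((hmem x').mpr ⟨h1, h2⟩)

set_option backward.isDefEq.respectTransparency false in
set_option maxHeartbeats 800000 in
/-- the flattening ideal of one affine chart, noetherian base with prime nilradical -/
theorem chart_case {A₀ : Type u} [CommRing A₀] [IsNoetherianRing A₀]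
    (hN : (nilradical A₀).IsPrime)
    {X₀ : Scheme.{u}} (f₀ : X₀ ⟶ Spec (CommRingCat.of A₀)) [LocallyOfFiniteType f₀]
    (F₀ : X₀.Modules) [F₀.IsQuasicoherent]
    (hF₀ : SheafOfModules.IsFiniteType (R := X₀.ringCatSheaf) F₀)
    {W : X₀.Opens} (hW : IsAffineOpen W) :
    ∃ (h₀ : A₀) (J₀ : Ideal A₀), ¬ IsNilpotent h₀ ∧ J₀ ≤ nilradical A₀ ∧
      ∀ (A' : Type u) [CommRing A'] (φ : A₀ →+* A'), IsUnit (φ h₀) →
        ((∀ x' : ↥(pullback f₀ (Spec.map (CommRingCat.ofHom φ))),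
            pullback.fst f₀ (Spec.map (CommRingCat.ofHom φ)) x' ∈ W →
            FlatMod.IsFlatOverAt (pullback.snd f₀ (Spec.map (CommRingCat.ofHom φ)))
              ((Scheme.Modules.pullback
                (pullback.fst f₀ (Spec.map (CommRingCat.ofHom φ)))).obj F₀) x') ↔
          J₀.map φ = ⊥) := by
  have hV := isAffineOpen_top (Spec (CommRingCat.of A₀))
  have e : W ≤ f₀ ⁻¹ᵁ ⊤ := le_top
  letI alg : Algebra Γ(Spec (CommRingCat.of A₀), ⊤) Γ(X₀, W) := (f₀.appLE ⊤ W e).hom.toAlgebra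
  letI modR : Module Γ(Spec (CommRingCat.of A₀), ⊤) Γ(F₀, W) :=
    Module.compHom _ (f₀.appLE ⊤ W e).hom
  haveI : IsScalarTower Γ(Spec (CommRingCat.of A₀), ⊤) Γ(X₀, W) Γ(F₀, W) :=
    IsScalarTower.of_algebraMap_smul fun r m => rfl
  let eR : Γ(Spec (CommRingCat.of A₀), ⊤) ≃+* A₀ :=
    (Scheme.ΓSpecIso (CommRingCat.of A₀)).commRingCatIsoToRingEquiv
  haveI : IsNoetherianRing Γ(Spec (CommRingCat.of A₀), ⊤) :=
    isNoetherianRing_of_ringEquiv A₀ eR.symm
  have hnilR : ∀ r : Γ(Spec (CommRingCat.of A₀), ⊤), IsNilpotent (eR r) ↔ IsNilpotent r :=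
    fun r => IsNilpotent.map_iff eR.injective
  have hNR : (nilradical Γ(Spec (CommRingCat.of A₀), ⊤)).IsPrime := by
    have hEq : nilradical Γ(Spec (CommRingCat.of A₀), ⊤)
        = (nilradical A₀).comap eR.toRingHom := by
      ext r
      rw [Ideal.mem_comap, mem_nilradical, mem_nilradical]
      exact (hnilR r).symm
    rw [hEq]
    haveI := hN
    exact Ideal.comap_isPrime eR.toRingHom _
  haveI : Algebra.FiniteType Γ(Spec (CommRingCat.of A₀), ⊤) Γ(X₀, W) :=
    LocallyOfFiniteType.finiteType_appLE f₀ hV hW e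
  haveI : Module.Finite Γ(X₀, W) Γ(F₀, W) :=
    Groth.Agent.Helper4.SecDict.finite_sections hW F₀ inferInstance hF₀
  obtain ⟨h, J, hh, hJ, hiff⟩ := core_noeth (R := Γ(Spec (CommRingCat.of A₀), ⊤))
    (S := Γ(X₀, W)) (M := Γ(F₀, W)) hNR
  refine ⟨eR h, J.map eR.toRingHom, ?_, ?_, ?_⟩
  · rwa [hnilR]
  · rw [Ideal.map_le_iff_le_comap]
    intro r hr
    have hr' := hJ hr
    rw [mem_nilradical] at hr'
    rw [Ideal.mem_comap, mem_nilradical]
    exact (hnilR r).mpr hr'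
  · intro A' _ φ hu
    obtain ⟨pY, hpY⟩ : ∃ pY, pY = Spec.map (CommRingCat.ofHom φ) := ⟨_, rfl⟩
    rw [← hpY]
    have hV' := isAffineOpen_top (Spec (CommRingCat.of A'))
    have eV : (⊤ : (Spec (CommRingCat.of A')).Opens) ≤ pY ⁻¹ᵁ ⊤ := le_top
    letI algRR' : Algebra Γ(Spec (CommRingCat.of A₀), ⊤) Γ(Spec (CommRingCat.of A'), ⊤) :=
      (pY.appLE ⊤ ⊤ eV).hom.toAlgebra
    let eR' : Γ(Spec (CommRingCat.of A'), ⊤) ≃+* A' :=
      (Scheme.ΓSpecIso (CommRingCat.of A')).commRingCatIsoToRingEquiv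
    have hnat : ∀ r : Γ(Spec (CommRingCat.of A₀), ⊤),
        eR' (algebraMap Γ(Spec (CommRingCat.of A₀), ⊤) Γ(Spec (CommRingCat.of A'), ⊤) r) =
          φ (eR r) := by
      intro r
      have h := Scheme.ΓSpecIso_naturality (CommRingCat.ofHom φ)
      have h2 := congr($(h).hom r)
      rw [← hpY] at h2
      have h3 : pY.appLE ⊤ ⊤ eV = pY.appTop := by
        rw [Scheme.Hom.appTop, Scheme.Hom.app_eq_appLE]
        rfl
      show (Scheme.ΓSpecIso (CommRingCat.of A')).hom.hom ((pY.appLE ⊤ ⊤ eV).hom r) = _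
      rw [h3]
      exact h2
    have hu' : IsUnit (algebraMap Γ(Spec (CommRingCat.of A₀), ⊤)
        Γ(Spec (CommRingCat.of A'), ⊤) h) := by
      have hu2 : IsUnit (eR' (algebraMap Γ(Spec (CommRingCat.of A₀), ⊤)
          Γ(Spec (CommRingCat.of A'), ⊤) h)) := by
        rw [hnat]
        exact hu
      exact (isUnit_map_iff eR' _).mp hu2
    have h1 := chart_iff f₀ pY F₀ hV hW e hV' eV
    have h2 := hiff Γ(Spec (CommRingCat.of A'), ⊤) hu'
    have h3 : J.map (algebraMap Γ(Spec (CommRingCat.of A₀), ⊤)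
        Γ(Spec (CommRingCat.of A'), ⊤)) = ⊥ ↔ (J.map eR.toRingHom).map φ = ⊥ := by
      have hcomp : φ.comp eR.toRingHom = eR'.toRingHom.comp
          (algebraMap Γ(Spec (CommRingCat.of A₀), ⊤) Γ(Spec (CommRingCat.of A'), ⊤)) :=
        RingHom.ext (fun r => (hnat r).symm)
      rw [Ideal.map_map, hcomp, ← Ideal.map_map]
      exact (Ideal.map_eq_bot_iff_of_injective eR'.injective).symm
    rw [← h3, ← h2, ← h1]
    constructor
    · intro H x' hx' _
      exact H x' hx'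
    · intro H x' hx'
      exact H x' hx' trivial

/-- the flattening ideal over a dense open of a noetherian affine base with prime nilradical -/
theorem noeth_case {A₀ : Type u} [CommRing A₀] [IsNoetherianRing A₀]
    (hN : (nilradical A₀).IsPrime)
    {X₀ : Scheme.{u}} (f₀ : X₀ ⟶ Spec (CommRingCat.of A₀)) [LocallyOfFiniteType f₀]
    [QuasiCompact f₀] (F₀ : X₀.Modules) [F₀.IsQuasicoherent]
    (hF₀ : SheafOfModules.IsFiniteType (R := X₀.ringCatSheaf) F₀) :
    ∃ (h₀ : A₀) (J₀ : Ideal A₀), ¬ IsNilpotent h₀ ∧ J₀ ≤ nilradical A₀ ∧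
      ∀ (A' : Type u) [CommRing A'] (φ : A₀ →+* A'), IsUnit (φ h₀) →
        (FlatMod.IsFlatOver (pullback.snd f₀ (Spec.map (CommRingCat.ofHom φ)))
            ((Scheme.Modules.pullback
              (pullback.fst f₀ (Spec.map (CommRingCat.ofHom φ)))).obj F₀) ↔
          J₀.map φ = ⊥) := by
  classical
  haveI : CompactSpace X₀ := QuasiCompact.compactSpace_of_compactSpace f₀
  obtain ⟨s, hs⟩ := Groth.Agent.Lead.IdealMul.exists_finite_affine_cover X₀
  choose h J hh hJ hiff using fun U : X₀.affineOpens => chart_case hN f₀ F₀ hF₀ U.2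
  haveI : (nilradical A₀).IsPrime := hN
  refine ⟨∏ U ∈ s, h U, ⨆ U ∈ s, J U, ?_, ?_, ?_⟩
  · intro hnil
    rw [← mem_nilradical, Ideal.IsPrime.prod_mem_iff] at hnil
    obtain ⟨U, _, hU⟩ := hnil
    exact hh U (mem_nilradical.mp hU)
  · exact iSup₂_le (fun U _ => hJ U)
  · intro A' _ φ hu
    have hu' : ∀ U ∈ s, IsUnit (φ (h U)) := fun U hU =>
      isUnit_of_dvd_unit (map_dvd φ (Finset.dvd_prod_of_mem h hU)) hu
    simp only [Ideal.map_iSup, iSup_eq_bot]
    constructor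
    · intro H U hU
      exact (hiff U A' φ (hu' U hU)).mp (fun x' _ => H x')
    · intro H x'
      obtain ⟨U, hU, hxU⟩ := hs (pullback.fst f₀ (Spec.map (CommRingCat.ofHom φ)) x')
      exact (hiff U A' φ (hu' U hU)).mpr (H U hU) x' hxU

end Groth.Agent.Lead.FlatIdeal
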