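import Mathlib
import Groth.Agent.Lead.GFStratN
import Groth.Agent.Helper4.NApx11

set_option autoImplicit false
set_option linter.style.haveILetI false
universe u
open CategoryTheory CategoryTheory.Limits AlgebraicGeometry TopologicalSpace Opposite

namespace Groth.Agent.Lead.GFStrat

section Comap
variable {X S X₀ S₀ : Scheme.{u}} (f : X ⟶ S) (f₀ : X₀ ⟶ S₀) (g' : X ⟶ X₀) (g : S ⟶ S₀)

set_option backward.isDefEq.respectTransparency false in
theorem flatOn_comap (hpb : IsPullback g' f f₀ g) (F₀ : X₀.Modules) (hF₀ : Coh.IsQCoh F₀)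
    (F : X.Modules) (eF : (Scheme.Modules.pullback g').obj F₀ ≅ F)
    (J J' : S₀.IdealSheafData) (h : FlatOn f₀ F₀ J J') :
    FlatOn f F (J.comap g) (J'.comap g) := by
  intro x'
  let q : (J.comap g).subscheme ⟶ J.subscheme :=
    (J.comapIso g).hom ≫ pullback.snd g J.subschemeι
  have hq : q ≫ J.subschemeι = (J.comap g).subschemeι ≫ g := by
    rw [Category.assoc, ← pullback.condition, ← Category.assoc,
      Scheme.IdealSheafData.comapIso_hom_fst]
  set T : (J.comap g).subscheme.Opens :=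
    (J.comap g).subschemeι ⁻¹ᵁ (J'.comap g).support.compl with hT
  set T₀ : J.subscheme.Opens := J.subschemeι ⁻¹ᵁ J'.support.compl with hT₀
  have hTT₀ : ∀ z : (J.comap g).subscheme, z ∈ T → q z ∈ T₀ := by
    intro z hz
    have hz' : (J.comap g).subschemeι z ∉ ((J'.comap g).support : Set S) := hz
    rw [Scheme.IdealSheafData.support_comap] at hz'
    change J.subschemeι (q z) ∉ (J'.support : Set S₀)
    rw [← Scheme.Hom.comp_apply, hq, Scheme.Hom.comp_apply]
    exact hz'
  have hrange : Set.range (T.ι ≫ q) ⊆ Set.range T₀.ι := by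
    rintro _ ⟨z, rfl⟩
    rw [Scheme.Opens.range_ι, Scheme.Hom.comp_apply]
    refine hTT₀ _ ?_
    have : T.ι z ∈ Set.range T.ι := Set.mem_range_self z
    rw [Scheme.Opens.range_ι] at this
    exact this
  let k : (T : Scheme.{u}) ⟶ (T₀ : Scheme.{u}) := IsOpenImmersion.lift T₀.ι (T.ι ≫ q) hrange
  have hk1 : k ≫ T₀.ι = T.ι ≫ q := IsOpenImmersion.lift_fac _ _ _
  have hk : k ≫ stratumι J J' = stratumι (J.comap g) (J'.comap g) ≫ g := by
    change k ≫ T₀.ι ≫ J.subschemeι = (T.ι ≫ (J.comap g).subschemeι) ≫ g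
    rw [← Category.assoc, hk1, Category.assoc, hq, Category.assoc]
  exact flat_transfer f f₀ g' g hpb F₀ hF₀ F eF _ _ k hk x' (fun y _ => h y)

theorem isStrat_comap (hpb : IsPullback g' f f₀ g) (F₀ : X₀.Modules) (hF₀ : Coh.IsQCoh F₀)
    (F : X.Modules) (eF : (Scheme.Modules.pullback g').obj F₀ ≅ F) (t : ℕ)
    (I : Fin (t + 1) → S₀.IdealSheafData) (h : IsStrat f₀ F₀ t I) :
    IsStrat f F t (fun i => (I i).comap g) := by
  refine ⟨fun a b hab => Scheme.IdealSheafData.comap_mono g (h.1 hab), ?_, fun i => ?_⟩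
  · change (I (Fin.last t)).comap g = ⊤
    rw [h.2.1, Scheme.IdealSheafData.comap_top]
  · exact flatOn_comap f f₀ g' g hpb F₀ hF₀ F eF _ _ (h.2.2 i)

set_option backward.isDefEq.respectTransparency false in
/-- the final statement from a noetherian model -/
theorem final_of_model [LocallyOfFinitePresentation f₀] [QuasiCompact f₀] [IsNoetherian S₀]
    (hpb : IsPullback g' f f₀ g) (F₀ : X₀.Modules) (hF₀ : Coh.IsQCoh F₀) (hfp₀ : CohB1.IsFP F₀)
    (F : X.Modules) (eF : (Scheme.Modules.pullback g').obj F₀ ≅ F) :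
    ∃ (t : ℕ) (I : Fin (t + 1) → S.IdealSheafData), Monotone I ∧ I (Fin.last t) = ⊤ ∧
      ((I 0).support : Set ↑S) = Set.univ ∧
      (∀ i, ∀ U : S.affineOpens, ((I i).ideal U).FG) ∧
      ∀ i : Fin t, FlatMod.IsFlatOver
        (pullback.snd f (((I i.castSucc).subschemeι ⁻¹ᵁ (I i.succ).support.compl).ι ≫
          (I i.castSucc).subschemeι))
        ((Scheme.Modules.pullback (pullback.fst f
          (((I i.castSucc).subschemeι ⁻¹ᵁ (I i.succ).support.compl).ι ≫
            (I i.castSucc).subschemeι))).obj F) := by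
  obtain ⟨t, I₀, hst, h0⟩ := noeth_strat f₀ F₀ hF₀ hfp₀ ⊤
  have hst' := isStrat_comap f f₀ g' g hpb F₀ hF₀ F eF t I₀ hst
  refine ⟨t, fun i => (I₀ i).comap g, hst'.1, hst'.2.1, ?_, ?_, fun i => hst'.2.2 i⟩
  · change (((I₀ 0).comap g).support : Set S) = Set.univ
    rw [Scheme.IdealSheafData.support_comap, h0]
    change g ⁻¹' ((Scheme.IdealSheafData.vanishingIdeal (⊤ : Closeds S₀)).support : Set S₀) = _
    rw [Scheme.IdealSheafData.coe_support_vanishingIdeal]
    rfl
  · intro i U
    refine Groth.Agent.Helper4.NApx11.comap_fg g (I₀ i) (fun V => ?_) U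
    haveI : IsNoetherianRing Γ(S₀, V.1) := IsLocallyNoetherian.component_noetherian V
    exact IsNoetherian.noetherian _

end Comap

end Groth.Agent.Lead.GFStrat
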