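import Mathlib
import Groth.Agent.Lead.GFStratC
import Groth.Agent.Lead.LimPullback
import Groth.Agent.S0590
import Groth.Agent.S0591
import Groth.Agent.S4788

set_option autoImplicit false
set_option linter.style.haveILetI false
universe u
open CategoryTheory CategoryTheory.Limits AlgebraicGeometry TopologicalSpace Opposite

namespace Groth.Agent.Lead.GFStrat
open Groth.Agent.Lead.LimPullback

set_option backward.isDefEq.respectTransparency false in
set_option maxHeartbeats 800000 in
/-- noetherian approximation of a finitely presented morphism together with a finitely presented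
quasi-coherent module -/
theorem exists_model {X S : Scheme.{u}} (f : X ⟶ S) [LocallyOfFinitePresentation f]
    [QuasiCompact f] [QuasiSeparated f] [CompactSpace ↑S] [QuasiSeparatedSpace ↑S]
    (F : X.Modules) (hq : Coh.IsQCoh F) (hfp : CohB1.IsFP F) :
    ∃ (X₀ S₀ : Scheme.{u}) (f₀ : X₀ ⟶ S₀) (g' : X ⟶ X₀) (g : S ⟶ S₀) (F₀ : X₀.Modules),
      LocallyOfFinitePresentation f₀ ∧ QuasiCompact f₀ ∧ IsNoetherian S₀ ∧
      IsPullback g' f f₀ g ∧ Coh.IsQCoh F₀ ∧ CohB1.IsFP F₀ ∧
      Nonempty ((Scheme.Modules.pullback g').obj F₀ ≅ F) := by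
  haveI : F.IsQuasicoherent := hq
  obtain ⟨I, _, _, _, D, c, hc, haff, hD, ⟨e⟩⟩ := Groth.Agent.S0590.result S
  haveI : ∀ (i j : Iᵒᵖ) (f : i ⟶ j), IsAffineHom (D.map f) := haff
  haveI : ∀ i, CompactSpace (D.obj i) := fun i ↦ (hD i).1
  have hnoeth : ∀ i, IsNoetherian (D.obj i) := by
    intro i
    haveI := (hD i).2
    haveI : IsNoetherianRing (ULift.{u} ℤ) :=
      isNoetherianRing_of_ringEquiv ℤ (ULift.ringEquiv : ULift.{u} ℤ ≃+* ℤ).symm
    haveI : IsLocallyNoetherian (Spec (CommRingCat.of (ULift.{u} ℤ))) := inferInstance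
    haveI : IsLocallyNoetherian (D.obj i) :=
      LocallyOfFiniteType.isLocallyNoetherian (specULiftZIsTerminal.from (D.obj i))
    exact {}
  haveI hqs : ∀ i, QuasiSeparatedSpace (D.obj i) := fun i => by
    haveI := hnoeth i
    infer_instance
  haveI : IsFiltered I := inferInstance
  obtain ⟨i, Xi, fi, gX, hfi1, hfi2, hfi3, hsq⟩ :=
    Groth.Agent.S0591.result D c hc X (f ≫ e.inv)
  haveI := hfi1
  haveI := hfi2
  haveI := hfi3
  haveI : CompactSpace Xi := QuasiCompact.compactSpace_of_compactSpace fi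
  haveI : QuasiSeparatedSpace Xi := quasiSeparatedSpace_of_quasiSeparated fi
  haveI hPaff : ∀ (a b : Over i) (t : a ⟶ b), IsAffineHom ((pbDiag D i fi).map t) :=
    fun _ _ t ↦ isAffineHom_pbDiag_map i fi t
  have hc' : IsLimit (pbCone D c i fi) := pbConeIsLimit i fi hc
  haveI : CompactSpace ((pbDiag D i fi).obj (Over.mk (𝟙 i))) :=
    QuasiCompact.compactSpace_of_compactSpace (pullback.fst (D.map (𝟙 i)) fi)
  haveI : QuasiSeparatedSpace ((pbDiag D i fi).obj (Over.mk (𝟙 i))) :=
    quasiSeparatedSpace_of_quasiSeparated (pullback.fst (D.map (𝟙 i)) fi)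
  let eX : X ≅ pullback (c.π.app i) fi := hsq.flip.isoPullback
  have heX1 : eX.hom ≫ pullback.fst (c.π.app i) fi = f ≫ e.inv := hsq.flip.isoPullback_hom_fst
  let F' : (pbCone D c i fi).pt.Modules := (Scheme.Modules.pullback eX.inv).obj F
  haveI : Coh.IsQCoh F' := StalkPull.isQuasicoherent_pullbackObj eX.inv F
  have hF'fp : CohB1.IsFP F' := LimPres.isFP_pullback eX.inv F hfp
  obtain ⟨j, _, Fj, hFjq, hFjfp, ⟨eFj⟩⟩ :=
    Groth.Agent.S4788.result (pbDiag D i fi) (pbCone D c i fi) hc' (Over.mk (𝟙 i)) F' hF'fp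
  let πj : pullback (c.π.app i) fi ⟶ pullback (D.map j.hom) fi := (pbCone D c i fi).π.app j
  have hπ1 : πj ≫ pullback.fst (D.map j.hom) fi =
      pullback.fst (c.π.app i) fi ≫ c.π.app j.left := pullback.lift_fst _ _ _
  have hπ2 : πj ≫ pullback.snd (D.map j.hom) fi = pullback.snd (c.π.app i) fi := by
    have : πj ≫ pullback.snd (D.map j.hom) fi = pullback.snd (c.π.app i) fi ≫ 𝟙 _ :=
      pullback.lift_snd _ _ _
    rw [this, Category.comp_id]
  have hQ : IsPullback (pullback.snd (D.map j.hom) fi) (pullback.fst (D.map j.hom) fi) fi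
      (D.map j.hom) := (IsPullback.of_hasPullback _ _).flip
  have hP : IsPullback (pullback.snd (c.π.app i) fi) (pullback.fst (c.π.app i) fi) fi
      (c.π.app i) := (IsPullback.of_hasPullback _ _).flip
  have hw : c.π.app j.left ≫ D.map j.hom = c.π.app i := c.w j.hom
  have hL : IsPullback πj (pullback.fst (c.π.app i) fi) (pullback.fst (D.map j.hom) fi)
      (c.π.app j.left) :=
    IsPullback.of_right (by rw [hπ2, hw]; exact hP) hπ1 hQ
  have hiso : IsPullback eX.hom f (pullback.fst (c.π.app i) fi) e.inv :=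
    IsPullback.of_horiz_isIso ⟨heX1⟩
  refine ⟨pullback (D.map j.hom) fi, D.obj j.left, pullback.fst (D.map j.hom) fi,
    eX.hom ≫ πj, e.inv ≫ c.π.app j.left, Fj, inferInstance, inferInstance, hnoeth _,
    hiso.paste_horiz hL, hFjq, hFjfp, ⟨?_⟩⟩
  exact ((Scheme.Modules.pullbackComp eX.hom πj).app Fj).symm ≪≫
    (Scheme.Modules.pullback eX.hom).mapIso eFj ≪≫
    (Scheme.Modules.pullbackComp eX.hom eX.inv).app F ≪≫
    (Scheme.Modules.pullbackCongr eX.hom_inv_id).app F ≪≫
    (Scheme.Modules.pullbackId (X := X)).app F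

end Groth.Agent.Lead.GFStrat
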