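import Mathlib
import Groth.Prelude
import Groth.Agent.Lead.FlatIdealC
import Groth.Agent.Lead.GFStratL
import Groth.Agent.Lead.SubalgSys

set_option autoImplicit false
set_option linter.style.haveILetI false
universe u
open CategoryTheory CategoryTheory.Limits AlgebraicGeometry TopologicalSpace Opposite

namespace Groth.Agent.Lead.FlatIdeal
open Groth.Agent.Lead.LimPullback Groth.Agent.Lead.GFStrat

set_option backward.isDefEq.respectTransparency false in
set_option maxHeartbeats 800000 in
/-- approximation of a finitely presented morphism together with a finitely presented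
quasi-coherent module along an arbitrary cofiltered system with affine transition maps -/
theorem exists_model_sys {I : Type u} [SmallCategory I] [IsCofiltered I]
    (D : I ⥤ Scheme.{u}) (c : Cone D) (hc : IsLimit c)
    [∀ (i j : I) (f : i ⟶ j), IsAffineHom (D.map f)] [∀ i, CompactSpace (D.obj i)]
    [∀ i, QuasiSeparatedSpace (D.obj i)] {X : Scheme.{u}} (f : X ⟶ c.pt)
    [LocallyOfFinitePresentation f] [QuasiCompact f] [QuasiSeparated f]
    (F : X.Modules) (hq : Coh.IsQCoh F) (hfp : CohB1.IsFP F) :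
    ∃ (j : I) (X₀ : Scheme.{u}) (f₀ : X₀ ⟶ D.obj j) (g' : X ⟶ X₀) (F₀ : X₀.Modules),
      LocallyOfFinitePresentation f₀ ∧ QuasiCompact f₀ ∧
      IsPullback g' f f₀ (c.π.app j) ∧ Coh.IsQCoh F₀ ∧ CohB1.IsFP F₀ ∧
      Nonempty ((Scheme.Modules.pullback g').obj F₀ ≅ F) := by
  haveI : F.IsQuasicoherent := hq
  obtain ⟨i, Xi, fi, gX, hfi1, hfi2, hfi3, hsq⟩ := Groth.Agent.S0591.result D c hc X f
  haveI := hfi1
  haveI := hfi2
  haveI := hfi3
  haveI : CompactSpace Xi := QuasiCompact.compactSpace_of_compactSpace fi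
  haveI : QuasiSeparatedSpace Xi := quasiSeparatedSpace_of_quasiSeparated fi
  haveI hPaff : ∀ (a b : Over i) (t : a ⟶ b), IsAffineHom ((pbDiag D i fi).map t) :=
    fun _ _ t ↦ isAffineHom_pbDiag_map i fi t
  have hc' : IsLimit (pbCone D c i fi) := pbConeIsLimit i fi hc
  haveI : CompactSpace ((pbDiag D i fi).obj (Over.mk (𝟙 i))) :=
    QuasiCompact.compactSpace_of_compactSpace (pullback.fst (D.map (𝟙 i)) fi)
  haveI : QuasiSeparatedSpace ((pbDiag D i fi).obj (Over.mk (𝟙 i))) :=
    quasiSeparatedSpace_of_quasiSeparated (pullback.fst (D.map (𝟙 i)) fi)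
  let eX : X ≅ pullback (c.π.app i) fi := hsq.flip.isoPullback
  have heX1 : eX.hom ≫ pullback.fst (c.π.app i) fi = f := hsq.flip.isoPullback_hom_fst
  let F' : (pbCone D c i fi).pt.Modules := (Scheme.Modules.pullback eX.inv).obj F
  haveI : Coh.IsQCoh F' := StalkPull.isQuasicoherent_pullbackObj eX.inv F
  have hF'fp : CohB1.IsFP F' := LimPres.isFP_pullback eX.inv F hfp
  obtain ⟨j, _, Fj, hFjq, hFjfp, ⟨eFj⟩⟩ :=
    Groth.Agent.S4788.result (pbDiag D i fi) (pbCone D c i fi) hc' (Over.mk (𝟙 i)) F' hF'fp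
  let πj : pullback (c.π.app i) fi ⟶ pullback (D.map j.hom) fi := (pbCone D c i fi).π.app j
  have hπ1 : πj ≫ pullback.fst (D.map j.hom) fi =
      pullback.fst (c.π.app i) fi ≫ c.π.app j.left := pullback.lift_fst _ _ _
  have hπ2 : πj ≫ pullback.snd (D.map j.hom) fi = pullback.snd (c.π.app i) fi := by
    have : πj ≫ pullback.snd (D.map j.hom) fi = pullback.snd (c.π.app i) fi ≫ 𝟙 _ :=
      pullback.lift_snd _ _ _
    rw [this, Category.comp_id]
  have hQ : IsPullback (pullback.snd (D.map j.hom) fi) (pullback.fst (D.map j.hom) fi) fi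
      (D.map j.hom) := (IsPullback.of_hasPullback _ _).flip
  have hP : IsPullback (pullback.snd (c.π.app i) fi) (pullback.fst (c.π.app i) fi) fi
      (c.π.app i) := (IsPullback.of_hasPullback _ _).flip
  have hw : c.π.app j.left ≫ D.map j.hom = c.π.app i := c.w j.hom
  have hL : IsPullback πj (pullback.fst (c.π.app i) fi) (pullback.fst (D.map j.hom) fi)
      (c.π.app j.left) :=
    IsPullback.of_right (by rw [hπ2, hw]; exact hP) hπ1 hQ
  have hiso : IsPullback eX.hom f (pullback.fst (c.π.app i) fi) (𝟙 c.pt) :=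
    IsPullback.of_horiz_isIso ⟨by rw [heX1, Category.comp_id]⟩
  have hpaste := hiso.paste_horiz hL
  rw [Category.id_comp] at hpaste
  refine ⟨j.left, pullback (D.map j.hom) fi, pullback.fst (D.map j.hom) fi,
    eX.hom ≫ πj, Fj, inferInstance, inferInstance, hpaste, hFjq, hFjfp, ⟨?_⟩⟩
  exact ((Scheme.Modules.pullbackComp eX.hom πj).app Fj).symm ≪≫
    (Scheme.Modules.pullback eX.hom).mapIso eFj ≪≫
    (Scheme.Modules.pullbackComp eX.hom eX.inv).app F ≪≫
    (Scheme.Modules.pullbackCongr eX.hom_inv_id).app F ≪≫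
    (Scheme.Modules.pullbackId (X := X)).app F

set_option backward.isDefEq.respectTransparency false in
/-- flatness of the base change to `T` may be tested on a model of which `f`, `F` are the pullback -/
theorem flat_transfer_iff {X S X₀ S₀ : Scheme.{u}} (f : X ⟶ S) (f₀ : X₀ ⟶ S₀) (g' : X ⟶ X₀)
    (g : S ⟶ S₀) (hpb : IsPullback g' f f₀ g) (F₀ : X₀.Modules) (hF₀ : Coh.IsQCoh F₀)
    (F : X.Modules) (hF : Coh.IsQCoh F) (eF : (Scheme.Modules.pullback g').obj F₀ ≅ F)
    {T : Scheme.{u}} (j : T ⟶ S) (j₀ : T ⟶ S₀) (hj : j₀ = j ≫ g) :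
    FlatMod.IsFlatOver (pullback.snd f j) ((Scheme.Modules.pullback (pullback.fst f j)).obj F) ↔
      FlatMod.IsFlatOver (pullback.snd f₀ j₀)
        ((Scheme.Modules.pullback (pullback.fst f₀ j₀)).obj F₀) := by
  haveI : F₀.IsQuasicoherent := hF₀
  haveI : F.IsQuasicoherent := hF
  have hk : 𝟙 T ≫ j₀ = j ≫ g := by rw [Category.id_comp, hj]
  constructor
  · intro H y
    let m : pullback f j ⟶ pullback f₀ j₀ :=
      pullback.map f j f₀ j₀ g' (𝟙 T) g hpb.w.symm hk.symm
    have hm1 : m ≫ pullback.fst f₀ j₀ = pullback.fst f j ≫ g' := pullback.lift_fst _ _ _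
    have hm2 : m ≫ pullback.snd f₀ j₀ = pullback.snd f j ≫ 𝟙 T := pullback.lift_snd _ _ _
    have h1 : IsPullback (pullback.fst f j ≫ g') (pullback.snd f j) f₀ (j ≫ g) :=
      (IsPullback.of_hasPullback f j).paste_horiz hpb
    have h2 : IsPullback m (pullback.snd f j) (pullback.snd f₀ j₀) (𝟙 T) :=
      IsPullback.of_right (by rw [hm1, hk]; exact h1) hm2 (IsPullback.of_hasPullback f₀ j₀)
    haveI : IsIso m := h2.isIso_fst_of_isIso
    have hcomm : inv m ≫ pullback.snd f j = pullback.snd f₀ j₀ ≫ 𝟙 T := by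
      rw [IsIso.inv_comp_eq, ← Category.assoc, hm2]
      simp
    have h3 : IsPullback (inv m) (pullback.snd f₀ j₀) (pullback.snd f j) (𝟙 T) :=
      IsPullback.of_horiz_isIso ⟨hcomm⟩
    have hq1 : Coh.IsQCoh ((Scheme.Modules.pullback (pullback.fst f j)).obj F) :=
      StalkPull.isQuasicoherent_pullbackObj _ F
    have h4 := FlatBC.main_baseChange (pullback.snd f j) (pullback.snd f₀ j₀) (inv m) (𝟙 T) h3 _
      hq1 y (H (inv m y))
    have hfst : inv m ≫ pullback.fst f j ≫ g' = pullback.fst f₀ j₀ := by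
      rw [IsIso.inv_comp_eq, hm1]
    refine FpqcSheaf.isFlatOverAt_of_iso _ ?_ y h4
    exact (Scheme.Modules.pullback (inv m)).mapIso
        ((Scheme.Modules.pullback (pullback.fst f j)).mapIso eF.symm) ≪≫
      (Scheme.Modules.pullback (inv m)).mapIso
        ((Scheme.Modules.pullbackComp (pullback.fst f j) g').app F₀) ≪≫
      (Scheme.Modules.pullbackComp (inv m) (pullback.fst f j ≫ g')).app F₀ ≪≫
      (Scheme.Modules.pullbackCongr hfst).app F₀
  · intro H x'
    exact flat_transfer f f₀ g' g hpb F₀ hF₀ F eF j j₀ (𝟙 T) hk x' (fun y _ => H y)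

set_option backward.isDefEq.respectTransparency false in
set_option maxHeartbeats 800000 in
/-- EGA IV 11.2-type statement: over an affine base with irreducible spectrum, generically there is
a nilpotent finitely generated ideal cutting out the locus of flatness of `F` -/
theorem main {A : Type u} [CommRing A] [IrreducibleSpace (PrimeSpectrum A)]
    {X : Scheme.{u}} (f : X ⟶ Spec (CommRingCat.of A))
    [LocallyOfFinitePresentation f] [QuasiCompact f] [QuasiSeparated f]
    (F : X.Modules) [Coh.IsQCoh F] (hF : CohB1.IsFP F) :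
    ∃ (h : A) (_ : ¬ IsNilpotent h) (J : Ideal (Localization.Away h)) (_ : J.FG)
      (_ : J ≤ nilradical (Localization.Away h)),
      ∀ (A' : Type u) [CommRing A'] [Algebra (Localization.Away h) A'],
        letI g : Spec (CommRingCat.of A') ⟶ Spec (CommRingCat.of A) :=
          Spec.map (CommRingCat.ofHom ((algebraMap (Localization.Away h) A').comp
            (algebraMap A (Localization.Away h))))
        (FlatMod.IsFlatOver (pullback.snd f g)
            ((Scheme.Modules.pullback (pullback.fst f g)).obj F) ↔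
          Ideal.map (algebraMap (Localization.Away h) A') J = ⊥) := by
  classical
  have hNA : (nilradical A).IsPrime :=
    PrimeSpectrum.irreducibleSpace_iff_isPrime_nilradical.mp inferInstance
  haveI := SubalgSys.isCofiltered (A := A) (A₁ := ⊥) Subalgebra.fg_bot
  have hc : IsLimit (SubalgSys.cone A ⊥) := SubalgSys.coneIsLimit Subalgebra.fg_bot
  haveI : ∀ i, CompactSpace ((SubalgSys.D A ⊥).obj i) := fun i => inferInstance
  haveI : ∀ i, QuasiSeparatedSpace ((SubalgSys.D A ⊥).obj i) := fun i => inferInstance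
  haveI h1 : @LocallyOfFinitePresentation X (SubalgSys.cone A ⊥).pt f :=
    ‹LocallyOfFinitePresentation f›
  haveI h2 : @QuasiCompact X (SubalgSys.cone A ⊥).pt f := ‹QuasiCompact f›
  haveI h3 : @QuasiSeparated X (SubalgSys.cone A ⊥).pt f := ‹QuasiSeparated f›
  obtain ⟨j, X₀, f₀, g', F₀, hlfp, hqc, hpb, hq₀, hfp₀, ⟨eF⟩⟩ :=
    exists_model_sys (SubalgSys.D A ⊥) (SubalgSys.cone A ⊥) hc (X := X) f F ‹_› hF
  let B : Subalgebra ℤ A := j.unop.1
  have hBfg : B.FG := j.unop.2.1
  haveI : Algebra.FiniteType ℤ B := (Subalgebra.fg_iff_finiteType B).mp hBfg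
  haveI : IsNoetherianRing B := Algebra.FiniteType.isNoetherianRing ℤ B
  let ι : ↥B →+* A := B.val.toRingHom
  have hιinj : Function.Injective ι := Subtype.val_injective
  have hN₀ : (nilradical ↥B).IsPrime := by
    have hEq : nilradical ↥B = (nilradical A).comap ι := by
      ext r
      rw [Ideal.mem_comap, mem_nilradical, mem_nilradical]
      exact (IsNilpotent.map_iff hιinj).symm
    rw [hEq]
    haveI := hNA
    exact Ideal.comap_isPrime ι _
  have hft₀ : SheafOfModules.IsFiniteType (R := X₀.ringCatSheaf) F₀ :=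
    Groth.Agent.Helper4.FinLocFree2.isFiniteType_of_isFinitePresentation F₀ hfp₀
  haveI : F₀.IsQuasicoherent := hq₀
  have hlft0 : LocallyOfFiniteType f₀ := by
    haveI := hlfp
    infer_instance
  haveI hlft : @LocallyOfFiniteType X₀ (Spec (CommRingCat.of ↥B)) f₀ := hlft0
  haveI hqc' : @QuasiCompact X₀ (Spec (CommRingCat.of ↥B)) f₀ := hqc
  obtain ⟨h₀, J₀, hh₀, hJ₀, hiff⟩ := noeth_case (A₀ := ↥B) hN₀ f₀ F₀ hft₀
  refine ⟨ι h₀, ?_, J₀.map ((algebraMap A (Localization.Away (ι h₀))).comp ι), ?_, ?_, ?_⟩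
  · rwa [IsNilpotent.map_iff hιinj]
  · exact Ideal.FG.map (IsNoetherian.noetherian J₀) _
  · rw [Ideal.map_le_iff_le_comap]
    intro r hr
    have hr' := hJ₀ hr
    rw [mem_nilradical] at hr'
    rw [Ideal.mem_comap, mem_nilradical]
    exact hr'.map _
  · intro A' _ _
    have hu : IsUnit ((((algebraMap (Localization.Away (ι h₀)) A').comp
        (algebraMap A (Localization.Away (ι h₀)))).comp ι) h₀) := by
      show IsUnit (algebraMap (Localization.Away (ι h₀)) A'
        (algebraMap A (Localization.Away (ι h₀)) (ι h₀)))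
      exact (IsLocalization.Away.algebraMap_isUnit (ι h₀)).map _
    have key := hiff A' (((algebraMap (Localization.Away (ι h₀)) A').comp
        (algebraMap A (Localization.Away (ι h₀)))).comp ι) hu
    have hj : Spec.map (CommRingCat.ofHom (((algebraMap (Localization.Away (ι h₀)) A').comp
        (algebraMap A (Localization.Away (ι h₀)))).comp ι)) =
        Spec.map (CommRingCat.ofHom ((algebraMap (Localization.Away (ι h₀)) A').comp
          (algebraMap A (Localization.Away (ι h₀))))) ≫ (SubalgSys.cone A ⊥).π.app j := by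
      rw [SubalgSys.cone_π, ← Spec.map_comp]
      rfl
    have htr := flat_transfer_iff f f₀ g' ((SubalgSys.cone A ⊥).π.app j) hpb F₀ hq₀ F ‹_› eF
      (Spec.map (CommRingCat.ofHom ((algebraMap (Localization.Away (ι h₀)) A').comp
        (algebraMap A (Localization.Away (ι h₀))))))
      (Spec.map (CommRingCat.ofHom (((algebraMap (Localization.Away (ι h₀)) A').comp
        (algebraMap A (Localization.Away (ι h₀)))).comp ι))) hj
    have hmap : Ideal.map (algebraMap (Localization.Away (ι h₀)) A')
        (J₀.map ((algebraMap A (Localization.Away (ι h₀))).comp ι)) =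
        J₀.map (((algebraMap (Localization.Away (ι h₀)) A').comp
          (algebraMap A (Localization.Away (ι h₀)))).comp ι) := by
      rw [Ideal.map_map]
      rfl
    rw [hmap]
    exact htr.trans key

end Groth.Agent.Lead.FlatIdeal
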