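import Mathlib
import Groth.Agent.Lead.FlatUnivD

set_option autoImplicit false
set_option linter.style.haveILetI false
open TensorProduct Function LinearMap IsLocalRing
universe u

namespace Groth.Agent.Lead.FlatPrim

open Groth.Agent.Helper2.FlatCL4

section T
variable {R : Type u} (S R' S' : Type u) [CommRing R] [CommRing S] [CommRing R'] [IsLocalRing R']
  [CommRing S'] [Algebra R S] [Algebra R R'] [Algebra S S'] [Algebra R' S'] [Algebra R S']
  [IsScalarTower R S S'] [IsScalarTower R R' S']

/-- the functor `P ↦ (S' ⊗[S] P) ⊗[R'] k'` on `S`-modules -/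
abbrev TT (P : Type u) [AddCommGroup P] [Module S P] : Type u :=
  (S' ⊗[S] P) ⊗[R'] (R' ⧸ maximalIdeal R')

variable {S R' S'}
variable {P₁ P P₂ : Type u} [AddCommGroup P₁] [Module S P₁] [AddCommGroup P] [Module S P]
  [AddCommGroup P₂] [Module S P₂]

/-- functoriality of `TT` -/
noncomputable def TTmap (g : P₁ →ₗ[S] P) : TT S R' S' P₁ →ₗ[S'] TT S R' S' P :=
  AlgebraTensorModule.map (LinearMap.baseChange S' g)
    (LinearMap.id : (R' ⧸ maximalIdeal R') →ₗ[R'] (R' ⧸ maximalIdeal R'))

@[simp] lemma TTmap_tmul (g : P₁ →ₗ[S] P) (a : S') (p : P₁) (x : R' ⧸ maximalIdeal R') :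
    TTmap (R' := R') (S' := S') g ((a ⊗ₜ[S] p) ⊗ₜ[R'] x) = (a ⊗ₜ[S] g p) ⊗ₜ[R'] x := rfl

lemma TT_induction {motive : TT S R' S' P → Prop} (e : TT S R' S' P)
    (zero : motive 0) (add : ∀ a b, motive a → motive b → motive (a + b))
    (tmul : ∀ (a : S') (p : P) (x : R' ⧸ maximalIdeal R'), motive ((a ⊗ₜ[S] p) ⊗ₜ[R'] x)) :
    motive e := by
  induction e using TensorProduct.induction_on with
  | zero => exact zero
  | add a b ha hb => exact add a b ha hb
  | tmul y x =>
    induction y using TensorProduct.induction_on with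
    | zero => rw [zero_tmul]; exact zero
    | add a b ha hb => rw [add_tmul]; exact add _ _ ha hb
    | tmul a p => exact tmul a p x

lemma TTmap_comp_apply (g : P →ₗ[S] P₂) (h : P₁ →ₗ[S] P) (e : TT S R' S' P₁) :
    TTmap (R' := R') (S' := S') g (TTmap h e) = TTmap (g ∘ₗ h) e := by
  induction e using TT_induction with
  | zero => simp
  | add a b ha hb => rw [map_add, map_add, map_add, ha, hb]
  | tmul a p x => simp

lemma TTmap_id_apply (e : TT S R' S' P) :
    TTmap (R' := R') (S' := S') (LinearMap.id : P →ₗ[S] P) e = e := by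
  induction e using TT_induction with
  | zero => simp
  | add a b ha hb => rw [map_add, ha, hb]
  | tmul a p x => simp

lemma TT_eq_zero_of_subsingleton [Subsingleton P] (e : TT S R' S' P) : e = 0 := by
  induction e using TT_induction with
  | zero => rfl
  | add a b ha hb => rw [ha, hb, add_zero]
  | tmul a p x => rw [Subsingleton.elim p 0, tmul_zero, zero_tmul]

end T

section Psi
variable {R S R' S' : Type u} [CommRing R] [CommRing S] [CommRing R'] [CommRing S']
  [Algebra R S] [Algebra R R'] [Algebra S S'] [Algebra R' S'] [Algebra R S']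
  [IsScalarTower R S S'] [IsScalarTower R R' S']
  {M M' Q Q' : Type u} [AddCommGroup M] [Module S M] [Module R M] [IsScalarTower R S M]
  [AddCommGroup M'] [Module S' M'] [Module R' M'] [IsScalarTower R' S' M'] [Module S M']
  [IsScalarTower S S' M']
  [AddCommGroup Q] [Module S Q] [Module R Q] [IsScalarTower R S Q]
  [AddCommGroup Q'] [Module S' Q'] [Module R' Q'] [IsScalarTower R' S' Q'] [Module S Q']
  [IsScalarTower S S' Q']
  (X : Type u) [AddCommGroup X] [Module R' X] [Module R X] [IsScalarTower R R' X]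

/-- naturality of `psi` in the module variable -/
lemma psi_map (f : M →ₗ[S] M') (f₂ : Q →ₗ[S] Q') (h : M →ₗ[S] Q) (h' : M' →ₗ[S'] Q')
    (hh : ∀ m, h' (f m) = f₂ (h m)) (d : M ⊗[R] X) :
    psi R R' S' X f₂ (rTensor X (h.restrictScalars R) d) =
      AlgebraTensorModule.map h' (LinearMap.id : X →ₗ[R'] X) (psi R R' S' X f d) := by
  induction d using TensorProduct.induction_on with
  | zero => simp
  | add a b ha hb => rw [map_add, map_add, map_add, map_add, ha, hb]
  | tmul m x => simp [hh]

end Psi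

section Exact
variable {R S R' S' : Type u} [CommRing R] [IsLocalRing R] [CommRing S] [CommRing R']
  [IsLocalRing R'] [CommRing S']
  [Algebra R S] [Algebra R R'] [Algebra S S'] [Algebra R' S'] [Algebra R S']
  [IsScalarTower R S S'] [IsScalarTower R R' S'] [Algebra.IsPushout R S R' S']
  {P₁ P P₂ : Type u} [AddCommGroup P₁] [Module S P₁] [AddCommGroup P] [Module S P]
  [AddCommGroup P₂] [Module S P₂]

/-- an `R`-linear retraction of an injective map of modules killed by the maximal ideal -/
lemma exists_retraction (i : P₁ →ₗ[S] P) (hi : Injective i)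
    (h₁ : ∀ a ∈ maximalIdeal R, ∀ p : P₁, algebraMap R S a • p = 0)
    (h₂ : ∀ a ∈ maximalIdeal R, ∀ p : P, algebraMap R S a • p = 0) :
    letI : Module R P₁ := Module.compHom P₁ (algebraMap R S)
    letI : Module R P := Module.compHom P (algebraMap R S)
    ∃ r : P →ₗ[R] P₁, ∀ p, r (i p) = p := by
  letI : Module R P₁ := Module.compHom P₁ (algebraMap R S)
  letI : Module R P := Module.compHom P (algebraMap R S)
  letI : Field (R ⧸ maximalIdeal R) := Ideal.Quotient.field (maximalIdeal R)
  have hT₁ : Module.IsTorsionBySet R P₁ (maximalIdeal R) := fun p a => h₁ a.1 a.2 p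
  have hT₂ : Module.IsTorsionBySet R P (maximalIdeal R) := fun p a => h₂ a.1 a.2 p
  letI := hT₁.module
  letI := hT₂.module
  haveI : IsScalarTower R (R ⧸ maximalIdeal R) P₁ := hT₁.isScalarTower
  haveI : IsScalarTower R (R ⧸ maximalIdeal R) P := hT₂.isScalarTower
  let ik : P₁ →ₗ[R ⧸ maximalIdeal R] P :=
    { toFun := i
      map_add' := i.map_add
      map_smul' := by
        intro c p
        obtain ⟨a, rfl⟩ := Ideal.Quotient.mk_surjective c
        rw [RingHom.id_apply, hT₁.mk_smul, hT₂.mk_smul]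
        exact i.map_smul (algebraMap R S a) p }
  have hker : LinearMap.ker ik = ⊥ := LinearMap.ker_eq_bot.2 hi
  obtain ⟨g, hg⟩ := LinearMap.exists_leftInverse_of_injective ik hker
  refine ⟨g.restrictScalars R, fun p => ?_⟩
  exact congrArg (fun φ => φ p) hg

lemma TTmap_injective (i : P₁ →ₗ[S] P) (hi : Injective i)
    (h₁ : ∀ a ∈ maximalIdeal R, ∀ p : P₁, algebraMap R S a • p = 0)
    (h₂ : ∀ a ∈ maximalIdeal R, ∀ p : P, algebraMap R S a • p = 0) :
    Injective (TTmap (R' := R') (S' := S') i) := by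
  letI : Module R P₁ := Module.compHom P₁ (algebraMap R S)
  letI : Module R P := Module.compHom P (algebraMap R S)
  haveI : IsScalarTower R S P₁ := IsScalarTower.of_algebraMap_smul fun r m => rfl
  haveI : IsScalarTower R S P := IsScalarTower.of_algebraMap_smul fun r m => rfl
  obtain ⟨r, hr⟩ := exists_retraction i hi h₁ h₂
  rw [injective_iff_map_eq_zero]
  intro e₁ he₁
  obtain ⟨d₁, rfl⟩ := psi_surjective R R' S' (R' ⧸ maximalIdeal R')
    (TensorProduct.mk S S' P₁ 1) (TensorProduct.isBaseChange S P₁ S') e₁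
  have h1 := psi_map (R := R) (R' := R') (S' := S') (R' ⧸ maximalIdeal R')
    (TensorProduct.mk S S' P₁ 1) (TensorProduct.mk S S' P 1) i (LinearMap.baseChange S' i)
    (fun m => rfl) d₁
  have h2 : psi R R' S' (R' ⧸ maximalIdeal R') (TensorProduct.mk S S' P 1)
      (rTensor (R' ⧸ maximalIdeal R') (i.restrictScalars R) d₁) = 0 := by
    rw [h1]; exact he₁
  have h3 : rTensor (R' ⧸ maximalIdeal R') (i.restrictScalars R) d₁ = 0 := by
    apply psi_injective R R' S' (R' ⧸ maximalIdeal R') (TensorProduct.mk S S' P 1)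
      (TensorProduct.isBaseChange S P S')
    rw [h2, map_zero]
  have h4 : d₁ = 0 := by
    have h5 : rTensor (R' ⧸ maximalIdeal R') r
        (rTensor (R' ⧸ maximalIdeal R') (i.restrictScalars R) d₁) = d₁ := by
      rw [← LinearMap.comp_apply, ← LinearMap.rTensor_comp]
      have : r ∘ₗ i.restrictScalars R = LinearMap.id := LinearMap.ext hr
      rw [this, LinearMap.rTensor_id, LinearMap.id_apply]
    rw [← h5, h3, map_zero]
  rw [h4, map_zero]

omit [IsLocalRing R] [Algebra.IsPushout R S R' S'] in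
lemma TTmap_exact (i : P₁ →ₗ[S] P) (p : P →ₗ[S] P₂) (hex : Function.Exact i p)
    (hp : Surjective p) :
    Function.Exact (TTmap (R' := R') (S' := S') i) (TTmap (R' := R') (S' := S') p) := by
  have h1 : Function.Exact (lTensor S' i) (lTensor S' p) := lTensor_exact S' hex hp
  have h2 : Surjective (lTensor S' p) := LinearMap.lTensor_surjective S' hp
  let F₁ : S' ⊗[S] P₁ →ₗ[R'] S' ⊗[S] P := (LinearMap.baseChange S' i).restrictScalars R'
  let F₂ : S' ⊗[S] P →ₗ[R'] S' ⊗[S] P₂ := (LinearMap.baseChange S' p).restrictScalars R'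
  have h3 : Function.Exact F₁ F₂ := h1
  have h4 : Surjective F₂ := h2
  have h5 := rTensor_exact (R' ⧸ maximalIdeal R') h3 h4
  have e1 : ∀ e, TTmap (R' := R') (S' := S') i e = rTensor (R' ⧸ maximalIdeal R') F₁ e := by
    intro e
    induction e using TT_induction with
    | zero => simp
    | add a b ha hb => rw [map_add, map_add, ha, hb]
    | tmul a p x => rfl
  have e2 : ∀ e, TTmap (R' := R') (S' := S') p e = rTensor (R' ⧸ maximalIdeal R') F₂ e := by
    intro e
    induction e using TT_induction with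
    | zero => simp
    | add a b ha hb => rw [map_add, map_add, ha, hb]
    | tmul a p x => rfl
  intro e
  rw [e2, h5 e]
  constructor
  · rintro ⟨y, hy⟩; exact ⟨y, by rw [e1, hy]⟩
  · rintro ⟨y, hy⟩; exact ⟨y, by rw [← e1, hy]⟩

omit [IsLocalRing R] [Algebra.IsPushout R S R' S'] in
/-- dévissage step -/
lemma inj_of_exact (c : S') (i : P₁ →ₗ[S] P) (p : P →ₗ[S] P₂)
    (hi : Injective (TTmap (R' := R') (S' := S') i))
    (hex : Function.Exact (TTmap (R' := R') (S' := S') i) (TTmap (R' := R') (S' := S') p))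
    (h₁ : ∀ e : TT S R' S' P₁, c • e = 0 → e = 0) (h₂ : ∀ e : TT S R' S' P₂, c • e = 0 → e = 0) :
    ∀ e : TT S R' S' P, c • e = 0 → e = 0 := by
  intro e he
  have h1 : TTmap (R' := R') (S' := S') p e = 0 := by
    apply h₂
    rw [← map_smul, he, map_zero]
  obtain ⟨e₁, rfl⟩ := (hex e).1 h1
  have h2 : e₁ = 0 := by
    apply h₁
    apply hi
    rw [map_smul, he, map_zero]
  rw [h2, map_zero]

omit [IsLocalRing R] [Algebra.IsPushout R S R' S'] in
lemma inj_of_equiv (c : S') (ε : P ≃ₗ[S] P₂) (h₂ : ∀ e : TT S R' S' P₂, c • e = 0 → e = 0) :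
    ∀ e : TT S R' S' P, c • e = 0 → e = 0 := by
  intro e he
  have h1 : TTmap (R' := R') (S' := S') (ε : P →ₗ[S] P₂) e = 0 := by
    apply h₂
    rw [← map_smul, he, map_zero]
  have h2 := TTmap_comp_apply (R' := R') (S' := S') (ε.symm : P₂ →ₗ[S] P) (ε : P →ₗ[S] P₂) e
  rw [h1, map_zero] at h2
  have h3 : (ε.symm : P₂ →ₗ[S] P) ∘ₗ (ε : P →ₗ[S] P₂) = LinearMap.id := by
    ext x; simp
  rw [h3, TTmap_id_apply] at h2
  exact h2.symm

end Exact

section FL
variable {R S R' S' : Type u} [CommRing R] [IsLocalRing R] [CommRing S] [CommRing R']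
  [IsLocalRing R'] [CommRing S']
  [Algebra R S] [Algebra R R'] [Algebra S S'] [Algebra R' S'] [Algebra R S']
  [IsScalarTower R S S'] [IsScalarTower R R' S'] [Algebra.IsPushout R S R' S']

theorem inj_of_isFiniteLength (q : Ideal S) [q.IsPrime] (c : S')
    (hκ : ∀ e : TT S R' S' (ResidueField (Localization.AtPrime q)), c • e = 0 → e = 0) :
    ∀ (P : Type u) [AddCommGroup P] [Module (Localization.AtPrime q) P],
      IsFiniteLength (Localization.AtPrime q) P →
      ∀ [Module S P] [IsScalarTower S (Localization.AtPrime q) P],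
      (∀ a ∈ maximalIdeal R, ∀ p : P, algebraMap R S a • p = 0) →
      ∀ e : TT S R' S' P, c • e = 0 → e = 0 := by
  intro P _ _ h
  induction h with
  | of_subsingleton => intro _ _ _ e _; exact TT_eq_zero_of_subsingleton e
  | @of_simple_quotient P _ _ N hs hN ih =>
    intro _ _ hm
    let i : ↥N →ₗ[S] P := N.subtype.restrictScalars S
    let p : P →ₗ[S] P ⧸ N := N.mkQ.restrictScalars S
    have hmN : ∀ a ∈ maximalIdeal R, ∀ x : ↥N, algebraMap R S a • x = 0 := by
      intro a ha x
      apply Subtype.ext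
      rw [Submodule.coe_smul_of_tower]
      exact hm a ha x.1
    have hmQ : ∀ a ∈ maximalIdeal R, ∀ x : P ⧸ N, algebraMap R S a • x = 0 := by
      intro a ha x
      obtain ⟨y, rfl⟩ := Submodule.Quotient.mk_surjective N x
      rw [← Submodule.Quotient.mk_smul, hm a ha y, Submodule.Quotient.mk_zero]
    have hi : Injective (TTmap (R' := R') (S' := S') i) :=
      TTmap_injective i Subtype.val_injective hmN hm
    have hex := TTmap_exact (R' := R') (S' := S') i p (LinearMap.exact_subtype_mkQ N)
      (Submodule.mkQ_surjective N)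
    have h₁ := ih hmN
    have h₂ : ∀ e : TT S R' S' (P ⧸ N), c • e = 0 → e = 0 := by
      obtain ⟨I, hI, ⟨eq⟩⟩ := isSimpleModule_iff_quot_maximal.mp hs
      have hIm : I = maximalIdeal _ := IsLocalRing.eq_maximalIdeal hI
      subst hIm
      exact inj_of_equiv c (eq.restrictScalars S) hκ
    exact inj_of_exact c i p hi hex h₁ h₂

end FL

end Groth.Agent.Lead.FlatPrim
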