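import Mathlib

set_option autoImplicit false
open Function IsLocalRing
universe u

namespace Groth.Agent.Lead.FlatUnivK

section Alg
variable {O B : Type u} [CommRing O] [IsLocalRing O] [IsNoetherianRing O] [CommRing B]
  [Algebra O B] [Module.Finite O B]

omit [IsNoetherianRing O] in
/-- every maximal ideal of a finite algebra over a local ring lies over the maximal ideal -/
lemma comap_maximal (𝔪 : Ideal B) [𝔪.IsMaximal] :
    𝔪.comap (algebraMap O B) = maximalIdeal O :=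
  IsLocalRing.eq_maximalIdeal (Ideal.isMaximal_comap_of_isIntegral_of_isMaximal 𝔪)

omit [IsNoetherianRing O] in
lemma finite_maximalSpectrum (O : Type u) [CommRing O] [IsLocalRing O] (B : Type u) [CommRing B]
    [Algebra O B] [Module.Finite O B] : Finite (MaximalSpectrum B) := by
  have h := Algebra.QuasiFinite.finite_primesOver (R := O) (S := B) (maximalIdeal O)
  haveI := h.to_subtype
  refine Finite.of_injective (β := (maximalIdeal O).primesOver B)
    (fun 𝔪 => ⟨𝔪.asIdeal, ⟨𝔪.isMaximal.isPrime, ⟨?_⟩⟩⟩) ?_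
  · haveI := 𝔪.isMaximal
    exact (comap_maximal (O := O) 𝔪.asIdeal).symm
  · intro 𝔪 𝔪' h
    apply MaximalSpectrum.ext
    exact congrArg Subtype.val h

/-- the quotient of a ring by a power of a maximal ideal is local -/
lemma isLocalRing_quot_pow {B : Type u} [CommRing B] (𝔪 : Ideal B) [h𝔪 : 𝔪.IsMaximal] (n : ℕ) :
    IsLocalRing (B ⧸ 𝔪 ^ (n + 1)) := by
  haveI : Nontrivial (B ⧸ 𝔪 ^ (n + 1)) := Ideal.Quotient.nontrivial_iff.2
    (ne_top_of_le_ne_top h𝔪.ne_top (Ideal.pow_le_self (Nat.succ_ne_zero _)))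
  apply IsLocalRing.of_isUnit_or_isUnit_one_sub_self
  intro a
  obtain ⟨x, rfl⟩ := Ideal.Quotient.mk_surjective a
  by_cases hx : x ∈ 𝔪
  · right
    have hnil : IsNilpotent (Ideal.Quotient.mk (𝔪 ^ (n + 1)) x) := by
      refine ⟨n + 1, ?_⟩
      rw [← map_pow, Ideal.Quotient.eq_zero_iff_mem]
      exact Ideal.pow_mem_pow hx _
    exact hnil.isUnit_one_sub
  · left
    obtain ⟨y, i, hi, hyi⟩ := h𝔪.exists_inv hx
    have hnil : IsNilpotent (Ideal.Quotient.mk (𝔪 ^ (n + 1)) i) := by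
      refine ⟨n + 1, ?_⟩
      rw [← map_pow, Ideal.Quotient.eq_zero_iff_mem]
      exact Ideal.pow_mem_pow hi _
    have h1 : Ideal.Quotient.mk (𝔪 ^ (n + 1)) y * Ideal.Quotient.mk (𝔪 ^ (n + 1)) x =
        1 - Ideal.Quotient.mk (𝔪 ^ (n + 1)) i := by
      rw [← map_mul, ← map_one (Ideal.Quotient.mk (𝔪 ^ (n + 1))), ← hyi, map_add]
      ring
    have h2 : IsUnit (Ideal.Quotient.mk (𝔪 ^ (n + 1)) y * Ideal.Quotient.mk (𝔪 ^ (n + 1)) x) := by
      rw [h1]; exact hnil.isUnit_one_sub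
    exact isUnit_of_mul_isUnit_right h2

omit [IsLocalRing O] [IsNoetherianRing O] [Algebra O B] [Module.Finite O B] in
lemma maximalIdeal_quot_pow_le (𝔪 : Ideal B) [h𝔪 : 𝔪.IsMaximal] (n : ℕ)
    [IsLocalRing (B ⧸ 𝔪 ^ (n + 1))] :
    maximalIdeal (B ⧸ 𝔪 ^ (n + 1)) ≤ 𝔪.map (Ideal.Quotient.mk (𝔪 ^ (n + 1))) := by
  intro a ha
  obtain ⟨x, rfl⟩ := Ideal.Quotient.mk_surjective a
  apply Ideal.mem_map_of_mem
  by_contra hx
  obtain ⟨y, i, hi, hyi⟩ := h𝔪.exists_inv hx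
  have hnil : IsNilpotent (Ideal.Quotient.mk (𝔪 ^ (n + 1)) i) := by
    refine ⟨n + 1, ?_⟩
    rw [← map_pow, Ideal.Quotient.eq_zero_iff_mem]
    exact Ideal.pow_mem_pow hi _
  have h1 : Ideal.Quotient.mk (𝔪 ^ (n + 1)) y * Ideal.Quotient.mk (𝔪 ^ (n + 1)) x =
      1 - Ideal.Quotient.mk (𝔪 ^ (n + 1)) i := by
    rw [← map_mul, ← map_one (Ideal.Quotient.mk (𝔪 ^ (n + 1))), ← hyi, map_add]
    ring
  have h2 : IsUnit (Ideal.Quotient.mk (𝔪 ^ (n + 1)) y * Ideal.Quotient.mk (𝔪 ^ (n + 1)) x) := by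
    rw [h1]; exact hnil.isUnit_one_sub
  exact (IsLocalRing.mem_maximalIdeal _).1 ha (isUnit_of_mul_isUnit_right h2)

omit [IsLocalRing O] [IsNoetherianRing O] [Algebra O B] [Module.Finite O B] in
lemma maximalIdeal_quot_pow_pow (𝔪 : Ideal B) [h𝔪 : 𝔪.IsMaximal] (n : ℕ)
    [IsLocalRing (B ⧸ 𝔪 ^ (n + 1))] :
    maximalIdeal (B ⧸ 𝔪 ^ (n + 1)) ^ (n + 1) = ⊥ := by
  rw [eq_bot_iff]
  calc maximalIdeal (B ⧸ 𝔪 ^ (n + 1)) ^ (n + 1)
      ≤ (𝔪.map (Ideal.Quotient.mk (𝔪 ^ (n + 1)))) ^ (n + 1) :=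
        Ideal.pow_right_mono (maximalIdeal_quot_pow_le 𝔪 n) _
    _ = (𝔪 ^ (n + 1)).map (Ideal.Quotient.mk (𝔪 ^ (n + 1))) := (Ideal.map_pow _ _ _).symm
    _ = ⊥ := Ideal.map_quotient_self _

/-- Artin–Rees: the `m`-adic topology of `O` is induced from `B` when `O → B` is injective -/
lemma exists_comap_map_pow_le (hinj : Injective (algebraMap O B)) (I : Ideal O) :
    ∃ c : ℕ, ∀ n : ℕ, ∀ a : O, algebraMap O B a ∈ (I ^ (n + c)).map (algebraMap O B) →
      a ∈ I ^ n := by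
  obtain ⟨c, hc⟩ := Ideal.exists_pow_inf_eq_pow_smul I
    (LinearMap.range (Algebra.linearMap O B))
  refine ⟨c, fun n a ha => ?_⟩
  have h1 : algebraMap O B a ∈ (I ^ (n + c) • ⊤ ⊓ LinearMap.range (Algebra.linearMap O B) :
      Submodule O B) := by
    refine ⟨?_, ⟨a, rfl⟩⟩
    rw [Ideal.smul_top_eq_map]
    exact ha
  rw [hc (n + c) (Nat.le_add_left _ _), Nat.add_sub_cancel] at h1
  have h2 : (I ^ n • (I ^ c • ⊤ ⊓ LinearMap.range (Algebra.linearMap O B)) : Submodule O B) ≤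
      I ^ n • LinearMap.range (Algebra.linearMap O B) :=
    Submodule.smul_mono le_rfl inf_le_right
  have h3 := h2 h1
  rw [LinearMap.range_eq_map, ← Submodule.map_smul''] at h3
  obtain ⟨b, hb, hba⟩ := h3
  have hb' : b ∈ I ^ n := by
    have : (I ^ n • (⊤ : Submodule O O)) = I ^ n := by
      rw [Ideal.smul_eq_mul, ← Ideal.one_eq_top, mul_one]
    rw [← this]; exact hb
  have : b = a := hinj hba
  rw [← this]; exact hb'

omit [IsLocalRing O] in
/-- a prime of `B` containing the extension of a power of a maximal ideal is maximal -/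
lemma isMaximal_of_map_pow_le (m : Ideal O) [m.IsMaximal] (N : ℕ) (P : Ideal B) [P.IsPrime]
    (hP : (m ^ N).map (algebraMap O B) ≤ P) : P.IsMaximal := by
  apply Ideal.isMaximal_of_isIntegral_of_isMaximal_comap (R := O) P
  have h1 : m ^ N ≤ P.comap (algebraMap O B) := Ideal.map_le_iff_le_comap.1 hP
  have h2 : m ≤ P.comap (algebraMap O B) := Ideal.IsPrime.le_of_pow_le h1
  have h3 : P.comap (algebraMap O B) ≠ ⊤ := Ideal.IsPrime.ne_top'
  rw [← (‹m.IsMaximal›).eq_of_le h3 h2]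
  infer_instance

/-- a power of the intersection of the maximal ideals lies in the extension of `m ^ N` -/
lemma exists_iInf_pow_le (N : ℕ) :
    ∃ n : ℕ, ⨅ 𝔪 : MaximalSpectrum B, 𝔪.asIdeal ^ (n + 1) ≤
      (maximalIdeal O ^ N).map (algebraMap O B) := by
  classical
  haveI : IsNoetherianRing B := IsNoetherianRing.of_finite O B
  haveI := finite_maximalSpectrum O B
  letI : Fintype (MaximalSpectrum B) := Fintype.ofFinite _
  set K := (maximalIdeal O ^ N).map (algebraMap O B) with hK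
  have hJK : (⨅ 𝔪 : MaximalSpectrum B, 𝔪.asIdeal) ≤ K.radical := by
    rw [Ideal.radical_eq_sInf]
    refine le_sInf ?_
    rintro P ⟨hKP, hPprime⟩
    haveI := hPprime
    have hmax : P.IsMaximal := isMaximal_of_map_pow_le (maximalIdeal O) N P hKP
    exact iInf_le (fun 𝔪 : MaximalSpectrum B => 𝔪.asIdeal) ⟨P, hmax⟩
  obtain ⟨n, hn⟩ := Ideal.exists_pow_le_of_le_radical_of_fg hJK (IsNoetherian.noetherian _)
  refine ⟨n, le_trans ?_ hn⟩
  have hcop : ((Finset.univ : Finset (MaximalSpectrum B)) : Set (MaximalSpectrum B)).Pairwise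
      (IsCoprime on fun 𝔪 : MaximalSpectrum B => 𝔪.asIdeal ^ (n + 1)) := by
    intro 𝔪 _ 𝔪' _ hne
    apply IsCoprime.pow
    rw [Ideal.isCoprime_iff_sup_eq]
    exact Ideal.IsMaximal.coprime_of_ne 𝔪.isMaximal 𝔪'.isMaximal
      (fun h => hne (MaximalSpectrum.ext h))
  have hcop1 : ((Finset.univ : Finset (MaximalSpectrum B)) : Set (MaximalSpectrum B)).Pairwise
      (IsCoprime on fun 𝔪 : MaximalSpectrum B => 𝔪.asIdeal) := by
    intro 𝔪 _ 𝔪' _ hne
    rw [Function.onFun, Ideal.isCoprime_iff_sup_eq]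
    exact Ideal.IsMaximal.coprime_of_ne 𝔪.isMaximal 𝔪'.isMaximal
      (fun h => hne (MaximalSpectrum.ext h))
  have h1 := Ideal.prod_eq_iInf_of_pairwise_isCoprime hcop
  have h2 := Ideal.prod_eq_iInf_of_pairwise_isCoprime hcop1
  simp only [Finset.mem_univ, iInf_pos] at h1 h2
  rw [← h1, ← h2, Finset.prod_pow]
  exact Ideal.pow_le_pow_right (Nat.le_succ n)

/-- the topology statement needed for the family of Artinian quotients `B ⧸ 𝔪 ^ n` -/
theorem exists_pow_forall_mem (hinj : Injective (algebraMap O B)) (N : ℕ) :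
    ∃ n : ℕ, ∀ a : O, (∀ 𝔪 : MaximalSpectrum B, algebraMap O B a ∈ 𝔪.asIdeal ^ (n + 1)) →
      a ∈ maximalIdeal O ^ N := by
  obtain ⟨c, hc⟩ := exists_comap_map_pow_le hinj (maximalIdeal O)
  obtain ⟨n, hn⟩ := exists_iInf_pow_le (O := O) (B := B) (N + c)
  refine ⟨n, fun a ha => hc N a (hn ?_)⟩
  rw [Ideal.mem_iInf]
  exact ha

end Alg

end Groth.Agent.Lead.FlatUnivK
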