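import Mathlib
import Groth.Agent.Lead.FlatUnivD
import Groth.Agent.Lead.FlatUnivK
import Groth.Agent.Lead.FlatPrimB

set_option autoImplicit false
set_option linter.style.haveILetI false
open TensorProduct Function LinearMap IsLocalRing
universe u

namespace Groth.Agent.Lead.FlatPrim

open Groth.Agent.Helper2.FlatCL4

lemma isFiniteLength_quot_pow {B : Type u} [CommRing B] [IsLocalRing B] [IsNoetherianRing B]
    {W : Type u} [AddCommGroup W] [Module B W] [Module.Finite B W] (n : ℕ) :
    IsFiniteLength B (W ⧸ ((maximalIdeal B) ^ (n + 1) • (⊤ : Submodule B W))) := by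
  rw [isFiniteLength_iff_isNoetherian_isArtinian]
  refine ⟨inferInstance, ?_⟩
  haveI : IsLocalRing (B ⧸ maximalIdeal B ^ (n + 1)) :=
    FlatUnivK.isLocalRing_quot_pow (maximalIdeal B) n
  haveI : IsArtinianRing (B ⧸ maximalIdeal B ^ (n + 1)) :=
    (isArtinianRing_iff_isNilpotent_maximalIdeal _).2
      ⟨n + 1, by rw [FlatUnivK.maximalIdeal_quot_pow_pow (maximalIdeal B) n]; rfl⟩
  have hT : Module.IsTorsionBySet B (W ⧸ (maximalIdeal B ^ (n + 1) • (⊤ : Submodule B W)))
      ((maximalIdeal B ^ (n + 1) : Ideal B) : Set B) := by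
    intro x a
    obtain ⟨y, rfl⟩ := Submodule.Quotient.mk_surjective _ x
    rw [← Submodule.Quotient.mk_smul, Submodule.Quotient.mk_eq_zero]
    exact Submodule.smul_mem_smul a.2 Submodule.mem_top
  letI := hT.module
  haveI : IsScalarTower B (B ⧸ maximalIdeal B ^ (n + 1))
      (W ⧸ (maximalIdeal B ^ (n + 1) • (⊤ : Submodule B W))) := hT.isScalarTower
  haveI : Module.Finite (B ⧸ maximalIdeal B ^ (n + 1))
      (W ⧸ (maximalIdeal B ^ (n + 1) • (⊤ : Submodule B W))) :=
    Module.Finite.of_restrictScalars_finite B _ _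
  exact isArtinian_of_surjective_algebraMap (R := B ⧸ maximalIdeal B ^ (n + 1)) (S := B)
    Ideal.Quotient.mk_surjective

section Key
variable {R S R' S' : Type u} [CommRing R] [IsLocalRing R]
  [CommRing S] [IsNoetherianRing S] [CommRing R'] [IsLocalRing R'] [CommRing S']
  [Algebra R S] [Algebra R R'] [Algebra S S'] [Algebra R' S']
  [Algebra R S'] [IsScalarTower R S S'] [IsScalarTower R R' S'] [Algebra.IsPushout R S R' S']
  {M M' : Type u} [AddCommGroup M] [Module S M] [Module R M] [IsScalarTower R S M]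
  [Module.Finite S M]
  [AddCommGroup M'] [Module S' M'] [Module R' M'] [IsScalarTower R' S' M'] [Module S M']
  [IsScalarTower S S' M']

theorem exists_smul_eq_zero_of_inj (f : M →ₗ[S] M') (hf : IsBaseChange S' f) (q : Ideal S)
    [q.IsPrime] (c : S')
    (hκ : ∀ e : TT S R' S' (ResidueField (Localization.AtPrime q)), c • e = 0 → e = 0)
    (d : M ⊗[R] (R' ⧸ maximalIdeal R'))
    (hc : c • psi R R' S' (R' ⧸ maximalIdeal R') f d = 0)
    (ρ : (R' ⧸ maximalIdeal R') →ₗ[R] (R ⧸ maximalIdeal R)) :
    ∃ s : q.primeCompl, s • lTensor M ρ d = 0 := by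
  let V := M ⊗[R] (R ⧸ maximalIdeal R)
  let Sq := Localization.AtPrime q
  let Vq := LocalizedModule q.primeCompl V
  let ℓ : V →ₗ[S] Vq := LocalizedModule.mkLinearMap q.primeCompl V
  obtain ⟨z, hz⟩ : ∃ z : V, z = lTensor M ρ d := ⟨_, rfl⟩
  rw [← hz, ← IsLocalizedModule.eq_zero_iff q.primeCompl ℓ]
  have hktors : ∀ a ∈ maximalIdeal R, ∀ x : R ⧸ maximalIdeal R, a • x = 0 := by
    intro a ha x
    rw [Algebra.smul_def, Ideal.Quotient.algebraMap_eq, Ideal.Quotient.eq_zero_iff_mem.2 ha,
      zero_mul]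
  have hVm : ∀ a ∈ maximalIdeal R, ∀ v : V, algebraMap R S a • v = 0 := by
    intro a ha v
    rw [algebraMap_smul]
    induction v using TensorProduct.induction_on with
    | zero => simp
    | add x y hx hy => rw [smul_add, hx, hy, add_zero]
    | tmul m x => rw [← TensorProduct.tmul_smul, hktors a ha, tmul_zero]
  have hmem : ∀ n : ℕ, ℓ z ∈ (maximalIdeal Sq) ^ (n + 1) • (⊤ : Submodule Sq Vq) := by
    intro n
    let Kn : Submodule Sq Vq := (maximalIdeal Sq) ^ (n + 1) • ⊤
    let Pn := Vq ⧸ Kn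
    have hFL : IsFiniteLength Sq Pn := isFiniteLength_quot_pow n
    have hPm : ∀ a ∈ maximalIdeal R, ∀ x : Pn, algebraMap R S a • x = 0 := by
      intro a ha x
      obtain ⟨y, rfl⟩ := Submodule.Quotient.mk_surjective _ x
      rw [← Submodule.Quotient.mk_smul]
      induction y using LocalizedModule.induction_on with
      | h v s =>
        rw [LocalizedModule.smul'_mk, hVm a ha v, LocalizedModule.zero_mk,
          Submodule.Quotient.mk_zero]
    have hD := inj_of_isFiniteLength (R := R) (R' := R') (S' := S') q c hκ Pn hFL hPm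
    let g₀ : M →ₗ[S] V :=
      { toFun := fun m => m ⊗ₜ 1
        map_add' := fun a b => add_tmul a b 1
        map_smul' := fun s m => (TensorProduct.smul_tmul' s m 1).symm }
    let gn : V →ₗ[S] Pn := (Kn.mkQ.restrictScalars S) ∘ₗ ℓ
    let hn : M →ₗ[S] Pn := gn ∘ₗ g₀
    let h' : M' →ₗ[S'] S' ⊗[S] Pn := hf.lift ((TensorProduct.mk S S' Pn 1) ∘ₗ hn)
    have hh : ∀ m, h' (f m) = TensorProduct.mk S S' Pn 1 (hn m) := fun m => hf.lift_eq _ m
    have h1 := psi_map (R := R) (R' := R') (S' := S') (R' ⧸ maximalIdeal R') f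
      (TensorProduct.mk S S' Pn 1) hn h' hh d
    have h2 : AlgebraTensorModule.map h'
        (LinearMap.id : (R' ⧸ maximalIdeal R') →ₗ[R'] (R' ⧸ maximalIdeal R'))
        (psi R R' S' (R' ⧸ maximalIdeal R') f d) = 0 := by
      apply hD
      rw [← map_smul, hc, map_zero]
    rw [h2] at h1
    have h3 : rTensor (R' ⧸ maximalIdeal R') (hn.restrictScalars R) d = 0 := by
      apply psi_injective R R' S' (R' ⧸ maximalIdeal R') (TensorProduct.mk S S' Pn 1)
        (TensorProduct.isBaseChange S Pn S')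
      rw [h1, map_zero]
    have h4 : rTensor (R ⧸ maximalIdeal R) (hn.restrictScalars R) z = 0 := by
      rw [hz, ← LinearMap.comp_apply, LinearMap.rTensor_comp_lTensor,
        ← LinearMap.lTensor_comp_rTensor, LinearMap.comp_apply, h3, map_zero]
    have h5 : ∀ z' : V, TensorProduct.tensorQuotEquivQuotSMul Pn (maximalIdeal R)
        (rTensor (R ⧸ maximalIdeal R) (hn.restrictScalars R) z') =
        Submodule.Quotient.mk (gn z') := by
      intro z'
      induction z' using TensorProduct.induction_on with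
      | zero => simp
      | add a b ha hb => rw [map_add, map_add, map_add, ha, hb, Submodule.Quotient.mk_add]
      | tmul m x =>
        obtain ⟨r, rfl⟩ := Ideal.Quotient.mk_surjective x
        rw [rTensor_tmul, TensorProduct.tensorQuotEquivQuotSMul_tmul_mk]
        congr 1
        have hr : (Ideal.Quotient.mk (maximalIdeal R) r : R ⧸ maximalIdeal R) =
            r • (1 : R ⧸ maximalIdeal R) := by
          rw [Algebra.smul_def, mul_one, Ideal.Quotient.algebraMap_eq]
        have hmr : m ⊗ₜ[R] (Ideal.Quotient.mk (maximalIdeal R) r) =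
            algebraMap R S r • (m ⊗ₜ[R] (1 : R ⧸ maximalIdeal R)) := by
          rw [hr, TensorProduct.tmul_smul, algebraMap_smul]
        rw [hmr, map_smul, algebraMap_smul]
        rfl
    have h6 : gn z ∈ (maximalIdeal R • ⊤ : Submodule R Pn) := by
      rw [← Submodule.Quotient.mk_eq_zero, ← h5, h4, map_zero]
    have h7 : (maximalIdeal R • ⊤ : Submodule R Pn) = ⊥ := by
      rw [eq_bot_iff, Submodule.smul_le]
      intro a ha x _
      rw [Submodule.mem_bot, ← algebraMap_smul S a x]
      exact hPm a ha x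
    rw [h7, Submodule.mem_bot] at h6
    exact (Submodule.Quotient.mk_eq_zero Kn).1 h6
  have hbot := Ideal.iInf_pow_smul_eq_bot_of_isLocalRing (M := Vq) (maximalIdeal Sq)
    (maximalIdeal.isMaximal Sq).ne_top
  have hfin : ℓ z ∈ (⨅ i : ℕ, (maximalIdeal Sq) ^ i • (⊤ : Submodule Sq Vq)) := by
    rw [Submodule.mem_iInf]
    intro i
    exact Submodule.smul_mono (Ideal.pow_le_pow_right (Nat.le_succ i)) le_rfl (hmem i)
  rw [hbot] at hfin
  exact hfin

end Key

end Groth.Agent.Lead.FlatPrim
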