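import Mathlib
import Groth.Agent.Lead.FlatPrimB

set_option autoImplicit false
set_option linter.style.haveILetI false
open TensorProduct Function LinearMap IsLocalRing
universe u

namespace Groth.Agent.Lead.FlatPrim

section R
variable {R S R' S' : Type u} [CommRing R] [IsLocalRing R] [CommRing S] [CommRing R']
  [IsLocalRing R'] [CommRing S']
  [Algebra R S] [Algebra R R'] [Algebra S S'] [Algebra R' S']
  [Algebra R S'] [IsScalarTower R S S'] [IsScalarTower R R' S'] [Algebra.IsPushout R S R' S']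

/-- the comparison ring isomorphism -/
noncomputable def Phi (q : Ideal S) [q.IsPrime] :
    TT S R' S' q.ResidueField ≃+* (R' ⧸ maximalIdeal R') ⊗[R] q.ResidueField :=
  haveI : Algebra.IsPushout R R' S S' := Algebra.IsPushout.symm inferInstance
  let e1 : S' ⊗[S] q.ResidueField ≃ₐ[R'] R' ⊗[R] q.ResidueField :=
    Algebra.IsPushout.cancelBaseChangeAlg R R' S S' q.ResidueField
  let e2 : TT S R' S' q.ResidueField ≃ₐ[R'] (R' ⊗[R] q.ResidueField) ⊗[R'] (R' ⧸ maximalIdeal R') :=
    Algebra.TensorProduct.congr e1 AlgEquiv.refl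
  let e3 : (R' ⊗[R] q.ResidueField) ⊗[R'] (R' ⧸ maximalIdeal R') ≃ₐ[R']
      (R' ⧸ maximalIdeal R') ⊗[R'] (R' ⊗[R] q.ResidueField) :=
    Algebra.TensorProduct.comm R' _ _
  let e4 : (R' ⧸ maximalIdeal R') ⊗[R'] (R' ⊗[R] q.ResidueField) ≃ₐ[R']
      (R' ⧸ maximalIdeal R') ⊗[R] q.ResidueField :=
    Algebra.TensorProduct.cancelBaseChange R R' R' (R' ⧸ maximalIdeal R') q.ResidueField
  (e2.trans (e3.trans e4)).toRingEquiv

omit [IsLocalRing R] [Algebra.IsPushout R S R' S'] in
lemma smul_eq_theta_mul (q : Ideal S) [q.IsPrime] (c : S') (e : TT S R' S' q.ResidueField) :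
    c • e = ((c ⊗ₜ[S] (1 : q.ResidueField)) ⊗ₜ[R'] (1 : R' ⧸ maximalIdeal R')) * e := by
  induction e using TT_induction with
  | zero => simp
  | add a b ha hb => rw [smul_add, mul_add, ha, hb]
  | tmul a p x =>
    rw [Algebra.TensorProduct.tmul_mul_tmul, Algebra.TensorProduct.tmul_mul_tmul, one_mul, one_mul,
      TensorProduct.smul_tmul', TensorProduct.smul_tmul', _root_.smul_eq_mul]

omit [IsLocalRing R] in
theorem hbase_of_zd (q : Ideal S) [q.IsPrime] (q' : Ideal S') [q'.IsPrime]
    (hq1 : q'.comap (algebraMap S S') = q)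
    (hq2 : q'.comap (algebraMap R' S') = maximalIdeal R')
    (hzd : ∀ z w : (R' ⧸ maximalIdeal R') ⊗[R] q.ResidueField, z * w = 0 → w ≠ 0 →
      IsNilpotent z) :
    ∀ c : S', c ∉ q' →
      ∀ e : TT S R' S' (ResidueField (Localization.AtPrime q)), c • e = 0 → e = 0 := by
  intro c hc e he
  by_contra hne
  rw [smul_eq_theta_mul] at he
  -- nilpotency through the ring isomorphism
  have h1 : IsNilpotent (Phi (R := R) q ((c ⊗ₜ[S] (1 : q.ResidueField)) ⊗ₜ[R']
      (1 : R' ⧸ maximalIdeal R'))) := by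
    apply hzd _ (Phi (R := R) q e)
    · rw [← map_mul, he, map_zero]
    · intro h0
      exact hne ((Phi (R := R) q).injective (by rw [h0, map_zero]))
  have h2 : IsNilpotent ((c ⊗ₜ[S] (1 : q.ResidueField)) ⊗ₜ[R']
      (1 : R' ⧸ maximalIdeal R') : TT S R' S' q.ResidueField) := by
    obtain ⟨n, hn⟩ := h1
    refine ⟨n, (Phi (R := R) q).injective ?_⟩
    rw [map_pow, hn, map_zero]
  -- the character to the residue field of q'
  have hker : ∀ s : S, algebraMap S q'.ResidueField s = 0 ↔ s ∈ q := by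
    intro s
    rw [IsScalarTower.algebraMap_apply S S' q'.ResidueField, Ideal.algebraMap_residueField_eq_zero, ← hq1,
      Ideal.mem_comap]
  let f₂ : q.ResidueField →ₐ[S] q'.ResidueField := Ideal.ResidueField.liftₐ q (Algebra.ofId S q'.ResidueField)
    (fun s hs => (hker s).2 hs)
    (fun s hs => by
      rw [Submonoid.mem_comap]
      exact (isUnit_iff_ne_zero.2 (fun h0 => hs ((hker s).1 h0))))
  let ffS : S' ⊗[S] q.ResidueField →ₐ[S] q'.ResidueField :=
    Algebra.TensorProduct.lift (IsScalarTower.toAlgHom S S' q'.ResidueField) f₂ (fun _ _ => Commute.all _ _)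
  let ff : S' ⊗[S] q.ResidueField →ₐ[R'] q'.ResidueField :=
    { ffS.toRingHom with
      commutes' := fun r' => by
        change ffS (algebraMap R' (S' ⊗[S] q.ResidueField) r') = _
        rw [Algebra.TensorProduct.algebraMap_apply, Algebra.TensorProduct.lift_tmul, map_one,
          mul_one, IsScalarTower.toAlgHom_apply, ← IsScalarTower.algebraMap_apply] }
  have hff : ∀ a : S', ff (a ⊗ₜ[S] (1 : q.ResidueField)) = algebraMap S' q'.ResidueField a := by
    intro a
    change ffS (a ⊗ₜ[S] (1 : q.ResidueField)) = _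
    rw [Algebra.TensorProduct.lift_tmul, map_one, mul_one, IsScalarTower.toAlgHom_apply]
  let g : (R' ⧸ maximalIdeal R') →ₐ[R'] q'.ResidueField := Ideal.Quotient.liftₐ (maximalIdeal R') (Algebra.ofId R' q'.ResidueField)
    (fun a ha => by
      rw [Algebra.ofId_apply, IsScalarTower.algebraMap_apply R' S' q'.ResidueField,
        Ideal.algebraMap_residueField_eq_zero, ← Ideal.mem_comap, hq2]
      exact ha)
  let χ : TT S R' S' q.ResidueField →ₐ[R'] q'.ResidueField :=
    Algebra.TensorProduct.lift ff g (fun _ _ => Commute.all _ _)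
  have h3 : χ ((c ⊗ₜ[S] (1 : q.ResidueField)) ⊗ₜ[R'] (1 : R' ⧸ maximalIdeal R')) =
      algebraMap S' q'.ResidueField c := by
    change Algebra.TensorProduct.lift ff g _ _ = _
    rw [Algebra.TensorProduct.lift_tmul, map_one, mul_one, hff]
  have h4 : IsNilpotent (algebraMap S' q'.ResidueField c) := by
    rw [← h3]
    obtain ⟨n, hn⟩ := h2
    refine ⟨n, ?_⟩
    have hpow := map_pow χ.toRingHom ((c ⊗ₜ[S] (1 : q.ResidueField)) ⊗ₜ[R']
      (1 : R' ⧸ maximalIdeal R')) n
    rw [hn, map_zero] at hpow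
    exact hpow.symm
  have h5 : algebraMap S' q'.ResidueField c = 0 := h4.eq_zero
  exact hc (Ideal.algebraMap_residueField_eq_zero.1 h5)

end R

end Groth.Agent.Lead.FlatPrim
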