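import Mathlib
import Groth.Agent.Lead.FlatPrimE
import Groth.Agent.Helper8.PrimZD

set_option autoImplicit false
set_option linter.style.haveILetI false
open TensorProduct Function LinearMap IsLocalRing
universe u

namespace Groth.Agent.Lead.FlatPrim

section Bridge
variable {R S R' : Type u} [CommRing R] [IsLocalRing R] [CommRing S] [CommRing R']
  [IsLocalRing R'] [Algebra R S] [Algebra R R'] [IsLocalHom (algebraMap R R')]

theorem zd_of_primary (q : Ideal S) [q.IsPrime]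
    {k₀ L₀ : Type u} [Field k₀] [Field L₀] [Algebra R k₀] [Algebra k₀ L₀] [Algebra R L₀]
    [IsScalarTower R k₀ L₀] (hk₀ : Surjective (algebraMap R k₀))
    (ε : q.ResidueField ≃ₐ[R] L₀)
    (hprim : ∀ a : L₀, IsSeparable k₀ a → a ∈ Set.range (algebraMap k₀ L₀)) :
    ∀ z w : (R' ⧸ maximalIdeal R') ⊗[R] q.ResidueField, z * w = 0 → w ≠ 0 → IsNilpotent z := by
  letI : Field (R' ⧸ maximalIdeal R') := Ideal.Quotient.field (maximalIdeal R')
  -- the induced map of residue fields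
  have hkerle : RingHom.ker (algebraMap R k₀) ≤ RingHom.ker (algebraMap R (R' ⧸ maximalIdeal R')) := by
    haveI : (RingHom.ker (algebraMap R k₀)).IsMaximal := RingHom.ker_isMaximal_of_surjective _ hk₀
    rw [IsLocalRing.eq_maximalIdeal (I := RingHom.ker (algebraMap R k₀)) inferInstance]
    intro a ha
    rw [RingHom.mem_ker, IsScalarTower.algebraMap_apply R R' (R' ⧸ maximalIdeal R'),
      Ideal.Quotient.algebraMap_eq, Ideal.Quotient.eq_zero_iff_mem]
    have hloc : (maximalIdeal R).map (algebraMap R R') ≤ maximalIdeal R' :=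
      ((IsLocalRing.local_hom_TFAE (algebraMap R R')).out 0 2).1 ‹IsLocalHom (algebraMap R R')›
    exact hloc (Ideal.mem_map_of_mem _ ha)
  let φ : k₀ →+* (R' ⧸ maximalIdeal R') :=
    (algebraMap R k₀).liftOfSurjective hk₀ ⟨algebraMap R (R' ⧸ maximalIdeal R'), hkerle⟩
  have hφ : ∀ r : R, φ (algebraMap R k₀ r) = algebraMap R (R' ⧸ maximalIdeal R') r := fun r =>
    (algebraMap R k₀).liftOfRightInverse_comp_apply _ _ ⟨algebraMap R (R' ⧸ maximalIdeal R'), hkerle⟩ r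
  letI algk : Algebra k₀ (R' ⧸ maximalIdeal R') := φ.toAlgebra
  haveI : IsScalarTower R k₀ (R' ⧸ maximalIdeal R') :=
    IsScalarTower.of_algebraMap_eq fun r => (hφ r).symm
  haveI c1 : TensorProduct.CompatibleSMul R k₀ (R' ⧸ maximalIdeal R') L₀ :=
    TensorProduct.CompatibleSMul.of_algebraMap_surjective _ _ hk₀
  let Ψ₁ : (R' ⧸ maximalIdeal R') ⊗[R] q.ResidueField ≃ₐ[R] (R' ⧸ maximalIdeal R') ⊗[R] L₀ :=
    Algebra.TensorProduct.congr AlgEquiv.refl ε
  let Ψ₂ : (R' ⧸ maximalIdeal R') ⊗[k₀] L₀ ≃ₐ[R] (R' ⧸ maximalIdeal R') ⊗[R] L₀ :=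
    Algebra.TensorProduct.equivOfCompatibleSMul R k₀ R (R' ⧸ maximalIdeal R') L₀
  let Ψ : (R' ⧸ maximalIdeal R') ⊗[R] q.ResidueField ≃+* (R' ⧸ maximalIdeal R') ⊗[k₀] L₀ :=
    Ψ₁.toRingEquiv.trans Ψ₂.symm.toRingEquiv
  intro z w hzw hw
  have h1 : IsNilpotent (Ψ z) := by
    apply Groth.Agent.Helper8.PrimZD.isNilpotent_of_mul_eq_zero hprim (Ψ z) (Ψ w)
    · rw [← map_mul, hzw, map_zero]
    · intro h0
      exact hw (Ψ.injective (by rw [h0, map_zero]))
  obtain ⟨n, hn⟩ := h1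
  refine ⟨n, Ψ.injective ?_⟩
  rw [map_pow, hn, map_zero]

end Bridge

end Groth.Agent.Lead.FlatPrim
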