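import Mathlib
import Groth.Prelude
import Groth.Agent.Lead.FlatPrimD
import Groth.Agent.Lead.FlatPrimF
import Groth.Agent.Lead.FlatUnivF

set_option autoImplicit false
set_option linter.style.haveILetI false
open TensorProduct Function LinearMap IsLocalRing CategoryTheory CategoryTheory.Limits AlgebraicGeometry
universe u

namespace Groth.Agent.Lead.FlatPrim

section Dict
variable {X : Scheme.{u}} {W : X.Opens} (hW : IsAffineOpen W) (x : X) (hxW : x ∈ W)

/-- residue field of the prime ideal of a point of an affine open vs the residue field of the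
stalk at that point -/
noncomputable def resIso' :
    (hW.primeIdealOf ⟨x, hxW⟩).asIdeal.ResidueField ≃+*
      IsLocalRing.ResidueField (X.presheaf.stalk x) :=
  letI := TopCat.Presheaf.algebra_section_stalk X.presheaf (⟨x, hxW⟩ : W)
  haveI := hW.isLocalization_stalk ⟨x, hxW⟩
  IsLocalRing.ResidueField.mapEquiv
    (IsLocalization.algEquiv (hW.primeIdealOf ⟨x, hxW⟩).asIdeal.primeCompl
      (Localization.AtPrime (hW.primeIdealOf ⟨x, hxW⟩).asIdeal)
      (X.presheaf.stalk x)).toRingEquiv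

lemma resIso'_algebraMap (s : Γ(X, W)) :
    resIso' hW x hxW (algebraMap Γ(X, W) _ s) =
      IsLocalRing.residue _ (X.presheaf.germ W x hxW s) := by
  letI := TopCat.Presheaf.algebra_section_stalk X.presheaf (⟨x, hxW⟩ : W)
  haveI := hW.isLocalization_stalk ⟨x, hxW⟩
  rw [IsScalarTower.algebraMap_apply Γ(X, W)
    (Localization.AtPrime (hW.primeIdealOf ⟨x, hxW⟩).asIdeal) _,
    IsLocalRing.ResidueField.algebraMap_eq]
  unfold resIso'
  rw [IsLocalRing.ResidueField.mapEquiv_apply, IsLocalRing.ResidueField.map_residue]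
  congr 1
  exact (IsLocalization.algEquiv (hW.primeIdealOf ⟨x, hxW⟩).asIdeal.primeCompl
      (Localization.AtPrime (hW.primeIdealOf ⟨x, hxW⟩).asIdeal)
      (X.presheaf.stalk x)).commutes s

/-- residue field of the prime ideal of a point of an affine open vs the residue field of the
scheme at that point -/
noncomputable def resIso :
    (hW.primeIdealOf ⟨x, hxW⟩).asIdeal.ResidueField ≃+* X.residueField x :=
  resIso' hW x hxW

lemma resIso_algebraMap (s : Γ(X, W)) :
    resIso hW x hxW (algebraMap Γ(X, W) _ s) = X.evaluation W x hxW s :=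
  resIso'_algebraMap hW x hxW s

end Dict

section Surj

lemma evaluation_surjective_of_isMaximal {A : Type u} [CommRing A] (y : Spec (CommRingCat.of A))
    (hy : y.asIdeal.IsMaximal) :
    Function.Surjective ((Spec (CommRingCat.of A)).evaluation ⊤ y trivial).hom := by
  intro l
  obtain ⟨a, ha⟩ := Ideal.algebraMap_residueField_surjective y.asIdeal
    ((Scheme.Spec.residueFieldIso (CommRingCat.of A) y).hom l)
  refine ⟨(Scheme.ΓSpecIso (CommRingCat.of A)).inv a, ?_⟩
  have h := Scheme.Spec.algebraMap_residueFieldIso_inv (CommRingCat.of A) y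
  have h2 := congr($(h).hom a)
  calc ((Spec (CommRingCat.of A)).evaluation ⊤ y trivial).hom
        ((Scheme.ΓSpecIso (CommRingCat.of A)).inv a)
      = ((Scheme.ΓSpecIso (CommRingCat.of A)).inv ≫
          (Spec (CommRingCat.of A)).presheaf.germ ⊤ y trivial ≫
          (Spec (CommRingCat.of A)).residue y).hom a := rfl
    _ = (CommRingCat.ofHom (algebraMap (CommRingCat.of A) y.asIdeal.ResidueField) ≫
          (Scheme.Spec.residueFieldIso (CommRingCat.of A) y).inv).hom a := h2.symm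
    _ = (Scheme.Spec.residueFieldIso (CommRingCat.of A) y).inv.hom
          (algebraMap A y.asIdeal.ResidueField a) := rfl
    _ = l := by
      rw [ha]
      exact congr($((Scheme.Spec.residueFieldIso (CommRingCat.of A) y).hom_inv_id).hom l)

end Surj

open Groth.Agent.Helper2.AdicFlat Groth.Agent.Helper2.FlatCL1 Groth.Agent.Helper2.FlatCL2
open Groth.Agent.Lead.FlatUnivD Groth.Agent.Lead.FlatUnivE Groth.Agent.Lead.FlatUnivF

open CategoryTheory.Limits in
theorem s4899 {A : Type u} [CommRing A]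
    [IsArtinianRing A] [IsLocalRing A] {X : Scheme.{u}} (f : X ⟶ Spec (CommRingCat.of A))
    [LocallyOfFiniteType f] (F : X.Modules) (hF : Coh.IsCoh F) (x : X)
    {ι : Type u} (A' : ι → Type u) [∀ i, CommRing (A' i)] [∀ i, IsLocalRing (A' i)] (u : ∀ i, A →+* A' i)
    (hu : ∀ a : A, (∀ i, u i a = 0) → a = 0)
    (hprim : letI := (f.residueFieldMap x).hom.toAlgebra
      ∀ a : ↑(X.residueField x), IsSeparable ↑((Spec (CommRingCat.of A)).residueField (f x)) a →
        a ∈ (f.residueFieldMap x).hom.range)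
    (hflat : ∀ i : ι, ∃ x' : ↥(pullback f (Spec.map (CommRingCat.ofHom (u i)))),
      pullback.fst f (Spec.map (CommRingCat.ofHom (u i))) x' = x ∧
      pullback.snd f (Spec.map (CommRingCat.ofHom (u i))) x' = IsLocalRing.closedPoint (A' i) ∧
      FlatMod.IsFlatOverAt (pullback.snd f (Spec.map (CommRingCat.ofHom (u i))))
        ((Scheme.Modules.pullback (pullback.fst f (Spec.map (CommRingCat.ofHom (u i))))).obj F) x') :
    FlatMod.IsFlatOverAt f F x := by
  haveI : F.IsQuasicoherent := hF.1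
  obtain ⟨W, hW, hxW⟩ := exists_affine_mem x
  have hV := isAffineOpen_top (Spec (CommRingCat.of A))
  have e : W ≤ f ⁻¹ᵁ ⊤ := le_top
  rw [Groth.Agent.Helper2.FlatLocusMod.isFlatOverAt_iff_localized f F hV hW e x hxW]
  letI alg : Algebra Γ(Spec (CommRingCat.of A), ⊤) Γ(X, W) := (f.appLE ⊤ W e).hom.toAlgebra
  letI modR : Module Γ(Spec (CommRingCat.of A), ⊤) Γ(F, W) := Module.compHom _ (f.appLE ⊤ W e).hom
  haveI : IsScalarTower Γ(Spec (CommRingCat.of A), ⊤) Γ(X, W) Γ(F, W) :=
    IsScalarTower.of_algebraMap_smul fun r m => rfl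
  let eR : Γ(Spec (CommRingCat.of A), ⊤) ≃+* A :=
    (Scheme.ΓSpecIso (CommRingCat.of A)).commRingCatIsoToRingEquiv
  haveI : IsLocalRing Γ(Spec (CommRingCat.of A), ⊤) := eR.symm.isLocalRing
  haveI : IsArtinianRing Γ(Spec (CommRingCat.of A), ⊤) := eR.symm.isArtinianRing
  haveI : IsNoetherianRing Γ(Spec (CommRingCat.of A), ⊤) := inferInstance
  haveI : Algebra.FiniteType Γ(Spec (CommRingCat.of A), ⊤) Γ(X, W) :=
    LocallyOfFiniteType.finiteType_appLE f hV hW e
  haveI : IsNoetherianRing Γ(X, W) :=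
    Algebra.FiniteType.isNoetherianRing Γ(Spec (CommRingCat.of A), ⊤) Γ(X, W)
  haveI : Module.Finite Γ(X, W) Γ(F, W) :=
    Groth.Agent.Helper4.SecDict.finite_sections hW F hF.1 hF.2
  apply flat_of_descent
  intro I hIm hIne hI
  obtain ⟨a, haI, ha0⟩ := Submodule.exists_mem_ne_zero_of_ne_bot hIne
  have hex : ∃ i, u i (eR a) ≠ 0 := by
    by_contra hcon
    push Not at hcon
    exact ha0 (eR.injective (by rw [hu _ hcon, map_zero]))
  obtain ⟨i, hi⟩ := hex
  obtain ⟨pY, hpY⟩ : ∃ pY, pY = Spec.map (CommRingCat.ofHom (u i)) := ⟨_, rfl⟩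
  have hflat_i := hflat i
  rw [← hpY] at hflat_i
  have hc : IsPullback (pullback.fst f pY) (pullback.snd f pY) f pY := IsPullback.of_hasPullback f pY
  have hV' := isAffineOpen_top (Spec (CommRingCat.of (A' i)))
  have eV : (⊤ : (Spec (CommRingCat.of (A' i))).Opens) ≤ pY ⁻¹ᵁ ⊤ := le_top
  obtain ⟨W', hW'def⟩ : ∃ W' : (pullback f pY).Opens,
    W' = pullback.fst f pY ⁻¹ᵁ W ⊓ pullback.snd f pY ⁻¹ᵁ ⊤ := ⟨_, rfl⟩
  obtain ⟨hW', hpo⟩ := Groth.Agent.Helper2.FlatStageLim.stage_pushout hc hV hW e hV' eV hW'def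
  have e1 : W' ≤ pullback.snd f pY ⁻¹ᵁ ⊤ := by rw [hW'def]; exact inf_le_right
  have e2 : W' ≤ pullback.fst f pY ⁻¹ᵁ W := by rw [hW'def]; exact inf_le_left
  letI algRR' : Algebra Γ(Spec (CommRingCat.of A), ⊤) Γ(Spec (CommRingCat.of (A' i)), ⊤) :=
    (pY.appLE ⊤ ⊤ eV).hom.toAlgebra
  letI algSS' : Algebra Γ(X, W) Γ(pullback f pY, W') :=
    ((pullback.fst f pY).appLE W W' e2).hom.toAlgebra
  letI algR'S' : Algebra Γ(Spec (CommRingCat.of (A' i)), ⊤) Γ(pullback f pY, W') :=
    ((pullback.snd f pY).appLE ⊤ W' e1).hom.toAlgebra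
  letI algRS' : Algebra Γ(Spec (CommRingCat.of A), ⊤) Γ(pullback f pY, W') :=
    ((f.appLE ⊤ W e) ≫ ((pullback.fst f pY).appLE W W' e2)).hom.toAlgebra
  haveI : IsScalarTower Γ(Spec (CommRingCat.of A), ⊤) Γ(X, W) Γ(pullback f pY, W') :=
    IsScalarTower.of_algebraMap_eq (fun _ => rfl)
  haveI : IsScalarTower Γ(Spec (CommRingCat.of A), ⊤) Γ(Spec (CommRingCat.of (A' i)), ⊤)
      Γ(pullback f pY, W') :=
    IsScalarTower.of_algebraMap_eq (fun r => congr($(hpo.w).hom r))
  haveI : Algebra.IsPushout Γ(Spec (CommRingCat.of A), ⊤) Γ(X, W)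
      Γ(Spec (CommRingCat.of (A' i)), ⊤) Γ(pullback f pY, W') :=
    CommRingCat.isPushout_iff_isPushout.mp hpo
  let eR' : Γ(Spec (CommRingCat.of (A' i)), ⊤) ≃+* A' i :=
    (Scheme.ΓSpecIso (CommRingCat.of (A' i))).commRingCatIsoToRingEquiv
  haveI : IsLocalRing Γ(Spec (CommRingCat.of (A' i)), ⊤) := eR'.symm.isLocalRing
  haveI : IsLocalHom (algebraMap Γ(Spec (CommRingCat.of A), ⊤) Γ(Spec (CommRingCat.of (A' i)), ⊤)) :=
    isLocalHom_of_artinian _
  have hnat : ∀ r : Γ(Spec (CommRingCat.of A), ⊤),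
      eR' (algebraMap Γ(Spec (CommRingCat.of A), ⊤) Γ(Spec (CommRingCat.of (A' i)), ⊤) r) =
        u i (eR r) := by
    intro r
    have h := Scheme.ΓSpecIso_naturality (CommRingCat.ofHom (u i))
    have h2 := congr($(h).hom r)
    rw [← hpY] at h2
    have h3 : pY.appLE ⊤ ⊤ eV = pY.appTop := by
      rw [Scheme.Hom.appTop, Scheme.Hom.app_eq_appLE]
      rfl
    show (Scheme.ΓSpecIso (CommRingCat.of (A' i))).hom.hom ((pY.appLE ⊤ ⊤ eV).hom r) = _
    rw [h3]
    exact h2
  have hker : ¬ I ≤ RingHom.ker (algebraMap Γ(Spec (CommRingCat.of A), ⊤)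
      Γ(Spec (CommRingCat.of (A' i)), ⊤)) := by
    intro hle
    have h0 := hle haI
    rw [RingHom.mem_ker] at h0
    apply hi
    rw [← hnat, h0, map_zero]
  obtain ⟨x', h1, h2, h3⟩ := hflat_i
  have hx' : x' ∈ W' := by
    rw [hW'def]
    refine ⟨?_, trivial⟩
    change pullback.fst f pY x' ∈ W
    rw [h1]
    exact hxW
  rw [Groth.Agent.Helper2.FlatStageDict.isFlatOverAt_pullback_iff (pullback.snd f pY)
    (pullback.fst f pY) F hV' hW hW' e1 e2 x' hx'] at h3
  haveI := h3
  have hq1 : (hW'.primeIdealOf ⟨x', hx'⟩).asIdeal.comap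
      (algebraMap Γ(X, W) Γ(pullback f pY, W')) = (hW.primeIdealOf ⟨x, hxW⟩).asIdeal := by
    have h := Groth.Agent.Helper2.FlatStageLim.primeIdealOf_comap (pullback.fst f pY) hW hW' e2
      x' hx'
    have h' : hW.primeIdealOf ⟨pullback.fst f pY x', e2 hx'⟩ = hW.primeIdealOf ⟨x, hxW⟩ := by
      congr 1
      exact Subtype.ext h1
    rw [← h', ← h]
    rfl
  have hq2 : (hW'.primeIdealOf ⟨x', hx'⟩).asIdeal.comap
      (algebraMap Γ(Spec (CommRingCat.of (A' i)), ⊤) Γ(pullback f pY, W')) =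
      maximalIdeal Γ(Spec (CommRingCat.of (A' i)), ⊤) := by
    have h := Groth.Agent.Helper2.FlatStageLim.primeIdealOf_comap (pullback.snd f pY) hV' hW' e1
      x' hx'
    let P₀ : PrimeSpectrum Γ(Spec (CommRingCat.of (A' i)), ⊤) :=
      ⟨maximalIdeal _, inferInstance⟩
    have hy₀ : hV'.fromSpec P₀ ∈ (⊤ : (Spec (CommRingCat.of (A' i))).Opens) := trivial
    have hP₀ := primeIdealOf_fromSpec hV' P₀ hy₀
    have hcl : hV'.fromSpec P₀ = closedPoint (A' i) := by
      apply eq_closedPoint_of_primeIdealOf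
      rw [hP₀]
      exact maximalIdeal.isMaximal _
    have h' : hV'.primeIdealOf ⟨pullback.snd f pY x', e1 hx'⟩ = P₀ := by
      rw [← hP₀]
      congr 1
      exact Subtype.ext (h2.trans hcl.symm)
    have h'' := congrArg PrimeSpectrum.asIdeal (h.trans h')
    exact h''
  -- residue field data
  letI algk₀L₀ : Algebra ↑((Spec (CommRingCat.of A)).residueField (f x)) ↑(X.residueField x) :=
    (f.residueFieldMap x).hom.toAlgebra
  letI algRk₀ : Algebra Γ(Spec (CommRingCat.of A), ⊤)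
      ↑((Spec (CommRingCat.of A)).residueField (f x)) :=
    ((Spec (CommRingCat.of A)).evaluation ⊤ (f x) trivial).hom.toAlgebra
  letI algRL₀ : Algebra Γ(Spec (CommRingCat.of A), ⊤) ↑(X.residueField x) :=
    ((f.residueFieldMap x).hom.comp
      ((Spec (CommRingCat.of A)).evaluation ⊤ (f x) trivial).hom).toAlgebra
  haveI : IsScalarTower Γ(Spec (CommRingCat.of A), ⊤)
      ↑((Spec (CommRingCat.of A)).residueField (f x)) ↑(X.residueField x) :=
    IsScalarTower.of_algebraMap_eq fun _ => rfl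
  have hk₀ : Surjective (algebraMap Γ(Spec (CommRingCat.of A), ⊤)
      ↑((Spec (CommRingCat.of A)).residueField (f x))) :=
    evaluation_surjective_of_isMaximal (f x) inferInstance
  have hnatev : ∀ r : Γ(Spec (CommRingCat.of A), ⊤),
      X.evaluation W x hxW ((f.appLE ⊤ W e).hom r) =
        (f.residueFieldMap x).hom
          (((Spec (CommRingCat.of A)).evaluation ⊤ (f x) trivial).hom r) := by
    intro r
    have hn := Scheme.evaluation_naturality_apply f x (V := ⊤) trivial r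
    rw [hn]
    change (X.presheaf.germ W x hxW ≫ X.residue x)
      ((f.app ⊤ ≫ X.presheaf.map (homOfLE e).op) r) =
      (X.presheaf.germ (f ⁻¹ᵁ ⊤) x trivial ≫ X.residue x) (f.app ⊤ r)
    rw [CommRingCat.comp_apply, CommRingCat.comp_apply, CommRingCat.comp_apply,
      TopCat.Presheaf.germ_res_apply]
  let ε : (hW.primeIdealOf ⟨x, hxW⟩).asIdeal.ResidueField ≃ₐ[Γ(Spec (CommRingCat.of A), ⊤)]
      ↑(X.residueField x) :=
    { resIso hW x hxW with
      commutes' := fun r => by
        change resIso hW x hxW (algebraMap _ _ r) = _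
        rw [IsScalarTower.algebraMap_apply Γ(Spec (CommRingCat.of A), ⊤) Γ(X, W)
          (hW.primeIdealOf ⟨x, hxW⟩).asIdeal.ResidueField, resIso_algebraMap]
        exact hnatev r }
  have hprim' : ∀ a : ↑(X.residueField x),
      IsSeparable ↑((Spec (CommRingCat.of A)).residueField (f x)) a →
      a ∈ Set.range (algebraMap ↑((Spec (CommRingCat.of A)).residueField (f x))
        ↑(X.residueField x)) := by
    intro a ha
    obtain ⟨b, hb⟩ := hprim a ha
    exact ⟨b, hb⟩
  have hzd := zd_of_primary (R' := Γ(Spec (CommRingCat.of (A' i)), ⊤))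
    (hW.primeIdealOf ⟨x, hxW⟩).asIdeal hk₀ ε hprim'
  have hbase := hbase_of_zd (R := Γ(Spec (CommRingCat.of A), ⊤))
    (hW.primeIdealOf ⟨x, hxW⟩).asIdeal (hW'.primeIdealOf ⟨x', hx'⟩).asIdeal hq1 hq2 hzd
  have key := exists_smaller_primary (R := Γ(Spec (CommRingCat.of A), ⊤)) (S := Γ(X, W))
    (R' := Γ(Spec (CommRingCat.of (A' i)), ⊤)) (S' := Γ(pullback f pY, W'))
    (M := Γ(F, W)) (M' := Γ(pullback f pY, W') ⊗[Γ(X, W)] Γ(F, W))
    (TensorProduct.mk Γ(X, W) Γ(pullback f pY, W') Γ(F, W) 1)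
    (TensorProduct.isBaseChange Γ(X, W) Γ(F, W) Γ(pullback f pY, W'))
    (hW.primeIdealOf ⟨x, hxW⟩).asIdeal (hW'.primeIdealOf ⟨x', hx'⟩).asIdeal hbase I hIm hI
  rcases key with h | h
  · exact absurd h hker
  · exact h

end Groth.Agent.Lead.FlatPrim
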