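import Mathlib
import Groth.Agent.Lead.FlatUnivH
import Groth.Agent.Lead.FlatPrimC

set_option autoImplicit false
set_option linter.style.haveILetI false
open TensorProduct Function LinearMap IsLocalRing
universe u

namespace Groth.Agent.Lead.FlatPrim

open Groth.Agent.Helper2.AdicFlat Groth.Agent.Helper2.FlatCL1 Groth.Agent.Helper2.FlatCL2
  Groth.Agent.Helper2.FlatCL4 Groth.Agent.Lead.FlatUnivB Groth.Agent.Lead.FlatUnivC
  Groth.Agent.Lead.FlatUnivD

section Key
variable {R S R' S' : Type u} [CommRing R] [IsLocalRing R] [IsNoetherianRing R]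
  [CommRing S] [IsNoetherianRing S] [CommRing R'] [IsLocalRing R'] [CommRing S']
  [Algebra R S] [Algebra R R'] [IsLocalHom (algebraMap R R')] [Algebra S S'] [Algebra R' S']
  [Algebra R S'] [IsScalarTower R S S'] [IsScalarTower R R' S'] [Algebra.IsPushout R S R' S']
  {M M' : Type u} [AddCommGroup M] [Module S M] [Module R M] [IsScalarTower R S M]
  [Module.Finite S M]
  [AddCommGroup M'] [Module S' M'] [Module R' M'] [IsScalarTower R' S' M'] [Module S M']
  [IsScalarTower S S' M']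

theorem exists_smaller_primary' (f : M →ₗ[S] M') (hf : IsBaseChange S' f) (q : Ideal S)
    [q.IsPrime]
    (q' : Ideal S') [q'.IsPrime] [Module.Flat R' (LocalizedModule q'.primeCompl M')]
    (hbase : ∀ c : S', c ∉ q' →
      ∀ e : TT S R' S' (ResidueField (Localization.AtPrime q)), c • e = 0 → e = 0)
    (I : Ideal R) (hIm : I ≤ maximalIdeal R)
    (hI : TorsionFlat I (LocalizedModule q.primeCompl M)) :
    I ≤ RingHom.ker (algebraMap R R') ∨
      ∃ I₁ : Ideal R, I₁ < I ∧ I ⊓ RingHom.ker (algebraMap R R') ≤ I₁ ∧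
        TorsionFlat I₁ (LocalizedModule q.primeCompl M) := by
  by_cases hker : I ≤ RingHom.ker (algebraMap R R')
  · exact Or.inl hker
  right
  have hloc : (maximalIdeal R).map (algebraMap R R') ≤ maximalIdeal R' :=
    ((IsLocalRing.local_hom_TFAE (algebraMap R R')).out 0 2).1 ‹IsLocalHom (algebraMap R R')›
  have hI'ne : I.map (algebraMap R R') ≠ ⊥ := by
    rwa [Ne, Ideal.map_eq_bot_iff_le_ker]
  have hI'fg : (I.map (algebraMap R R')).FG := Ideal.FG.map (IsNoetherian.noetherian I) _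
  have hnak : ¬ I.map (algebraMap R R') ≤ maximalIdeal R' • I.map (algebraMap R R') :=
    fun h => hI'ne (Submodule.eq_bot_of_le_smul_of_le_jacobson_bot (maximalIdeal R') _ hI'fg h
      (maximalIdeal_le_jacobson ⊥))
  let K' : Submodule R' ↥(I.map (algebraMap R R')) := maximalIdeal R' • ⊤
  have hW' : ∀ a ∈ maximalIdeal R', ∀ w : ↥(I.map (algebraMap R R')) ⧸ K', a • w = 0 := by
    intro a ha w
    obtain ⟨x, rfl⟩ := Submodule.Quotient.mk_surjective _ w
    rw [← Submodule.Quotient.mk_smul, Submodule.Quotient.mk_eq_zero]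
    exact Submodule.smul_mem_smul ha Submodule.mem_top
  have hmem : ∀ a ∈ maximalIdeal R, algebraMap R R' a ∈ maximalIdeal R' := fun a ha =>
    hloc (Ideal.mem_map_of_mem _ ha)
  have hWtorsR : Module.IsTorsionBySet R (↥(I.map (algebraMap R R')) ⧸ K') (maximalIdeal R) := by
    intro w a
    change (a : R) • w = 0
    rw [← algebraMap_smul R' (a : R) w]
    exact hW' _ (hmem a.1 a.2) w
  -- an element of I whose image is not in m' I'
  obtain ⟨a₀, ha₀, ha₀'⟩ : ∃ a₀ ∈ I, algebraMap R R' a₀ ∉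
      maximalIdeal R' • I.map (algebraMap R R') := by
    by_contra hcon
    push Not at hcon
    apply hnak
    rw [Ideal.map_le_iff_le_comap]
    intro a ha
    exact hcon a ha
  let Λ : I →ₗ[R] (↥(I.map (algebraMap R R')) ⧸ K') := (K'.mkQ.restrictScalars R) ∘ₗ can R' I
  have hw₀ : Λ ⟨a₀, ha₀⟩ ≠ 0 := by
    intro h0
    have h1 : can R' I ⟨a₀, ha₀⟩ ∈ K' := (Submodule.Quotient.mk_eq_zero K').1 h0
    exact ha₀' ((Submodule.mem_smul_top_iff _ _ _).1 h1)
  have hWtorsR' : Module.IsTorsionBySet R' (↥(I.map (algebraMap R R')) ⧸ K') (maximalIdeal R') := by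
    intro w a
    exact hW' a.1 a.2 w
  obtain ⟨μ', hμ'⟩ := exists_functional hWtorsR' _ hw₀
  haveI : Nontrivial (R' ⧸ maximalIdeal R') := Ideal.Quotient.nontrivial_iff.2
    (maximalIdeal.isMaximal R').ne_top
  have hk'tors : Module.IsTorsionBySet R (R' ⧸ maximalIdeal R') (maximalIdeal R) := by
    intro w a
    change (a : R) • w = 0
    rw [← algebraMap_smul R' (a : R) w, Algebra.smul_def, Ideal.Quotient.algebraMap_eq,
      Ideal.Quotient.eq_zero_iff_mem.2 (hmem a.1 a.2), zero_mul]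
  obtain ⟨ρ, hρ⟩ := exists_functional hk'tors (1 : R' ⧸ maximalIdeal R') one_ne_zero
  let μ : (↥(I.map (algebraMap R R')) ⧸ K') →ₗ[R] (R ⧸ maximalIdeal R) :=
    ρ ∘ₗ (μ'.restrictScalars R)
  have hμ : μ (Λ ⟨a₀, ha₀⟩) = 1 := by
    change ρ (μ' (Λ ⟨a₀, ha₀⟩)) = 1
    rw [hμ', hρ]
  let π : I →ₗ[R] (R ⧸ maximalIdeal R) := μ ∘ₗ Λ
  let I₁ : Ideal R := (LinearMap.ker π).map I.subtype
  have hI₁le : I₁ ≤ I := by
    rintro _ ⟨a, -, rfl⟩
    exact a.2
  have hπ : ∀ a : I, π a = 0 ↔ (a : R) ∈ I₁ := by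
    intro a
    constructor
    · intro h; exact ⟨a, h, rfl⟩
    · rintro ⟨b, hb, hba⟩
      have : b = a := Subtype.ext hba
      rw [← this]; exact hb
  have hI₁lt : I₁ < I := by
    refine lt_of_le_of_ne hI₁le ?_
    intro heq
    have h1 : π ⟨a₀, ha₀⟩ = 0 := (hπ ⟨a₀, ha₀⟩).2 (by rw [heq]; exact ha₀)
    have h2 : π ⟨a₀, ha₀⟩ = 1 := hμ
    rw [h2] at h1
    haveI : Nontrivial (R ⧸ maximalIdeal R) := Ideal.Quotient.nontrivial_iff.2
      (maximalIdeal.isMaximal R).ne_top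
    exact one_ne_zero h1
  have hktors : ∀ a ∈ maximalIdeal R, ∀ x : R ⧸ maximalIdeal R, a • x = 0 := by
    intro a ha x
    rw [Algebra.smul_def, Ideal.Quotient.algebraMap_eq, Ideal.Quotient.eq_zero_iff_mem.2 ha,
      zero_mul]
  have hsq : I * I ≤ I₁ := by
    rw [Ideal.mul_le]
    intro a ha b hb
    refine ⟨⟨a * b, I.mul_mem_left a hb⟩, ?_, rfl⟩
    change π ⟨a * b, I.mul_mem_left a hb⟩ = 0
    have : (⟨a * b, I.mul_mem_left a hb⟩ : I) = a • (⟨b, hb⟩ : I) := Subtype.ext rfl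
    rw [this, map_smul]
    exact hktors a (hIm ha) _
  have hWtors : Module.IsTorsionBySet R (R ⧸ maximalIdeal R) I := by
    intro w a
    exact hktors a.1 (hIm a.2) w
  have hkerI₁ : I ⊓ RingHom.ker (algebraMap R R') ≤ I₁ := by
    rintro a ⟨haI, hak⟩
    refine (hπ ⟨a, haI⟩).1 ?_
    have hcan : can R' I ⟨a, haI⟩ = 0 := by
      apply Subtype.ext
      have h0 : algebraMap R R' a = 0 := hak
      exact h0
    change μ (Λ ⟨a, haI⟩) = 0
    have : Λ ⟨a, haI⟩ = 0 := by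
      change K'.mkQ (can R' I ⟨a, haI⟩) = 0
      rw [hcan, map_zero]
    rw [this, map_zero]
  refine ⟨I₁, hI₁lt, hkerI₁, ?_⟩
  -- the key vanishing
  have hH : ∀ t : M ⊗[R] I, lTensor M I.subtype t = 0 →
      ∃ c : q.primeCompl, c • lTensor M π t = 0 := by
    intro t ht
    obtain ⟨u₀, hu₀⟩ : ∃ u₀ : M ⊗[R] ↥(I.map (algebraMap R R')), u₀ = lTensor M (can R' I) t :=
      ⟨_, rfl⟩
    obtain ⟨t', ht'⟩ : ∃ t' : M' ⊗[R'] ↥(I.map (algebraMap R R')),
        t' = psi R R' S' ↥(I.map (algebraMap R R')) f u₀ := ⟨_, rfl⟩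
    have h1 : lTensor M' (I.map (algebraMap R R')).subtype t' = 0 := by
      rw [ht', ← psi_natural R R' S' f (I.map (algebraMap R R')).subtype u₀, hu₀,
        ← LinearMap.comp_apply, ← LinearMap.lTensor_comp]
      have : (I.map (algebraMap R R')).subtype.restrictScalars R ∘ₗ can R' I =
          (Algebra.linearMap R R') ∘ₗ I.subtype := by
        ext a; rfl
      rw [this, LinearMap.lTensor_comp, LinearMap.comp_apply, ht, map_zero, map_zero]
    obtain ⟨c, hc⟩ := exists_smul_eq_zero q' (I.map (algebraMap R R')) (μ' ∘ₗ K'.mkQ) t' h1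
    obtain ⟨d, hd⟩ : ∃ d : M ⊗[R] (R' ⧸ maximalIdeal R'),
        d = lTensor M ((μ' ∘ₗ K'.mkQ).restrictScalars R) u₀ := ⟨_, rfl⟩
    have hpsid : psi R R' S' _ f d = lTensor M' (μ' ∘ₗ K'.mkQ) t' := by
      rw [hd, ht', psi_natural R R' S' f (μ' ∘ₗ K'.mkQ) u₀]
    have hz : lTensor M π t = lTensor M ρ d := by
      rw [hd, hu₀, ← LinearMap.comp_apply, ← LinearMap.lTensor_comp, ← LinearMap.comp_apply,
        ← LinearMap.lTensor_comp]
      rfl
    rw [hz]
    refine exists_smul_eq_zero_of_inj f hf q (c : S') (hbase c c.2) d ?_ ρ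
    rw [hpsid]
    exact hc
  have hflatI₁ : Module.Flat (R ⧸ I₁) ((R ⧸ I₁) ⊗[R] LocalizedModule q.primeCompl M) :=
    Groth.Agent.Lead.FlatUnivA.flat_of_H I I₁ _ hI₁le hsq hI _ hWtors π hπ
      (H_localized' q I π hH)
  exact torsionFlat_of_flat I₁ _

end Key

end Groth.Agent.Lead.FlatPrim
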