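import Mathlib
import Groth.Prelude
import Groth.Agent.Lead.FlatPrimI
import Groth.Agent.Lead.FlatUnivJ

set_option autoImplicit false
set_option linter.style.haveILetI false
open TensorProduct Function LinearMap IsLocalRing CategoryTheory CategoryTheory.Limits AlgebraicGeometry
universe u

namespace Groth.Agent.Lead.FlatPrim

/-- residue field maps of morphisms surjective on stalks are surjective -/
lemma residueFieldMap_surjective {X Y : Scheme.{u}} (g : X ⟶ Y) [SurjectiveOnStalks g] (x : X) :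
    Function.Surjective (g.residueFieldMap x).hom := by
  intro l
  obtain ⟨s, rfl⟩ := Ideal.Quotient.mk_surjective (I := maximalIdeal (X.presheaf.stalk x)) l
  obtain ⟨t, rfl⟩ := g.stalkMap_surjective x s
  refine ⟨IsLocalRing.residue _ t, ?_⟩
  exact IsLocalRing.ResidueField.map_residue (g.stalkMap x).hom t

/-- transfer of the primary property along an isomorphism of field extensions -/
lemma primary_transfer {k L k₁ L₁ : Type u} [Field k] [Field L] [Field k₁] [Field L₁]
    (α : k →+* L) (β : k₁ →+* L₁) (σ : k →+* k₁) (ψ : L →+* L₁) (hσ : Surjective σ)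
    (hψ : Surjective ψ) (hcomm : ψ.comp α = β.comp σ)
    (h : letI := α.toAlgebra
      ∀ b : L, IsSeparable k b → b ∈ α.range) :
    letI := β.toAlgebra
    ∀ a : L₁, IsSeparable k₁ a → a ∈ β.range := by
  letI := α.toAlgebra
  letI := β.toAlgebra
  intro a ha
  obtain ⟨b, rfl⟩ := hψ a
  obtain ⟨Q, hQ⟩ := Polynomial.map_surjective σ hσ (minpoly k₁ (ψ b))
  have hQsep : Q.Separable := by
    rw [← Polynomial.separable_map σ, hQ]
    exact ha
  have hQb : Polynomial.aeval b Q = 0 := by
    apply ψ.injective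
    rw [map_zero, Polynomial.aeval_def, Polynomial.hom_eval₂]
    have h1 : ψ.comp (algebraMap k L) = β.comp σ := hcomm
    rw [h1, ← Polynomial.eval₂_map, hQ]
    exact minpoly.aeval k₁ (ψ b)
  have hsep : IsSeparable k b := hQsep.of_dvd (minpoly.dvd k b hQb)
  obtain ⟨c, hc⟩ := h b hsep
  refine ⟨σ c, ?_⟩
  rw [← hc]
  exact (congrArg (fun φ => φ c) hcomm).symm

/-- the primary property of residue field extensions passes to a base change along a
preimmersion -/
theorem primary_of_square {X Y X₁ Y₁ : Scheme.{u}} (f : X ⟶ Y) (f₁ : X₁ ⟶ Y₁) (p : X₁ ⟶ X)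
    (j : Y₁ ⟶ Y) (e : p ≫ f = f₁ ≫ j) [SurjectiveOnStalks p] [SurjectiveOnStalks j]
    (x₁ : X₁) (x : X) (hx : p x₁ = x)
    (hprim : letI := (f.residueFieldMap x).hom.toAlgebra
      ∀ a : ↑(X.residueField x), IsSeparable ↑(Y.residueField (f x)) a →
        a ∈ (f.residueFieldMap x).hom.range) :
    letI := (f₁.residueFieldMap x₁).hom.toAlgebra
    ∀ a : ↑(X₁.residueField x₁), IsSeparable ↑(Y₁.residueField (f₁ x₁)) a →
      a ∈ (f₁.residueFieldMap x₁).hom.range := by
  subst hx
  have h3 : f.residueFieldMap (p x₁) ≫ p.residueFieldMap x₁ =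
      (Y.residueFieldCongr (congr($e x₁))).hom ≫ j.residueFieldMap (f₁ x₁) ≫
        f₁.residueFieldMap x₁ := by
    rw [← Scheme.residueFieldMap_comp, Scheme.Hom.residueFieldMap_congr e,
      Scheme.residueFieldMap_comp]
    rfl
  refine primary_transfer (f.residueFieldMap (p x₁)).hom (f₁.residueFieldMap x₁).hom
    ((Y.residueFieldCongr (congr($e x₁))).hom ≫ j.residueFieldMap (f₁ x₁)).hom
    (p.residueFieldMap x₁).hom ?_ (residueFieldMap_surjective p x₁) ?_ hprim
  · rw [CommRingCat.hom_comp]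
    exact (residueFieldMap_surjective j (f₁ x₁)).comp
      (ConcreteCategory.bijective_of_isIso (Y.residueFieldCongr (congr($e x₁))).hom).2
  · have h4 := congrArg CommRingCat.Hom.hom h3
    rw [CommRingCat.hom_comp] at h4
    rw [h4]
    rfl

/-- a point of an iterated base change above a given point of the direct base change -/
lemma exists_point_iterated {X Z Z₁ Y T : Scheme.{u}} (f : X ⟶ Z) (j : Z₁ ⟶ Z) (g : Y ⟶ Z)
    (q : T ⟶ Z₁) (k : T ⟶ Y) (hk : k ≫ g = q ≫ j)
    (x' : ↥(pullback f g)) (t : T) (ht : pullback.snd f g x' = k t) :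
    ∃ x'' : ↥(pullback (pullback.snd f j) q),
      pullback.lift (pullback.fst (pullback.snd f j) q ≫ pullback.fst f j)
        (pullback.snd (pullback.snd f j) q ≫ k)
        (by rw [Category.assoc, Category.assoc, pullback.condition, hk,
          pullback.condition_assoc]) x'' = x' ∧
      pullback.snd (pullback.snd f j) q x'' = t := by
  have hbig : IsPullback (pullback.fst (pullback.snd f j) q ≫ pullback.fst f j)
      (pullback.snd (pullback.snd f j) q) f (q ≫ j) :=
    (IsPullback.of_hasPullback (pullback.snd f j) q).paste_horiz (IsPullback.of_hasPullback f j)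
  have hleft : IsPullback (pullback.lift (pullback.fst (pullback.snd f j) q ≫ pullback.fst f j)
        (pullback.snd (pullback.snd f j) q ≫ k)
        (by rw [Category.assoc, Category.assoc, pullback.condition, hk,
          pullback.condition_assoc]))
      (pullback.snd (pullback.snd f j) q) (pullback.snd f g) k := by
    refine IsPullback.of_right ?_ (pullback.lift_snd _ _ _) (IsPullback.of_hasPullback f g)
    rw [pullback.lift_fst, hk]
    exact hbig
  exact Scheme.exists_preimage_of_isPullback hleft x' t ht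

open Groth.Agent.Lead.FlatUnivF Groth.Agent.Lead.FlatUnivG Groth.Agent.Lead.FlatUnivI
open Groth.Agent.Lead.FlatUnivJ

open CategoryTheory.Limits in
theorem s4902 {X Y : Scheme.{u}} [IsLocallyNoetherian Y]
    (f : X ⟶ Y) [LocallyOfFiniteType f] (F : X.Modules) (hF : Coh.IsCoh F) (x : X)
    (hprim : letI := (f.residueFieldMap x).hom.toAlgebra
      ∀ a : ↑(X.residueField x), IsSeparable ↑(Y.residueField (f x)) a → a ∈ (f.residueFieldMap x).hom.range)
    {ι : Type u} (A : ι → Type u) [∀ i, CommRing (A i)] [∀ i, IsLocalRing (A i)]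
    (φ : ∀ i, (Y.presheaf.stalk (f x) : Type u) →+* A i) [∀ i, IsLocalHom (φ i)]
    (htop : ∀ N : ℕ, ∃ s : Finset (ι × ℕ),
      ⨅ p ∈ s, Ideal.comap (φ p.1) (IsLocalRing.maximalIdeal (A p.1) ^ p.2) ≤
        IsLocalRing.maximalIdeal ↑(Y.presheaf.stalk (f x)) ^ N) :
    letI g : ∀ i, Spec (CommRingCat.of (A i)) ⟶ Y :=
      fun i => Spec.map (CommRingCat.ofHom (φ i)) ≫ Y.fromSpecStalk (f x)
    (∀ i : ι, ∃ x' : ↥(pullback f (g i)), pullback.fst f (g i) x' = x ∧
      pullback.snd f (g i) x' = IsLocalRing.closedPoint (A i) ∧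
      FlatMod.IsFlatOverAt (pullback.snd f (g i)) ((Scheme.Modules.pullback (pullback.fst f (g i))).obj F) x') →
    FlatMod.IsFlatOverAt f F x := by
  intro H
  beta_reduce at H
  haveI : F.IsQuasicoherent := hF.1
  obtain ⟨j, hj⟩ : ∃ j : Spec (Y.presheaf.stalk (f x)) ⟶ Y, j = Y.fromSpecStalk (f x) := ⟨_, rfl⟩
  haveI : Flat j := hj ▸ flat_fromSpecStalk Y (f x)
  haveI : IsPreimmersion j := hj ▸ inferInstance
  obtain ⟨x₁, hx₁a, hx₁b⟩ := Scheme.Pullback.exists_preimage_pullback (f := f) (g := j) x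
    (closedPoint (Y.presheaf.stalk (f x))) (by rw [hj, Scheme.fromSpecStalk_closedPoint])
  have hdesc := Groth.Agent.Lead.StalkPull.main_descent f (pullback.snd f j) (pullback.fst f j) j
    (IsPullback.of_hasPullback f j) F hF.1 x₁ ((Flat.iff_flat_stalkMap j).mp inferInstance _) ?_
  · rw [hx₁a] at hdesc
    exact hdesc
  haveI hloc : ∀ p : ι × ℕ, IsLocalRing (A p.1 ⧸ maximalIdeal (A p.1) ^ (p.2 + 1)) := fun p => by
    haveI : Nontrivial (A p.1 ⧸ maximalIdeal (A p.1) ^ (p.2 + 1)) :=
      Ideal.Quotient.nontrivial_iff.2 (ne_top_of_le_ne_top (maximalIdeal.isMaximal _).ne_top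
        (Ideal.pow_le_self (Nat.succ_ne_zero _)))
    exact IsLocalRing.of_surjective' (Ideal.Quotient.mk _) Ideal.Quotient.mk_surjective
  haveI hlh : ∀ p : ι × ℕ, IsLocalHom ((Ideal.Quotient.mk (maximalIdeal (A p.1) ^ (p.2 + 1))).comp
      (φ p.1)) := fun p => by
    haveI : IsLocalHom (Ideal.Quotient.mk (maximalIdeal (A p.1) ^ (p.2 + 1))) :=
      isLocalHom_of_le_jacobson_bot _ ((Ideal.pow_le_self (Nat.succ_ne_zero _)).trans
        (maximalIdeal_le_jacobson ⊥))
    exact RingHom.isLocalHom_comp _ _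
  have hker : ∀ p : ι × ℕ, RingHom.ker ((Ideal.Quotient.mk (maximalIdeal (A p.1) ^ (p.2 + 1))).comp
      (φ p.1)) = Ideal.comap (φ p.1) (maximalIdeal (A p.1) ^ (p.2 + 1)) := fun p => by
    ext a
    rw [RingHom.mem_ker, Ideal.mem_comap, RingHom.comp_apply, Ideal.Quotient.eq_zero_iff_mem]
  haveI hN : IsNoetherianRing (Y.presheaf.stalk (f x)) := inferInstance
  have hres₁ := primary_of_square f (pullback.snd f j) (pullback.fst f j) j pullback.condition
    x₁ x hx₁a hprim
  refine @local_family_primary (Y.presheaf.stalk (f x) : Type u) _ hN _ _ (pullback.snd f j) _ _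
    (isCoh_pullback _ F hF) x₁ hx₁b
    (ι × ℕ) (fun p => A p.1 ⧸ maximalIdeal (A p.1) ^ (p.2 + 1)) _ hloc
    (fun p => (Ideal.Quotient.mk _).comp (φ p.1)) hlh ?_ ?_ hres₁ ?_
  · intro p
    refine ⟨p.2 + 1, ?_⟩
    rw [hker]
    rw [← Ideal.map_le_iff_le_comap, Ideal.map_pow]
    refine Ideal.pow_right_mono ?_ _
    exact ((IsLocalRing.local_hom_TFAE (φ p.1)).out 0 2).1 (inferInstance : IsLocalHom (φ p.1))
  · intro N
    obtain ⟨s, hs⟩ := htop N
    refine ⟨s, le_trans ?_ hs⟩
    refine iInf₂_mono ?_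
    intro p hp
    rw [hker]
    exact Ideal.comap_mono (Ideal.pow_le_pow_right (Nat.le_succ _))
  · intro p
    obtain ⟨i, n⟩ := p
    haveI : IsLocalRing (A i ⧸ maximalIdeal (A i) ^ (n + 1)) := hloc (i, n)
    haveI : IsLocalHom (Ideal.Quotient.mk (maximalIdeal (A i) ^ (n + 1))) :=
      isLocalHom_of_le_jacobson_bot _ ((Ideal.pow_le_self (Nat.succ_ne_zero _)).trans
        (maximalIdeal_le_jacobson ⊥))
    have hk : Spec.map (CommRingCat.ofHom (Ideal.Quotient.mk (maximalIdeal (A i) ^ (n + 1)))) ≫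
        (Spec.map (CommRingCat.ofHom (φ i)) ≫ Y.fromSpecStalk (f x)) =
        Spec.map (CommRingCat.ofHom ((Ideal.Quotient.mk (maximalIdeal (A i) ^ (n + 1))).comp
          (φ i))) ≫ j := by
      rw [hj, ← Category.assoc, ← Spec.map_comp]
      rfl
    obtain ⟨x', hx'1, hx'2, hx'3⟩ := H i
    have hcl : pullback.snd f (Spec.map (CommRingCat.ofHom (φ i)) ≫ Y.fromSpecStalk (f x)) x' =
        Spec.map (CommRingCat.ofHom (Ideal.Quotient.mk (maximalIdeal (A i) ^ (n + 1))))
          (closedPoint (A i ⧸ maximalIdeal (A i) ^ (n + 1))) := by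
      rw [hx'2]
      exact (IsLocalRing.comap_closedPoint
        (Ideal.Quotient.mk (maximalIdeal (A i) ^ (n + 1)))).symm
    obtain ⟨x'', hΛ, hsnd⟩ := exists_point_iterated f j
      (Spec.map (CommRingCat.ofHom (φ i)) ≫ Y.fromSpecStalk (f x))
      (Spec.map (CommRingCat.ofHom ((Ideal.Quotient.mk (maximalIdeal (A i) ^ (n + 1))).comp
        (φ i))))
      (Spec.map (CommRingCat.ofHom (Ideal.Quotient.mk (maximalIdeal (A i) ^ (n + 1))))) hk
      x' (closedPoint (A i ⧸ maximalIdeal (A i) ^ (n + 1))) hcl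
    refine ⟨x'', ?_, hsnd, ?_⟩
    · apply (pullback.fst f j).isEmbedding.injective
      refine Eq.trans ?_ hx₁a.symm
      refine Eq.trans ?_ hx'1
      refine Eq.trans ?_ (congrArg _ hΛ)
      rw [← Scheme.Hom.comp_apply, ← Scheme.Hom.comp_apply, pullback.lift_fst]
      rfl
    · apply flat_of_factor₂ f F j (Spec.map (CommRingCat.ofHom (φ i)) ≫ Y.fromSpecStalk (f x)) _
        (Spec.map (CommRingCat.ofHom (Ideal.Quotient.mk (maximalIdeal (A i) ^ (n + 1))))) hk
      have h6 := hx'3
      rw [← hΛ] at h6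
      exact h6

end Groth.Agent.Lead.FlatPrim
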