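import Mathlib
import Groth.Agent.Lead.FlatPull
import Groth.Agent.Lead.StalkPull
import Groth.Prelude.Def_Coh

set_option autoImplicit false
universe u
open CategoryTheory CategoryTheory.Limits AlgebraicGeometry TopologicalSpace Opposite TensorProduct

namespace Groth.Agent.Lead.FlatPull
open Groth.Agent.Lead.ModDict Scheme.Modules

/-- S9017 -/
theorem main_mono_fpqc {X S : Scheme.{u}} (f : X ⟶ S) {F G : X.Modules} [Coh.IsQCoh F] [Coh.IsQCoh G]
    (u : F ⟶ G) (T : Over S) {ι : Type u} (Ti : ι → Over S) (g : ∀ i, Ti i ⟶ T)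
    (hcov : Presieve.ofArrows (fun i => (Ti i).left) (fun i => (g i).left) ∈
      Scheme.fpqcPrecoverage T.left) :
    Mono ((Scheme.Modules.pullback (pullback.fst f T.hom)).map u) ↔
      ∀ i, Mono ((Scheme.Modules.pullback (pullback.fst f (Ti i).hom)).map u) := by
  haveI : F.IsQuasicoherent := ‹Coh.IsQCoh F›
  haveI : G.IsQuasicoherent := ‹Coh.IsQCoh G›
  obtain ⟨hs, hfl⟩ := (Scheme.ofArrows_mem_precoverage_iff (P := @Flat)).mp hcov.2
  let H : ∀ i, pullback f (Ti i).hom ⟶ pullback f T.hom := fun i =>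
    pullback.map f (Ti i).hom f T.hom (𝟙 X) (g i).left (𝟙 S) (by simp) (by simp)
  have hH1 : ∀ i, H i ≫ pullback.fst f T.hom = pullback.fst f (Ti i).hom := by
    intro i
    change pullback.map f (Ti i).hom f T.hom (𝟙 X) (g i).left (𝟙 S) _ _ ≫ pullback.fst f T.hom = _
    rw [pullback.lift_fst, Category.comp_id]
  haveI hHfl : ∀ i, Flat (H i) := by
    intro i
    exact MorphismProperty.pullbackMap (P := @Flat) (f := f) (g := (Ti i).hom) (f' := f)
      (g' := T.hom) (i₁ := 𝟙 X) (i₂ := (g i).left) inferInstance (hfl i) (by simp) (by simp)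
  have hHs : ∀ z : ↑(pullback f T.hom), ∃ i, z ∈ Set.range (H i) := by
    intro z
    obtain ⟨i, hi⟩ := hs (pullback.snd f T.hom z)
    refine ⟨i, ?_⟩
    change z ∈ Set.range (pullback.map f (Ti i).hom f T.hom (𝟙 X) (g i).left (𝟙 S) _ _)
    rw [Scheme.Pullback.range_map]
    refine ⟨?_, hi⟩
    simp
  haveI := StalkPull.isQuasicoherent_pullbackObj (pullback.fst f T.hom) F
  haveI := StalkPull.isQuasicoherent_pullbackObj (pullback.fst f T.hom) G
  -- comparison of the two pullbacks
  have key : ∀ i, Mono ((Scheme.Modules.pullback (pullback.fst f (Ti i).hom)).map u) ↔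
      Mono ((Scheme.Modules.pullback (H i)).map
        ((Scheme.Modules.pullback (pullback.fst f T.hom)).map u)) := by
    intro i
    let Φ : Scheme.Modules.pullback (pullback.fst f T.hom) ⋙ Scheme.Modules.pullback (H i) ≅
        Scheme.Modules.pullback (pullback.fst f (Ti i).hom) :=
      pullbackComp (H i) (pullback.fst f T.hom) ≪≫ pullbackCongr (hH1 i)
    exact (mono_iff_of_arrowIso (arrowIsoOfNatIso Φ u)).symm
  constructor
  · intro hm i
    rw [key i]
    exact mono_pullback_of_flat (H i) _
  · intro hm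
    apply mono_of_forall_mono_pullback (fun i => pullback f (Ti i).hom) H hHs
    intro i
    rw [← key i]
    exact hm i

end Groth.Agent.Lead.FlatPull
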