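import Mathlib
import Groth.Prelude
import Groth.Agent.Lead.FlatUnivJ
import Groth.Agent.Lead.FlatUnivK

set_option autoImplicit false
open TensorProduct Function LinearMap IsLocalRing CategoryTheory CategoryTheory.Limits AlgebraicGeometry
universe u

namespace Groth.Agent.Lead.FlatUnivL

open Groth.Agent.Lead.FlatUnivF Groth.Agent.Lead.FlatUnivG Groth.Agent.Lead.FlatUnivI
open Groth.Agent.Lead.FlatUnivJ Groth.Agent.Lead.FlatUnivK

open CategoryTheory.Limits in
theorem s5915 {X Y : Scheme.{u}} [IsLocallyNoetherian Y]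
    (f : X ⟶ Y) [LocallyOfFiniteType f] (F : X.Modules) (hF : Coh.IsCoh F) (x : X)
    (A' : CommRingCat.{u}) (φ : Y.presheaf.stalk (f.base x) ⟶ A') (hfin : φ.hom.Finite)
    (hinj : Function.Injective φ.hom) :
    FlatMod.IsFlatOverAt f F x ↔
      ∀ x' : ↥(pullback f (Spec.map φ ≫ Y.fromSpecStalk (f.base x))), pullback.fst f (Spec.map φ ≫ Y.fromSpecStalk (f.base x)) x' = x →
        IsClosed ({pullback.snd f (Spec.map φ ≫ Y.fromSpecStalk (f.base x)) x'} : Set ↥(Spec A')) →
          FlatMod.IsFlatOverAt (pullback.snd f (Spec.map φ ≫ Y.fromSpecStalk (f.base x))) ((Scheme.Modules.pullback (pullback.fst f (Spec.map φ ≫ Y.fromSpecStalk (f.base x)))).obj F) x' := by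
  haveI : F.IsQuasicoherent := hF.1
  constructor
  · intro h x' hx' _
    exact Groth.Agent.Lead.FlatBC.main_baseChange f _ _ _ (IsPullback.of_hasPullback f _) F hF.1 x'
      (by rw [hx']; exact h)
  · intro H
    letI alg : Algebra (Y.presheaf.stalk (f.base x)) A' := φ.hom.toAlgebra
    haveI : Module.Finite (Y.presheaf.stalk (f.base x)) A' := hfin
    haveI hN : IsNoetherianRing (Y.presheaf.stalk (f.base x)) := inferInstance
    haveI hloc : ∀ p : MaximalSpectrum A' × ℕ, IsLocalRing (A' ⧸ p.1.asIdeal ^ (p.2 + 1)) :=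
      fun p => by
        haveI := p.1.isMaximal
        exact isLocalRing_quot_pow p.1.asIdeal p.2
    have hmem : ∀ (𝔪 : MaximalSpectrum A') (a : Y.presheaf.stalk (f.base x)),
        a ∈ maximalIdeal (Y.presheaf.stalk (f.base x)) → φ.hom a ∈ 𝔪.asIdeal := by
      intro 𝔪 a ha
      haveI := 𝔪.isMaximal
      have h1 := comap_maximal (O := Y.presheaf.stalk (f.base x)) 𝔪.asIdeal
      rw [← h1] at ha
      exact ha
    haveI hlh : ∀ p : MaximalSpectrum A' × ℕ,
        IsLocalHom ((Ideal.Quotient.mk (p.1.asIdeal ^ (p.2 + 1))).comp φ.hom) := fun p => by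
      constructor
      intro a ha
      by_contra hna
      have h1 : φ.hom a ∈ p.1.asIdeal := hmem p.1 a ((IsLocalRing.mem_maximalIdeal a).2 hna)
      have hnil : IsNilpotent ((Ideal.Quotient.mk (p.1.asIdeal ^ (p.2 + 1))) (φ.hom a)) := by
        refine ⟨p.2 + 1, ?_⟩
        rw [← map_pow, Ideal.Quotient.eq_zero_iff_mem]
        exact Ideal.pow_mem_pow h1 _
      exact hnil.not_isUnit ha
    refine s4857 f F hF x (ι := MaximalSpectrum A' × ℕ)
      (fun p => A' ⧸ p.1.asIdeal ^ (p.2 + 1))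
      (fun p => (Ideal.Quotient.mk (p.1.asIdeal ^ (p.2 + 1))).comp φ.hom) ?_ ?_
    · intro N
      classical
      haveI := finite_maximalSpectrum (Y.presheaf.stalk (f.base x)) A'
      letI : Fintype (MaximalSpectrum A') := Fintype.ofFinite _
      obtain ⟨n, hn⟩ := exists_pow_forall_mem (O := Y.presheaf.stalk (f.base x)) (B := A') hinj N
      refine ⟨Finset.univ.image (fun 𝔪 : MaximalSpectrum A' => ((𝔪, n), n + 1)), ?_⟩
      intro a ha
      apply hn
      intro 𝔪
      simp only [Ideal.mem_iInf] at ha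
      have h1 := ha ((𝔪, n), n + 1) (Finset.mem_image.2 ⟨𝔪, Finset.mem_univ _, rfl⟩)
      rw [Ideal.mem_comap] at h1
      haveI := 𝔪.isMaximal
      haveI : IsLocalRing (A' ⧸ 𝔪.asIdeal ^ (n + 1)) := hloc (𝔪, n)
      have h2 : ((Ideal.Quotient.mk (𝔪.asIdeal ^ (n + 1))).comp φ.hom) a ∈
          maximalIdeal (A' ⧸ 𝔪.asIdeal ^ (n + 1)) ^ (n + 1) := h1
      rw [maximalIdeal_quot_pow_pow, Ideal.mem_bot] at h2
      exact Ideal.Quotient.eq_zero_iff_mem.1 h2
    · intro p x' h1 h2
      obtain ⟨𝔪, n⟩ := p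
      haveI := 𝔪.isMaximal
      haveI : IsLocalRing (A' ⧸ 𝔪.asIdeal ^ (n + 1)) := hloc (𝔪, n)
      have hq : Spec.map (CommRingCat.ofHom
          ((Ideal.Quotient.mk (𝔪.asIdeal ^ (n + 1))).comp φ.hom)) ≫ Y.fromSpecStalk (f x) =
          Spec.map (CommRingCat.ofHom (Ideal.Quotient.mk (𝔪.asIdeal ^ (n + 1)))) ≫
            (Spec.map φ ≫ Y.fromSpecStalk (f.base x)) := by
        rw [← Category.assoc, ← Spec.map_comp]
        rfl
      apply flat_of_factor f F (Spec.map φ ≫ Y.fromSpecStalk (f.base x))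
        (Spec.map (CommRingCat.ofHom (Ideal.Quotient.mk (𝔪.asIdeal ^ (n + 1))))) _ hq
      apply H
      · rw [← Scheme.Hom.comp_apply, pullback.lift_fst]
        exact h1
      · rw [← Scheme.Hom.comp_apply, pullback.lift_snd, Scheme.Hom.comp_apply, h2]
        exact (PrimeSpectrum.isClosed_singleton_iff_isMaximal (R := A') _).2
          (Ideal.comap_isMaximal_of_surjective (Ideal.Quotient.mk (𝔪.asIdeal ^ (n + 1)))
            Ideal.Quotient.mk_surjective (K := maximalIdeal _))

end Groth.Agent.Lead.FlatUnivL
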