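import Groth.Agent.Lead.LimAmpB
import Groth.Agent.Helper2.LimDesc2
import Groth.Agent.Helper2.FinLocFreeLim

set_option autoImplicit false
universe u
open CategoryTheory CategoryTheory.Limits AlgebraicGeometry Opposite TopologicalSpace

namespace Groth.Agent.Lead.FldAmp

open Groth.Agent.Helper4.PullUnit Groth.Agent.Helper4.PullSec Groth.Agent.Helper4.PullTensor
  Groth.Agent.Helper4.PullAmple Groth.Agent.Helper4.AmpleIso Groth.Agent.Helper4.TensorInv
  Groth.Agent.Lead.LimAmp

theorem isInvertible_of_rank_one {X : Scheme.{u}} (L : X.Modules)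
    (hL : FlatMod.IsFinLocFreeOfRank 1 L) : PicF.IsInvertible L := fun x => by
  obtain ⟨U, hx, ⟨e⟩⟩ := hL x
  exact ⟨U, hx, ⟨e ≪≫ Groth.Agent.Helper4.QAffSec.freeOneIso _⟩⟩

section
variable {I : Type u} [SmallCategory I] [IsCofiltered I]
  (D : I ⥤ Scheme.{u}) (c : Cone D) (hc : IsLimit c)
  [∀ (i j : I) (f : i ⟶ j), IsAffineHom (D.map f)]
  [∀ i, CompactSpace (D.obj i)] [∀ i, QuasiSeparatedSpace (D.obj i)]

include hc in
/-- an ample invertible module on the limit (not given as a pullback) comes, up to replacing it,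
from an ample invertible module on some stage -/
theorem exists_stage_ample (L' : c.pt.Modules) (hL' : CohB1.IsAmple L') :
    ∃ (j : I) (N : (D.obj j).Modules), CohB1.IsAmple N := by
  obtain ⟨i₀⟩ := IsCofiltered.nonempty (C := I)
  have hinv := hL'.1
  haveI : L'.IsQuasicoherent :=
    Groth.Agent.Helper4.QAffSec.isQuasicoherent_of_isInvertible _ hinv
  have h1 := Groth.Agent.Helper4.QAffSec.isFinLocFreeOfRank_one_of_isInvertible L' hinv
  have hfl : FlatMod.IsFinLocFree L' := fun x => by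
    obtain ⟨U, hx, hU⟩ := h1 x
    exact ⟨U, 1, hx, hU⟩
  have hfp : SheafOfModules.IsFinitePresentation (R := c.pt.ringCatSheaf) L' :=
    Groth.Agent.Helper4.FinLocFree2.isFinitePresentation_of_isFinLocFree L' hfl
  obtain ⟨i, -, Fi, hFq, hFfp, ⟨e⟩⟩ :=
    Groth.Agent.Helper2.LimDesc.exists_descend D c hc i₀ L' hfp
  haveI := hFq
  have h2 : FlatMod.IsFinLocFreeOfRank 1 ((Scheme.Modules.pullback (c.π.app i)).obj Fi) :=
    Groth.Agent.Helper2.FinLocFreeLim.isFinLocFreeOfRank_of_iso e.symm h1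
  obtain ⟨j, φ, hj⟩ := Groth.Agent.Helper2.FinLocFreeLim.exists_stage_isFinLocFreeOfRank
    D c hc i Fi hFfp 1 h2
  have hN := isInvertible_of_rank_one _ hj
  have e2 : (Scheme.Modules.pullback (c.π.app j)).obj
      ((Scheme.Modules.pullback (D.map φ)).obj Fi) ≅ L' :=
    (Scheme.Modules.pullbackComp (c.π.app j) (D.map φ)).app Fi ≪≫
      (Scheme.Modules.pullbackCongr (c.w φ)).app Fi ≪≫ e
  obtain ⟨j', hj'⟩ := exists_isAmple_stage D c hc j _ hN (isAmple_of_iso e2.symm hL')
  exact ⟨j'.left, _, hj'⟩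

end

end Groth.Agent.Lead.FldAmp
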