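import Groth.Agent.Lead.FldAmpA
import Groth.Agent.Lead.SchDescent
import Groth.Agent.Helper5.CPair4
import Groth.Agent.S4438
import Groth.Agent.S4381

set_option autoImplicit false
universe u
open CategoryTheory CategoryTheory.Limits AlgebraicGeometry Opposite TopologicalSpace

namespace Groth.Agent.Lead.FldAmp

open Groth.Agent.Helper4.PullUnit Groth.Agent.Helper4.PullSec Groth.Agent.Helper4.PullTensor
  Groth.Agent.Helper4.PullAmple Groth.Agent.Helper4.AmpleIso Groth.Agent.Helper4.TensorInv
  Groth.Agent.Lead.LimAmp Groth.Agent.Lead.LimPullback Groth.Agent.Lead.LimHom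
  Groth.Agent.Helper5.CPair

section general

theorem isPullback_comp_mono {C : Type*} [Category C] {P X Y Z W : C} {fst : P ⟶ X} {snd : P ⟶ Y}
    {f : X ⟶ Z} {g : Y ⟶ Z} (h : IsPullback fst snd f g) (i : Z ⟶ W) [Mono i] :
    IsPullback fst snd (f ≫ i) (g ≫ i) := by
  refine ⟨⟨by rw [← Category.assoc, h.w, Category.assoc]⟩, ⟨?_⟩⟩
  exact PullbackCone.isLimitOfCompMono f g i _ h.isLimit

/-- finite locally free descent of the existence of an ample module, over an affine base -/
theorem exists_ample_of_finite_free {X T S : Scheme.{u}} [IsAffine S] (p : X ⟶ S) [QuasiCompact p]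
    (q : T ⟶ X) [IsFinite q] [Surjective q] [Flat q] [LocallyOfFinitePresentation q]
    (N : T.Modules) (hN : CohB1.IsAmple N) : ∃ L : X.Modules, CohB1.IsAmple L := by
  have hfree := Groth.Agent.Helper4.FinLocFree6.isFinLocFree_push_of_finite_flat_lfp q
  have h1 : RelAmple.IsRelAmple (q ≫ p) N := (Groth.Agent.S4381.result (q ≫ p) N).mpr hN
  obtain ⟨L, -, hL⟩ := (Groth.Agent.S4438.result p q hfree).mpr ⟨N, hN.1, h1⟩
  exact ⟨L, (Groth.Agent.S4381.result p L).mp hL⟩

end general

section field
variable (k : Type u) [Field k] {X : Scheme.{u}} (p : X ⟶ Spec (CommRingCat.of k))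
  (K : Type u) [Field K] [Algebra k K]

set_option maxHeartbeats 1000000 in
set_option backward.isDefEq.respectTransparency false in
/-- existence of an ample invertible module descends along an arbitrary field extension -/
theorem exists_ample_of_baseChange
    (L' : (pullback p (Spec.map (CommRingCat.ofHom (algebraMap k K)))).Modules)
    (hL' : CohB1.IsAmple L') : ∃ L : X.Modules, CohB1.IsAmple L := by
  classical
  let a : Spec (CommRingCat.of K) ⟶ Spec (CommRingCat.of k) :=
    Spec.map (CommRingCat.ofHom (algebraMap k K))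
  have ha : a = Spec.map (CommRingCat.ofHom (algebraMap k K)) := rfl
  have hff : Module.FaithfullyFlat k K := inferInstance
  have hfs : Flat a ∧ Surjective a := by
    rw [ha, flat_and_surjective_SpecMap_iff]
    exact RingHom.faithfullyFlat_algebraMap_iff.mpr hff
  haveI := hfs.1
  haveI := hfs.2
  haveI hXKc : CompactSpace ↥(pullback p a) := hL'.2.1
  haveI hXKq : QuasiSeparatedSpace ↥(pullback p a) :=
    Groth.Agent.Helper4.AmpleBasis.quasiSeparatedSpace_of_isAmple hL'
  have hsq : IsPullback (pullback.snd p a) (pullback.fst p a) a p :=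
    (IsPullback.of_hasPullback p a).flip
  have hQa : (@Surjective ⊓ @Flat ⊓ @QuasiCompact : MorphismProperty Scheme.{u}) a :=
    ⟨⟨inferInstance, inferInstance⟩, inferInstance⟩
  haveI hqc : QuasiCompact p := MorphismProperty.of_isPullback_of_descendsAlong
    (P := @QuasiCompact) (Q := (@Surjective ⊓ @Flat ⊓ @QuasiCompact : MorphismProperty Scheme.{u}))
    hsq hQa inferInstance
  haveI hqs : QuasiSeparated p := MorphismProperty.of_isPullback_of_descendsAlong
    (P := @QuasiSeparated)
    (Q := (@Surjective ⊓ @Flat ⊓ @QuasiCompact : MorphismProperty Scheme.{u}))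
    hsq hQa inferInstance
  haveI : CompactSpace X := QuasiCompact.compactSpace_of_compactSpace p
  haveI : QuasiSeparatedSpace X := quasiSeparatedSpace_of_quasiSeparated p
  -- the base of the system
  let i₀ : (Idx k K)ᵒᵖ := op (base k K)
  let β : (D k K).obj i₀ ⟶ Spec (CommRingCat.of k) := str k K i₀
  haveI hβ : IsIso β := by
    have hbij : Function.Bijective (algebraMap k ↥(base k K).1) := by
      refine ⟨(algebraMap k ↥(base k K).1).injective, fun x => ?_⟩
      obtain ⟨c, hc⟩ := Algebra.mem_bot.mp x.2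
      exact ⟨c, Subtype.ext hc⟩
    haveI : IsIso (CommRingCat.ofHom (algebraMap k ↥(base k K).1)) :=
      (ConcreteCategory.isIso_iff_bijective _).mpr hbij
    show IsIso (Spec.map (CommRingCat.ofHom (algebraMap k ↥(base k K).1)))
    infer_instance
  let p' : X ⟶ (D k K).obj i₀ := p ≫ inv β
  let πK : Spec (CommRingCat.of K) ⟶ (D k K).obj i₀ := proj k K i₀
  have hπK : πK ≫ β = a := by rw [ha]; exact proj_str k K i₀
  haveI hA : ∀ {i j : (Idx k K)ᵒᵖ} (f : i ⟶ j), IsAffineHom ((D k K).map f) :=
    fun f => inferInstance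
  haveI : ∀ (x y : Over i₀) (f : x ⟶ y), IsAffineHom ((pbDiag (D k K) i₀ p').map f) :=
    fun x y f => isAffineHom_pbDiag_map i₀ p' f
  haveI : ∀ x : Over i₀, CompactSpace ((pbDiag (D k K) i₀ p').obj x) :=
    fun x => compactSpace_pbDiag (D k K) i₀ p' x
  haveI : ∀ x : Over i₀, QuasiSeparatedSpace ((pbDiag (D k K) i₀ p').obj x) :=
    fun x => quasiSeparatedSpace_pbDiag (D k K) i₀ p' x
  -- ampleness on the canonical limit
  have hT : IsPullback (pullback.snd πK p') (pullback.fst πK p') p' πK :=
    (IsPullback.of_hasPullback πK p').flip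
  have hT' : IsPullback (pullback.fst p a) (pullback.snd p a) p' (a ≫ inv β) :=
    isPullback_comp_mono (IsPullback.of_hasPullback p a) (inv β)
  have hτ : 𝟙 _ ≫ (a ≫ inv β) = πK := by
    rw [Category.id_comp, ← hπK, Category.assoc, IsIso.hom_inv_id, Category.comp_id]
  obtain ⟨u, hu, -⟩ := exists_affine_lift hT hT' (𝟙 _) hτ
  haveI := hu
  have hamp : CohB1.IsAmple ((Scheme.Modules.pullback u).obj L') :=
    isAmple_pullback_of_isAffineHom u hL'
  obtain ⟨j, N, hN⟩ := exists_stage_ample (pbDiag (D k K) i₀ p') (pbCone (D k K) (cone k K) i₀ p')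
    (pbConeIsLimit i₀ p' (coneIsLimit k K)) _ hamp
  -- a closed point of the stage
  haveI : Nontrivial ↥j.left.unop.1 := inferInstance
  obtain ⟨m, hm⟩ := Ideal.exists_maximal ↥j.left.unop.1
  letI : Field (↥j.left.unop.1 ⧸ m) := Ideal.Quotient.field m
  haveI : Algebra.FiniteType k ↥j.left.unop.1 :=
    (Subalgebra.fg_iff_finiteType _).mp j.left.unop.2
  haveI : Algebra.FiniteType k (↥j.left.unop.1 ⧸ m) :=
    Algebra.FiniteType.of_surjective (Ideal.Quotient.mkₐ k m) Ideal.Quotient.mk_surjective
  haveI hfin : Module.Finite k (↥j.left.unop.1 ⧸ m) :=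
    finite_of_finite_type_of_isJacobsonRing k _
  let τ : Spec (CommRingCat.of (↥j.left.unop.1 ⧸ m)) ⟶ (D k K).obj j.left :=
    Spec.map (CommRingCat.ofHom (Ideal.Quotient.mk m))
  let a' : Spec (CommRingCat.of (↥j.left.unop.1 ⧸ m)) ⟶ Spec (CommRingCat.of k) :=
    Spec.map (CommRingCat.ofHom (algebraMap k (↥j.left.unop.1 ⧸ m)))
  have hτ' : τ ≫ (D k K).map j.hom = a' ≫ inv β := by
    rw [← cancel_mono β, Category.assoc, Category.assoc, IsIso.inv_hom_id, Category.comp_id]
    have h1 : (D k K).map j.hom ≫ β = str k K j.left := map_str k K j.hom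
    rw [h1]
    show Spec.map (CommRingCat.ofHom (Ideal.Quotient.mk m)) ≫
      Spec.map (CommRingCat.ofHom (algebraMap k ↥j.left.unop.1)) = _
    rw [← Spec.map_comp]
    rfl
  have hT2 : IsPullback (pullback.fst p a') (pullback.snd p a') p' (a' ≫ inv β) :=
    isPullback_comp_mono (IsPullback.of_hasPullback p a') (inv β)
  have hTj : IsPullback (pullback.snd ((D k K).map j.hom) p')
      (pullback.fst ((D k K).map j.hom) p') p' ((D k K).map j.hom) :=
    (IsPullback.of_hasPullback _ _).flip
  haveI : IsAffineHom τ := by dsimp only [τ]; infer_instance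
  obtain ⟨v, hv, -⟩ := exists_affine_lift hT2 hTj τ hτ'
  haveI := hv
  have hamp' : CohB1.IsAmple ((Scheme.Modules.pullback v).obj N) :=
    isAmple_pullback_of_isAffineHom v hN
  -- finite free descent
  have hff' : Module.FaithfullyFlat k (↥j.left.unop.1 ⧸ m) := inferInstance
  have hfs' : Flat a' ∧ Surjective a' := by
    rw [flat_and_surjective_SpecMap_iff]
    exact RingHom.faithfullyFlat_algebraMap_iff.mpr hff'
  haveI := hfs'.1
  haveI := hfs'.2
  haveI : IsFinite a' := by
    rw [IsFinite.SpecMap_iff]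
    exact RingHom.finite_algebraMap.mpr hfin
  haveI : LocallyOfFinitePresentation a' := by
    rw [LocallyOfFinitePresentation.SpecMap_iff]
    exact RingHom.FinitePresentation.of_finiteType.mp
      (RingHom.finiteType_algebraMap.mpr inferInstance)
  exact exists_ample_of_finite_free p (pullback.fst p a') _ hamp'

end field

end Groth.Agent.Lead.FldAmp
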