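import Groth.Agent.Lead.FldAmpB
import Groth.Agent.S1497
import Groth.Agent.S1496
import Groth.Agent.Helper6.HProj

set_option autoImplicit false
universe u
open CategoryTheory CategoryTheory.Limits AlgebraicGeometry Opposite TopologicalSpace

namespace Groth.Agent.Lead.FldAmp

open Groth.Agent.Lead.SchDescent

section field
variable (k : Type u) [Field k] {X : Scheme.{u}} (p : X ⟶ Spec (CommRingCat.of k))
  (K : Type u) [Field K] [Algebra k K]

theorem fpqc_field :
    (@Surjective ⊓ @Flat ⊓ @QuasiCompact : MorphismProperty Scheme.{u})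
      (Spec.map (CommRingCat.ofHom (algebraMap k K))) := by
  have hff : Module.FaithfullyFlat k K := inferInstance
  have hfs : Flat (Spec.map (CommRingCat.ofHom (algebraMap k K))) ∧
      Surjective (Spec.map (CommRingCat.ofHom (algebraMap k K))) := by
    rw [flat_and_surjective_SpecMap_iff]
    exact RingHom.faithfullyFlat_algebraMap_iff.mpr hff
  exact ⟨⟨hfs.2, hfs.1⟩, inferInstance⟩

theorem isAmple_unit_spec (R : CommRingCat.{u}) :
    ∃ N : (Spec R).Modules, CohB1.IsAmple N :=
  ⟨_, Groth.Agent.Helper4.AmpleIso.isQuasiAffine_iff_isAmple_unit.mp inferInstance⟩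

/-- quasi-projectivity descends along field extensions -/
theorem isQuasiProjective_of_baseChange
    (h : RelProj.IsQuasiProjective (pullback.snd p (Spec.map (CommRingCat.ofHom (algebraMap k K))))) :
    RelProj.IsQuasiProjective p := by
  obtain ⟨hlft, hqc, L', hL'⟩ := h
  haveI := hqc
  have hsq : IsPullback (pullback.snd p (Spec.map (CommRingCat.ofHom (algebraMap k K))))
      (pullback.fst p (Spec.map (CommRingCat.ofHom (algebraMap k K))))
      (Spec.map (CommRingCat.ofHom (algebraMap k K))) p := (IsPullback.of_hasPullback p _).flip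
  have hlft' : LocallyOfFiniteType p := MorphismProperty.of_isPullback_of_descendsAlong
    (P := @LocallyOfFiniteType)
    (Q := (@Surjective ⊓ @Flat ⊓ @QuasiCompact : MorphismProperty Scheme.{u}))
    hsq (fpqc_field k K) hlft
  haveI hqc' : QuasiCompact p := MorphismProperty.of_isPullback_of_descendsAlong
    (P := @QuasiCompact)
    (Q := (@Surjective ⊓ @Flat ⊓ @QuasiCompact : MorphismProperty Scheme.{u}))
    hsq (fpqc_field k K) hqc
  have hamp : CohB1.IsAmple L' := (Groth.Agent.S4381.result _ L').mp hL'
  obtain ⟨L, hL⟩ := exists_ample_of_baseChange k p K L' hamp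
  exact ⟨hlft', hqc', L, (Groth.Agent.S4381.result p L).mpr hL⟩

/-- immersions into projective space descend along field extensions -/
theorem exists_immersion_of_baseChange
    (h : ∃ (n : ℕ) (i : pullback p (Spec.map (CommRingCat.ofHom (algebraMap k K))) ⟶
        CohB1.ProjSpaceOver n (Spec (CommRingCat.of K))),
      IsImmersion i ∧ i ≫ CohB1.ProjSpaceOver.toBase n (Spec (CommRingCat.of K)) =
        pullback.snd p (Spec.map (CommRingCat.ofHom (algebraMap k K)))) :
    ∃ (n : ℕ) (i : X ⟶ CohB1.ProjSpaceOver n (Spec (CommRingCat.of k))),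
      IsImmersion i ∧ i ≫ CohB1.ProjSpaceOver.toBase n (Spec (CommRingCat.of k)) = p := by
  obtain ⟨n, i, hi, hip⟩ := h
  -- projective space over a field is Noetherian
  haveI : IsProper (CohB1.ProjSpaceOver.toBase n (Spec (CommRingCat.of K))) :=
    Groth.Agent.Helper6.HProj.isProper_toBase n _
  haveI : IsLocallyNoetherian (CohB1.ProjSpaceOver n (Spec (CommRingCat.of K))) :=
    LocallyOfFiniteType.isLocallyNoetherian (CohB1.ProjSpaceOver.toBase n (Spec (CommRingCat.of K)))
  haveI : CompactSpace (CohB1.ProjSpaceOver n (Spec (CommRingCat.of K))) :=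
    QuasiCompact.compactSpace_of_compactSpace
      (CohB1.ProjSpaceOver.toBase n (Spec (CommRingCat.of K)))
  haveI : IsNoetherian (CohB1.ProjSpaceOver n (Spec (CommRingCat.of K))) := { }
  haveI : NoetherianSpace ↥(pullback p (Spec.map (CommRingCat.ofHom (algebraMap k K)))) :=
    i.isEmbedding.isInducing.noetherianSpace
  haveI : QuasiCompact i := inferInstance
  have h1 := (Groth.Agent.S1497.result (isAmple_unit_spec _)
    (pullback.snd p (Spec.map (CommRingCat.ofHom (algebraMap k K))))).mp ⟨n, i, hi, inferInstance, hip⟩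
  obtain ⟨hlft, hqc, L', hL'⟩ := h1
  have hqp : RelProj.IsQuasiProjective
      (pullback.snd p (Spec.map (CommRingCat.ofHom (algebraMap k K)))) :=
    ⟨hlft, hqc, L', by haveI := hqc; exact (Groth.Agent.S4381.result _ L').mpr hL'⟩
  obtain ⟨hlft', hqc', L, hL⟩ := isQuasiProjective_of_baseChange k p K hqp
  haveI := hqc'
  have hL2 : CohB1.IsAmple L := (Groth.Agent.S4381.result p L).mp hL
  obtain ⟨m, j, hj, -, hjp⟩ := (Groth.Agent.S1497.result (isAmple_unit_spec _) p).mpr
    ⟨hlft', hqc', L, hL2⟩
  exact ⟨m, j, hj, hjp⟩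

/-- closed immersions into projective space descend along field extensions -/
theorem exists_closedImmersion_of_baseChange
    (h : ∃ (n : ℕ) (i : pullback p (Spec.map (CommRingCat.ofHom (algebraMap k K))) ⟶
        CohB1.ProjSpaceOver n (Spec (CommRingCat.of K))),
      IsClosedImmersion i ∧ i ≫ CohB1.ProjSpaceOver.toBase n (Spec (CommRingCat.of K)) =
        pullback.snd p (Spec.map (CommRingCat.ofHom (algebraMap k K)))) :
    ∃ (n : ℕ) (i : X ⟶ CohB1.ProjSpaceOver n (Spec (CommRingCat.of k))),
      IsClosedImmersion i ∧ i ≫ CohB1.ProjSpaceOver.toBase n (Spec (CommRingCat.of k)) = p := by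
  obtain ⟨n, i, hi, hip⟩ := h
  have h1 := ((Groth.Agent.S1496.result (isAmple_unit_spec _)
    (pullback.snd p (Spec.map (CommRingCat.ofHom (algebraMap k K))))).1).mp ⟨n, i, hi, hip⟩
  obtain ⟨hprop, L', hL'⟩ := h1
  have hsq : IsPullback (pullback.snd p (Spec.map (CommRingCat.ofHom (algebraMap k K))))
      (pullback.fst p (Spec.map (CommRingCat.ofHom (algebraMap k K))))
      (Spec.map (CommRingCat.ofHom (algebraMap k K))) p := (IsPullback.of_hasPullback p _).flip
  have hprop' : IsProper p := MorphismProperty.of_isPullback_of_descendsAlong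
    (P := @IsProper)
    (Q := (@Surjective ⊓ @Flat ⊓ @QuasiCompact : MorphismProperty Scheme.{u}))
    hsq (fpqc_field k K) hprop
  obtain ⟨L, hL⟩ := exists_ample_of_baseChange k p K L' hL'
  exact ((Groth.Agent.S1496.result (isAmple_unit_spec _) p).1).mpr ⟨hprop', L, hL⟩

end field

end Groth.Agent.Lead.FldAmp
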