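import Mathlib
import Groth.Agent.Helper1.CoprodFilt

set_option autoImplicit false
set_option linter.style.haveILetI false
universe u v' u'
open CategoryTheory CategoryTheory.Limits

namespace Groth.Agent.Lead.FpAdd

variable (A : Type u) [CommRing A] {B : Type u'} [Category.{v'} B]

/-- the property of being finitely presented -/
abbrev fpP : ObjectProperty (ModuleCat.{u} A) := fun M => Module.FinitePresentation A M

section Stage2

variable {A}
variable {Q : ModuleCat.{u} A} {n : ℕ} (π : (Fin n → A) →ₗ[A] Q)

/-- finitely generated submodules of the kernel -/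
abbrev Idx : Type u :=
  {K' : Submodule A (Fin n → A) // K'.FG ∧ K' ≤ LinearMap.ker π}

instance : Nonempty (Idx π) := ⟨⟨⊥, Submodule.fg_bot, bot_le⟩⟩

instance : IsDirectedOrder (Idx π) where
  directed K₁ K₂ := ⟨⟨K₁.1 ⊔ K₂.1, K₁.2.1.sup K₂.2.1, sup_le K₁.2.2 K₂.2.2⟩,
    Subtype.coe_le_coe.mp le_sup_left, Subtype.coe_le_coe.mp le_sup_right⟩

/-- the diagram of finitely presented quotients -/
noncomputable def diag : Idx π ⥤ ModuleCat.{u} A where
  obj K' := ModuleCat.of A ((Fin n → A) ⧸ K'.1)
  map {K₁ K₂} h := ModuleCat.ofHom (Submodule.mapQ K₁.1 K₂.1 LinearMap.id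
    (by rw [Submodule.comap_id]; exact Subtype.coe_le_coe.mpr h.le))
  map_id K' := by
    apply ModuleCat.hom_ext
    apply Submodule.linearMap_qext
    ext x
    simp
  map_comp {K₁ K₂ K₃} f g := by
    apply ModuleCat.hom_ext
    apply Submodule.linearMap_qext
    ext x
    simp

theorem diag_map_mk {K₁ K₂ : Idx π} (h : K₁ ⟶ K₂) (v : Fin n → A) :
    ((diag π).map h).hom (Submodule.Quotient.mk v) = Submodule.Quotient.mk v := rfl

/-- the cocone over `Q` -/
noncomputable def cocone : Cocone (diag π) where
  pt := Q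
  ι :=
    { app := fun K' => ModuleCat.ofHom (K'.1.liftQ π K'.2.2)
      naturality := fun K₁ K₂ h => by
        apply ModuleCat.hom_ext
        apply Submodule.linearMap_qext
        ext x
        simp [diag] }

theorem cocone_app_mk (K' : Idx π) (v : Fin n → A) :
    ((cocone π).ι.app K').hom (Submodule.Quotient.mk v) = π v := rfl

/-- the bottom index -/
abbrev bot' : Idx π := ⟨⊥, Submodule.fg_bot, bot_le⟩

theorem leg_eq (s : Cocone (diag π)) (K' : Idx π) (v : Fin n → A) :
    (s.ι.app K').hom (Submodule.Quotient.mk v) =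
      (s.ι.app (bot' π)).hom (Submodule.Quotient.mk v) := by
  have hle : bot' π ≤ K' := Subtype.coe_le_coe.mp bot_le
  have h := s.w (homOfLE hle)
  have h2 := congrArg (fun φ => φ.hom (Submodule.Quotient.mk v)) h
  simp only [ModuleCat.hom_comp, LinearMap.comp_apply] at h2
  rw [← h2, diag_map_mk]

theorem leg_ker (s : Cocone (diag π)) (v : Fin n → A) (hv : v ∈ LinearMap.ker π) :
    (s.ι.app (bot' π)).hom (Submodule.Quotient.mk v) = 0 := by
  let K₁ : Idx π := ⟨Submodule.span A {v}, Submodule.fg_span_singleton v,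
    (Submodule.span_singleton_le_iff_mem v _).mpr hv⟩
  rw [← leg_eq π s K₁ v]
  have : (Submodule.Quotient.mk v : (Fin n → A) ⧸ K₁.1) = 0 :=
    (Submodule.Quotient.mk_eq_zero _).mpr (Submodule.mem_span_singleton_self v)
  have h0 : (s.ι.app K₁).hom (Submodule.Quotient.mk v : (Fin n → A) ⧸ K₁.1) =
      (s.ι.app K₁).hom (0 : (Fin n → A) ⧸ K₁.1) := congrArg (fun z => (s.ι.app K₁).hom z) this
  exact h0.trans (map_zero _)

variable (hπ : Function.Surjective π)

/-- the descent map -/
noncomputable def descLin (s : Cocone (diag π)) : Q →ₗ[A] s.pt :=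
  ((LinearMap.ker π).liftQ ((s.ι.app (bot' π)).hom ∘ₗ (Submodule.mkQ ⊥))
    (fun v hv => by
      rw [LinearMap.mem_ker, LinearMap.comp_apply]
      exact leg_ker π s v hv)) ∘ₗ (π.quotKerEquivOfSurjective hπ).symm.toLinearMap

theorem descLin_apply (s : Cocone (diag π)) (v : Fin n → A) :
    descLin π hπ s (π v) = (s.ι.app (bot' π)).hom (Submodule.Quotient.mk v) := by
  have h1 : (π.quotKerEquivOfSurjective hπ).symm (π v) = Submodule.Quotient.mk v := by
    rw [LinearEquiv.symm_apply_eq]
    rfl
  simp only [descLin, LinearMap.comp_apply, LinearEquiv.coe_coe, h1]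
  rfl

/-- the cocone is a colimit -/
noncomputable def isColimit : IsColimit (cocone π) where
  desc s := ModuleCat.ofHom (descLin π hπ s)
  fac s K' := by
    apply ModuleCat.hom_ext
    apply Submodule.linearMap_qext
    refine LinearMap.ext fun v => ?_
    change descLin π hπ s (((cocone π).ι.app K').hom (Submodule.Quotient.mk v)) =
      (s.ι.app K').hom (Submodule.Quotient.mk v)
    rw [cocone_app_mk, descLin_apply, leg_eq π s K']
  uniq s m hm := by
    apply ModuleCat.hom_ext
    ext q
    obtain ⟨v, rfl⟩ := hπ q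
    change m.hom (π v) = descLin π hπ s (π v)
    rw [descLin_apply, ← hm (bot' π)]
    rfl

theorem fp_obj (K' : Idx π) : Module.FinitePresentation A ((diag π).obj K') := by
  change Module.FinitePresentation A ((Fin n → A) ⧸ K'.1)
  refine Module.finitePresentation_of_surjective K'.1.mkQ (Submodule.mkQ_surjective _) ?_
  rw [Submodule.ker_mkQ]
  exact K'.2.1

end Stage2

variable {A}
variable (F' : ModuleCat.{u} A ⥤ B) [PreservesFilteredColimitsOfSize.{u, u} F']

/-- morphisms out of `F' Q`, `Q` finitely generated, are determined on finitely presented modules -/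
theorem hom_ext_fp (Q : ModuleCat.{u} A) (hQ : Module.Finite A Q) {Z : B} (a b : F'.obj Q ⟶ Z)
    (h : ∀ (P : ModuleCat.{u} A) (_ : Module.FinitePresentation A P) (p : P ⟶ Q),
      F'.map p ≫ a = F'.map p ≫ b) : a = b := by
  obtain ⟨n, π, hπ⟩ := Module.Finite.exists_fin' A Q
  haveI : PreservesColimitsOfShape (Idx π) F' :=
    PreservesFilteredColimitsOfSize.preserves_filtered_colimits (Idx π)
  have hc' := isColimitOfPreserves F' (isColimit π hπ)
  apply hc'.hom_ext
  intro K'
  exact h _ (fp_obj π K') _

/-- morphisms out of `F' M` are determined on finitely generated modules -/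
theorem hom_ext_fg (M : ModuleCat.{u} A) {Z : B} (a b : F'.obj M ⟶ Z)
    (h : ∀ (Q : ModuleCat.{u} A) (_ : Module.Finite A Q) (q : Q ⟶ M),
      F'.map q ≫ a = F'.map q ≫ b) : a = b := by
  classical
  haveI : Nonempty {N : Submodule A M // N.FG} := ⟨⟨⊥, Submodule.fg_bot⟩⟩
  let c := ModuleCat.directLimitCocone (R := A) (fun N : {N : Submodule A M // N.FG} => N.1)
    (Module.fgSystem A M)
  have hc : IsColimit c := ModuleCat.directLimitIsColimit _ _
  haveI : PreservesColimitsOfShape {N : Submodule A M // N.FG} F' :=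
    PreservesFilteredColimitsOfSize.preserves_filtered_colimits _
  have hc' := isColimitOfPreserves F' hc
  let e : c.pt ≅ M := (Module.fgSystem.equiv A M).toModuleIso
  have key : F'.map e.hom ≫ a = F'.map e.hom ≫ b := by
    apply hc'.hom_ext
    intro N
    change F'.map (c.ι.app N) ≫ F'.map e.hom ≫ a = F'.map (c.ι.app N) ≫ F'.map e.hom ≫ b
    rw [← Category.assoc, ← Category.assoc, ← F'.map_comp]
    refine h _ ?_ _
    change Module.Finite A N.1
    exact Module.Finite.iff_fg.mpr N.2
  exact (cancel_epi (F'.map e.hom)).mp key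

variable [Preadditive B]

/-- additivity for finitely presented source -/
theorem map_add_of_fp [((fpP A).ι ⋙ F').Additive]
    {M N : ModuleCat.{u} A} (hM : Module.FinitePresentation A M) (f g : M ⟶ N) :
    F'.map (f + g) = F'.map f + F'.map g := by
  let P : ModuleCat.{u} A := ModuleCat.of A (M × M)
  have hP : Module.FinitePresentation A P := by
    change Module.FinitePresentation A (M × M)
    infer_instance
  let il : M ⟶ P := ModuleCat.ofHom (LinearMap.inl A M M)
  let ir : M ⟶ P := ModuleCat.ofHom (LinearMap.inr A M M)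
  let d : P ⟶ N := ModuleCat.ofHom (f.hom.coprod g.hom)
  have h1 : il ≫ d = f := by
    apply ModuleCat.hom_ext
    ext x
    simp only [il, d, ModuleCat.hom_comp, ModuleCat.hom_ofHom, LinearMap.comp_apply]
    rw [LinearMap.inl_apply, LinearMap.coprod_apply]
    simp
  have h2 : ir ≫ d = g := by
    apply ModuleCat.hom_ext
    ext x
    simp only [ir, d, ModuleCat.hom_comp, ModuleCat.hom_ofHom, LinearMap.comp_apply]
    rw [LinearMap.inr_apply, LinearMap.coprod_apply]
    simp
  let X : (fpP A).FullSubcategory := ⟨M, hM⟩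
  let Y : (fpP A).FullSubcategory := ⟨P, hP⟩
  have h3 := ((fpP A).ι ⋙ F').map_add (f := ((fpP A).homMk il : X ⟶ Y))
    (g := ((fpP A).homMk ir : X ⟶ Y))
  have h4 : F'.map (il + ir) = F'.map il + F'.map ir := h3
  calc F'.map (f + g) = F'.map ((il + ir) ≫ d) := by rw [Preadditive.add_comp, h1, h2]
    _ = (F'.map il + F'.map ir) ≫ F'.map d := by rw [F'.map_comp, h4]
    _ = F'.map f + F'.map g := by
      rw [Preadditive.add_comp, ← F'.map_comp, ← F'.map_comp, h1, h2]

/-- additivity for finitely generated source -/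
theorem map_add_of_fg [((fpP A).ι ⋙ F').Additive]
    {M N : ModuleCat.{u} A} (hM : Module.Finite A M) (f g : M ⟶ N) :
    F'.map (f + g) = F'.map f + F'.map g := by
  apply hom_ext_fp F' M hM
  intro P hP p
  rw [Preadditive.comp_add, ← F'.map_comp, ← F'.map_comp, ← F'.map_comp, Preadditive.comp_add]
  exact map_add_of_fp F' hP _ _

/-- additivity -/
theorem additive [((fpP A).ι ⋙ F').Additive] : F'.Additive where
  map_add {M N f g} := by
    apply hom_ext_fg F' M
    intro Q hQ q
    rw [Preadditive.comp_add, ← F'.map_comp, ← F'.map_comp, ← F'.map_comp, Preadditive.comp_add]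
    exact map_add_of_fg F' hQ _ _

/-- an additive functor preserving filtered colimits preserves coproducts -/
theorem preservesCoproducts [HasFiniteBiproducts B] [HasFilteredColimitsOfSize.{u, u} B]
    [F'.Additive] (J : Type u) : PreservesColimitsOfShape (Discrete J) F' := by
  haveI : HasColimitsOfShape (Finset (Discrete J)) B :=
    HasFilteredColimitsOfSize.HasColimitsOfShape _
  haveI : PreservesColimitsOfShape (Finset (Discrete J)) F' :=
    PreservesFilteredColimitsOfSize.preserves_filtered_colimits _
  haveI : HasCoproducts.{u} B := hasCoproducts_of_finite_and_filtered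
  constructor
  intro K
  haveI : IsIso (sigmaComparison F' (K.obj ∘ Discrete.mk)) :=
    Groth.Agent.Helper1.CoprodFilt.isIso_sigmaComparison F' (K.obj ∘ Discrete.mk)
  haveI : PreservesColimit (Discrete.functor (K.obj ∘ Discrete.mk)) F' :=
    PreservesCoproduct.of_iso_comparison F' (K.obj ∘ Discrete.mk)
  exact preservesColimit_of_iso_diagram F' (Discrete.natIsoFunctor (F := K)).symm

/-- main theorem -/
theorem main [HasFiniteBiproducts B] [HasFilteredColimitsOfSize.{u, u} B]
    [((fpP A).ι ⋙ F').Additive] :
    F'.Additive ∧ ∀ J : Type u, PreservesColimitsOfShape (Discrete J) F' := by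
  haveI : F'.Additive := additive F'
  exact ⟨inferInstance, fun J => preservesCoproducts F' J⟩

end Groth.Agent.Lead.FpAdd
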