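import Groth.Agent.Helper7.CKs1
import Groth.Agent.Helper5.RegCl
import Groth.Agent.Helper2.GLoc

/-!
# G-schemes: it suffices to test completions at closed points
-/

set_option autoImplicit false
set_option linter.style.haveILetI false
universe u
open CategoryTheory AlgebraicGeometry Opposite TopologicalSpace IsLocalRing

namespace Groth.Agent.Lead.GSch
open Groth.Agent.Helper4

variable {X : Scheme.{u}}

/-- the completion map of the local ring at `x` is regular -/
def Good (X : Scheme.{u}) (x : X) : Prop :=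
  CAlg.IsRegularHom (X.presheaf.stalk x) (EGA4.Cpl (X.presheaf.stalk x))

theorem isNoetherianRing_stalk {U : X.Opens} (hU : IsAffineOpen U) [IsNoetherianRing Γ(X, U)]
    {x : X} (hxU : x ∈ U) : IsNoetherianRing (X.presheaf.stalk x) := by
  letI := X.presheaf.algebra_section_stalk ⟨x, hxU⟩
  haveI := hU.isLocalization_stalk ⟨x, hxU⟩
  exact IsLocalization.isNoetherianRing (hU.primeIdealOf ⟨x, hxU⟩).asIdeal.primeCompl _ inferInstance

theorem good_of_isGRing {U : X.Opens} (hU : IsAffineOpen U) (hG : CAlg.IsGRing Γ(X, U))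
    {x : X} (hxU : x ∈ U) : Good X x := by
  haveI : IsNoetherianRing Γ(X, U) := hG.1
  haveI := isNoetherianRing_stalk hU hxU
  letI := X.presheaf.algebra_section_stalk ⟨x, hxU⟩
  haveI := hU.isLocalization_stalk ⟨x, hxU⟩
  haveI : IsNoetherianRing (Localization.AtPrime (hU.primeIdealOf ⟨x, hxU⟩).asIdeal) :=
    IsLocalization.isNoetherianRing (hU.primeIdealOf ⟨x, hxU⟩).asIdeal.primeCompl _ inferInstance
  exact Groth.Agent.Helper2.GLoc.isRegularHom_cpl_of_ringEquiv
    (IsLocalization.algEquiv (hU.primeIdealOf ⟨x, hxU⟩).asIdeal.primeCompl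
      (Localization.AtPrime (hU.primeIdealOf ⟨x, hxU⟩).asIdeal)
      (X.presheaf.stalk x)).toRingEquiv (hG.2 (hU.primeIdealOf ⟨x, hxU⟩).asIdeal)

theorem isGRing_of_good {U : X.Opens} (hU : IsAffineOpen U) [hN : IsNoetherianRing Γ(X, U)]
    (h : ∀ x ∈ U, Good X x) : CAlg.IsGRing Γ(X, U) := by
  refine ⟨hN, fun p hp => ?_⟩
  set y : PrimeSpectrum Γ(X, U) := ⟨p, hp⟩ with hy
  have hyU : hU.fromSpec y ∈ U := by
    have := hU.range_fromSpec
    rw [← SetLike.mem_coe, ← this]
    exact ⟨y, rfl⟩
  have h1 := hU.isLocalization_stalk' y hyU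
  haveI := isNoetherianRing_stalk hU hyU
  haveI : IsNoetherianRing (Localization.AtPrime p) :=
    IsLocalization.isNoetherianRing p.primeCompl _ inferInstance
  letI := TopCat.Presheaf.algebra_section_stalk X.presheaf ⟨hU.fromSpec y, hyU⟩
  haveI : IsLocalization p.primeCompl (X.presheaf.stalk (hU.fromSpec y)) := h1
  exact Groth.Agent.Helper2.GLoc.isRegularHom_cpl_of_ringEquiv
    (IsLocalization.algEquiv p.primeCompl (Localization.AtPrime p)
      (X.presheaf.stalk (hU.fromSpec y))).toRingEquiv.symm (h _ hyU)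

/-- goodness generizes -/
theorem good_of_specializes {U : X.Opens} (hU : IsAffineOpen U) [IsNoetherianRing Γ(X, U)]
    {x c : X} (hxU : x ∈ U) (hcU : c ∈ U) (hxc : x ⤳ c) (hc : Good X c) : Good X x := by
  haveI := isNoetherianRing_stalk hU hxU
  haveI := isNoetherianRing_stalk hU hcU
  letI := X.presheaf.algebra_section_stalk ⟨c, hcU⟩
  letI := X.presheaf.algebra_section_stalk ⟨x, hxU⟩
  haveI := hU.isLocalization_stalk ⟨c, hcU⟩
  haveI := hU.isLocalization_stalk ⟨x, hxU⟩
  have hG : CAlg.IsGRing (X.presheaf.stalk c) :=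
    Groth.Agent.Helper7.CKd.isGRing_of_isRegularHom_cpl _ hc
  set p := (hU.primeIdealOf ⟨c, hcU⟩).asIdeal with hp
  set p' := (hU.primeIdealOf ⟨x, hxU⟩).asIdeal with hp'
  have hle : p' ≤ p := SuppDict.primeIdealOf_le_of_specializes hU hxU hcU hxc
  have hdisj : Disjoint (p.primeCompl : Set Γ(X, U)) (p' : Set Γ(X, U)) := by
    rw [Set.disjoint_left]
    intro b hb hb'
    exact hb (hle hb')
  haveI hq : (Ideal.map (algebraMap Γ(X, U) (X.presheaf.stalk c)) p').IsPrime :=
    IsLocalization.isPrime_of_isPrime_disjoint p.primeCompl _ p' inferInstance hdisj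
  have hcm : Ideal.comap (algebraMap Γ(X, U) (X.presheaf.stalk c))
      (Ideal.map (algebraMap Γ(X, U) (X.presheaf.stalk c)) p') = p' :=
    IsLocalization.comap_map_of_isPrime_disjoint p.primeCompl _ inferInstance hdisj
  set q := Ideal.map (algebraMap Γ(X, U) (X.presheaf.stalk c)) p' with hqdef
  haveI h1 : IsLocalization.AtPrime (Localization.AtPrime q)
      (Ideal.comap (algebraMap Γ(X, U) (X.presheaf.stalk c)) q) :=
    IsLocalization.isLocalization_isLocalization_atPrime_isLocalization p.primeCompl _ _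
  haveI h2 : IsLocalization.AtPrime (Localization.AtPrime q) p' := by
    convert h1 using 2
    exact hcm.symm
  haveI : IsNoetherianRing (Localization.AtPrime q) :=
    IsLocalization.isNoetherianRing q.primeCompl _ inferInstance
  exact Groth.Agent.Helper2.GLoc.isRegularHom_cpl_of_ringEquiv
    (IsLocalization.algEquiv p'.primeCompl (Localization.AtPrime q)
      (X.presheaf.stalk x)).toRingEquiv (hG.2 q)

theorem good_all [IsLocallyNoetherian X]
    (h : ∀ x : X, IsClosed ({x} : Set X) → Good X x) (x : X) : Good X x := by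
  obtain ⟨c, hcl, hxc, U, hU, hcU, hxU⟩ := Groth.Agent.Helper5.RegCl.specializes_closed_affine x
  haveI : IsNoetherianRing Γ(X, U) := IsLocallyNoetherian.component_noetherian ⟨U, hU⟩
  exact good_of_specializes hU hxU hcU hxc (h c hcl)

theorem main (X : Scheme.{u}) :
    (∀ x : X, ∃ U : X.Opens, x ∈ U ∧ IsAffineOpen U ∧ CAlg.IsGRing Γ(X, U)) ↔
      IsLocallyNoetherian X ∧ ∀ x : X, IsClosed ({x} : Set X) →
        CAlg.IsRegularHom (X.presheaf.stalk x)
          (AdicCompletion (IsLocalRing.maximalIdeal (X.presheaf.stalk x)) (X.presheaf.stalk x)) := by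
  constructor
  · intro H
    choose V hxV hVaff hVG using H
    refine ⟨?_, fun x _ => good_of_isGRing (hVaff x) (hVG x) (hxV x)⟩
    exact isLocallyNoetherian_of_affine_cover (S := fun x : X => (⟨V x, hVaff x⟩ : X.affineOpens))
      (by
        rw [eq_top_iff]
        intro x _
        exact TopologicalSpace.Opens.mem_iSup.mpr ⟨x, hxV x⟩)
      (fun x => (hVG x).1)
  · rintro ⟨hN, h⟩ x
    haveI := hN
    obtain ⟨_, ⟨U, hU, rfl⟩, hxU, -⟩ := X.isBasis_affineOpens.exists_subset_of_mem_open
      (Set.mem_univ x) isOpen_univ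
    haveI : IsNoetherianRing Γ(X, U) := IsLocallyNoetherian.component_noetherian ⟨U, hU⟩
    exact ⟨U, hxU, hU, isGRing_of_good hU fun y _ => good_all h y⟩

end Groth.Agent.Lead.GSch
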