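import Mathlib
import Groth.Prelude.Def_CxOX
import Groth.Prelude.Def_Coh
import Groth.Agent.Helper4.SubSec
import Groth.Agent.Helper4.StalkDict
import Groth.Agent.Helper4.AssDict
import Groth.Agent.Helper4.QcqsMod

set_option autoImplicit false
universe u
open CategoryTheory CategoryTheory.Limits AlgebraicGeometry TopologicalSpace Opposite

namespace Groth.Agent.Lead.GammaZSec

open Groth.Agent.Helper4

variable {X : Scheme.{u}}

/-- a section killed by a power of `f` vanishes on the basic open of `f` -/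
theorem res_basicOpen_eq_zero (F : X.Modules) {V : X.Opens} (f : Γ(X, V)) (s : Γ(F, V)) (n : ℕ)
    (h : f ^ n • s = 0) : F.presheaf.map (homOfLE (X.basicOpen_le f)).op s = 0 := by
  have h1 : F.presheaf.map (homOfLE (X.basicOpen_le f)).op (f ^ n • s) = 0 := by
    rw [h, map_zero]
  rw [Scheme.Modules.map_smul] at h1
  have hu : IsUnit ((X.presheaf.map (homOfLE (X.basicOpen_le f)).op).hom (f ^ n)) := by
    rw [map_pow]
    exact (RingedSpace.isUnit_res_basicOpen X.toRingedSpace f).pow n
  obtain ⟨u, hu'⟩ := hu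
  have h2 : (↑u⁻¹ : Γ(X, X.basicOpen f)) •
      ((X.presheaf.map (homOfLE (X.basicOpen_le f)).op).hom (f ^ n) •
        F.presheaf.map (homOfLE (X.basicOpen_le f)).op s) = 0 := by
    rw [h1, smul_zero]
  rw [← hu', smul_smul, Units.inv_mul, one_smul] at h2
  exact h2


set_option backward.isDefEq.respectTransparency false in
/-- S12903 -/
theorem main {U X : Scheme.{u}} (j : U ⟶ X) [IsOpenImmersion j] [QuasiCompact j]
    (F : X.Modules) (hF : Coh.IsQCoh F) (V : X.Opens) (hV : IsAffineOpen V)
    (I : Ideal (X.ringCatSheaf.obj.obj (op V))) (hI : I.FG)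
    (hZ : ∀ x : X, x ∈ V → (x ∉ Set.range j.base ↔ ∀ f ∈ I, x ∉ X.basicOpen (f : Γ(X, V))))
    (s : F.val.obj (op V)) :
    s ∈ Set.range ((((CxOX.gammaZι j).app F).val.app (op V)).hom) ↔
      ∃ n : ℕ, ∀ a ∈ I ^ n, a • s = 0 := by
  haveI : F.IsQuasicoherent := hF
  -- reformulate membership
  have h1 : s ∈ Set.range ((((CxOX.gammaZι j).app F).val.app (op V)).hom) ↔
      F.presheaf.map (homOfLE (j.image_preimage_le V)).op (show Γ(F, V) from s) = 0 := by
    have := SubSec.exists_kernel_section_iff ((Scheme.Modules.restrictAdjunction j).unit.app F) V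
      (show Γ(F, V) from s)
    rw [Scheme.Modules.restrictAdjunction_unit_app_app] at this
    exact this
  rw [h1]
  -- membership in the open
  have hW : ∀ x : X, x ∈ j ''ᵁ (j ⁻¹ᵁ V) ↔ x ∈ V ∧ x ∈ Set.range j.base := by
    intro x
    rw [Scheme.Hom.image_preimage_eq_opensRange_inf]
    constructor
    · rintro ⟨h1, h2⟩
      exact ⟨h2, h1⟩
    · rintro ⟨h1, h2⟩
      exact ⟨h2, h1⟩
  constructor
  · intro hs
    -- annihilator
    obtain ⟨K, hK⟩ : ∃ K : Ideal Γ(X, V), K =
        LinearMap.ker (LinearMap.toSpanSingleton Γ(X, V) Γ(F, V) (show Γ(F, V) from s)) := ⟨_, rfl⟩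
    have hle : (show Ideal Γ(X, V) from I) ≤ K.radical := by
      intro f hf
      have hle : X.basicOpen f ≤ j ''ᵁ (j ⁻¹ᵁ V) := by
        intro x hx
        rw [hW]
        refine ⟨X.basicOpen_le f hx, ?_⟩
        by_contra hn
        exact (hZ x (X.basicOpen_le f hx)).mp hn f hf hx
      have h0 : F.presheaf.map (homOfLE (X.basicOpen_le f)).op (show Γ(F, V) from s) = 0 := by
        have : F.presheaf.map (homOfLE hle).op
            (F.presheaf.map (homOfLE (j.image_preimage_le V)).op (show Γ(F, V) from s)) = 0 := by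
          rw [hs, map_zero]
        rw [← ConcreteCategory.comp_apply, ← Functor.map_comp] at this
        exact this
      obtain ⟨n, hn⟩ := StalkDict.exists_pow_smul_eq_zero hV F f _ h0
      refine ⟨n, ?_⟩
      rw [hK, LinearMap.mem_ker, LinearMap.toSpanSingleton_apply]
      exact hn
    obtain ⟨k, hk⟩ := Ideal.exists_pow_le_of_le_radical_of_fg hle hI
    refine ⟨k, fun a ha => ?_⟩
    have := hk ha
    rw [hK, LinearMap.mem_ker, LinearMap.toSpanSingleton_apply] at this
    exact this
  · rintro ⟨n, hn⟩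
    apply AssDict.section_eq_zero_of_germ
    intro x hx
    obtain ⟨hxV, hxU⟩ := (hW x).mp hx
    have : ¬ ∀ f ∈ I, x ∉ X.basicOpen (f : Γ(X, V)) := fun h => (hZ x hxV).mpr h hxU
    push_neg at this
    obtain ⟨f, hf, hxf⟩ := this
    have hfn : (show Γ(X, V) from f) ^ n • (show Γ(F, V) from s) = 0 :=
      hn _ (Ideal.pow_mem_pow hf n)
    have h0 := res_basicOpen_eq_zero F (show Γ(X, V) from f) _ n hfn
    rw [QcqsMod.germ_res F (j.image_preimage_le V) x hx, ← QcqsMod.germ_res F (X.basicOpen_le f) x hxf,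
      h0, map_zero]

end Groth.Agent.Lead.GammaZSec
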