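import Mathlib
import Groth.Prelude
import Groth.Agent.Lead.FTDesc
import Groth.Agent.Helper4.StalkDict
import Groth.Agent.Helper1.LG4

/-!
# Lead.GenCount : "locally generated by at most `r` sections" descends along fpqc covers
(for quasi-coherent modules)
-/

set_option autoImplicit false
set_option linter.style.haveILetI false
set_option linter.unusedVariables false
universe u
open CategoryTheory CategoryTheory.Limits AlgebraicGeometry TopologicalSpace Opposite TensorProduct

namespace Groth.Agent.Lead.GenCount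

section algebra
open IsLocalRing Module

/-- Nakayama count: if `N` is finite over local `R`, `R → S` a local homomorphism of local rings
and `S ⊗ N` is spanned by a family indexed by `I`, then `N` is spanned by `d ≤ card I`
elements. -/
theorem exists_gen_of_baseChange {R S : Type u} [CommRing R] [CommRing S] [IsLocalRing R]
    [IsLocalRing S] [Algebra R S] [IsLocalHom (algebraMap R S)] (N : Type u) [AddCommGroup N]
    [Module R N] [Module.Finite R N] {I : Type*} [Fintype I] (s : I → S ⊗[R] N)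
    (hs : Submodule.span S (Set.range s) = ⊤) :
    ∃ (d : ℕ) (_ : d ≤ Fintype.card I) (t : Fin d → N), Submodule.span R (Set.range t) = ⊤ := by
  classical
  let k := ResidueField R
  let l := ResidueField S
  let e1 : l ⊗[k] (k ⊗[R] N) ≃ₗ[l] l ⊗[R] N :=
    TensorProduct.AlgebraTensorModule.cancelBaseChange R k l l N
  let e2 : l ⊗[S] (S ⊗[R] N) ≃ₗ[l] l ⊗[R] N :=
    TensorProduct.AlgebraTensorModule.cancelBaseChange R S l l N
  have h1 : finrank l (l ⊗[k] (k ⊗[R] N)) = finrank k (k ⊗[R] N) := Module.finrank_baseChange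
  let g : (I → S) →ₗ[S] S ⊗[R] N := Fintype.linearCombination S s
  have hg : Function.Surjective g := by
    rw [← LinearMap.range_eq_top, Fintype.range_linearCombination, hs]
  have hg' : Function.Surjective (LinearMap.baseChange l g) := by
    have := LinearMap.lTensor_surjective l hg
    intro z
    obtain ⟨w, hw⟩ := this z
    exact ⟨w, by rw [← hw]; rfl⟩
  have h2 : finrank l (l ⊗[S] (S ⊗[R] N)) ≤ Fintype.card I := by
    have := LinearMap.finrank_le_finrank_of_surjective hg'
    have h4 : finrank l (l ⊗[S] (I → S)) = Fintype.card I := by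
      rw [Module.finrank_baseChange (R := l) (S := S) (M' := I → S), Module.finrank_pi]
    exact this.trans h4.le
  have h3 : finrank k (k ⊗[R] N) ≤ Fintype.card I := by
    rw [← h1, e1.finrank_eq, ← e2.finrank_eq]; exact h2
  let b := Module.finBasis k (k ⊗[R] N)
  have hsurj : Function.Surjective (TensorProduct.mk R k N 1) :=
    TensorProduct.mk_surjective R N k Ideal.Quotient.mk_surjective
  choose t ht using fun j => hsurj (b j)
  exact ⟨finrank k (k ⊗[R] N), h3, t, IsLocalRing.span_eq_top_of_tmul_eq_basis t b ht⟩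

end algebra

section lgd
open Groth.Agent.Helper1.LG

variable {T : TopCat.{u}} {R : Sheaf (Opens.grothendieckTopology T) RingCat.{u}}
  (M : SheafOfModules.{u} R)

/-- local generators data with at most `r` generators everywhere, elementwise -/
theorem exists_lgd_le_iff (r : ℕ) :
    (∃ σ : SheafOfModules.LocalGeneratorsData.{u} M,
      ∀ k, Finite (σ.generators k).I ∧ Nat.card (σ.generators k).I ≤ r) ↔
    ∀ x : T, ∃ (U : Opens T), x ∈ U ∧ ∃ (I : Type u) (_ : Fintype I)
      (s : I → M.val.obj (op U)), Fintype.card I ≤ r ∧ GenOn M U s := by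
  constructor
  · rintro ⟨σ, hσ⟩ x
    have hcov : iSup σ.X = ⊤ := (Opens.coversTop_iff (U := σ.X)).1 σ.coversTop
    have hx : x ∈ iSup σ.X := by rw [hcov]; trivial
    obtain ⟨i, hi⟩ := Opens.mem_iSup.1 hx
    haveI : Finite (σ.generators i).I := (hσ i).1
    letI : Fintype (σ.generators i).I := Fintype.ofFinite _
    refine ⟨σ.X i, hi, (σ.generators i).I, inferInstance, _, ?_,
      genOn_of_generatingSections (σ.generators i)⟩
    rw [← Nat.card_eq_fintype_card]; exact (hσ i).2
  · intro h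
    choose U hxU I hI s hcard hs using h
    refine ⟨{ I := T
              X := U
              coversTop := ?_
              generators := fun x =>
                letI := hI x
                { I := I x
                  s := fun i => overSec (s x i)
                  epi := epi_of_genOn (s x) (hs x) } }, fun x => ?_⟩
    · rw [Opens.coversTop_iff]
      change iSup U = ⊤
      rw [eq_top_iff]
      intro x _
      exact Opens.mem_iSup.mpr ⟨x, hxU x⟩
    · letI := hI x
      refine ⟨Finite.of_fintype (I x), ?_⟩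
      change Nat.card (I x) ≤ r
      rw [Nat.card_eq_fintype_card]; exact hcard x

end lgd

open Groth.Agent.Helper9.SkyMod1 Groth.Agent.Helper9.SkyMod2 Groth.Agent.Helper9.SkyMod3
  Groth.Agent.Helper9.SkyMod4 Groth.Agent.Helper3.PullGen Groth.Agent.Lead.FTDesc
open Groth.Agent.Helper1.LG

section affine

variable {X : Scheme.{u}} (F : X.Modules)

/-- on an affine open, the stalks of a quasi-coherent module are spanned by germs of sections
over that open -/
theorem span_germ_affine [F.IsQuasicoherent] {A : X.Opens} (hA : IsAffineOpen A) (x : X)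
    (hx : x ∈ A) :
    Submodule.span (X.presheaf.stalk x) (Set.range fun m : Γ(F, A) => F.presheaf.germ A x hx m)
      = ⊤ := by
  rw [eq_top_iff]
  intro z _
  letI := Groth.Agent.Helper4.StalkDict.sectionModStalk F x hx
  haveI := Groth.Agent.Helper4.StalkDict.isLocalizedModule_germ hA F x hx
  obtain ⟨⟨m, s⟩, hms⟩ := IsLocalizedModule.surj (hA.primeIdealOf ⟨x, hx⟩).asIdeal.primeCompl
    (Groth.Agent.Helper4.StalkDict.germLin F x hx) z
  have hs' : x ∈ X.basicOpen s.1 :=
    (Groth.Agent.Helper4.StalkDict.mem_basicOpen_iff_notMem_primeIdealOf hA x hx s.1).mpr s.2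
  have hu : IsUnit (X.presheaf.germ A x hx s.1) := (X.mem_basicOpen s.1 x hx).mp hs'
  obtain ⟨u, hu⟩ := hu
  have h1 : z = (↑u⁻¹ : X.presheaf.stalk x) • F.presheaf.germ A x hx m := by
    have : X.presheaf.germ A x hx s.1 • z = F.presheaf.germ A x hx m := hms
    rw [← this, ← hu, smul_smul]; simp
  rw [h1]
  exact Submodule.smul_mem _ _ (Submodule.subset_span ⟨m, rfl⟩)

/-- spreading out stalk generators, given finitely many sections over `A` spanning all stalks -/
theorem exists_genOn_of_stalk_span {A : X.Opens} (T : Finset Γ(F, A))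
    (hT : ∀ (x : X) (hx : x ∈ A), Submodule.span (X.presheaf.stalk x)
      ((fun m => F.presheaf.germ A x hx m) '' (T : Set Γ(F, A))) = ⊤)
    (x : X) (hx : x ∈ A) {d : ℕ} (t : Fin d → F.presheaf.stalk x)
    (ht : Submodule.span (X.presheaf.stalk x) (Set.range t) = ⊤) :
    ∃ (W : X.Opens), x ∈ W ∧ ∃ w : ULift.{u} (Fin d) → Γ(F, W),
      GenOn (R := X.ringCatSheaf) F W w := by
  classical
  have hτ : ∀ j : Fin d, ∃ (V : X.Opens) (hV : x ∈ V) (τ : Γ(F, V)),
      F.presheaf.germ V x hV τ = t j :=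
    fun j => TopCat.Presheaf.exists_germ_eq F.presheaf (t j)
  choose V hV τ hτ using hτ
  let V₀ : X.Opens := A ⊓ ⨅ j, V j
  have hxV₀ : x ∈ V₀ := by
    refine ⟨hx, ?_⟩
    have : x ∈ ((⨅ j, V j : X.Opens) : Set X) := by
      rw [Opens.coe_iInf]; exact Set.mem_iInter.mpr hV
    exact this
  have hV₀j : ∀ j, V₀ ≤ V j := fun j => inf_le_right.trans (iInf_le V j)
  have hV₀A : V₀ ≤ A := inf_le_left
  let w₀ : ULift.{u} (Fin d) → Γ(F, V₀) := fun j => rM F (hV₀j j.down) (τ j.down)
  have hw₀ : ∀ j, F.presheaf.germ V₀ x hxV₀ (w₀ j) = t j.down := by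
    intro j
    change F.presheaf.germ V₀ x hxV₀ (rM F (hV₀j j.down) (τ j.down)) = _
    rw [germ_rM]; exact hτ j.down
  obtain ⟨W, hW, hxW, a, ha⟩ := exists_local_combination F (U := V₀) w₀
    (fun m : {m // m ∈ T} => rM F hV₀A m.1) x hxV₀ (by
      intro m
      have hr : (Set.range fun j : ULift.{u} (Fin d) => F.presheaf.germ V₀ x hxV₀ (w₀ j)) =
          Set.range t := by
        ext z
        constructor
        · rintro ⟨j, rfl⟩; exact ⟨j.down, (hw₀ j).symm⟩
        · rintro ⟨j, rfl⟩; exact ⟨⟨j⟩, hw₀ ⟨j⟩⟩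
      rw [hr, ht]; trivial)
  refine ⟨W, hxW, fun j => rM F hW (w₀ j), ?_⟩
  apply Groth.Agent.Lead.FTDesc.genOn_of_span
  intro x' hx'
  have hx'A : x' ∈ A := hV₀A (hW hx')
  rw [eq_top_iff, ← hT x' hx'A, Submodule.span_le]
  rintro _ ⟨m, hm, rfl⟩
  have e1 : F.presheaf.germ A x' hx'A m =
      F.presheaf.germ W x' hx' (rM F hW (rM F hV₀A m)) := by rw [germ_rM, germ_rM]
  change F.presheaf.germ A x' hx'A m ∈ _
  rw [e1, ha ⟨m, hm⟩, germ_sum]
  refine Submodule.sum_mem _ fun j _ => ?_
  rw [Groth.Agent.Helper9.SkyMod2.germ_smul]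
  exact Submodule.smul_mem _ _ (Submodule.subset_span ⟨j, rfl⟩)

end affine

section pull

variable {X Y : Scheme.{u}} (f : X ⟶ Y) (F : Y.Modules)

/-- near a point `y` over an affine open `A` of the base, a finite type pullback of a
quasi-coherent module is generated by pullbacks of finitely many sections over `A` -/
theorem exists_nhd_gen [F.IsQuasicoherent]
    (hft : SheafOfModules.IsFiniteType (R := X.ringCatSheaf) ((Scheme.Modules.pullback f).obj F))
    {A : Y.Opens} (hA : IsAffineOpen A) (y : X) (hy : f y ∈ A) :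
    ∃ (W : X.Opens) (hWA : W ≤ f ⁻¹ᵁ A), y ∈ W ∧ ∃ T : Finset Γ(F, A),
      ∀ (y' : X) (hy' : y' ∈ W), Submodule.span (X.presheaf.stalk y')
        ((fun m => ((Scheme.Modules.pullback f).obj F).presheaf.germ (f ⁻¹ᵁ A) y' (hWA hy')
          (unitSec f F A m)) '' (T : Set Γ(F, A))) = ⊤ := by
  classical
  rw [Groth.Agent.Helper1.LG.isFiniteType_iff] at hft
  obtain ⟨U, hyU, I, hI, t, ht⟩ := hft y
  letI := hI
  have hspan_t := span_of_genOn ((Scheme.Modules.pullback f).obj F) t ht
  have hspan : Submodule.span (X.presheaf.stalk y)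
      (Set.range fun m : Γ(F, A) => ((Scheme.Modules.pullback f).obj F).presheaf.germ
        (f ⁻¹ᵁ A) y hy (unitSec f F A m)) = ⊤ := by
    rw [eq_top_iff, ← span_range_pgFun f F y, Submodule.span_le]
    rintro _ ⟨z, rfl⟩
    have hz : z ∈ Submodule.span (Y.presheaf.stalk (f y))
        (Set.range fun m : Γ(F, A) => F.presheaf.germ A (f y) hy m) := by
      rw [span_germ_affine F hA]; trivial
    refine Submodule.span_induction (p := fun z _ => pgFun f F y z ∈
      (Submodule.span (X.presheaf.stalk y)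
        (Set.range fun m : Γ(F, A) => ((Scheme.Modules.pullback f).obj F).presheaf.germ
          (f ⁻¹ᵁ A) y hy (unitSec f F A m)) : Set _)) ?_ ?_ ?_ ?_ hz
    · rintro _ ⟨m, rfl⟩
      beta_reduce
      rw [pgFun_germ]
      exact Submodule.subset_span ⟨m, rfl⟩
    · rw [pgFun_zero]; exact zero_mem _
    · intro a b _ _ ha hb
      rw [pgFun_add]; exact add_mem ha hb
    · intro c a _ ha
      rw [pgFun_smul]; exact Submodule.smul_mem _ _ ha
  -- finitely many sections suffice for the `t i`
  have hc : ∀ i : I, ∃ c : Γ(F, A) →₀ X.presheaf.stalk y,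
      (c.sum fun m a => a • ((Scheme.Modules.pullback f).obj F).presheaf.germ (f ⁻¹ᵁ A) y hy
        (unitSec f F A m)) = ((Scheme.Modules.pullback f).obj F).presheaf.germ U y hyU (t i) := by
    intro i
    have : ((Scheme.Modules.pullback f).obj F).presheaf.germ U y hyU (t i) ∈
        Submodule.span (X.presheaf.stalk y)
          (Set.range fun m : Γ(F, A) => ((Scheme.Modules.pullback f).obj F).presheaf.germ
            (f ⁻¹ᵁ A) y hy (unitSec f F A m)) := by rw [hspan]; trivial
    exact (Finsupp.mem_span_range_iff_exists_finsupp).mp this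
  choose c hc using hc
  let T : Finset Γ(F, A) := Finset.univ.biUnion fun i => (c i).support
  let U' : X.Opens := U ⊓ f ⁻¹ᵁ A
  have hyU' : y ∈ U' := ⟨hyU, hy⟩
  have hU'l : U' ≤ U := inf_le_left
  have hU'r : U' ≤ f ⁻¹ᵁ A := inf_le_right
  obtain ⟨W, hW, hyW, a, ha⟩ := exists_local_combination
    ((Scheme.Modules.pullback f).obj F) (U := U')
    (fun k : {m // m ∈ T} => rM _ hU'r (unitSec f F A k.1)) (fun i => rM _ hU'l (t i)) y hyU' (by
      intro i
      beta_reduce
      rw [germ_rM, ← hc i, Finsupp.sum]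
      refine Submodule.sum_mem _ fun m hm => ?_
      refine Submodule.smul_mem _ _ (Submodule.subset_span ?_)
      have hmT : m ∈ T := Finset.mem_biUnion.mpr ⟨i, Finset.mem_univ _, hm⟩
      refine ⟨⟨m, hmT⟩, ?_⟩
      beta_reduce
      rw [germ_rM])
  refine ⟨W, hW.trans hU'r, hyW, T, fun y' hy' => ?_⟩
  have hy'U' := hW hy'
  rw [eq_top_iff, ← hspan_t y' hy'U'.1, Submodule.span_le]
  rintro _ ⟨i, rfl⟩
  have e1 : ((Scheme.Modules.pullback f).obj F).presheaf.germ U y' hy'U'.1 (t i) =
      ((Scheme.Modules.pullback f).obj F).presheaf.germ W y' hy'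
        (rM _ hW (rM _ hU'l (t i))) := by rw [germ_rM, germ_rM]
  change ((Scheme.Modules.pullback f).obj F).presheaf.germ U y' hy'U'.1 (t i) ∈ _
  rw [e1, ha i, germ_sum]
  refine Submodule.sum_mem _ fun k _ => ?_
  rw [Groth.Agent.Helper9.SkyMod2.germ_smul]
  refine Submodule.smul_mem _ _ (Submodule.subset_span ?_)
  rw [germ_rM, germ_rM]
  exact ⟨k.1, k.2, rfl⟩

/-- on a compact open over an affine open `A`, finitely many sections over `A` generate the
pullback at every point -/
theorem exists_finset_gen [F.IsQuasicoherent]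
    (hft : SheafOfModules.IsFiniteType (R := X.ringCatSheaf) ((Scheme.Modules.pullback f).obj F))
    {A : Y.Opens} (hA : IsAffineOpen A) (V : X.Opens) (hV : IsCompact (V : Set X))
    (hVA : V ≤ f ⁻¹ᵁ A) :
    ∃ T : Finset Γ(F, A), ∀ (y' : X) (hy' : y' ∈ V), Submodule.span (X.presheaf.stalk y')
        ((fun m => ((Scheme.Modules.pullback f).obj F).presheaf.germ (f ⁻¹ᵁ A) y' (hVA hy')
          (unitSec f F A m)) '' (T : Set Γ(F, A))) = ⊤ := by
  classical
  have key := fun (y : X) (hy : y ∈ V) => exists_nhd_gen f F hft hA y (hVA hy)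
  choose W hWA hyW T hT using key
  obtain ⟨t, hcov⟩ := hV.elim_finite_subcover (fun y : V => ((W y.1 y.2 : X.Opens) : Set X))
    (fun y => (W y.1 y.2).isOpen) (fun y hy => Set.mem_iUnion.mpr ⟨⟨y, hy⟩, hyW y hy⟩)
  refine ⟨t.biUnion (fun y => T y.1 y.2), fun y' hy' => ?_⟩
  obtain ⟨y0, hy0, hmem⟩ : ∃ y0 ∈ t, y' ∈ W y0.1 y0.2 := by
    have := hcov hy'
    simp only [Set.mem_iUnion] at this
    obtain ⟨y0, hy0, h⟩ := this
    exact ⟨y0, hy0, h⟩
  rw [eq_top_iff, ← hT y0.1 y0.2 y' hmem]
  apply Submodule.span_mono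
  apply Set.image_mono
  intro m hm
  exact Finset.mem_coe.mpr (Finset.mem_biUnion.mpr ⟨y0, hy0, hm⟩)

end pull

section main

variable {ι : Type u} {X : Scheme.{u}} {Xi : ι → Scheme.{u}} (f : ∀ i, Xi i ⟶ X)

/-- fpqc descent of finite generation over an affine open -/
theorem exists_finset_span (hf : Presieve.ofArrows Xi f ∈ Scheme.fpqcPrecoverage X)
    (F : X.Modules) [F.IsQuasicoherent]
    (hft : ∀ i, SheafOfModules.IsFiniteType (R := (Xi i).ringCatSheaf)
      ((Scheme.Modules.pullback (f i)).obj F))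
    {A : X.Opens} (hA : IsAffineOpen A) :
    ∃ T : Finset Γ(F, A), ∀ (x : X) (hx : x ∈ A), Submodule.span (X.presheaf.stalk x)
      ((fun m => F.presheaf.germ A x hx m) '' (T : Set Γ(F, A))) = ⊤ := by
  classical
  obtain ⟨h1, hfl⟩ := hf
  rw [Scheme.ofArrows_mem_precoverage_iff] at hfl
  let E : PreZeroHypercover.{u} X := ⟨ι, Xi, f⟩
  haveI hE : QuasiCompactCover E := (Scheme.presieve₀_mem_qcPrecoverage_iff (E := E)).mp h1
  obtain ⟨n, a, V, hV, hcov'⟩ :=
    QuasiCompactCover.exists_isAffineOpen_of_isCompact E hA.isCompact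
  have hcov : ⋃ k, f (a k) '' ((V k : (Xi (a k)).Opens) : Set (Xi (a k))) = (A : Set X) := hcov'
  have hVA : ∀ k, (V k : (Xi (a k)).Opens) ≤ (f (a k)) ⁻¹ᵁ A := by
    intro k y hy
    have : f (a k) y ∈ (A : Set X) := by
      rw [← hcov]; exact Set.mem_iUnion.mpr ⟨k, y, hy, rfl⟩
    exact this
  have key := fun k => exists_finset_gen (f (a k)) F (hft (a k)) hA (V k) (hV k).isCompact (hVA k)
  choose T hT using key
  refine ⟨Finset.univ.biUnion T, fun x hx => ?_⟩
  have hx' : x ∈ ⋃ k, f (a k) '' ((V k : (Xi (a k)).Opens) : Set (Xi (a k))) := by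
    rw [hcov]; exact hx
  obtain ⟨k, y, hyV, rfl⟩ := Set.mem_iUnion.mp hx'
  haveI : Flat (f (a k)) := hfl.2 (a k)
  apply top_of_span (f (a k)) F y ((Flat.iff_flat_stalkMap (f (a k))).mp inferInstance y)
  rw [eq_top_iff, ← hT k y hyV]
  apply Submodule.span_mono
  rintro _ ⟨m, hm, rfl⟩
  refine ⟨F.presheaf.germ A (f (a k) y) hx m, Submodule.subset_span ⟨m, ?_, rfl⟩, ?_⟩
  · exact Finset.mem_coe.mpr (Finset.mem_biUnion.mpr ⟨k, Finset.mem_univ _, hm⟩)
  · exact pgFun_germ (f (a k)) F y A hx m

theorem main (hf : Presieve.ofArrows Xi f ∈ Scheme.fpqcPrecoverage X) (F : X.Modules)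
    [F.IsQuasicoherent] (r : ℕ)
    (h : ∀ i, ∃ σ : SheafOfModules.LocalGeneratorsData.{u} (R := (Xi i).ringCatSheaf)
        ((Scheme.Modules.pullback (f i)).obj F),
      ∀ k, Finite (σ.generators k).I ∧ Nat.card (σ.generators k).I ≤ r) :
    ∃ σ : SheafOfModules.LocalGeneratorsData.{u} (R := X.ringCatSheaf) F,
      ∀ k, Finite (σ.generators k).I ∧ Nat.card (σ.generators k).I ≤ r := by
  classical
  have h' := fun i => (exists_lgd_le_iff _ r).mp (h i)
  rw [exists_lgd_le_iff]
  have hft : ∀ i, SheafOfModules.IsFiniteType (R := (Xi i).ringCatSheaf)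
      ((Scheme.Modules.pullback (f i)).obj F) := by
    intro i
    rw [Groth.Agent.Helper1.LG.isFiniteType_iff]
    intro y
    obtain ⟨U, hyU, I, hI, s, _, hs⟩ := h' i y
    exact ⟨U, hyU, I, hI, s, hs⟩
  have hf' := hf
  obtain ⟨h1, hfl⟩ := hf'
  rw [Scheme.ofArrows_mem_precoverage_iff] at hfl
  intro x
  obtain ⟨A, hA, hxA⟩ : ∃ A : X.Opens, IsAffineOpen A ∧ x ∈ A := by
    obtain ⟨_, ⟨A, hA, rfl⟩, hxA, -⟩ :=
      X.isBasis_affineOpens.exists_subset_of_mem_open (Set.mem_univ x) isOpen_univ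
    exact ⟨A, hA, hxA⟩
  obtain ⟨T, hT⟩ := exists_finset_span f hf F hft hA
  obtain ⟨i, y, rfl⟩ := hfl.1 x
  obtain ⟨U, hyU, I, hI, s, hcard, hs⟩ := h' i y
  letI := hI
  have hspan_s := span_of_genOn ((Scheme.Modules.pullback (f i)).obj F) s hs y hyU
  -- the algebra setup
  letI := ((f i).stalkMap y).hom.toAlgebra
  haveI : IsLocalHom (algebraMap (X.presheaf.stalk (f i y)) ((Xi i).presheaf.stalk y)) :=
    inferInstanceAs (IsLocalHom ((f i).stalkMap y).hom)
  let E : ((Scheme.Modules.pullback (f i)).obj F).presheaf.stalk y ≃ₗ[(Xi i).presheaf.stalk y]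
      ((Xi i).presheaf.stalk y) ⊗[X.presheaf.stalk (f i y)] (F.presheaf.stalk (f i y)) :=
    ((pullStalkIso y (f i)).app F).toLinearEquiv
  haveI : Module.Finite (X.presheaf.stalk (f i y)) (F.presheaf.stalk (f i y)) := by
    refine ⟨⟨T.image fun m => F.presheaf.germ A (f i y) hxA m, ?_⟩⟩
    rw [Finset.coe_image]; exact hT _ hxA
  obtain ⟨d, hd, t, ht⟩ := exists_gen_of_baseChange (R := X.presheaf.stalk (f i y))
    (S := (Xi i).presheaf.stalk y) (F.presheaf.stalk (f i y))
    (fun j : I => E (((Scheme.Modules.pullback (f i)).obj F).presheaf.germ U y hyU (s j))) (by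
      have h2 := congrArg (Submodule.map E.toLinearMap) hspan_s
      rw [Submodule.map_span, Submodule.map_top, LinearEquiv.range] at h2
      rw [← h2]
      congr 1
      ext z
      constructor
      · rintro ⟨j, rfl⟩; exact ⟨_, ⟨j, rfl⟩, rfl⟩
      · rintro ⟨_, ⟨j, rfl⟩, rfl⟩; exact ⟨j, rfl⟩)
  obtain ⟨W, hxW, w, hw⟩ := exists_genOn_of_stalk_span F T hT (f i y) hxA t ht
  refine ⟨W, hxW, ULift.{u} (Fin d), inferInstance, w, ?_, hw⟩
  rw [Fintype.card_ulift, Fintype.card_fin]
  exact hd.trans hcard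

end main

end Groth.Agent.Lead.GenCount
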