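import Mathlib
import Groth.Agent.Helper5.FibStalk

set_option autoImplicit false
set_option linter.style.haveILetI false
universe u
open CategoryTheory CategoryTheory.Limits AlgebraicGeometry TensorProduct

namespace Groth.Agent.Lead.GenFib

/-- ring-level: flat over a domain, with "domain-like" localisations at the primes over `0`,
implies reduced. -/
theorem isReduced_of_flat {A B : Type*} [CommRing A] [IsDomain A] [CommRing B] (φ : A →+* B)
    (hφ : φ.Flat)
    (hdom : ∀ q : Ideal B, q.IsPrime → q.comap φ = ⊥ →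
      ∀ b : B, IsNilpotent b → ∃ t : B, t ∉ q ∧ t * b = 0) : IsReduced B := by
  algebraize [φ]
  refine ⟨fun b hb => ?_⟩
  by_contra hb0
  let I : Ideal B := LinearMap.ker (LinearMap.toSpanSingleton B B b)
  have hI : ∀ t : B, t ∈ I ↔ t * b = 0 := by
    intro t
    simp [I, LinearMap.mem_ker, LinearMap.toSpanSingleton_apply]
  let S : Submonoid B := Submonoid.map φ (nonZeroDivisors A)
  have hdisj : Disjoint (I : Set B) (S : Set B) := by
    rw [Set.disjoint_left]
    rintro s hsI ⟨a, ha, rfl⟩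
    have hreg : IsSMulRegular B a := Module.Flat.isSMulRegular_of_nonZeroDivisors ha
    have h1 : φ a * b = 0 := (hI _).1 hsI
    apply hb0
    apply hreg
    show a • b = a • (0 : B)
    rw [smul_zero, Algebra.smul_def]
    exact h1
  obtain ⟨p, hp, hIp, hpS⟩ := Ideal.exists_le_prime_disjoint I S hdisj
  have hcomap : p.comap φ = ⊥ := by
    rw [eq_bot_iff]
    intro a ha
    by_contra ha0
    have : a ≠ 0 := ha0
    exact Set.disjoint_left.1 hpS ha ⟨a, mem_nonZeroDivisors_of_ne_zero this, rfl⟩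
  obtain ⟨t, htp, htb⟩ := hdom p hp hcomap b hb
  exact htp (hIp ((hI t).2 htb))

/-- ring-level: flat over a domain and nontrivial implies there is a prime over `0`. -/
theorem exists_prime_comap_eq_bot {A B : Type*} [CommRing A] [IsDomain A] [CommRing B]
    [Nontrivial B] (φ : A →+* B) (hφ : φ.Flat) :
    ∃ q : Ideal B, q.IsPrime ∧ q.comap φ = ⊥ := by
  algebraize [φ]
  let S : Submonoid B := Submonoid.map φ (nonZeroDivisors A)
  have hdisj : Disjoint ((⊥ : Ideal B) : Set B) (S : Set B) := by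
    rw [Set.disjoint_left]
    rintro s hs0 ⟨a, ha, rfl⟩
    have hreg : IsSMulRegular B a := Module.Flat.isSMulRegular_of_nonZeroDivisors ha
    have h1 : φ a = 0 := hs0
    have : (1 : B) = 0 := by
      apply hreg
      show a • (1 : B) = a • (0 : B)
      rw [smul_zero, Algebra.smul_def, mul_one]
      exact h1
    exact one_ne_zero this
  obtain ⟨p, hp, -, hpS⟩ := Ideal.exists_le_prime_disjoint ⊥ S hdisj
  refine ⟨p, hp, ?_⟩
  rw [eq_bot_iff]
  intro a ha
  by_contra ha0
  have : a ≠ 0 := ha0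
  exact Set.disjoint_left.1 hpS ha ⟨a, mem_nonZeroDivisors_of_ne_zero this, rfl⟩



theorem maximalIdeal_stalk_generic {Y : Scheme.{u}} [IsIntegral Y] (z : Y)
    (hz : z = genericPoint Y) : IsLocalRing.maximalIdeal (Y.presheaf.stalk z) = ⊥ := by
  subst hz
  have hf : IsField (Y.presheaf.stalk (genericPoint Y)) :=
    Field.toIsField (Y.functionField)
  exact IsLocalRing.isField_iff_maximalIdeal_eq.1 hf

/-- stalks of `X` at points over the generic point are domains -/
theorem isDomain_stalk {X Y : Scheme.{u}} (f : X ⟶ Y) [IsIntegral Y]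
    (h : IsIntegral (f.fiber (genericPoint ↥Y))) (x : X) (hx : f x = genericPoint Y) :
    IsDomain (X.presheaf.stalk x) := by
  have hx' : x ∈ Set.range (f.fiberι (genericPoint Y)) := by
    rw [Scheme.Hom.range_fiberι]; exact hx
  obtain ⟨y, rfl⟩ := hx'
  obtain ⟨-, hker⟩ := Groth.Agent.Helper5.FibStalk.s9501 f (genericPoint Y) y
  rw [maximalIdeal_stalk_generic _ hx, Ideal.map_bot] at hker
  have hinj : Function.Injective ((f.fiberι (genericPoint Y)).stalkMap y).hom :=
    (RingHom.injective_iff_ker_eq_bot _).2 hker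
  haveI : IsDomain ((f.fiber (genericPoint Y)).presheaf.stalk y) := inferInstance
  exact hinj.isDomain _

theorem map_eq_generic {X Y : Scheme.{u}} (f : X ⟶ Y) [IsIntegral Y]
    {V : Y.Opens} (hV : IsAffineOpen V) [Nonempty V] {U : X.Opens} (hU : IsAffineOpen U)
    (e : U ≤ f ⁻¹ᵁ V) (q : PrimeSpectrum Γ(X, U))
    (hq : q.asIdeal.comap (f.appLE V U e).hom = ⊥) :
    f (hU.fromSpec q) = genericPoint Y := by
  have h1 : f (hU.fromSpec q) = hV.fromSpec (Spec.map (f.appLE V U e) q) := by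
    rw [← Scheme.Hom.comp_apply, ← Scheme.Hom.comp_apply, IsAffineOpen.SpecMap_appLE_fromSpec]
  have h2 : Spec.map (f.appLE V U e) q = genericPoint (Spec Γ(Y, V)) := by
    rw [genericPoint_eq_bot_of_affine]
    apply PrimeSpectrum.ext
    exact hq
  rw [h1, h2]
  exact genericPoint_eq_of_isOpenImmersion hV.fromSpec


end Groth.Agent.Lead.GenFib

namespace Groth.Agent.Lead.GenFib

theorem affine_reduced {X Y : Scheme.{u}} (f : X ⟶ Y) [Flat f] [IsIntegral Y]
    (h : IsIntegral (f.fiber (genericPoint ↥Y)))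
    {V : Y.Opens} (hV : IsAffineOpen V) [Nonempty V] {U : X.Opens} (hU : IsAffineOpen U)
    (e : U ≤ f ⁻¹ᵁ V) : IsReduced Γ(X, U) := by
  refine isReduced_of_flat (f.appLE V U e).hom (Scheme.Hom.flat_appLE f hV hU e) ?_
  intro q hq hq0 b hb
  have hy : hU.fromSpec ⟨q, hq⟩ ∈ U := by
    have : hU.fromSpec ⟨q, hq⟩ ∈ Set.range hU.fromSpec := ⟨_, rfl⟩
    rw [hU.range_fromSpec] at this
    exact this
  have hgen : f (hU.fromSpec ⟨q, hq⟩) = genericPoint Y := map_eq_generic f hV hU e ⟨q, hq⟩ hq0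
  haveI : IsDomain (X.presheaf.stalk (hU.fromSpec ⟨q, hq⟩)) := isDomain_stalk f h _ hgen
  letI := TopCat.Presheaf.algebra_section_stalk X.presheaf ⟨hU.fromSpec ⟨q, hq⟩, hy⟩
  haveI : IsLocalization q.primeCompl (X.presheaf.stalk (hU.fromSpec ⟨q, hq⟩)) :=
    hU.isLocalization_stalk' ⟨q, hq⟩ hy
  have h0 : algebraMap Γ(X, U) (X.presheaf.stalk (hU.fromSpec ⟨q, hq⟩)) b = 0 :=
    (hb.map _).eq_zero
  obtain ⟨m, hm⟩ := (IsLocalization.map_eq_zero_iff q.primeCompl _ b).1 h0
  exact ⟨m.1, m.2, hm⟩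

theorem affine_exists {X Y : Scheme.{u}} (f : X ⟶ Y) [Flat f] [IsIntegral Y]
    {V : Y.Opens} (hV : IsAffineOpen V) [Nonempty V] {U : X.Opens} (hU : IsAffineOpen U)
    (e : U ≤ f ⁻¹ᵁ V) [Nonempty U] : ∃ x ∈ U, f x = genericPoint Y := by
  obtain ⟨q, hq, hq0⟩ := exists_prime_comap_eq_bot (f.appLE V U e).hom
    (Scheme.Hom.flat_appLE f hV hU e)
  refine ⟨hU.fromSpec ⟨q, hq⟩, ?_, map_eq_generic f hV hU e ⟨q, hq⟩ hq0⟩
  have : hU.fromSpec ⟨q, hq⟩ ∈ Set.range hU.fromSpec := ⟨_, rfl⟩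
  rw [hU.range_fromSpec] at this
  exact this

theorem exists_affine_pair {X Y : Scheme.{u}} (f : X ⟶ Y) (W : X.Opens) (x : X) (hx : x ∈ W) :
    ∃ (V : Y.Opens) (U : X.Opens), IsAffineOpen V ∧ IsAffineOpen U ∧ x ∈ U ∧ U ≤ W ∧
      U ≤ f ⁻¹ᵁ V := by
  obtain ⟨V, hV, hxV, -⟩ := exists_isAffineOpen_mem_and_subset (x := f x) (U := ⊤) trivial
  have hx2 : x ∈ W ⊓ f ⁻¹ᵁ V := ⟨hx, hxV⟩
  obtain ⟨U, hU, hxU, hUW⟩ := exists_isAffineOpen_mem_and_subset hx2
  exact ⟨V, U, hV, hU, hxU, fun z hz => (hUW hz).1, fun z hz => (hUW hz).2⟩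

theorem main {X Y : Scheme.{u}} (f : X ⟶ Y) [Flat f] [IsIntegral Y]
    (h : IsIntegral (f.fiber (genericPoint ↥Y))) : IsIntegral X := by
  -- reduced
  haveI : ∀ x : X, _root_.IsReduced (X.presheaf.stalk x) := by
    intro x
    obtain ⟨V, U, hV, hU, hxU, -, e⟩ := exists_affine_pair f ⊤ x trivial
    haveI : Nonempty V := ⟨⟨f x, e hxU⟩⟩
    haveI : _root_.IsReduced Γ(X, U) := affine_reduced f h hV hU e
    letI := TopCat.Presheaf.algebra_section_stalk X.presheaf ⟨x, hxU⟩
    haveI : IsLocalization (hU.primeIdealOf ⟨x, hxU⟩).asIdeal.primeCompl (X.presheaf.stalk x) :=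
      hU.isLocalization_stalk ⟨x, hxU⟩
    exact isReduced_localizationPreserves (hU.primeIdealOf ⟨x, hxU⟩).asIdeal.primeCompl
      (X.presheaf.stalk x) inferInstance
  haveI : IsReduced X := isReduced_of_isReduced_stalk X
  -- irreducible
  have hdense : Dense (f ⁻¹' {genericPoint Y}) := by
    rw [dense_iff_inter_open]
    intro W hW ⟨x, hx⟩
    obtain ⟨V, U, hV, hU, hxU, hUW, e⟩ := exists_affine_pair f ⟨W, hW⟩ x hx
    haveI : Nonempty V := ⟨⟨f x, e hxU⟩⟩
    haveI : Nonempty U := ⟨⟨x, hxU⟩⟩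
    obtain ⟨z, hzU, hz⟩ := affine_exists f hV hU e
    exact ⟨z, hUW hzU, hz⟩
  have hirr : IsIrreducible (f ⁻¹' {genericPoint Y}) := by
    rw [← Scheme.Hom.range_fiberι, ← Set.image_univ]
    haveI : IrreducibleSpace (f.fiber (genericPoint Y)) := inferInstance
    exact (IrreducibleSpace.isIrreducible_univ _).image _
      (f.fiberι (genericPoint Y)).continuous.continuousOn
  haveI : IrreducibleSpace X := by
    rw [irreducibleSpace_def]
    show IsIrreducible (Set.univ : Set X)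
    rw [← hdense.closure_eq]
    exact hirr.closure
  exact isIntegral_of_irreducibleSpace_of_isReduced X

end Groth.Agent.Lead.GenFib
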