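import Mathlib
import Groth.Prelude
import Groth.Agent.Helper2.FlatGenOpen
import Groth.Agent.Helper2.FlatLocusSch

set_option autoImplicit false
set_option linter.style.haveILetI false
universe u
open CategoryTheory AlgebraicGeometry TopologicalSpace

namespace Groth.Agent.Lead.GenFlatRed

theorem flat_module_of_isField (A : Type u) [CommRing A] (hA : IsField A) (M : Type u)
    [AddCommGroup M] [Module A M] : Module.Flat A M := by
  letI : Field A := hA.toField
  exact inferInstance

theorem flat_of_isField {A B : Type u} [CommRing A] [CommRing B] (hA : IsField A) (φ : A →+* B) :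
    φ.Flat := by
  letI := φ.toAlgebra
  exact flat_module_of_isField A hA B

/-- the local ring of a reduced scheme at a maximal point is a field -/
theorem isField_stalk_of_maximal {Y : Scheme.{u}} [IsReduced Y] (η : Y)
    (hη : ∀ y' : Y, y' ⤳ η → y' = η) : IsField (Y.presheaf.stalk η) := by
  rw [IsLocalRing.isField_iff_maximalIdeal_eq]
  have hone : ∀ p q : ↥(Spec (Y.presheaf.stalk η)), p = q := by
    intro p q
    have hinj : Function.Injective (Y.fromSpecStalk η) :=
      (Y.fromSpecStalk η).isEmbedding.injective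
    apply hinj
    have hp : Y.fromSpecStalk η p ⤳ η := by
      have h : Y.fromSpecStalk η p ∈ Set.range (Y.fromSpecStalk η) := ⟨p, rfl⟩
      rw [Scheme.range_fromSpecStalk] at h
      exact h
    have hq : Y.fromSpecStalk η q ⤳ η := by
      have h : Y.fromSpecStalk η q ∈ Set.range (Y.fromSpecStalk η) := ⟨q, rfl⟩
      rw [Scheme.range_fromSpecStalk] at h
      exact h
    rw [hη _ hp, hη _ hq]
  have hle : IsLocalRing.maximalIdeal (Y.presheaf.stalk η) ≤ nilradical (Y.presheaf.stalk η) := by
    rw [nilradical_eq_sInf]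
    refine le_sInf (fun J hJ => ?_)
    have hJ' : J.IsPrime := hJ
    have h := hone (⟨J, hJ'⟩ : PrimeSpectrum (Y.presheaf.stalk η))
      (IsLocalRing.closedPoint (Y.presheaf.stalk η))
    exact le_of_eq (congrArg PrimeSpectrum.asIdeal h).symm
  rw [nilradical_eq_zero] at hle
  exact le_bot_iff.mp hle

/-- every point of a scheme is a specialization of a maximal point -/
theorem exists_maximal_specializes {Y : Scheme.{u}} (y : Y) :
    ∃ η : Y, (∀ y' : Y, y' ⤳ η → y' = η) ∧ η ⤳ y := by
  have hZ : irreducibleComponent y ∈ irreducibleComponents Y :=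
    irreducibleComponent_mem_irreducibleComponents y
  have hyZ : y ∈ irreducibleComponent y := mem_irreducibleComponent
  have hZirr : IsIrreducible (irreducibleComponent y) := hZ.1
  have hZcl : IsClosed (irreducibleComponent y) := isClosed_of_mem_irreducibleComponents _ hZ
  obtain ⟨η, hη⟩ := QuasiSober.sober hZirr hZcl
  refine ⟨η, ?_, ?_⟩
  · intro y' hy'
    have h1 : irreducibleComponent y ⊆ closure {y'} := by
      rw [← hη.def]
      exact specializes_iff_closure_subset.mp hy'
    have h2 : closure {y'} ⊆ irreducibleComponent y :=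
      hZ.2 isIrreducible_singleton.closure h1
    have h3 : η ⤳ y' := by
      rw [specializes_iff_closure_subset, hη.def]
      exact h2
    exact (hy'.antisymm h3).eq
  · rw [specializes_iff_mem_closure, hη.def]
    exact hyZ

set_option backward.isDefEq.respectTransparency false in
theorem main {X Y : Scheme.{u}} [IsReduced Y] [CompactSpace Y] [QuasiSeparatedSpace Y]
    (hgen : IsCompact {y : Y | ∀ y' : Y, y' ⤳ y → y' = y})
    (f : X ⟶ Y) [LocallyOfFinitePresentation f] [QuasiCompact f] [QuasiSeparated f] :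
    ∃ U : Y.Opens, Dense (U : Set Y) ∧ IsCompact (U : Set Y) ∧ Flat (f ∣_ U) := by
  classical
  have hW : IsOpen {x : X | (f.stalkMap x).hom.Flat} :=
    Groth.Agent.Helper2.FlatLocusSch.isOpen_flat_locus f
  have hT : IsClosed ({x : X | (f.stalkMap x).hom.Flat}ᶜ) := hW.isClosed_compl
  have hGopen : IsOpen ((closure (f '' {x : X | (f.stalkMap x).hom.Flat}ᶜ))ᶜ) :=
    isClosed_closure.isOpen_compl
  have hmax : ∀ η : Y, (∀ y' : Y, y' ⤳ η → y' = η) →
      η ∈ (closure (f '' {x : X | (f.stalkMap x).hom.Flat}ᶜ))ᶜ := by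
    intro η hη hmem
    obtain ⟨x, hxT, hx⟩ :=
      (Groth.Agent.Helper2.FlatGenOpen.mem_closure_image_iff f _ hT η).mp hmem
    have hfx : f x = η := hη _ hx
    apply hxT
    have hfield : IsField (Y.presheaf.stalk (f x)) :=
      isField_stalk_of_maximal (f x) (by rw [hfx]; exact hη)
    exact flat_of_isField hfield (f.stalkMap x).hom
  have hnhd : ∀ η ∈ {y : Y | ∀ y' : Y, y' ⤳ y → y' = y}, ∃ V : Y.Opens, IsAffineOpen V ∧ η ∈ V ∧
      (V : Set Y) ⊆ (closure (f '' {x : X | (f.stalkMap x).hom.Flat}ᶜ))ᶜ := by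
    intro η hη
    have hmem : η ∈ (⟨_, hGopen⟩ : Y.Opens) := hmax η hη
    obtain ⟨V, hV, hηV, hVG⟩ := (Opens.isBasis_iff_nbhd.1 Y.isBasis_affineOpens) hmem
    exact ⟨V, hV, hηV, hVG⟩
  choose V hVaff hηV hVG using hnhd
  obtain ⟨t, ht⟩ := hgen.elim_nhds_subcover' (fun η hη => (V η hη : Set Y))
    (fun η hη => (V η hη).isOpen.mem_nhds (hηV η hη))
  let U : Y.Opens := ⟨⋃ x ∈ t, (V x.1 x.2 : Set Y), isOpen_biUnion (fun x _ => (V x.1 x.2).isOpen)⟩
  refine ⟨U, ?_, ?_, ?_⟩
  · rw [dense_iff_inter_open]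
    rintro O hO ⟨y, hy⟩
    obtain ⟨η, hη, hηy⟩ := exists_maximal_specializes y
    exact ⟨η, hηy.mem_open hO hy, ht hη⟩
  · exact t.isCompact_biUnion (fun x _ => (hVaff x.1 x.2).isCompact)
  · rw [Flat.iff_flat_stalkMap]
    intro x'
    rw [RingHom.Flat.respectsIso.arrow_mk_iso_iff (morphismRestrictStalkMap f U x')]
    by_contra hcon
    have hx'U : f x'.1 ∈ (U : Set Y) := x'.2
    obtain ⟨i, hi, hxi⟩ := Set.mem_iUnion₂.mp hx'U
    exact hVG i.1 i.2 hxi (subset_closure ⟨x'.1, hcon, rfl⟩)

end Groth.Agent.Lead.GenFlatRed
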