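import Groth.Agent.S0389
import Groth.Agent.Helper4.FinLocFree2
import Groth.Agent.Helper4.SecDict
import Groth.Prelude.Def_CohB1
import Mathlib
set_option autoImplicit false
universe u
open AlgebraicGeometry CategoryTheory CategoryTheory.Limits TensorProduct
open Groth.Agent.Helper4 Groth.Agent.Helper4.FinLocFree

namespace Groth.Agent.Lead.GenFreeSch

theorem main (X : Scheme.{u}) [IsIntegral X] (F : X.Modules) (hF : Coh.IsQCoh F)
    (hft : CohB1.IsFT F) :
    ∃ U : X.Opens, (U : Set ↥X).Nonempty ∧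
      Nonempty (F.restrict U.ι ≅ FlatMod.freeMod (↑U)
        (Module.finrank ↑(X.presheaf.stalk (genericPoint ↥X)) ↑(F.presheaf.stalk (genericPoint ↥X)))) := by
  haveI : F.IsQuasicoherent := hF
  set η := genericPoint X with hη
  obtain ⟨_, ⟨U, hU, rfl⟩, hηU, -⟩ := X.isBasis_affineOpens.exists_subset_of_mem_open
    (Set.mem_univ η) isOpen_univ
  haveI : Nonempty U := ⟨⟨η, hηU⟩⟩
  haveI : Module.Finite Γ(X, U) Γ(F, U) := SecDict.finite_sections (F := F) hU hF hft
  obtain ⟨f, hf0, hfree, -, -, -⟩ := Groth.Agent.S0389.result (R := Γ(X, U)) (S := Γ(X, U)) (M := Γ(F, U))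
  haveI := hfree
  haveI : Module.Finite (Localization.Away f) (Localization.Away f ⊗[Γ(X, U)] Γ(F, U)) :=
    inferInstance
  obtain ⟨n, ⟨e0⟩⟩ := exists_fin_equiv (Localization.Away f) (Localization.Away f ⊗[Γ(X, U)] Γ(F, U))
  let e1 : Localization.Away f ⊗[Γ(X, U)] Γ(F, U) ≃ₗ[Localization.Away f]
      LocalizedModule.Away f Γ(F, U) :=
    (IsLocalizedModule.isBaseChange (Submonoid.powers f) (Localization.Away f)
      (LocalizedModule.mkLinearMap (Submonoid.powers f) Γ(F, U))).equiv
  have hηf : η ∈ X.basicOpen f := by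
    change genericPoint X ∈ (X.basicOpen f : Set X)
    rw [(genericPoint_spec X).mem_open_set_iff (X.basicOpen f).isOpen]
    by_contra hne
    rw [Set.not_nonempty_iff_eq_empty] at hne
    apply hf0
    have : X.basicOpen f = ⊥ := by
      ext x
      constructor
      · intro hx
        have : x ∈ (Set.univ ∩ (X.basicOpen f : Set X)) := ⟨trivial, hx⟩
        rw [hne] at this
        exact this.elim
      · intro hx
        exact hx.elim
    exact (AlgebraicGeometry.basicOpen_eq_bot_iff f).mp this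
  obtain ⟨V, hηV, hV⟩ := exists_isFreeAlong_of_free_away F hU f n (e1.symm.trans e0) η hηf
  obtain ⟨b⟩ := FinLocFree2.nonempty_basis_stalk_of_isFreeAlong F hV η hηV
  have hn : Module.finrank (X.presheaf.stalk η) (F.presheaf.stalk η) = n := by
    rw [Module.finrank_eq_card_basis b, Fintype.card_fin]
  refine ⟨V, ⟨η, hηV⟩, ?_⟩
  rw [hn]
  exact hV

end Groth.Agent.Lead.GenFreeSch
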