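import Mathlib
import Groth.Prelude.Def_Coh
import Groth.Prelude.Def_FlatMod2
import Groth.Agent.Helper4.FinLocFree
import Groth.Agent.Helper4.QcohGlue
import Groth.Agent.Helper4.QcohLimits
import Groth.Agent.Helper2.CohQ1
import Groth.Agent.Lead.PerfLib5
import Groth.Agent.Lead.LocLift
import Groth.Agent.Helper1.IdealMod
import Groth.Prelude.Def_CxOX
import Groth.Agent.Helper4.StalkExact

/-!
# A coherent module upstairs whose pushforward is generically free (finite surjective morphisms)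
-/

set_option autoImplicit false
set_option linter.style.haveILetI false
universe u
open CategoryTheory CategoryTheory.Limits AlgebraicGeometry TopologicalSpace Opposite

namespace Groth.Agent.Lead.GenIsoPush

open Scheme.Modules Groth.Agent.Helper4.FinLocFree Groth.Agent.Lead.LocLift

variable {X Y : Scheme.{u}}

/-- stalk maps of a morphism that restricts to an isomorphism on an open neighbourhood. -/
theorem isIso_stalk_of_isIso_restrict {F G : Y.Modules} (α : F ⟶ G) (V : Y.Opens) (y : Y)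
    (hy : y ∈ V) (h : IsIso ((restrictFunctor V.ι).map α)) :
    IsIso ((TopCat.Presheaf.stalkFunctor AddCommGrpCat.{u} y).map
      ((SheafOfModules.toSheaf Y.ringCatSheaf).map α).hom) := by
  have e := restrictStalkNatIso V.ι (⟨y, hy⟩ : V)
  have h1 : IsIso ((restrictFunctor V.ι ⋙ toPresheaf (V : Scheme.{u}) ⋙
      TopCat.Presheaf.stalkFunctor AddCommGrpCat.{u} (⟨y, hy⟩ : V)).map α) := by
    haveI := h
    show IsIso ((toPresheaf (V : Scheme.{u}) ⋙
      TopCat.Presheaf.stalkFunctor AddCommGrpCat.{u} (⟨y, hy⟩ : V)).map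
      ((restrictFunctor V.ι).map α))
    infer_instance
  have h2 := (NatIso.isIso_map_iff e α).1 h1
  exact h2

/-- the free module on `ULift (Fin n)` is `freeMod`. -/
noncomputable def freeIso (Z : Scheme.{u}) (n : ℕ) :
    (SheafOfModules.free (ULift.{u} (Fin n)) : Z.Modules) ≅ FlatMod.freeMod Z n :=
  Sigma.whiskerEquiv (C := Z.Modules) (f := fun _ : ULift.{u} (Fin n) => Coh.structureModule Z)
    (g := fun _ : Fin n => Coh.structureModule Z) Equiv.ulift (fun _ => Iso.refl _)

theorem isCoh_free (Z : Scheme.{u}) (n : ℕ) :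
    Coh.IsCoh (SheafOfModules.free (ULift.{u} (Fin n)) : Z.Modules) := by
  have h1 : FlatMod.IsFinLocFree (FlatMod.freeMod Z n) := by
    intro x
    exact ⟨⊤, n, trivial, ⟨restrictFreeIso (⊤ : Z.Opens).ι n⟩⟩
  exact Groth.Agent.Helper2.CohQ1.isCoh_of_iso (freeIso Z n).symm
    (Groth.Agent.Lead.PerfLib.isCoh_of_isFinLocFree h1)


theorem exists_free_nhd_generic [IsIntegral Y] [IsNoetherian Y] (f : X ⟶ Y) [IsFinite f] :
    ∃ (V : Y.Opens) (n : ℕ), genericPoint Y ∈ V ∧
      IsFreeAlong ((pushforward f).obj (Coh.structureModule X)) V.ι n := by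
  obtain ⟨_, ⟨U, hU, rfl⟩, hyU, -⟩ :=
    Y.isBasis_affineOpens.exists_subset_of_mem_open (Set.mem_univ (genericPoint Y)) isOpen_univ
  haveI := Groth.Agent.Helper1.IdealMod.isQuasicoherent_structureModule X
  haveI : ((pushforward f).obj (Coh.structureModule X)).IsQuasicoherent :=
    Groth.Agent.Helper4.QcohGlue.isQuasicoherent_pushforward f _
  haveI : IsNoetherianRing Γ(Y, U) := IsLocallyNoetherian.component_noetherian ⟨U, hU⟩
  have hfin : (f.app U).hom.Finite := IsFinite.finite_app f U hU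
  have hfin' : Module.Finite Γ(Y, U) Γ((pushforward f).obj (Coh.structureModule X), U) := by
    letI := (f.app U).hom.toAlgebra
    have h0 : Module.Finite Γ(Y, U) Γ(X, f ⁻¹ᵁ U) := hfin
    let l : Γ(X, f ⁻¹ᵁ U) →ₗ[Γ(Y, U)] Γ((pushforward f).obj (Coh.structureModule X), U) :=
      { toFun := fun m => m
        map_add' := fun _ _ => rfl
        map_smul' := fun _ _ => rfl }
    exact Module.Finite.of_surjective l (fun m => ⟨m, rfl⟩)
  have hfp : Module.FinitePresentation Γ(Y, U)
      Γ((pushforward f).obj (Coh.structureModule X), U) := Module.finitePresentation_of_finite _ _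
  have hfree : Module.Free (Y.presheaf.stalk (genericPoint Y))
      (((pushforward f).obj (Coh.structureModule X)).presheaf.stalk (genericPoint Y)) := by
    letI : Field (Y.presheaf.stalk (genericPoint Y)) :=
      inferInstanceAs (Field Y.functionField)
    exact Module.Free.of_divisionRing _ _
  obtain ⟨V, n, h1, h2⟩ := exists_isFreeAlong_of_fp_of_free_stalk
    ((pushforward f).obj (Coh.structureModule X)) hU (genericPoint Y) hyU hfp hfree
  exact ⟨V, n, h1, h2⟩

theorem rank_pos (f : X ⟶ Y) [Surjective f] (V : Y.Opens) (y : Y) (hy : y ∈ V) (n : ℕ)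
    (h : IsFreeAlong ((pushforward f).obj (Coh.structureModule X)) V.ι n) : 0 < n := by
  by_contra hn
  have hn0 : n = 0 := by omega
  subst hn0
  obtain ⟨e⟩ := h
  have hz : (𝟙 (FlatMod.freeMod (V : Scheme.{u}) 0)) = 0 := by
    apply Sigma.hom_ext
    intro i
    exact Fin.elim0 i
  have hz2 : (𝟙 (((pushforward f).obj (Coh.structureModule X)).restrict V.ι)) = 0 := by
    have : e.hom ≫ 𝟙 _ ≫ e.inv = e.hom ≫ 0 ≫ e.inv := by rw [hz]
    simpa using this
  obtain ⟨x, hx⟩ := f.surjective y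
  have hxm : x ∈ f ⁻¹ᵁ (V.ι ''ᵁ ⊤) := by
    show f x ∈ V.ι ''ᵁ ⊤
    rw [hx, Scheme.Opens.ι_image_top]
    exact hy
  have h1 := congrArg (fun k => k.app ⊤ (1 : Γ(X, f ⁻¹ᵁ (V.ι ''ᵁ ⊤)))) hz2
  have h2 : (1 : Γ(X, f ⁻¹ᵁ (V.ι ''ᵁ ⊤))) = 0 := h1
  have h3 := congrArg (X.presheaf.germ _ x hxm).hom h2
  rw [map_one, map_zero] at h3
  exact one_ne_zero h3


section Free
variable {Z : Scheme.{u}} {I : Type u}

/-- the free module, as an object of `Z.Modules`. -/
noncomputable abbrev freeM (Z : Scheme.{u}) (I : Type u) : Z.Modules := SheafOfModules.free I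

/-- the inclusion of the `i`-th summand, as a morphism of `Z.Modules`. -/
noncomputable def ιF (Z : Scheme.{u}) (i : I) :
    Coh.structureModule Z ⟶ freeM Z I :=
  SheafOfModules.ιFree i

/-- the basis sections of the free module. -/
noncomputable def eSec (Z : Scheme.{u}) (i : I) : Γ(freeM Z I, ⊤) :=
  (ιF Z i).app ⊤ (1 : Γ(Z, ⊤))

/-- a morphism out of the free module with prescribed values on the basis sections. -/
noncomputable def freeDesc {M : Z.Modules} (s : I → Γ(M, ⊤)) :
    freeM Z I ⟶ M :=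
  Cofan.IsColimit.desc (SheafOfModules.isColimitFreeCofan (R := Z.ringCatSheaf) I)
    (fun i => homOfTop M (s i))

theorem ιF_freeDesc {M : Z.Modules} (s : I → Γ(M, ⊤)) (i : I) :
    ιF Z i ≫ freeDesc s = homOfTop M (s i) :=
  Cofan.IsColimit.fac (SheafOfModules.isColimitFreeCofan (R := Z.ringCatSheaf) I) _ i

theorem freeDesc_eSec {M : Z.Modules} (s : I → Γ(M, ⊤)) (i : I) :
    (freeDesc s).app ⊤ (eSec Z i) = s i := by
  have h := congrArg (fun k => k.app ⊤ (1 : Γ(Z, ⊤))) (ιF_freeDesc s i)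
  exact h.trans (homOfTop_app_one M (s i))

theorem free_hom_ext {M : Z.Modules} (a b : freeM Z I ⟶ M)
    (h : ∀ i, a.app ⊤ (eSec Z i) = b.app ⊤ (eSec Z i)) : a = b := by
  refine Cofan.IsColimit.hom_ext (SheafOfModules.isColimitFreeCofan (R := Z.ringCatSheaf) I) _ _
    (fun i => ?_)
  exact hom_unit_ext (ιF Z i ≫ a) (ιF Z i ≫ b) (h i)

end Free


section Core
variable (f : X ⟶ Y) (V : Y.Opens) {I : Type u}

/-- `f_* O_X`. -/
noncomputable abbrev Q (f : X ⟶ Y) : Y.Modules := (pushforward f).obj (Coh.structureModule X)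

variable (Θ : (restrictFunctor V.ι).obj (freeM Y I) ≅ (restrictFunctor V.ι).obj (Q f))

/-- the open `f⁻¹ V` (in the form in which it shows up). -/
abbrev U1 : X.Opens := f ⁻¹ᵁ (V.ι ''ᵁ (V.ι ⁻¹ᵁ ⊤))

noncomputable def alpha0 :
    freeM Y I ⟶ (pushforward V.ι).obj ((restrictFunctor V.ι).obj (Q f)) :=
  (restrictAdjunction V.ι).homEquiv _ _ Θ.hom

noncomputable def gam (i : I) : Γ(Coh.structureModule X, U1 f V) :=
  (alpha0 f V Θ).app ⊤ (eSec Y i)

/-- `j_* O_{U₁}`. -/
noncomputable abbrev N : X.Modules :=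
  (pushforward (U1 f V).ι).obj ((restrictFunctor (U1 f V).ι).obj (Coh.structureModule X))

noncomputable def bsec (i : I) : Γ(N f V, ⊤) :=
  (Coh.structureModule X).presheaf.map
    (homOfLE (Scheme.Opens.ι_image_le (U1 f V) ((U1 f V).ι ⁻¹ᵁ ⊤))).op (gam f V Θ i)

noncomputable def psi : freeM X I ⟶ N f V := freeDesc (bsec f V Θ)

/-- the coherent module. -/
noncomputable abbrev Mmod : X.Modules := Abelian.image (psi f V Θ)

noncomputable def alpha : freeM Y I ⟶ (pushforward f).obj (Mmod f V Θ) :=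
  freeDesc (fun i => (Mmod f V Θ).presheaf.map (homOfLE (le_top : f ⁻¹ᵁ ⊤ ≤ ⊤)).op
    ((Abelian.factorThruImage (psi f V Θ)).app ⊤ (eSec X i)))

theorem presheaf_map_congr (F : X.Modules) {A B : X.Opens} (m m' : op A ⟶ op B) (t : Γ(F, A)) :
    F.presheaf.map m t = F.presheaf.map m' t := by
  have : m = m' := Subsingleton.elim _ _
  rw [this]

theorem presheaf_map3 (F : X.Modules) {A B C D : X.Opens} (m₁ : op A ⟶ op B) (m₂ : op B ⟶ op C)
    (m₃ : op C ⟶ op D) (m : op A ⟶ op D) (t : Γ(F, A)) :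
    F.presheaf.map m₃ (F.presheaf.map m₂ (F.presheaf.map m₁ t)) = F.presheaf.map m t := by
  have : m = m₁ ≫ m₂ ≫ m₃ := Subsingleton.elim _ _
  rw [this, Functor.map_comp, Functor.map_comp]
  rfl

theorem key :
    (restrictFunctor V.ι).map (alpha f V Θ ≫
        (pushforward f).map (Abelian.image.ι (psi f V Θ))) =
      Θ.hom ≫ (restrictFunctor V.ι).map ((pushforward f).map
        ((restrictAdjunction (U1 f V).ι).unit.app (Coh.structureModule X))) := by
  apply ((restrictAdjunction V.ι).homEquiv _ _).injective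
  rw [Adjunction.homEquiv_naturality_right, Adjunction.homEquiv_unit,
    (restrictAdjunction V.ι).unit_naturality]
  apply free_hom_ext
  intro i
  -- right hand side
  have hR : ((((restrictAdjunction V.ι).homEquiv (freeM Y I) ((restrictFunctor V.ι).obj (Q f))) Θ.hom ≫
      (pushforward V.ι).map ((restrictFunctor V.ι).map ((pushforward f).map
        ((restrictAdjunction (U1 f V).ι).unit.app (Coh.structureModule X))))).app ⊤ (eSec Y i)) =
      (Coh.structureModule X).presheaf.map
        (homOfLE ((U1 f V).ι.image_preimage_le (U1 f V))).op (gam f V Θ i) := rfl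
  -- left hand side
  have h1 : (alpha f V Θ).app ⊤ (eSec Y i) =
      (Mmod f V Θ).presheaf.map (homOfLE (le_top : f ⁻¹ᵁ ⊤ ≤ ⊤)).op
        ((Abelian.factorThruImage (psi f V Θ)).app ⊤ (eSec X i)) := freeDesc_eSec _ i
  have h2 : (Abelian.image.ι (psi f V Θ)).app (f ⁻¹ᵁ ⊤)
      ((Mmod f V Θ).presheaf.map (homOfLE (le_top : f ⁻¹ᵁ ⊤ ≤ ⊤)).op
        ((Abelian.factorThruImage (psi f V Θ)).app ⊤ (eSec X i))) =
      (N f V).presheaf.map (homOfLE (le_top : f ⁻¹ᵁ ⊤ ≤ ⊤)).op (bsec f V Θ i) := by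
    rw [Groth.Agent.Helper4.StalkExact.app_res]
    congr 1
    have h3 : (Abelian.factorThruImage (psi f V Θ) ≫ Abelian.image.ι (psi f V Θ)).app ⊤ (eSec X i) =
        bsec f V Θ i := by
      rw [Abelian.image.fac]
      exact freeDesc_eSec _ i
    exact h3
  have hL : ((alpha f V Θ ≫ (pushforward f).map (Abelian.image.ι (psi f V Θ))) ≫
      (restrictAdjunction V.ι).unit.app ((pushforward f).obj (N f V))).app ⊤ (eSec Y i) =
      ((pushforward f).obj (N f V)).presheaf.map (homOfLE (V.ι.image_preimage_le ⊤)).op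
        ((N f V).presheaf.map (homOfLE (le_top : f ⁻¹ᵁ ⊤ ≤ ⊤)).op (bsec f V Θ i)) := by
    rw [← h2, ← h1]
    rfl
  rw [hL, hR]
  exact presheaf_map3 (Coh.structureModule X) _ _ _ _ (gam f V Θ i)

theorem isIso_right : IsIso ((restrictFunctor V.ι).map ((pushforward f).map
    ((restrictAdjunction (U1 f V).ι).unit.app (Coh.structureModule X)))) := by
  rw [Hom.isIso_iff_isIso_app]
  intro W
  have hT : f ⁻¹ᵁ (V.ι ''ᵁ W) ≤
      (U1 f V).ι ''ᵁ ((U1 f V).ι ⁻¹ᵁ (f ⁻¹ᵁ (V.ι ''ᵁ W))) := by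
    rw [Scheme.Hom.image_preimage_eq_opensRange_inf, Scheme.Opens.opensRange_ι]
    refine le_inf ?_ le_rfl
    intro x hx
    obtain ⟨w, hw, hwx⟩ := hx
    exact ⟨w, trivial, hwx⟩
  haveI : IsIso (homOfLE ((U1 f V).ι.image_preimage_le (f ⁻¹ᵁ (V.ι ''ᵁ W)))) :=
    ⟨homOfLE hT, Subsingleton.elim _ _, Subsingleton.elim _ _⟩
  show IsIso ((Coh.structureModule X).presheaf.map
    (homOfLE ((U1 f V).ι.image_preimage_le (f ⁻¹ᵁ (V.ι ''ᵁ W)))).op)
  infer_instance

theorem isIso_restrict_alpha : IsIso ((restrictFunctor V.ι).map (alpha f V Θ)) := by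
  have hk := key f V Θ
  rw [Functor.map_comp] at hk
  haveI := isIso_right f V
  haveI h1 : IsIso ((restrictFunctor V.ι).map (alpha f V Θ) ≫ (restrictFunctor V.ι).map
      ((pushforward f).map (Abelian.image.ι (psi f V Θ)))) := by
    rw [hk]; infer_instance
  haveI : Mono ((pushforward f).map (Abelian.image.ι (psi f V Θ))) := inferInstance
  haveI : Mono ((restrictFunctor V.ι).map
      ((pushforward f).map (Abelian.image.ι (psi f V Θ)))) := inferInstance
  haveI : IsSplitEpi ((restrictFunctor V.ι).map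
      ((pushforward f).map (Abelian.image.ι (psi f V Θ)))) :=
    ⟨⟨inv ((restrictFunctor V.ι).map (alpha f V Θ) ≫ (restrictFunctor V.ι).map
      ((pushforward f).map (Abelian.image.ι (psi f V Θ)))) ≫
        (restrictFunctor V.ι).map (alpha f V Θ), by
      rw [Category.assoc, IsIso.inv_hom_id]⟩⟩
  haveI : IsIso ((restrictFunctor V.ι).map
      ((pushforward f).map (Abelian.image.ι (psi f V Θ)))) := isIso_of_mono_of_isSplitEpi _
  exact IsIso.of_isIso_comp_right ((restrictFunctor V.ι).map (alpha f V Θ))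
    ((restrictFunctor V.ι).map ((pushforward f).map (Abelian.image.ι (psi f V Θ))))

theorem isCoh_Mmod [IsLocallyNoetherian X] (n : ℕ)
    (Θ : (restrictFunctor V.ι).obj (freeM Y (ULift.{u} (Fin n))) ≅
      (restrictFunctor V.ι).obj (Q f)) : Coh.IsCoh (Mmod f V Θ) := by
  haveI := Groth.Agent.Helper1.IdealMod.isQuasicoherent_structureModule X
  haveI := Groth.Agent.Helper1.IdealMod.isQuasicoherent_structureModule ((U1 f V : X.Opens) : Scheme.{u})
  haveI h0 : ((restrictFunctor (U1 f V).ι).obj (Coh.structureModule X)).IsQuasicoherent :=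
    Groth.Agent.Helper4.QcohLimits.isQuasicoherent_of_iso (restrictUnitIso (U1 f V).ι).symm
  haveI hN : (N f V).IsQuasicoherent :=
    Groth.Agent.Helper4.QcohGlue.isQuasicoherent_pushforward (U1 f V).ι _
  have hfree := isCoh_free X n
  haveI : (freeM X (ULift.{u} (Fin n))).IsQuasicoherent := hfree.1
  have hM : (Mmod f V Θ).IsQuasicoherent :=
    Groth.Agent.Helper4.QcohLimits.isQuasicoherent_image (psi f V Θ)
  exact Groth.Agent.Helper2.CohQ1.isCoh_of_epi (Abelian.factorThruImage (psi f V Θ)) hfree hM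

end Core

theorem main [IsIntegral X] [IsNoetherian X] [IsIntegral Y] [IsNoetherian Y]
    (f : X ⟶ Y) [IsFinite f] [Surjective f] :
    ∃ (r : ℕ) (M : X.Modules) (α : (SheafOfModules.free (ULift.{u} (Fin r)) : Y.Modules) ⟶
        (Scheme.Modules.pushforward f).obj M),
      0 < r ∧ Coh.IsCoh M ∧
      IsIso ((TopCat.Presheaf.stalkFunctor AddCommGrpCat.{u} (genericPoint ↥Y)).map
        ((SheafOfModules.toSheaf Y.ringCatSheaf).map α).hom) := by
  obtain ⟨V, n, hV, hfree⟩ := exists_free_nhd_generic f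
  have hn := rank_pos f V (genericPoint Y) hV n hfree
  obtain ⟨e⟩ := hfree
  let Θ : (restrictFunctor V.ι).obj (freeM Y (ULift.{u} (Fin n))) ≅
      (restrictFunctor V.ι).obj (Q f) :=
    (restrictFunctor V.ι).mapIso (freeIso Y n) ≪≫ restrictFreeIso V.ι n ≪≫ e.symm
  exact ⟨n, Mmod f V Θ, alpha f V Θ, hn, isCoh_Mmod f V n Θ,
    isIso_stalk_of_isIso_restrict _ V _ hV (isIso_restrict_alpha f V Θ)⟩

end Groth.Agent.Lead.GenIsoPush

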