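import Mathlib
import Groth.Agent.Lead.IdealMulA
import Groth.Agent.Helper9.IdealComap
import Groth.Agent.Helper4.QcohGlue

/-!
# `I · f_* F = f_* ((f⁻¹ I) · F)` for affine `f`
-/

set_option autoImplicit false
set_option linter.unusedSectionVars false
set_option linter.style.haveILetI false

open CategoryTheory Limits AlgebraicGeometry TopologicalSpace Opposite

universe u

namespace Groth.Agent.Lead.IdealMul

open Groth.Agent.Helper4 Groth.Agent.Lead.Thick

variable {X Y : Scheme.{u}}

/-- pure algebra: extension of an ideal acts like the ideal through a semilinear bijection -/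
theorem mem_smul_top_iff_of_semilinear {A B M N : Type*} [CommRing A] [CommRing B]
    [AddCommGroup M] [Module A M] [AddCommGroup N] [Module B N] (φ : A →+* B) (e : M →+ N)
    (he : Function.Bijective e) (hsm : ∀ (a : A) (m : M), e (a • m) = φ a • e m)
    (J : Ideal A) (x : M) :
    x ∈ J • (⊤ : Submodule A M) ↔ e x ∈ J.map φ • (⊤ : Submodule B N) := by
  constructor
  · intro hx
    refine Submodule.smul_induction_on hx ?_ ?_
    · intro a ha m _
      rw [hsm]
      exact Submodule.smul_mem_smul (Ideal.mem_map_of_mem φ ha) trivial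
    · intro y z hy hz
      rw [map_add]
      exact add_mem hy hz
  · intro hx
    have key : ∀ b ∈ J.map φ, ∀ n : N, ∃ y ∈ J • (⊤ : Submodule A M), e y = b • n := by
      intro b hb
      refine Submodule.span_induction ?_ ?_ ?_ ?_ hb
      · rintro _ ⟨a, ha, rfl⟩ n
        obtain ⟨m, rfl⟩ := he.2 n
        exact ⟨a • m, Submodule.smul_mem_smul ha trivial, hsm a m⟩
      · intro n
        exact ⟨0, zero_mem _, by rw [map_zero, zero_smul]⟩
      · intro b₁ b₂ _ _ h₁ h₂ n
        obtain ⟨y₁, hy₁, e₁⟩ := h₁ n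
        obtain ⟨y₂, hy₂, e₂⟩ := h₂ n
        exact ⟨y₁ + y₂, add_mem hy₁ hy₂, by rw [map_add, e₁, e₂, add_smul]⟩
      · intro c b' _ h' n
        obtain ⟨y, hy, e'⟩ := h' (c • n)
        exact ⟨y, hy, by rw [e', smul_eq_mul, mul_comm, mul_smul]⟩
    have key2 : ∀ z ∈ J.map φ • (⊤ : Submodule B N), ∃ y ∈ J • (⊤ : Submodule A M), e y = z := by
      intro z hz
      refine Submodule.smul_induction_on hz ?_ ?_
      · intro b hb n _
        exact key b hb n
      · rintro z₁ z₂ ⟨y₁, hy₁, rfl⟩ ⟨y₂, hy₂, rfl⟩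
        exact ⟨y₁ + y₂, add_mem hy₁ hy₂, map_add e y₁ y₂⟩
    obtain ⟨y, hy, hyx⟩ := key2 _ hx
    rwa [he.1 hyx] at hy

/-- pure algebra: extension of an ideal acts like the ideal through the ring map -/
theorem mem_map_smul_top_iff {A B M : Type*} [CommRing A] [CommRing B] [AddCommGroup M]
    [Module A M] [Module B M] (φ : A →+* B) (hφ : ∀ (a : A) (m : M), a • m = φ a • m)
    (J : Ideal A) (x : M) :
    x ∈ J.map φ • (⊤ : Submodule B M) ↔ x ∈ J • (⊤ : Submodule A M) :=
  (mem_smul_top_iff_of_semilinear φ (AddMonoidHom.id M) Function.bijective_id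
    (fun a m => hφ a m) J x).symm

/-- the identity between sections of `f_* F` over `U` and of `F` over `f⁻¹ U` -/
noncomputable def pushId (f : Y ⟶ X) (F : Y.Modules) (U : X.Opens) :
    Γ((Scheme.Modules.pushforward f).obj F, U) →+ Γ(F, f ⁻¹ᵁ U) where
  toFun y := y
  map_zero' := rfl
  map_add' _ _ := rfl

theorem pushId_bijective (f : Y ⟶ X) (F : Y.Modules) (U : X.Opens) :
    Function.Bijective (pushId f F U) :=
  ⟨fun _ _ h => h, fun y => ⟨y, rfl⟩⟩

theorem pushId_smul (f : Y ⟶ X) (F : Y.Modules) (U : X.Opens) (a : Γ(X, U))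
    (m : Γ((Scheme.Modules.pushforward f).obj F, U)) :
    pushId f F U (a • m) = (f.app U).hom a • pushId f F U m :=
  QcqsMod.pushforward_smul f F U a m

/-- **`I · f_*F = f_*((f⁻¹I)·F)`** for affine `f` and quasi-coherent `F` -/
theorem exists_idealMul_pushforward_iso (f : Y ⟶ X) [IsAffineHom f] (F : Y.Modules)
    [F.IsQuasicoherent] (I : X.IdealSheafData) :
    ∃ e : (Dual3.idealMul I).obj ((Scheme.Modules.pushforward f).obj F) ≅
        (Scheme.Modules.pushforward f).obj ((Dual3.idealMul (I.comap f)).obj F),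
      e.hom ≫ (Scheme.Modules.pushforward f).map (Dual3.idealMulι (I.comap f) F) =
        Dual3.idealMulι I ((Scheme.Modules.pushforward f).obj F) := by
  haveI : ((Scheme.Modules.pushforward f).obj F).IsQuasicoherent :=
    QcohGlue.isQuasicoherent_pushforward f F
  haveI : ((Scheme.Modules.pushforward f).obj
      ((Dual3.idealMul (I.comap f)).obj F)).IsQuasicoherent :=
    QcohGlue.isQuasicoherent_pushforward f _
  haveI : Mono ((Scheme.Modules.pushforward f).map (Dual3.idealMulι (I.comap f) F)) :=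
    inferInstance
  apply exists_iso_of_cover
  intro x
  obtain ⟨U, hU, hxU⟩ := QcohLimits.exists_affine_nhd x
  refine ⟨U, hU, hxU, ?_⟩
  have hU' : IsAffineOpen (f ⁻¹ᵁ U) := hU.preimage f
  rw [secR_idealMulι I _ hU]
  ext y
  have h1 : y ∈ secR ((Scheme.Modules.pushforward f).map (Dual3.idealMulι (I.comap f) F)) U ↔
      pushId f F U y ∈ secR (Dual3.idealMulι (I.comap f) F) (f ⁻¹ᵁ U) := by
    rw [mem_secR, mem_secR]
    rfl
  rw [h1, secR_idealMulι (I.comap f) F hU',
    Groth.Agent.Helper9.IdealComap.ideal_comap f I ⟨U, hU⟩ ⟨f ⁻¹ᵁ U, hU'⟩ le_rfl,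
    ← Scheme.Hom.app_eq_appLE]
  exact mem_smul_top_iff_of_semilinear (f.app U).hom (pushId f F U) (pushId_bijective f F U)
    (pushId_smul f F U) (I.ideal ⟨U, hU⟩) y

end Groth.Agent.Lead.IdealMul
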