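import Mathlib
import Groth.Prelude.Def_Coh
import Groth.Agent.Lead.AffHomA
import Groth.Agent.Lead.IdealMulC
import Groth.Agent.Lead.IdealMulF
import Groth.Agent.Lead.BCMap5
import Groth.Agent.Lead.GenIsoPush
import Groth.Agent.Lead.ExtMorA
import Groth.Agent.Helper4.FinitePush
import Groth.Agent.Helper4.AffineDict
import Groth.Agent.Helper4.SubSec
import Groth.Agent.Helper1.Dev6
import Groth.Agent.Helper2.CohQ1

/-!
# GenIsoPow: for a finite surjective morphism `f : X ⟶ Y` of integral Noetherian schemes and a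
coherent `F` on `Y`, a coherent `G` on `X` with a map `f_* G ⟶ F^r` which is generically an
isomorphism (Deligne's formula + `I · f_* = f_* (f⁻¹ I ·)`).
-/

set_option autoImplicit false
set_option linter.style.haveILetI false
universe u
open CategoryTheory CategoryTheory.Limits AlgebraicGeometry TopologicalSpace Opposite

namespace Groth.Agent.Lead.GenIsoPow

open Scheme.Modules Groth.Agent.Helper4 Groth.Agent.Helper4.FinLocFree Groth.Agent.Lead.BCMap

section Algebra

theorem exists_equiv_pi {R S : Type u} [CommRing R] [CommRing S] [Algebra R S] {M N : Type u}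
    [AddCommGroup M] [Module R M] [AddCommGroup N] [Module R N] [Module S N]
    [IsScalarTower R S N] (ρ : M →ₗ[R] N) (h : IsBaseChange S ρ) {n : ℕ}
    (b : Module.Basis (Fin n) R S) :
    Nonempty (N ≃ₗ[R] (ULift.{u} (Fin n) → M)) := by
  classical
  exact ⟨(h.equiv.symm.restrictScalars R) ≪≫ₗ
    (TensorProduct.congr b.equivFun (LinearEquiv.refl R M)) ≪≫ₗ
    (TensorProduct.comm R (Fin n → R) M) ≪≫ₗ
    (TensorProduct.piScalarRight R R M (Fin n)) ≪≫ₗ
    (LinearEquiv.funCongrLeft R M Equiv.ulift)⟩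

end Algebra

section Matrix

variable {Z : Scheme.{u}}

theorem sum_app {M N : Z.Modules} {J : Type*} (s : Finset J) (α : J → (M ⟶ N)) (U : Z.Opens)
    (x : Γ(M, U)) : (∑ k ∈ s, α k).app U x = ∑ k ∈ s, (α k).app U x := by
  classical
  induction s using Finset.induction_on with
  | empty =>
    rw [Finset.sum_empty, Finset.sum_empty, Scheme.Modules.Hom.zero_app]
    rfl
  | insert a s ha ih =>
    rw [Finset.sum_insert ha, Finset.sum_insert ha, Scheme.Modules.Hom.add_app, ← ih]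
    rfl

/-- on an affine scheme, an equivalence `Γ(A) ≃ Γ(B)^J` gives `A ≅ ∐_J B` -/
theorem exists_iso_sigma_of_equiv [IsAffine Z] (A B : Z.Modules) [A.IsQuasicoherent]
    [B.IsQuasicoherent] {J : Type u} [Fintype J]
    (E : Γ(A, ⊤) ≃+ (J → Γ(B, ⊤)))
    (hE : ∀ (r : Γ(Z, ⊤)) (x : Γ(A, ⊤)), E (r • x) = r • E x) :
    Nonempty (A ≅ ∐ fun _ : J => B) := by
  classical
  have hEs : ∀ (r : Γ(Z, ⊤)) (v : J → Γ(B, ⊤)), E.symm (r • v) = r • E.symm v := by
    intro r v
    apply E.injective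
    rw [hE, E.apply_symm_apply, E.apply_symm_apply]
  have hφ : ∀ k : J, ∃ φ : A ⟶ B, ∀ x : Γ(A, ⊤), φ.app ⊤ x = E x k := fun k =>
    Groth.Agent.Lead.AffHomA.exists_hom A B
      { toFun := fun x => E x k
        map_zero' := by rw [map_zero]; rfl
        map_add' := fun x y => by rw [map_add]; rfl }
      (fun r m => by
        show E (r • m) k = r • E m k
        rw [hE]; rfl)
  have hθ : ∀ k : J, ∃ θ : B ⟶ A, ∀ m : Γ(B, ⊤), θ.app ⊤ m = E.symm (Pi.single k m) := fun k =>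
    Groth.Agent.Lead.AffHomA.exists_hom B A
      { toFun := fun m => E.symm (Pi.single k m)
        map_zero' := by rw [Pi.single_zero, map_zero]
        map_add' := fun x y => by rw [Pi.single_add, map_add] }
      (fun r m => by
        show E.symm (Pi.single k (r • m)) = r • E.symm (Pi.single k m)
        rw [← hEs, Pi.single_smul])
  choose φ hφ using hφ
  choose θ hθ using hθ
  have h1 : ∀ j k, θ j ≫ φ k = if j = k then 𝟙 B else 0 := by
    intro j k
    apply Groth.Agent.Lead.AffHomA.hom_ext B B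
    intro m
    have e1 : (θ j ≫ φ k).app ⊤ m = (φ k).app ⊤ ((θ j).app ⊤ m) := by
      rw [Scheme.Modules.Hom.comp_app]; rfl
    rw [e1, hθ, hφ, E.apply_symm_apply]
    by_cases hjk : j = k
    · subst hjk
      rw [if_pos rfl, Pi.single_eq_same]
      rfl
    · rw [if_neg hjk, Pi.single_eq_of_ne (Ne.symm hjk), Scheme.Modules.Hom.zero_app]
      rfl
  have h2 : ∑ k, φ k ≫ θ k = 𝟙 A := by
    apply Groth.Agent.Lead.AffHomA.hom_ext A A
    intro x
    rw [sum_app]
    have e1 : ∀ k, (φ k ≫ θ k).app ⊤ x = E.symm (Pi.single k (E x k)) := by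
      intro k
      have : (φ k ≫ θ k).app ⊤ x = (θ k).app ⊤ ((φ k).app ⊤ x) := by
        rw [Scheme.Modules.Hom.comp_app]; rfl
      rw [this, hφ, hθ]
    rw [Finset.sum_congr rfl (fun k _ => e1 k), ← map_sum, Finset.univ_sum_single,
      E.symm_apply_apply]
    rfl
  refine ⟨⟨∑ k, φ k ≫ Sigma.ι (fun _ : J => B) k, Sigma.desc θ, ?_, ?_⟩⟩
  · rw [Preadditive.sum_comp]
    simp only [Category.assoc, colimit.ι_desc, Cofan.mk_ι_app]
    exact h2
  · apply Sigma.hom_ext
    intro j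
    rw [← Category.assoc, Sigma.ι_desc, Preadditive.comp_sum, Category.comp_id]
    simp only [← Category.assoc, h1]
    rw [Finset.sum_eq_single j]
    · rw [if_pos rfl, Category.id_comp]
    · intro k _ hkj
      rw [if_neg (Ne.symm hkj), zero_comp]
    · intro h
      exact absurd (Finset.mem_univ j) h

end Matrix

section Restrict

variable {Y : Scheme.{u}}

theorem restrict_top_smul (M : Y.Modules) (V : Y.Opens) (a : Γ((V : Scheme.{u}), ⊤))
    (m : Γ((restrictFunctor V.ι).obj M, ⊤)) :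
    a • m = (show Γ(Y, V.ι ''ᵁ ⊤) from a) • (show Γ(M, V.ι ''ᵁ ⊤) from m) := by
  have h : a • m = ((V.ι.appIso ⊤).inv a) • (show Γ(M, V.ι ''ᵁ ⊤) from m) := rfl
  rw [h, Scheme.Opens.ι_appIso]
  rfl

/-- away from the support of `I`, the inclusion `I · N ⟶ N` is an isomorphism -/
theorem isIso_restrict_idealMulι (I : Y.IdealSheafData) (N : Y.Modules) [N.IsQuasicoherent]
    (U : Y.Opens) (hU : ∀ x ∈ U, x ∉ I.support) :
    IsIso ((restrictFunctor U.ι).map (Dual3.idealMulι I N)) := by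
  haveI : Mono ((restrictFunctor U.ι).map (Dual3.idealMulι I N)) := inferInstance
  obtain ⟨e, he⟩ := SubSec.exists_iso_of_sections
    ((restrictFunctor U.ι).map (Dual3.idealMulι I N)) (𝟙 ((restrictFunctor U.ι).obj N))
    (fun T' s => ⟨((restrictFunctor U.ι).map (Dual3.idealMulι I N)).app T' s, rfl⟩)
    (fun T' t => by
      obtain ⟨k, hk⟩ := Groth.Agent.Lead.ExtMor.in_idealMulι_of_disjoint I N (U.ι ''ᵁ T') (by
        rintro _ ⟨z, -, rfl⟩
        exact hU _ z.2) t
      exact ⟨k, hk⟩)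
  have : (restrictFunctor U.ι).map (Dual3.idealMulι I N) = e.hom := by
    rw [← he, Category.comp_id]
  rw [this]
  infer_instance

end Restrict

section Sections

variable {X Y : Scheme.{u}}

/-- sections of `f_* f^* F` over an affine open over which `f_* O_X` is free of rank `n` -/
theorem exists_addEquiv_sections (f : X ⟶ Y) [IsAffineHom f] (F : Y.Modules) [F.IsQuasicoherent]
    {U' : Y.Opens} (hU' : IsAffineOpen U') {n : ℕ}
    (b₀ : Module.Basis (Fin n) Γ(Y, U') Γ((pushforward f).obj (Coh.structureModule X), U')) :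
    ∃ E : Γ((pushforward f).obj ((Scheme.Modules.pullback f).obj F), U') ≃+
        (ULift.{u} (Fin n) → Γ(F, U')),
      ∀ (r : Γ(Y, U')) (x : Γ((pushforward f).obj ((Scheme.Modules.pullback f).obj F), U')),
        E (r • x) = r • E x := by
  have hW : IsAffineOpen (f ⁻¹ᵁ U') := hU'.preimage f
  obtain ⟨ρ, -, hb⟩ := exists_isBaseChange_pbSec f F hU' hW le_rfl
  letI := (f.appLE U' (f ⁻¹ᵁ U') le_rfl).hom.toAlgebra
  letI : Module Γ(Y, U') Γ((Scheme.Modules.pullback f).obj F, f ⁻¹ᵁ U') :=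
    Module.compHom _ (f.appLE U' (f ⁻¹ᵁ U') le_rfl).hom
  haveI : IsScalarTower Γ(Y, U') Γ(X, f ⁻¹ᵁ U') Γ((Scheme.Modules.pullback f).obj F, f ⁻¹ᵁ U') :=
    IsScalarTower.of_compHom _ _ _
  let ℓ : Γ((pushforward f).obj (Coh.structureModule X), U') ≃ₗ[Γ(Y, U')] Γ(X, f ⁻¹ᵁ U') :=
    { toFun := fun m => m
      invFun := fun m => m
      left_inv := fun _ => rfl
      right_inv := fun _ => rfl
      map_add' := fun _ _ => rfl
      map_smul' := fun r m => by
        show (f.app U' r) * (show Γ(X, f ⁻¹ᵁ U') from m) =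
          (f.appLE U' (f ⁻¹ᵁ U') le_rfl r) * (show Γ(X, f ⁻¹ᵁ U') from m)
        rw [Scheme.Hom.app_eq_appLE] }
  obtain ⟨E₀⟩ := exists_equiv_pi ρ hb (b₀.map ℓ)
  refine ⟨E₀.toAddEquiv, ?_⟩
  intro r x
  have h1 : (r • x : Γ((pushforward f).obj ((Scheme.Modules.pullback f).obj F), U')) =
      (r • (show Γ((Scheme.Modules.pullback f).obj F, f ⁻¹ᵁ U') from x) :
        Γ((Scheme.Modules.pullback f).obj F, f ⁻¹ᵁ U')) := by
    rw [QcqsMod.pushforward_smul, Scheme.Hom.app_eq_appLE]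
    rfl
  exact (congrArg E₀ h1).trans (E₀.map_smul r x)

end Sections

section Main

/-- S10949 -/
theorem main {X Y : Scheme.{u}} [IsIntegral X] [IsNoetherian X] [IsIntegral Y] [IsNoetherian Y]
    (f : X ⟶ Y) [IsFinite f] [Surjective f] (F : Y.Modules) (hF : Coh.IsCoh F) :
    ∃ (r : ℕ) (G : X.Modules)
      (β : (Scheme.Modules.pushforward f).obj G ⟶ ∐ fun _ : ULift.{u} (Fin r) => F),
      0 < r ∧ Coh.IsCoh G ∧
      IsIso ((TopCat.Presheaf.stalkFunctor AddCommGrpCat.{u} (genericPoint ↥Y)).map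
        ((SheafOfModules.toSheaf Y.ringCatSheaf).map β).hom) := by
  classical
  haveI : F.IsQuasicoherent := hF.1
  obtain ⟨V₀, n, hη₀, hfree₀⟩ := Groth.Agent.Lead.GenIsoPush.exists_free_nhd_generic f
  have hn : 0 < n := Groth.Agent.Lead.GenIsoPush.rank_pos f V₀ _ hη₀ n hfree₀
  obtain ⟨V, hV, hηV, hVV₀⟩ : ∃ V : Y.Opens, IsAffineOpen V ∧ genericPoint Y ∈ V ∧ V ≤ V₀ := by
    obtain ⟨_, ⟨V, hV : IsAffineOpen V, rfl⟩, hηV, hVV₀⟩ :=
      Y.isBasis_affineOpens.exists_subset_of_mem_open hη₀ V₀.2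
    exact ⟨V, hV, hηV, SetLike.coe_subset_coe.mp hVV₀⟩
  have hU'V : V.ι ''ᵁ ⊤ = V := V.ι_image_top
  have hU'aff : IsAffineOpen (V.ι ''ᵁ ⊤) := by rw [hU'V]; exact hV
  haveI hOq : (Coh.structureModule X).IsQuasicoherent :=
    Groth.Agent.Helper1.IdealMod.isQuasicoherent_structureModule X
  haveI : ((pushforward f).obj (Coh.structureModule X)).IsQuasicoherent :=
    QcohGlue.isQuasicoherent_pushforward f _
  have hfreeU' : IsFreeAlong ((pushforward f).obj (Coh.structureModule X)) (V.ι ''ᵁ ⊤).ι n :=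
    hfree₀.of_le (hU'V.le.trans hVV₀)
  obtain ⟨b₀⟩ := (isFreeAlong_ι_iff_basis hU'aff _).mp hfreeU'
  let P : X.Modules := (Scheme.Modules.pullback f).obj F
  have hP : Coh.IsCoh P := Groth.Agent.Helper1.Dev.isCoh_pullback f F hF
  haveI : P.IsQuasicoherent := hP.1
  let 𝒜 : Y.Modules := (pushforward f).obj P
  haveI h𝒜q : 𝒜.IsQuasicoherent := QcohGlue.isQuasicoherent_pushforward f P
  have h𝒜ft : SheafOfModules.IsFiniteType (R := Y.ringCatSheaf) 𝒜 :=
    FinitePush.isFiniteType_pushforward_of_isFinite f P hP.2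
  obtain ⟨E₁, hE₁⟩ := exists_addEquiv_sections f F hU'aff b₀
  let R := restrictFunctor V.ι
  let J : Type u := ULift.{u} (Fin n)
  haveI : IsAffine (V : Scheme.{u}) := hV
  let E : Γ(R.obj 𝒜, ⊤) ≃+ (J → Γ(R.obj F, ⊤)) := E₁
  have hE : ∀ (r : Γ((V : Scheme.{u}), ⊤)) (x : Γ(R.obj 𝒜, ⊤)), E (r • x) = r • E x := by
    intro r x
    refine (congrArg E₁ (restrict_top_smul 𝒜 V r x)).trans ?_
    refine (hE₁ r x).trans ?_
    funext k
    exact (restrict_top_smul F V r (E₁ x k)).symm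
  obtain ⟨Φ⟩ := exists_iso_sigma_of_equiv (R.obj 𝒜) (R.obj F) E hE
  haveI : PreservesColimitsOfSize.{u, u} R := (restrictAdjunction V.ι).leftAdjoint_preservesColimits
  let φ : R.obj 𝒜 ⟶ R.obj (∐ fun _ : J => F) :=
    Φ.hom ≫ (PreservesCoproduct.iso R (fun _ : J => F)).inv
  haveI : IsIso φ := inferInstance
  let Zc : Closeds Y := ⟨(V : Set Y)ᶜ, V.2.isClosed_compl⟩
  let I : Y.IdealSheafData := Scheme.IdealSheafData.vanishingIdeal Zc
  have hsupp : (I.support : Set Y) = (V : Set Y)ᶜ :=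
    Scheme.IdealSheafData.coe_support_vanishingIdeal Zc
  have hUV : (V : Set Y) = (I.support : Set Y)ᶜ := by rw [hsupp, compl_compl]
  haveI : (∐ fun _ : J => F).IsQuasicoherent :=
    QcohLimits.isQuasicoherent_sigma _ (fun _ => inferInstance)
  obtain ⟨m, ψ, hψ⟩ := Groth.Agent.Lead.IdealMul.exists_lift_of_restrict I
    (∐ fun _ : J => F) 𝒜 h𝒜ft V hUV φ
  obtain ⟨e, he⟩ := Groth.Agent.Lead.IdealMul.exists_idealMul_pushforward_iso f P (I ^ m)
  let G : X.Modules := (Dual3.idealMul ((I ^ m).comap f)).obj P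
  have hG : Coh.IsCoh G :=
    Groth.Agent.Helper2.CohQ1.isCoh_of_mono (Dual3.idealMulι ((I ^ m).comap f) P)
      (inferInstance : G.IsQuasicoherent) hP
  let β : (pushforward f).obj G ⟶ ∐ fun _ : J => F := e.inv ≫ ψ
  refine ⟨n, G, β, hn, hG, ?_⟩
  apply Groth.Agent.Lead.GenIsoPush.isIso_stalk_of_isIso_restrict β V _ hηV
  have hdisj : ∀ x ∈ V, x ∉ (I ^ m).support := fun x hx =>
    Groth.Agent.Lead.ExtMor.not_mem_support_pow I m x (by
      intro hx'
      have h2 : x ∈ (V : Set Y)ᶜ := hsupp ▸ hx'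
      exact h2 hx)
  haveI := isIso_restrict_idealMulι (I ^ m) 𝒜 V hdisj
  have hβ : R.map β = R.map e.inv ≫ R.map (Dual3.idealMulι (I ^ m) 𝒜) ≫ φ := by
    rw [Functor.map_comp, hψ]
  change IsIso (R.map β)
  rw [hβ]
  infer_instance

end Main

end Groth.Agent.Lead.GenIsoPow
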