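import Mathlib
open CategoryTheory Limits AlgebraicGeometry

namespace Groth.Agent.Lead.GeoFibA
universe u

lemma reduced_discrete_of_unramified (K B : Type u) [Field K] [CommRing B] [Algebra K B]
    [Algebra.EssFiniteType K B] [Algebra.FormallyUnramified K B] :
    IsReduced B ∧ DiscreteTopology (PrimeSpectrum B) := by
  have h1 : IsReduced B := Algebra.FormallyUnramified.isReduced_of_field K B
  have h2 : Module.Finite K B := Algebra.FormallyUnramified.finite_of_free K B
  have h3 : IsArtinianRing B := isArtinian_of_tower K inferInstance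
  exact ⟨h1, inferInstance⟩

lemma unramified_of_reduced_discrete (K B : Type u) [Field K] [IsAlgClosed K] [CommRing B]
    [Algebra K B] [Algebra.FiniteType K B] [IsReduced B] [DiscreteTopology (PrimeSpectrum B)] :
    Algebra.FormallyUnramified K B := by
  have hN : IsNoetherianRing B := Algebra.FiniteType.isNoetherianRing K B
  have hd : Ring.KrullDimLE 0 B :=
    (PrimeSpectrum.discreteTopology_iff_finite_and_krullDimLE_zero.mp inferInstance).2
  have hA : IsArtinianRing B := isArtinianRing_iff_isNoetherianRing_krullDimLE_zero.mpr ⟨hN, hd⟩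
  let e := (IsArtinianRing.equivPi B).restrictScalars K
  refine (Algebra.FormallyUnramified.iff_of_equiv e).mpr ?_
  rw [Algebra.FormallyUnramified.pi_iff]
  intro m
  have : Algebra.FiniteType K (B ⧸ m.asIdeal) :=
    Algebra.FiniteType.of_surjective (Ideal.Quotient.mkₐ K m.asIdeal)
      (Ideal.Quotient.mkₐ_surjective K m.asIdeal)
  letI : Field (B ⧸ m.asIdeal) := Ideal.Quotient.field m.asIdeal
  have hfin : Module.Finite K (B ⧸ m.asIdeal) := finite_of_finite_type_of_isJacobsonRing K _
  have hbij : Function.Bijective (algebraMap K (B ⧸ m.asIdeal)) :=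
    IsAlgClosed.algebraMap_bijective_of_isIntegral
  exact Algebra.FormallyUnramified.of_surjective (Algebra.ofId K (B ⧸ m.asIdeal)) hbij.2


/-- scheme version, forward direction -/
lemma reduced_discrete {K : Type u} [Field K] {P : Scheme.{u}} (q : P ⟶ Spec (CommRingCat.of K))
    [FormallyUnramified q] [LocallyOfFiniteType q] : IsReduced P ∧ DiscreteTopology P := by
  have key : ∀ i : P.affineOpenCover.I₀, _root_.IsReduced (P.affineOpenCover.X i) ∧
      DiscreteTopology (Spec (P.affineOpenCover.X i)) := by
    intro i
    obtain ⟨ψ, hψ⟩ : ∃ ψ : CommRingCat.of K ⟶ P.affineOpenCover.X i,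
        Spec.map ψ = P.affineOpenCover.f i ≫ q :=
      ⟨Spec.preimage (P.affineOpenCover.f i ≫ q), Spec.map_preimage _⟩
    have h1 : FormallyUnramified (Spec.map ψ) := by
      rw [hψ]
      exact IsZariskiLocalAtSource.comp (P := @FormallyUnramified) inferInstance _
    have h2 : LocallyOfFiniteType (Spec.map ψ) := by rw [hψ]; infer_instance
    rw [HasRingHomProperty.Spec_iff (P := @FormallyUnramified)] at h1
    rw [HasRingHomProperty.Spec_iff (P := @LocallyOfFiniteType)] at h2
    algebraize [ψ.hom]
    have h3 : Algebra.EssFiniteType K (P.affineOpenCover.X i) := inferInstance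
    obtain ⟨h4, h5⟩ := reduced_discrete_of_unramified K (P.affineOpenCover.X i)
    exact ⟨h4, h5⟩
  refine ⟨?_, ?_⟩
  · haveI : ∀ i, IsReduced (P.affineOpenCover.openCover.X i) := fun i ↦ by
      haveI := (key i).1
      exact inferInstanceAs (IsReduced (Spec (P.affineOpenCover.X i)))
    exact IsReduced.of_openCover _ P.affineOpenCover.openCover
  · refine discreteTopology_iff_isOpen_singleton.mpr fun x ↦ ?_
    obtain ⟨i, t, rfl⟩ := P.affineOpenCover.openCover.exists_eq x
    haveI : DiscreteTopology (P.affineOpenCover.openCover.X i) := (key i).2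
    have := (P.affineOpenCover.openCover.f i).isOpenEmbedding.isOpenMap {t} (isOpen_discrete _)
    rwa [Set.image_singleton] at this

/-- scheme version, backward direction -/
lemma unramified_of {K : Type u} [Field K] [IsAlgClosed K] {P : Scheme.{u}}
    (q : P ⟶ Spec (CommRingCat.of K)) [LocallyOfFiniteType q] [IsReduced P] [DiscreteTopology P] :
    FormallyUnramified q := by
  rw [IsZariskiLocalAtSource.iff_of_openCover (P := @FormallyUnramified)
    P.affineOpenCover.openCover]
  intro i
  change FormallyUnramified (P.affineOpenCover.f i ≫ q)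
  obtain ⟨ψ, hψ⟩ : ∃ ψ : CommRingCat.of K ⟶ P.affineOpenCover.X i,
      Spec.map ψ = P.affineOpenCover.f i ≫ q :=
    ⟨Spec.preimage (P.affineOpenCover.f i ≫ q), Spec.map_preimage _⟩
  have h2 : LocallyOfFiniteType (Spec.map ψ) := by rw [hψ]; infer_instance
  rw [HasRingHomProperty.Spec_iff (P := @LocallyOfFiniteType)] at h2
  rw [← hψ, HasRingHomProperty.Spec_iff (P := @FormallyUnramified)]
  haveI : IsReduced (Spec (P.affineOpenCover.X i)) :=
    isReduced_of_isOpenImmersion (P.affineOpenCover.f i)
  haveI : _root_.IsReduced (P.affineOpenCover.X i) := (affine_isReduced_iff _).mp inferInstance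
  haveI : DiscreteTopology (PrimeSpectrum (P.affineOpenCover.X i)) :=
    (P.affineOpenCover.f i).isOpenEmbedding.isEmbedding.discreteTopology
  algebraize [ψ.hom]
  exact unramified_of_reduced_discrete K (P.affineOpenCover.X i)

end Groth.Agent.Lead.GeoFibA
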