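import Groth.Agent.Lead.GeoFibA
import Groth.Agent.S5007
import Mathlib
open CategoryTheory Limits AlgebraicGeometry

namespace Groth.Agent.Lead.GeoFibB
universe u
open Groth.Agent.Lead.GeoFibA

theorem main {X S : Scheme.{u}} (f : X ⟶ S) [LocallyOfFinitePresentation f] :
    FormallyUnramified f ↔
      ∀ (K : Type u) [Field K] [IsAlgClosed K] (s : Spec (CommRingCat.of K) ⟶ S),
        IsReduced (pullback f s) ∧ DiscreteTopology ↥(pullback f s) := by
  constructor
  · intro hf K _ _ s
    haveI : FormallyUnramified (pullback.snd f s) :=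
      MorphismProperty.pullback_snd (P := @FormallyUnramified) f s hf
    exact reduced_discrete (pullback.snd f s)
  · intro H
    rw [Groth.Agent.S5007.result (𝟙 S) f f (Category.comp_id f)]
    intro s
    -- the point
    obtain ⟨τ, hτ⟩ : ∃ τ : (𝟙 S : S ⟶ S).fiber s ⟶ S, τ = (𝟙 S : S ⟶ S).fiberι s := ⟨_, rfl⟩
    rw [← hτ]
    obtain ⟨ρ, hρ⟩ : ∃ ρ : (𝟙 S : S ⟶ S).fiber s ⟶ Spec (S.residueField s),
      ρ = pullback.snd (𝟙 S) (S.fromSpecResidueField s) := ⟨_, rfl⟩
    haveI : IsIso ρ := by
      rw [hρ]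
      exact (IsPullback.of_hasPullback (𝟙 S) (S.fromSpecResidueField s)).isIso_snd_of_isIso
    let K := AlgebraicClosure (S.residueField s)
    let t₀ : Spec (CommRingCat.of K) ⟶ Spec (S.residueField s) :=
      Spec.map (CommRingCat.ofHom (algebraMap (S.residueField s) K))
    obtain ⟨t, ht⟩ : ∃ t : Spec (CommRingCat.of K) ⟶ (𝟙 S : S ⟶ S).fiber s, t = t₀ ≫ inv ρ :=
      ⟨_, rfl⟩
    have hflat : Flat t := by
      rw [ht]
      have : Flat t₀ := by
        rw [HasRingHomProperty.Spec_iff (P := @Flat)]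
        exact RingHom.flat_algebraMap_iff.mpr inferInstance
      infer_instance
    have hsurj : Surjective t := by
      rw [ht]
      have : Surjective t₀ := by
        refine ⟨fun y ↦ ?_⟩
        obtain ⟨x⟩ : Nonempty (Spec (CommRingCat.of K)) := inferInstance
        exact ⟨x, Subsingleton.elim _ _⟩
      infer_instance
    have hqc : QuasiCompact t := inferInstance
    obtain ⟨hred, hdisc⟩ := H K (t ≫ τ)
    have hB : FormallyUnramified (pullback.snd f (t ≫ τ)) := unramified_of _
    let ℓ : pullback f (t ≫ τ) ⟶ pullback f τ :=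
      pullback.lift (pullback.fst f _) (pullback.snd f _ ≫ t)
        (by rw [pullback.condition, Category.assoc])
    have hℓ1 : ℓ ≫ pullback.fst f τ = pullback.fst f _ := pullback.lift_fst _ _ _
    have hℓ2 : ℓ ≫ pullback.snd f τ = pullback.snd f _ ≫ t := pullback.lift_snd _ _ _
    have hsq : IsPullback ℓ (pullback.snd f (t ≫ τ)) (pullback.snd f τ) t := by
      refine IsPullback.of_right ?_ hℓ2 (IsPullback.of_hasPullback f τ)
      rw [hℓ1]
      exact IsPullback.of_hasPullback f _
    exact MorphismProperty.of_isPullback_of_descendsAlong (P := @FormallyUnramified)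
      (Q := @Surjective ⊓ @Flat ⊓ @QuasiCompact) hsq.flip ⟨⟨hsurj, hflat⟩, hqc⟩ hB

end Groth.Agent.Lead.GeoFibB
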