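import Mathlib
import Groth.Prelude
import Groth.Agent.Helper1.LN3

/-!
# Lead: a geometric quotient of a normal integral scheme is normal
-/

set_option autoImplicit false
set_option linter.style.haveILetI false
set_option linter.unusedSectionVars false
set_option linter.unusedVariables false

open CategoryTheory CategoryTheory.Limits AlgebraicGeometry MonoidalCategory
  CartesianMonoidalCategory MonObj TopologicalSpace Opposite

universe u

namespace Groth.Agent.Lead.GeomQNorm

/-- pure algebra: the ring of "invariants" of an integrally closed domain is integrally closed -/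
theorem isIntegrallyClosed_of_invariants {R A B : Type*} [CommRing R] [IsDomain R] [CommRing A]
    [IsDomain A] [IsIntegrallyClosed A] [CommRing B] (i0 : R →+* A) (hi0 : Function.Injective i0)
    (s p : A →+* B)
    (hrange : ∀ c : A, s c = p c → c ∈ Set.range i0) (hinv : ∀ r, s (i0 r) = p (i0 r))
    (hreg : ∀ b : A, b ≠ 0 → ∀ x : B, p b * x = 0 → x = 0) : IsIntegrallyClosed R := by
  rw [isIntegrallyClosed_iff (FractionRing R)]
  intro x hx
  obtain ⟨a, b, hb, rfl⟩ := IsFractionRing.div_surjective (A := R) x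
  have hb0 : b ≠ 0 := nonZeroDivisors.ne_zero hb
  have hib0 : i0 b ≠ 0 := fun h0 => hb0 (hi0 (by rw [h0, map_zero]))
  have hg : Function.Injective ((algebraMap A (FractionRing A)).comp i0) :=
    (IsFractionRing.injective A (FractionRing A)).comp hi0
  let j : FractionRing R →+* FractionRing A := IsFractionRing.lift hg
  have hj : ∀ r : R, j (algebraMap R (FractionRing R) r) = algebraMap A (FractionRing A) (i0 r) :=
    fun r => IsFractionRing.lift_algebraMap hg r
  have hint : IsIntegral A (j (algebraMap R (FractionRing R) a / algebraMap R (FractionRing R) b)) := by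
    refine IsIntegral.map_of_comp_eq i0 j ?_ hx
    ext r
    exact (hj r).symm
  obtain ⟨c, hc⟩ := IsIntegrallyClosed.isIntegral_iff.mp hint
  have hbK : algebraMap A (FractionRing A) (i0 b) ≠ 0 := by
    intro h0
    exact hib0 (IsFractionRing.injective A (FractionRing A) (by rw [h0, map_zero]))
  have hcb : c * i0 b = i0 a := by
    apply IsFractionRing.injective A (FractionRing A)
    rw [map_mul, hc, map_div₀, hj, hj, div_mul_cancel₀ _ hbK]
  have hsc : s c = p c := by
    have h1 : p (i0 b) * (s c - p c) = 0 := by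
      have e1 : s c * s (i0 b) = s (i0 a) := by rw [← map_mul, hcb]
      have e2 : p c * p (i0 b) = p (i0 a) := by rw [← map_mul, hcb]
      rw [hinv] at e1
      rw [hinv a] at e1
      rw [mul_sub, mul_comm, e1, mul_comm, e2, sub_self]
    exact sub_eq_zero.mp (hreg _ hib0 _ h1)
  obtain ⟨r, hr⟩ := hrange c hsc
  refine ⟨r, ?_⟩
  have hrb : r * b = a := by
    apply hi0
    rw [map_mul, hr, hcb]
  have hbK' : algebraMap R (FractionRing R) b ≠ 0 := by
    intro h0
    exact hb0 (IsFractionRing.injective R (FractionRing R) (by rw [h0, map_zero]))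
  rw [eq_div_iff hbK', ← map_mul, hrb]

/-- sections of an integral scheme with integrally closed local rings over any non-empty open
are integrally closed -/
theorem isIntegrallyClosed_opens (X : Scheme.{u}) [IsIntegral X]
    (hX : ∀ x : X, IsIntegrallyClosed (X.presheaf.stalk x)) (U : X.Opens) [Nonempty U] :
    IsIntegrallyClosed Γ(X, U) := by
  haveI : IsIntegral U.toScheme := inferInstance
  haveI h1 : IsIntegrallyClosed Γ(U.toScheme, ⊤) := by
    refine Groth.Agent.Helper1.LN.isIntegrallyClosed_top U.toScheme (fun x => ?_)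
    haveI := hX x.1
    exact IsIntegrallyClosed.of_equiv (U.stalkIso x).symm.commRingCatIsoToRingEquiv
  exact IsIntegrallyClosed.of_equiv (U.topIso).commRingCatIsoToRingEquiv

/-- pulling back a non-zero function on an integral scheme along a flat morphism gives a
non-zero-divisor -/
theorem regular_of_flat {Z X : Scheme.{u}} (h : Z ⟶ X) [Flat h] [IsIntegral X] (U : X.Opens)
    (W : Z.Opens) (e : W ≤ h ⁻¹ᵁ U) (b : Γ(X, U)) (hb : b ≠ 0) (x : Γ(Z, W))
    (hx : (h.appLE U W e).hom b * x = 0) : x = 0 := by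
  have key : ∀ z : W, ∃ (W' : Z.Opens) (hW' : W' ≤ W), z.1 ∈ W' ∧
      (Z.presheaf.map (homOfLE hW').op).hom x = (Z.presheaf.map (homOfLE hW').op).hom 0 := by
    intro z
    obtain ⟨U', hU', hzU', hU'U⟩ :=
      exists_isAffineOpen_mem_and_subset (X := X) (x := h z.1) (U := U) (e z.2)
    obtain ⟨W', hW', hzW', hW'W⟩ :=
      exists_isAffineOpen_mem_and_subset (X := Z) (x := z.1) (U := W ⊓ h ⁻¹ᵁ U') ⟨z.2, hzU'⟩
    have hW'1 : W' ≤ W := fun w hw => (hW'W hw).1
    have hW'2 : W' ≤ h ⁻¹ᵁ U' := fun w hw => (hW'W hw).2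
    refine ⟨W', hW'1, hzW', ?_⟩
    rw [map_zero]
    haveI : Nonempty U' := ⟨⟨_, hzU'⟩⟩
    haveI : Nonempty U := ⟨⟨_, e z.2⟩⟩
    set b' : Γ(X, U') := (X.presheaf.map (homOfLE hU'U).op).hom b with hb'
    have hb'0 : b' ≠ 0 := by
      intro h0
      apply hb
      apply map_injective_of_isIntegral X (homOfLE hU'U)
      rw [map_zero]
      exact h0
    have hflat : (h.appLE U' W' hW'2).hom.Flat := h.flat_appLE hU' hW' hW'2
    have hreg : IsSMulRegular Γ(Z, W') ((h.appLE U' W' hW'2).hom b') := by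
      letI := (h.appLE U' W' hW'2).hom.toAlgebra
      haveI : Module.Flat Γ(X, U') Γ(Z, W') := hflat
      exact IsSMulRegular.of_flat (S := Γ(Z, W')) (IsRegular.of_ne_zero hb'0).left.isSMulRegular
    have hcomp : (h.appLE U' W' hW'2).hom b' =
        (Z.presheaf.map (homOfLE hW'1).op).hom ((h.appLE U W e).hom b) := by
      rw [hb', ← CommRingCat.comp_apply, ← CommRingCat.comp_apply, Scheme.Hom.map_appLE,
        Scheme.Hom.appLE_map]
    apply hreg
    show (h.appLE U' W' hW'2).hom b' * _ = (h.appLE U' W' hW'2).hom b' * 0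
    rw [mul_zero, hcomp, ← map_mul, hx, map_zero]
  choose W' hW' hz hres using key
  exact TopCat.Sheaf.eq_of_locally_eq' Z.sheaf W' W (fun z => homOfLE (hW' z))
    (fun z hzW => Opens.mem_iSup.mpr ⟨⟨z, hzW⟩, hz ⟨z, hzW⟩⟩) x 0 hres


theorem main (k : Type u) [Field k] [IsAlgClosed k] [CharZero k]
    (G X Y : Over (Spec (CommRingCat.of k))) [GrpObj G] [IsAffine G.left] [LocallyOfFiniteType G.hom]
    [LocallyOfFiniteType X.hom] [QuasiCompact X.hom] [IsSeparated X.hom] [IsIntegral X.left]
    (hX : Pi1.IsNormalScheme X.left)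
    [LocallyOfFiniteType Y.hom] [QuasiCompact Y.hom] [IsSeparated Y.hom]
    (a : AlgGrp.Action G X) (φ : X ⟶ Y) (h : GIT.IsGeomQuot a φ) :
    Pi1.IsNormalScheme Y.left := by
  intro y
  obtain ⟨V, hV, hyV, -⟩ :=
    exists_isAffineOpen_mem_and_subset (X := Y.left) (x := y) (U := ⊤) trivial
  obtain ⟨x0, hx0⟩ := h.surj y
  haveI : Nonempty (φ.left ⁻¹ᵁ V) := ⟨⟨x0, by show φ.left x0 ∈ V; rw [show φ.left x0 = y from hx0]; exact hyV⟩⟩
  haveI : IsIntegrallyClosed Γ(X.left, φ.left ⁻¹ᵁ V) :=
    isIntegrallyClosed_opens X.left (fun x => (hX x).2) _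
  obtain ⟨hinj, hrange⟩ := h.sections V
  haveI : IsDomain Γ(Y.left, V) := Function.Injective.isDomain (φ.left.app V).hom hinj
  haveI : Flat (snd G X).left := by
    have : (snd G X).left = pullback.snd G.hom X.hom := rfl
    rw [this]
    haveI : Flat G.hom := inferInstance
    infer_instance
  haveI : IsIntegrallyClosed Γ(Y.left, V) := by
    refine isIntegrallyClosed_of_invariants (φ.left.app V).hom hinj
      (a.act.left.appLE (φ.left ⁻¹ᵁ V)
        (a.act.left ⁻¹ᵁ (φ.left ⁻¹ᵁ V) ⊓ (snd G X).left ⁻¹ᵁ (φ.left ⁻¹ᵁ V)) inf_le_left).hom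
      ((snd G X).left.appLE (φ.left ⁻¹ᵁ V)
        (a.act.left ⁻¹ᵁ (φ.left ⁻¹ᵁ V) ⊓ (snd G X).left ⁻¹ᵁ (φ.left ⁻¹ᵁ V)) inf_le_right).hom
      ?_ ?_ ?_
    · intro c hc
      have : c ∈ {f | GIT.IsInvSection a φ V f} := hc
      rw [← hrange] at this
      exact this
    · intro r
      have : (φ.left.app V).hom r ∈ Set.range (φ.left.app V) := ⟨r, rfl⟩
      rw [hrange] at this
      exact this
    · intro b hb x hx
      exact regular_of_flat (snd G X).left _ _ inf_le_right b hb x hx
  letI : Algebra Γ(Y.left, V) (Y.left.presheaf.stalk y) :=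
    Y.left.presheaf.algebra_section_stalk ⟨y, hyV⟩
  haveI hloc : IsLocalization.AtPrime (Y.left.presheaf.stalk y) (hV.primeIdealOf ⟨y, hyV⟩).asIdeal :=
    hV.isLocalization_stalk ⟨y, hyV⟩
  have hle : (hV.primeIdealOf ⟨y, hyV⟩).asIdeal.primeCompl ≤ nonZeroDivisors Γ(Y.left, V) := by
    intro r hr
    refine mem_nonZeroDivisors_of_ne_zero ?_
    rintro rfl
    exact hr (Ideal.zero_mem _)
  exact ⟨IsLocalization.isDomain_of_le_nonZeroDivisors _ hle,
    isIntegrallyClosed_of_isLocalization _ _ hle⟩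

end Groth.Agent.Lead.GeomQNorm
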