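import Mathlib

set_option autoImplicit false
open Polynomial

namespace Groth.Agent.Lead.GoodImage

/-- `Good φ`: for every prime `Q` of `S` and `g ∉ Q`, the image of `V(Q) ∩ D(g)` in `Spec R`
contains a nonempty open subset of `V(φ⁻¹ Q)` of the form `D(u) ∩ V(φ⁻¹ Q)`. -/
def Good {R S : Type*} [CommRing R] [CommRing S] (φ : R →+* S) : Prop :=
  ∀ (Q : Ideal S), Q.IsPrime → ∀ g : S, g ∉ Q → ∃ u : R, u ∉ Q.comap φ ∧
    ∀ p : Ideal R, p.IsPrime → Q.comap φ ≤ p → u ∉ p →
      ∃ Q' : Ideal S, Q'.IsPrime ∧ Q ≤ Q' ∧ g ∉ Q' ∧ Q'.comap φ = p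

theorem good_of_surjective {R S : Type*} [CommRing R] [CommRing S] (φ : R →+* S)
    (hφ : Function.Surjective φ) : Good φ := by
  intro Q hQ g hg
  obtain ⟨u, rfl⟩ := hφ g
  refine ⟨u, fun h => hg h, ?_⟩
  intro p hp hqp hup
  have hker : RingHom.ker φ ≤ p := by
    intro x hx
    apply hqp
    rw [Ideal.mem_comap, RingHom.mem_ker.mp hx]
    exact Q.zero_mem
  have hcm : (p.map φ).comap φ = p := by
    rw [Ideal.comap_map_of_surjective φ hφ]
    apply le_antisymm
    · apply sup_le le_rfl
      intro x hx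
      apply hker
      rw [Ideal.mem_comap, Ideal.mem_bot] at hx
      exact hx
    · exact le_sup_left
  refine ⟨p.map φ, Ideal.map_isPrime_of_surjective hφ hker, ?_, ?_, hcm⟩
  · rw [← Ideal.map_comap_of_surjective φ hφ Q]
    exact Ideal.map_mono hqp
  · intro h
    apply hup
    rw [← hcm]
    exact h

theorem good_comp {R S T : Type*} [CommRing R] [CommRing S] [CommRing T] (φ : R →+* S)
    (ψ : S →+* T) (hφ : Good φ) (hψ : Good ψ) : Good (ψ.comp φ) := by
  intro Q hQ g hg
  obtain ⟨v, hv, Hv⟩ := hψ Q hQ g hg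
  have hQS : (Q.comap ψ).IsPrime := Ideal.comap_isPrime ψ Q
  obtain ⟨u, hu, Hu⟩ := hφ (Q.comap ψ) hQS v hv
  refine ⟨u, ?_, ?_⟩
  · rw [← Ideal.comap_comap]; exact hu
  · intro p hp hqp hup
    rw [← Ideal.comap_comap] at hqp
    obtain ⟨P, hP, hQP, hvP, hPp⟩ := Hu p hp hqp hup
    obtain ⟨Q', hQ', hQQ', hgQ', hQ'P⟩ := Hv P hP hQP hvP
    refine ⟨Q', hQ', hQQ', hgQ', ?_⟩
    rw [← Ideal.comap_comap, hQ'P, hPp]

/-- algebraic case -/
theorem core_alg {R D : Type*} [CommRing R] [IsDomain R] [CommRing D] [IsDomain D] [Algebra R D]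
    (hinj : Function.Injective (algebraMap R D)) (α : D) (hα : Algebra.adjoin R {α} = ⊤)
    (g : D) (hg : g ≠ 0) (halg : IsAlgebraic R α) :
    ∃ u : R, u ≠ 0 ∧ ∀ p : Ideal R, p.IsPrime → u ∉ p →
      ∃ P : Ideal D, P.IsPrime ∧ g ∉ P ∧ P.comap (algebraMap R D) = p := by
  let L := FractionRing D
  have hDL : Function.Injective (algebraMap D L) := IsFractionRing.injective D L
  have hRL : Function.Injective (algebraMap R L) := by
    rw [IsScalarTower.algebraMap_eq R D L]
    exact hDL.comp hinj
  have halgD : ∀ d : D, IsAlgebraic R d := by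
    intro d
    have h1 : (Algebra.adjoin R {α}).IsAlgebraic := Algebra.isAlgebraic_adjoin_singleton_iff.mpr halg
    have hd : d ∈ Algebra.adjoin R {α} := by rw [hα]; trivial
    exact h1 d hd
  let α' : L := algebraMap D L α
  let g' : L := algebraMap D L g
  have hg' : g' ≠ 0 := by
    intro h
    apply hg
    apply hDL
    rw [map_zero]; exact h
  have hα' : IsAlgebraic R α' := (halgD α).algebraMap
  have hz : IsAlgebraic R g'⁻¹ := ((halgD g).algebraMap).inv
  obtain ⟨a, ha0, haint⟩ := hα'.exists_integral_multiple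
  obtain ⟨b, hb0, hbint⟩ := hz.exists_integral_multiple
  refine ⟨a * b, mul_ne_zero ha0 hb0, ?_⟩
  intro p hp hup
  have hap : a ∉ p := fun h => hup (Ideal.mul_mem_right _ _ h)
  have hbp : b ∉ p := fun h => hup (Ideal.mul_mem_left _ _ h)
  -- the localization at p maps to L
  let Rp := Localization.AtPrime p
  have hunits : ∀ y : p.primeCompl, IsUnit (algebraMap R L y) := by
    intro y
    apply IsUnit.mk0
    intro h
    have : (y : R) = 0 := hRL (by rw [h, map_zero])
    exact y.2 (this ▸ p.zero_mem)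
  let φ : Rp →+* L := IsLocalization.lift (M := p.primeCompl) hunits
  have hφ : ∀ r : R, φ (algebraMap R Rp r) = algebraMap R L r := fun r => IsLocalization.lift_eq _ _
  obtain ⟨V, hV, hVloc⟩ := IsLocalRing.exists_factor_valuationRing φ
  let ψ : R →+* V := (φ.codRestrict V.toSubring hV).comp (algebraMap R Rp)
  have hψ : ∀ r : R, ((ψ r : V) : L) = algebraMap R L r := fun r => hφ r
  -- integral elements over R lie in V
  have hint : ∀ x : L, IsIntegral R x → x ∈ V := by
    intro x hx
    have hxV : IsIntegral V x := by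
      obtain ⟨P, hP, hPx⟩ := hx
      refine ⟨P.map ψ, hP.map ψ, ?_⟩
      rw [← hPx]
      rw [Polynomial.eval₂_map]
      have : (algebraMap V L).comp ψ = algebraMap R L := by
        ext r; exact hψ r
      rw [this]
    obtain ⟨y, hy⟩ := IsIntegrallyClosed.isIntegral_iff.mp hxV
    rw [← hy]
    exact y.2
  -- units
  have hunitV : ∀ r : R, r ∉ p → ∀ x : L, algebraMap R L r * x ∈ V → x ∈ V := by
    intro r hr x hx
    have h1 : IsUnit (algebraMap R Rp r) :=
      (IsLocalization.AtPrime.isUnit_to_map_iff Rp p r).mpr hr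
    have h2 : IsUnit (ψ r) := h1.map (φ.codRestrict V.toSubring hV)
    obtain ⟨w, hw⟩ := h2
    have h3 : x = ((↑w⁻¹ : V) : L) * (algebraMap R L r * x) := by
      rw [← mul_assoc, ← hψ r, ← hw]
      have h4 : ((↑w⁻¹ : V) : L) * ((w : V) : L) = 1 := by
        have h5 : ((↑w⁻¹ : V) * (w : V) : V) = 1 := Units.inv_mul w
        have h6 := congrArg (fun v : V => (v : L)) h5
        exact h6
      rw [h4, one_mul]
    rw [h3]
    exact V.mul_mem _ _ (↑w⁻¹ : V).2 hx
  have hαV : α' ∈ V := by
    apply hunitV a hap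
    rw [← Algebra.smul_def]
    exact hint _ haint
  have hzV : g'⁻¹ ∈ V := by
    apply hunitV b hbp
    rw [← Algebra.smul_def]
    exact hint _ hbint
  -- all of D maps into V
  have hDV : ∀ d : D, algebraMap D L d ∈ V := by
    intro d
    have hd : d ∈ Algebra.adjoin R {α} := by rw [hα]; trivial
    induction hd using Algebra.adjoin_induction with
    | mem x hx =>
      rw [Set.mem_singleton_iff] at hx
      rw [hx]; exact hαV
    | algebraMap r =>
      rw [← IsScalarTower.algebraMap_apply R D L, ← hψ r]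
      exact (ψ r).2
    | add x y _ _ hx hy => rw [map_add]; exact V.add_mem _ _ hx hy
    | mul x y _ _ hx hy => rw [map_mul]; exact V.mul_mem _ _ hx hy
  let ρ : D →+* V := (algebraMap D L).codRestrict V.toSubring hDV
  have hρ : ∀ d : D, ((ρ d : V) : L) = algebraMap D L d := fun d => rfl
  refine ⟨(IsLocalRing.maximalIdeal V).comap ρ, Ideal.comap_isPrime _ _, ?_, ?_⟩
  · intro h
    rw [Ideal.mem_comap, IsLocalRing.mem_maximalIdeal, mem_nonunits_iff] at h
    apply h
    refine IsUnit.of_mul_eq_one (⟨g'⁻¹, hzV⟩ : V) ?_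
    apply Subtype.ext
    change algebraMap D L g * g'⁻¹ = 1
    exact mul_inv_cancel₀ hg'
  · ext x
    rw [Ideal.mem_comap, Ideal.mem_comap]
    have h1 : ρ (algebraMap R D x) = ψ x := by
      apply Subtype.ext
      rw [hρ, hψ, ← IsScalarTower.algebraMap_apply]
    rw [h1, IsLocalRing.mem_maximalIdeal, mem_nonunits_iff]
    rw [← IsLocalization.AtPrime.to_map_mem_maximal_iff Rp p x, IsLocalRing.mem_maximalIdeal,
      mem_nonunits_iff, not_iff_not]
    constructor
    · intro h
      exact hVloc.map_nonunit _ h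
    · intro h
      exact h.map (φ.codRestrict V.toSubring hV)

/-- the key one-generator step -/
theorem core_one {R D : Type*} [CommRing R] [IsDomain R] [CommRing D] [IsDomain D] [Algebra R D]
    (hinj : Function.Injective (algebraMap R D)) (α : D) (hα : Algebra.adjoin R {α} = ⊤)
    (g : D) (hg : g ≠ 0) :
    ∃ u : R, u ≠ 0 ∧ ∀ p : Ideal R, p.IsPrime → u ∉ p →
      ∃ P : Ideal D, P.IsPrime ∧ g ∉ P ∧ P.comap (algebraMap R D) = p := by
  by_cases halg : IsAlgebraic R α
  · exact core_alg hinj α hα g hg halg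
  · -- transcendental case
    have htr : Transcendental R α := halg
    have hinj' : Function.Injective (Polynomial.aeval (R := R) α) :=
      transcendental_iff_injective.mp htr
    have hsurj : Function.Surjective (Polynomial.aeval (R := R) α) := by
      intro d
      have : d ∈ (Polynomial.aeval (R := R) α).range := by
        rw [← Algebra.adjoin_singleton_eq_range_aeval, hα]; trivial
      exact this
    let e : R[X] ≃ₐ[R] D := AlgEquiv.ofBijective (Polynomial.aeval α) ⟨hinj', hsurj⟩
    let G := e.symm g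
    have hG : G ≠ 0 := by
      intro h
      apply hg
      have : e G = g := e.apply_symm_apply g
      rw [← this, h, map_zero]
    refine ⟨G.leadingCoeff, Polynomial.leadingCoeff_ne_zero.mpr hG, ?_⟩
    intro p hp hup
    have hpC : (p.map (C : R →+* R[X])).IsPrime := (Ideal.isPrime_map_C_iff_isPrime p).mpr hp
    refine ⟨(p.map (C : R →+* R[X])).comap (e.symm : D →+* R[X]), Ideal.comap_isPrime _ _, ?_, ?_⟩
    · intro h
      rw [Ideal.mem_comap] at h
      have := (Ideal.mem_map_C_iff.mp h) G.natDegree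
      exact hup this
    · ext x
      rw [Ideal.mem_comap, Ideal.mem_comap]
      have : (e.symm : D →+* R[X]) (algebraMap R D x) = C x := by
        change e.symm (algebraMap R D x) = C x
        rw [e.symm.commutes]; rfl
      rw [this]
      constructor
      · intro h
        have := (Ideal.mem_map_C_iff.mp h) 0
        simpa using this
      · intro h
        exact Ideal.mem_map_of_mem _ h


theorem good_C (R : Type*) [CommRing R] : Good (C : R →+* R[X]) := by
  intro Q hQ g hg
  let q : Ideal R := Q.comap C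
  have hq : q.IsPrime := Ideal.comap_isPrime _ _
  let ι : R ⧸ q →+* R[X] ⧸ Q := Ideal.quotientMap Q C le_rfl
  have hι : Function.Injective ι := Ideal.quotientMap_injective
  letI : Algebra (R ⧸ q) (R[X] ⧸ Q) := ι.toAlgebra
  have halgmap : ∀ r : R, algebraMap (R ⧸ q) (R[X] ⧸ Q) (Ideal.Quotient.mk q r) =
      Ideal.Quotient.mk Q (C r) := fun r => rfl
  let α : R[X] ⧸ Q := Ideal.Quotient.mk Q X
  have hα : Algebra.adjoin (R ⧸ q) {α} = ⊤ := by
    rw [eq_top_iff]
    rintro d -
    obtain ⟨f, rfl⟩ := Ideal.Quotient.mk_surjective d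
    induction f using Polynomial.induction_on with
    | C a =>
      rw [← halgmap]
      exact Subalgebra.algebraMap_mem _ _
    | add f g hf hg => rw [map_add]; exact Subalgebra.add_mem _ hf hg
    | monomial n a _ =>
      rw [map_mul, map_pow, ← halgmap]
      exact Subalgebra.mul_mem _ (Subalgebra.algebraMap_mem _ _)
        (Subalgebra.pow_mem _ (Algebra.subset_adjoin (Set.mem_singleton _)) _)
  have hg' : Ideal.Quotient.mk Q g ≠ 0 := by
    intro h
    exact hg (Ideal.Quotient.eq_zero_iff_mem.mp h)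
  obtain ⟨ū, hū, H⟩ := core_one (R := R ⧸ q) (D := R[X] ⧸ Q) hι α hα _ hg'
  obtain ⟨u, rfl⟩ := Ideal.Quotient.mk_surjective ū
  refine ⟨u, fun h => hū (Ideal.Quotient.eq_zero_iff_mem.mpr h), ?_⟩
  intro p hp hqp hup
  have hker : RingHom.ker (Ideal.Quotient.mk q) ≤ p := by rw [Ideal.mk_ker]; exact hqp
  have hp' : (p.map (Ideal.Quotient.mk q)).IsPrime :=
    Ideal.map_isPrime_of_surjective Ideal.Quotient.mk_surjective hker
  have hcm : (p.map (Ideal.Quotient.mk q)).comap (Ideal.Quotient.mk q) = p := by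
    rw [Ideal.comap_map_of_surjective _ Ideal.Quotient.mk_surjective, ← RingHom.ker_eq_comap_bot]
    exact sup_eq_left.mpr hker
  have hup' : Ideal.Quotient.mk q u ∉ p.map (Ideal.Quotient.mk q) := by
    intro h
    apply hup
    rw [← hcm]; exact h
  obtain ⟨P, hP, hgP, hPp⟩ := H _ hp' hup'
  refine ⟨P.comap (Ideal.Quotient.mk Q), Ideal.comap_isPrime _ _, ?_, hgP, ?_⟩
  · intro x hx
    rw [Ideal.mem_comap, Ideal.Quotient.eq_zero_iff_mem.mpr hx]
    exact P.zero_mem
  · rw [← hcm, ← hPp]
    ext x
    simp only [Ideal.mem_comap]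
    rw [halgmap]

theorem good_mvPolynomial (R : Type*) [CommRing R] (n : ℕ) :
    Good (MvPolynomial.C : R →+* MvPolynomial (Fin n) R) := by
  induction n with
  | zero => exact good_of_surjective _ (MvPolynomial.C_surjective (Fin 0))
  | succ n ih =>
    have h1 : Good (C : MvPolynomial (Fin n) R →+* (MvPolynomial (Fin n) R)[X]) := good_C _
    have h2 := good_comp _ _ ih h1
    have h3 : Good ((MvPolynomial.finSuccEquiv R n).symm : (MvPolynomial (Fin n) R)[X] →+*
        MvPolynomial (Fin (n + 1)) R) :=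
      good_of_surjective _ (MvPolynomial.finSuccEquiv R n).symm.surjective
    have h4 := good_comp _ _ h2 h3
    have heq := MvPolynomial.finSuccEquiv_comp_C_eq_C (R := R) n
    rw [← heq]
    exact h4

theorem good_of_finiteType {R S : Type*} [CommRing R] [CommRing S] [Algebra R S]
    [Algebra.FiniteType R S] : Good (algebraMap R S) := by
  obtain ⟨n, f, hf⟩ := Algebra.FiniteType.iff_quotient_mvPolynomial''.mp
    (inferInstance : Algebra.FiniteType R S)
  have h1 := good_comp _ _ (good_mvPolynomial R n) (good_of_surjective (f : MvPolynomial (Fin n) R →+* S) hf)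
  have heq : (f : MvPolynomial (Fin n) R →+* S).comp (MvPolynomial.C : R →+* MvPolynomial (Fin n) R) =
      algebraMap R S := by
    refine RingHom.ext fun r => ?_
    simp only [RingHom.comp_apply]
    change f (MvPolynomial.C r) = _
    rw [← MvPolynomial.algebraMap_eq, f.commutes]
  rw [← heq]
  exact h1

end Groth.Agent.Lead.GoodImage
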