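import Groth.Agent.Lead.GoodImage
import Groth.Agent.Lead.ProConsLib

set_option autoImplicit false

namespace Groth.Agent.Lead.GoodImage

open PrimeSpectrum

/-- prime-spectrum form of `good_of_finiteType` -/
theorem exists_basicOpen_subset_image {R S : Type*} [CommRing R] [CommRing S] [Algebra R S]
    [Algebra.FiniteType R S] (y : PrimeSpectrum S) (g : S) (hg : g ∉ y.asIdeal) :
    ∃ u : R, u ∉ (comap (algebraMap R S) y).asIdeal ∧
      ∀ x : PrimeSpectrum R, comap (algebraMap R S) y ⤳ x → u ∉ x.asIdeal →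
        ∃ y' : PrimeSpectrum S, y ⤳ y' ∧ g ∉ y'.asIdeal ∧ comap (algebraMap R S) y' = x := by
  obtain ⟨u, hu, H⟩ := good_of_finiteType (R := R) (S := S) y.asIdeal y.2 g hg
  refine ⟨u, hu, ?_⟩
  intro x hx hux
  rw [← PrimeSpectrum.le_iff_specializes] at hx
  obtain ⟨Q', hQ', hQQ', hgQ', hQ'x⟩ := H x.asIdeal x.2 hx hux
  refine ⟨⟨Q', hQ'⟩, ?_, hgQ', ?_⟩
  · rw [← PrimeSpectrum.le_iff_specializes]
    exact hQQ'
  · exact PrimeSpectrum.ext hQ'x

/-- a constructible subset of a prime spectrum containing `y` contains `closure {y} ∩ D(g)` for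
some `g ∉ y` -/
theorem exists_basicOpen_of_mem_constructible {S : Type*} [CommRing S]
    {E : Set (PrimeSpectrum S)} (hE : Topology.IsConstructible E) {y : PrimeSpectrum S}
    (hy : y ∈ E) :
    ∃ g : S, g ∉ y.asIdeal ∧ ∀ y' : PrimeSpectrum S, y ⤳ y' → g ∉ y'.asIdeal → y' ∈ E := by
  obtain ⟨A, B, hA, -, hB, -, hyA, hyB, hAB⟩ :=
    Groth.Agent.Lead.ProConsLib.exists_compact_opens_of_isConstructible hE y hy
  obtain ⟨_, ⟨g, rfl⟩, hyg, hgA⟩ :=
    PrimeSpectrum.isTopologicalBasis_basic_opens.exists_subset_of_mem_open hyA hA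
  refine ⟨g, fun h => hyg h, ?_⟩
  intro y' hyy' hgy'
  apply hAB
  refine ⟨hgA hgy', fun hB' => hyB (hyy'.mem_open hB hB')⟩

end Groth.Agent.Lead.GoodImage
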