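import Mathlib
import Groth.Agent.Lead.GrFlatB

set_option autoImplicit false
set_option linter.style.haveILetI false
universe u

namespace Groth.Agent.Lead.GrStratA

open Submodule

section PartA

variable {R : Type u} [CommRing R] (S : Submonoid R) (R' : Type u) [CommRing R'] [Algebra R R']
  [IsLocalization S R']
  {N N' : Type u} [AddCommGroup N] [Module R N] [AddCommGroup N'] [Module R N'] [Module R' N']
  [IsScalarTower R R' N'] (ℓ : N →ₗ[R] N') [IsLocalizedModule S ℓ] (K₁ K₂ : Submodule R N)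

theorem localized'_map_mkQ :
    (Submodule.map K₂.mkQ K₁).localized' R' S (K₂.toLocalizedQuotient' R' S ℓ) =
      Submodule.map (K₂.localized' R' S ℓ).mkQ (K₁.localized' R' S ℓ) := by
  rw [Submodule.localized'_eq_span R' S (K₂.toLocalizedQuotient' R' S ℓ) (Submodule.map K₂.mkQ K₁),
    Submodule.localized'_eq_span R' S ℓ K₁, Submodule.map_span]
  congr 1
  ext y
  simp only [Set.mem_image, SetLike.mem_coe, Submodule.mem_map]
  constructor
  · rintro ⟨_, ⟨x, hx, rfl⟩, rfl⟩
    exact ⟨ℓ x, ⟨x, hx, rfl⟩, rfl⟩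
  · rintro ⟨_, ⟨x, hx, rfl⟩, rfl⟩
    exact ⟨K₂.mkQ x, ⟨x, hx, rfl⟩, rfl⟩

theorem flat_map_mkQ_localized' {XL : Type u} [AddCommGroup XL] [Module R XL]
    (g : ↥(Submodule.map K₂.mkQ K₁) →ₗ[R] XL) [IsLocalizedModule S g] (hflat : Module.Flat R XL) :
    Module.Flat R' ↥(Submodule.map (K₂.localized' R' S ℓ).mkQ (K₁.localized' R' S ℓ)) := by
  have hGL := localized'_map_mkQ S R' ℓ K₁ K₂
  let e : ↥((Submodule.map K₂.mkQ K₁).localized' R' S (K₂.toLocalizedQuotient' R' S ℓ)) ≃ₗ[R] XL :=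
    IsLocalizedModule.linearEquiv S
      ((Submodule.map K₂.mkQ K₁).toLocalized' R' S (K₂.toLocalizedQuotient' R' S ℓ)) g
  have h1 : Module.Flat R
      ↥((Submodule.map K₂.mkQ K₁).localized' R' S (K₂.toLocalizedQuotient' R' S ℓ)) :=
    Module.Flat.of_linearEquiv e
  have h2 : Module.Flat R'
      ↥((Submodule.map K₂.mkQ K₁).localized' R' S (K₂.toLocalizedQuotient' R' S ℓ)) :=
    (Module.flat_iff_of_isLocalization R' S _).mpr h1
  exact Module.Flat.of_linearEquiv (LinearEquiv.ofEq _ _ hGL.symm)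

end PartA

section Equivs

/-- the image of `K₁` in `N ⧸ K₂` is `K₁ ⧸ (K₁ ∩ K₂)`. -/
noncomputable def mapMkQEquiv {R N : Type*} [Ring R] [AddCommGroup N] [Module R N]
    (K₁ K₂ : Submodule R N) :
    (↥K₁ ⧸ Submodule.comap K₁.subtype K₂) ≃ₗ[R] ↥(Submodule.map K₂.mkQ K₁) :=
  (Submodule.quotEquivOfEq _ _ (by rw [LinearMap.ker_comp, Submodule.ker_mkQ])).trans
    ((LinearMap.quotKerEquivRange (K₂.mkQ ∘ₗ K₁.subtype)).trans
      (LinearEquiv.ofEq _ _ (by rw [LinearMap.range_comp, Submodule.range_subtype])))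

/-- restriction of scalars commutes with the graded-piece quotient. -/
noncomputable def grRestrictEquiv (R₀ : Type*) {R M : Type*} [CommRing R₀] [CommRing R] [Algebra R₀ R]
    [AddCommGroup M] [Module R M] [Module R₀ M] [IsScalarTower R₀ R M] (P Q : Submodule R M) :
    (↥(P.restrictScalars R₀) ⧸
      Submodule.comap (P.restrictScalars R₀).subtype (Q.restrictScalars R₀)) ≃ₗ[R₀]
      (↥P ⧸ Submodule.comap P.subtype Q) :=
  (Submodule.Quotient.equiv _ ((Submodule.comap P.subtype Q).restrictScalars R₀)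
    ((Submodule.restrictScalarsEquiv R₀ R M P).restrictScalars R₀) (by
      ext ⟨x, hx⟩
      simp only [Submodule.mem_map, Submodule.mem_comap, Submodule.restrictScalars_mem]
      constructor
      · rintro ⟨⟨y, hy⟩, hyQ, hxy⟩
        have : y = x := congrArg Subtype.val hxy
        subst this
        exact hyQ
      · intro h
        exact ⟨⟨x, hx⟩, h, rfl⟩)).trans
    (Submodule.Quotient.restrictScalarsEquiv R₀ (Submodule.comap P.subtype Q))

end Equivs

end Groth.Agent.Lead.GrStratA
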