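import Mathlib
import Groth.Agent.Lead.GrFlatB
import Groth.Agent.Lead.GrStratA

set_option autoImplicit false
set_option linter.style.haveILetI false
universe u

open TensorProduct

namespace Groth.Agent.Lead.GrStratB

open Groth.Agent.Lead.GrStratA

section Ell

variable {A₀ : Type u} [CommRing A₀] (Ā : Type u) [CommRing Ā] [Algebra A₀ Ā]
  (A' : Type u) [CommRing A'] [Algebra A₀ A'] [Algebra Ā A'] [IsScalarTower A₀ Ā A']
  {M₀ : Type u} [AddCommGroup M₀] [Module A₀ M₀]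
  {Mb : Type u} [AddCommGroup Mb] [Module A₀ Mb] [Module Ā Mb] [IsScalarTower A₀ Ā Mb]
  {ψ : M₀ →ₗ[A₀] Mb} (hψ : IsBaseChange Ā ψ)

/-- the comparison map `M̄ → A' ⊗ M₀`. -/
noncomputable def ell : Mb →ₗ[Ā] A' ⊗[A₀] M₀ := hψ.lift (TensorProduct.mk A₀ A' M₀ 1)

theorem ell_apply (m : M₀) : ell Ā A' hψ (ψ m) = 1 ⊗ₜ m := hψ.lift_eq _ m

theorem isBaseChange_ell : IsBaseChange A' (ell Ā A' hψ) := by
  refine IsBaseChange.of_comp hψ ?_
  have : ((ell Ā A' hψ : Mb →ₗ[A₀] A' ⊗[A₀] M₀) ∘ₗ ψ) = TensorProduct.mk A₀ A' M₀ 1 := by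
    ext m
    exact ell_apply Ā A' hψ m
  rw [this]
  exact TensorProduct.isBaseChange A₀ M₀ A'

theorem isLocalizedModule_ell (S : Submonoid Ā) [IsLocalization S A'] :
    IsLocalizedModule S (ell Ā A' hψ) :=
  (isLocalizedModule_iff_isBaseChange S A' _).mpr (isBaseChange_ell Ā A' hψ)

theorem range_baseChange_eq (S : Submonoid Ā) [IsLocalization S A']
    [IsLocalizedModule S (ell Ā A' hψ)] (P : Submodule A₀ M₀) (K : Submodule Ā Mb)
    (hPK : ψ '' (P : Set M₀) = (K : Set Mb)) :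
    LinearMap.range (LinearMap.baseChange A' P.subtype) = K.localized' A' S (ell Ā A' hψ) := by
  rw [Submodule.localized'_eq_span, ← hPK]
  change P.baseChange A' = _
  rw [Submodule.baseChange_eq_span]
  congr 1
  ext y
  simp only [Submodule.map_coe, Set.mem_image, SetLike.mem_coe]
  constructor
  · rintro ⟨m, hm, rfl⟩
    exact ⟨ψ m, ⟨m, hm, rfl⟩, ell_apply Ā A' hψ m⟩
  · rintro ⟨_, ⟨m, hm, rfl⟩, rfl⟩
    exact ⟨m, hm, (ell_apply Ā A' hψ m).symm⟩

include hψ in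
theorem flat_of_grLocalized (S : Submonoid Ā) [IsLocalization S A']
    (P₁ P₂ : Submodule A₀ M₀) (K₁ K₂ : Submodule Ā Mb)
    (h₁ : ψ '' (P₁ : Set M₀) = (K₁ : Set Mb)) (h₂ : ψ '' (P₂ : Set M₀) = (K₂ : Set Mb))
    {XL : Type u} [AddCommGroup XL] [Module Ā XL]
    (g : ↥(Submodule.map K₂.mkQ K₁) →ₗ[Ā] XL) [IsLocalizedModule S g] (hflat : Module.Flat Ā XL) :
    Module.Flat A' ↥(Submodule.map (LinearMap.range (LinearMap.baseChange A' P₂.subtype)).mkQ
        (LinearMap.range (LinearMap.baseChange A' P₁.subtype))) := by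
  haveI := isLocalizedModule_ell Ā A' hψ S
  rw [range_baseChange_eq Ā A' hψ S P₁ K₁ h₁, range_baseChange_eq Ā A' hψ S P₂ K₂ h₂]
  exact flat_map_mkQ_localized' S A' (ell Ā A' hψ) K₁ K₂ g hflat

end Ell

end Groth.Agent.Lead.GrStratB
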