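import Mathlib
import Groth.Agent.Lead.GrFlatB
import Groth.Agent.Lead.GrStratB

set_option autoImplicit false
set_option linter.style.haveILetI false
universe u

open TensorProduct

namespace Groth.Agent.Lead.GrStratC

open Groth.Agent.Lead.GrStratA Groth.Agent.Lead.GrStratB Groth.Agent.Lead.GrFlatA

section Concrete

variable {A₀ : Type u} [CommRing A₀] (B₀ : Type u) [CommRing B₀] [Algebra A₀ B₀]
  (M₀ : Type u) [AddCommGroup M₀] [Module B₀ M₀] [Module A₀ M₀] [IsScalarTower A₀ B₀ M₀]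
  (p : Ideal A₀)

/-- `B₀ / pB₀`. -/
abbrev Bq : Type u := B₀ ⧸ p.map (algebraMap A₀ B₀)

/-- `M₀ / pM₀`. -/
abbrev Mq : Type u := M₀ ⧸ (p.map (algebraMap A₀ B₀) • ⊤ : Submodule B₀ M₀)

noncomputable instance modAq : Module (A₀ ⧸ p) (Mq B₀ M₀ p) :=
  Module.compHom _ (algebraMap (A₀ ⧸ p) (Bq B₀ p))

instance towerAqBq : IsScalarTower (A₀ ⧸ p) (Bq B₀ p) (Mq B₀ M₀ p) :=
  IsScalarTower.of_algebraMap_smul fun _ _ => rfl

instance towerBBq : IsScalarTower B₀ (Bq B₀ p) (Mq B₀ M₀ p) :=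
  IsScalarTower.of_algebraMap_smul fun b x => by
    obtain ⟨m, rfl⟩ := Submodule.Quotient.mk_surjective _ x
    rfl

instance towerAAq : IsScalarTower A₀ (A₀ ⧸ p) (Mq B₀ M₀ p) :=
  IsScalarTower.of_algebraMap_smul fun a x => by
    obtain ⟨m, rfl⟩ := Submodule.Quotient.mk_surjective _ x
    show Submodule.Quotient.mk (algebraMap A₀ B₀ a • m) = Submodule.Quotient.mk (a • m)
    rw [algebraMap_smul]

/-- the quotient map. -/
noncomputable def psi : M₀ →ₗ[A₀] Mq B₀ M₀ p :=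
  (Submodule.mkQ (p.map (algebraMap A₀ B₀) • ⊤ : Submodule B₀ M₀)).restrictScalars A₀

theorem isBaseChange_psi : IsBaseChange (A₀ ⧸ p) (psi B₀ M₀ p) := by
  have hq : (p • ⊤ : Submodule A₀ M₀) =
      (p.map (algebraMap A₀ B₀) • (⊤ : Submodule B₀ M₀)).restrictScalars A₀ := by
    rw [Ideal.smul_restrictScalars, Submodule.restrictScalars_top]
  let e : (A₀ ⧸ p) ⊗[A₀] M₀ ≃ₗ[A₀ ⧸ p] Mq B₀ M₀ p :=
    (TensorProduct.quotTensorEquivQuotSMul M₀ p ≪≫ₗ Submodule.quotEquivOfEq _ _ hq ≪≫ₗ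
      Submodule.Quotient.restrictScalarsEquiv A₀
        (p.map (algebraMap A₀ B₀) • (⊤ : Submodule B₀ M₀))).extendScalarsOfSurjective
      Ideal.Quotient.mk_surjective
  refine IsBaseChange.of_equiv e fun m => ?_
  show Submodule.Quotient.restrictScalarsEquiv A₀ _ (Submodule.quotEquivOfEq _ _ hq
    (TensorProduct.quotTensorEquivQuotSMul M₀ p (1 ⊗ₜ m))) = _
  rw [TensorProduct.quotTensorEquivQuotSMul_mk_one_tmul, Submodule.quotEquivOfEq_mk,
    Submodule.Quotient.restrictScalarsEquiv_mk]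
  rfl

variable (J₀ : Ideal B₀)

/-- the image of `J₀` in `B̄`. -/
abbrev Jq : Ideal (Bq B₀ p) := J₀.map (algebraMap B₀ (Bq B₀ p))

theorem psi_image (n : ℕ) :
    psi B₀ M₀ p '' ((J₀ ^ n • (⊤ : Submodule B₀ M₀)).restrictScalars A₀ : Set M₀) =
      (((Jq B₀ p J₀) ^ n • (⊤ : Submodule (Bq B₀ p) (Mq B₀ M₀ p))).restrictScalars (A₀ ⧸ p) :
        Set (Mq B₀ M₀ p)) := by
  have h1 : ((Jq B₀ p J₀) ^ n • (⊤ : Submodule (Bq B₀ p) (Mq B₀ M₀ p))).restrictScalars B₀ =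
      Submodule.map (Submodule.mkQ (p.map (algebraMap A₀ B₀) • ⊤ : Submodule B₀ M₀))
        (J₀ ^ n • ⊤) := by
    rw [Submodule.map_smul'', Submodule.map_top, Submodule.range_mkQ, ← Ideal.map_pow,
      Ideal.smul_restrictScalars, Submodule.restrictScalars_top]
  have h2 := congrArg (fun X : Submodule B₀ (Mq B₀ M₀ p) => (X : Set (Mq B₀ M₀ p))) h1
  simp only [Submodule.coe_restrictScalars, Submodule.map_coe] at h2 ⊢
  exact h2.symm

theorem exists_flat_stratum [IsNoetherianRing A₀] [Algebra.FiniteType A₀ B₀] [Module.Finite B₀ M₀]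
    [p.IsPrime] :
    ∃ f : A₀, f ∉ p ∧ ∀ (g : A₀) (n : ℕ),
      Module.Flat (Localization.Away (Ideal.Quotient.mk p (f * g)))
        ↥(Submodule.map (LinearMap.range (LinearMap.baseChange
            (Localization.Away (Ideal.Quotient.mk p (f * g)))
            ((J₀ ^ (n + 1) • (⊤ : Submodule B₀ M₀)).restrictScalars A₀).subtype)).mkQ
          (LinearMap.range (LinearMap.baseChange
            (Localization.Away (Ideal.Quotient.mk p (f * g)))
            ((J₀ ^ n • (⊤ : Submodule B₀ M₀)).restrictScalars A₀).subtype))) := by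
  haveI : IsNoetherianRing B₀ := Algebra.FiniteType.isNoetherianRing A₀ B₀
  haveI : IsDomain (A₀ ⧸ p) := Ideal.Quotient.isDomain p
  haveI hft1 : Algebra.FiniteType A₀ (Bq B₀ p) :=
    Algebra.FiniteType.of_surjective (Ideal.Quotient.mkₐ A₀ _) (Ideal.Quotient.mkₐ_surjective A₀ _)
  haveI hft2 : Algebra.FiniteType (A₀ ⧸ p) (Bq B₀ p) :=
    Algebra.FiniteType.of_restrictScalars_finiteType A₀ (A₀ ⧸ p) (Bq B₀ p)
  haveI hft3 : Algebra.FiniteType (A₀ ⧸ p) (Bq B₀ p ⧸ Jq B₀ p J₀) :=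
    Algebra.FiniteType.of_surjective (Ideal.Quotient.mkₐ (A₀ ⧸ p) _)
      (Ideal.Quotient.mkₐ_surjective _ _)
  haveI : Module.Finite (Bq B₀ p) (Mq B₀ M₀ p) := Module.Finite.of_restrictScalars_finite B₀ _ _
  obtain ⟨fb, hfb, hflat⟩ := GrFlatB.exists_flat_grPiece (A := A₀ ⧸ p) (Jq B₀ p J₀) (Mq B₀ M₀ p)
  obtain ⟨f, rfl⟩ := Ideal.Quotient.mk_surjective fb
  refine ⟨f, fun hf => hfb (Ideal.Quotient.eq_zero_iff_mem.mpr hf), fun g n => ?_⟩
  have hfg : Ideal.Quotient.mk p (f * g) = Ideal.Quotient.mk p f * Ideal.Quotient.mk p g :=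
    map_mul _ _ _
  let S : Submonoid (A₀ ⧸ p) := Submonoid.closure {Ideal.Quotient.mk p f, Ideal.Quotient.mk p g}
  have hfS : Ideal.Quotient.mk p f ∈ S := Submonoid.subset_closure (by simp)
  have hgS : Ideal.Quotient.mk p g ∈ S := Submonoid.subset_closure (by simp)
  haveI hS : IsLocalization S (Localization.Away (Ideal.Quotient.mk p (f * g))) := by
    refine IsLocalization.of_le_of_exists_dvd (Submonoid.powers (Ideal.Quotient.mk p (f * g))) S
      ?_ ?_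
    · rw [Submonoid.powers_le, hfg]
      exact mul_mem hfS hgS
    · intro x hx
      induction hx using Submonoid.closure_induction with
      | mem x hx =>
        refine ⟨_, Submonoid.mem_powers _, ?_⟩
        rcases hx with rfl | rfl
        · rw [hfg]; exact dvd_mul_right _ _
        · rw [hfg]; exact dvd_mul_left _ _
      | one => exact ⟨1, one_mem _, dvd_rfl⟩
      | mul x y _ _ hx hy =>
        obtain ⟨a, ha, hxa⟩ := hx
        obtain ⟨b, hb, hyb⟩ := hy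
        exact ⟨a * b, mul_mem ha hb, mul_dvd_mul hxa hyb⟩
  let T : Submonoid (Bq B₀ p) := Algebra.algebraMapSubmonoid (Bq B₀ p) S
  have hT : algebraMap (A₀ ⧸ p) (Bq B₀ p) (Ideal.Quotient.mk p f) ∈ T :=
    Algebra.mem_algebraMapSubmonoid_of_mem ⟨_, hfS⟩
  have hfl := hflat n T hT
  let P₁ : Submodule (Bq B₀ p) (Mq B₀ M₀ p) := (Jq B₀ p J₀) ^ n • ⊤
  let P₂ : Submodule (Bq B₀ p) (Mq B₀ M₀ p) := (Jq B₀ p J₀) ^ (n + 1) • ⊤
  let e : ↥(Submodule.map (P₂.restrictScalars (A₀ ⧸ p)).mkQ (P₁.restrictScalars (A₀ ⧸ p)))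
      ≃ₗ[A₀ ⧸ p] grPiece (Jq B₀ p J₀) (Mq B₀ M₀ p) n :=
    (mapMkQEquiv (P₁.restrictScalars (A₀ ⧸ p)) (P₂.restrictScalars (A₀ ⧸ p))).symm ≪≫ₗ
      grRestrictEquiv (A₀ ⧸ p) P₁ P₂
  haveI : IsLocalizedModule S ((LocalizedModule.mkLinearMap T
      (grPiece (Jq B₀ p J₀) (Mq B₀ M₀ p) n)).restrictScalars (A₀ ⧸ p)) :=
    IsLocalizedModule.restrictScalars S _
  let gX : ↥(Submodule.map (P₂.restrictScalars (A₀ ⧸ p)).mkQ (P₁.restrictScalars (A₀ ⧸ p)))
      →ₗ[A₀ ⧸ p] LocalizedModule T (grPiece (Jq B₀ p J₀) (Mq B₀ M₀ p) n) :=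
    ((LocalizedModule.mkLinearMap T _).restrictScalars (A₀ ⧸ p)) ∘ₗ e.toLinearMap
  haveI : IsLocalizedModule S gX := IsLocalizedModule.of_linearEquiv_right S _ e
  exact flat_of_grLocalized (A₀ ⧸ p) (Localization.Away (Ideal.Quotient.mk p (f * g)))
    (isBaseChange_psi B₀ M₀ p) S _ _ _ _ (psi_image B₀ M₀ p J₀ n) (psi_image B₀ M₀ p J₀ (n + 1))
    gX hfl

end Concrete

end Groth.Agent.Lead.GrStratC
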