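import Mathlib
import Groth.Agent.Lead.GrStratC

set_option autoImplicit false
set_option linter.style.haveILetI false
universe u

open AlgebraicGeometry CategoryTheory TensorProduct

namespace Groth.Agent.Lead.GrStratD

open Groth.Agent.Lead.GrStratC

/-- a bundled stratum: an `A₀`-algebra. -/
structure Stratum (A₀ : Type u) [CommRing A₀] where
  /-- the ring -/
  R : Type u
  [cr : CommRing R]
  [alg : Algebra A₀ R]

attribute [instance] Stratum.cr Stratum.alg

variable {A₀ : Type u} [CommRing A₀]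

/-- the range of a stratum. -/
def Stratum.rg (s : Stratum A₀) : Set (Spec (CommRingCat.of A₀)) :=
  Set.range (Spec.map (CommRingCat.ofHom (algebraMap A₀ s.R)))

/-- the closed set of an ideal. -/
def V (I : Ideal A₀) : Set (Spec (CommRingCat.of A₀)) := {x | I ≤ x.asIdeal}

/-- the basic open of an element. -/
def Dh (h : A₀) : Set (Spec (CommRingCat.of A₀)) := {x | h ∉ x.asIdeal}

theorem isOpen_Dh (h : A₀) : IsOpen (Dh h) :=
  (PrimeSpectrum.basicOpen h).isOpen

theorem V_bot : V (⊥ : Ideal A₀) = Set.univ := by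
  ext x
  simp [V]

theorem V_top : V (⊤ : Ideal A₀) = ∅ := by
  ext x
  simp only [V, Set.mem_ofPred_eq, Set.mem_empty_iff_false, iff_false, top_le_iff]
  exact x.isPrime.ne_top

theorem V_sup_span (I : Ideal A₀) (h : A₀) :
    V (I ⊔ Ideal.span {h}) = V I ∩ {x | h ∈ x.asIdeal} := by
  ext x
  simp only [V, Set.mem_ofPred_eq, Set.mem_inter_iff, sup_le_iff, Ideal.span_singleton_le_iff_mem]

/-- prepend a stratum. -/
def consS (s : Stratum A₀) {m : ℕ} (S : Fin m → Stratum A₀) : Fin (m + 1) → Stratum A₀ :=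
  Fin.cases s S

@[simp] theorem consS_zero (s : Stratum A₀) {m : ℕ} (S : Fin m → Stratum A₀) :
    consS s S 0 = s := rfl

@[simp] theorem consS_succ (s : Stratum A₀) {m : ℕ} (S : Fin m → Stratum A₀) (j : Fin m) :
    consS s S j.succ = S j := rfl

section Away

variable (p : Ideal A₀) (h : A₀)

theorem isImmersion_away :
    IsImmersion (Spec.map (CommRingCat.ofHom
      (algebraMap A₀ (Localization.Away (Ideal.Quotient.mk p h))))) := by
  have e : algebraMap A₀ (Localization.Away (Ideal.Quotient.mk p h)) =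
      (algebraMap (A₀ ⧸ p) (Localization.Away (Ideal.Quotient.mk p h))).comp
        (algebraMap A₀ (A₀ ⧸ p)) :=
    IsScalarTower.algebraMap_eq A₀ (A₀ ⧸ p) _
  rw [e, CommRingCat.ofHom_comp, Spec.map_comp]
  haveI : IsOpenImmersion (Spec.map (CommRingCat.ofHom
      (algebraMap (A₀ ⧸ p) (Localization.Away (Ideal.Quotient.mk p h))))) :=
    IsOpenImmersion.of_isLocalization (Ideal.Quotient.mk p h)
  haveI : IsClosedImmersion (Spec.map (CommRingCat.ofHom (algebraMap A₀ (A₀ ⧸ p)))) :=
    IsClosedImmersion.spec_of_surjective _ Ideal.Quotient.mk_surjective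
  infer_instance

theorem range_away :
    Set.range (Spec.map (CommRingCat.ofHom
      (algebraMap A₀ (Localization.Away (Ideal.Quotient.mk p h))))) = V p ∩ Dh h := by
  ext x
  constructor
  · rintro ⟨y, rfl⟩
    change p ≤ Ideal.comap (algebraMap A₀ (Localization.Away (Ideal.Quotient.mk p h))) y.asIdeal ∧
      h ∉ Ideal.comap (algebraMap A₀ (Localization.Away (Ideal.Quotient.mk p h))) y.asIdeal
    constructor
    · intro a ha
      rw [Ideal.mem_comap, IsScalarTower.algebraMap_apply A₀ (A₀ ⧸ p), Ideal.Quotient.algebraMap_eq,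
        Ideal.Quotient.eq_zero_iff_mem.mpr ha, map_zero]
      exact zero_mem _
    · intro hmem
      rw [Ideal.mem_comap, IsScalarTower.algebraMap_apply A₀ (A₀ ⧸ p),
        Ideal.Quotient.algebraMap_eq] at hmem
      exact y.isPrime.ne_top (Ideal.eq_top_of_isUnit_mem _ hmem
        (IsLocalization.Away.algebraMap_isUnit _))
  · rintro ⟨hp, hh⟩
    have h1 : (x : PrimeSpectrum A₀) ∈ Set.range (PrimeSpectrum.comap (Ideal.Quotient.mk p)) := by
      rw [range_comap_of_surjective _ _ Ideal.Quotient.mk_surjective, Ideal.mk_ker]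
      exact hp
    obtain ⟨xb, rfl⟩ := h1
    have h2 : xb ∈ Set.range (PrimeSpectrum.comap
        (algebraMap (A₀ ⧸ p) (Localization.Away (Ideal.Quotient.mk p h)))) := by
      rw [PrimeSpectrum.localization_away_comap_range _ (Ideal.Quotient.mk p h)]
      exact hh
    obtain ⟨y, rfl⟩ := h2
    refine ⟨y, ?_⟩
    apply PrimeSpectrum.ext
    change Ideal.comap (algebraMap A₀ (Localization.Away (Ideal.Quotient.mk p h))) y.asIdeal =
      Ideal.comap (Ideal.Quotient.mk p) (Ideal.comap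
        (algebraMap (A₀ ⧸ p) (Localization.Away (Ideal.Quotient.mk p h))) y.asIdeal)
    rw [Ideal.comap_comap]
    rfl

end Away

section Induct

variable {B₀ : Type u} [CommRing B₀] [Algebra A₀ B₀] (J₀ : Ideal B₀)
  (M₀ : Type u) [AddCommGroup M₀] [Module B₀ M₀] [Module A₀ M₀] [IsScalarTower A₀ B₀ M₀]

/-- a good stratum: immersion with flat graded pieces. -/
def Stratum.Good (s : Stratum A₀) : Prop :=
  IsImmersion (Spec.map (CommRingCat.ofHom (algebraMap A₀ s.R))) ∧
  ∀ n : ℕ, Module.Flat s.R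
    ↥(Submodule.map (LinearMap.range (LinearMap.baseChange s.R
        ((J₀ ^ (n + 1) • (⊤ : Submodule B₀ M₀)).restrictScalars A₀).subtype)).mkQ
      (LinearMap.range (LinearMap.baseChange s.R
        ((J₀ ^ n • (⊤ : Submodule B₀ M₀)).restrictScalars A₀).subtype)))

/-- the induction predicate: `V I` admits a good stratification. -/
def Q (I : Ideal A₀) : Prop :=
  ∃ (m : ℕ) (S : Fin m → Stratum A₀), (∀ i, (S i).Good J₀ M₀) ∧
    (∀ i j, i ≠ j → Disjoint (S i).rg (S j).rg) ∧ (⋃ i, (S i).rg = V I) ∧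
    (∀ i, ∃ U : Set (Spec (CommRingCat.of A₀)), IsOpen U ∧
      U ∩ (⋃ j, ⋃ (_ : i ≤ j), (S j).rg) = (S i).rg)

theorem Q_top : Q J₀ M₀ (⊤ : Ideal A₀) := by
  refine ⟨0, Fin.elim0, fun i => i.elim0, fun i => i.elim0, ?_, fun i => i.elim0⟩
  rw [V_top]
  exact Set.iUnion_of_empty _

theorem Q_step (I : Ideal A₀) (s : Stratum A₀) (hs : s.Good J₀ M₀) (h : A₀)
    (hrg : s.rg = V I ∩ Dh h) (hQ : Q J₀ M₀ (I ⊔ Ideal.span {h})) : Q J₀ M₀ I := by
  obtain ⟨m, S, hgood, hdisj, hunion, hopen⟩ := hQ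
  have hV := V_sup_span I h
  have hsub : ∀ j, (S j).rg ⊆ V I ∩ {x | h ∈ x.asIdeal} := fun j => by
    rw [← hV, ← hunion]
    exact Set.subset_iUnion (fun i => (S i).rg) j
  have hdisj0 : ∀ j, Disjoint s.rg (S j).rg := fun j => by
    rw [Set.disjoint_left]
    intro x hx hx'
    rw [hrg] at hx
    exact hx.2 (hsub j hx').2
  have hUn : (⋃ i, (consS s S i).rg) = V I := by
    ext x
    simp only [Set.mem_iUnion]
    rw [Fin.exists_fin_succ]
    simp only [consS_zero, consS_succ]
    have h3 : (∃ j, x ∈ (S j).rg) ↔ x ∈ V I ∩ {x | h ∈ x.asIdeal} := by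
      rw [← hV, ← hunion, Set.mem_iUnion]
    rw [h3, hrg]
    simp only [Set.mem_inter_iff, Dh, Set.mem_ofPred_eq]
    tauto
  refine ⟨m + 1, consS s S, ?_, ?_, hUn, ?_⟩
  · intro i
    rcases Fin.eq_zero_or_eq_succ i with rfl | ⟨i', rfl⟩
    · simpa using hs
    · simpa using hgood i'
  · intro i j hij
    rcases Fin.eq_zero_or_eq_succ i with rfl | ⟨i', rfl⟩ <;>
      rcases Fin.eq_zero_or_eq_succ j with rfl | ⟨j', rfl⟩
    · exact absurd rfl hij
    · simpa using hdisj0 j'
    · simpa using (hdisj0 i').symm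
    · simpa using hdisj i' j' (fun e => hij (congrArg Fin.succ e))
  · intro i
    rcases Fin.eq_zero_or_eq_succ i with rfl | ⟨k, rfl⟩
    · refine ⟨Dh h, isOpen_Dh h, ?_⟩
      have : (⋃ j, ⋃ (_ : (0 : Fin (m + 1)) ≤ j), (consS s S j).rg) = V I := by
        rw [← hUn]
        ext x
        simp only [Set.mem_iUnion, Fin.zero_le, exists_const]
      rw [this, consS_zero, hrg, Set.inter_comm]
    · obtain ⟨U, hU, hUeq⟩ := hopen k
      refine ⟨U, hU, ?_⟩
      have : (⋃ j, ⋃ (_ : k.succ ≤ j), (consS s S j).rg) = ⋃ j, ⋃ (_ : k ≤ j), (S j).rg := by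
        ext x
        simp only [Set.mem_iUnion, exists_prop]
        rw [Fin.exists_fin_succ]
        simp only [consS_zero, consS_succ, Fin.succ_le_succ_iff]
        have : ¬ (k.succ ≤ 0) := not_le.mpr (Fin.succ_pos k)
        simp [this]
      rw [this, consS_succ, hUeq]

variable [IsNoetherianRing A₀] [Algebra.FiniteType A₀ B₀] [Module.Finite B₀ M₀]

theorem Q_ind (I : Ideal A₀) (ih : ∀ J > I, Q J₀ M₀ J) : Q J₀ M₀ I := by
  · by_cases hI : I = ⊤
    · subst hI
      exact Q_top J₀ M₀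
    obtain ⟨P, hPmax, hIP⟩ := Ideal.exists_le_maximal I hI
    haveI := hPmax.isPrime
    obtain ⟨p, hpmin, -⟩ := Ideal.exists_minimalPrimes_le hIP
    haveI hpprime : p.IsPrime := hpmin.1.1
    have hIp : I ≤ p := hpmin.1.2
    -- an element in all other minimal primes but not in `p`
    obtain ⟨g, hg_mem, hg_not⟩ : ∃ g : A₀, (∀ q ∈ I.minimalPrimes, q ≠ p → g ∈ q) ∧ g ∉ p := by
      classical
      let F : Finset (Ideal A₀) :=
        (Ideal.finite_minimalPrimes_of_isNoetherianRing A₀ I).toFinset.erase p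
      have hnot : ¬ (F.inf id ≤ p) := by
        intro hle
        obtain ⟨q, hqF, hqp⟩ := (Ideal.IsPrime.inf_le' hpprime).mp hle
        rw [Finset.mem_erase, Set.Finite.mem_toFinset] at hqF
        exact hqF.1 (le_antisymm hqp (hpmin.2 hqF.2.1 hqp))
      obtain ⟨g, hgF, hgp⟩ := SetLike.not_le_iff_exists.mp hnot
      refine ⟨g, fun q hq hqp => ?_, hgp⟩
      have : F.inf id ≤ id q :=
        Finset.inf_le (Finset.mem_erase.mpr ⟨hqp, (Set.Finite.mem_toFinset _).mpr hq⟩)
      exact this hgF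
    obtain ⟨f, hf, hflat⟩ := exists_flat_stratum B₀ M₀ p J₀
    have hh : f * g ∉ p := fun hmem => (hpprime.mem_or_mem hmem).elim hf hg_not
    have hlt : I < I ⊔ Ideal.span {f * g} := by
      refine lt_of_le_of_ne le_sup_left fun heq => hh (hIp ?_)
      rw [heq]
      exact Ideal.mem_sup_right (Ideal.mem_span_singleton_self _)
    refine Q_step J₀ M₀ I ⟨Localization.Away (Ideal.Quotient.mk p (f * g))⟩
      ⟨isImmersion_away p (f * g), hflat g⟩ (f * g) ?_ (ih _ hlt)
    show Set.range (Spec.map (CommRingCat.ofHom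
      (algebraMap A₀ (Localization.Away (Ideal.Quotient.mk p (f * g)))))) = _
    rw [range_away]
    ext x
    simp only [Set.mem_inter_iff, V, Dh, Set.mem_ofPred_eq]
    constructor
    · rintro ⟨h1, h2⟩
      exact ⟨hIp.trans h1, h2⟩
    · rintro ⟨h1, h2⟩
      refine ⟨?_, h2⟩
      haveI := x.isPrime
      obtain ⟨q, hq, hqx⟩ := Ideal.exists_minimalPrimes_le h1
      by_cases hqp : q = p
      · exact hqp ▸ hqx
      · exact absurd (Ideal.mul_mem_left _ f (hqx (hg_mem q hq hqp))) h2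

theorem Q_all (I : Ideal A₀) : Q J₀ M₀ I :=
  IsNoetherian.induction (P := fun I : Ideal A₀ => Q J₀ M₀ I) (fun I ih => Q_ind J₀ M₀ I ih) I

end Induct

end Groth.Agent.Lead.GrStratD
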