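import Mathlib

set_option autoImplicit false
universe u
open CategoryTheory AlgebraicGeometry DirectSum

namespace Groth.Agent.Lead.GradedAvoid

variable {R A : Type u} [CommRing R] [CommRing A] [Algebra R A]
  (𝒜 : ℕ → Submodule R A) [GradedAlgebra 𝒜]

/-- an element all of whose homogeneous components lie in an ideal lies in the ideal. -/
theorem mem_of_forall_proj_mem (I : Ideal A) (a : A)
    (h : ∀ i, (decompose 𝒜 a i : A) ∈ I) : a ∈ I := by
  classical
  rw [← DirectSum.sum_support_decompose 𝒜 a]
  exact Ideal.sum_mem _ (fun i _ => h i)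

/-- a homogeneous ideal not contained in an ideal contains a homogeneous element outside it. -/
theorem exists_homogeneous_of_not_le (I : HomogeneousIdeal 𝒜) (J : Ideal A)
    (h : ¬ I.toIdeal ≤ J) : ∃ (k : ℕ) (b : A), b ∈ 𝒜 k ∧ b ∈ I.toIdeal ∧ b ∉ J := by
  obtain ⟨a, haI, haJ⟩ := Set.not_subset.mp h
  by_contra hcon
  push Not at hcon
  apply haJ
  apply mem_of_forall_proj_mem 𝒜 J a
  intro i
  exact hcon i _ (SetLike.coe_mem _) (I.isHomogeneous i haI)

/-- a point of `Proj` avoids some homogeneous element of positive degree. -/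
theorem single (x : ProjectiveSpectrum 𝒜) :
    ∃ (e : ℕ) (c : A), 0 < e ∧ c ∈ 𝒜 e ∧ c ∉ x.asHomogeneousIdeal.toIdeal := by
  obtain ⟨k, b, hbk, hbI, hbx⟩ := exists_homogeneous_of_not_le 𝒜
    (HomogeneousIdeal.irrelevant 𝒜) x.asHomogeneousIdeal.toIdeal x.not_irrelevant_le
  refine ⟨k, b, ?_, hbk, hbx⟩
  rcases Nat.eq_zero_or_pos k with rfl | hk
  · exfalso
    have h0 : GradedRing.proj 𝒜 0 b = 0 := (HomogeneousIdeal.mem_irrelevant_iff 𝒜 b).mp hbI
    rw [GradedRing.proj_apply, DirectSum.decompose_of_mem_same 𝒜 hbk] at h0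
    exact hbx (h0 ▸ zero_mem _)
  · exact hk

/-- **Graded prime avoidance** for points of `Proj`: finitely many points of `Proj` lie in a common
`D₊(f)`. -/
theorem exists_homogeneous_notMem (s : Finset (ProjectiveSpectrum 𝒜)) :
    ∃ (d : ℕ) (f : A), 0 < d ∧ f ∈ 𝒜 d ∧ ∀ x ∈ s, f ∉ x.asHomogeneousIdeal.toIdeal := by
  classical
  induction s using Finset.strongInduction with
  | H s ih =>
    rcases s.eq_empty_or_nonempty with rfl | hne
    · exact ⟨1, 0, one_pos, zero_mem _, by simp⟩
    obtain ⟨x, hxs, hmin⟩ := s.exists_minimal hne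
    obtain ⟨d, f, hd, hf, hfs⟩ := ih (s.erase x) (Finset.erase_ssubset hxs)
    by_cases hfx : f ∈ x.asHomogeneousIdeal.toIdeal
    · obtain ⟨e₁, c, he₁, hc, hcx⟩ := single 𝒜 x
      have hb : ∀ y ∈ s.erase x, ∃ (k : ℕ) (b : A), b ∈ 𝒜 k ∧
          b ∈ y.asHomogeneousIdeal.toIdeal ∧ b ∉ x.asHomogeneousIdeal.toIdeal := by
        intro y hy
        obtain ⟨hyx, hys⟩ := Finset.mem_erase.mp hy
        apply exists_homogeneous_of_not_le
        intro hle
        have h1 : y ≤ x := (ProjectiveSpectrum.as_ideal_le_as_ideal 𝒜 y x).mp hle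
        exact hyx (le_antisymm h1 (hmin hys h1))
      obtain ⟨k, b, hbk, hbs, hbx⟩ : ∃ (k : ℕ) (b : A), b ∈ 𝒜 k ∧
          (∀ y ∈ s.erase x, b ∈ y.asHomogeneousIdeal.toIdeal) ∧
          b ∉ x.asHomogeneousIdeal.toIdeal := by
        generalize s.erase x = t at hb
        induction t using Finset.induction_on with
        | empty =>
          exact ⟨0, 1, SetLike.GradedOne.one_mem, by simp,
            (Ideal.ne_top_iff_one _).mp x.isPrime.ne_top⟩
        | insert y t hyt iht =>
          obtain ⟨k, b, hbk, hbs, hbx⟩ := iht (fun z hz => hb z (Finset.mem_insert_of_mem hz))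
          obtain ⟨k', b', hbk', hby', hbx'⟩ := hb y (Finset.mem_insert_self y t)
          refine ⟨k' + k, b' * b, SetLike.GradedMul.mul_mem hbk' hbk, ?_, ?_⟩
          · intro z hz
            rcases Finset.mem_insert.mp hz with rfl | hz
            · exact Ideal.mul_mem_right _ _ hby'
            · exact Ideal.mul_mem_left _ _ (hbs z hz)
          · intro hmem
            rcases x.isPrime.mem_or_mem hmem with h | h
            · exact hbx' h
            · exact hbx h
      have hg : b * c ∈ 𝒜 (k + e₁) := SetLike.GradedMul.mul_mem hbk hc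
      have hgx : b * c ∉ x.asHomogeneousIdeal.toIdeal := by
        intro hmem
        rcases x.isPrime.mem_or_mem hmem with h | h
        · exact hbx h
        · exact hcx h
      have hke : 0 < k + e₁ := by omega
      refine ⟨d * (k + e₁), f ^ (k + e₁) + (b * c) ^ d, Nat.mul_pos hd hke, ?_, ?_⟩
      · refine Submodule.add_mem _ ?_ ?_
        · have := SetLike.pow_mem_graded (k + e₁) hf
          rwa [smul_eq_mul, mul_comm] at this
        · have := SetLike.pow_mem_graded d hg
          rwa [smul_eq_mul] at this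
      · intro y hy
        by_cases hyx : y = x
        · subst hyx
          intro hmem
          have h1 : f ^ (k + e₁) ∈ y.asHomogeneousIdeal.toIdeal :=
            Ideal.pow_mem_of_mem _ hfx _ hke
          have h2 : (b * c) ^ d ∈ y.asHomogeneousIdeal.toIdeal := by
            have := Ideal.sub_mem _ hmem h1
            rwa [add_sub_cancel_left] at this
          exact hgx (y.isPrime.mem_of_pow_mem _ h2)
        · have hy' : y ∈ s.erase x := Finset.mem_erase.mpr ⟨hyx, hy⟩
          intro hmem
          have h1 : (b * c) ^ d ∈ y.asHomogeneousIdeal.toIdeal :=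
            Ideal.pow_mem_of_mem _ (Ideal.mul_mem_right _ _ (hbs y hy')) _ hd
          have h2 : f ^ (k + e₁) ∈ y.asHomogeneousIdeal.toIdeal := by
            have := Ideal.sub_mem _ hmem h1
            rwa [add_sub_cancel_right] at this
          exact hfs y hy' (y.isPrime.mem_of_pow_mem _ h2)
    · refine ⟨d, f, hd, hf, ?_⟩
      intro y hy
      by_cases hyx : y = x
      · rw [hyx]; exact hfx
      · exact hfs y (Finset.mem_erase.mpr ⟨hyx, hy⟩)

end Groth.Agent.Lead.GradedAvoid
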