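import Mathlib

set_option autoImplicit false
universe u v
open CategoryTheory MonoidalCategory CartesianMonoidalCategory MonObj GrpObj

namespace Groth.Agent.Lead.GrpOmegaA

open CategoryTheory.Limits in
/-- `(g, h) ↦ (g, g⁻¹ h)` exhibits `G ⊗ G` as the pullback of `G → 1 ← G` via
`(fst, (g,h) ↦ g⁻¹h)`. -/
theorem nu_isPullback {C : Type*} [Category C] [CartesianMonoidalCategory C] (G : C) [GrpObj G] :
    IsPullback (fst G G) (lift (fst G G ≫ ι) (snd G G) ≫ μ) (toUnit G) (toUnit G) where
  w := toUnit_unique _ _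
  isLimit' := Nonempty.intro <| PullbackCone.IsLimit.mk _
    (fun s => lift s.fst (s.fst * s.snd))
    (by
      intro s
      simp)
    (by
      intro s
      rw [comp_lift_assoc]
      simp only [lift_fst_assoc, lift_snd]
      rw [← Hom.inv_def, ← Hom.mul_def, inv_mul_cancel_left])
    (by
      intro s m hm₁ hm₂
      apply CartesianMonoidalCategory.hom_ext
      · simp [hm₁]
      · simp only [lift_snd]
        rw [← hm₁, ← hm₂, comp_lift_assoc, ← Category.assoc m, ← Hom.inv_def, ← Hom.mul_def,
          mul_inv_cancel_left])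

/-- the diagonal followed by `(g,h) ↦ g⁻¹h` is the constant map to the unit -/
theorem diag_nu {C : Type*} [Category C] [CartesianMonoidalCategory C] (G : C) [GrpObj G] :
    lift (𝟙 G) (𝟙 G) ≫ (lift (fst G G ≫ ι) (snd G G) ≫ μ) = toUnit G ≫ η[G] := by
  rw [comp_lift_assoc]
  simp only [lift_fst_assoc, lift_snd, Category.id_comp]
  exact GrpObj.left_inv G

end Groth.Agent.Lead.GrpOmegaA
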