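import Mathlib
import Groth.Agent.Helper2.GrpShear
import Groth.Agent.Helper2.LfpComp

/-! Multiplication `V ×_S V → G`, `(x,y) ↦ f(x) f(y)`: generic lemmas. -/

open AlgebraicGeometry CategoryTheory CategoryTheory.Limits MonObj MonoidalCategory
  CartesianMonoidalCategory

namespace Groth.Agent.Lead.MulCov
universe u

variable {S : Scheme.{u}}

theorem mu_left_of (G : Over S) [GrpObj G] (P : MorphismProperty Scheme.{u})
    [P.IsStableUnderBaseChange] [P.RespectsIso] (h : P G.hom) : P μ[G].left := by
  have h1 : μ[G] = Groth.Agent.Helper2.GrpShear.shear G (𝟙 G) ≫ snd G G := by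
    have := Groth.Agent.Helper2.GrpShear.translate_eq G (𝟙 G)
    rw [id_whiskerRight, Category.id_comp] at this
    rw [this, Groth.Agent.Helper2.GrpShear.shear, lift_snd]
  have hiso : IsIso (Groth.Agent.Helper2.GrpShear.shear G (𝟙 G)) :=
    ⟨Groth.Agent.Helper2.GrpShear.shearInv G (𝟙 G),
      Groth.Agent.Helper2.GrpShear.shear_shearInv G (𝟙 G),
      Groth.Agent.Helper2.GrpShear.shearInv_shear G (𝟙 G)⟩
  have hiso' : IsIso (Groth.Agent.Helper2.GrpShear.shear G (𝟙 G)).left :=
    (Over.forget S).map_isIso (Groth.Agent.Helper2.GrpShear.shear G (𝟙 G))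
  rw [h1, Over.comp_left, P.cancel_left_of_respectsIso, Over.snd_left]
  exact MorphismProperty.pullback_snd _ _ h

theorem tensorHom_left_of (P : MorphismProperty Scheme.{u})
    [P.IsStableUnderBaseChange] [P.IsStableUnderComposition] {A B C D : Over S}
    (a : A ⟶ B) (c : C ⟶ D) (ha : P a.left) (hc : P c.left) : P (a ⊗ₘ c).left := by
  rw [Over.tensorHom_left]
  exact MorphismProperty.pullbackMap ha hc (Over.w a).symm (Over.w c).symm

theorem isPullback_whiskerLeft {H G : Over S} (Y : Over S) (u : H ⟶ G) :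
    IsPullback (Y ◁ u).left (snd Y H).left (snd Y G).left u.left := by
  have hr : IsPullback (fst Y G).left (snd Y G).left Y.hom G.hom :=
    IsPullback.of_hasPullback Y.hom G.hom
  have hb : IsPullback (fst Y H).left (snd Y H).left Y.hom H.hom :=
    IsPullback.of_hasPullback Y.hom H.hom
  have e1 : (Y ◁ u).left ≫ (fst Y G).left = (fst Y H).left := by
    rw [← Over.comp_left, whiskerLeft_fst]
  have e2 : u.left ≫ G.hom = H.hom := Over.w u
  have e3 : (Y ◁ u).left ≫ (snd Y G).left = (snd Y H).left ≫ u.left := by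
    rw [← Over.comp_left, ← Over.comp_left, whiskerLeft_snd]
  refine IsPullback.of_right ?_ e3 hr
  rw [e1, e2]
  exact hb

theorem whiskerLeft_left_of (P : MorphismProperty Scheme.{u})
    [P.IsStableUnderBaseChange] {H G : Over S} (Y : Over S) (u : H ⟶ G) (h : P u.left) :
    P (Y ◁ u).left :=
  MorphismProperty.of_isPullback (isPullback_whiskerLeft Y u).flip h

end Groth.Agent.Lead.MulCov
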