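import Mathlib
import Groth.Agent.Lead.MulCovA

/-! Density of the image after base change to a geometric point. -/

open AlgebraicGeometry CategoryTheory CategoryTheory.Limits MonObj MonoidalCategory
  CartesianMonoidalCategory

namespace Groth.Agent.Lead.MulCov
universe u

variable {S : Scheme.{u}}

theorem exists_preimage_of_isPullback {P X Y Z : Scheme.{u}} {fst : P ⟶ X} {snd : P ⟶ Y}
    {f : X ⟶ Z} {g : Y ⟶ Z} (h : IsPullback fst snd f g) (x : X) (y : Y) (hxy : f x = g y) :
    ∃ w : P, fst w = x ∧ snd w = y := by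
  obtain ⟨w, hw1, hw2⟩ := Scheme.Pullback.exists_preimage_pullback x y hxy
  refine ⟨h.isoPullback.inv w, ?_, ?_⟩
  · rw [← Scheme.Hom.comp_apply, h.isoPullback_inv_fst]; exact hw1
  · rw [← Scheme.Hom.comp_apply, h.isoPullback_inv_snd]; exact hw2

section Open

variable {Ω : Type u} [Field Ω] (t : Spec (CommRingCat.of Ω) ⟶ S) (G : Over S)

theorem hom_snd_apply (o : ↥(pullback t G.hom)) :
    G.hom (pullback.snd t G.hom o) = t (IsLocalRing.closedPoint Ω) := by
  rw [← Scheme.Hom.comp_apply, ← pullback.condition, Scheme.Hom.comp_apply]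
  congr 1
  exact Subsingleton.elim _ _

theorem exists_open_of_open (O : Set ↥(pullback t G.hom)) (hO : IsOpen O) :
    ∃ O' : Set G.left, IsOpen O' ∧ (∀ o ∈ O, pullback.snd t G.hom o ∈ O') ∧
      ∀ ξ ∈ O', G.hom ξ = t (IsLocalRing.closedPoint Ω) →
        ∃ o ∈ O, pullback.snd t G.hom o = ξ := by
  set s := t (IsLocalRing.closedPoint Ω) with hs
  let c : Spec (CommRingCat.of Ω) ⟶ Spec (S.residueField s) :=
    Spec.map (Scheme.descResidueField (Scheme.stalkClosedPointTo t))
  have hc : c ≫ S.fromSpecResidueField s = t :=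
    Scheme.descResidueField_stalkClosedPointTo_fromSpecResidueField Ω S t
  let pr := pullback.snd t G.hom
  let p := pullback.fst t G.hom
  let pr' : pullback t G.hom ⟶ G.hom.fiber s :=
    pullback.lift pr (p ≫ c) (by rw [Category.assoc, hc]; exact pullback.condition.symm)
  have hpr' : pr' ≫ G.hom.fiberι s = pr := pullback.lift_fst _ _ _
  have hpr'2 : pr' ≫ G.hom.fiberToSpecResidueField s = p ≫ c := pullback.lift_snd _ _ _
  have big : IsPullback (pr' ≫ G.hom.fiberι s) p G.hom (c ≫ S.fromSpecResidueField s) := by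
    rw [hpr', hc]; exact (IsPullback.of_hasPullback t G.hom).flip
  have right : IsPullback (G.hom.fiberι s) (G.hom.fiberToSpecResidueField s) G.hom
      (S.fromSpecResidueField s) := IsPullback.of_hasPullback _ _
  have left : IsPullback pr' p (G.hom.fiberToSpecResidueField s) c :=
    IsPullback.of_right big hpr'2 right
  have hcopen : UniversallyOpen c := inferInstance
  have hopen : UniversallyOpen pr' :=
    MorphismProperty.of_isPullback (P := @UniversallyOpen) left.flip hcopen
  have h1 : IsOpen (pr' '' O) := pr'.isOpenMap _ hO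
  obtain ⟨O', hO', hO'eq⟩ := (G.hom.fiberι s).isEmbedding.isInducing.isOpen_iff.mp h1
  refine ⟨O', hO', ?_, ?_⟩
  · intro o ho
    have : pr' o ∈ (G.hom.fiberι s) ⁻¹' O' := by rw [hO'eq]; exact ⟨o, ho, rfl⟩
    have h2 : (G.hom.fiberι s) (pr' o) = pr o := by
      rw [← Scheme.Hom.comp_apply, hpr']
    rw [← h2]; exact this
  · intro ξ hξ hξs
    have hr : ξ ∈ Set.range (G.hom.fiberι s) := by
      rw [Scheme.Hom.range_fiberι]; exact hξs
    obtain ⟨w, rfl⟩ := hr
    have hw : w ∈ pr' '' O := by rw [← hO'eq]; exact hξ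
    obtain ⟨o, ho, rfl⟩ := hw
    refine ⟨o, ho, ?_⟩
    rw [← Scheme.Hom.comp_apply, hpr']

end Open

section Dense

variable {Ω : Type u} [Field Ω] (t : Spec (CommRingCat.of Ω) ⟶ S) (G : Over S)

theorem quasiSober_fibre (s : S) : QuasiSober ↥(G.hom.base ⁻¹' {s}) := by
  have e := G.hom.fiberHomeo s
  exact e.symm.isClosedEmbedding.quasiSober

theorem dense_range {Y : Over S} (φ : Y ⟶ G)
    (hd : ∀ (g : ↥(G.hom.base ⁻¹' {t (IsLocalRing.closedPoint Ω)})),
      closure {g} ∈ irreducibleComponents ↥(G.hom.base ⁻¹' {t (IsLocalRing.closedPoint Ω)}) →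
      g.1 ∈ Set.range φ.left) :
    Dense (Set.range ((Over.mk t) ◁ φ).left) := by
  rw [dense_iff_inter_open]
  intro O hO ⟨o, ho⟩
  obtain ⟨O', hO', h1, h2⟩ := exists_open_of_open t G O hO
  set s := t (IsLocalRing.closedPoint Ω) with hs
  have hy : G.hom (pullback.snd t G.hom o) = s := hom_snd_apply t G o
  let y' : ↥(G.hom.base ⁻¹' {s}) := ⟨pullback.snd t G.hom o, hy⟩
  have : QuasiSober ↥(G.hom.base ⁻¹' {s}) := quasiSober_fibre G s
  obtain ⟨ξ, hξ⟩ := QuasiSober.sober (isIrreducible_irreducibleComponent (x := y'))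
    (isClosed_irreducibleComponent (x := y'))
  have hcomp : closure {ξ} ∈ irreducibleComponents ↥(G.hom.base ⁻¹' {s}) := by
    rw [hξ.def]; exact irreducibleComponent_mem_irreducibleComponents y'
  have hspec : ξ ⤳ y' := by
    rw [specializes_iff_mem_closure, hξ.def]; exact mem_irreducibleComponent
  have hspec' : ξ.1 ⤳ pullback.snd t G.hom o := hspec.map continuous_subtype_val
  have hξO' : ξ.1 ∈ O' := hspec'.mem_open hO' (h1 o ho)
  obtain ⟨o', ho', ho'ξ⟩ := h2 ξ.1 hξO' ξ.2
  obtain ⟨v, hv⟩ := hd ξ hcomp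
  have sq := isPullback_whiskerLeft (Over.mk t) φ
  obtain ⟨w, hw1, hw2⟩ := exists_preimage_of_isPullback sq.flip v o'
    (by rw [hv]; exact ho'ξ.symm)
  exact ⟨o', ho', ⟨w, hw2⟩⟩

end Dense

end Groth.Agent.Lead.MulCov
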