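import Mathlib
import Groth.Agent.Lead.MulCovB

/-! Surjectivity of `(x,y) ↦ φ(x) φ(y)`. -/

open AlgebraicGeometry CategoryTheory CategoryTheory.Limits MonObj MonoidalCategory
  CartesianMonoidalCategory

namespace Groth.Agent.Lead.MulCov
universe u

variable {S : Scheme.{u}}

theorem exists_section_of_lft {k : Type u} [Field k] [IsAlgClosed k]
    {W : Scheme.{u}} (g : W ⟶ Spec (CommRingCat.of k)) [LocallyOfFiniteType g] [Nonempty W] :
    ∃ s : Spec (CommRingCat.of k) ⟶ W, s ≫ g = 𝟙 _ := by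
  have : JacobsonSpace ↥(Spec (CommRingCat.of k)) := inferInstance
  have : JacobsonSpace W := LocallyOfFiniteType.jacobsonSpace g
  obtain ⟨w, -, hw⟩ := nonempty_inter_closedPoints (X := W) (Z := Set.univ) Set.univ_nonempty
    isOpen_univ.isLocallyClosed
  exact ⟨pointOfClosedPoint g w hw, pointOfClosedPoint_comp g w hw⟩

section Pair

variable {Ω : Type u} [Field Ω] [IsAlgClosed Ω] (t : Spec (CommRingCat.of Ω) ⟶ S) (G : Over S)
  {Y : Over S} (φ : Y ⟶ G)

theorem exists_lift [LocallyOfFiniteType φ.left]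
    (c' : Over.mk t ⟶ Over.mk t ⊗ G)
    (hmem : c'.left (IsLocalRing.closedPoint Ω) ∈ Set.range ((Over.mk t) ◁ φ).left) :
    ∃ x : Over.mk t ⟶ Y, x ≫ φ = c' ≫ snd _ _ := by
  have hlft : LocallyOfFiniteType ((Over.mk t) ◁ φ).left :=
    whiskerLeft_left_of @LocallyOfFiniteType (Over.mk t) φ inferInstance
  let q : pullback ((Over.mk t) ◁ φ).left c'.left ⟶ Spec (CommRingCat.of Ω) :=
    pullback.snd ((Over.mk t) ◁ φ).left c'.left
  have hq : LocallyOfFiniteType q :=
    MorphismProperty.pullback_snd (P := @LocallyOfFiniteType) _ _ hlft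
  obtain ⟨v, hv⟩ := hmem
  obtain ⟨w, hw1, hw2⟩ := Scheme.Pullback.exists_preimage_pullback
    (f := ((Over.mk t) ◁ φ).left) (g := c'.left) v (IsLocalRing.closedPoint Ω) hv
  have : Nonempty ↥(pullback ((Over.mk t) ◁ φ).left c'.left) := ⟨w⟩
  obtain ⟨ρ, hρ⟩ := exists_section_of_lft q
  let x'' : Spec (CommRingCat.of Ω) ⟶ (Over.mk t ⊗ Y).left :=
    ρ ≫ pullback.fst ((Over.mk t) ◁ φ).left c'.left
  have hx'' : x'' ≫ ((Over.mk t) ◁ φ).left = c'.left := by
    rw [Category.assoc, pullback.condition, ← Category.assoc]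
    change (ρ ≫ q) ≫ c'.left = c'.left
    rw [hρ]; exact Category.id_comp _
  let x' : Over.mk t ⟶ Over.mk t ⊗ Y := Over.homMk x'' (by
    have h1 : (Over.mk t ⊗ Y).hom = ((Over.mk t) ◁ φ).left ≫ (Over.mk t ⊗ G).hom :=
      (Over.w ((Over.mk t) ◁ φ)).symm
    rw [h1, ← Category.assoc, hx'']
    exact Over.w c')
  have hx' : x' ≫ ((Over.mk t) ◁ φ) = c' := Over.OverMorphism.ext hx''
  refine ⟨x' ≫ snd _ _, ?_⟩
  rw [Category.assoc, ← whiskerLeft_snd, ← Category.assoc, hx']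

theorem exists_pair [GrpObj G] [LocallyOfFinitePresentation G.hom] [Flat φ.left]
    [LocallyOfFinitePresentation φ.left]
    (hd : ∀ (g : ↥(G.hom.base ⁻¹' {t (IsLocalRing.closedPoint Ω)})),
      closure {g} ∈ irreducibleComponents ↥(G.hom.base ⁻¹' {t (IsLocalRing.closedPoint Ω)}) →
      g.1 ∈ Set.range φ.left)
    (ĝ : Over.mk t ⟶ G) :
    ∃ x y : Over.mk t ⟶ Y, (x ≫ φ) * (y ≫ φ) = ĝ := by
  have hflat : Flat ((Over.mk t) ◁ φ).left := whiskerLeft_left_of @Flat (Over.mk t) φ inferInstance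
  have hlfp : LocallyOfFinitePresentation ((Over.mk t) ◁ φ).left :=
    whiskerLeft_left_of @LocallyOfFinitePresentation (Over.mk t) φ inferInstance
  have hUopen : IsOpen (Set.range ((Over.mk t) ◁ φ).left) :=
    ((Over.mk t) ◁ φ).left.isOpenMap.isOpen_range
  have hUdense : Dense (Set.range ((Over.mk t) ◁ φ).left) := dense_range t G φ hd
  let τ : Over.mk t ⊗ G ⟶ Over.mk t ⊗ G :=
    lift (fst (Over.mk t) G) ((snd (Over.mk t) G)⁻¹ * (fst (Over.mk t) G ≫ ĝ))
  let τi : Over.mk t ⊗ G ⟶ Over.mk t ⊗ G :=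
    lift (fst (Over.mk t) G) ((fst (Over.mk t) G ≫ ĝ) * (snd (Over.mk t) G)⁻¹)
  have h1 : τ ≫ τi = 𝟙 _ := by
    apply CartesianMonoidalCategory.hom_ext
    · simp [τ, τi]
    · simp only [τ, τi, Category.assoc, lift_snd, Category.id_comp]
      rw [MonObj.comp_mul, GrpObj.comp_inv, ← Category.assoc, lift_fst, lift_snd]
      simp
  have h2 : τi ≫ τ = 𝟙 _ := by
    apply CartesianMonoidalCategory.hom_ext
    · simp [τ, τi]
    · simp only [τ, τi, Category.assoc, lift_snd, Category.id_comp]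
      rw [MonObj.comp_mul, GrpObj.comp_inv, ← Category.assoc, lift_fst, lift_snd]
      simp
  have hτiso : IsIso τ := ⟨τi, h1, h2⟩
  have hτiso' : IsIso τ.left := (Over.forget S).map_isIso τ
  have hpre_open : IsOpen (τ.left ⁻¹' Set.range ((Over.mk t) ◁ φ).left) :=
    hUopen.preimage τ.left.continuous
  have hpre_dense : Dense (τ.left ⁻¹' Set.range ((Over.mk t) ◁ φ).left) :=
    hUdense.preimage (Scheme.homeoOfIso (asIso τ.left)).isOpenMap
  have hne : Nonempty ↥(Over.mk t ⊗ G).left :=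
    ⟨(lift (𝟙 (Over.mk t)) ĝ).left (IsLocalRing.closedPoint Ω)⟩
  have hW : (Set.range ((Over.mk t) ◁ φ).left ∩
      τ.left ⁻¹' Set.range ((Over.mk t) ◁ φ).left).Nonempty :=
    (hUdense.inter_of_isOpen_left hpre_dense hUopen).nonempty
  let p : (Over.mk t ⊗ G).left ⟶ Spec (CommRingCat.of Ω) := (fst (Over.mk t) G).left
  have hp : LocallyOfFiniteType p := by
    have : LocallyOfFiniteType (pullback.fst t G.hom) := inferInstance
    exact this
  have : JacobsonSpace ↥(Spec (CommRingCat.of Ω)) := inferInstance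
  have : JacobsonSpace ↥(Over.mk t ⊗ G).left := LocallyOfFiniteType.jacobsonSpace p
  obtain ⟨z, ⟨hzU, hzτ⟩, hz⟩ := nonempty_inter_closedPoints hW
    (hUopen.inter hpre_open).isLocallyClosed
  let a'' := pointOfClosedPoint p z hz
  have ha''1 : a'' ≫ p = 𝟙 _ := pointOfClosedPoint_comp p z hz
  have ha''2 : a'' (IsLocalRing.closedPoint Ω) = z := pointOfClosedPoint_apply p z hz _
  let a' : Over.mk t ⟶ Over.mk t ⊗ G := Over.homMk a'' (by
    have h1 : (Over.mk t ⊗ G).hom = p ≫ t := (Over.w (fst (Over.mk t) G)).symm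
    rw [h1, ← Category.assoc, ha''1]
    exact Category.id_comp _)
  have ha'fst : a' ≫ fst (Over.mk t) G = 𝟙 _ := Over.OverMorphism.ext ha''1
  have hb' : (a' ≫ τ) ≫ snd (Over.mk t) G = (a' ≫ snd (Over.mk t) G)⁻¹ * ĝ := by
    simp only [τ, Category.assoc, lift_snd]
    rw [MonObj.comp_mul, GrpObj.comp_inv, ← Category.assoc a', ha'fst, Category.id_comp]
  obtain ⟨x, hx⟩ := exists_lift t G φ a' (by
    change a'' (IsLocalRing.closedPoint Ω) ∈ _
    rw [ha''2]; exact hzU)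
  obtain ⟨y, hy⟩ := exists_lift t G φ (a' ≫ τ) (by
    rw [Over.comp_left, Scheme.Hom.comp_apply]
    change τ.left (a'' (IsLocalRing.closedPoint Ω)) ∈ _
    rw [ha''2]; exact hzτ)
  refine ⟨x, y, ?_⟩
  rw [hx, hy, hb']
  exact mul_inv_cancel_left _ _

end Pair

theorem surjective_mul (G : Over S) [GrpObj G] [LocallyOfFinitePresentation G.hom] {Y : Over S}
    (φ : Y ⟶ G) [Flat φ.left] [LocallyOfFinitePresentation φ.left]
    (hd : ∀ (s : S) (g : ↥(G.hom.base ⁻¹' {s})),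
      closure {g} ∈ irreducibleComponents ↥(G.hom.base ⁻¹' {s}) → g.1 ∈ Set.range φ.left) :
    Surjective ((φ ⊗ₘ φ) ≫ μ[G]).left := by
  constructor
  intro g
  let Ω := AlgebraicClosure (G.left.residueField g)
  let ĝ' : Spec (CommRingCat.of Ω) ⟶ G.left :=
    Spec.map (CommRingCat.ofHom (algebraMap (G.left.residueField g) Ω)) ≫
      G.left.fromSpecResidueField g
  let t := ĝ' ≫ G.hom
  let ĝ : Over.mk t ⟶ G := Over.homMk ĝ' rfl
  obtain ⟨x, y, hxy⟩ := exists_pair t G φ (hd _) ĝ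
  refine ⟨(lift x y).left (IsLocalRing.closedPoint Ω), ?_⟩
  rw [← Scheme.Hom.comp_apply, ← Over.comp_left]
  have : lift x y ≫ (φ ⊗ₘ φ) ≫ μ[G] = ĝ := by
    rw [← hxy, Hom.mul_def, lift_map_assoc]
  rw [this]
  have hpt : ĝ' (IsLocalRing.closedPoint Ω) = g := by
    rw [Scheme.Hom.comp_apply]
    exact Scheme.fromSpecResidueField_apply _ _
  exact hpt

end Groth.Agent.Lead.MulCov
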