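import Mathlib
import Groth.Agent.Helper2.HS2
import Groth.Agent.Lead.MulCovC

/-! Homogeneous spaces under connected universally open groups are separated: generic part. -/

open AlgebraicGeometry CategoryTheory CategoryTheory.Limits MonObj MonoidalCategory
  CartesianMonoidalCategory
open Groth.Agent.Helper2 Groth.Agent.Helper2.HS2

namespace Groth.Agent.Lead.HomSep
universe u

variable {S : Scheme.{u}} {G X : Over S} [GrpObj G] (a : AlgGrp.Action G X)

/-- diagonal action map `(g, y, y') ↦ (g y, g y')` -/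
noncomputable def Θ' : G ⊗ (X ⊗ X) ⟶ X ⊗ X :=
  lift (smul a (fst G (X ⊗ X)) (snd G (X ⊗ X) ≫ fst X X))
    (smul a (fst G (X ⊗ X)) (snd G (X ⊗ X) ≫ snd X X))

theorem comp_Θ' {T : Over S} (p : T ⟶ G ⊗ (X ⊗ X)) :
    p ≫ Θ' a = lift (smul a (p ≫ fst _ _) (p ≫ snd _ _ ≫ fst X X))
      (smul a (p ≫ fst _ _) (p ≫ snd _ _ ≫ snd X X)) := by
  rw [Θ', comp_lift, comp_smul, comp_smul]

theorem lift_Θ' {T : Over S} (g : T ⟶ G) (y y' : T ⟶ X) :
    lift g (lift y y') ≫ Θ' a = lift (smul a g y) (smul a g y') := by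
  rw [comp_Θ']
  simp only [lift_fst, lift_snd, lift_snd_assoc]

noncomputable def shear' : G ⊗ (X ⊗ X) ⟶ G ⊗ (X ⊗ X) := lift (fst G (X ⊗ X)) (Θ' a)

noncomputable def shearInv' : G ⊗ (X ⊗ X) ⟶ G ⊗ (X ⊗ X) :=
  lift (fst G (X ⊗ X))
    (lift (smul a (fst G (X ⊗ X))⁻¹ (snd G (X ⊗ X) ≫ fst X X))
      (smul a (fst G (X ⊗ X))⁻¹ (snd G (X ⊗ X) ≫ snd X X)))

theorem lift_shear' {T : Over S} (g : T ⟶ G) (y y' : T ⟶ X) :
    lift g (lift y y') ≫ shear' a = lift g (lift (smul a g y) (smul a g y')) := by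
  rw [shear', comp_lift, lift_fst, lift_Θ']

theorem lift_shearInv' {T : Over S} (g : T ⟶ G) (y y' : T ⟶ X) :
    lift g (lift y y') ≫ shearInv' a = lift g (lift (smul a g⁻¹ y) (smul a g⁻¹ y')) := by
  rw [shearInv', comp_lift, comp_lift, comp_smul, comp_smul, GrpObj.comp_inv]
  simp only [lift_fst, lift_snd, lift_snd_assoc]

theorem eq_lift {T : Over S} (p : T ⟶ G ⊗ (X ⊗ X)) :
    p = lift (p ≫ fst _ _) (lift (p ≫ snd _ _ ≫ fst X X) (p ≫ snd _ _ ≫ snd X X)) := by
  apply CartesianMonoidalCategory.hom_ext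
  · rw [lift_fst]
  · rw [lift_snd]
    apply CartesianMonoidalCategory.hom_ext
    · rw [lift_fst, Category.assoc]
    · rw [lift_snd, Category.assoc]

theorem id_eq_lift : 𝟙 (G ⊗ (X ⊗ X)) =
    lift (fst G (X ⊗ X)) (lift (snd G (X ⊗ X) ≫ fst X X) (snd G (X ⊗ X) ≫ snd X X)) := by
  have h := eq_lift (𝟙 (G ⊗ (X ⊗ X)))
  simp only [Category.id_comp] at h
  exact h

theorem shear'_shearInv' : shear' a ≫ shearInv' a = 𝟙 _ := by
  calc shear' a ≫ shearInv' a
      = (lift (fst G (X ⊗ X)) (lift (snd G (X ⊗ X) ≫ fst X X) (snd G (X ⊗ X) ≫ snd X X)) ≫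
          shear' a) ≫ shearInv' a := by rw [← id_eq_lift, Category.id_comp]
    _ = 𝟙 _ := by
      rw [lift_shear', lift_shearInv', HS2.smul_inv_smul, HS2.smul_inv_smul, ← id_eq_lift]

theorem shearInv'_shear' : shearInv' a ≫ shear' a = 𝟙 _ := by
  calc shearInv' a ≫ shear' a
      = (lift (fst G (X ⊗ X)) (lift (snd G (X ⊗ X) ≫ fst X X) (snd G (X ⊗ X) ≫ snd X X)) ≫
          shearInv' a) ≫ shear' a := by rw [← id_eq_lift, Category.id_comp]
    _ = 𝟙 _ := by
      rw [lift_shearInv', lift_shear', HS2.smul_smul_inv, HS2.smul_smul_inv, ← id_eq_lift]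

theorem universallyOpen_Θ' [UniversallyOpen G.hom] : UniversallyOpen (Θ' a).left := by
  have h1 : Θ' a = shear' a ≫ snd G (X ⊗ X) := by rw [shear', lift_snd]
  have hiso : IsIso (shear' a) := ⟨shearInv' a, shear'_shearInv' a, shearInv'_shear' a⟩
  have hiso' : IsIso (shear' a).left := (Over.forget S).map_isIso (shear' a)
  rw [h1, Over.comp_left]
  have : UniversallyOpen (snd G (X ⊗ X)).left := by
    rw [Over.snd_left]
    exact MorphismProperty.pullback_snd (P := @UniversallyOpen) _ _ inferInstance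
  infer_instance

end Groth.Agent.Lead.HomSep
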