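import Mathlib
import Groth.Agent.Lead.HomSepA

/-! The maps `Θ_W : G × W × W → X × X`. -/

open AlgebraicGeometry CategoryTheory CategoryTheory.Limits MonObj MonoidalCategory
  CartesianMonoidalCategory
open Groth.Agent.Helper2 Groth.Agent.Helper2.HS2 Groth.Agent.Lead.MulCov

namespace Groth.Agent.Lead.HomSep
universe u

variable {S : Scheme.{u}} {G X : Over S} [GrpObj G] (a : AlgGrp.Action G X)

theorem range_eq_preimage_of_isPullback {P A B C : Scheme.{u}} {fst : P ⟶ A} {snd : P ⟶ B}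
    {f : A ⟶ C} {g : B ⟶ C} (h : IsPullback fst snd f g) :
    Set.range fst = f ⁻¹' Set.range g := by
  ext x
  constructor
  · rintro ⟨p, rfl⟩
    refine ⟨snd p, ?_⟩
    rw [← Scheme.Hom.comp_apply, ← h.w, Scheme.Hom.comp_apply]
  · rintro ⟨y, hy⟩
    obtain ⟨w, hw1, -⟩ := exists_preimage_of_isPullback h x y hy.symm
    exact ⟨w, hw1⟩

theorem lift_id_left' (Y : Over S) : (lift (𝟙 Y) (𝟙 Y)).left = pullback.diagonal Y.hom := by
  apply pullback.hom_ext
  · have h := congrArg (fun t => t.left) (lift_fst (𝟙 Y) (𝟙 Y))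
    simp only [Over.comp_left, Over.id_left] at h
    rw [pullback.diagonal_fst]
    exact h
  · have h := congrArg (fun t => t.left) (lift_snd (𝟙 Y) (𝟙 Y))
    simp only [Over.comp_left, Over.id_left] at h
    rw [pullback.diagonal_snd]
    exact h

variable (W : X.left.Opens)

/-- the open subscheme `W` as an object over `S` -/
noncomputable abbrev XW : Over S := Over.mk (W.ι ≫ X.hom)

/-- the inclusion -/
noncomputable def j : XW W ⟶ X := Over.homMk W.ι rfl

instance : Mono (j W) := by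
  have : Mono (j W).left := by
    change Mono W.ι
    infer_instance
  exact Over.mono_of_mono_left _

noncomputable def ΘW : G ⊗ (XW W ⊗ XW W) ⟶ X ⊗ X := (G ◁ (j W ⊗ₘ j W)) ≫ Θ' a

theorem lift_ΘW {T : Over S} (g : T ⟶ G) (w w' : T ⟶ XW W) :
    lift g (lift w w') ≫ ΘW a W = lift (smul a g (w ≫ j W)) (smul a g (w' ≫ j W)) := by
  rw [ΘW, lift_whiskerLeft_assoc, lift_map, lift_Θ']

theorem isOpenMap_ΘW [UniversallyOpen G.hom] : IsOpenMap (ΘW a W).left := by
  have hj : IsOpenImmersion (j W).left := by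
    change IsOpenImmersion W.ι
    infer_instance
  have h1 : IsOpenImmersion (G ◁ (j W ⊗ₘ j W)).left :=
    whiskerLeft_left_of @IsOpenImmersion G _ (tensorHom_left_of @IsOpenImmersion _ _ hj hj)
  have h2 : UniversallyOpen (Θ' a).left := universallyOpen_Θ' a
  have : UniversallyOpen (ΘW a W).left := by
    rw [ΘW, Over.comp_left]
    infer_instance
  exact (ΘW a W).left.isOpenMap

theorem eq_lift3 {T : Over S} {A B C : Over S} (p : T ⟶ A ⊗ (B ⊗ C)) :
    p = lift (p ≫ fst _ _) (lift (p ≫ snd _ _ ≫ fst _ _) (p ≫ snd _ _ ≫ snd _ _)) := by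
  apply CartesianMonoidalCategory.hom_ext
  · rw [lift_fst]
  · rw [lift_snd]
    apply CartesianMonoidalCategory.hom_ext
    · rw [lift_fst, Category.assoc]
    · rw [lift_snd, Category.assoc]

theorem isPullback_ΘW :
    IsPullback (G ◁ lift (𝟙 (XW W)) (𝟙 (XW W)))
      (smul a (fst G (XW W)) (snd G (XW W) ≫ j W)) (ΘW a W) (lift (𝟙 X) (𝟙 X)) := by
  have hwl : G ◁ lift (𝟙 (XW W)) (𝟙 (XW W)) =
      lift (fst G (XW W)) (lift (snd G (XW W)) (snd G (XW W))) := by
    apply CartesianMonoidalCategory.hom_ext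
    · rw [whiskerLeft_fst, lift_fst]
    · rw [whiskerLeft_snd, lift_snd, comp_lift, Category.comp_id]
  have hcomm : (G ◁ lift (𝟙 (XW W)) (𝟙 (XW W))) ≫ ΘW a W =
      smul a (fst G (XW W)) (snd G (XW W) ≫ j W) ≫ lift (𝟙 X) (𝟙 X) := by
    rw [hwl, lift_ΘW, comp_lift, Category.comp_id]
  refine ⟨⟨hcomm⟩, ⟨PullbackCone.IsLimit.mk _
    (fun s => lift (s.fst ≫ fst _ _) (s.fst ≫ snd _ _ ≫ fst _ _)) ?_ ?_ ?_⟩⟩
  · intro s
    have hs := s.condition
    rw [eq_lift3 s.fst, lift_ΘW, comp_lift, Category.comp_id] at hs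
    have h1 := congrArg (fun t => t ≫ fst X X) hs
    have h2 := congrArg (fun t => t ≫ snd X X) hs
    simp only [lift_fst, lift_snd] at h1 h2
    have h3 : (s.fst ≫ snd _ _ ≫ fst _ _) ≫ j W = (s.fst ≫ snd _ _ ≫ snd _ _) ≫ j W := by
      have := congrArg (smul a (s.fst ≫ fst _ _)⁻¹) (h1.trans h2.symm)
      rwa [HS2.smul_inv_smul, HS2.smul_inv_smul] at this
    have h4 : s.fst ≫ snd _ _ ≫ fst _ _ = s.fst ≫ snd _ _ ≫ snd _ _ :=
      (cancel_mono (j W)).mp h3
    rw [hwl, comp_lift, lift_fst, comp_lift, lift_snd]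
    conv_rhs => rw [eq_lift3 s.fst]
    rw [← h4]
  · intro s
    have hs := s.condition
    rw [eq_lift3 s.fst, lift_ΘW, comp_lift, Category.comp_id] at hs
    have h1 := congrArg (fun t => t ≫ fst X X) hs
    simp only [lift_fst] at h1
    rw [comp_smul, lift_fst, ← Category.assoc, lift_snd]
    exact h1
  · intro s m hm _
    apply CartesianMonoidalCategory.hom_ext
    · rw [lift_fst, ← hm, Category.assoc, whiskerLeft_fst]
    · rw [lift_snd, ← hm, Category.assoc, whiskerLeft_snd_assoc, lift_fst, Category.comp_id]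

theorem preimage_range_diag :
    (ΘW a W).left ⁻¹' Set.range (lift (𝟙 X) (𝟙 X)).left =
      (snd G (XW W ⊗ XW W)).left ⁻¹' Set.range (lift (𝟙 (XW W)) (𝟙 (XW W))).left := by
  have sq1 := (isPullback_ΘW a W).map (Over.forget S)
  have sq2 := isPullback_whiskerLeft G (lift (𝟙 (XW W)) (𝟙 (XW W)))
  rw [← range_eq_preimage_of_isPullback sq2]
  exact (range_eq_preimage_of_isPullback sq1).symm

theorem isClosed_preimage_range_diag [IsSeparated (W.ι ≫ X.hom)] :
    IsClosed ((ΘW a W).left ⁻¹' Set.range (lift (𝟙 X) (𝟙 X)).left) := by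
  rw [preimage_range_diag]
  refine IsClosed.preimage (snd G (XW W ⊗ XW W)).left.continuous ?_
  rw [lift_id_left']
  have h : IsSeparated (XW W).hom := ‹IsSeparated (W.ι ≫ X.hom)›
  exact (pullback.diagonal (XW W).hom).isClosedEmbedding.isClosed_range

end Groth.Agent.Lead.HomSep
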