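import Mathlib
import Groth.Prelude.Def_Red
import Groth.Agent.Lead.HomSepB
import Groth.Agent.Helper2.HS6
import Groth.Agent.Helper8.BiaddB

/-! Geometric points: every point of `X × X` lies in the image of some `Θ_W`. -/

open AlgebraicGeometry CategoryTheory CategoryTheory.Limits MonObj MonoidalCategory
  CartesianMonoidalCategory
open Groth.Agent.Helper2 Groth.Agent.Helper2.HS2 Groth.Agent.Lead.MulCov

namespace Groth.Agent.Lead.HomSep
universe u

variable {S : Scheme.{u}}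

theorem exists_lift_of_mem {Ω : Type u} [Field Ω] [IsAlgClosed Ω]
    (t : Spec (CommRingCat.of Ω) ⟶ S) {A B : Over S} (Φ : A ⟶ B) [LocallyOfFiniteType Φ.left]
    (b : Over.mk t ⟶ B) (hmem : b.left (IsLocalRing.closedPoint Ω) ∈ Set.range Φ.left) :
    ∃ y : Over.mk t ⟶ A, y ≫ Φ = b := by
  let q : pullback Φ.left b.left ⟶ Spec (CommRingCat.of Ω) := pullback.snd Φ.left b.left
  have hq : LocallyOfFiniteType q :=
    MorphismProperty.pullback_snd (P := @LocallyOfFiniteType) _ _ inferInstance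
  obtain ⟨v, hv⟩ := hmem
  obtain ⟨w, hw1, hw2⟩ := Scheme.Pullback.exists_preimage_pullback
    (f := Φ.left) (g := b.left) v (IsLocalRing.closedPoint Ω) hv
  have : Nonempty ↥(pullback Φ.left b.left) := ⟨w⟩
  obtain ⟨ρ, hρ⟩ := exists_section_of_lft q
  let x'' : Spec (CommRingCat.of Ω) ⟶ A.left := ρ ≫ pullback.fst Φ.left b.left
  have hx'' : x'' ≫ Φ.left = b.left := by
    rw [Category.assoc, pullback.condition, ← Category.assoc]
    change (ρ ≫ q) ≫ b.left = b.left
    rw [hρ]; exact Category.id_comp _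
  let x' : Over.mk t ⟶ A := Over.homMk x'' (by
    have h1 : A.hom = Φ.left ≫ B.hom := (Over.w Φ).symm
    rw [h1, ← Category.assoc, hx'']
    exact Over.w b)
  exact ⟨x', Over.OverMorphism.ext hx''⟩

theorem irreducibleSpace_bc (G : Over S) [GrpObj G]
    (hconn : ∀ s : S, _root_.IsConnected (G.hom.base ⁻¹' {s})) {Ω : Type u} [Field Ω]
    (t : Spec (CommRingCat.of Ω) ⟶ S) : IrreducibleSpace ↥(Over.mk t ⊗ G).left := by
  have hfib : ∀ s : S, ConnectedSpace ↥(G.hom.fiber s) := fun s =>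
    (G.hom.fiberHomeo s).connectedSpace_iff.mpr (isConnected_iff_connectedSpace.mp (hconn s))
  have hgc : GeometricallyConnected G.hom :=
    Groth.Agent.Helper8.Biadd.geometricallyConnected_of_section G.hom η[G].left (Over.w η[G]) hfib
  have : Subsingleton ↥(Spec (CommRingCat.of Ω)) := inferInstanceAs (Subsingleton (PrimeSpectrum Ω))
  have : Nonempty ↥(Spec (CommRingCat.of Ω)) := inferInstanceAs (Nonempty (PrimeSpectrum Ω))
  have hc : ConnectedSpace ↥(pullback G.hom t) :=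
    GeometricallyConnected.connectedSpace_of_subsingleton (f := pullback.snd G.hom t)
  have hc' : ConnectedSpace ↥(Red.bc t G).left := hc
  have hirr : IrreducibleSpace ↥(Red.bc t G).left :=
    Groth.Agent.Helper2.HS6.irreducibleSpace_of_connectedSpace (Red.bc t G)
      (IsLocalRing.closedPoint Ω)
  have hirr' : IrreducibleSpace ↥(pullback G.hom t) := hirr
  have e : pullback G.hom t ≅ pullback t G.hom := pullbackSymmetry _ _
  exact Function.Surjective.irreducibleSpace e.hom.continuous e.hom.homeomorph.surjective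

section Trans

variable {Ω : Type u} [Field Ω] [IsAlgClosed Ω] (t : Spec (CommRingCat.of Ω) ⟶ S)
  {G X : Over S} [GrpObj G] (a : AlgGrp.Action G X)

theorem exists_factor (W : X.left.Opens) (u : Over.mk t ⟶ X)
    (hu : u.left (IsLocalRing.closedPoint Ω) ∈ W) : ∃ w : Over.mk t ⟶ XW W, w ≫ j W = u := by
  have hsub : Set.range u.left ⊆ Set.range W.ι := by
    rintro _ ⟨q, rfl⟩
    rw [Scheme.Opens.range_ι]
    have hq : q = IsLocalRing.closedPoint Ω := @Subsingleton.elim (PrimeSpectrum Ω) _ _ _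
    rw [hq]; exact hu
  let w' : Spec (CommRingCat.of Ω) ⟶ W := IsOpenImmersion.lift W.ι u.left hsub
  have hw' : w' ≫ W.ι = u.left := IsOpenImmersion.lift_fac _ _ _
  refine ⟨Over.homMk w' ?_, Over.OverMorphism.ext hw'⟩
  change w' ≫ W.ι ≫ X.hom = t
  rw [← Category.assoc, hw']
  exact Over.w u

theorem exists_mem_range_ΘW [LocallyOfFinitePresentation G.hom] [LocallyOfFinitePresentation X.hom]
    (hirr : IrreducibleSpace ↥(Over.mk t ⊗ G).left)
    (hΦ : Surjective (lift a.act (snd G X)).left)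
    (zh : Over.mk t ⟶ X ⊗ X) (W : X.left.Opens)
    (hW : (zh ≫ snd X X).left (IsLocalRing.closedPoint Ω) ∈ W) :
    zh.left (IsLocalRing.closedPoint Ω) ∈ Set.range (ΘW a W).left := by
  -- transitivity
  have hGX : LocallyOfFinitePresentation (G ⊗ X).hom := by
    rw [Over.tensorObj_hom]; infer_instance
  have hXX : LocallyOfFinitePresentation (X ⊗ X).hom := by
    rw [Over.tensorObj_hom]; infer_instance
  have hΦlfp : LocallyOfFinitePresentation (lift a.act (snd G X)).left :=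
    Groth.Agent.Helper2.LfpComp.locallyOfFinitePresentation_of_comp _ (X ⊗ X).hom
      (by rw [Over.w]; exact hGX) inferInstance
  obtain ⟨y, hy⟩ := exists_lift_of_mem t (lift a.act (snd G X)) zh (hΦ.surj _)
  have hy1 : smul a (y ≫ fst G X) (y ≫ snd G X) = zh ≫ fst X X := by
    rw [← hy, Category.assoc, lift_fst, smul, ← comp_lift, lift_fst_snd, Category.comp_id]
  have hy2 : y ≫ snd G X = zh ≫ snd X X := by
    rw [← hy, Category.assoc, lift_snd]
  -- transporters
  let ρ₁ : Over.mk t ⊗ G ⟶ X := smul a (snd (Over.mk t) G)⁻¹ (fst (Over.mk t) G ≫ zh ≫ fst X X)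
  let ρ₂ : Over.mk t ⊗ G ⟶ X := smul a (snd (Over.mk t) G)⁻¹ (fst (Over.mk t) G ≫ zh ≫ snd X X)
  have key₁ : ∀ g' : Over.mk t ⟶ Over.mk t ⊗ G, g' ≫ fst _ _ = 𝟙 _ →
      g' ≫ ρ₁ = smul a (g' ≫ snd _ _)⁻¹ (zh ≫ fst X X) := by
    intro g' hg'
    rw [comp_smul, GrpObj.comp_inv, ← Category.assoc, hg', Category.id_comp]
  have key₂ : ∀ g' : Over.mk t ⟶ Over.mk t ⊗ G, g' ≫ fst _ _ = 𝟙 _ →
      g' ≫ ρ₂ = smul a (g' ≫ snd _ _)⁻¹ (zh ≫ snd X X) := by
    intro g' hg'
    rw [comp_smul, GrpObj.comp_inv, ← Category.assoc, hg', Category.id_comp]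
  have ho₁ : IsOpen (ρ₁.left ⁻¹' (W : Set X.left)) := W.isOpen.preimage ρ₁.left.continuous
  have ho₂ : IsOpen (ρ₂.left ⁻¹' (W : Set X.left)) := W.isOpen.preimage ρ₂.left.continuous
  have hne₂ : (ρ₂.left ⁻¹' (W : Set X.left)).Nonempty := by
    refine ⟨(lift (𝟙 (Over.mk t)) (1 : Over.mk t ⟶ G)).left (IsLocalRing.closedPoint Ω), ?_⟩
    rw [Set.mem_preimage, ← Scheme.Hom.comp_apply, ← Over.comp_left, key₂ _ (lift_fst _ _),
      lift_snd, inv_one, HS2.one_smul]
    exact hW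
  have hne₁ : (ρ₁.left ⁻¹' (W : Set X.left)).Nonempty := by
    refine ⟨(lift (𝟙 (Over.mk t)) (y ≫ fst G X)).left (IsLocalRing.closedPoint Ω), ?_⟩
    rw [Set.mem_preimage, ← Scheme.Hom.comp_apply, ← Over.comp_left, key₁ _ (lift_fst _ _),
      lift_snd, ← hy1, HS2.smul_inv_smul, hy2]
    exact hW
  have hne := nonempty_preirreducible_inter ho₁ ho₂ hne₁ hne₂
  let p : (Over.mk t ⊗ G).left ⟶ Spec (CommRingCat.of Ω) := (fst (Over.mk t) G).left
  have hp : LocallyOfFiniteType p := by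
    have : LocallyOfFiniteType (pullback.fst t G.hom) := inferInstance
    exact this
  have : JacobsonSpace ↥(Spec (CommRingCat.of Ω)) := inferInstance
  have : JacobsonSpace ↥(Over.mk t ⊗ G).left := LocallyOfFiniteType.jacobsonSpace p
  obtain ⟨c, ⟨hc₁, hc₂⟩, hc⟩ := nonempty_inter_closedPoints hne (ho₁.inter ho₂).isLocallyClosed
  let g'' := pointOfClosedPoint p c hc
  have hg''1 : g'' ≫ p = 𝟙 _ := pointOfClosedPoint_comp p c hc
  have hg''2 : g'' (IsLocalRing.closedPoint Ω) = c := pointOfClosedPoint_apply p c hc _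
  let g' : Over.mk t ⟶ Over.mk t ⊗ G := Over.homMk g'' (by
    have h1 : (Over.mk t ⊗ G).hom = p ≫ t := (Over.w (fst (Over.mk t) G)).symm
    rw [h1, ← Category.assoc, hg''1]
    exact Category.id_comp _)
  have hg'fst : g' ≫ fst (Over.mk t) G = 𝟙 _ := Over.OverMorphism.ext hg''1
  have hg'pt : g'.left (IsLocalRing.closedPoint Ω) = c := hg''2
  obtain ⟨w₁, hw₁⟩ := exists_factor t W (g' ≫ ρ₁) (by
    rw [Over.comp_left, Scheme.Hom.comp_apply, hg'pt]; exact hc₁)
  obtain ⟨w₂, hw₂⟩ := exists_factor t W (g' ≫ ρ₂) (by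
    rw [Over.comp_left, Scheme.Hom.comp_apply, hg'pt]; exact hc₂)
  rw [key₁ g' hg'fst] at hw₁
  rw [key₂ g' hg'fst] at hw₂
  have hα : lift (g' ≫ snd _ _) (lift w₁ w₂) ≫ ΘW a W = zh := by
    rw [lift_ΘW, hw₁, hw₂, HS2.smul_smul_inv, HS2.smul_smul_inv, ← comp_lift, lift_fst_snd,
      Category.comp_id]
  refine ⟨(lift (g' ≫ snd _ _) (lift w₁ w₂)).left (IsLocalRing.closedPoint Ω), ?_⟩
  rw [← Scheme.Hom.comp_apply, ← Over.comp_left, hα]

end Trans

end Groth.Agent.Lead.HomSep
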