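import Mathlib
import Groth.Agent.Lead.HomSepC

/-! SGA3 VI_B: a homogeneous space under a universally open group with connected fibres is
separated. -/

open AlgebraicGeometry CategoryTheory CategoryTheory.Limits MonObj MonoidalCategory
  CartesianMonoidalCategory
open Groth.Agent.Helper2 Groth.Agent.Helper2.HS2 Groth.Agent.Lead.MulCov

namespace Groth.Agent.Lead.HomSep
universe u

variable {S : Scheme.{u}}

theorem exists_separated_open {X S : Scheme.{u}} (f : X ⟶ S) (x : X) :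
    ∃ W : X.Opens, x ∈ W ∧ IsSeparated (W.ι ≫ f) := by
  obtain ⟨V, hV, hsV⟩ : ∃ V : S.Opens, IsAffineOpen V ∧ f x ∈ V := by
    obtain ⟨_, ⟨V, hV, rfl⟩, hsV, -⟩ :=
      S.isBasis_affineOpens.exists_subset_of_mem_open (Set.mem_univ (f x)) isOpen_univ
    exact ⟨V, hV, hsV⟩
  obtain ⟨W, hW, hxW, hWV⟩ : ∃ W : X.Opens, IsAffineOpen W ∧ x ∈ W ∧ W ≤ f ⁻¹ᵁ V := by
    obtain ⟨_, ⟨W, hW, rfl⟩, hxW, hWV⟩ :=
      X.isBasis_affineOpens.exists_subset_of_mem_open (show x ∈ (f ⁻¹ᵁ V : Set X) from hsV)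
        (f ⁻¹ᵁ V).isOpen
    exact ⟨W, hW, hxW, hWV⟩
  refine ⟨W, hxW, ?_⟩
  have e : W ≤ f ⁻¹ᵁ V := hWV
  have h1 : f.resLE V W e ≫ V.ι = W.ι ≫ f := Scheme.Hom.resLE_comp_ι f e
  rw [← h1]
  have : IsAffine (W : Scheme.{u}) := hW
  have : IsAffine (V : Scheme.{u}) := hV
  have : IsSeparated (f.resLE V W e) := IsSeparated.of_isAffineHom _
  infer_instance

theorem isSeparated_of_homogeneous (G X : Over S) [GrpObj G] [LocallyOfFinitePresentation G.hom]
    [UniversallyOpen G.hom]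
    (hconn : ∀ s : S, _root_.IsConnected (G.hom.base ⁻¹' {s}))
    [LocallyOfFinitePresentation X.hom] (a : AlgGrp.Action G X)
    (hΦ : Surjective (lift a.act (snd G X)).left) : IsSeparated X.hom := by
  have hcl : IsClosed (Set.range (lift (𝟙 X) (𝟙 X)).left) := by
    rw [← isOpen_compl_iff, isOpen_iff_forall_mem_open]
    intro z hz
    let Ω := AlgebraicClosure ((X ⊗ X).left.residueField z)
    let zh' : Spec (CommRingCat.of Ω) ⟶ (X ⊗ X).left :=
      Spec.map (CommRingCat.ofHom (algebraMap ((X ⊗ X).left.residueField z) Ω)) ≫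
        (X ⊗ X).left.fromSpecResidueField z
    let t := zh' ≫ (X ⊗ X).hom
    let zh : Over.mk t ⟶ X ⊗ X := Over.homMk zh' rfl
    have hpt : zh.left (IsLocalRing.closedPoint Ω) = z := by
      change zh' (IsLocalRing.closedPoint Ω) = z
      rw [Scheme.Hom.comp_apply]
      exact Scheme.fromSpecResidueField_apply _ _
    obtain ⟨W, hxW, hsep⟩ := exists_separated_open X.hom
      ((zh ≫ snd X X).left (IsLocalRing.closedPoint Ω))
    have hirr := irreducibleSpace_bc G hconn t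
    obtain ⟨α, hα⟩ := exists_mem_range_ΘW t a hirr hΦ zh W hxW
    refine ⟨(ΘW a W).left '' ((ΘW a W).left ⁻¹' Set.range (lift (𝟙 X) (𝟙 X)).left)ᶜ, ?_, ?_, ?_⟩
    · rintro _ ⟨β, hβ, rfl⟩ hcontra
      exact hβ hcontra
    · exact isOpenMap_ΘW a W _ (isClosed_preimage_range_diag a W).isOpen_compl
    · refine ⟨α, ?_, hα.trans hpt⟩
      rw [Set.mem_compl_iff, Set.mem_preimage, hα, hpt]
      exact hz
  have : IsClosedImmersion (pullback.diagonal X.hom) := by
    refine IsClosedImmersion.of_isPreimmersion _ ?_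
    rw [← lift_id_left']
    exact hcl
  exact ⟨this⟩

end Groth.Agent.Lead.HomSep
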