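import Mathlib
import Groth.Agent.Lead.MulCovC

/-! Pointwise version of `surjective_mul`. -/

open AlgebraicGeometry CategoryTheory CategoryTheory.Limits MonObj MonoidalCategory
  CartesianMonoidalCategory

namespace Groth.Agent.Lead.MulCov
universe u

variable {S : Scheme.{u}}

theorem mem_range_mul (G : Over S) [GrpObj G] [LocallyOfFinitePresentation G.hom] {Y : Over S}
    (φ : Y ⟶ G) [Flat φ.left] [LocallyOfFinitePresentation φ.left] (g : G.left) (s : S)
    (hs : G.hom g = s)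
    (hd : ∀ (x : ↥(G.hom.base ⁻¹' {s})),
      closure {x} ∈ irreducibleComponents ↥(G.hom.base ⁻¹' {s}) → x.1 ∈ Set.range φ.left) :
    g ∈ Set.range ((φ ⊗ₘ φ) ≫ μ[G]).left := by
  let Ω := AlgebraicClosure (G.left.residueField g)
  let ĝ' : Spec (CommRingCat.of Ω) ⟶ G.left :=
    Spec.map (CommRingCat.ofHom (algebraMap (G.left.residueField g) Ω)) ≫
      G.left.fromSpecResidueField g
  have hpt : ĝ' (IsLocalRing.closedPoint Ω) = g := by
    rw [Scheme.Hom.comp_apply]
    exact Scheme.fromSpecResidueField_apply _ _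
  let t := ĝ' ≫ G.hom
  have hts : t (IsLocalRing.closedPoint Ω) = s := by
    rw [Scheme.Hom.comp_apply, hpt, hs]
  subst hts
  let ĝ : Over.mk t ⟶ G := Over.homMk ĝ' rfl
  obtain ⟨x, y, hxy⟩ := exists_pair t G φ hd ĝ
  refine ⟨(lift x y).left (IsLocalRing.closedPoint Ω), ?_⟩
  rw [← Scheme.Hom.comp_apply, ← Over.comp_left]
  have : lift x y ≫ (φ ⊗ₘ φ) ≫ μ[G] = ĝ := by
    rw [← hxy, Hom.mul_def, lift_map_assoc]
  rw [this]
  exact hpt

end Groth.Agent.Lead.MulCov
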