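import Mathlib
import Groth.Agent.Lead.HomSepD
import Groth.Agent.Lead.MulCovE

/-! SGA3 VI_B: a group scheme lfp, universally open with connected fibres is separated and
quasi-compact. -/

open AlgebraicGeometry CategoryTheory CategoryTheory.Limits MonObj MonoidalCategory
  CartesianMonoidalCategory
open Groth.Agent.Helper2 Groth.Agent.Helper2.HS2 Groth.Agent.Lead.MulCov Groth.Agent.Lead.HomSep

namespace Groth.Agent.Lead.GrpQC
universe u

theorem exists_compact_open_between {X : Type*} [TopologicalSpace X] [PrespectralSpace X]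
    {K U : Set X} (hK : IsCompact K) (hU : IsOpen U) (hKU : K ⊆ U) :
    ∃ V : Set X, IsOpen V ∧ IsCompact V ∧ K ⊆ V ∧ V ⊆ U := by
  choose! B hB using fun x (hx : x ∈ K) =>
    PrespectralSpace.isTopologicalBasis.exists_subset_of_mem_open (hKU hx) hU
  obtain ⟨t, htK, ht⟩ := hK.elim_nhds_subcover B
    (fun x hx => (hB x hx).1.1.mem_nhds (hB x hx).2.1)
  refine ⟨⋃ x ∈ t, B x, isOpen_biUnion fun x hx => (hB x (htK x hx)).1.1,
    t.isCompact_biUnion fun x hx => (hB x (htK x hx)).1.2, ht, ?_⟩
  exact Set.iUnion₂_subset fun x hx => (hB x (htK x hx)).2.2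

variable {S : Scheme.{u}} (G : Over S) [GrpObj G]

theorem surjective_selfAction : Surjective (lift (selfAction G).act (snd G G)).left := by
  have hiso : IsIso (lift (selfAction G).act (snd G G)) := by
    refine ⟨lift (fst G G * (snd G G)⁻¹) (snd G G), ?_, ?_⟩
    · apply CartesianMonoidalCategory.hom_ext
      · have h1 : (selfAction G).act = fst G G * snd G G := by
          change μ[G] = _
          rw [Hom.mul_def, lift_fst_snd, Category.id_comp]
        simp only [Category.assoc, lift_fst, Category.id_comp]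
        rw [MonObj.comp_mul, GrpObj.comp_inv, lift_fst, lift_snd, h1]
        simp
      · simp
    · apply CartesianMonoidalCategory.hom_ext
      · have h1 : (selfAction G).act = fst G G * snd G G := by
          change μ[G] = _
          rw [Hom.mul_def, lift_fst_snd, Category.id_comp]
        simp only [Category.assoc, lift_fst, Category.id_comp]
        rw [h1, MonObj.comp_mul, lift_fst, lift_snd]
        simp
      · simp
  haveI : IsIso (lift (selfAction G).act (snd G G)).left :=
    (Over.forget _).map_isIso (lift (selfAction G).act (snd G G))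
  infer_instance

theorem isSeparated_of_connected [LocallyOfFinitePresentation G.hom] [UniversallyOpen G.hom]
    (hconn : ∀ s : S, _root_.IsConnected (G.hom.base ⁻¹' {s})) : IsSeparated G.hom :=
  isSeparated_of_homogeneous G G hconn (selfAction G) (surjective_selfAction G)

theorem irreducibleSpace_fibre (hconn : ∀ s : S, _root_.IsConnected (G.hom.base ⁻¹' {s})) (s : S) :
    IrreducibleSpace ↥(G.hom.base ⁻¹' {s}) := by
  have hc : ConnectedSpace ↥(G.hom.fiber s) :=
    (G.hom.fiberHomeo s).connectedSpace_iff.mpr (isConnected_iff_connectedSpace.mp (hconn s))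
  have hc' : ConnectedSpace ↥(Red.bc (S.fromSpecResidueField s) G).left := hc
  have hirr : IrreducibleSpace ↥(Red.bc (S.fromSpecResidueField s) G).left :=
    Groth.Agent.Helper2.HS6.irreducibleSpace_of_connectedSpace (k := S.residueField s)
      (Red.bc (S.fromSpecResidueField s) G) (IsLocalRing.closedPoint (S.residueField s))
  have hirr' : IrreducibleSpace ↥(G.hom.fiber s) := hirr
  exact Function.Surjective.irreducibleSpace (G.hom.fiberHomeo s).continuous
    (G.hom.fiberHomeo s).surjective

theorem unit_apply (s : S) : G.hom (η[G].left s) = s := by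
  have h : η[G].left ≫ G.hom = 𝟙 S := Over.w η[G]
  have h2 : (η[G].left ≫ G.hom) s = (𝟙 S :) s := by rw [h]
  exact h2

theorem maximal_mem (hconn : ∀ s : S, _root_.IsConnected (G.hom.base ⁻¹' {s})) (s : S)
    (W' : G.left.Opens) (hε : η[G].left s ∈ W') (x : ↥(G.hom.base ⁻¹' {s}))
    (hx : closure {x} ∈ irreducibleComponents ↥(G.hom.base ⁻¹' {s})) : x.1 ∈ W' := by
  have := irreducibleSpace_fibre G hconn s
  have huniv : (Set.univ : Set ↥(G.hom.base ⁻¹' {s})) ⊆ closure {x} :=
    hx.2 (IrreducibleSpace.isIrreducible_univ _) (Set.subset_univ _)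
  let e : ↥(G.hom.base ⁻¹' {s}) := ⟨η[G].left s, unit_apply G s⟩
  have hspec : x ⤳ e := by
    rw [specializes_iff_mem_closure]; exact huniv (Set.mem_univ _)
  have hspec' : x.1 ⤳ η[G].left s := hspec.map continuous_subtype_val
  exact hspec'.mem_open W'.isOpen hε

theorem exists_compact_open (V : S.Opens) (hV : IsCompact (V : Set S)) :
    ∃ W' : G.left.Opens, IsCompact (W' : Set G.left) ∧ (∀ v ∈ V, η[G].left v ∈ W') ∧
      W' ≤ G.hom ⁻¹ᵁ V := by
  have hK : IsCompact (η[G].left '' (V : Set S)) := hV.image η[G].left.continuous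
  have hKU : η[G].left '' (V : Set S) ⊆ ((G.hom ⁻¹ᵁ V : G.left.Opens) : Set G.left) := by
    rintro _ ⟨v, hv, rfl⟩
    change G.hom (η[G].left v) ∈ V
    rw [unit_apply]; exact hv
  obtain ⟨W, hWo, hWc, hKW, hWU⟩ := exists_compact_open_between hK (G.hom ⁻¹ᵁ V).isOpen hKU
  exact ⟨⟨W, hWo⟩, hWc, fun v hv => hKW ⟨v, hv, rfl⟩, hWU⟩

theorem isCompact_preimage [LocallyOfFinitePresentation G.hom]
    (hconn : ∀ s : S, _root_.IsConnected (G.hom.base ⁻¹' {s})) (V : S.Opens)
    (hV : IsAffineOpen V) : IsCompact ((G.hom ⁻¹ᵁ V : G.left.Opens) : Set G.left) := by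
  obtain ⟨W', hW'c, hεW', hW'V⟩ := exists_compact_open G V hV.isCompact
  let Y : Over S := Over.mk (W'.ι ≫ G.hom)
  let φ : Y ⟶ G := Over.homMk W'.ι rfl
  have hφ : φ.left = W'.ι := rfl
  have hfl : Flat φ.left := by rw [hφ]; infer_instance
  have hlfp : LocallyOfFinitePresentation φ.left := by rw [hφ]; infer_instance
  -- the source is compact
  have hsub : Set.range (W'.ι ≫ G.hom) ⊆ Set.range V.ι := by
    rintro _ ⟨w, rfl⟩
    rw [Scheme.Opens.range_ι, Scheme.Hom.comp_apply]
    exact hW'V w.2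
  let a' : (W' : Scheme.{u}) ⟶ V := IsOpenImmersion.lift V.ι (W'.ι ≫ G.hom) hsub
  have ha' : a' ≫ V.ι = W'.ι ≫ G.hom := IsOpenImmersion.lift_fac _ _ _
  have : IsAffine (V : Scheme.{u}) := hV
  have : CompactSpace ↥(W' : Scheme.{u}) := isCompact_iff_compactSpace.mp hW'c
  have hqc : QuasiCompact a' := (HasAffineProperty.iff_of_isAffine (P := @QuasiCompact)).mpr
    inferInstance
  have hc1 : CompactSpace ↥(pullback a' a') := inferInstance
  have sq : IsPullback (pullback.fst a' a') (pullback.snd a' a') (a' ≫ V.ι) (a' ≫ V.ι) :=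
    IsPullback.of_isLimit (pullbackIsPullbackOfCompMono a' a' V.ι)
  rw [ha'] at sq
  have hc2 : CompactSpace ↥(pullback (W'.ι ≫ G.hom) (W'.ι ≫ G.hom)) :=
    sq.isoPullback.hom.homeomorph.compactSpace
  have hc3 : CompactSpace ↥(Y ⊗ Y).left := hc2
  have hrange : ((G.hom ⁻¹ᵁ V : G.left.Opens) : Set G.left) =
      Set.range ((φ ⊗ₘ φ) ≫ μ[G]).left := by
    apply Set.Subset.antisymm
    · intro g hg
      refine mem_range_mul G φ g (G.hom g) rfl fun x hx => ?_
      have hs : G.hom g ∈ V := hg
      have hxW : x.1 ∈ W' := maximal_mem G hconn (G.hom g) W' (hεW' _ hs) x hx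
      exact ⟨⟨x.1, hxW⟩, rfl⟩
    · rintro _ ⟨y, rfl⟩
      change G.hom (((φ ⊗ₘ φ) ≫ μ[G]).left y) ∈ V
      rw [← Scheme.Hom.comp_apply, Over.w ((φ ⊗ₘ φ) ≫ μ[G]), Over.tensorObj_hom,
        Scheme.Hom.comp_apply]
      change (W'.ι ≫ G.hom) _ ∈ V
      rw [Scheme.Hom.comp_apply]
      exact hW'V (Subtype.property _)
  rw [hrange]
  exact isCompact_range ((φ ⊗ₘ φ) ≫ μ[G]).left.continuous

theorem quasiCompact_of_connected [LocallyOfFinitePresentation G.hom]
    (hconn : ∀ s : S, _root_.IsConnected (G.hom.base ⁻¹' {s})) : QuasiCompact G.hom := by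
  rw [quasiCompact_iff_forall_isAffineOpen]
  intro V hV
  exact isCompact_preimage G hconn V hV

end Groth.Agent.Lead.GrpQC
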