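import Groth.Prelude.Def_Grpd
import Mathlib

set_option autoImplicit false
universe u
open CategoryTheory CategoryTheory.Limits AlgebraicGeometry

namespace Groth.Agent.Lead.GrpdOmegaA

open Grpd

variable {S : Scheme.{u}} (G : GroupoidScheme S)

/-- composition on `T`-points -/
noncomputable def comp {T : Scheme.{u}} (α β : T ⟶ G.R) (h : α ≫ G.s = β ≫ G.t) : T ⟶ G.R :=
  pullback.lift α β h ≫ G.c

theorem comp_congr {T : Scheme.{u}} {α α' β β' : T ⟶ G.R} (h : α ≫ G.s = β ≫ G.t)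
    (hα : α = α') (hβ : β = β') :
    comp G α β h = comp G α' β' (by subst hα hβ; exact h) := by
  subst hα hβ; rfl

theorem precomp {T T' : Scheme.{u}} (m : T' ⟶ T) (α β : T ⟶ G.R) (h : α ≫ G.s = β ≫ G.t) :
    m ≫ comp G α β h = comp G (m ≫ α) (m ≫ β) (by rw [Category.assoc, Category.assoc, h]) := by
  unfold comp
  rw [← Category.assoc]
  congr 1
  apply pullback.hom_ext
  · rw [Category.assoc, pullback.lift_fst, pullback.lift_fst]
  · rw [Category.assoc, pullback.lift_snd, pullback.lift_snd]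

theorem comp_s {T : Scheme.{u}} (α β : T ⟶ G.R) (h : α ≫ G.s = β ≫ G.t) :
    comp G α β h ≫ G.s = β ≫ G.s := G.comp_s α β h

theorem comp_t {T : Scheme.{u}} (α β : T ⟶ G.R) (h : α ≫ G.s = β ≫ G.t) :
    comp G α β h ≫ G.t = α ≫ G.t := G.comp_t α β h

theorem assoc {T : Scheme.{u}} (α β γ : T ⟶ G.R) (h₁ : α ≫ G.s = β ≫ G.t)
    (h₂ : β ≫ G.s = γ ≫ G.t) :
    comp G (comp G α β h₁) γ ((comp_s G α β h₁).trans h₂) =
      comp G α (comp G β γ h₂) (h₁.trans (comp_t G β γ h₂).symm) := G.assoc α β γ h₁ h₂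

theorem e_comp {T : Scheme.{u}} (α : T ⟶ G.R) :
    comp G (α ≫ G.t ≫ G.e) α (by rw [Category.assoc, Category.assoc, G.e_s, Category.comp_id]) =
      α := G.e_comp α

theorem i_comp {T : Scheme.{u}} (α : T ⟶ G.R) :
    comp G (α ≫ G.i) α (by rw [Category.assoc, G.i_s]) = α ≫ G.s ≫ G.e := G.i_comp α

theorem comp_i {T : Scheme.{u}} (α : T ⟶ G.R) :
    comp G α (α ≫ G.i) (by rw [Category.assoc, G.i_t]) = α ≫ G.t ≫ G.e := G.comp_i α

/-- `α⁻¹ (α δ) = δ` -/
theorem inv_comp_cancel {T : Scheme.{u}} (α δ : T ⟶ G.R) (h : α ≫ G.s = δ ≫ G.t) :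
    comp G (α ≫ G.i) (comp G α δ h)
      (by rw [Category.assoc, G.i_s, comp_t]) = δ := by
  rw [← assoc G (α ≫ G.i) α δ (by rw [Category.assoc, G.i_s]) h]
  rw [comp_congr G _ (i_comp G α) rfl]
  have h2 : α ≫ G.s ≫ G.e = δ ≫ G.t ≫ G.e := by
    rw [← Category.assoc, h, Category.assoc]
  rw [comp_congr G _ h2 rfl]
  exact e_comp G δ

/-- `α (α⁻¹ γ) = γ` -/
theorem comp_inv_cancel {T : Scheme.{u}} (α γ : T ⟶ G.R) (h : α ≫ G.t = γ ≫ G.t) :
    comp G α (comp G (α ≫ G.i) γ (by rw [Category.assoc, G.i_s, h]))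
      (by rw [comp_t, Category.assoc, G.i_t]) = γ := by
  rw [← assoc G α (α ≫ G.i) γ (by rw [Category.assoc, G.i_t]) (by rw [Category.assoc, G.i_s, h])]
  rw [comp_congr G _ (comp_i G α) rfl]
  have h2 : α ≫ G.t ≫ G.e = γ ≫ G.t ≫ G.e := by
    rw [← Category.assoc, h, Category.assoc]
  rw [comp_congr G _ h2 rfl]
  exact e_comp G γ

/-- `(α, γ) ↦ α⁻¹ γ` on `R ×_{t,U,t} R` -/
noncomputable def nu : pullback G.t G.t ⟶ G.R :=
  comp G (pullback.fst G.t G.t ≫ G.i) (pullback.snd G.t G.t)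
    (by rw [Category.assoc, G.i_s, pullback.condition])

theorem nu_precomp {T : Scheme.{u}} (m : T ⟶ pullback G.t G.t) :
    m ≫ nu G = comp G ((m ≫ pullback.fst G.t G.t) ≫ G.i) (m ≫ pullback.snd G.t G.t)
      (by rw [Category.assoc, G.i_s, Category.assoc, Category.assoc, pullback.condition]) := by
  unfold nu
  rw [precomp]
  exact comp_congr G _ (Category.assoc _ _ _).symm rfl

theorem snd_eq {T : Scheme.{u}} (m : T ⟶ pullback G.t G.t) :
    m ≫ pullback.snd G.t G.t = comp G (m ≫ pullback.fst G.t G.t) (m ≫ nu G)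
      (by rw [nu_precomp, comp_t, Category.assoc _ G.i, G.i_t]) := by
  have hc : (m ≫ pullback.fst G.t G.t) ≫ G.t = (m ≫ pullback.snd G.t G.t) ≫ G.t := by
    rw [Category.assoc, Category.assoc, pullback.condition]
  have h3 := comp_inv_cancel G (m ≫ pullback.fst G.t G.t) (m ≫ pullback.snd G.t G.t) hc
  refine h3.symm.trans ?_
  exact comp_congr G _ rfl (nu_precomp G m).symm

theorem nu_isPullback : IsPullback (nu G) (pullback.fst G.t G.t) G.t G.s where
  w := by
    unfold nu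
    rw [comp_t, Category.assoc, G.i_t]
  isLimit' := Nonempty.intro <| PullbackCone.IsLimit.mk _
    (fun s => pullback.lift s.snd (comp G s.snd s.fst s.condition.symm)
      (by rw [comp_t]))
    (by
      intro s
      rw [nu_precomp]
      rw [comp_congr G _ (by rw [pullback.lift_fst] :
        (pullback.lift s.snd (comp G s.snd s.fst s.condition.symm) (by rw [comp_t]) ≫
          pullback.fst G.t G.t) ≫ G.i = s.snd ≫ G.i) (pullback.lift_snd _ _ _)]
      exact inv_comp_cancel G s.snd s.fst s.condition.symm)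
    (by
      intro s
      exact pullback.lift_fst _ _ _)
    (by
      intro s m hm₁ hm₂
      apply pullback.hom_ext
      · rw [pullback.lift_fst]; exact hm₂
      · rw [pullback.lift_snd, snd_eq G m]
        exact comp_congr G _ hm₂ hm₁)

/-- the diagonal followed by `ν` is `s ≫ e` -/
theorem diag_nu : pullback.lift (𝟙 G.R) (𝟙 G.R) rfl ≫ nu G = G.s ≫ G.e := by
  rw [nu_precomp]
  rw [comp_congr G _ (by rw [pullback.lift_fst, Category.id_comp] :
    (pullback.lift (𝟙 G.R) (𝟙 G.R) rfl ≫ pullback.fst G.t G.t) ≫ G.i = 𝟙 G.R ≫ G.i)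
    (pullback.lift_snd _ _ _)]
  rw [i_comp, Category.id_comp]

end Groth.Agent.Lead.GrpdOmegaA
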