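import Groth.Agent.Lead.OmegaSeqC
import Groth.Agent.Lead.OmegaUnivA
import Groth.Agent.Lead.GrpOmegaC
import Groth.Agent.Lead.GrpOmegaD
import Mathlib

set_option autoImplicit false
set_option backward.isDefEq.respectTransparency false
set_option backward.isDefEq.respectTransparency.types false
open CategoryTheory CategoryTheory.Limits AlgebraicGeometry Opposite TopologicalSpace
universe u

namespace Groth.Agent.Lead.GrpdOmegaB

open Scheme.Modules OmegaSh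

/-- two cartesian squares `(pr₁, pr₂)` over `(f, f)`, `(pr₁, ν)` over `(f, g)` and a section `Δ`
of `pr₂` give `Ω ≅ (Δ ≫ ν)^* Ω`. -/
theorem nonempty_iso_of_two_squares {X S P : Scheme.{u}} (f g : X ⟶ S) (pr₁ pr₂ ν : P ⟶ X)
    (h₂ : IsPullback pr₂ pr₁ f f) (hν : IsPullback ν pr₁ f g) (Δ : X ⟶ P)
    (hΔ₂ : Δ ≫ pr₂ = 𝟙 X) {Ω : X.Modules} (d : Der f Ω) (hd : IsUniversal d)
    {ΩP : P.Modules} (dP : Der pr₁ ΩP) (hdP : IsUniversal dP) :
    Nonempty (Ω ≅ (Scheme.Modules.pullback (Δ ≫ ν)).obj Ω) := by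
  obtain ⟨c₁, hc₁, -⟩ := DerA.existsUnique_diffCompat f pr₁ pr₂ f h₂.w.symm Ω d hd ΩP dP
  obtain ⟨c₂, hc₂, -⟩ := DerA.existsUnique_diffCompat f pr₁ ν g hν.w.symm Ω d hd ΩP dP
  haveI : IsIso c₁ := OmegaSeqC.isIso_of_isPullback f f pr₂ pr₁ h₂ d hd dP hdP c₁ hc₁
  haveI : IsIso c₂ := OmegaSeqC.isIso_of_isPullback f g ν pr₁ hν d hd dP hdP c₂ hc₂
  let e₁ : (Scheme.Modules.pullback pr₂).obj Ω ≅ (Scheme.Modules.pullback ν).obj Ω :=
    asIso c₁ ≪≫ (asIso c₂).symm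
  let e₂ : (Scheme.Modules.pullback Δ).obj ((Scheme.Modules.pullback pr₂).obj Ω) ≅
      (Scheme.Modules.pullback Δ).obj ((Scheme.Modules.pullback ν).obj Ω) :=
    (Scheme.Modules.pullback Δ).mapIso e₁
  exact ⟨((pullbackId X).app Ω).symm ≪≫ ((pullbackCongr hΔ₂).app Ω).symm ≪≫
    ((pullbackComp Δ pr₂).app Ω).symm ≪≫ e₂ ≪≫ (pullbackComp Δ ν).app Ω⟩

/-- for a section `e` of a quasi-separated morphism `f`, the conormal sheaf of `e` is `e^*Ω` -/
theorem conormal_iso_of_section {X S : Scheme.{u}} (f : X ⟶ S) [QuasiSeparated f] (e : S ⟶ X)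
    (he : e ≫ f = 𝟙 S) :
    Nonempty (Omega.conormal e ≅ (Scheme.Modules.pullback e).obj (Omega.sheaf f)) := by
  haveI : IsImmersion (e ≫ f) := by
    rw [he]; exact (inferInstance : IsImmersion (𝟙 S))
  haveI : IsImmersion e := IsImmersion.of_comp e f
  haveI : QuasiCompact (e ≫ f) := by
    rw [he]; exact (inferInstance : QuasiCompact (𝟙 S))
  haveI : QuasiCompact e := QuasiCompact.of_comp e f
  have hU := OmegaUnivA.isUniversal f
  obtain ⟨φ, hφ⟩ := GrpOmegaC.exists_isConormalDiff e f (dOmega f)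
  haveI : IsIso φ := GrpOmegaD.isIso_of_section f e he (dOmega f) hU φ hφ
  exact ⟨asIso φ⟩

end Groth.Agent.Lead.GrpdOmegaB
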