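import Groth.Agent.Lead.GrpdOmegaA
import Groth.Agent.Lead.GrpdOmegaB
import Mathlib

set_option autoImplicit false
set_option backward.isDefEq.respectTransparency false
set_option backward.isDefEq.respectTransparency.types false
open CategoryTheory CategoryTheory.Limits AlgebraicGeometry Opposite TopologicalSpace
universe u

namespace Groth.Agent.Lead.GrpdOmegaC

open Scheme.Modules OmegaSh Grpd

theorem main (S : Scheme.{u}) (G : Grpd.GroupoidScheme S) [QuasiSeparated G.t] :
    Nonempty ((Scheme.Modules.pullback G.s).obj (Omega.conormal G.e) ≅ Omega.sheaf G.t) := by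
  have h₂ : IsPullback (pullback.snd G.t G.t) (pullback.fst G.t G.t) G.t G.t :=
    (IsPullback.of_hasPullback G.t G.t).flip
  have hν := GrpdOmegaA.nu_isPullback G
  haveI : QuasiSeparated (pullback.fst G.t G.t) :=
    MorphismProperty.of_isPullback (P := @QuasiSeparated) h₂ inferInstance
  have hU := OmegaUnivA.isUniversal G.t
  have hUP := OmegaUnivA.isUniversal (pullback.fst G.t G.t)
  obtain ⟨e₁⟩ := GrpdOmegaB.nonempty_iso_of_two_squares G.t G.s (pullback.fst G.t G.t)
    (pullback.snd G.t G.t) (GrpdOmegaA.nu G) h₂ hν (pullback.lift (𝟙 G.R) (𝟙 G.R) rfl)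
    (pullback.lift_snd _ _ _) (dOmega G.t) hU (dOmega (pullback.fst G.t G.t)) hUP
  obtain ⟨φ⟩ := GrpdOmegaB.conormal_iso_of_section G.t G.e G.e_t
  exact ⟨((Scheme.Modules.pullback G.s).mapIso φ ≪≫ (pullbackComp G.s G.e).app _ ≪≫
    ((pullbackCongr (GrpdOmegaA.diag_nu G)).app _).symm ≪≫ e₁.symm)⟩

end Groth.Agent.Lead.GrpdOmegaC
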