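import Mathlib
import Groth.Prelude.Def_Coh
import Groth.Prelude.Def_Curv2
import Groth.Prelude.Def_FlatMod2
import Groth.Prelude.Def_ClSub2
import Groth.Agent.Lead.H0GeomA

/-!
# `[Γ(X, O_X) : k]` divides all degrees on a proper reduced connected `k`-scheme
-/

set_option autoImplicit false

universe u

open AlgebraicGeometry CategoryTheory Limits Opposite TopologicalSpace TensorProduct

attribute [local instance] Curv2.resAlgebra

namespace Groth.Agent.Lead.H0Geom

theorem dvd_finsum {w : ℤ} (f : ℕ → ℤ) (h : ∀ i, w ∣ f i) : w ∣ ∑ᶠ i, f i := by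
  by_cases hf : (Function.support f).Finite
  · rw [finsum_eq_sum_of_support_subset f (s := hf.toFinset) (by simp)]
    exact Finset.dvd_sum (fun i _ => h i)
  · rw [finsum_of_infinite_support hf]
    exact dvd_zero _

section

variable (k : Type u) [Field k] (X : Scheme.{u}) [X.Over (Spec (CommRingCat.of k))]

/-- `[κ : k]` divides `dim_k H^i(X, F)` when `κ = Γ(X, O_X)` is a field. -/
theorem finrank_dvd_finrank_HH (hfield : IsField Γ(X, ⊤)) (F : X.Modules) (i : ℕ) :
    letI : Algebra k Γ(X, ⊤) := (Coh.toGlobal (X ↘ Spec (CommRingCat.of k))).toAlgebra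
    Module.finrank k Γ(X, ⊤) ∣ Module.finrank k (Coh.HH X F i) := by
  letI : Algebra k Γ(X, ⊤) := (Coh.toGlobal (X ↘ Spec (CommRingCat.of k))).toAlgebra
  letI : Field Γ(X, ⊤) := hfield.toField
  letI : Module Γ(X, ⊤) (Coh.HH X F i) := Coh.moduleΓtop F i
  have : IsScalarTower k Γ(X, ⊤) (Coh.HH X F i) := by
    refine ⟨fun a r x => ?_⟩
    rw [Algebra.smul_def, mul_smul]
    rfl
  exact ⟨_, (Module.finrank_mul_finrank k Γ(X, ⊤) (Coh.HH X F i)).symm⟩

theorem finrank_dvd_euler (hfield : IsField Γ(X, ⊤)) (F : X.Modules) :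
    letI : Algebra k Γ(X, ⊤) := (Coh.toGlobal (X ↘ Spec (CommRingCat.of k))).toAlgebra
    (Module.finrank k Γ(X, ⊤) : ℤ) ∣ Curv2.euler k X F := by
  letI : Algebra k Γ(X, ⊤) := (Coh.toGlobal (X ↘ Spec (CommRingCat.of k))).toAlgebra
  unfold Curv2.euler
  refine dvd_finsum _ (fun i => ?_)
  exact Dvd.dvd.mul_left (Int.natCast_dvd_natCast.mpr (finrank_dvd_finrank_HH k X hfield F i)) _

theorem main2 [IsProper (X ↘ (Spec (CommRingCat.of k)))] [IsReduced X] [ConnectedSpace X] :
    letI : Algebra k Γ(X, ⊤) := ((X ↘ (Spec (CommRingCat.of k))).appTop.hom.comp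
      (Scheme.ΓSpecIso (CommRingCat.of k)).inv.hom).toAlgebra
    IsField Γ(X, ⊤) ∧ Module.Finite k Γ(X, ⊤) ∧
      (∀ (n : ℕ) (E : X.Modules), FlatMod.IsFinLocFreeOfRank n E →
        (Module.finrank k Γ(X, ⊤) : ℤ) ∣ Curv2.deg k X E n) ∧
      (∀ x : X, IsClosed ({x} : Set X) →
        Module.finrank k Γ(X, ⊤) ∣ Module.finrank k (X.residueField x)) ∧
      (∀ D : X.IdealSheafData, topologicalKrullDim D.subscheme ≤ 0 →
        Module.finrank k Γ(X, ⊤) ∣ Module.finrank k (Coh.HH X (ClSub.quotMod D) 0)) := by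
  letI : Algebra k Γ(X, ⊤) := (Coh.toGlobal (X ↘ Spec (CommRingCat.of k))).toAlgebra
  haveI : Module.Finite k Γ(X, ⊤) := finite_Γ k X
  haveI : CompactSpace X := QuasiCompact.compactSpace_of_compactSpace (X ↘ Spec (CommRingCat.of k))
  haveI : Nontrivial Γ(X, ⊤) := nontrivial_Γ X
  haveI : PreconnectedSpace (PrimeSpectrum Γ(X, ⊤)) := preconnectedSpace_spec_Γ X
  have hfield : IsField Γ(X, ⊤) := isField_of_reduced_connected k Γ(X, ⊤)
  refine ⟨hfield, finite_Γ k X, fun n E _ => ?_, fun x _ => ?_, fun D _ => ?_⟩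
  · unfold Curv2.deg
    exact dvd_sub (finrank_dvd_euler k X hfield E)
      (Dvd.dvd.mul_left (finrank_dvd_euler k X hfield _) _)
  · letI : Field Γ(X, ⊤) := hfield.toField
    letI : Algebra Γ(X, ⊤) (X.residueField x) :=
      ((X.residue x).hom.comp (X.presheaf.germ ⊤ x trivial).hom).toAlgebra
    have : IsScalarTower k Γ(X, ⊤) (X.residueField x) := IsScalarTower.of_algebraMap_eq' rfl
    exact ⟨_, (Module.finrank_mul_finrank k Γ(X, ⊤) (X.residueField x)).symm⟩
  · exact finrank_dvd_finrank_HH k X hfield _ 0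

end

end Groth.Agent.Lead.H0Geom
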