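import Mathlib
import Groth.Agent.S13734
import Groth.Agent.Lead.BlowInt

set_option autoImplicit false
set_option linter.style.haveILetI false

/-!
# An open of a blow-up which is universally submersive over the base is everything
-/

namespace Groth.Agent.Lead.HBlow

open CategoryTheory Limits AlgebraicGeometry TopologicalSpace Opposite

universe u

/-- maximal points are not in the support of an effective Cartier ideal -/
theorem not_mem_support_of_maximal {X : Scheme.{u}} (𝓙 : X.IdealSheafData)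
    (h : BlowUp.IsEffCartierIdeal 𝓙) (x : X) (hx : ∀ y : X, y ⤳ x → y = x) :
    x ∉ 𝓙.support := by
  intro hmem
  obtain ⟨W, hxW, f, hf, hspan⟩ := h x
  rw [Scheme.IdealSheafData.mem_support_iff_of_mem hxW, hspan, Scheme.zeroLocus_span,
    Scheme.zeroLocus_singleton] at hmem
  set p := W.2.primeIdealOf ⟨x, hxW⟩ with hp
  have hpx : W.2.fromSpec p = x := W.2.fromSpec_primeIdealOf ⟨x, hxW⟩
  have hfp : f ∈ p.asIdeal := by
    by_contra hc
    apply hmem
    have h1 : p ∈ W.2.fromSpec ⁻¹ᵁ X.basicOpen f := by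
      rw [W.2.fromSpec_preimage_basicOpen]
      exact hc
    rw [← hpx]
    exact h1
  have hmin : p.asIdeal ∈ minimalPrimes Γ(X, W.1) := by
    refine ⟨⟨p.isPrime, bot_le⟩, ?_⟩
    rintro q ⟨hq, -⟩ hqp
    have hsp : (⟨q, hq⟩ : PrimeSpectrum Γ(X, W.1)) ⤳ p :=
      (PrimeSpectrum.le_iff_specializes _ _).1 hqp
    have h2 := hsp.map W.2.fromSpec.continuous
    rw [hpx] at h2
    have h3 := hx _ h2
    have h4 : (⟨q, hq⟩ : PrimeSpectrum Γ(X, W.1)) = p :=
      W.2.fromSpec.isOpenEmbedding.injective (h3.trans hpx.symm)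
    rw [← h4]
  exact Set.disjoint_left.1 (Ideal.disjoint_nonZeroDivisors_of_mem_minimalPrimes hmin) hfp hf

/-- two morphisms into the source of `b` agreeing after `b` and landing over an open over which
`b` is an isomorphism agree -/
theorem eq_of_comp_eq_of_isIso_restrict {X' X W : Scheme.{u}} (b : X' ⟶ X) (V : X.Opens)
    [IsIso (b ∣_ V)] (u v : W ⟶ X') (huv : u ≫ b = v ≫ b) (hu : ∀ w : W, b (u w) ∈ V) :
    u = v := by
  have hu' : Set.range u ⊆ Set.range (b ⁻¹ᵁ V).ι := by
    rw [Scheme.Opens.range_ι]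
    rintro _ ⟨w, rfl⟩
    exact hu w
  have hv' : Set.range v ⊆ Set.range (b ⁻¹ᵁ V).ι := by
    rw [Scheme.Opens.range_ι]
    rintro _ ⟨w, rfl⟩
    change b (v w) ∈ V
    have h1 : b (v w) = b (u w) := by
      rw [← Scheme.Hom.comp_apply, ← Scheme.Hom.comp_apply, huv]
    rw [h1]
    exact hu w
  have e1 : IsOpenImmersion.lift (b ⁻¹ᵁ V).ι u hu' ≫ (b ⁻¹ᵁ V).ι = u :=
    IsOpenImmersion.lift_fac _ _ _
  have e2 : IsOpenImmersion.lift (b ⁻¹ᵁ V).ι v hv' ≫ (b ⁻¹ᵁ V).ι = v :=
    IsOpenImmersion.lift_fac _ _ _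
  have e3 : IsOpenImmersion.lift (b ⁻¹ᵁ V).ι u hu' = IsOpenImmersion.lift (b ⁻¹ᵁ V).ι v hv' := by
    rw [← cancel_mono (b ∣_ V), ← cancel_mono V.ι, Category.assoc, Category.assoc,
      morphismRestrict_ι, ← Category.assoc, ← Category.assoc, e1, e2]
    exact huv
  rw [← e1, ← e2, e3]

theorem exists_maximal_generization {X : Type*} [TopologicalSpace X] [QuasiSober X] [T0Space X]
    (z : X) : ∃ x' : X, x' ⤳ z ∧ ∀ y : X, y ⤳ x' → y = x' := by
  obtain ⟨x', hx'⟩ := QuasiSober.sober (isIrreducible_irreducibleComponent (x := z))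
    isClosed_irreducibleComponent
  refine ⟨x', ?_, ?_⟩
  · rw [specializes_iff_mem_closure, hx'.def]
    exact mem_irreducibleComponent
  · intro y hy
    have h1 : irreducibleComponent z ⊆ closure {y} := by
      rw [← hx'.def]
      exact closure_minimal (Set.singleton_subset_iff.2 (specializes_iff_mem_closure.1 hy))
        isClosed_closure
    have h2 : IsIrreducible (closure ({y} : Set X)) := isIrreducible_singleton.closure
    have h3 : closure ({y} : Set X) ⊆ irreducibleComponent z :=
      (irreducibleComponent_mem_irreducibleComponents z).2 h2 h1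
    have h4 : IsGenericPoint y (irreducibleComponent z) := le_antisymm h3 h1
    exact h4.eq hx'

theorem isDominant_spec_fractionRing (R : Type u) [CommRing R] [IsDomain R] :
    IsDominant (Spec.map (CommRingCat.ofHom (algebraMap R (FractionRing R)))) := by
  constructor
  rw [DenseRange, dense_iff_closure_eq]
  ext y
  simp only [Set.mem_univ, iff_true]
  have hmem : (⟨⊥, Ideal.isPrime_bot⟩ : PrimeSpectrum R) ∈
      Set.range (Spec.map (CommRingCat.ofHom (algebraMap R (FractionRing R)))) := by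
    refine ⟨(⟨⊥, Ideal.isPrime_bot⟩ : PrimeSpectrum (FractionRing R)), ?_⟩
    apply PrimeSpectrum.ext
    change Ideal.comap (algebraMap R (FractionRing R)) ⊥ = ⊥
    exact Ideal.comap_bot_of_injective _ (IsFractionRing.injective R (FractionRing R))
  have hsp : (⟨⊥, Ideal.isPrime_bot⟩ : PrimeSpectrum R) ⤳ (y : PrimeSpectrum R) := by
    rw [← PrimeSpectrum.le_iff_specializes]
    exact bot_le (a := (y : PrimeSpectrum R).asIdeal)
  exact closure_mono (Set.singleton_subset_iff.2 hmem) (specializes_iff_mem_closure.1 hsp)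

theorem main {X X' : Scheme.{u}} [IsNoetherian X] [X.IsSeparated] [X'.IsSeparated]
    (𝓘 : X.IdealSheafData) (b : X' ⟶ X) [LocallyOfFiniteType b] [QuasiCompact b]
    (hb : BlowUp.IsBlowUp b 𝓘) (U : X'.Opens) (hU : SGA1.UnivSubmersive (U.ι ≫ b)) : U = ⊤ := by
  haveI : IsLocallyNoetherian X' := LocallyOfFiniteType.isLocallyNoetherian b
  haveI : CompactSpace X' := QuasiCompact.compactSpace_of_compactSpace b
  haveI : IsNoetherian X' := {}
  haveI hiso : IsIso (b ∣_ 𝓘.support.compl) := Groth.Agent.S1682.result 𝓘 b hb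
  rw [eq_top_iff]
  intro z _
  obtain ⟨x', hx'z, hx'max⟩ := exists_maximal_generization z
  have hx'E : b x' ∉ 𝓘.support := by
    have h1 := not_mem_support_of_maximal (𝓘.comap b) hb.1 x' hx'max
    rw [Scheme.IdealSheafData.support_comap] at h1
    exact h1
  have hquot : Topology.IsQuotientMap (U.ι ≫ b) :=
    (MorphismProperty.universally_le _) _ hU
  by_cases hzx : z = x'
  · subst hzx
    obtain ⟨u, hu⟩ := hquot.surjective (b z)
    have h1 : b (U.ι u) = b z := by rw [← Scheme.Hom.comp_apply]; exact hu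
    have h2 : z = U.ι u :=
      Groth.Agent.Lead.BlowInt.eq_of_map_eq_of_not_mem_support 𝓘 b hb z (U.ι u) hx'E h1.symm
    rw [h2]
    exact u.2
  · obtain ⟨A, σ, hA, hσ1, hσ2⟩ := Groth.Agent.Helper5.DvrSpec.main (𝟙 X') x' z hx'z hzx
    haveI := hA
    obtain ⟨R', _, _, _, φ, h, hφ, hh⟩ :=
      (Groth.Agent.S13734.result (U.ι ≫ b)).1 hU ↥A (σ ≫ b)
    -- generic and closed points
    have hgenA : σ (⟨⊥, Ideal.isPrime_bot⟩ : PrimeSpectrum ↥A) = x' := by
      let pt : ↥(Spec (X'.residueField x')) := IsLocalRing.closedPoint (X'.residueField x')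
      have h1 : (Spec.map (CommRingCat.ofHom A.subtype) ≫ σ) pt = x' := by
        rw [hσ2, Category.comp_id, Scheme.fromSpecResidueField_apply]
      rw [Scheme.Hom.comp_apply] at h1
      have h2 : (Spec.map (CommRingCat.ofHom A.subtype)) pt =
          (⟨⊥, Ideal.isPrime_bot⟩ : PrimeSpectrum ↥A) := by
        apply PrimeSpectrum.ext
        change Ideal.comap A.subtype _ = ⊥
        rw [eq_bot_iff]
        intro a ha
        have h3 : A.subtype a ∈ IsLocalRing.maximalIdeal (X'.residueField x') := ha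
        rw [IsLocalRing.maximalIdeal_eq_bot, Ideal.mem_bot] at h3
        rw [Ideal.mem_bot]
        exact Subtype.ext h3
      rw [h2] at h1
      exact h1
    have hφgen : φ (⟨⊥, Ideal.isPrime_bot⟩ : PrimeSpectrum R') =
        (⟨⊥, Ideal.isPrime_bot⟩ : PrimeSpectrum ↥A) := by
      obtain ⟨w', hw'⟩ := φ.surjective (⟨⊥, Ideal.isPrime_bot⟩ : PrimeSpectrum ↥A)
      have h1 : (⟨⊥, Ideal.isPrime_bot⟩ : PrimeSpectrum R') ⤳ (w' : PrimeSpectrum R') := by
        rw [← PrimeSpectrum.le_iff_specializes]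
        exact bot_le (a := (w' : PrimeSpectrum R').asIdeal)
      have h2 := h1.map φ.continuous
      rw [hw'] at h2
      have h3 : PrimeSpectrum.asIdeal (φ (⟨⊥, Ideal.isPrime_bot⟩ : PrimeSpectrum R')) ≤ ⊥ :=
        (PrimeSpectrum.le_iff_specializes (R := ↥A) _ ⟨⊥, Ideal.isPrime_bot⟩).2 h2
      exact PrimeSpectrum.ext (le_bot_iff.1 h3)
    have hφcl : φ (IsLocalRing.closedPoint R') = IsLocalRing.closedPoint ↥A := by
      obtain ⟨w', hw'⟩ := φ.surjective (IsLocalRing.closedPoint ↥A)
      have h1 : (w' : PrimeSpectrum R') ⤳ IsLocalRing.closedPoint R' :=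
        IsLocalRing.specializes_closedPoint _
      have h2 := h1.map φ.continuous
      rw [hw'] at h2
      have h3 := h2.mem_closed (IsLocalRing.isClosed_singleton_closedPoint ↥A) rfl
      exact h3
    haveI := isDominant_spec_fractionRing R'
    have hgen : Spec.map (CommRingCat.ofHom (algebraMap R' (FractionRing R'))) ≫ (φ ≫ σ) =
        Spec.map (CommRingCat.ofHom (algebraMap R' (FractionRing R'))) ≫ (h ≫ U.ι) := by
      apply eq_of_comp_eq_of_isIso_restrict b 𝓘.support.compl
      · simp only [Category.assoc] at hh ⊢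
        rw [hh]
      · intro w
        have hw : (Spec.map (CommRingCat.ofHom (algebraMap R' (FractionRing R')))) w =
            (⟨⊥, Ideal.isPrime_bot⟩ : PrimeSpectrum R') := by
          apply PrimeSpectrum.ext
          change Ideal.comap (algebraMap R' (FractionRing R')) (w : PrimeSpectrum _).asIdeal = ⊥
          have : (w : PrimeSpectrum (FractionRing R')).asIdeal = ⊥ :=
            ((Ideal.eq_bot_or_top _).resolve_right (w : PrimeSpectrum _).isPrime.ne_top)
          rw [this]
          exact Ideal.comap_bot_of_injective _ (IsFractionRing.injective R' (FractionRing R'))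
        rw [Scheme.Hom.comp_apply, Scheme.Hom.comp_apply, hw, hφgen, hgenA]
        exact hx'E
    have hpq : φ ≫ σ = h ≫ U.ι :=
      ext_of_isDominant_of_isSeparated (terminal.from X') (Subsingleton.elim _ _)
        (Spec.map (CommRingCat.ofHom (algebraMap R' (FractionRing R')))) hgen
    have hz : z = (h ≫ U.ι) (IsLocalRing.closedPoint R') := by
      rw [← hpq, Scheme.Hom.comp_apply, hφcl, hσ1]
    rw [hz, Scheme.Hom.comp_apply]
    exact (h (IsLocalRing.closedPoint R')).2

end Groth.Agent.Lead.HBlow
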