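import Mathlib
import Groth.Agent.Helper2.PairHensBC
import Groth.Agent.Helper2.PairHensProps

set_option autoImplicit false
set_option linter.style.haveILetI false
set_option linter.unusedSectionVars false
set_option linter.unusedVariables false

open Polynomial TensorProduct

namespace Groth.Agent.Lead.HLaur

universe u

theorem self_hens (C : Type u) [CommRing C] (J : Ideal C) (hJ : HenselianRing C J) :
    Hens2.IsPairHenselization C J C := by
  refine ⟨?_, ?_⟩
  · rw [Algebra.algebraMap_self, Ideal.map_id]; exact hJ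
  · intro D _ K f _ _
    refine ⟨f, ?_, ?_⟩
    · show f.comp (algebraMap C C) = f
      rw [Algebra.algebraMap_self, RingHom.comp_id]
    · intro g hg
      rw [Algebra.algebraMap_self, RingHom.comp_id] at hg
      exact hg

section Quot

variable {R : Type u} [CommRing R] [HenselianLocalRing R]
variable (G : R[X])

local notation "𝔪" => IsLocalRing.maximalIdeal R

/-- the quotient ring -/
abbrev QG : Type u := R[X] ⧸ Ideal.span {G}

theorem X_pow_mem (hG : G.Monic) (hlow : ∀ j, j < G.natDegree → G.coeff j ∈ 𝔪) :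
    (Ideal.Quotient.mk (Ideal.span {G}) X) ^ G.natDegree ∈ (𝔪).map (algebraMap R (QG G)) := by
  have h1 : X ^ G.natDegree - G ∈ (𝔪).map (C : R →+* R[X]) := by
    rw [Ideal.mem_map_C_iff]
    intro j
    rw [coeff_sub, coeff_X_pow]
    rcases lt_trichotomy j G.natDegree with h | h | h
    · rw [if_neg h.ne, zero_sub]; exact neg_mem (hlow j h)
    · subst h
      rw [if_pos rfl, hG.coeff_natDegree, sub_self]; exact zero_mem _
    · rw [if_neg h.ne', coeff_eq_zero_of_natDegree_lt h, sub_zero]; exact zero_mem _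
  have h2 : Ideal.Quotient.mk (Ideal.span {G}) (X ^ G.natDegree - G) ∈
      (𝔪).map (algebraMap R (QG G)) := by
    have := Ideal.mem_map_of_mem (Ideal.Quotient.mk (Ideal.span {G})) h1
    rwa [Ideal.map_map] at this
  rw [map_sub, map_pow, Ideal.Quotient.eq_zero_iff_mem.mpr (Ideal.mem_span_singleton_self G),
    sub_zero] at h2
  exact h2

theorem hens_QG (hG : G.Monic) (hlow : ∀ j, j < G.natDegree → G.coeff j ∈ 𝔪) :
    HenselianRing (QG G) (Ideal.span {Ideal.Quotient.mk (Ideal.span {G}) X}) := by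
  haveI : Module.Finite R (QG G) := hG.finite_quotient
  haveI : Algebra.IsIntegral R (QG G) := Algebra.IsIntegral.of_finite R _
  haveI h1 : HenselianRing (QG G) ((𝔪).map (algebraMap R (QG G))) :=
    Groth.Agent.Helper3.HensRows.hens_of_isIntegral R 𝔪 (QG G)
  haveI h2 : HenselianRing (QG G) ((𝔪).map (algebraMap R (QG G))).radical :=
    Groth.Agent.Helper3.HensLocal.hens_radical _
  refine Groth.Agent.Helper3.HensProj.hens_of_le ((𝔪).map (algebraMap R (QG G))).radical _ ?_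
  rw [Ideal.span_singleton_le_iff_mem]
  exact ⟨G.natDegree, X_pow_mem G hG hlow⟩

variable {B : Type u} [CommRing B] [Algebra R[X] B]

theorem exists_theta (hB : Hens2.IsPairHenselization R[X] (Ideal.span {(X : R[X])}) B)
    (hG : G.Monic) (hlow : ∀ j, j < G.natDegree → G.coeff j ∈ 𝔪) :
    Nonempty (B →ₐ[R[X]] QG G) := by
  obtain ⟨g, hg, -⟩ := hB.2 (QG G) (Ideal.span {Ideal.Quotient.mk (Ideal.span {G}) X})
    (algebraMap R[X] (QG G)) (hens_QG G hG hlow) (by
      rw [Ideal.map_span, Set.image_singleton]; exact le_rfl)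
  exact ⟨{ g with commutes' := fun r => congr($hg r) }⟩

theorem exists_sub_mem (hB : Hens2.IsPairHenselization R[X] (Ideal.span {(X : R[X])}) B)
    (hG : G.Monic) (hlow : ∀ j, j < G.natDegree → G.coeff j ∈ 𝔪) (b : B) :
    ∃ a : R[X], b - algebraMap R[X] B a ∈ Ideal.span {algebraMap R[X] B G} := by
  set J : Ideal (QG G) := Ideal.span {Ideal.Quotient.mk (Ideal.span {G}) X} with hJdef
  have hJ := hens_QG G hG hlow
  obtain ⟨θ⟩ := exists_theta G hB hG hlow
  haveI : Algebra.IsIntegral R[X] (QG G) :=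
    Algebra.IsIntegral.of_surjective (Ideal.Quotient.mkₐ R[X] (Ideal.span {G}))
      Ideal.Quotient.mk_surjective
  have hIJ : (Ideal.span {(X : R[X])}).map (algebraMap R[X] (QG G)) ≤ J := by
    rw [Ideal.map_span, Set.image_singleton]; exact le_rfl
  have hrad : J.radical = ((Ideal.span {(X : R[X])}).map (algebraMap R[X] (QG G))).radical := by
    rw [Ideal.map_span, Set.image_singleton]; rfl
  have hbij := Groth.Agent.Helper2.PairHensBC.s9324 (A := R[X]) (B := QG G) (Ah := B)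
    (Bh := QG G) (Ideal.span {(X : R[X])}) J hIJ hrad hB (self_hens (QG G) J hJ) θ
  obtain ⟨a, ha⟩ := Ideal.Quotient.mk_surjective (θ b)
  refine ⟨a, ?_⟩
  have h0 : (b - algebraMap R[X] B a) ⊗ₜ[R[X]] (1 : QG G) = 0 := by
    apply hbij.1
    rw [map_zero, Algebra.TensorProduct.productMap_apply_tmul, map_sub, AlgHom.commutes, map_one,
      mul_one, ← ha, Ideal.Quotient.algebraMap_eq, sub_self]
  have h1 := congrArg (TensorProduct.tensorQuotEquivQuotSMul B (Ideal.span {G})) h0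
  rw [map_zero] at h1
  have h2 : TensorProduct.tensorQuotEquivQuotSMul B (Ideal.span {G})
      ((b - algebraMap R[X] B a) ⊗ₜ[R[X]] (1 : QG G)) =
      Submodule.Quotient.mk (b - algebraMap R[X] B a) := by
    have := TensorProduct.tensorQuotEquivQuotSMul_tmul_mk (M := B) (Ideal.span {G})
      (b - algebraMap R[X] B a) (1 : R[X])
    rwa [map_one, one_smul] at this
  rw [h2, Submodule.Quotient.mk_eq_zero, Ideal.smul_top_eq_map] at h1
  have h3 : b - algebraMap R[X] B a ∈ Ideal.map (algebraMap R[X] B) (Ideal.span {G}) := h1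
  rwa [Ideal.map_span, Set.image_singleton] at h3

end Quot


section Core

variable {R : Type u} [CommRing R] [HenselianLocalRing R]

local notation "𝔪" => IsLocalRing.maximalIdeal R

theorem reverse_facts (i₀ : R[X]) (h0 : i₀.coeff 0 = 1) (hm : ∀ j, 1 ≤ j → i₀.coeff j ∈ 𝔪) :
    i₀.reverse.Monic ∧ i₀.reverse.natDegree = i₀.natDegree ∧
      ∀ j, j < i₀.reverse.natDegree → i₀.reverse.coeff j ∈ 𝔪 := by
  have hne : i₀.coeff 0 ≠ 0 := by rw [h0]; exact one_ne_zero
  have htr : i₀.natTrailingDegree = 0 := Polynomial.natTrailingDegree_eq_zero.mpr (Or.inr hne)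
  have hdeg : i₀.reverse.natDegree = i₀.natDegree := by
    rw [reverse_natDegree, htr, Nat.sub_zero]
  refine ⟨?_, hdeg, ?_⟩
  · show i₀.reverse.leadingCoeff = 1
    rw [reverse_leadingCoeff, Polynomial.trailingCoeff, htr, h0]
  · intro j hj
    rw [hdeg] at hj
    rw [coeff_reverse, revAt_le hj.le]
    exact hm _ (by omega)

variable {B : Type u} [CommRing B] [Algebra R B] [Algebra R[X] B] [IsScalarTower R R[X] B]
variable {L : Type u} [CommRing L] [Algebra B L] [Algebra R L] [IsScalarTower R B L]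
  [IsLocalization.Away (algebraMap R[X] B X) L]
variable (ψ : R[X] →ₐ[R] L)

theorem psi_eq_aeval (p : R[X]) : ψ p = aeval (ψ X) p := by
  rw [aeval_algHom_apply, aeval_X_left_apply]

omit [HenselianLocalRing R] [IsLocalization.Away (algebraMap R[X] B X) L] in
theorem algebraMap_eq_aeval (p : R[X]) :
    algebraMap B L (algebraMap R[X] B p) = aeval (algebraMap B L (algebraMap R[X] B X)) p := by
  have : (IsScalarTower.toAlgHom R B L).comp (IsScalarTower.toAlgHom R R[X] B) =
      aeval (algebraMap B L (algebraMap R[X] B X)) := by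
    apply Polynomial.algHom_ext
    simp
  exact congr($this p)

variable (hψ : ψ X * algebraMap B L (algebraMap R[X] B X) = 1)
include hψ

theorem aeval_reverse (i₀ : R[X]) :
    aeval (algebraMap B L (algebraMap R[X] B X)) i₀.reverse =
      ψ i₀ * (algebraMap B L (algebraMap R[X] B X)) ^ i₀.natDegree := by
  set tL := algebraMap B L (algebraMap R[X] B X) with htL
  letI : Invertible (ψ X) := ⟨tL, (mul_comm _ _).trans hψ, hψ⟩
  have h := eval₂_reverse_mul_pow (algebraMap R L) (ψ X) i₀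
  have h1 : eval₂ (algebraMap R L) (ψ X) i₀ = ψ i₀ := by
    rw [← aeval_def, ← psi_eq_aeval]
  have h2 : (⅟(ψ X) : L) = tL := rfl
  rw [h1, h2, ← aeval_def] at h
  calc aeval tL i₀.reverse = aeval tL i₀.reverse * (ψ X ^ i₀.natDegree * tL ^ i₀.natDegree) := by
        rw [← mul_pow, hψ, one_pow, mul_one]
    _ = ψ i₀ * tL ^ i₀.natDegree := by rw [← mul_assoc, h]

variable (hB : Hens2.IsPairHenselization R[X] (Ideal.span {(X : R[X])}) B)
include hB

theorem surj_core (i₀ : R[X]) (h0 : i₀.coeff 0 = 1) (hm : ∀ j, 1 ≤ j → i₀.coeff j ∈ 𝔪) (l : L) :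
    ∃ x : R[X], ψ x - l ∈ Ideal.span {ψ i₀} := by
  obtain ⟨hGm, hGdeg, hGlow⟩ := reverse_facts i₀ h0 hm
  set tB := algebraMap R[X] B X with htB
  set tL := algebraMap B L tB with htL
  set K : Ideal L := Ideal.span {ψ i₀} with hK
  set w : R[X] := - i₀.divX with hw
  have hi₀ : i₀ = 1 + X * i₀.divX := by
    conv_lhs => rw [← divX_mul_X_add i₀, h0, map_one]
    ring
  have e : ψ i₀ = 1 + ψ X * ψ i₀.divX := by
    conv_lhs => rw [hi₀]
    rw [map_add, map_mul, map_one]
  have hwK : tL - ψ w ∈ K := by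
    have : tL - ψ w = tL * ψ i₀ := by
      rw [e, hw, map_neg]
      linear_combination (-(ψ i₀.divX)) * hψ
    rw [this]
    exact Ideal.mul_mem_left _ _ (Ideal.mem_span_singleton_self _)
  let π : L →ₐ[R] L ⧸ K := Ideal.Quotient.mkₐ R K
  have hπ0 : ∀ z, z ∈ K → π z = 0 := fun z hz => Ideal.Quotient.eq_zero_iff_mem.mpr hz
  have hπt : π tL = π (ψ w) := by
    have := hπ0 _ hwK
    rwa [map_sub, sub_eq_zero] at this
  have hπG : π (algebraMap B L (algebraMap R[X] B i₀.reverse)) = 0 := by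
    apply hπ0
    rw [algebraMap_eq_aeval, aeval_reverse ψ hψ]
    exact Ideal.mul_mem_right _ _ (Ideal.mem_span_singleton_self _)
  obtain ⟨N, b, hb⟩ := IsLocalization.Away.surj tB l
  obtain ⟨a, ha⟩ := exists_sub_mem i₀.reverse hB hGm hGlow b
  have hπb : π (algebraMap B L b) = π (algebraMap B L (algebraMap R[X] B a)) := by
    obtain ⟨c, hc⟩ := Ideal.mem_span_singleton.mp ha
    have : algebraMap B L b - algebraMap B L (algebraMap R[X] B a) =
        algebraMap B L (algebraMap R[X] B i₀.reverse) * algebraMap B L c := by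
      rw [← map_sub, hc, map_mul]
    have h2 := congrArg π this
    rw [map_sub, map_mul, hπG, zero_mul, sub_eq_zero] at h2
    exact h2
  have hπa : π (algebraMap B L (algebraMap R[X] B a)) = π (ψ (aeval w a)) := by
    rw [algebraMap_eq_aeval, ← aeval_algHom_apply, ← htB, ← htL, hπt]
    have : π (ψ w) = (π.comp ψ) w := rfl
    rw [this, aeval_algHom_apply]
    rfl
  refine ⟨aeval w a * X ^ N, ?_⟩
  rw [← Ideal.Quotient.eq]
  show π (ψ (aeval w a * X ^ N)) = π l
  have h1 : π l = π (l * tL ^ N) * π (ψ X ^ N) := by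
    rw [← map_mul, mul_assoc, ← mul_pow, mul_comm tL, hψ, one_pow, mul_one]
  rw [h1, hb, hπb, hπa, ← map_pow, ← map_mul, ← map_mul]

theorem inj_core (i₀ : R[X]) (h0 : i₀.coeff 0 = 1) (hm : ∀ j, 1 ≤ j → i₀.coeff j ∈ 𝔪) (x : R[X])
    (hx : ψ x ∈ Ideal.span {ψ i₀}) : x ∈ Ideal.span {i₀} := by
  obtain ⟨hGm, hGdeg, hGlow⟩ := reverse_facts i₀ h0 hm
  set tB := algebraMap R[X] B X with htB
  set tL := algebraMap B L tB with htL
  let mkQ : R[X] →ₐ[R] (R[X] ⧸ Ideal.span {i₀}) := Ideal.Quotient.mkₐ R (Ideal.span {i₀})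
  have hmk0 : mkQ i₀ = 0 := Ideal.Quotient.eq_zero_iff_mem.mpr (Ideal.mem_span_singleton_self _)
  set sbar := mkQ X with hsbar
  set wbar := mkQ (- i₀.divX) with hwbar
  have hi₀ : i₀ = 1 + X * i₀.divX := by
    conv_lhs => rw [← divX_mul_X_add i₀, h0, map_one]
    ring
  have hsw : sbar * wbar = 1 := by
    have h1 : mkQ (1 + X * i₀.divX) = 0 := by rw [← hi₀]; exact hmk0
    rw [map_add, map_one, map_mul] at h1
    rw [hwbar, map_neg, hsbar]
    linear_combination (-1 : R[X] ⧸ Ideal.span {i₀}) * h1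
  letI : Invertible sbar := ⟨wbar, (mul_comm _ _).trans hsw, hsw⟩
  have hGw : aeval wbar i₀.reverse = 0 := by
    rw [aeval_def]
    have h2 : (⅟sbar : R[X] ⧸ Ideal.span {i₀}) = wbar := rfl
    rw [← h2]
    refine (eval₂_reverse_eq_zero_iff (algebraMap R _) sbar i₀).mpr ?_
    rw [← aeval_def, hsbar, aeval_algHom_apply, aeval_X_left_apply]
    exact hmk0
  let σ : QG i₀.reverse →+* (R[X] ⧸ Ideal.span {i₀}) :=
    Ideal.Quotient.lift (Ideal.span {i₀.reverse})
      (aeval wbar : R[X] →ₐ[R] (R[X] ⧸ Ideal.span {i₀})).toRingHom (by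
        intro p hp
        obtain ⟨c, rfl⟩ := Ideal.mem_span_singleton.mp hp
        show aeval wbar (i₀.reverse * c) = 0
        rw [map_mul, hGw, zero_mul])
  have hσ : ∀ p : R[X], σ (Ideal.Quotient.mk _ p) = aeval wbar p := fun p => rfl
  obtain ⟨θ⟩ := exists_theta i₀.reverse hB hGm hGlow
  let Ξ₀ : B →+* (R[X] ⧸ Ideal.span {i₀}) := σ.comp θ.toRingHom
  have hΞ₀ : ∀ p : R[X], Ξ₀ (algebraMap R[X] B p) = aeval wbar p := by
    intro p
    show σ (θ (algebraMap R[X] B p)) = _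
    rw [AlgHom.commutes, Ideal.Quotient.algebraMap_eq, hσ]
  have hΞ₀t : Ξ₀ tB = wbar := by rw [htB, hΞ₀, aeval_X]
  have hunit : IsUnit (Ξ₀ tB) := by
    rw [hΞ₀t]
    exact ⟨⟨wbar, sbar, (mul_comm _ _).trans hsw, hsw⟩, rfl⟩
  let Ξ : L →+* (R[X] ⧸ Ideal.span {i₀}) := IsLocalization.Away.lift tB hunit
  have hΞ : ∀ b, Ξ (algebraMap B L b) = Ξ₀ b := fun b => IsLocalization.Away.lift_eq tB hunit b
  have hcomp : Ξ.comp ψ.toRingHom = mkQ.toRingHom := by
    apply Polynomial.ringHom_ext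
    · intro r
      show Ξ (ψ (C r)) = mkQ (C r)
      have e1 : ψ (C r) = algebraMap B L (algebraMap R[X] B (C r)) := by
        rw [C_eq_algebraMap, AlgHom.commutes, IsScalarTower.algebraMap_apply R B L,
          IsScalarTower.algebraMap_apply R R[X] B]
      rw [e1, hΞ, hΞ₀, aeval_C, C_eq_algebraMap, AlgHom.commutes]
    · show Ξ (ψ X) = sbar
      have e2 : Ξ (ψ X) * wbar = 1 := by
        rw [← hΞ₀t, ← hΞ, ← map_mul, ← htL, hψ, map_one]
      calc Ξ (ψ X) = Ξ (ψ X) * (wbar * sbar) := by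
            rw [(mul_comm _ _).trans hsw, mul_one]
        _ = sbar := by rw [← mul_assoc, e2, one_mul]
  obtain ⟨l, hl⟩ := Ideal.mem_span_singleton.mp hx
  have h3 : mkQ x = 0 := by
    have := congr($hcomp x)
    change Ξ (ψ x) = mkQ x at this
    rw [← this, hl, map_mul]
    have := congr($hcomp i₀)
    change Ξ (ψ i₀) = mkQ i₀ at this
    rw [this, hmk0, zero_mul]
  exact Ideal.Quotient.eq_zero_iff_mem.mp h3

theorem part1 (I : Ideal R[X]) (hI : I ⊔ (𝔪).map (algebraMap R R[X]) = ⊤) :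
    (I.map ψ.toRingHom).comap ψ.toRingHom = I ∧
      I.map ψ.toRingHom ⊔ (𝔪).map (algebraMap R L) = ⊤ ∧
      Function.Bijective (Ideal.quotientMap (I.map ψ.toRingHom) ψ.toRingHom Ideal.le_comap_map) := by
  -- find i₀
  have h1 : (1 : R[X]) ∈ I ⊔ (𝔪).map (algebraMap R R[X]) := by rw [hI]; trivial
  obtain ⟨i, hiI, μ, hμ, hiμ⟩ := Submodule.mem_sup.mp h1
  have hμ' : ∀ j, μ.coeff j ∈ 𝔪 := by
    have : μ ∈ (𝔪).map (C : R →+* R[X]) := hμ
    exact Ideal.mem_map_C_iff.mp this
  have hi : i = 1 - μ := by rw [← hiμ]; ring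
  have hu : IsUnit (i.coeff 0) := by
    rw [hi, coeff_sub, coeff_one_zero]
    have := hμ' 0
    by_contra hnu
    have h2 : (1 - μ.coeff 0) ∈ 𝔪 := (IsLocalRing.mem_maximalIdeal _).mpr hnu
    have h3 : (1 : R) ∈ 𝔪 := by
      have := add_mem h2 this
      rwa [sub_add_cancel] at this
    exact (Ideal.ne_top_iff_one _).mp (IsLocalRing.maximalIdeal.isMaximal R).ne_top h3
  obtain ⟨u, hu⟩ := hu
  set i₀ : R[X] := C (↑u⁻¹ : R) * i with hi₀
  have hi₀I : i₀ ∈ I := Ideal.mul_mem_left _ _ hiI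
  have h0 : i₀.coeff 0 = 1 := by
    rw [hi₀, coeff_C_mul, ← hu, Units.inv_mul]
  have hm : ∀ j, 1 ≤ j → i₀.coeff j ∈ 𝔪 := by
    intro j hj
    rw [hi₀, coeff_C_mul, hi, coeff_sub, coeff_one, if_neg (by omega), zero_sub]
    exact Ideal.mul_mem_left _ _ (neg_mem (hμ' j))
  have hle : Ideal.span {ψ i₀} ≤ I.map ψ.toRingHom := by
    rw [Ideal.span_singleton_le_iff_mem]
    exact Ideal.mem_map_of_mem ψ.toRingHom hi₀I
  -- key: elements of I.map ψ
  have key : ∀ z, z ∈ I.map ψ.toRingHom → ∃ y ∈ I, z - ψ y ∈ Ideal.span {ψ i₀} := by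
    intro z hz
    unfold Ideal.map at hz
    refine Submodule.span_induction ?_ ?_ ?_ ?_ hz
    · rintro _ ⟨a, ha, rfl⟩
      exact ⟨a, ha, by rw [show (ψ.toRingHom a) = ψ a from rfl, sub_self]; exact zero_mem _⟩
    · exact ⟨0, zero_mem _, by rw [map_zero, sub_self]; exact zero_mem _⟩
    · rintro z₁ z₂ _ _ ⟨y₁, hy₁, h₁⟩ ⟨y₂, hy₂, h₂⟩
      refine ⟨y₁ + y₂, add_mem hy₁ hy₂, ?_⟩
      have : z₁ + z₂ - ψ (y₁ + y₂) = (z₁ - ψ y₁) + (z₂ - ψ y₂) := by rw [map_add]; ring
      rw [this]; exact add_mem h₁ h₂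
    · rintro l z _ ⟨y, hy, h⟩
      obtain ⟨y', hy'⟩ := surj_core ψ hψ hB i₀ h0 hm l
      refine ⟨y' * y, Ideal.mul_mem_left _ _ hy, ?_⟩
      have : l • z - ψ (y' * y) = l * (z - ψ y) - (ψ y' - l) * ψ y := by
        rw [map_mul, smul_eq_mul]; ring
      rw [this]
      exact sub_mem (Ideal.mul_mem_left _ _ h) (Ideal.mul_mem_right _ _ hy')
  have hcomap : (I.map ψ.toRingHom).comap ψ.toRingHom = I := by
    refine le_antisymm ?_ Ideal.le_comap_map
    intro x hx
    rw [Ideal.mem_comap] at hx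
    obtain ⟨y, hy, h⟩ := key _ hx
    have h2 : ψ (x - y) ∈ Ideal.span {ψ i₀} := by rw [map_sub]; exact h
    have h3 := inj_core ψ hψ hB i₀ h0 hm _ h2
    have h4 : x - y ∈ I := ((Ideal.span_singleton_le_iff_mem _).mpr hi₀I) h3
    have : x = (x - y) + y := by ring
    rw [this]; exact add_mem h4 hy
  refine ⟨hcomap, ?_, ?_, ?_⟩
  · rw [Ideal.eq_top_iff_one]
    have h5 : ψ i + ψ μ = 1 := by rw [← map_add, hiμ, map_one]
    rw [← h5]
    refine Submodule.add_mem_sup (Ideal.mem_map_of_mem ψ.toRingHom hiI) ?_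
    have h6 : (𝔪).map (algebraMap R L) = ((𝔪).map (algebraMap R R[X])).map ψ.toRingHom := by
      rw [Ideal.map_map]
      congr 1
      ext r
      exact (ψ.commutes r).symm
    rw [h6]
    exact Ideal.mem_map_of_mem ψ.toRingHom hμ
  · apply Ideal.quotientMap_injective'
    rw [hcomap]
  · intro y
    obtain ⟨l, rfl⟩ := Ideal.Quotient.mk_surjective y
    obtain ⟨x, hx⟩ := surj_core ψ hψ hB i₀ h0 hm l
    refine ⟨Ideal.Quotient.mk I x, ?_⟩
    rw [Ideal.quotientMap_mk, Ideal.Quotient.eq]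
    exact hle hx

end Core

end Groth.Agent.Lead.HLaur
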