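import Mathlib
import Groth.Agent.Helper2.PairHensUniv
import Groth.Agent.Helper2.PairHensProps
import Groth.Agent.Helper3.HensQF
import Groth.Agent.Helper3.HensNonMonic

set_option autoImplicit false
set_option linter.style.haveILetI false
set_option linter.unusedSectionVars false
set_option linter.unusedVariables false

open Polynomial TensorProduct

namespace Groth.Agent.Lead.HLaur

universe u

/-- Over a henselian local base, a quasi-finite point splits off a finite part, hence every element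
is killed by a monic polynomial after mapping to a local ring centred at that point. -/
theorem exists_monic_kill {R : Type u} [CommRing R] [HenselianLocalRing R]
    {S : Type u} [CommRing S] [Algebra R S] [Algebra.FiniteType R S]
    {Hb : Type*} [CommRing Hb] [IsLocalRing Hb] (ρ : S →+* Hb)
    (q : Ideal S) [q.IsPrime] [q.LiesOver (IsLocalRing.maximalIdeal R)]
    [Algebra.QuasiFiniteAt R q]
    (hq : q = Ideal.comap ρ (IsLocalRing.maximalIdeal Hb)) (s : S) :
    ∃ G₀ : R[X], G₀.Monic ∧ ρ (aeval s G₀) = 0 := by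
  obtain ⟨e, he, heq, hfg⟩ := Groth.Agent.Helper3.HensQF.exists_idem_of_qfAt R S q
  haveI := Groth.Agent.Helper3.HensQF.finite_quot_of_fg (R := R) e hfg
  have hρe : ρ e = 1 := by
    have h1 : ρ e ∉ IsLocalRing.maximalIdeal Hb := by
      intro h
      apply heq
      rw [hq]
      exact h
    have h2 : IsUnit (ρ e) := by
      by_contra hnu
      exact h1 ((IsLocalRing.mem_maximalIdeal _).mpr hnu)
    have h3 : ρ e * ρ e = ρ e := by rw [← map_mul, he.eq]
    obtain ⟨u, hu⟩ := h2
    rw [← hu] at h3 ⊢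
    have := congrArg (fun z => (↑u⁻¹ : Hb) * z) h3
    simpa using this
  have hint : IsIntegral R (Ideal.Quotient.mk (Ideal.span ({1 - e} : Set S)) s) :=
    Algebra.IsIntegral.isIntegral _
  obtain ⟨G₀, hmon, hev⟩ := hint
  refine ⟨G₀, hmon, ?_⟩
  have h4 : Ideal.Quotient.mk (Ideal.span ({1 - e} : Set S)) (aeval s G₀) = 0 := by
    have : (Ideal.Quotient.mkₐ R (Ideal.span ({1 - e} : Set S))) (aeval s G₀) =
        aeval (Ideal.Quotient.mkₐ R (Ideal.span ({1 - e} : Set S)) s) G₀ :=
      (aeval_algHom_apply _ _ _).symm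
    rw [Ideal.Quotient.mkₐ_eq_mk] at this
    rw [this, aeval_def]
    exact hev
  obtain ⟨z, hz⟩ := Ideal.mem_span_singleton.mp (Ideal.Quotient.eq_zero_iff_mem.mp h4)
  rw [hz, map_mul, map_sub, map_one, hρe, sub_self, zero_mul]

/-- Quasi-finiteness at a prime of a quotient of a quasi-finite `A`-algebra, over a smaller base `R`,
provided the `R`-fibre through the prime is contained in the `A`-fibre. -/
theorem quasiFiniteAt_quot {R A C : Type u} [CommRing R] [CommRing A] [CommRing C] [Algebra R A]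
    [Algebra A C] [Algebra R C] [IsScalarTower R A C]
    [Algebra.FiniteType A C] [Algebra.QuasiFinite A C] (K : Ideal C)
    [Algebra.FiniteType R (C ⧸ K)]
    (q : Ideal (C ⧸ K)) [hqp : q.IsPrime]
    (hfib : ∀ Q : Ideal (C ⧸ K), Q.IsPrime →
      Q.comap (algebraMap R (C ⧸ K)) = q.comap (algebraMap R (C ⧸ K)) →
      Q.comap (algebraMap A (C ⧸ K)) = q.comap (algebraMap A (C ⧸ K))) :
    Algebra.QuasiFiniteAt R q := by
  let qP : PrimeSpectrum (C ⧸ K) := ⟨q, hqp⟩
  let f : PrimeSpectrum (C ⧸ K) → PrimeSpectrum C := PrimeSpectrum.comap (Ideal.Quotient.mk K)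
  have hf : Continuous f := PrimeSpectrum.continuous_comap _
  have hfinj : Function.Injective f :=
    PrimeSpectrum.comap_injective_of_surjective _ Ideal.Quotient.mk_surjective
  let PA : PrimeSpectrum A := PrimeSpectrum.comap (algebraMap A C) (f qP)
  have hdisc := Algebra.QuasiFinite.isDiscrete_comap_preimage_singleton (R := A) (S := C) PA
  haveI := hdisc.to_subtype
  let x₀ : (PrimeSpectrum.comap (algebraMap A C) ⁻¹' {PA}) := ⟨f qP, rfl⟩
  have hopen : IsOpen ({x₀} : Set (PrimeSpectrum.comap (algebraMap A C) ⁻¹' {PA})) :=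
    isOpen_discrete _
  obtain ⟨U, hU, hUeq⟩ := isOpen_induced_iff.mp hopen
  refine Algebra.QuasiFiniteAt.of_isOpen_singleton_fiber (R := R) qP ?_
  refine isOpen_induced_iff.mpr ⟨f ⁻¹' U, hU.preimage hf, ?_⟩
  ext ⟨Q, hQ⟩
  simp only [Set.mem_preimage, Set.mem_singleton_iff, Subtype.mk.injEq]
  constructor
  · intro hQU
    have hQ' : Q.asIdeal.comap (algebraMap R (C ⧸ K)) = q.comap (algebraMap R (C ⧸ K)) := by
      have := congrArg PrimeSpectrum.asIdeal hQ
      exact this
    have h1 := hfib Q.asIdeal Q.isPrime hQ'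
    have hmem : f Q ∈ PrimeSpectrum.comap (algebraMap A C) ⁻¹' {PA} := by
      rw [Set.mem_preimage, Set.mem_singleton_iff]
      apply PrimeSpectrum.ext
      show (Q.asIdeal.comap (Ideal.Quotient.mk K)).comap (algebraMap A C) =
        (q.comap (Ideal.Quotient.mk K)).comap (algebraMap A C)
      rw [Ideal.comap_comap, Ideal.comap_comap]
      exact h1
    have h2 : (⟨f Q, hmem⟩ : (PrimeSpectrum.comap (algebraMap A C) ⁻¹' {PA})) ∈
        Subtype.val ⁻¹' U := hQU
    rw [hUeq, Set.mem_singleton_iff] at h2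
    exact hfinj (congrArg Subtype.val h2)
  · intro hQq
    subst hQq
    have h3 : x₀ ∈ Subtype.val ⁻¹' U := by rw [hUeq]; rfl
    exact h3


open Groth.Agent.Helper2.PairHens in
theorem exists_refine_of_ι_eq_zero {A : Type u} [CommRing A] {I : Ideal A} {E : Type u} [CommRing E]
    [Algebra A E] [Algebra.Etale A E] (γ : E →ₐ[A] A ⧸ I) (x : E) (hx : Hens.ι γ x = 0) :
    ∃ (D : Type u) (_ : CommRing D) (_ : Algebra A D) (_ : Algebra.Etale A D)
      (δ : D →ₐ[A] A ⧸ I) (φ : E →ₐ[A] D), (∀ c, δ (φ c) = γ c) ∧ φ x = 0 := by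
  obtain ⟨i, e, he⟩ := Idx.exists_equiv E γ
  have h1 := Hens.ι_eq_of γ i e.toAlgHom he x
  rw [hx] at h1
  obtain ⟨j, hij, h2⟩ := Hens.of_eq_zero h1.symm
  obtain ⟨φ₀, hφ₀⟩ := Idx.le_def.mp hij
  rw [Idx.trans_eq_locMap hij φ₀ hφ₀] at h2
  have h3 : algebraMap j.C j.L (φ₀ (e x)) = 0 := by
    have : locMap i.γ j.γ φ₀ hφ₀ (algebraMap i.C i.L (e x)) = algebraMap j.C j.L (φ₀ (e x)) := by
      simp [locMap]
    rw [← this]; exact h2
  obtain ⟨s, hs⟩ := (IsLocalization.map_eq_zero_iff (uSub j.γ) j.L _).mp h3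
  refine ⟨Localization.Away (s : j.C), inferInstance, inferInstance, inferInstance,
    γAway j.γ (s : j.C) s.2,
    (IsScalarTower.toAlgHom A j.C (Localization.Away (s : j.C))).comp (φ₀.comp e.toAlgHom), ?_, ?_⟩
  · intro c
    show γAway j.γ (s : j.C) s.2 (algebraMap j.C _ (φ₀ (e c))) = γ c
    rw [γAway_algebraMap, hφ₀]
    exact he c
  · show algebraMap j.C (Localization.Away (s : j.C)) (φ₀ (e x)) = 0
    rw [IsLocalization.map_eq_zero_iff (Submonoid.powers (s : j.C))]
    exact ⟨⟨s, Submonoid.mem_powers _⟩, hs⟩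

section W

open Groth.Agent.Helper2.PairHens

variable {R : Type u} [CommRing R] [HenselianLocalRing R]

local notation "𝔪" => IsLocalRing.maximalIdeal R
local notation "HH" => Hens (Ideal.span {(X : R[X])})

/-- evaluation at zero on `R[X]/(X)` -/
noncomputable def ev0 : (R[X] ⧸ Ideal.span {(X : R[X])}) →+* R :=
  Ideal.Quotient.lift _ (constantCoeff : R[X] →+* R) (by
    intro a ha
    obtain ⟨c, rfl⟩ := Ideal.mem_span_singleton.mp ha
    simp)

/-- the residue map of `Hens (X)` to `R` -/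
noncomputable def dlt : HH →+* R := ev0.comp (Hens.γ (I := Ideal.span {(X : R[X])})).toRingHom

theorem dlt_algebraMap (p : R[X]) : dlt (algebraMap R[X] HH p) = p.coeff 0 := by
  show ev0 (Hens.γ (algebraMap R[X] HH p)) = _
  rw [Hens.γ_algebraMap]
  show constantCoeff p = _
  rfl

theorem isUnit_iff_dlt (z : HH) : IsUnit z ↔ IsUnit (dlt z) := by
  constructor
  · intro h; exact h.map dlt
  · intro h
    rw [Hens.isUnit_iff]
    obtain ⟨a, ha⟩ := Ideal.Quotient.mk_surjective (Hens.γ z)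
    have h1 : dlt z = a.coeff 0 := by
      show ev0 (Hens.γ z) = _
      rw [← ha]; rfl
    rw [h1] at h
    have h2 : Ideal.Quotient.mk (Ideal.span {(X : R[X])}) a =
        Ideal.Quotient.mk (Ideal.span {(X : R[X])}) (C (a.coeff 0)) := by
      rw [Ideal.Quotient.eq, Ideal.mem_span_singleton]
      refine ⟨a.divX, ?_⟩
      have := divX_mul_X_add a
      linear_combination (-1 : R[X]) * this
    rw [← ha, h2]
    exact h.map ((Ideal.Quotient.mk (Ideal.span {(X : R[X])})).comp C)

instance : Nontrivial HH :=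
  ⟨⟨0, 1, fun h => by
    have := congrArg dlt h
    rw [map_zero, map_one] at this
    exact zero_ne_one this⟩⟩

instance : IsLocalRing HH := by
  refine IsLocalRing.of_nonunits_add ?_
  intro a b ha hb
  rw [mem_nonunits_iff, isUnit_iff_dlt] at *
  rw [map_add]
  exact IsLocalRing.nonunits_add ha hb

theorem mem_max_iff (z : HH) : z ∈ IsLocalRing.maximalIdeal HH ↔ dlt z ∈ 𝔪 := by
  rw [IsLocalRing.mem_maximalIdeal, IsLocalRing.mem_maximalIdeal, mem_nonunits_iff, mem_nonunits_iff,
    isUnit_iff_dlt]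


/-- polynomial in a prime lying over `𝔪` and containing the image of `X` -/
theorem comap_eq_of_X_mem {S : Type u} [CommRing S] [Algebra R S] [Algebra R[X] S]
    [IsScalarTower R R[X] S] (Q : Ideal S) (hQ : Q.comap (algebraMap R S) = 𝔪)
    (hX : algebraMap R[X] S X ∈ Q) (p : R[X]) :
    algebraMap R[X] S p ∈ Q ↔ p.coeff 0 ∈ 𝔪 := by
  have h1 : algebraMap R[X] S p =
      algebraMap R[X] S p.divX * algebraMap R[X] S X + algebraMap R S (p.coeff 0) := by
    conv_lhs => rw [← divX_mul_X_add p]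
    rw [map_add, map_mul, C_eq_algebraMap, ← IsScalarTower.algebraMap_apply]
  rw [h1, ← hQ, Ideal.mem_comap]
  constructor
  · intro h
    have := Ideal.sub_mem _ h (Ideal.mul_mem_left _ (algebraMap R[X] S p.divX) hX)
    rwa [add_sub_cancel_left] at this
  · intro h
    exact Ideal.add_mem _ (Ideal.mul_mem_left _ _ hX) h

theorem weierstrass_hens (M : ℕ) (b : HH)
    (hb : (algebraMap R[X] HH X) ^ M - b ∈
      ((𝔪).map (C : R →+* R[X])).map (algebraMap R[X] HH)) :
    ∃ G : R[X], G.Monic ∧ (∀ j, j < G.natDegree → G.coeff j ∈ 𝔪) ∧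
      algebraMap R[X] HH G ∈ Ideal.span {b} := by
  classical
  by_cases hbu : IsUnit b
  · refine ⟨1, monic_one, ?_, ?_⟩
    · intro j hj; simp at hj
    · rw [Ideal.span_singleton_eq_top.mpr hbu]; trivial
  -- expand `hb`
  rw [Ideal.map_map] at hb
  unfold Ideal.map at hb
  obtain ⟨n, f, g, hsum⟩ := Submodule.mem_span_set'.mp hb
  choose μ hμ hμg using fun i => (g i).2
  obtain ⟨E, _, _, _, γ, hE⟩ := Hens.exists_ι_eq_finset (insert b (Finset.univ.image f))
  obtain ⟨cb, hcb⟩ := hE b (Finset.mem_insert_self _ _)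
  choose cf hcf using fun i => hE (f i)
    (Finset.mem_insert_of_mem (Finset.mem_image_of_mem f (Finset.mem_univ i)))
  have hx : Hens.ι γ ((algebraMap R[X] E X) ^ M - cb -
      ∑ i, cf i * algebraMap R[X] E (C (μ i))) = 0 := by
    simp only [map_sub, map_pow, map_sum, map_mul, AlgHom.commutes, hcb, hcf]
    rw [sub_eq_zero, ← hsum]
    refine Finset.sum_congr rfl fun i _ => ?_
    rw [smul_eq_mul, ← hμg i]
    rfl
  obtain ⟨D, _, _, _, δD, φ, hφ, hφx⟩ := exists_refine_of_ι_eq_zero γ _ hx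
  set c : D := φ cb with hc
  have hιc : Hens.ι δD c = b := by rw [hc, Hens.ι_comp γ δD φ hφ cb, hcb]
  have hrel : (algebraMap R[X] D X) ^ M = c + ∑ i, φ (cf i) * algebraMap R[X] D (C (μ i)) := by
    simp only [map_sub, map_pow, map_sum, map_mul, AlgHom.commutes] at hφx
    rw [sub_sub, sub_eq_zero] at hφx
    exact hφx
  -- algebra structures
  letI : Algebra R D := Algebra.compHom D (C : R →+* R[X])
  haveI : IsScalarTower R R[X] D := IsScalarTower.of_algebraMap_eq (fun r => rfl)
  haveI : Algebra.FiniteType R[X] D := inferInstance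
  haveI : Algebra.FiniteType R D := Algebra.FiniteType.trans (S := R[X]) inferInstance inferInstance
  haveI : Algebra.FiniteType R (D ⧸ Ideal.span {c}) :=
    Algebra.FiniteType.of_surjective (Ideal.Quotient.mkₐ R (Ideal.span {c}))
      Ideal.Quotient.mk_surjective
  haveI : IsScalarTower R R[X] (D ⧸ Ideal.span {c}) := IsScalarTower.of_algebraMap_eq (fun r => rfl)
  -- the local target
  have hbne : Ideal.span {b} ≠ ⊤ := by
    rw [Ne, Ideal.span_singleton_eq_top]; exact hbu
  haveI : Nontrivial (HH ⧸ Ideal.span {b}) := Ideal.Quotient.nontrivial_iff.mpr hbne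
  haveI : IsLocalRing (HH ⧸ Ideal.span {b}) :=
    IsLocalRing.of_surjective' (Ideal.Quotient.mk (Ideal.span {b})) Ideal.Quotient.mk_surjective
  have hmax : ∀ z : HH, Ideal.Quotient.mk (Ideal.span {b}) z ∈
      IsLocalRing.maximalIdeal (HH ⧸ Ideal.span {b}) ↔ dlt z ∈ 𝔪 := by
    intro z
    have h1 : Ideal.comap (Ideal.Quotient.mk (Ideal.span {b}))
        (IsLocalRing.maximalIdeal (HH ⧸ Ideal.span {b})) = IsLocalRing.maximalIdeal HH :=
      IsLocalRing.eq_maximalIdeal
        (Ideal.comap_isMaximal_of_surjective _ Ideal.Quotient.mk_surjective)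
    rw [← mem_max_iff, ← h1, Ideal.mem_comap]
  have hle : Ideal.span {c} ≤ Ideal.comap (Hens.ι δD).toRingHom (Ideal.span {b}) := by
    rw [Ideal.span_singleton_le_iff_mem, Ideal.mem_comap]
    show Hens.ι δD c ∈ _
    rw [hιc]; exact Ideal.mem_span_singleton_self _
  let ρ : (D ⧸ Ideal.span {c}) →+* (HH ⧸ Ideal.span {b}) :=
    Ideal.quotientMap (Ideal.span {b}) (Hens.ι δD).toRingHom hle
  have hρ : ∀ d : D, ρ (Ideal.Quotient.mk _ d) = Ideal.Quotient.mk _ (Hens.ι δD d) := fun d => rfl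
  have hρA : ∀ p : R[X], ρ (algebraMap R[X] (D ⧸ Ideal.span {c}) p) =
      Ideal.Quotient.mk _ (algebraMap R[X] HH p) := by
    intro p
    rw [← Ideal.Quotient.mk_algebraMap, hρ, AlgHom.commutes]
  set q : Ideal (D ⧸ Ideal.span {c}) :=
    Ideal.comap ρ (IsLocalRing.maximalIdeal (HH ⧸ Ideal.span {b})) with hq
  haveI hqp : q.IsPrime := Ideal.comap_isPrime ρ _
  have hqA : ∀ p : R[X], algebraMap R[X] (D ⧸ Ideal.span {c}) p ∈ q ↔ p.coeff 0 ∈ 𝔪 := by
    intro p
    rw [hq, Ideal.mem_comap, hρA, hmax, dlt_algebraMap]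
  have hqR : q.comap (algebraMap R (D ⧸ Ideal.span {c})) = 𝔪 := by
    ext r
    rw [Ideal.mem_comap, IsScalarTower.algebraMap_apply R R[X] (D ⧸ Ideal.span {c}), hqA,
      ← C_eq_algebraMap, coeff_C_zero]
  haveI : q.LiesOver 𝔪 := ⟨hqR.symm⟩
  -- relation in the quotient
  have hXpow : ∀ Q : Ideal (D ⧸ Ideal.span {c}), Q.IsPrime →
      Q.comap (algebraMap R (D ⧸ Ideal.span {c})) = 𝔪 →
      algebraMap R[X] (D ⧸ Ideal.span {c}) X ∈ Q := by
    intro Q hQp hQ
    refine hQp.mem_of_pow_mem M ?_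
    have h1 : (algebraMap R[X] (D ⧸ Ideal.span {c}) X) ^ M =
        ∑ i, Ideal.Quotient.mk (Ideal.span {c}) (φ (cf i)) *
          algebraMap R (D ⧸ Ideal.span {c}) (μ i) := by
      rw [← Ideal.Quotient.mk_algebraMap, ← map_pow, hrel, map_add,
        Ideal.Quotient.eq_zero_iff_mem.mpr (Ideal.mem_span_singleton_self c), zero_add, map_sum]
      refine Finset.sum_congr rfl fun i _ => ?_
      rw [map_mul]
      rfl
    rw [h1]
    refine Ideal.sum_mem _ fun i _ => Ideal.mul_mem_left _ _ ?_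
    have : μ i ∈ Q.comap (algebraMap R (D ⧸ Ideal.span {c})) := by rw [hQ]; exact hμ i
    exact this
  haveI : Algebra.QuasiFiniteAt R q := by
    refine quasiFiniteAt_quot (R := R) (A := R[X]) (C := D) (Ideal.span {c}) q ?_
    intro Q hQp hQ
    rw [hqR] at hQ
    ext p
    rw [Ideal.mem_comap, Ideal.mem_comap,
      comap_eq_of_X_mem Q hQ (hXpow Q hQp hQ), comap_eq_of_X_mem q hqR (hXpow q hqp hqR)]
  obtain ⟨G₀, hG₀m, hG₀⟩ := exists_monic_kill (R := R) ρ q rfl (algebraMap R[X] (D ⧸ Ideal.span {c}) X)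
  have hG₀b : algebraMap R[X] HH G₀ ∈ Ideal.span {b} := by
    have h1 : aeval (algebraMap R[X] (D ⧸ Ideal.span {c}) X) G₀ =
        algebraMap R[X] (D ⧸ Ideal.span {c}) G₀ := by
      have : (IsScalarTower.toAlgHom R R[X] (D ⧸ Ideal.span {c})) =
          aeval (algebraMap R[X] (D ⧸ Ideal.span {c}) X) := by
        apply Polynomial.algHom_ext
        simp
      exact congr($this G₀).symm
    rw [h1, hρA] at hG₀
    exact Ideal.Quotient.eq_zero_iff_mem.mp hG₀
  -- factor `G₀` with the non-monic Hensel lemma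
  set res := IsLocalRing.residue R with hres
  have hne : G₀.map res ≠ 0 := (hG₀m.map res).ne_zero
  obtain ⟨ubar, hfac, hndvd⟩ :=
    Polynomial.exists_eq_pow_rootMultiplicity_mul_and_not_dvd (G₀.map res) hne 0
  rw [C_0, sub_zero] at hfac hndvd
  set N := (G₀.map res).rootMultiplicity 0 with hN
  have hcop : IsCoprime ((X : (IsLocalRing.ResidueField R)[X]) ^ N) ubar :=
    IsCoprime.pow_left ((Polynomial.irreducible_X).coprime_iff_not_dvd.mpr hndvd)
  obtain ⟨G, h, hGh, hGm, hGmap, hhmap⟩ :=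
    Groth.Agent.Helper3.HensNonMonic.main R G₀ (X ^ N) ubar (monic_X_pow N) hcop hfac
  have hGdeg : G.natDegree = N := by
    rw [← hGm.natDegree_map res, hGmap, natDegree_X_pow]
  refine ⟨G, hGm, ?_, ?_⟩
  · intro j hj
    rw [hGdeg] at hj
    have : (G.map res).coeff j = 0 := by rw [hGmap, coeff_X_pow, if_neg hj.ne]
    rw [coeff_map] at this
    exact (IsLocalRing.residue_eq_zero_iff _).mp this
  · -- `h` is a unit in `HH`
    have hu : IsUnit (algebraMap R[X] HH h) := by
      rw [isUnit_iff_dlt, dlt_algebraMap]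
      have h1 : ubar.coeff 0 ≠ 0 := by
        intro h0
        exact hndvd (X_dvd_iff.mpr h0)
      have h2 : res (h.coeff 0) ≠ 0 := by
        rw [← coeff_map, hhmap]; exact h1
      by_contra hnu
      exact h2 ((IsLocalRing.residue_eq_zero_iff _).mpr ((IsLocalRing.mem_maximalIdeal _).mpr hnu))
    obtain ⟨u, hu⟩ := hu
    have h3 : algebraMap R[X] HH G = algebraMap R[X] HH G₀ * ↑u⁻¹ := by
      rw [hGh, map_mul, ← hu, mul_assoc, Units.mul_inv, mul_one]
    rw [h3]
    exact Ideal.mul_mem_right _ _ hG₀b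

end W

end Groth.Agent.Lead.HLaur
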