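import Mathlib
import Groth.Agent.Lead.HLaurA
import Groth.Agent.Lead.HLaurB

set_option autoImplicit false
set_option linter.style.haveILetI false
set_option linter.unusedSectionVars false
set_option linter.unusedVariables false

open Polynomial TensorProduct

namespace Groth.Agent.Lead.HLaur

universe u

section Final

open Groth.Agent.Helper2.PairHens

variable {R : Type u} [CommRing R] [HenselianLocalRing R]

local notation "𝔪" => IsLocalRing.maximalIdeal R

variable {B : Type u} [CommRing B] [Algebra R B] [Algebra R[X] B] [IsScalarTower R R[X] B]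

theorem weierstrass (hB : Hens2.IsPairHenselization R[X] (Ideal.span {(X : R[X])}) B)
    (M : ℕ) (b : B)
    (hb : (algebraMap R[X] B X) ^ M - b ∈ ((𝔪).map (C : R →+* R[X])).map (algebraMap R[X] B)) :
    ∃ G : R[X], G.Monic ∧ (∀ j, j < G.natDegree → G.coeff j ∈ 𝔪) ∧
      algebraMap R[X] B G ∈ Ideal.span {b} := by
  obtain ⟨e⟩ := Groth.Agent.Helper2.PairHens.exists_algEquiv hB
  have h1 : e.symm ((algebraMap R[X] B X) ^ M - b) ∈
      ((𝔪).map (C : R →+* R[X])).map (algebraMap R[X] (Hens (Ideal.span {(X : R[X])}))) := by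
    have h2 := Ideal.mem_map_of_mem (e.symm : B →+* Hens (Ideal.span {(X : R[X])})) hb
    rw [Ideal.map_map] at h2
    have h3 : ((e.symm : B →+* Hens (Ideal.span {(X : R[X])})).comp (algebraMap R[X] B)) =
        algebraMap R[X] (Hens (Ideal.span {(X : R[X])})) := by
      ext p
      · simp
      · simp
    rw [h3] at h2
    exact h2
  rw [map_sub, map_pow, AlgEquiv.commutes] at h1
  obtain ⟨G, hGm, hGlow, hG⟩ := weierstrass_hens M (e.symm b) h1
  refine ⟨G, hGm, hGlow, ?_⟩
  obtain ⟨z, hz⟩ := Ideal.mem_span_singleton.mp hG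
  rw [Ideal.mem_span_singleton]
  refine ⟨e z, ?_⟩
  have := congrArg e hz
  rw [AlgEquiv.commutes, map_mul, AlgEquiv.apply_symm_apply] at this
  exact this

variable {L : Type u} [CommRing L] [Algebra B L] [Algebra R L] [IsScalarTower R B L]
  [IsLocalization.Away (algebraMap R[X] B X) L]
variable (ψ : R[X] →ₐ[R] L)
variable (hψ : ψ X * algebraMap B L (algebraMap R[X] B X) = 1)
variable (hB : Hens2.IsPairHenselization R[X] (Ideal.span {(X : R[X])}) B)
include hψ hB

theorem part2 (J : Ideal L) (hJ : J ⊔ (𝔪).map (algebraMap R L) = ⊤) :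
    (J.comap ψ.toRingHom).map ψ.toRingHom = J ∧
      J.comap ψ.toRingHom ⊔ (𝔪).map (algebraMap R R[X]) = ⊤ := by
  set tB := algebraMap R[X] B X with htB
  set tL := algebraMap B L tB with htL
  have hψ' : tL * ψ X = 1 := (mul_comm _ _).trans hψ
  -- Step A
  have h1 : (1 : L) ∈ J ⊔ (𝔪).map (algebraMap R L) := by rw [hJ]; trivial
  obtain ⟨j, hjJ, ν, hν, hjν⟩ := Submodule.mem_sup.mp h1
  have hmL : (𝔪).map (algebraMap R L) =
      (((𝔪).map (C : R →+* R[X])).map (algebraMap R[X] B)).map (algebraMap B L) := by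
    rw [Ideal.map_map, Ideal.map_map]
    congr 1
    ext r
    simp only [RingHom.comp_apply]
    rw [IsScalarTower.algebraMap_apply R B L, IsScalarTower.algebraMap_apply R R[X] B,
      C_eq_algebraMap]
  rw [hmL] at hν
  obtain ⟨⟨⟨y, hy⟩, ⟨s, M, rfl⟩⟩, hys⟩ :=
    (IsLocalization.mem_map_algebraMap_iff (Submonoid.powers tB) L).mp hν
  simp only at hys
  set b : B := tB ^ M - y with hb
  have hbJ : algebraMap B L b ∈ J := by
    have : algebraMap B L b = j * tL ^ M := by
      rw [hb, map_sub, map_pow, ← hys, ← htL, map_pow, ← htL]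
      have : j = 1 - ν := by rw [← hjν]; ring
      rw [this]; ring
    rw [this]
    exact Ideal.mul_mem_right _ _ hjJ
  have hby : tB ^ M - b ∈ ((𝔪).map (C : R →+* R[X])).map (algebraMap R[X] B) := by
    rw [hb, sub_sub_cancel]; exact hy
  -- Step B
  obtain ⟨G, hGm, hGlow, hG⟩ := weierstrass hB M b hby
  -- Step C
  set i₀ : R[X] := G.reverse with hi₀
  have h0 : i₀.coeff 0 = 1 := by rw [hi₀, coeff_zero_reverse, hGm.leadingCoeff]
  have hm : ∀ j, 1 ≤ j → i₀.coeff j ∈ 𝔪 := by
    intro j hj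
    rw [hi₀, coeff_reverse]
    rcases le_or_gt j G.natDegree with hle | hlt
    · rw [revAt_le hle]
      exact hGlow _ (by omega)
    · rw [revAt_eq_self_of_lt hlt, coeff_eq_zero_of_natDegree_lt hlt]
      exact zero_mem _
  have hψi₀ : ψ i₀ ∈ J := by
    letI : Invertible tL := ⟨ψ X, hψ, hψ'⟩
    have h := eval₂_reverse_mul_pow (algebraMap R L) tL G
    have h2 : (⅟tL : L) = ψ X := rfl
    rw [h2, ← aeval_def, ← aeval_def, ← psi_eq_aeval, ← hi₀] at h
    have h3 : aeval tL G = algebraMap B L (algebraMap R[X] B G) := (algebraMap_eq_aeval G).symm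
    have h4 : aeval tL G ∈ J := by
      rw [h3]
      obtain ⟨z, hz⟩ := Ideal.mem_span_singleton.mp hG
      rw [hz, map_mul]
      exact Ideal.mul_mem_right _ _ hbJ
    have h5 : ψ i₀ = aeval tL G * (ψ X) ^ G.natDegree := by
      rw [← h, mul_assoc, ← mul_pow, hψ', one_pow, mul_one]
    rw [h5]
    exact Ideal.mul_mem_right _ _ h4
  have hi₀I : i₀ ∈ J.comap ψ.toRingHom := hψi₀
  refine ⟨?_, ?_⟩
  · refine le_antisymm Ideal.map_comap_le ?_
    intro l hl
    obtain ⟨x, hx⟩ := surj_core ψ hψ hB i₀ h0 hm l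
    have hsp : Ideal.span {ψ i₀} ≤ J := (Ideal.span_singleton_le_iff_mem _).mpr hψi₀
    have hxJ : ψ x ∈ J := by
      have : ψ x = (ψ x - l) + l := by ring
      rw [this]; exact add_mem (hsp hx) hl
    have hxI : x ∈ J.comap ψ.toRingHom := hxJ
    have h6 : l = ψ x - (ψ x - l) := by ring
    rw [h6]
    refine sub_mem (Ideal.mem_map_of_mem ψ.toRingHom hxI) ?_
    have hsp2 : Ideal.span {ψ i₀} ≤ (J.comap ψ.toRingHom).map ψ.toRingHom :=
      (Ideal.span_singleton_le_iff_mem _).mpr (Ideal.mem_map_of_mem ψ.toRingHom hi₀I)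
    exact hsp2 hx
  · rw [Ideal.eq_top_iff_one]
    have h7 : (1 : R[X]) = i₀ + (1 - i₀) := by ring
    rw [h7]
    refine Submodule.add_mem_sup hi₀I ?_
    show (1 - i₀) ∈ (𝔪).map (C : R →+* R[X])
    rw [Ideal.mem_map_C_iff]
    intro j
    rw [coeff_sub]
    rcases Nat.eq_zero_or_pos j with hj | hj
    · subst hj
      rw [coeff_one_zero, h0, sub_self]; exact zero_mem _
    · rw [coeff_one, if_neg (by omega), zero_sub]
      exact neg_mem (hm j hj)

end Final

end Groth.Agent.Lead.HLaur
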