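import Groth.Agent.S18285
import Groth.Prelude.Def_HMNum
import Mathlib

/-!
# Lead: limits under one-parameter subgroups (HMNum): uniqueness, fixedness, constant extensions
-/

set_option autoImplicit false
universe u
open CategoryTheory CategoryTheory.Limits MonoidalCategory CartesianMonoidalCategory MonObj GrpObj
  AlgebraicGeometry Opposite

namespace Groth.Agent.Lead.HMLim

noncomputable section

variable {S : Scheme.{u}}

/-- an object of `Over S` whose structure morphism is an iso has at most one point -/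
theorem subsingleton_hom_of_isIso (A T : Over S) [IsIso A.hom] : Subsingleton (T ⟶ A) := by
  refine ⟨fun p q => ?_⟩
  apply Over.OverMorphism.ext
  rw [← cancel_mono A.hom, Over.w p, Over.w q]

theorem bijective_algebraMap (R : Type u) [CommRing R] (M : Type) [Monoid M] [Subsingleton M] :
    Function.Bijective (algebraMap R (MonoidAlgebra R M)) := by
  have h : ⇑(algebraMap R (MonoidAlgebra R M)) =
      ⇑(MonoidAlgebra.uniqueAlgEquiv R M (A := R)).symm := by
    funext r
    exact ((MonoidAlgebra.uniqueAlgEquiv R M (A := R)).symm.commutes r).symm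
  rw [h]
  exact (MonoidAlgebra.uniqueAlgEquiv R M (A := R)).symm.bijective

instance : Subsingleton (Multiplicative ↥(⊥ : AddSubmonoid ℤ)) :=
  ⟨fun a b => by
    have ha := AddSubmonoid.mem_bot.mp (Multiplicative.toAdd a).2
    have hb := AddSubmonoid.mem_bot.mp (Multiplicative.toAdd b).2
    apply Multiplicative.toAdd.injective
    exact Subtype.ext (ha.trans hb.symm)⟩

instance isIso_amon_bot (R : Type u) [CommRing R] :
    IsIso (Magnet.AMon R ↥(⊥ : AddSubmonoid ℤ)).hom := by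
  have h1 : IsIso (CommRingCat.ofHom
      (algebraMap R (MonoidAlgebra R (Multiplicative ↥(⊥ : AddSubmonoid ℤ))))) :=
    (ConcreteCategory.isIso_iff_bijective _).mpr (bijective_algebraMap R _)
  show IsIso (Spec.map (CommRingCat.ofHom
      (algebraMap R (MonoidAlgebra R (Multiplicative ↥(⊥ : AddSubmonoid ℤ))))))
  infer_instance

instance isIso_amons_bot (S : Scheme.{u}) :
    IsIso (Magnet.AMonS S ↥(⊥ : AddSubmonoid ℤ)).hom := by
  show IsIso (pullback.snd (Magnet.AMon (ULift.{u} ℤ) ↥(⊥ : AddSubmonoid ℤ)).hom _)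
  infer_instance

instance (T : Over S) : Subsingleton (T ⟶ Magnet.AMonS S ↥(⊥ : AddSubmonoid ℤ)) :=
  subsingleton_hom_of_isIso _ T

variable {G X : Over S} [GrpObj G] (a : AlgGrp.Action G X) (l : Red.Gm S ⟶ G) [IsMonHom l]

/-- the limit point of a point of the attractor is fixed -/
theorem isFixedBy_limitPt {T : Over S} (φ : (HMNum.attrPlus a l).obj (op T)) :
    HMNum.IsFixedBy a l (HMNum.limitPt φ) := by
  rw [HMNum.isFixedBy_iff]
  intro T' t g
  set ψ := (Magnet.attrFace (HMNum.gmAct a l) HMNum.isFace_bot).app (op T) φ with hψ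
  have hmem := (Magnet.MonAct.mem_eqvHom_iff ψ.1).mp ψ.2 T' g
    (1 : T' ⟶ Magnet.AMonS S ↥(⊥ : AddSubmonoid ℤ)) t
  have h1 : lift g (1 : T' ⟶ Magnet.AMonS S ↥(⊥ : AddSubmonoid ℤ)) ≫
      (Magnet.subAct S ℤ (⊥ : AddSubmonoid ℤ)).act = 1 := Subsingleton.elim _ _
  have h2 : lift (1 : T' ⟶ Magnet.AMonS S ↥(⊥ : AddSubmonoid ℤ)) t ≫ ψ.1 =
      t ≫ HMNum.limitPt φ := by
    change _ = t ≫ (lift (toUnit T ≫ η[Magnet.AMonS S ↥(⊥ : AddSubmonoid ℤ)]) (𝟙 T) ≫ ψ.1)
    rw [← Category.assoc, comp_lift, Category.comp_id, ← Category.assoc,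
      toUnit_unique (t ≫ toUnit T) (toUnit T'), ← Hom.one_def]
  rw [h1, h2] at hmem
  exact hmem.symm

/-- the constant extension of a fixed point -/
def constPt {T : Over S} (y : T ⟶ X) (hy : HMNum.IsFixedBy a l y) :
    (HMNum.attrPlus a l).obj (op T) :=
  ⟨snd _ T ≫ y, by
    rw [Magnet.MonAct.mem_eqvHom_iff]
    intro T' g b t
    rw [lift_snd_assoc, lift_snd_assoc]
    exact (((HMNum.isFixedBy_iff a l y).mp hy) T' t g).symm⟩

theorem attrToX_constPt {T : Over S} (y : T ⟶ X) (hy : HMNum.IsFixedBy a l y) :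
    (Magnet.attrToX (HMNum.gmAct a l) HMNum.plus).app (op T) (constPt a l y hy) = y := by
  change lift _ (𝟙 T) ≫ snd _ T ≫ y = y
  rw [lift_snd_assoc, Category.id_comp]

theorem limitPt_constPt {T : Over S} (y : T ⟶ X) (hy : HMNum.IsFixedBy a l y) :
    HMNum.limitPt (constPt a l y hy) = y := by
  rw [HMNum.limitPt_eq]
  change lift _ (𝟙 T) ≫ snd _ T ≫ y = y
  rw [lift_snd_assoc, Category.id_comp]

theorem isLimitPt_self {T : Over S} (y : T ⟶ X) (hy : HMNum.IsFixedBy a l y) :
    HMNum.IsLimitPt a l y y :=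
  ⟨constPt a l y hy, attrToX_constPt a l y hy, limitPt_constPt a l y hy⟩

theorem isFixedBy_of_isLimitPt {T : Over S} {x y : T ⟶ X} (h : HMNum.IsLimitPt a l x y) :
    HMNum.IsFixedBy a l y := by
  obtain ⟨φ, -, rfl⟩ := h
  exact isFixedBy_limitPt a l φ

/-- uniqueness of limits for `X` separated -/
theorem isLimitPt_unique [IsSeparated X.hom] {T : Over S} {x y y' : T ⟶ X}
    (h : HMNum.IsLimitPt a l x y) (h' : HMNum.IsLimitPt a l x y') : y = y' := by
  obtain ⟨φ, hφ, rfl⟩ := h
  obtain ⟨φ', hφ', rfl⟩ := h'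
  have : φ = φ' :=
    Groth.Agent.S18285.result S ℤ X (HMNum.gmAct a l) HMNum.plus T (hφ.trans hφ'.symm)
  rw [this]

theorem isMuOf_iff_of_isLimitPt [IsSeparated X.hom] {V : Over S} (π : V ⟶ X)
    (chart : ∀ U : X.left.Opens, Set (Γ(V.left, π.left ⁻¹ᵁ U))) (Φ : AlgGrp.Action G V)
    {T : Over S} {x y : T ⟶ X} (hy : HMNum.IsLimitPt a l x y) (m : ℤ) :
    HMNum.IsMuOf a π chart Φ l x m ↔ HMNum.IsMuOf a π chart Φ l y m := by
  have hfix := isFixedBy_of_isLimitPt a l hy
  constructor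
  · rintro ⟨y', hy', hw⟩
    obtain rfl := isLimitPt_unique a l hy hy'
    exact ⟨y, isLimitPt_self a l y hfix, hw⟩
  · rintro ⟨y', hy', hw⟩
    obtain rfl := isLimitPt_unique a l (isLimitPt_self a l y hfix) hy'
    exact ⟨y, hy, hw⟩

end

end Groth.Agent.Lead.HMLim
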