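import Groth.Agent.Lead.HMLimA
import Groth.Prelude.Def_ChGrp
import Mathlib

/-!
# Lead: conjugation invariance of the numerical function (HMNum)
-/

set_option autoImplicit false
universe u
open CategoryTheory CategoryTheory.Limits MonoidalCategory CartesianMonoidalCategory MonObj GrpObj
  AlgebraicGeometry Opposite

namespace Groth.Agent.Lead.HMLim

noncomputable section

variable {S : Scheme.{u}}

theorem appLE_comp_apply {X Y Z : Scheme.{u}} (f : X ⟶ Y) (g : Y ⟶ Z) (U : Z.Opens) (V : Y.Opens)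
    (W : X.Opens) (e₁ : V ≤ g ⁻¹ᵁ U) (e₂ : W ≤ f ⁻¹ᵁ V) (e₃ : W ≤ (f ≫ g) ⁻¹ᵁ U) (s : Γ(Z, U)) :
    (f ≫ g).appLE U W e₃ s = f.appLE V W e₂ (g.appLE U V e₁ s) := by
  rw [← Scheme.Hom.appLE_comp_appLE f g U V W e₁ e₂]; rfl

theorem appLE_eq_of_eq {X Y : Scheme.{u}} {f g : X ⟶ Y} (h : f = g) (U : Y.Opens) (V : X.Opens)
    (e : V ≤ f ⁻¹ᵁ U) (e' : V ≤ g ⁻¹ᵁ U) (s : Γ(Y, U)) : f.appLE U V e s = g.appLE U V e' s := by
  subst h; rfl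

variable {G X V : Over S} [GrpObj G] (a : AlgGrp.Action G X)

theorem evalFn_congr (π : V ⟶ X) {U : X.left.Opens} (y : Γ(V.left, π.left ⁻¹ᵁ U)) {T' : Over S}
    {v₁ v₂ : T' ⟶ V} (h : v₁ = v₂) (h₁ : ⊤ ≤ v₁.left ⁻¹ᵁ (π.left ⁻¹ᵁ U))
    (h₂ : ⊤ ≤ v₂.left ⁻¹ᵁ (π.left ⁻¹ᵁ U)) :
    HMNum.evalFn π y v₁ h₁ = HMNum.evalFn π y v₂ h₂ := by
  subst h; rfl

section Conj

variable (g₀ : 𝟙_ (Over S) ⟶ G) (l l' : Red.Gm S ⟶ G)
  (hl' : l' = (toUnit _ ≫ g₀)⁻¹ * l * (toUnit _ ≫ g₀))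
include hl'

omit a in
theorem conj_pt {T' : Over S} (u : T' ⟶ Red.Gm S) :
    (toUnit T' ≫ g₀) * (u ≫ l') = (u ≫ l) * (toUnit T' ≫ g₀) := by
  have h1 : u ≫ toUnit (Red.Gm S) ≫ g₀ = toUnit T' ≫ g₀ := by
    rw [← Category.assoc, toUnit_unique (u ≫ toUnit _) (toUnit T')]
  rw [hl', MonObj.comp_mul, MonObj.comp_mul, GrpObj.comp_inv, h1]
  group

variable [IsMonHom l] [IsMonHom l']

/-- translating an `l'`-equivariant extension by `g₀` gives an `l`-equivariant extension -/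
def translPt {T : Over S} (φ' : (HMNum.attrPlus a l').obj (op T)) :
    (HMNum.attrPlus a l).obj (op T) :=
  ⟨lift (toUnit _ ≫ g₀) φ'.1 ≫ a.act, by
    rw [Magnet.MonAct.mem_eqvHom_iff]
    intro T' u b t
    have h := (Magnet.MonAct.mem_eqvHom_iff φ'.1).mp φ'.2 T' u b t
    have e1 : ∀ (z : T' ⟶ HMNum.A1 S ⊗ T), z ≫ lift (toUnit _ ≫ g₀) φ'.1 ≫ a.act =
        lift (toUnit T' ≫ g₀) (z ≫ φ'.1) ≫ a.act := by
      intro z
      rw [← Category.assoc, comp_lift, ← Category.assoc, toUnit_unique (z ≫ toUnit _) (toUnit T')]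
    rw [e1, e1, h]
    simp only [HMNum.gmAct, Magnet.MonAct.lift_restrict_act, Magnet.MonAct.ofAction_act]
    rw [← AlgGrp.Action.lift_mul_act, ← AlgGrp.Action.lift_mul_act, conj_pt g₀ l l' hl']⟩

theorem isLimitPt_transl {T : Over S} {x y : T ⟶ X} (h : HMNum.IsLimitPt a l' x y) :
    HMNum.IsLimitPt a l (lift (toUnit T ≫ g₀) x ≫ a.act) (lift (toUnit T ≫ g₀) y ≫ a.act) := by
  obtain ⟨φ', rfl, rfl⟩ := h
  refine ⟨translPt a g₀ l l' hl' φ', ?_, ?_⟩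
  · change lift _ (𝟙 T) ≫ lift (toUnit _ ≫ g₀) φ'.1 ≫ a.act = _
    rw [← Category.assoc, comp_lift, ← Category.assoc,
      toUnit_unique (lift _ (𝟙 T) ≫ toUnit _) (toUnit T)]
    rfl
  · rw [HMNum.limitPt_eq, HMNum.limitPt_eq]
    change lift _ (𝟙 T) ≫ lift (toUnit _ ≫ g₀) φ'.1 ≫ a.act = _
    rw [← Category.assoc, comp_lift, ← Category.assoc,
      toUnit_unique (lift _ (𝟙 T) ≫ toUnit _) (toUnit T)]

omit [IsMonHom l] [IsMonHom l'] in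
theorem isFixedBy_transl {T : Over S} {y : T ⟶ X} (h : HMNum.IsFixedBy a l' y) :
    HMNum.IsFixedBy a l (lift (toUnit T ≫ g₀) y ≫ a.act) := by
  intro T' t u
  have e1 : t ≫ lift (toUnit T ≫ g₀) y ≫ a.act = lift (toUnit T' ≫ g₀) (t ≫ y) ≫ a.act := by
    rw [← Category.assoc, comp_lift, ← Category.assoc, toUnit_unique (t ≫ toUnit T) (toUnit T')]
  rw [e1, ← AlgGrp.Action.lift_mul_act, ← conj_pt g₀ l l' hl', AlgGrp.Action.lift_mul_act, h T' t u]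

end Conj

section Weight

variable (π : V ⟶ X) (Φ : AlgGrp.Action G V) (hπ : Φ.act ≫ π = (G ◁ π) ≫ a.act)

include hπ in
theorem evalFn_act {U U' : X.left.Opens} {y : Γ(V.left, π.left ⁻¹ᵁ U)}
    {y'' : Γ(V.left, π.left ⁻¹ᵁ U')}
    (c₀ : Γ((G ⊗ X).left, a.act.left ⁻¹ᵁ U' ⊓ (snd G X).left ⁻¹ᵁ U))
    (hc₀ : Φ.act.left.appLE (π.left ⁻¹ᵁ U') (GLinSh.liftOpen a π U U')
        (GLinSh.liftOpen_le_act a π Φ hπ) y'' =
      (G ◁ π).left.appLE _ (GLinSh.liftOpen a π U U') (GLinSh.liftOpen_le_base a π) c₀ *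
        (snd G V).left.appLE (π.left ⁻¹ᵁ U) (GLinSh.liftOpen a π U U')
          (GLinSh.liftOpen_le_snd a π) y)
    {T' : Over S} (c : T' ⟶ G) (v : T' ⟶ V) (p : T' ⟶ X) (hp : v ≫ π = p)
    (h1 : ⊤ ≤ v.left ⁻¹ᵁ (π.left ⁻¹ᵁ U))
    (h2 : ⊤ ≤ (lift c v ≫ Φ.act).left ⁻¹ᵁ (π.left ⁻¹ᵁ U'))
    (h3 : ⊤ ≤ (lift c p).left ⁻¹ᵁ (a.act.left ⁻¹ᵁ U' ⊓ (snd G X).left ⁻¹ᵁ U)) :
    HMNum.evalFn π y'' (lift c v ≫ Φ.act) h2 =
      (lift c p).left.appLE _ ⊤ h3 c₀ * HMNum.evalFn π y v h1 := by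
  subst hp
  have e0 : lift c v ≫ (G ◁ π) = lift c (v ≫ π) := lift_whiskerLeft _ _ _
  have h4 : ⊤ ≤ (lift c v).left ⁻¹ᵁ GLinSh.liftOpen a π U U' := by
    have : (lift c v).left ⁻¹ᵁ GLinSh.liftOpen a π U U' =
        (lift c v ≫ (G ◁ π)).left ⁻¹ᵁ (a.act.left ⁻¹ᵁ U' ⊓ (snd G X).left ⁻¹ᵁ U) := rfl
    rw [this, e0]; exact h3
  have key := congrArg (fun s => (lift c v).left.appLE (GLinSh.liftOpen a π U U') ⊤ h4 s) hc₀
  simp only [map_mul] at key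
  have t1 : (lift c v).left.appLE (GLinSh.liftOpen a π U U') ⊤ h4
      (Φ.act.left.appLE (π.left ⁻¹ᵁ U') (GLinSh.liftOpen a π U U')
        (GLinSh.liftOpen_le_act a π Φ hπ) y'') = HMNum.evalFn π y'' (lift c v ≫ Φ.act) h2 :=
    (appLE_comp_apply (lift c v).left Φ.act.left _ _ _ _ _ h2 y'').symm
  have t2 : (lift c v).left.appLE (GLinSh.liftOpen a π U U') ⊤ h4
      ((G ◁ π).left.appLE _ (GLinSh.liftOpen a π U U') (GLinSh.liftOpen_le_base a π) c₀) =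
      (lift c (v ≫ π)).left.appLE _ ⊤ h3 c₀ := by
    have h3' : ⊤ ≤ ((lift c v).left ≫ (G ◁ π).left) ⁻¹ᵁ
        (a.act.left ⁻¹ᵁ U' ⊓ (snd G X).left ⁻¹ᵁ U) := by
      have : (lift c v).left ≫ (G ◁ π).left = (lift c (v ≫ π)).left := by
        rw [← Over.comp_left, e0]
      rw [this]; exact h3
    rw [← appLE_comp_apply (lift c v).left (G ◁ π).left _ _ _ _ _ h3' c₀]
    exact appLE_eq_of_eq (by rw [← Over.comp_left, e0]) _ _ _ _ _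
  have t3 : (lift c v).left.appLE (GLinSh.liftOpen a π U U') ⊤ h4
      ((snd G V).left.appLE (π.left ⁻¹ᵁ U) (GLinSh.liftOpen a π U U')
        (GLinSh.liftOpen_le_snd a π) y) = HMNum.evalFn π y v h1 := by
    have h1' : ⊤ ≤ ((lift c v).left ≫ (snd G V).left) ⁻¹ᵁ (π.left ⁻¹ᵁ U) := by
      have : (lift c v).left ≫ (snd G V).left = v.left := by
        rw [← Over.comp_left, lift_snd]
      rw [this]; exact h1
    rw [← appLE_comp_apply (lift c v).left (snd G V).left _ _ _ _ _ h1' y]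
    exact appLE_eq_of_eq (by rw [← Over.comp_left, lift_snd]) _ _ _ _ _
  rw [t1, t2, t3] at key
  exact key

end Weight

section Transfer

variable (π : V ⟶ X) (chart : ∀ U : X.left.Opens, Set (Γ(V.left, π.left ⁻¹ᵁ U)))
  (Φ : AlgGrp.Action G V) (hπ : Φ.act ≫ π = (G ◁ π) ≫ a.act)
  (hlin : GLinSh.IsLinearLift a π Φ chart hπ)
  (g₀ : 𝟙_ (Over S) ⟶ G) (l l' : Red.Gm S ⟶ G)
  (hl' : l' = (toUnit _ ≫ g₀)⁻¹ * l * (toUnit _ ≫ g₀))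

include hlin hl' in
theorem hasFibreWt_transl {T : Over S} (y' : T ⟶ X) (w : ℤ)
    (hw : HMNum.HasFibreWt a π chart Φ l' y' w)
    (U' : X.left.Opens) (y'' : Γ(V.left, π.left ⁻¹ᵁ U')) (hy'' : y'' ∈ chart U')
    (hU' : (lift (toUnit T ≫ g₀) y' ≫ a.act).left ⁻¹ᵁ U' = ⊤) :
    HMNum.HasFibreWt a π chart Φ l (lift (toUnit T ≫ g₀) y' ≫ a.act) w := by
  obtain ⟨hfix, U, y, hyU, hU, hwt⟩ := hw
  refine ⟨isFixedBy_transl a g₀ l l' hl' hfix, U', y'', hy'', hU', ?_⟩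
  intro T' t u v hv hgv
  obtain ⟨c₀, hc₀⟩ := hlin U U' y y'' hyU hy''
  have et : t ≫ lift (toUnit T ≫ g₀) y' ≫ a.act = lift (toUnit T' ≫ g₀) (t ≫ y') ≫ a.act := by
    rw [← Category.assoc, comp_lift, ← Category.assoc, toUnit_unique (t ≫ toUnit T) (toUnit T')]
  have hv' : (lift (toUnit T' ≫ g₀)⁻¹ v ≫ Φ.act) ≫ π = t ≫ y' := by
    rw [Category.assoc, hπ, lift_whiskerLeft_assoc, hv, et, ← AlgGrp.Action.lift_mul_act,
      inv_mul_cancel, AlgGrp.Action.lift_one_act]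
  have hvv : v = lift (toUnit T' ≫ g₀) (lift (toUnit T' ≫ g₀)⁻¹ v ≫ Φ.act) ≫ Φ.act := by
    rw [← AlgGrp.Action.lift_mul_act, mul_inv_cancel, AlgGrp.Action.lift_one_act]
  have hv'' : (lift (u ≫ l') (lift (toUnit T' ≫ g₀)⁻¹ v ≫ Φ.act) ≫ Φ.act) ≫ π = t ≫ y' := by
    rw [Category.assoc, hπ, lift_whiskerLeft_assoc, hv', hfix T' t u]
  have hact : lift (u ≫ l) v ≫ Φ.act = lift (toUnit T' ≫ g₀)
      (lift (u ≫ l') (lift (toUnit T' ≫ g₀)⁻¹ v ≫ Φ.act) ≫ Φ.act) ≫ Φ.act := by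
    rw [← AlgGrp.Action.lift_mul_act, conj_pt g₀ l l' hl', AlgGrp.Action.lift_mul_act, ← hvv]
  have hwt' := hwt T' t u _ hv' hv''
  have h3 : ⊤ ≤ (lift (toUnit T' ≫ g₀) (t ≫ y')).left ⁻¹ᵁ
      (a.act.left ⁻¹ᵁ U' ⊓ (snd G X).left ⁻¹ᵁ U) := by
    change ⊤ ≤ (lift (toUnit T' ≫ g₀) (t ≫ y')).left ⁻¹ᵁ (a.act.left ⁻¹ᵁ U') ⊓
      (lift (toUnit T' ≫ g₀) (t ≫ y')).left ⁻¹ᵁ ((snd G X).left ⁻¹ᵁ U)
    refine le_inf ?_ ?_
    · have : (lift (toUnit T' ≫ g₀) (t ≫ y')).left ⁻¹ᵁ (a.act.left ⁻¹ᵁ U') =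
          t.left ⁻¹ᵁ ((lift (toUnit T ≫ g₀) y' ≫ a.act).left ⁻¹ᵁ U') := by
        change (lift (toUnit T' ≫ g₀) (t ≫ y') ≫ a.act).left ⁻¹ᵁ U' =
          (t ≫ lift (toUnit T ≫ g₀) y' ≫ a.act).left ⁻¹ᵁ U'
        rw [et]
      rw [this, hU']
      exact le_of_eq rfl
    · have : (lift (toUnit T' ≫ g₀) (t ≫ y')).left ⁻¹ᵁ ((snd G X).left ⁻¹ᵁ U) =
          t.left ⁻¹ᵁ (y'.left ⁻¹ᵁ U) := by
        change (lift (toUnit T' ≫ g₀) (t ≫ y') ≫ snd G X).left ⁻¹ᵁ U = (t ≫ y').left ⁻¹ᵁ U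
        rw [lift_snd]
      rw [this, hU]
      exact le_of_eq rfl
  have hA : ⊤ ≤ (lift (toUnit T' ≫ g₀) (lift (u ≫ l') (lift (toUnit T' ≫ g₀)⁻¹ v ≫ Φ.act) ≫ Φ.act)
      ≫ Φ.act).left ⁻¹ᵁ (π.left ⁻¹ᵁ U') := by
    rw [← hact]; exact HMNum.top_le_preimage π hU' hgv
  have hB : ⊤ ≤ (lift (toUnit T' ≫ g₀) (lift (toUnit T' ≫ g₀)⁻¹ v ≫ Φ.act) ≫ Φ.act).left ⁻¹ᵁ
      (π.left ⁻¹ᵁ U') := by
    rw [← hvv]; exact HMNum.top_le_preimage π hU' hv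
  rw [evalFn_congr π y'' hact _ hA, evalFn_congr π y'' hvv _ hB,
    evalFn_act a π Φ hπ c₀ hc₀ _ _ (t ≫ y') hv'' (HMNum.top_le_preimage π hU hv'') hA h3,
    evalFn_act a π Φ hπ c₀ hc₀ _ _ (t ≫ y') hv' (HMNum.top_le_preimage π hU hv') hB h3,
    hwt', mul_left_comm]

variable [IsMonHom l] [IsMonHom l']
  (cover : ∀ x : X.left, ∃ U : X.left.Opens, x ∈ U ∧ (chart U).Nonempty)

include hlin hl' cover in
theorem isMuOf_transl {T : Over S} [Subsingleton T.left] [Nonempty T.left] (x : T ⟶ X) (m : ℤ)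
    (h : HMNum.IsMuOf a π chart Φ l' x m) :
    HMNum.IsMuOf a π chart Φ l (lift (toUnit T ≫ g₀) x ≫ a.act) m := by
  obtain ⟨y', hlim, hw⟩ := h
  obtain ⟨t₀⟩ := ‹Nonempty T.left›
  obtain ⟨U', hxU', y'', hy''⟩ := cover ((lift (toUnit T ≫ g₀) y' ≫ a.act).left t₀)
  refine ⟨_, isLimitPt_transl a g₀ l l' hl' hlim,
    hasFibreWt_transl a π chart Φ hπ hlin g₀ l l' hl' y' _ hw U' y'' hy'' ?_⟩
  rw [eq_top_iff]
  intro z _
  rw [Subsingleton.elim z t₀]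
  exact hxU'

include hlin hl' cover in
theorem isMuOf_conj_iff {T : Over S} [Subsingleton T.left] [Nonempty T.left] (x : T ⟶ X) (m : ℤ) :
    HMNum.IsMuOf a π chart Φ l (lift (toUnit T ≫ g₀) x ≫ a.act) m ↔
      HMNum.IsMuOf a π chart Φ l' x m := by
  constructor
  · intro h
    have hl : l = (toUnit _ ≫ g₀⁻¹)⁻¹ * l' * (toUnit _ ≫ g₀⁻¹) := by
      rw [hl', GrpObj.comp_inv]
      group
    have h2 := isMuOf_transl a π chart Φ hπ hlin g₀⁻¹ l' l hl cover _ m h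
    have e : lift (toUnit T ≫ g₀⁻¹) (lift (toUnit T ≫ g₀) x ≫ a.act) ≫ a.act = x := by
      rw [← AlgGrp.Action.lift_mul_act, GrpObj.comp_inv, inv_mul_cancel,
        AlgGrp.Action.lift_one_act]
    rwa [e] at h2
  · exact isMuOf_transl a π chart Φ hπ hlin g₀ l l' hl' cover x m

end Transfer

theorem main_conj (k : Type u) [Field k]
    (G X : Over (Spec (CommRingCat.of k))) [GrpObj G]
    (a : AlgGrp.Action G X) (B : GLinSh.LinBun G a) (x : 𝟙_ (Over (Spec (CommRingCat.of k))) ⟶ X)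
    (l : Red.Gm (Spec (CommRingCat.of k)) ⟶ G) [IsMonHom l]
    (g₀ : 𝟙_ (Over (Spec (CommRingCat.of k))) ⟶ G)
    (l' : Red.Gm (Spec (CommRingCat.of k)) ⟶ G) [IsMonHom l']
    (hl' : l' = (toUnit _ ≫ g₀)⁻¹ * l * (toUnit _ ≫ g₀))
    (m : ℤ) : HMNum.IsMu B l (lift g₀ x ≫ a.act) m ↔ HMNum.IsMu B l' x m := by
  haveI : Subsingleton ↥(𝟙_ (Over (Spec (CommRingCat.of k)))).left :=
    (inferInstance : Subsingleton (PrimeSpectrum k))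
  haveI : Nonempty ↥(𝟙_ (Over (Spec (CommRingCat.of k)))).left :=
    (inferInstance : Nonempty (PrimeSpectrum k))
  have h := isMuOf_conj_iff a B.π B.atlas.chart B.lift B.lift_π B.lift_linear g₀ l l' hl'
    B.atlas.cover x m
  have e : toUnit (𝟙_ (Over (Spec (CommRingCat.of k)))) ≫ g₀ = g₀ := by
    rw [toUnit_unique (toUnit _) (𝟙 _), Category.id_comp]
  rwa [e] at h

end

end Groth.Agent.Lead.HMLim
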