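import Groth.Agent.Lead.HMLimB
import Mathlib

/-!
# Lead: conjugates of one-parameter subgroups and the normalised numerical function
-/

set_option autoImplicit false
universe u
open CategoryTheory CategoryTheory.Limits MonoidalCategory CartesianMonoidalCategory MonObj GrpObj
  AlgebraicGeometry Opposite

namespace Groth.Agent.Lead.HMLim

noncomputable section

section General

universe v₁ u₁
variable {C : Type u₁} [Category.{v₁} C] [CartesianMonoidalCategory C]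
  {A G : C} [MonObj A] [GrpObj G]

theorem isMonHom_conj (l : A ⟶ G) [IsMonHom l] (g : 𝟙_ C ⟶ G) :
    IsMonHom ((toUnit A ≫ g)⁻¹ * l * (toUnit A ≫ g)) where
  one_hom := by
    have h1 : η[A] ≫ toUnit A ≫ g = g := by
      rw [← Category.assoc, toUnit_unique (η[A] ≫ toUnit A) (𝟙 _), Category.id_comp]
    rw [MonObj.comp_mul, MonObj.comp_mul, GrpObj.comp_inv, IsMonHom.one_hom l, h1, MonObj.one_eq_one]
    group
  mul_hom := by
    have hL : μ[A] = fst A A * snd A A := MonObj.mul_eq_mul A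
    have hR : ∀ (f : A ⟶ G), (f ⊗ₘ f) ≫ μ[G] = (fst A A ≫ f) * (snd A A ≫ f) := by
      intro f
      rw [Hom.mul_def]
      congr 1
      apply CartesianMonoidalCategory.hom_ext <;> simp
    have h1 : ∀ (p : A ⊗ A ⟶ A), p ≫ toUnit A ≫ g = toUnit (A ⊗ A) ≫ g := by
      intro p
      rw [← Category.assoc, toUnit_unique (p ≫ toUnit A) (toUnit _)]
    rw [hR, hL]
    simp only [MonObj.comp_mul, GrpObj.comp_inv, MonObj.mul_comp, h1]
    group

theorem isMonHom_conj' (l : A ⟶ G) [IsMonHom l] (g : 𝟙_ C ⟶ G) :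
    IsMonHom ((toUnit A ≫ g) * l * (toUnit A ≫ g)⁻¹) := by
  have h := isMonHom_conj l g⁻¹
  rwa [GrpObj.comp_inv, _root_.inv_inv] at h

end General

theorem main_norm (k : Type u) [Field k]
    (G X : Over (Spec (CommRingCat.of k))) [GrpObj G]
    (a : AlgGrp.Action G X) (B : GLinSh.LinBun G a)
    (nrm : (Red.Gm (Spec (CommRingCat.of k)) ⟶ G) → ℝ)
    (hnrm : ∀ (l : Red.Gm (Spec (CommRingCat.of k)) ⟶ G) [IsMonHom l]
      (g : 𝟙_ (Over (Spec (CommRingCat.of k))) ⟶ G),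
      nrm ((toUnit _ ≫ g) * l * (toUnit _ ≫ g)⁻¹) = nrm l)
    (x : 𝟙_ (Over (Spec (CommRingCat.of k))) ⟶ X) (g : 𝟙_ (Over (Spec (CommRingCat.of k))) ⟶ G)
    (q : ℝ) :
    (∃ (l : Red.Gm (Spec (CommRingCat.of k)) ⟶ G) (_ : IsMonHom l) (m : ℤ),
        l ≠ 1 ∧ HMNum.IsMu B l (lift g x ≫ a.act) m ∧ q = (m : ℝ) / nrm l) ↔
      ∃ (l : Red.Gm (Spec (CommRingCat.of k)) ⟶ G) (_ : IsMonHom l) (m : ℤ),
        l ≠ 1 ∧ HMNum.IsMu B l x m ∧ q = (m : ℝ) / nrm l := by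
  constructor
  · rintro ⟨l, hl, m, hne, hmu, hq⟩
    haveI := hl
    haveI h' : IsMonHom ((toUnit (Red.Gm (Spec (CommRingCat.of k))) ≫ g)⁻¹ * l *
        (toUnit (Red.Gm (Spec (CommRingCat.of k))) ≫ g)) := isMonHom_conj l g
    refine ⟨(toUnit _ ≫ g)⁻¹ * l * (toUnit _ ≫ g), h', m, ?_, ?_, ?_⟩
    · intro h1
      apply hne
      have : l = (toUnit _ ≫ g) * ((toUnit _ ≫ g)⁻¹ * l * (toUnit _ ≫ g)) * (toUnit _ ≫ g)⁻¹ := by
        group
      rw [this, h1]
      group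
    · exact (main_conj k G X a B x l g _ rfl m).mp hmu
    · have h2 := hnrm ((toUnit _ ≫ g)⁻¹ * l * (toUnit _ ≫ g)) g
      have h3 : (toUnit _ ≫ g) * ((toUnit _ ≫ g)⁻¹ * l * (toUnit _ ≫ g)) * (toUnit _ ≫ g)⁻¹ = l := by
        group
      rw [h3] at h2
      rw [← h2]
      exact hq
  · rintro ⟨l, hl, m, hne, hmu, hq⟩
    haveI := hl
    haveI h' : IsMonHom ((toUnit (Red.Gm (Spec (CommRingCat.of k))) ≫ g) * l *
        (toUnit (Red.Gm (Spec (CommRingCat.of k))) ≫ g)⁻¹) := isMonHom_conj' l g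
    refine ⟨(toUnit _ ≫ g) * l * (toUnit _ ≫ g)⁻¹, h', m, ?_, ?_, ?_⟩
    · intro h1
      apply hne
      have : l = (toUnit _ ≫ g)⁻¹ * ((toUnit _ ≫ g) * l * (toUnit _ ≫ g)⁻¹) * (toUnit _ ≫ g) := by
        group
      rw [this, h1]
      group
    · refine (main_conj k G X a B x _ g l ?_ m).mpr hmu
      group
    · rw [hnrm l g]
      exact hq

end

end Groth.Agent.Lead.HMLim
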