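import Groth.Agent.Lead.HMLimC
import Groth.Agent.Helper9.SchDom
import Groth.Agent.Helper9.MagnetDom
import Mathlib

/-!
# Lead: the numerical function is unchanged by conjugation with points of `P(λ)` (HMNum)
-/

set_option autoImplicit false
universe u
open CategoryTheory CategoryTheory.Limits MonoidalCategory CartesianMonoidalCategory MonObj GrpObj
  AlgebraicGeometry Opposite

namespace Groth.Agent.Lead.HMLim

noncomputable section

variable {S : Scheme.{u}} {G X V : Over S} [GrpObj G] (a : AlgGrp.Action G X)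

theorem subAct_plus_apply {T' : Over S} (s : T' ⟶ Red.Gm S) (b : T' ⟶ HMNum.A1 S) :
    lift s b ≫ (Magnet.subAct S ℤ HMNum.plus).act = (s ≫ HMNum.incl S) * b := by
  unfold Magnet.subAct
  rw [Magnet.MonAct.lift_restrict_act, Magnet.MonAct.lift_regular_act]

/-- `s · 0 = 0` on the affine line -/
theorem smul_origin {T' : Over S} (s : T' ⟶ Red.Gm S) :
    (s ≫ HMNum.incl S) * (toUnit T' ≫ HMNum.origin S) = toUnit T' ≫ HMNum.origin S := by
  have h := (Magnet.MonAct.isEquivariant_iff _ _ _).mp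
    (Magnet.isEquivariant_faceMapS S HMNum.isFace_bot) T' s
    (toUnit T' ≫ η[Magnet.AMonS S ↥(⊥ : AddSubmonoid ℤ)])
  have h1 : lift s (toUnit T' ≫ η[Magnet.AMonS S ↥(⊥ : AddSubmonoid ℤ)]) ≫
      (Magnet.subAct S ℤ (⊥ : AddSubmonoid ℤ)).act =
      toUnit T' ≫ η[Magnet.AMonS S ↥(⊥ : AddSubmonoid ℤ)] := Subsingleton.elim _ _
  rw [← Category.assoc, h1, subAct_plus_apply] at h
  simpa [HMNum.origin, Category.assoc] using h.symm

section Par

variable (g₀ : 𝟙_ (Over S) ⟶ G) (l : Red.Gm S ⟶ G) [IsMonHom l]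
  (f : HMNum.A1 S ⟶ G) (hf : HMNum.incl S ≫ f = l * (toUnit _ ≫ g₀) * l⁻¹)

include hf in
omit a in
theorem f_equivariant [IsSeparated G.hom] {T' : Over S} (s : T' ⟶ Red.Gm S)
    (b : T' ⟶ HMNum.A1 S) :
    ((s ≫ HMNum.incl S) * b) ≫ f = (s ≫ l) * (b ≫ f) * (s ≫ l)⁻¹ := by
  let F₁ : HMNum.A1 S ⊗ Red.Gm S ⟶ G := ((snd _ _ ≫ HMNum.incl S) * fst _ _) ≫ f
  let F₂ : HMNum.A1 S ⊗ Red.Gm S ⟶ G := (snd _ _ ≫ l) * (fst _ _ ≫ f) * (snd _ _ ≫ l)⁻¹
  have hdom : IsSchemeTheoreticallyDominant (HMNum.incl S ▷ Red.Gm S).left :=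
    Groth.Agent.Helper9.MagnetDom.dom S HMNum.plus.subtype Subtype.val_injective (Red.Gm S)
  have key : (HMNum.incl S ▷ Red.Gm S) ≫ F₁ = (HMNum.incl S ▷ Red.Gm S) ≫ F₂ := by
    apply AlgGrp.Action.hom_ext_lift₂
    intro T'' r s'
    have hc : ∀ (p : T'' ⟶ Red.Gm S), p ≫ toUnit (Red.Gm S) ≫ g₀ = toUnit T'' ≫ g₀ := by
      intro p
      rw [← Category.assoc, toUnit_unique (p ≫ toUnit _) (toUnit T'')]
    have hrf : ∀ (p : T'' ⟶ Red.Gm S), (p ≫ HMNum.incl S) ≫ f =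
        (p ≫ l) * (toUnit T'' ≫ g₀) * (p ≫ l)⁻¹ := by
      intro p
      rw [Category.assoc, hf, MonObj.comp_mul, MonObj.comp_mul, GrpObj.comp_inv, hc]
    rw [lift_whiskerRight_assoc, lift_whiskerRight_assoc]
    simp only [F₁, F₂]
    rw [← Category.assoc, MonObj.comp_mul, lift_snd_assoc, lift_fst, ← MonObj.mul_comp, hrf,
      MonObj.comp_mul, MonObj.comp_mul, GrpObj.comp_inv, lift_snd_assoc, lift_fst_assoc, hrf,
      MonObj.mul_comp]
    group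
  have hF : F₁ = F₂ := Groth.Agent.Helper9.SchDom.over_ext_of_schDominant _ key
  have h2 := congrArg (fun F => lift b s ≫ F) hF
  simp only [F₁, F₂] at h2
  rw [← Category.assoc, MonObj.comp_mul, lift_snd_assoc, lift_fst, MonObj.comp_mul,
    MonObj.comp_mul, GrpObj.comp_inv, lift_snd_assoc, lift_fst_assoc] at h2
  exact h2

variable (hfeq : ∀ (T' : Over S) (s : T' ⟶ Red.Gm S) (b : T' ⟶ HMNum.A1 S),
  ((s ≫ HMNum.incl S) * b) ≫ f = (s ≫ l) * (b ≫ f) * (s ≫ l)⁻¹)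

/-- `(u, t) ↦ f(u) · φ(u, t)` -/
def parPt {T : Over S} (φ : (HMNum.attrPlus a l).obj (op T)) :
    (HMNum.attrPlus a l).obj (op T) :=
  ⟨lift (fst _ _ ≫ f) φ.1 ≫ a.act, by
    rw [Magnet.MonAct.mem_eqvHom_iff]
    intro T' s b t
    have h := (Magnet.MonAct.mem_eqvHom_iff φ.1).mp φ.2 T' s b t
    have e1 : ∀ (z : T' ⟶ HMNum.A1 S ⊗ T), z ≫ lift (fst _ _ ≫ f) φ.1 ≫ a.act =
        lift ((z ≫ fst _ _) ≫ f) (z ≫ φ.1) ≫ a.act := by
      intro z
      rw [← Category.assoc, comp_lift, Category.assoc]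
    rw [e1, e1, lift_fst, lift_fst, h, subAct_plus_apply, hfeq]
    simp only [HMNum.gmAct, Magnet.MonAct.lift_restrict_act, Magnet.MonAct.ofAction_act]
    rw [← AlgGrp.Action.lift_mul_act, ← AlgGrp.Action.lift_mul_act, inv_mul_cancel_right]⟩

include hf in
omit a in
theorem one_comp_f {T : Over S} : (toUnit T ≫ η[HMNum.A1 S]) ≫ f = toUnit T ≫ g₀ := by
  have h1 : toUnit T ≫ η[HMNum.A1 S] = (toUnit T ≫ η[Red.Gm S]) ≫ HMNum.incl S := by
    rw [Category.assoc, IsMonHom.one_hom]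
  have hc : (toUnit T ≫ η[Red.Gm S]) ≫ toUnit (Red.Gm S) ≫ g₀ = toUnit T ≫ g₀ := by
    rw [← Category.assoc, toUnit_unique (_ ≫ toUnit _) (toUnit T)]
  rw [h1, Category.assoc, hf, MonObj.comp_mul, MonObj.comp_mul, GrpObj.comp_inv, hc,
    ← Hom.one_def, MonObj.one_comp]
  group

include hf hfeq in
theorem isLimitPt_par {T : Over S} {x y : T ⟶ X} (h : HMNum.IsLimitPt a l x y) :
    HMNum.IsLimitPt a l (lift (toUnit T ≫ g₀) x ≫ a.act)
      (lift (toUnit T ≫ HMNum.origin S ≫ f) y ≫ a.act) := by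
  obtain ⟨φ, rfl, rfl⟩ := h
  refine ⟨parPt a l f hfeq φ, ?_, ?_⟩
  · change lift _ (𝟙 T) ≫ lift (fst _ _ ≫ f) φ.1 ≫ a.act = _
    rw [← Category.assoc, comp_lift, lift_fst_assoc, one_comp_f g₀ l f hf]
    rfl
  · rw [HMNum.limitPt_eq, HMNum.limitPt_eq]
    change lift _ (𝟙 T) ≫ lift (fst _ _ ≫ f) φ.1 ≫ a.act = _
    rw [← Category.assoc, comp_lift, lift_fst_assoc, Category.assoc]

include hfeq in
omit a [IsMonHom l] in
/-- the limit `f(0)` commutes with `l` -/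
theorem origin_comm :
    l = (toUnit _ ≫ HMNum.origin S ≫ f)⁻¹ * l * (toUnit _ ≫ HMNum.origin S ≫ f) := by
  have h := hfeq (Red.Gm S) (𝟙 _) (toUnit _ ≫ HMNum.origin S)
  rw [smul_origin, Category.id_comp, Category.assoc] at h
  have h2 : (toUnit (Red.Gm S) ≫ HMNum.origin S ≫ f) * l =
      l * (toUnit (Red.Gm S) ≫ HMNum.origin S ≫ f) := by
    conv_lhs => rw [h]
    group
  calc l = (toUnit _ ≫ HMNum.origin S ≫ f)⁻¹ * ((toUnit _ ≫ HMNum.origin S ≫ f) * l) := by group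
    _ = _ := by rw [h2]; group

end Par

section Main

variable (π : V ⟶ X) (chart : ∀ U : X.left.Opens, Set (Γ(V.left, π.left ⁻¹ᵁ U)))
  (Φ : AlgGrp.Action G V) (hπ : Φ.act ≫ π = (G ◁ π) ≫ a.act)
  (hlin : GLinSh.IsLinearLift a π Φ chart hπ)
  (cover : ∀ x : X.left, ∃ U : X.left.Opens, x ∈ U ∧ (chart U).Nonempty)
  (g₀ : 𝟙_ (Over S) ⟶ G) (l : Red.Gm S ⟶ G) [IsMonHom l]
  (f : HMNum.A1 S ⟶ G) (hf : HMNum.incl S ≫ f = l * (toUnit _ ≫ g₀) * l⁻¹)

include hlin cover hf in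
theorem isMuOf_par [IsSeparated G.hom] {T : Over S} [Subsingleton T.left] [Nonempty T.left]
    (x : T ⟶ X) (m : ℤ) (h : HMNum.IsMuOf a π chart Φ l x m) :
    HMNum.IsMuOf a π chart Φ l (lift (toUnit T ≫ g₀) x ≫ a.act) m := by
  obtain ⟨y, hlim, hw⟩ := h
  have hfeq := fun (T' : Over S) (s : T' ⟶ Red.Gm S) (b : T' ⟶ HMNum.A1 S) =>
    f_equivariant g₀ l f hf s b
  obtain ⟨t₀⟩ := ‹Nonempty T.left›
  obtain ⟨U', hxU', y'', hy''⟩ :=
    cover ((lift (toUnit T ≫ HMNum.origin S ≫ f) y ≫ a.act).left t₀)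
  refine ⟨_, isLimitPt_par a g₀ l f hf hfeq hlim, ?_⟩
  refine hasFibreWt_transl a π chart Φ hπ hlin (HMNum.origin S ≫ f) l l
    (origin_comm l f hfeq) y _ hw U' y'' hy'' ?_
  rw [eq_top_iff]
  intro z _
  rw [Subsingleton.elim z t₀]
  exact hxU'

end Main

theorem main_par (k : Type u) [Field k]
    (G X : Over (Spec (CommRingCat.of k))) [GrpObj G] [IsSeparated G.hom]
    (a : AlgGrp.Action G X) (B : GLinSh.LinBun G a) (x : 𝟙_ (Over (Spec (CommRingCat.of k))) ⟶ X)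
    (l : Red.Gm (Spec (CommRingCat.of k)) ⟶ G) [IsMonHom l]
    (g₀ : 𝟙_ (Over (Spec (CommRingCat.of k))) ⟶ G)
    (hg₀ : ∃ f : HMNum.A1 (Spec (CommRingCat.of k)) ⟶ G,
      HMNum.incl (Spec (CommRingCat.of k)) ≫ f = l * (toUnit _ ≫ g₀) * l⁻¹)
    (l' : Red.Gm (Spec (CommRingCat.of k)) ⟶ G) [IsMonHom l']
    (hl' : l' = (toUnit _ ≫ g₀)⁻¹ * l * (toUnit _ ≫ g₀))
    (m : ℤ) : HMNum.IsMu B l x m ↔ HMNum.IsMu B l' x m := by
  rw [← main_conj k G X a B x l g₀ l' hl' m]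
  obtain ⟨f, hf⟩ := hg₀
  haveI : Subsingleton ↥(𝟙_ (Over (Spec (CommRingCat.of k)))).left :=
    (inferInstance : Subsingleton (PrimeSpectrum k))
  haveI : Nonempty ↥(𝟙_ (Over (Spec (CommRingCat.of k)))).left :=
    (inferInstance : Nonempty (PrimeSpectrum k))
  have e : ∀ (g : 𝟙_ (Over (Spec (CommRingCat.of k))) ⟶ G),
      toUnit (𝟙_ (Over (Spec (CommRingCat.of k)))) ≫ g = g := by
    intro g
    rw [toUnit_unique (toUnit _) (𝟙 _), Category.id_comp]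
  constructor
  · intro h
    have h2 := isMuOf_par a B.π B.atlas.chart B.lift B.lift_π B.lift_linear B.atlas.cover g₀ l f hf
      x m h
    rwa [e] at h2
  · intro h
    have hf' : HMNum.incl (Spec (CommRingCat.of k)) ≫ f⁻¹ = l * (toUnit _ ≫ g₀⁻¹) * l⁻¹ := by
      rw [GrpObj.comp_inv, hf, GrpObj.comp_inv]
      group
    have h2 := isMuOf_par a B.π B.atlas.chart B.lift B.lift_π B.lift_linear B.atlas.cover g₀⁻¹ l
      f⁻¹ hf' (lift g₀ x ≫ a.act) m h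
    have e2 : lift (toUnit _ ≫ g₀⁻¹) (lift g₀ x ≫ a.act) ≫ a.act = x := by
      rw [e, ← AlgGrp.Action.lift_mul_act, inv_mul_cancel, AlgGrp.Action.lift_one_act]
    rwa [e2] at h2

end

end Groth.Agent.Lead.HMLim
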