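import Mathlib
import Groth.Prelude.Def_LocCohZ
import Groth.Agent.Helper1.KoszulScheme
import Groth.Agent.Helper1.LocCohLow
import Groth.Agent.Helper1.SerreD
import Groth.Agent.S0464

/-! `H^i_Z(Y, M) ≃ colim_n H^i(f^n, Γ(Y, M))` on an affine scheme `Y` (general form of S6032) -/

set_option autoImplicit false
universe u

open CategoryTheory CategoryTheory.Limits AlgebraicGeometry Opposite TopologicalSpace

namespace Groth.Agent.Lead.HZAff

open Groth.Agent.Helper1.CechAug Groth.Agent.Helper1.LocCohLow Groth.Agent.Helper1.KoszulScheme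

theorem nonempty_koszulHLim_addEquiv_HZM (Y : Scheme.{u}) [IsAffine Y] (fs : List Γ(Y, ⊤))
    (F : Y.Modules) [F.IsQuasicoherent] (i : ℕ) :
    Nonempty (CohIII.koszulHLim fs (ModuleCat.of Γ(Y, ⊤) (F.val.obj (op ⊤))) i ≃+
      LocCohZ.HZM Y F i (⨆ k : Fin fs.length, Y.basicOpen (fs.get k))) := by
  classical
  have hsup : iSup (UX Y fs) = ⨆ k : Fin fs.length, Y.basicOpen (fs.get k) := by
    apply le_antisymm
    · exact iSup_le (fun k => le_iSup (fun k : Fin fs.length => Y.basicOpen (fs.get k)) k.down)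
    · exact iSup_le (fun k => le_iSup (UX Y fs) ⟨k⟩)
  rw [← hsup]
  have hvan : ∀ i : ℕ, Subsingleton (CohTop.HU (Coh.toAb F) (i + 1) ⊤) := fun i =>
    Groth.Agent.Helper1.Serre.subsingleton_HU_of_isAffineOpen F (isAffineOpen_top Y) i
  obtain ⟨e⟩ := nonempty_addEquiv_koszulHLim Y fs F i
  have hW : ∀ j, UX Y fs j ≤ iSup (UX Y fs) := le_iSup (UX Y fs)
  rcases i with _ | _ | i
  · have e0 := h0EquivSheaf (UX Y fs) (Coh.toAb F) (iSup (UX Y fs)) hW le_rfl
    have e1 := LocCohZ.sect0Equiv (Coh.toAb F) (le_top : iSup (UX Y fs) ≤ ⊤)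
    exact ⟨e.symm.trans (e0.trans e1.symm)⟩
  · have e0 := h1EquivSheaf (UX Y fs) (Coh.toAb F) (iSup (UX Y fs)) hW le_rfl
    have e1 := h1Equiv (Coh.toAb F) (iSup (UX Y fs)) hvan
    exact ⟨e.symm.trans (e0.trans e1)⟩
  · have e1 := hSuccEquiv (Coh.toAb F) (iSup (UX Y fs)) hvan i
    have h : ∀ (p : ℕ) (a : Fin (p + 1) → ULift.{u} (Fin fs.length)) (r : ℕ),
        Subsingleton (CohTop.HU (Coh.toAb F) (r + 1) (iInf fun k => UX Y fs (a k))) := by
      intro p a r
      have haff : IsAffineOpen (iInf fun k => UX Y fs (a k)) :=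
        IsAffineOpen.iInf (fun k => (isAffineOpen_top Y).basicOpen (fs.get (a k).down))
      exact Groth.Agent.Helper1.Serre.subsingleton_HU_of_isAffineOpen F haff r
    obtain ⟨e2⟩ := Groth.Agent.S0464.result (Coh.toAb F) (UX Y fs) h (i + 1)
    have i1 := hSuccIso (UX Y fs) F.presheaf i
    exact ⟨e.symm.trans (i1.addCommGroupIsoToAddEquiv.trans (e2.trans e1.symm))⟩

end Groth.Agent.Lead.HZAff
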