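import Mathlib
import Groth.Agent.Lead.HZAffA
import Groth.Agent.Helper1.ExtDepth1
import Groth.Agent.Helper1.LocCohExt
import Groth.Agent.S5173

/-! vanishing of `H^i_Z(Y, M)` below `n` on an affine Noetherian scheme ⟺ `n ≤ depth_I Γ(Y, M)` -/

set_option autoImplicit false
universe u

open CategoryTheory CategoryTheory.Limits AlgebraicGeometry Opposite TopologicalSpace

namespace Groth.Agent.Lead.HZAff

open Groth.Agent.Helper1

theorem lc_iff_idealDepth {A : Type u} [CommRing A] [IsNoetherianRing A] (I : Ideal A) (M : Type u)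
    [AddCommGroup M] [Module A M] [Module.Finite A M] (n : ℕ) :
    (∀ i : ℕ, i < n → Subsingleton (LocCoh.H I i M)) ↔ (n : ℕ∞) ≤ LocCoh.idealDepth I M := by
  constructor
  · intro h
    exact ExtDepth.le_idealDepth_of_subsingleton_ext I (A ⧸ I) M n (LocCohExt.support_quotient I)
      (fun i hi => (LocCohExt.lc_iff_ext_all I M n).1 h (A ⧸ I) inferInstance
        (LocCohExt.support_quotient I).le i hi)
  · intro h
    rw [LocCohExt.lc_iff_ext_one]
    exact ⟨A ⧸ I, inferInstance, inferInstance, inferInstance, LocCohExt.support_quotient I,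
      fun i hi => ExtDepth.subsingleton_ext_of_le_idealDepth I (A ⧸ I) M n h
        (LocCohExt.support_quotient I).le i hi⟩

theorem HZM_iff_idealDepth (Y : Scheme.{u}) [IsAffine Y] [IsNoetherianRing Γ(Y, ⊤)]
    (fs : List Γ(Y, ⊤)) (F : Y.Modules) [F.IsQuasicoherent]
    [Module.Finite Γ(Y, ⊤) (F.val.obj (op ⊤))] (n : ℕ) :
    (∀ i : ℕ, i < n → Subsingleton
      (LocCohZ.HZM Y F i (⨆ k : Fin fs.length, Y.basicOpen (fs.get k)))) ↔
      (n : ℕ∞) ≤ LocCoh.idealDepth (Ideal.span {a | a ∈ fs}) (F.val.obj (op ⊤)) := by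
  rw [← lc_iff_idealDepth]
  refine forall₂_congr (fun i _ => ?_)
  obtain ⟨e1⟩ := nonempty_koszulHLim_addEquiv_HZM Y fs F i
  obtain ⟨e2⟩ := Groth.Agent.S5173.result Γ(Y, ⊤) fs (F.val.obj (op ⊤)) i
  exact ⟨fun h => (e2.toAddEquiv.trans e1).subsingleton, fun h => (e2.toAddEquiv.trans e1).symm.subsingleton⟩

end Groth.Agent.Lead.HZAff
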