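import Mathlib
import Groth.Agent.Lead.HZAffB
import Groth.Agent.Lead.AssClos
import Groth.Agent.Lead.OmegaLocA
import Groth.Agent.Helper1.ExtDepth2
import Groth.Agent.Helper2.DepthCM
import Groth.Agent.Helper4.SecDict
import Groth.Agent.S6026

/-! `H^i_{Z ∩ W}(W, M) = 0` for `i < n` on an affine open `W` ⟺ `depth M_x ≥ n` on `Z ∩ W` -/

set_option autoImplicit false
set_option linter.style.haveILetI false
set_option linter.unusedSectionVars false
universe u

open CategoryTheory CategoryTheory.Limits AlgebraicGeometry Opposite TopologicalSpace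

namespace Groth.Agent.Lead.HZAff

open Groth.Agent.Helper1 Groth.Agent.Helper4

variable {X : Scheme.{u}} [IsLocallyNoetherian X] (U : X.Opens) (M : X.Modules)
  {W : X.Opens}

/-- membership in `U` of a point of an affine open in terms of generators of `idealOf` -/
theorem mem_iff_exists_basicOpen {W' : X.Opens} (hW' : IsAffineOpen W') (fs : List Γ(X, W'))
    (hfs : Ideal.span {a | a ∈ fs} = ExtDepth.idealOf hW' U) (x : X) (hx : x ∈ W') :
    x ∈ U ↔ ∃ k : Fin fs.length, x ∈ X.basicOpen (fs.get k) := by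
  set p := hW'.primeIdealOf ⟨x, hx⟩ with hp
  have hpx : hW'.fromSpec p = x := hW'.fromSpec_primeIdealOf ⟨x, hx⟩
  have h1 := ExtDepth.idealOf_le_iff hW' U p
  rw [hpx, ← hfs, Ideal.span_le] at h1
  have h2 : ∀ f : Γ(X, W'), x ∈ X.basicOpen f ↔ f ∉ p.asIdeal := by
    intro f
    have h3 : p ∈ hW'.fromSpec ⁻¹ᵁ X.basicOpen f ↔ f ∉ p.asIdeal := by
      rw [hW'.fromSpec_preimage_basicOpen]
      exact Iff.rfl
    rw [← h3]
    change _ ↔ hW'.fromSpec p ∈ X.basicOpen f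
    rw [hpx]
  constructor
  · intro hxU
    by_contra hcon
    push Not at hcon
    apply h1.1 _ hxU
    intro a ha
    obtain ⟨k, rfl⟩ := List.mem_iff_get.1 ha
    by_contra hak
    exact hcon k ((h2 _).2 hak)
  · rintro ⟨k, hk⟩
    by_contra hxU
    exact (h2 _).1 hk (h1.2 hxU (List.get_mem fs k))

variable (W)

instance modW : Module Γ((W : Scheme.{u}), ⊤) (Γ(M, W.ι ''ᵁ ⊤) : Type u) :=
  inferInstanceAs (Module Γ(X, W.ι ''ᵁ ⊤) Γ(M, W.ι ''ᵁ ⊤))

/-- global sections of `M|_W` are the sections of `M` over `W`, linearly -/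
noncomputable def secLin :
    (↑((M.restrict W.ι).val.obj (op ⊤)) : Type u) ≃ₗ[Γ((W : Scheme.{u}), ⊤)]
      (Γ(M, W.ι ''ᵁ ⊤) : Type u) where
  toFun m := m
  invFun m := m
  left_inv _ := rfl
  right_inv _ := rfl
  map_add' _ _ := rfl
  map_smul' a m := Groth.Agent.Lead.OmegaLocA.restrict_smul (U := W) M ⊤ a m

lemma mem_basicOpen_iff (f : Γ((W : Scheme.{u}), ⊤)) (y : W) :
    y ∈ (W : Scheme.{u}).basicOpen f ↔
      (y : X) ∈ X.basicOpen (show Γ(X, W.ι ''ᵁ ⊤) from f) := by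
  have h1 := Scheme.image_basicOpen W.ι f
  have h2 : (W.ι.appIso ⊤).inv f = (show Γ(X, W.ι ''ᵁ ⊤) from f) := by
    rw [Scheme.Opens.ι_appIso]
    rfl
  rw [h2] at h1
  rw [← h1]
  exact (Scheme.Opens.mem_ι_image_iff (U := W)).symm

variable {W}

lemma isAffineOpen_image_top (hW : IsAffineOpen W) : IsAffineOpen (W.ι ''ᵁ ⊤) := by
  rw [Scheme.Opens.ι_image_top]; exact hW

/-- the ideal of `Γ(W, O_W)` defining `W ∖ U` -/
noncomputable def idealW (hW : IsAffineOpen W) : Ideal Γ((W : Scheme.{u}), ⊤) :=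
  ExtDepth.idealOf (X := X) (W := W.ι ''ᵁ ⊤) (isAffineOpen_image_top hW) U

/-- the trace of `U` on the affine open `W`, as a union of basic opens of the scheme `W` -/
lemma preimage_eq_iSup_basicOpen (hW : IsAffineOpen W) (fs : List Γ((W : Scheme.{u}), ⊤))
    (hfs : Ideal.span {a | a ∈ fs} = idealW U hW) :
    ((Opens.map (CohCx.incl (X := X.carrier) W)).obj (W ⊓ U) : (W : Scheme.{u}).Opens) =
      ⨆ k : Fin fs.length, (W : Scheme.{u}).basicOpen (fs.get k) := by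
  ext (y : W)
  have h1 := mem_iff_exists_basicOpen U (isAffineOpen_image_top hW) fs hfs (y : X)
    (by rw [Scheme.Opens.ι_image_top]; exact y.2)
  constructor
  · intro hy
    have hy' : (y : X) ∈ W ⊓ U := hy
    obtain ⟨k, hk⟩ := h1.1 hy'.2
    exact Opens.mem_iSup.2 ⟨k, (mem_basicOpen_iff W (fs.get k) y).2 hk⟩
  · intro hy
    obtain ⟨k, hk⟩ := Opens.mem_iSup.1 hy
    exact (show (y : X) ∈ W ⊓ U from
      ⟨y.2, h1.2 ⟨k, (mem_basicOpen_iff W (fs.get k) y).1 hk⟩⟩)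

/-- per-degree comparison of `H^i_{Z∩W}(W, M)` with the local cohomology of `Γ(W, M)` -/
theorem affine_single [M.IsQuasicoherent] (hW : IsAffineOpen W)
    [IsNoetherianRing Γ((W : Scheme.{u}), ⊤)] (fs : List Γ((W : Scheme.{u}), ⊤))
    (hfs : Ideal.span {a | a ∈ fs} = idealW U hW) (i : ℕ) :
    Subsingleton (LocCohZ.HZ (X := X.carrier) (Coh.toAb M) i (inf_le_left : W ⊓ U ≤ W)) ↔
      Subsingleton (LocCoh.H (R := Γ((W : Scheme.{u}), ⊤)) (Ideal.span {a | a ∈ fs}) i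
        (↑((M.restrict W.ι).val.obj (op ⊤)) : Type u)) := by
  haveI : IsAffine (W : Scheme.{u}) := hW
  haveI : (M.restrict W.ι).IsQuasicoherent := AssClos.isQuasicoherent_restrict W M
  have hU' := preimage_eq_iSup_basicOpen U hW fs hfs
  obtain ⟨e, -⟩ := Groth.Agent.S6026.result (X := X.carrier) (inf_le_left : W ⊓ U ≤ W) i
  have e1 := e (Coh.toAb M)
  obtain ⟨e2⟩ := nonempty_koszulHLim_addEquiv_HZM (W : Scheme.{u}) fs (M.restrict W.ι) i
  obtain ⟨e3⟩ := Groth.Agent.S5173.result Γ((W : Scheme.{u}), ⊤) fs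
    (↑((M.restrict W.ι).val.obj (op ⊤)) : Type u) i
  rw [← hU'] at e2
  exact (e1.toEquiv.trans (e2.symm.toEquiv.trans e3.symm.toEquiv)).subsingleton_congr

theorem affine_iff (hM : Coh.IsCoh M) (hW : IsAffineOpen W) (n : ℕ) :
    (∀ i : ℕ, i < n → Subsingleton
      (LocCohZ.HZ (X := X.carrier) (Coh.toAb M) i (inf_le_left : W ⊓ U ≤ W))) ↔
      ∀ x : X, x ∈ W → x ∉ (U : Set X) →
        (n : ℕ∞) ≤ LocCoh.depth (X.presheaf.stalk x) (M.presheaf.stalk x) := by
  haveI : IsAffine (W : Scheme.{u}) := hW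
  have hW2 : IsAffineOpen (W.ι ''ᵁ ⊤) := by rw [Scheme.Opens.ι_image_top]; exact hW
  haveI hN2 : IsNoetherianRing Γ(X, W.ι ''ᵁ ⊤) :=
    IsLocallyNoetherian.component_noetherian ⟨_, hW2⟩
  haveI : IsNoetherianRing Γ((W : Scheme.{u}), ⊤) := hN2
  haveI : M.IsQuasicoherent := hM.1
  haveI : (M.restrict W.ι).IsQuasicoherent := AssClos.isQuasicoherent_restrict W M
  haveI hfin2 : Module.Finite Γ(X, W.ι ''ᵁ ⊤) Γ(M, W.ι ''ᵁ ⊤) :=
    SecDict.finite_sections hW2 M hM.1 hM.2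
  haveI hfin3 : Module.Finite Γ((W : Scheme.{u}), ⊤) (Γ(M, W.ι ''ᵁ ⊤) : Type u) := hfin2
  haveI : Module.Finite Γ((W : Scheme.{u}), ⊤) (↑((M.restrict W.ι).val.obj (op ⊤)) : Type u) :=
    Module.Finite.equiv (secLin M W).symm
  set I2 : Ideal Γ(X, W.ι ''ᵁ ⊤) := ExtDepth.idealOf hW2 U with hI2
  obtain ⟨s, hs⟩ := (IsNoetherian.noetherian I2 : I2.FG)
  let fs : List Γ((W : Scheme.{u}), ⊤) := s.toList
  have hfs : Ideal.span {a | a ∈ fs} =
      (show Ideal Γ((W : Scheme.{u}), ⊤) from I2) := by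
    rw [← hs]
    congr 1
    ext a
    exact (Finset.mem_toList (s := s) (a := a))
  have hU' : ((Opens.map (CohCx.incl (X := X.carrier) W)).obj (W ⊓ U) :
        (W : Scheme.{u}).Opens) =
      ⨆ k : Fin fs.length, (W : Scheme.{u}).basicOpen (fs.get k) := by
    ext (y : W)
    have h1 := mem_iff_exists_basicOpen U hW2 fs hfs (y : X)
      (by rw [Scheme.Opens.ι_image_top]; exact y.2)
    constructor
    · intro hy
      have hy' : (y : X) ∈ W ⊓ U := hy
      obtain ⟨k, hk⟩ := h1.1 hy'.2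
      exact Opens.mem_iSup.2 ⟨k, (mem_basicOpen_iff W (fs.get k) y).2 hk⟩
    · intro hy
      obtain ⟨k, hk⟩ := Opens.mem_iSup.1 hy
      exact (show (y : X) ∈ W ⊓ U from
        ⟨y.2, h1.2 ⟨k, (mem_basicOpen_iff W (fs.get k) y).1 hk⟩⟩)
  have hR : (∀ x : X, x ∈ W → x ∉ (U : Set X) →
        (n : ℕ∞) ≤ LocCoh.depth (X.presheaf.stalk x) (M.presheaf.stalk x)) ↔
      (n : ℕ∞) ≤ LocCoh.idealDepth I2 Γ(M, W.ι ''ᵁ ⊤) := by
    rw [hI2, ExtDepth.le_idealDepth_iff hW2 U M hM n]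
    constructor
    · intro h x hx
      exact h x (by rw [Scheme.Opens.ι_image_top] at hx; exact hx)
    · intro h x hx
      exact h x (by rw [Scheme.Opens.ι_image_top]; exact hx)
  have hD : LocCoh.idealDepth (Ideal.span {a | a ∈ fs})
        (↑((M.restrict W.ι).val.obj (op ⊤)) : Type u) =
      LocCoh.idealDepth I2 (Γ(M, W.ι ''ᵁ ⊤) : Type u) := by
    rw [hfs]
    exact Groth.Agent.Helper2.DepthCM.idealDepth_congr
      (show Ideal Γ((W : Scheme.{u}), ⊤) from I2) (secLin M W)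
  rw [hR, ← hD, ← HZM_iff_idealDepth (W : Scheme.{u}) fs (M.restrict W.ι) n]
  refine forall₂_congr (fun i _ => ?_)
  obtain ⟨e, -⟩ := Groth.Agent.S6026.result (X := X.carrier) (inf_le_left : W ⊓ U ≤ W) i
  have e1 := e (Coh.toAb M)
  rw [← hU']
  exact e1.toEquiv.subsingleton_congr

end Groth.Agent.Lead.HZAff
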