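import Mathlib
import Groth.Prelude.Def_SpSeq
import Groth.Agent.Helper8.SpSeqOne

/-!
# Collapse of a spectral sequence along one anti-diagonal
-/

set_option autoImplicit false

namespace Groth.Agent.Lead.SpProp

open CategoryTheory Limits Groth.Agent.Helper8

universe v u

variable {C : Type u} [Category.{v} C] [Abelian C]

/-- a position whose neighbours (along all differentials) vanish on the second page is stationary
from the second page on -/
theorem stationary_of_isZero (E : E₂CohomologicalSpectralSequence C) (pq : ℤ × ℤ)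
    (hin : ∀ r : ℤ, 2 ≤ r → IsZero ((E.page 2 le_rfl).X (pq - (r, 1 - r))))
    (hout : ∀ r : ℤ, 2 ≤ r → IsZero ((E.page 2 le_rfl).X (pq + (r, 1 - r)))) :
    SpSeq.StationaryAt E pq 2 := by
  refine ⟨le_rfl, fun r' h₀ hr' => ⟨?_, ?_⟩⟩
  · exact (SpSeqOne.isZero_page_of_le E _ 2 le_rfl (hin r' hr') r' h₀ hr').eq_of_src _ _
  · exact (SpSeqOne.isZero_page_of_le E _ 2 le_rfl (hout r' hr') r' h₀ hr').eq_of_tgt _ _

/-- if the second page has a single non-zero term on the anti-diagonal `n`, stationary from the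
second page on, then the abutment in degree `n` is that term -/
theorem iso_of_single (E : E₂CohomologicalSpectralSequence C) {H : ℤ → C}
    (a : SpSeq.Abutment E H) (n p₀ : ℤ) (hfin : a.IsFinite n)
    (hz : ∀ p : ℤ, p ≠ p₀ → IsZero ((E.page 2 le_rfl).X (p, n - p)))
    (hst : SpSeq.StationaryAt E (p₀, n - p₀) 2) :
    Nonempty (H n ≅ (E.page 2 le_rfl).X (p₀, n - p₀)) := by
  have hzrk : ∀ p : ℤ, p ≠ p₀ →
      IsZero ((E.page (a.rk (p, n - p)) (a.stat (p, n - p)).1).X (p, n - p)) := by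
    intro p hp
    exact SpSeqOne.isZero_page_of_le E (p, n - p) 2 le_rfl (hz p hp) _ _ (a.stat (p, n - p)).1
  have hgr : ∀ p, p ≠ p₀ → IsZero (SpSeq.grPiece (a.fil n) (a.anti n) p) := by
    intro p hp
    exact IsZero.of_iso (hzrk p hp) (SpSeqOne.β' a (p, n - p) n (by simp)).symm
  have hexh : IsLUB (Set.range (a.fil n)) ⊤ := by
    obtain ⟨t, ht⟩ := hfin.1
    refine ⟨fun _ _ => le_top, fun b hb => ?_⟩
    exact hb ⟨t, ht⟩
  obtain ⟨e1⟩ := SpSeqOne.fil_single (a.fil n) (a.anti n) p₀ hgr hfin.2 hexh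
  have e2 := SpSeqOne.β' a (p₀, n - p₀) n (by simp)
  obtain ⟨e3⟩ := SpSeqOne.iso_of_stationary E (p₀, n - p₀) 2 hst
    (a.rk (p₀, n - p₀)) (a.stat (p₀, n - p₀)).1 (a.stat (p₀, n - p₀)).1
  exact ⟨e1 ≪≫ e2.symm ≪≫ e3⟩

end Groth.Agent.Lead.SpProp
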