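import Mathlib
import Groth.Prelude.Def_LocCohZ
import Groth.Agent.Lead.SpProp2
import Groth.Agent.Helper1.LocCohLow
import Groth.Agent.Helper4.FinLocFree4
import Groth.Agent.Helper4.FinLocFree2
import Groth.Agent.Helper2.DepthCM
import Groth.Agent.Helper6.DepthPi
import Groth.Agent.S6029

/-! `Γ(X, ℋ^d_Z(F)) ≃ H^d_Z(X, F)` when `ℋ^q_Z(F) = 0` for `q < d` -/

set_option autoImplicit false
set_option linter.style.haveILetI false
universe u

open CategoryTheory CategoryTheory.Limits AlgebraicGeometry Opposite TopologicalSpace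

namespace Groth.Agent.Lead.HZAff

/-- cohomology of a zero sheaf vanishes -/
lemma subsingleton_HU_of_isZero {X : TopCat.{u}} (G : CohTop.Ab X) (hG : IsZero G) (p : ℕ)
    (V : Opens X) : Subsingleton (CohTop.HU G p V) := by
  refine ⟨fun a b => ?_⟩
  suffices h0 : ∀ c : Abelian.Ext (CohCx.freeSheaf (Opens.grothendieckTopology X) V) G p,
      c = 0 from (h0 a).trans (h0 b).symm
  intro c
  have h1 : (𝟙 G : G ⟶ G) = 0 := hG.eq_of_src _ _
  have h2 := Abelian.Ext.comp_mk₀_id c
  rw [h1, Abelian.Ext.mk₀_zero, Abelian.Ext.comp_zero] at h2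
  exact h2.symm

theorem nonempty_sections_addEquiv {X : TopCat.{u}} (F : CohTop.Ab X) (U : Opens X) (d : ℕ)
    (hz : ∀ q : ℕ, q < d → IsZero ((LocCohZ.HZsh U q).obj F)) :
    Nonempty (↑(((LocCohZ.HZsh U d).obj F).obj.obj (op ⊤)) ≃+ LocCohZ.HZc F d U) := by
  obtain ⟨E, a, hfin, -, hE⟩ := Groth.Agent.S6029.result F U
  -- vanishing of `E₂^{p,q}` off the relevant range
  have hzero : ∀ p q : ℤ, (p < 0 ∨ q < (d : ℤ)) → IsZero ((E.page 2 le_rfl).X (p, q)) := by
    intro p q hpq
    obtain ⟨e⟩ := hE p q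
    refine IsZero.of_iso ?_ e
    by_cases h : 0 ≤ p ∧ 0 ≤ q
    · rw [if_pos h]
      have hq : q.toNat < d := by
        rcases hpq with h' | h'
        · omega
        · omega
      haveI := subsingleton_HU_of_isZero _ (hz q.toNat hq) p.toNat ⊤
      exact AddCommGrpCat.isZero_of_subsingleton _
    · rw [if_neg h]
      haveI : Subsingleton (AddCommGrpCat.of PUnit.{u + 1}) := inferInstanceAs (Subsingleton PUnit)
      exact AddCommGrpCat.isZero_of_subsingleton _
  have hst : SpSeq.StationaryAt E ((0 : ℤ), (d : ℤ) - 0) 2 := by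
    apply Groth.Agent.Lead.SpProp.stationary_of_isZero
    · intro r hr
      exact hzero _ _ (Or.inl (by simp; omega))
    · intro r hr
      exact hzero _ _ (Or.inr (by simp; omega))
  obtain ⟨e1⟩ := Groth.Agent.Lead.SpProp.iso_of_single E a (d : ℤ) 0 (hfin d)
    (fun p hp => by
      rcases lt_or_gt_of_ne hp with h | h
      · exact hzero _ _ (Or.inl h)
      · exact hzero _ _ (Or.inr (by omega))) hst
  obtain ⟨e2⟩ := hE 0 ((d : ℤ) - 0)
  have h1 : (0 : ℤ) ≤ (d : ℤ) := Int.natCast_nonneg d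
  rw [if_pos h1] at e1
  rw [if_pos ⟨le_rfl, by omega⟩] at e2
  have e3 := (e1 ≪≫ e2).addCommGroupIsoToAddEquiv
  have hd1 : ((d : ℤ)).toNat = d := Int.toNat_natCast d
  have hd2 : ((d : ℤ) - 0).toNat = d := by simp
  rw [hd1, hd2] at e3
  have hz0 : ((0 : ℤ)).toNat = 0 := rfl
  rw [hz0] at e3
  exact ⟨((Groth.Agent.Helper1.LocCohLow.ψ ((LocCohZ.HZsh U d).obj F) ⊤).symm.trans e3.symm)⟩

/-- the stalk of a finite locally free module has at least the depth of the local ring
(copy of `Helper1.ExtLG.depth_le_depth_stalk_of_isFinLocFree` with light imports) -/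
theorem depth_le_depth_stalk_of_isFinLocFree {X : Scheme.{u}} [IsLocallyNoetherian X]
    (L : X.Modules) (hL : FlatMod.IsFinLocFree L) (x : X) :
    LocCoh.depth (X.presheaf.stalk x) (X.presheaf.stalk x) ≤
      LocCoh.depth (X.presheaf.stalk x) (L.presheaf.stalk x) := by
  haveI : L.IsQuasicoherent :=
    Groth.Agent.Helper4.FinLocFree4.isQuasicoherent_of_isFinLocFree L hL
  obtain ⟨V, m, hxV, hV⟩ := hL x
  obtain ⟨b⟩ := Groth.Agent.Helper4.FinLocFree2.nonempty_basis_stalk_of_isFreeAlong L hV x hxV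
  have h1 : LocCoh.depth (X.presheaf.stalk x) (L.presheaf.stalk x) =
      LocCoh.depth (X.presheaf.stalk x) (Fin m → X.presheaf.stalk x) :=
    Groth.Agent.Helper2.DepthCM.idealDepth_congr _ b.equivFun
  rw [h1]
  exact Groth.Agent.Helper6.DepthLemma.idealDepth_pi_ge _ _ m

end Groth.Agent.Lead.HZAff
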