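import Mathlib
import Groth.Prelude.Def_Wider
import Groth.Agent.Helper1.ExtBridgeLin
import Groth.Agent.Helper1.RegGlobalDim

/-! local cohomology vanishes in degree `i` if all `R/I^k` have projective dimension `< i` -/

set_option autoImplicit false
set_option linter.style.haveILetI false
universe u

open CategoryTheory CategoryTheory.Limits Opposite

namespace Groth.Agent.Lead.HZAff

lemma isZero_colimit_of_forall_isZero {J : Type*} [Category J] {C : Type*} [Category C]
    [HasZeroMorphisms C] (F : J ⥤ C) [HasColimit F] (h : ∀ j, IsZero (F.obj j)) :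
    IsZero (colimit F) := by
  rw [IsZero.iff_id_eq_zero]
  apply colimit.hom_ext
  intro j
  exact (h j).eq_of_src _ _

theorem subsingleton_lc_of_pd {A : Type u} [CommRing A] (I : Ideal A) (N : Type u)
    [AddCommGroup N] [Module A N] (i : ℕ)
    (h : ∀ k : ℕ, HasProjectiveDimensionLT (ModuleCat.of A (A ⧸ I ^ k)) i) :
    Subsingleton (LocCoh.H I i N) := by
  rw [← ModuleCat.isZero_iff_subsingleton]
  change IsZero ((colimit (localCohomology.diagram (localCohomology.idealPowersDiagram I) i)).obj
    (ModuleCat.of A N))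
  refine IsZero.of_iso ?_ (colimitObjIsoColimitCompEvaluation _ _)
  apply isZero_colimit_of_forall_isZero
  intro k
  change IsZero (((Ext A (ModuleCat.{u} A) i).obj
    (op (ModuleCat.of A (A ⧸ I ^ (unop (unop k)))))).obj (ModuleCat.of A N))
  obtain ⟨e⟩ := Groth.Agent.Helper1.ExtBridgeLin.nonempty_linearEquiv
    (ModuleCat.of A (A ⧸ I ^ (unop (unop k)))) (ModuleCat.of A N) i
  rw [ModuleCat.isZero_iff_subsingleton]
  haveI := h (unop (unop k))
  haveI : Subsingleton (Abelian.Ext.{u} (ModuleCat.of A (A ⧸ I ^ (unop (unop k))))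
      (ModuleCat.of A N) i) :=
    ⟨fun a b => (a.eq_zero_of_hasProjectiveDimensionLT i le_rfl).trans
      (b.eq_zero_of_hasProjectiveDimensionLT i le_rfl).symm⟩
  exact e.toEquiv.subsingleton

/-- if the local rings at the primes containing `I` are regular of dimension `< i`, the modules
`A/I^k` have projective dimension `< i` -/
theorem pdLT_quot_pow {A : Type u} [CommRing A] [IsNoetherianRing A] (I : Ideal A) (i : ℕ)
    (h : ∀ p : PrimeSpectrum A, I ≤ p.asIdeal →
      IsRegularLocalRing (Localization.AtPrime p.asIdeal) ∧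
        ringKrullDim (Localization.AtPrime p.asIdeal) < (i : WithBot ℕ∞)) (k : ℕ) :
    HasProjectiveDimensionLT (ModuleCat.of A (A ⧸ I ^ k)) i := by
  have key : ∀ p : PrimeSpectrum A, HasProjectiveDimensionLT
      ((ModuleCat.of A (A ⧸ I ^ k)).localizedModule p.asIdeal.primeCompl) i := by
    intro p
    by_cases hp : I ≤ p.asIdeal
    · obtain ⟨hreg, hdim⟩ := h p hp
      have hne_bot : ringKrullDim (Localization.AtPrime p.asIdeal) ≠ ⊥ := ringKrullDim_ne_bot
      obtain ⟨d', hd'⟩ := WithBot.ne_bot_iff_exists.mp hne_bot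
      have hd'lt : d' < (i : ℕ∞) := by
        rw [← hd'] at hdim
        exact_mod_cast hdim
      obtain ⟨d, hd⟩ := ENat.ne_top_iff_exists.mp (ne_top_of_lt hd'lt)
      have hdim' : ringKrullDim (Localization.AtPrime p.asIdeal) = (d : ℕ) := by
        rw [← hd', ← hd]; rfl
      have hdi : d < i := by
        rw [← hd] at hd'lt
        exact_mod_cast hd'lt
      have := Groth.Agent.Helper1.TorLib.hasProjectiveDimensionLT_of_isRegularLocalRing d hdim'
        ((ModuleCat.of A (A ⧸ I ^ k)).localizedModule p.asIdeal.primeCompl)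
      exact hasProjectiveDimensionLT_of_ge _ (d + 1) i (by omega)
    · obtain ⟨a, haI, hap⟩ := SetLike.not_le_iff_exists.1 hp
      have hsub : Subsingleton (LocalizedModule p.asIdeal.primeCompl (A ⧸ I ^ k)) := by
        rw [LocalizedModule.subsingleton_iff]
        intro m
        refine ⟨a ^ k, pow_mem (show a ∈ p.asIdeal.primeCompl from hap) k, ?_⟩
        obtain ⟨x, rfl⟩ := Ideal.Quotient.mk_surjective m
        have h1 : (a ^ k) • (Ideal.Quotient.mk (I ^ k) x) =
            Ideal.Quotient.mk (I ^ k) (a ^ k * x) := rfl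
        rw [h1, Ideal.Quotient.eq_zero_iff_mem]
        exact Ideal.mul_mem_right _ _ (Ideal.pow_mem_pow haI k)
      haveI : Subsingleton ((ModuleCat.of A (A ⧸ I ^ k)).localizedModule p.asIdeal.primeCompl) :=
        (equivShrink (LocalizedModule p.asIdeal.primeCompl (A ⧸ I ^ k))).symm.subsingleton
      have hz : IsZero ((ModuleCat.of A (A ⧸ I ^ k)).localizedModule p.asIdeal.primeCompl) :=
        ModuleCat.isZero_of_subsingleton _
      haveI := hz.hasProjectiveDimensionLT_zero
      exact hasProjectiveDimensionLT_of_ge _ 0 i (Nat.zero_le _)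
  rcases i with _ | n
  · -- no prime contains `I`
    have hI : I = ⊤ := by
      by_contra hne
      obtain ⟨m, hm, hIm⟩ := Ideal.exists_le_maximal I hne
      obtain ⟨-, hdim⟩ := h ⟨m, hm.isPrime⟩ hIm
      have h0 : (0 : WithBot ℕ∞) ≤ ringKrullDim (Localization.AtPrime m) :=
        ringKrullDim_nonneg_of_nontrivial
      exact absurd (lt_of_le_of_lt h0 hdim) (by simp)
    haveI : Subsingleton (A ⧸ I ^ k) := by
      rw [hI, Ideal.top_pow]
      exact Ideal.Quotient.subsingleton_iff.2 rfl
    exact (ModuleCat.isZero_of_subsingleton _).hasProjectiveDimensionLT_zero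
  · exact (ModuleCat.hasProjectiveDimensionLE_iff_forall_primeSpectrum n
      (ModuleCat.of A (A ⧸ I ^ k))).2 key

end Groth.Agent.Lead.HZAff
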