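import Mathlib
import Groth.Agent.Lead.HZAffC
import Groth.Agent.Lead.HZAffE
import Groth.Agent.Helper9.HZshCrit
import Groth.Agent.Helper1.SerreE

/-! vanishing of `ℋ^i_Z(G)` above the dimension, on a regular locally Noetherian scheme -/

set_option autoImplicit false
set_option linter.style.haveILetI false
set_option linter.unusedSectionVars false
universe u

open CategoryTheory CategoryTheory.Limits AlgebraicGeometry Opposite TopologicalSpace

namespace Groth.Agent.Lead.HZAff

open Groth.Agent.Helper1 Groth.Agent.Helper4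

variable {X : Scheme.{u}} [IsLocallyNoetherian X] (U : X.Opens) (M : X.Modules)

/-- a presheaf-level criterion: `ℋ^i_Z(F) = 0` if `H^i_{Z∩V}(V, F) = 0` for all affine opens `V` -/
theorem isZero_HZsh_of_affine (F : CohTop.Ab X.carrier) (i : ℕ)
    (h : ∀ V : X.Opens, IsAffineOpen V →
      Subsingleton (LocCohZ.HZ (X := X.carrier) F i (inf_le_left : V ⊓ U ≤ V))) :
    IsZero ((LocCohZ.HZsh (X := X.carrier) U i).obj F) := by
  refine IsZero.of_iso ?_ ((Groth.Agent.Helper9.HZshPsh.HZshIso (X := X.carrier) U i).app F)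
  change IsZero ((presheafToSheaf (Opens.grothendieckTopology X.carrier) AddCommGrpCat.{u}).obj
    ((Groth.Agent.Helper9.ExtPshDelta.T.{u}
      (Groth.Agent.Helper9.HZshPsh.G (X := X.carrier) (le_top : U ≤ ⊤)) i).obj F))
  apply Groth.Agent.Helper1.Serre.isZero_sheafify_of_basis _ {V | IsAffineOpen V}
    X.isBasis_affineOpens
  intro V hV
  exact (Groth.Agent.Helper9.HZshVanish.subsingleton_HZ_iff_of_eq (X := X.carrier) F i
    (Groth.Agent.Helper9.HZshVanish.hV U V) (Groth.Agent.Helper9.HZshPsh.hp U V) (inf_comm _ _)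
    (top_inf_eq _).symm).1 (h V hV)

theorem regular_dim_of_prime {W' : X.Opens} (hW' : IsAffineOpen W')
    (hreg : ∀ x : X, IsRegularLocalRing (X.presheaf.stalk x)) (i : ℕ)
    (hi : ∀ x : X, x ∉ (U : Set X) → ringKrullDim (X.presheaf.stalk x) < (i : WithBot ℕ∞))
    (p : PrimeSpectrum Γ(X, W')) (hp : ExtDepth.idealOf hW' U ≤ p.asIdeal) :
    IsRegularLocalRing (Localization.AtPrime p.asIdeal) ∧
      ringKrullDim (Localization.AtPrime p.asIdeal) < (i : WithBot ℕ∞) := by
  have hxW : hW'.fromSpec p ∈ W' := by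
    have h1 : hW'.fromSpec p ∈ Set.range hW'.fromSpec := Set.mem_range_self p
    rw [hW'.range_fromSpec] at h1
    exact h1
  have hxU : hW'.fromSpec p ∉ (U : Set X) := (ExtDepth.idealOf_le_iff hW' U p).1 hp
  letI : Algebra Γ(X, W') (X.presheaf.stalk (hW'.fromSpec p)) :=
    TopCat.Presheaf.algebra_section_stalk X.presheaf ⟨hW'.fromSpec p, hxW⟩
  haveI : IsLocalization.AtPrime (X.presheaf.stalk (hW'.fromSpec p)) p.asIdeal :=
    hW'.isLocalization_stalk' p hxW
  let e : Localization.AtPrime p.asIdeal ≃ₐ[Γ(X, W')] X.presheaf.stalk (hW'.fromSpec p) :=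
    IsLocalization.algEquiv p.asIdeal.primeCompl _ _
  haveI := hreg (hW'.fromSpec p)
  refine ⟨IsRegularLocalRing.of_ringEquiv e.symm.toRingEquiv, ?_⟩
  rw [ringKrullDim_eq_of_ringEquiv e.toRingEquiv]
  exact hi _ hxU

theorem isZero_HZsh_of_regular (hreg : ∀ x : X, IsRegularLocalRing (X.presheaf.stalk x))
    [M.IsQuasicoherent] (i : ℕ)
    (hi : ∀ x : X, x ∉ (U : Set X) → ringKrullDim (X.presheaf.stalk x) < (i : WithBot ℕ∞)) :
    IsZero ((LocCohZ.HZsh (X := X.carrier) U i).obj (Coh.toAb M)) := by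
  apply isZero_HZsh_of_affine
  intro W hW
  have hW2 := isAffineOpen_image_top hW
  haveI hN2 : IsNoetherianRing Γ(X, W.ι ''ᵁ ⊤) :=
    IsLocallyNoetherian.component_noetherian ⟨_, hW2⟩
  haveI : IsNoetherianRing Γ((W : Scheme.{u}), ⊤) := hN2
  obtain ⟨s, hs⟩ := (IsNoetherian.noetherian (idealW U hW) : (idealW U hW).FG)
  let fs : List Γ((W : Scheme.{u}), ⊤) := s.toList
  have hfs : Ideal.span {a | a ∈ fs} = idealW U hW := by
    rw [← hs]
    congr 1
    ext a
    exact (Finset.mem_toList (s := s) (a := a))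
  rw [affine_single U M hW fs hfs i]
  apply subsingleton_lc_of_pd
  intro k
  apply pdLT_quot_pow
  intro p hp
  rw [hfs] at hp
  exact regular_dim_of_prime U hW2 hreg i hi p hp

end Groth.Agent.Lead.HZAff
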