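import Mathlib.RingTheory.Henselian
import Mathlib.Dynamics.Newton
import Mathlib.Algebra.Polynomial.Lifts
import Mathlib.RingTheory.Ideal.Quotient.Operations
import Mathlib.RingTheory.Jacobson.Ideal

set_option autoImplicit false
universe u

open Polynomial

namespace Groth.Agent.Lead

variable {A : Type u} [CommRing A]

/-- A unit modulo an ideal contained in the Jacobson radical is a unit. -/
theorem isUnit_of_isUnit_mk {I : Ideal A} (hI : I ≤ Ideal.jacobson ⊥) {x : A}
    (hx : IsUnit (Ideal.Quotient.mk I x)) : IsUnit x :=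
  (isLocalHom_of_le_jacobson_bot I hI).map_nonunit _ hx

/-- Adding an element of the Jacobson radical to a unit gives a unit. -/
theorem isUnit_add_of_mem_jacobson {u j : A} (hu : IsUnit u) (hj : j ∈ Ideal.jacobson (⊥ : Ideal A)) :
    IsUnit (u + j) := by
  obtain ⟨u, rfl⟩ := hu
  have h := (Ideal.mem_jacobson_bot.mp hj) (↑u⁻¹ : A)
  have : (↑u : A) + j = ↑u * (j * ↑u⁻¹ + 1) := by
    rw [mul_add, mul_one, mul_comm j, ← mul_assoc, Units.mul_inv, one_mul, add_comm]
  rw [this]
  exact u.isUnit.mul h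

/-- The image of the Jacobson radical under a surjection lies in the Jacobson radical. -/
theorem map_le_jacobson_bot {B : Type u} [CommRing B] (φ : A →+* B) (hφ : Function.Surjective φ)
    {J : Ideal A} (hJ : J ≤ Ideal.jacobson ⊥) : J.map φ ≤ Ideal.jacobson ⊥ := by
  intro y hy
  obtain ⟨x, hx, rfl⟩ := (Ideal.mem_map_iff_of_surjective φ hφ).mp hy
  rw [Ideal.mem_jacobson_bot]
  intro z
  obtain ⟨w, rfl⟩ := hφ z
  have := (Ideal.mem_jacobson_bot.mp (hJ hx)) w
  simpa using this.map φ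

/-- Two roots of `f` that differ by an element of the Jacobson radical, at one of which the
derivative is a unit, coincide. -/
theorem root_unique_of_sub_mem_jacobson (f : A[X]) {a b : A} (ha : f.eval a = 0) (hb : f.eval b = 0)
    (hab : a - b ∈ Ideal.jacobson (⊥ : Ideal A)) (hu : IsUnit (f.derivative.eval b)) : a = b := by
  obtain ⟨k, hk⟩ := Polynomial.binomExpansion f b (a - b)
  rw [add_sub_cancel, ha, hb, zero_add] at hk
  have h1 : (f.derivative.eval b + k * (a - b)) * (a - b) = 0 := by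
    rw [hk]; ring
  have h2 : IsUnit (f.derivative.eval b + k * (a - b)) :=
    isUnit_add_of_mem_jacobson hu (Ideal.mul_mem_left _ _ hab)
  exact sub_eq_zero.mp (h2.mul_right_eq_zero.mp h1)

/-- If `(A, J)` is henselian and `I ≤ J`, then `(A, I)` is henselian. -/
theorem henselianRing_of_le {I J : Ideal A} (hIJ : I ≤ J) [hJ : HenselianRing A J] :
    HenselianRing A I := by
  have hjac : I ≤ Ideal.jacobson ⊥ := hIJ.trans hJ.jac
  refine ⟨hjac, fun f hf a₀ h₁ h₂ => ?_⟩
  have hunit : IsUnit (f.derivative.eval a₀) := isUnit_of_isUnit_mk hjac h₂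
  obtain ⟨a, ha, haa⟩ := hJ.is_henselian f hf a₀ (hIJ h₁) (hunit.map _)
  refine ⟨a, ha, ?_⟩
  -- uniqueness in A/I
  have hjacI : J.map (Ideal.Quotient.mk I) ≤ Ideal.jacobson ⊥ :=
    map_le_jacobson_bot _ Ideal.Quotient.mk_surjective hJ.jac
  have e : Ideal.Quotient.mk I a = Ideal.Quotient.mk I a₀ := by
    apply root_unique_of_sub_mem_jacobson (f.map (Ideal.Quotient.mk I))
    · rw [Polynomial.eval_map, Polynomial.eval₂_hom, ha, map_zero]
    · rw [Polynomial.eval_map, Polynomial.eval₂_hom]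
      exact Ideal.Quotient.eq_zero_iff_mem.mpr h₁
    · rw [← map_sub]
      exact hjacI (Ideal.mem_map_of_mem _ haa)
    · rw [Polynomial.derivative_map, Polynomial.eval_map, Polynomial.eval₂_hom]
      exact h₂
  exact Ideal.Quotient.eq.mp e

/-- If `(A, J)` is henselian and `I ≤ J`, then `(A ⧸ I, J / I)` is henselian. -/
theorem henselianRing_quotient_of_le {I J : Ideal A} (hIJ : I ≤ J) [hJ : HenselianRing A J] :
    HenselianRing (A ⧸ I) (J.map (Ideal.Quotient.mk I)) := by
  have hjacI : J.map (Ideal.Quotient.mk I) ≤ Ideal.jacobson ⊥ :=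
    map_le_jacobson_bot _ Ideal.Quotient.mk_surjective hJ.jac
  refine ⟨hjacI, fun g hg b₀ h₁ h₂ => ?_⟩
  rcases subsingleton_or_nontrivial (A ⧸ I) with hsub | hnt
  · exact ⟨b₀, Subsingleton.elim _ _, by simp⟩
  obtain ⟨f, hfg, -, hf⟩ := Polynomial.lifts_and_degree_eq_and_monic
    (Polynomial.mem_lifts_of_surjective Ideal.Quotient.mk_surjective g) hg
  obtain ⟨a₀, rfl⟩ := Ideal.Quotient.mk_surjective b₀
  have hmem : ∀ x : A, Ideal.Quotient.mk I x ∈ J.map (Ideal.Quotient.mk I) → x ∈ J := by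
    intro x hx
    obtain ⟨y, hy, hxy⟩ := (Ideal.mem_map_iff_of_surjective _ Ideal.Quotient.mk_surjective).mp hx
    have : y - x ∈ I := Ideal.Quotient.eq.mp hxy
    have : x = y - (y - x) := by ring
    rw [this]
    exact J.sub_mem hy (hIJ ‹_›)
  have e1 : g.eval (Ideal.Quotient.mk I a₀) = Ideal.Quotient.mk I (f.eval a₀) := by
    rw [← hfg, Polynomial.eval_map, Polynomial.eval₂_hom]
  have e2 : g.derivative.eval (Ideal.Quotient.mk I a₀) =
      Ideal.Quotient.mk I (f.derivative.eval a₀) := by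
    rw [← hfg, Polynomial.derivative_map, Polynomial.eval_map, Polynomial.eval₂_hom]
  have h₁' : f.eval a₀ ∈ J := hmem _ (e1 ▸ h₁)
  have hunit : IsUnit (f.derivative.eval a₀) := by
    have : IsUnit (g.derivative.eval (Ideal.Quotient.mk I a₀)) := isUnit_of_isUnit_mk hjacI h₂
    rw [e2] at this
    exact isUnit_of_isUnit_mk (hIJ.trans hJ.jac) this
  obtain ⟨a, ha, haa⟩ := hJ.is_henselian f hf a₀ h₁' (hunit.map _)
  refine ⟨Ideal.Quotient.mk I a, ?_, ?_⟩
  · rw [Polynomial.IsRoot, ← hfg, Polynomial.eval_map, Polynomial.eval₂_hom, ha, map_zero]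
  · rw [← map_sub]; exact Ideal.mem_map_of_mem _ haa

/-- If `(A, I)` and `(A ⧸ I, J / I)` are henselian with `I ≤ J`, then `(A, J)` is henselian. -/
theorem henselianRing_of_quotient {I J : Ideal A} (hIJ : I ≤ J) [hI : HenselianRing A I]
    [hJI : HenselianRing (A ⧸ I) (J.map (Ideal.Quotient.mk I))] : HenselianRing A J := by
  have hmem : ∀ x : A, Ideal.Quotient.mk I x ∈ J.map (Ideal.Quotient.mk I) → x ∈ J := by
    intro x hx
    obtain ⟨y, hy, hxy⟩ := (Ideal.mem_map_iff_of_surjective _ Ideal.Quotient.mk_surjective).mp hx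
    have : y - x ∈ I := Ideal.Quotient.eq.mp hxy
    have : x = y - (y - x) := by ring
    rw [this]
    exact J.sub_mem hy (hIJ ‹_›)
  have hjac : J ≤ Ideal.jacobson ⊥ := by
    intro x hx
    rw [Ideal.mem_jacobson_bot]
    intro y
    have h1 : Ideal.Quotient.mk I x ∈ Ideal.jacobson (⊥ : Ideal (A ⧸ I)) :=
      hJI.jac (Ideal.mem_map_of_mem _ hx)
    have h2 := (Ideal.mem_jacobson_bot.mp h1) (Ideal.Quotient.mk I y)
    rw [← map_mul, ← map_one (Ideal.Quotient.mk I), ← map_add] at h2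
    exact isUnit_of_isUnit_mk hI.jac h2
  refine ⟨hjac, fun f hf a₀ h₁ h₂ => ?_⟩
  have hunit : IsUnit (f.derivative.eval a₀) := isUnit_of_isUnit_mk hjac h₂
  -- step 1: root in A/I
  have s1 : (f.map (Ideal.Quotient.mk I)).eval (Ideal.Quotient.mk I a₀) ∈
      J.map (Ideal.Quotient.mk I) := by
    rw [Polynomial.eval_map, Polynomial.eval₂_hom]; exact Ideal.mem_map_of_mem _ h₁
  have s2 : IsUnit (Ideal.Quotient.mk (J.map (Ideal.Quotient.mk I))
      ((f.map (Ideal.Quotient.mk I)).derivative.eval (Ideal.Quotient.mk I a₀))) := by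
    rw [Polynomial.derivative_map, Polynomial.eval_map, Polynomial.eval₂_hom]
    exact (hunit.map _).map _
  obtain ⟨b, hb, hbb⟩ := hJI.is_henselian _ (hf.map _) _ s1 s2
  obtain ⟨a₁, rfl⟩ := Ideal.Quotient.mk_surjective b
  rw [← map_sub] at hbb
  have h3 : a₁ - a₀ ∈ J := hmem _ hbb
  have h4 : f.eval a₁ ∈ I := by
    rw [Polynomial.IsRoot, Polynomial.eval_map, Polynomial.eval₂_hom] at hb
    exact Ideal.Quotient.eq_zero_iff_mem.mp hb
  -- derivative at a₁ is a unit
  have h5 : IsUnit (f.derivative.eval a₁) := by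
    obtain ⟨k, hk⟩ := Polynomial.evalSubFactor f.derivative a₁ a₀
    have : f.derivative.eval a₁ = f.derivative.eval a₀ + k * (a₁ - a₀) := by
      rw [← hk]; ring
    rw [this]
    exact isUnit_add_of_mem_jacobson hunit (Ideal.mul_mem_left _ _ (hjac h3))
  obtain ⟨a, ha, haa⟩ := hI.is_henselian f hf a₁ h4 (h5.map _)
  refine ⟨a, ha, ?_⟩
  have : a - a₀ = (a - a₁) + (a₁ - a₀) := by ring
  rw [this]
  exact J.add_mem (hIJ haa) h3

/-- A locally nilpotent ideal is henselian. -/
theorem henselianRing_of_locally_nilpotent (I : Ideal A) (hI : ∀ x ∈ I, IsNilpotent x) :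
    HenselianRing A I := by
  have hnilrad : I ≤ nilradical A := fun x hx => mem_nilradical.mpr (hI x hx)
  have hjac : I ≤ Ideal.jacobson ⊥ := hnilrad.trans (Ideal.radical_le_jacobson)
  refine ⟨hjac, fun f _ a₀ h₁ h₂ => ?_⟩
  have hunitA : IsUnit (Polynomial.eval a₀ (Polynomial.derivative f)) :=
    isUnit_of_isUnit_mk hjac h₂
  have hnil : IsNilpotent (Polynomial.aeval a₀ f) := by
    rw [Polynomial.coe_aeval_eq_eval]; exact hI _ h₁
  have hunit : IsUnit (Polynomial.aeval a₀ (Polynomial.derivative f)) := by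
    rwa [Polynomial.coe_aeval_eq_eval]
  obtain ⟨r, ⟨hr1, hr2⟩, -⟩ := Polynomial.existsUnique_nilpotent_sub_and_aeval_eq_zero hnil hunit
  rw [Polynomial.coe_aeval_eq_eval] at hr2
  refine ⟨r, hr2, ?_⟩
  have hjacI : (nilradical A).map (Ideal.Quotient.mk I) ≤ Ideal.jacobson ⊥ :=
    map_le_jacobson_bot _ Ideal.Quotient.mk_surjective Ideal.radical_le_jacobson
  have e : Ideal.Quotient.mk I r = Ideal.Quotient.mk I a₀ := by
    apply root_unique_of_sub_mem_jacobson (f.map (Ideal.Quotient.mk I))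
    · rw [Polynomial.eval_map, Polynomial.eval₂_hom, hr2, map_zero]
    · rw [Polynomial.eval_map, Polynomial.eval₂_hom]
      exact Ideal.Quotient.eq_zero_iff_mem.mpr h₁
    · rw [← map_sub]
      refine hjacI (Ideal.mem_map_of_mem _ ?_)
      rw [mem_nilradical, ← neg_sub]; exact hr1.neg
    · rw [Polynomial.derivative_map, Polynomial.eval_map, Polynomial.eval₂_hom]
      exact h₂
  exact Ideal.Quotient.eq.mp e

/-- `(A, I)` is henselian iff `(A, √I)` is. -/
theorem henselianRing_radical_iff (I : Ideal A) : HenselianRing A I.radical ↔ HenselianRing A I := by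
  constructor
  · intro h
    exact henselianRing_of_le Ideal.le_radical
  · intro h
    have : HenselianRing (A ⧸ I) (I.radical.map (Ideal.Quotient.mk I)) := by
      apply henselianRing_of_locally_nilpotent
      intro y hy
      obtain ⟨x, ⟨n, hn⟩, rfl⟩ :=
        (Ideal.mem_map_iff_of_surjective _ Ideal.Quotient.mk_surjective).mp hy
      exact ⟨n, by rw [← map_pow]; exact Ideal.Quotient.eq_zero_iff_mem.mpr hn⟩
    exact henselianRing_of_quotient (I := I) Ideal.le_radical

/-- The sum of two henselian ideals is henselian. -/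
theorem henselianRing_sup {I₁ I₂ : Ideal A} (h1 : HenselianRing A I₁) (h2 : HenselianRing A I₂) :
    HenselianRing A (I₁ ⊔ I₂) := by
  have hjac : I₁ ⊔ I₂ ≤ Ideal.jacobson ⊥ := sup_le h1.jac h2.jac
  refine ⟨hjac, fun f hf a₀ h₁ h₂ => ?_⟩
  rcases subsingleton_or_nontrivial A with hsub | hnt
  · exact ⟨a₀, Subsingleton.elim _ _, by simp⟩
  have hunit : IsUnit (f.derivative.eval a₀) := isUnit_of_isUnit_mk hjac h₂
  obtain ⟨i₁, hi₁, i₂, hi₂, hsum⟩ := Submodule.mem_sup.mp h₁
  have hdeg : 0 < f.degree := by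
    by_contra hcon
    have h0 : f.natDegree = 0 := by
      rw [← Polynomial.natDegree_pos_iff_degree_pos] at hcon
      omega
    have hf1 : f = 1 := by
      rw [Polynomial.eq_C_of_natDegree_eq_zero h0]
      have : f.coeff 0 = 1 := by
        have := hf.coeff_natDegree
        rwa [h0] at this
      rw [this, map_one]
    rw [hf1, Polynomial.eval_one] at h₁
    have := (Ideal.mem_jacobson_bot.mp (hjac h₁)) (-1)
    simp at this
  have hf1 : (f - Polynomial.C i₂).Monic :=
    hf.sub_of_left (lt_of_le_of_lt Polynomial.degree_C_le hdeg)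
  have e1 : (f - Polynomial.C i₂).eval a₀ ∈ I₁ := by
    rw [Polynomial.eval_sub, Polynomial.eval_C, ← hsum, add_sub_cancel_right]; exact hi₁
  have e2 : (f - Polynomial.C i₂).derivative = f.derivative := by
    rw [Polynomial.derivative_sub, Polynomial.derivative_C, sub_zero]
  obtain ⟨a₁, ha₁, haa₁⟩ := h1.is_henselian _ hf1 a₀ e1 (by rw [e2]; exact hunit.map _)
  rw [Polynomial.IsRoot, Polynomial.eval_sub, Polynomial.eval_C, sub_eq_zero] at ha₁
  have h5 : IsUnit (f.derivative.eval a₁) := by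
    obtain ⟨k, hk⟩ := Polynomial.evalSubFactor f.derivative a₁ a₀
    have : f.derivative.eval a₁ = f.derivative.eval a₀ + k * (a₁ - a₀) := by
      rw [← hk]; ring
    rw [this]
    exact isUnit_add_of_mem_jacobson hunit (Ideal.mul_mem_left _ _ (h1.jac haa₁))
  obtain ⟨a, ha, haa⟩ := h2.is_henselian f hf a₁ (ha₁ ▸ hi₂) (h5.map _)
  refine ⟨a, ha, ?_⟩
  have : a - a₀ = (a₁ - a₀) + (a - a₁) := by ring
  rw [this]
  exact Submodule.add_mem_sup haa₁ haa

/-- There is a largest henselian ideal. -/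
theorem exists_largest_henselian_ideal (A : Type u) [CommRing A] :
    ∃ I : Ideal A, HenselianRing A I ∧ ∀ J : Ideal A, HenselianRing A J → J ≤ I := by
  let S : Set (Ideal A) := {I | HenselianRing A I}
  have hne : S.Nonempty := ⟨⊥, henselianRing_of_locally_nilpotent ⊥ (fun x hx => by
    rw [Ideal.mem_bot] at hx; rw [hx]; exact IsNilpotent.zero)⟩
  have hdir : DirectedOn (· ≤ ·) S := fun I hI J hJ =>
    ⟨I ⊔ J, henselianRing_sup hI hJ, le_sup_left, le_sup_right⟩
  have hjac : sSup S ≤ Ideal.jacobson ⊥ := sSup_le fun I hI => hI.jac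
  refine ⟨sSup S, ⟨hjac, fun f hf a₀ h₁ h₂ => ?_⟩, fun J hJ => le_sSup hJ⟩
  have hunit : IsUnit (f.derivative.eval a₀) := isUnit_of_isUnit_mk hjac h₂
  obtain ⟨I, hI, hfI⟩ := (Submodule.mem_sSup_of_directed hne hdir).mp h₁
  obtain ⟨a, ha, haa⟩ := hI.is_henselian f hf a₀ hfI (hunit.map _)
  exact ⟨a, ha, le_sSup hI haa⟩

end Groth.Agent.Lead
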