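import Mathlib

/-! # Henselian pairs and products -/

namespace Groth.Agent.Lead
open Polynomial

universe u

theorem pi_henselian_of_forall (J : Type u) (A : J → Type u) [∀ j, CommRing (A j)]
    (I : ∀ j, Ideal (A j)) (h : ∀ j, HenselianRing (A j) (I j)) :
    HenselianRing (∀ j, A j) (⨅ j, Ideal.comap (Pi.evalRingHom A j) (I j)) := by
  have mem_iff : ∀ x : (∀ j, A j), x ∈ (⨅ j, Ideal.comap (Pi.evalRingHom A j) (I j)) ↔
      ∀ j, x j ∈ I j := by
    intro x; simp [Ideal.mem_iInf, Ideal.mem_comap]
  constructor
  · intro x hx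
    rw [Ideal.mem_jacobson_bot]
    intro y
    rw [Pi.isUnit_iff]
    intro j
    have := (h j).jac ((mem_iff x).mp hx j)
    rw [Ideal.mem_jacobson_bot] at this
    exact this (y j)
  · intro f hf a₀ h1 h2
    obtain ⟨b, hb⟩ := h2.exists_right_inv
    obtain ⟨b, rfl⟩ := Ideal.Quotient.mk_surjective b
    rw [← map_mul, ← map_one (Ideal.Quotient.mk _), Ideal.Quotient.eq, mem_iff] at hb
    have key : ∀ j, ∃ a : A j, (f.map (Pi.evalRingHom A j)).IsRoot a ∧ a - a₀ j ∈ I j := by
      intro j
      apply (h j).is_henselian (f.map (Pi.evalRingHom A j)) (hf.map _) (a₀ j)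
      · have : (f.map (Pi.evalRingHom A j)).eval (a₀ j) = (f.eval a₀) j := by
          have := Polynomial.eval₂_at_apply (p := f) (Pi.evalRingHom A j) a₀
          rw [← Polynomial.eval_map] at this
          exact this
        rw [this]
        exact (mem_iff _).mp h1 j
      · have e1 : (f.map (Pi.evalRingHom A j)).derivative.eval (a₀ j) = (f.derivative.eval a₀) j := by
          rw [Polynomial.derivative_map]
          have := Polynomial.eval₂_at_apply (p := f.derivative) (Pi.evalRingHom A j) a₀
          rw [← Polynomial.eval_map] at this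
          exact this
        rw [e1]
        refine IsUnit.of_mul_eq_one (Ideal.Quotient.mk (I j) (b j)) ?_
        rw [← map_mul, ← map_one (Ideal.Quotient.mk _), Ideal.Quotient.eq]
        exact hb j
    choose a ha1 ha2 using key
    refine ⟨a, ?_, (mem_iff _).mpr ha2⟩
    funext j
    have := Polynomial.eval₂_at_apply (p := f) (Pi.evalRingHom A j) a
    rw [← Polynomial.eval_map] at this
    have h3 : (f.eval a) j = 0 := by
      rw [← Pi.evalRingHom_apply (f := A) j (f.eval a)]
      rw [← this]
      exact ha1 j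
    simpa using h3

theorem forall_henselian_of_pi (J : Type u) (A : J → Type u) [∀ j, CommRing (A j)]
    (I : ∀ j, Ideal (A j))
    (h : HenselianRing (∀ j, A j) (⨅ j, Ideal.comap (Pi.evalRingHom A j) (I j))) (j : J) :
    HenselianRing (A j) (I j) := by
  classical
  have mem_iff : ∀ x : (∀ j, A j), x ∈ (⨅ j, Ideal.comap (Pi.evalRingHom A j) (I j)) ↔
      ∀ j, x j ∈ I j := by
    intro x; simp [Ideal.mem_comap]
  have evalmap : ∀ (F : (∀ j, A j)[X]) (x : ∀ j, A j) (i : J),
      (F.map (Pi.evalRingHom A i)).eval (x i) = (F.eval x) i := by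
    intro F x i
    have := Polynomial.eval₂_at_apply (p := F) (Pi.evalRingHom A i) x
    rw [← Polynomial.eval_map] at this
    exact this
  have hjac : I j ≤ Ideal.jacobson ⊥ := by
    intro x hx
    rw [Ideal.mem_jacobson_bot]
    intro y
    have hx' : Pi.single j x ∈ (⨅ j, Ideal.comap (Pi.evalRingHom A j) (I j)) := by
      rw [mem_iff]
      intro i
      by_cases hij : i = j
      · subst hij; simpa using hx
      · rw [Pi.single_eq_of_ne hij]; exact zero_mem _
    have := h.jac hx'
    rw [Ideal.mem_jacobson_bot] at this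
    have := (this (Pi.single j y)).map (Pi.evalRingHom A j)
    simpa using this
  refine ⟨hjac, ?_⟩
  intro g hg a₀ h1 h2
  obtain ⟨b, hb⟩ := h2.exists_right_inv
  obtain ⟨b, rfl⟩ := Ideal.Quotient.mk_surjective b
  rw [← map_mul, ← map_one (Ideal.Quotient.mk _), Ideal.Quotient.eq] at hb
  rcases Nat.eq_zero_or_pos g.natDegree with hn | hn
  · -- degree zero: g = 1, so the ring is trivial
    have hg1 : g = 1 := hg.natDegree_eq_zero.mp hn
    rw [hg1, eval_one] at h1
    have : (1 : A j) ∈ Ideal.jacobson (⊥ : Ideal (A j)) := hjac h1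
    rw [Ideal.mem_jacobson_bot] at this
    have h0 := this (-1)
    simp at h0
    have : Subsingleton (A j) := subsingleton_iff_zero_eq_one.mp h0
    exact ⟨a₀, Subsingleton.elim _ _, by simp [Subsingleton.elim (a₀ - a₀) 0]⟩
  obtain ⟨m, hm⟩ : ∃ m, g.natDegree = m + 1 := ⟨g.natDegree - 1, by omega⟩
  -- the family of polynomials
  let G : ∀ i, (A i)[X] := Function.update (fun i => (X ^ (m + 1) - X ^ m : (A i)[X])) j g
  have hGj : G j = g := Function.update_self ..
  have hGi : ∀ i, i ≠ j → G i = X ^ (m + 1) - X ^ m := fun i hi => Function.update_of_ne hi ..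
  have hGdeg : ∀ i, (G i).natDegree ≤ m + 1 := by
    intro i
    by_cases hij : i = j
    · subst hij; rw [hGj, hm]
    · rw [hGi i hij]
      refine (natDegree_sub_le _ _).trans (max_le (natDegree_X_pow_le _) ?_)
      exact (natDegree_X_pow_le _).trans (Nat.le_succ m)
  have hGcoeff : ∀ i, (G i).coeff (m + 1) = 1 := by
    intro i
    by_cases hij : i = j
    · subst hij; rw [hGj, ← hm]; exact hg.coeff_natDegree
    · rw [hGi i hij]; simp [coeff_X_pow]
  let F : (∀ j, A j)[X] := ∑ k ∈ Finset.range (m + 2), monomial k (fun i => (G i).coeff k)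
  have hFmap : ∀ i, F.map (Pi.evalRingHom A i) = G i := by
    intro i
    simp only [F, Polynomial.map_sum, map_monomial, Pi.evalRingHom_apply]
    exact ((G i).as_sum_range' (m + 2) (by have := hGdeg i; omega)).symm
  have hFmonic : F.Monic := by
    apply monic_of_natDegree_le_of_coeff_eq_one (m + 1)
    · apply natDegree_sum_le_of_forall_le
      intro k hk
      exact (natDegree_monomial_le _).trans (by simp at hk; omega)
    · simp only [F, finsetSum_coeff, coeff_monomial]
      rw [Finset.sum_eq_single (m + 1)]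
      · simp only [if_true]; funext i; exact hGcoeff i
      · intro k _ hk; simp [hk]
      · intro hk; simp at hk
  let a₀' : ∀ i, A i := Function.update (fun i => (1 : A i)) j a₀
  let b' : ∀ i, A i := Function.update (fun i => (1 : A i)) j b
  have hrt : ∀ i, i ≠ j → (G i).eval (a₀' i) = 0 := by
    intro i hi
    rw [hGi i hi]
    simp [a₀', Function.update_of_ne hi]
  have hder : ∀ i, i ≠ j → (G i).derivative.eval (a₀' i) = 1 := by
    intro i hi
    rw [hGi i hi]
    simp only [a₀', Function.update_of_ne hi, derivative_sub, derivative_X_pow, eval_sub,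
      eval_mul, eval_pow, eval_X, one_pow, mul_one, eval_C, eval_natCast, Nat.add_sub_cancel,
      Nat.cast_add, Nat.cast_one]
    ring
  obtain ⟨a, ha1, ha2⟩ := h.is_henselian F hFmonic a₀' (by
    rw [mem_iff]
    intro i
    rw [← evalmap, hFmap]
    by_cases hij : i = j
    · subst hij; rw [hGj]; simpa [a₀'] using h1
    · rw [hrt i hij]; exact zero_mem _) (by
    refine IsUnit.of_mul_eq_one (Ideal.Quotient.mk _ b') ?_
    rw [← map_mul, ← map_one (Ideal.Quotient.mk _), Ideal.Quotient.eq, mem_iff]
    intro i
    have : (F.derivative.eval a₀' * b' - 1) i = (G i).derivative.eval (a₀' i) * b' i - 1 := by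
      rw [← hFmap i, Polynomial.derivative_map, evalmap]; rfl
    rw [this]
    by_cases hij : i = j
    · subst hij; rw [hGj]; simpa [a₀', b'] using hb
    · rw [hder i hij]; simp [b', Function.update_of_ne hij])
  refine ⟨a j, ?_, ?_⟩
  · rw [IsRoot, ← hGj, ← hFmap j, evalmap, ha1]; rfl
  · have := (mem_iff _).mp ha2 j
    simpa [a₀'] using this

end Groth.Agent.Lead
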