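import Groth.Agent.Lead.ModDict7
open TensorProduct

namespace Groth.Agent.Lead.HomDesc
open Groth.Agent.Lead.ModDict
universe u

section algebra
variable {A : Type*} [CommRing A] {B : Type*} [CommRing B] [Algebra A B]
  {J : Type*} {Bj : J → Type*} [∀ j, CommRing (Bj j)] [∀ j, Algebra A (Bj j)]
  {p : ∀ j, Bj j →ₐ[A] B} {T : ∀ j j', (Bj j →ₐ[A] Bj j') → Prop} (h : IsStageSystem Bj p T)
include h
variable {M N : Type*} [AddCommGroup M] [Module A M] [AddCommGroup N] [Module A N]

/-- a linear map from a finitely presented module into `N ⊗ B` lifts to a stage -/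
theorem hom_lift [Module.FinitePresentation A M] (θ : M →ₗ[A] N ⊗[A] B) (j : J) :
    ∃ j' t, T j j' t ∧ ∃ ν : M →ₗ[A] N ⊗[A] Bj j', (p j').toLinearMap.lTensor N ∘ₗ ν = θ := by
  classical
  obtain ⟨n, m, π, g, hπ, hex⟩ := Module.FinitePresentation.exists_fin' A M
  -- lift the images of the generators
  obtain ⟨j₁, t₁, ht₁, hw⟩ := exists_lTensor_eq_fin h n
    (fun k => θ (π (Pi.single k 1))) j
  choose w' hw' using hw
  let ν₀ : (Fin n → A) →ₗ[A] N ⊗[A] Bj j₁ := (Pi.basisFun A (Fin n)).constr A w'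
  have hν₀ : (p j₁).toLinearMap.lTensor N ∘ₗ ν₀ = θ ∘ₗ π := by
    apply (Pi.basisFun A (Fin n)).ext
    intro k
    rw [LinearMap.comp_apply, LinearMap.comp_apply, Module.Basis.constr_basis, hw',
      Pi.basisFun_apply]
  -- kill the relations
  obtain ⟨j₂, t₂, ht₂, hk⟩ := lTensor_eq_zero_stage_fin h m j₁
    (fun l => ν₀ (g (Pi.single l 1))) (by
      intro l
      have := congrArg (fun φ => φ (g (Pi.single l 1))) hν₀
      simp only [LinearMap.comp_apply] at this
      rw [this, hex.apply_apply_eq_zero, map_zero])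
  have hcomp : T j j₂ (t₂.comp t₁) := h.comp _ _ ht₁ ht₂
  let ν₁ : (Fin n → A) →ₗ[A] N ⊗[A] Bj j₂ := t₂.toLinearMap.lTensor N ∘ₗ ν₀
  have hker : LinearMap.ker π ≤ LinearMap.ker ν₁ := by
    rw [hex.linearMap_ker_eq]
    rintro _ ⟨y, rfl⟩
    rw [LinearMap.mem_ker]
    have hy : y = ∑ l, y l • (Pi.single l (1 : A) : Fin m → A) := by
      ext i
      simp [Finset.sum_apply, Pi.single_apply]
    rw [hy, map_sum, map_sum]
    refine Finset.sum_eq_zero fun l _ => ?_
    rw [map_smul, map_smul]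
    change y l • t₂.toLinearMap.lTensor N (ν₀ (g (Pi.single l 1))) = 0
    rw [hk l, smul_zero]
  let ν : M →ₗ[A] N ⊗[A] Bj j₂ :=
    (Submodule.liftQ _ ν₁ hker) ∘ₗ (LinearMap.quotKerEquivOfSurjective π hπ).symm.toLinearMap
  have hν : ν ∘ₗ π = ν₁ := by
    apply LinearMap.ext
    intro x
    simp only [ν, LinearMap.comp_apply, LinearEquiv.coe_coe]
    have : (LinearMap.quotKerEquivOfSurjective π hπ).symm (π x) =
        Submodule.Quotient.mk x := by
      rw [LinearEquiv.symm_apply_eq]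
      rfl
    rw [this, Submodule.liftQ_apply]
  refine ⟨j₂, t₂.comp t₁, hcomp, ν, ?_⟩
  apply LinearMap.ext
  intro x
  obtain ⟨y, rfl⟩ := hπ x
  have h1 := congrArg (fun φ => φ y) hν
  have h2 := congrArg (fun φ => φ y) hν₀
  simp only [LinearMap.comp_apply] at h1 h2 ⊢
  rw [h1, ← h2]
  change (p j₂).toLinearMap.lTensor N (t₂.toLinearMap.lTensor N (ν₀ y)) = _
  rw [← LinearMap.comp_apply, ← LinearMap.lTensor_comp, ← AlgHom.comp_toLinearMap,
    h.compat t₂ ht₂]

/-- two linear maps from a finite module into a stage which agree in `N ⊗ B` agree at a later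
stage -/
theorem hom_eq_stage [Module.Finite A M] (j : J) (ν ν' : M →ₗ[A] N ⊗[A] Bj j)
    (hνν' : (p j).toLinearMap.lTensor N ∘ₗ ν = (p j).toLinearMap.lTensor N ∘ₗ ν') :
    ∃ j' t, T j j' t ∧ t.toLinearMap.lTensor N ∘ₗ ν = t.toLinearMap.lTensor N ∘ₗ ν' := by
  obtain ⟨n, x, hx⟩ := Module.Finite.exists_fin (R := A) (M := M)
  obtain ⟨j', t, ht, hk⟩ := lTensor_eq_zero_stage_fin h n j
    (fun k => ν (x k) - ν' (x k)) (by
      intro k
      have := congrArg (fun φ => φ (x k)) hνν'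
      simp only [LinearMap.comp_apply] at this
      rw [map_sub, this, sub_self])
  refine ⟨j', t, ht, ?_⟩
  apply LinearMap.ext_on_range hx
  intro k
  have := hk k
  rw [map_sub, sub_eq_zero] at this
  exact this

end algebra

end Groth.Agent.Lead.HomDesc
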