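import Mathlib
import Groth.Agent.Helper4.TwistExt
import Groth.Agent.Helper4.StalkExact

/-!
# Gluing morphisms of modules from compatible data on the small affine opens of a cover
(affine variant of `Groth.Agent.Helper1.GlueHom`)
-/

set_option autoImplicit false

namespace Groth.Agent.Lead.HomDesc

open CategoryTheory Limits AlgebraicGeometry TopologicalSpace Opposite

universe u

section glue
variable {X : Scheme.{u}} {N L : X.Modules} {E : Type*} (W : E → X.Opens)

/-- the affine opens contained in a member of the family -/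
def SmallAff : Type u := {V : X.Opens // IsAffineOpen V ∧ ∃ e, V ≤ W e}

/-- the inclusion of the small affine opens -/
def inclAff : SmallAff W → Opens X := fun V => V.1

include W in
theorem isBasis_smallAff (hcov : ⨆ e, W e = ⊤) : Opens.IsBasis (Set.range (inclAff W)) := by
  rw [Opens.isBasis_iff_nbhd]
  intro U x hx
  have hx' : x ∈ ⨆ e, W e := by rw [hcov]; trivial
  obtain ⟨e, he⟩ := Opens.mem_iSup.1 hx'
  obtain ⟨_, ⟨V, hV : IsAffineOpen V, rfl⟩, hxV, hVU⟩ :=
    X.isBasis_affineOpens.exists_subset_of_mem_open (show x ∈ ((U ⊓ W e : X.Opens) : Set X) from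
      ⟨hx, he⟩) (U ⊓ W e).isOpen
  exact ⟨V, ⟨⟨V, hV, e, fun y hy => (hVU hy).2⟩, rfl⟩, hxV, fun y hy => (hVU hy).1⟩

variable (t : ∀ V : SmallAff W, Γ(N, V.1) →+ Γ(L, V.1))
  (hnat : ∀ (V V' : SmallAff W) (h : V'.1 ≤ V.1) (n : Γ(N, V.1)),
    L.presheaf.map (homOfLE h).op (t V n) = t V' (N.presheaf.map (homOfLE h).op n))

/-- the natural transformation on the small affine opens -/
noncomputable def αAff : (inducedFunctor (inclAff W)).op ⋙ N.presheaf ⟶
    (inducedFunctor (inclAff W)).op ⋙ L.presheaf where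
  app V := AddCommGrpCat.ofHom (t V.unop)
  naturality V V' f := by
    ext n
    exact (hnat V.unop V'.unop (leOfHom f.unop.hom) n).symm

/-- the glued morphism of abelian presheaves -/
noncomputable def φAff (hcov : ⨆ e, W e = ⊤) : N.presheaf ⟶ L.presheaf :=
  TopCat.Sheaf.restrictHomEquivHom N.presheaf ⟨L.presheaf, L.isSheaf⟩ (isBasis_smallAff W hcov)
    (αAff W t hnat)

theorem φAff_app (hcov : ⨆ e, W e = ⊤) (V : SmallAff W) (n : Γ(N, V.1)) :
    (φAff W t hnat hcov).app (op V.1) n = t V n := by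
  have h := TopCat.Sheaf.extend_hom_app N.presheaf ⟨L.presheaf, L.isSheaf⟩
    (isBasis_smallAff W hcov) (αAff W t hnat) V
  exact congrArg (fun f => f.hom n) h

theorem φAff_res (hcov : ⨆ e, W e = ⊤) {T V : X.Opens} (h : V ≤ T) (n : Γ(N, T)) :
    L.presheaf.map (homOfLE h).op ((φAff W t hnat hcov).app (op T) n) =
      (φAff W t hnat hcov).app (op V) (N.presheaf.map (homOfLE h).op n) := by
  have := (φAff W t hnat hcov).naturality (homOfLE h).op
  exact (congrArg (fun f => f.hom n) this).symm

variable (hlin : ∀ (V : SmallAff W) (c : Γ(X, V.1)) (n : Γ(N, V.1)), t V (c • n) = c • t V n)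

include hlin in
theorem φAff_smul (hcov : ⨆ e, W e = ⊤) (T : X.Opens) (c : Γ(X, T)) (n : Γ(N, T)) :
    (φAff W t hnat hcov).app (op T) (c • n) = c • (φAff W t hnat hcov).app (op T) n := by
  apply Groth.Agent.Helper4.TwistExt.eq_of_cover L T
  intro y hy
  obtain ⟨_, ⟨V, rfl⟩, hyV, hVT⟩ := (Opens.isBasis_iff_nbhd.1 (isBasis_smallAff W hcov)) hy
  refine ⟨V.1, hVT, hyV, ?_⟩
  rw [φAff_res, Scheme.Modules.map_smul, Scheme.Modules.map_smul, φAff_res]
  exact (φAff_app W t hnat hcov V _).trans
    ((hlin V _ _).trans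
      (congrArg (fun z => _ • z) (φAff_app W t hnat hcov V _).symm))

include hnat hlin in
/-- **gluing morphisms of modules from the small affine opens of a cover** -/
theorem exists_glue_affine (hcov : ⨆ e, W e = ⊤) :
    ∃ τ : N ⟶ L, ∀ (V : SmallAff W) (n : Γ(N, V.1)), τ.app V.1 n = t V n := by
  refine ⟨⟨PresheafOfModules.homMk (φAff W t hnat hcov)
    (fun U c n => φAff_smul W t hnat hlin hcov U.unop c n)⟩, fun V n => ?_⟩
  exact φAff_app W t hnat hcov V n

end glue

end Groth.Agent.Lead.HomDesc
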