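import Groth.Agent.Lead.HomDescD
import Groth.Agent.Lead.HomDescE

set_option autoImplicit false
open CategoryTheory AlgebraicGeometry Opposite TopologicalSpace TensorProduct
universe u

namespace Groth.Agent.Lead.HomDesc
open Scheme.Modules Groth.Agent.Lead.BCMap

section glue
variable {X Y : Scheme.{u}} (φ : X ⟶ Y) (F : Y.Modules)

theorem res_res (Q : X.Modules) {V₁ V₂ V₃ : X.Opens} (h₁ : V₂ ≤ V₁) (h₂ : V₃ ≤ V₂)
    (x : Γ(Q, V₁)) :
    Q.presheaf.map (homOfLE h₂).op (Q.presheaf.map (homOfLE h₁).op x) =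
      Q.presheaf.map (homOfLE (h₂.trans h₁)).op x :=
  Groth.Agent.Helper4.QcohGlue.map_map_thin Q _ _ _ x

theorem pbSec_res_left {U₁ U₂ : Y.Opens} {V : X.Opens} (e₁ : V ≤ φ ⁻¹ᵁ U₁) (e₂ : V ≤ φ ⁻¹ᵁ U₂)
    (hU : U₂ ≤ U₁) (m : Γ(F, U₁)) :
    pbSec φ F U₂ V e₂ (F.presheaf.map (homOfLE hU).op m) = pbSec φ F U₁ V e₁ m := by
  rw [pbSec_res φ F e₁ e₂ hU le_rfl m]
  erw [CategoryTheory.Functor.map_id]
  rfl

variable [F.IsQuasicoherent] (Q : X.Modules)

/-- **gluing a morphism out of a pullback from semilinear maps on an affine cover of the base** -/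
theorem glue_stage {ι : Type*} (U : ι → Y.Opens) (hU : ∀ a, IsAffineOpen (U a))
    (hcov : ∀ y : Y, ∃ a, y ∈ U a)
    (n : ι → ℕ) (gen : ∀ a, Fin (n a) → Γ(F, U a))
    (hgen : ∀ a, Submodule.span Γ(Y, U a) (Set.range (gen a)) = ⊤)
    (lam : ∀ a, Γ(F, U a) →+ Γ(Q, φ ⁻¹ᵁ U a))
    (hlam : ∀ a (x : Γ(Y, U a)) (m : Γ(F, U a)), lam a (x • m) = φ.app (U a) x • lam a m)
    (hcompat : ∀ (a b : ι) (y : Y), y ∈ U a → y ∈ U b →
      ∃ (U' : Y.Opens) (_ : IsAffineOpen U') (ha : U' ≤ U a) (hb : U' ≤ U b), y ∈ U' ∧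
        ∀ l : Fin (n b), ∃ cf : Fin (n a) → Γ(Y, U'),
          F.presheaf.map (homOfLE hb).op (gen b l) =
            ∑ i, cf i • F.presheaf.map (homOfLE ha).op (gen a i) ∧
          Q.presheaf.map (homOfLE (preimage_le φ hb)).op (lam b (gen b l)) =
            ∑ i, φ.app U' (cf i) •
              Q.presheaf.map (homOfLE (preimage_le φ ha)).op (lam a (gen a i))) :
    ∃ τ : (Scheme.Modules.pullback φ).obj F ⟶ Q,
      ∀ (a : ι) (V : X.Opens) (_ : IsAffineOpen V) (e : V ≤ φ ⁻¹ᵁ U a) (m : Γ(F, U a)),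
        τ.app V (pbSec φ F (U a) V e m) = Q.presheaf.map (homOfLE e).op (lam a m) := by
  -- step 1
  have hT : ∀ (a : ι) (V : X.Opens) (hV : IsAffineOpen V) (e : V ≤ φ ⁻¹ᵁ U a),
      ∃ t : Γ((Scheme.Modules.pullback φ).obj F, V) →+ Γ(Q, V),
        (∀ (b : Γ(X, V)) (s : Γ((Scheme.Modules.pullback φ).obj F, V)), t (b • s) = b • t s) ∧
        ∀ m, t (pbSec φ F (U a) V e m) = Q.presheaf.map (homOfLE e).op (lam a m) := by
    intro a V hV e
    refine ext_lift φ F Q (hU a) hV e ((Q.presheaf.map (homOfLE e).op).hom.comp (lam a)) ?_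
    intro x m
    change Q.presheaf.map (homOfLE e).op (lam a (x • m)) = _
    rw [hlam, Scheme.Modules.map_smul]
    rfl
  choose T hTlin hTpb using hT
  -- step 2: naturality
  have hTnat : ∀ (a : ι) (V V' : X.Opens) (hV : IsAffineOpen V) (hV' : IsAffineOpen V')
      (e : V ≤ φ ⁻¹ᵁ U a) (h : V' ≤ V) (s : Γ((Scheme.Modules.pullback φ).obj F, V)),
      Q.presheaf.map (homOfLE h).op (T a V hV e s) =
        T a V' hV' (h.trans e)
          (((Scheme.Modules.pullback φ).obj F).presheaf.map (homOfLE h).op s) := by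
    intro a V V' hV hV' e h s
    have hs := span_pbSec φ F hV (hU a) e Set.univ (by simp) s
    induction hs using Submodule.span_induction with
    | mem x hx =>
      obtain ⟨m, -, rfl⟩ := hx
      rw [hTpb, ← pbSec_res_right φ F e h m, hTpb, res_res]
    | zero => simp
    | add x y _ _ hx hy => rw [map_add, map_add, map_add, map_add, hx, hy]
    | smul b x _ hx =>
      rw [hTlin, Scheme.Modules.map_smul, Scheme.Modules.map_smul, hTlin, hx]
  -- step 3: independence of the chart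
  have hTeq : ∀ (a b : ι) (V : X.Opens) (hV : IsAffineOpen V) (ea : V ≤ φ ⁻¹ᵁ U a)
      (eb : V ≤ φ ⁻¹ᵁ U b) (s : Γ((Scheme.Modules.pullback φ).obj F, V)),
      T a V hV ea s = T b V hV eb s := by
    intro a b V hV ea eb s
    apply Groth.Agent.Helper4.TwistExt.eq_of_cover Q V
    intro x hx
    obtain ⟨U', hU', ha, hb, hyU', hcf⟩ := hcompat a b (φ.base x) (ea hx) (eb hx)
    obtain ⟨_, ⟨V'', hV'' : IsAffineOpen V'', rfl⟩, hxV'', hV''le⟩ :=
      X.isBasis_affineOpens.exists_subset_of_mem_open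
        (show x ∈ ((V ⊓ φ ⁻¹ᵁ U' : X.Opens) : Set X) from ⟨hx, hyU'⟩) (V ⊓ φ ⁻¹ᵁ U').isOpen
    have h1 : V'' ≤ V := fun z hz => (hV''le hz).1
    have e'' : V'' ≤ φ ⁻¹ᵁ U' := fun z hz => (hV''le hz).2
    refine ⟨V'', h1, hxV'', ?_⟩
    rw [hTnat a V V'' hV hV'' ea h1, hTnat b V V'' hV hV'' eb h1]
    apply ext_unique φ F Q hU' hV'' e''
      ((fun m => F.presheaf.map (homOfLE hb).op m) '' Set.range (gen b))
      (eq_top_iff.2 fun r _ => res_span F (hU b) hU' hb _ (hgen b) r)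
      (T a V'' hV'' (h1.trans ea)) (T b V'' hV'' (h1.trans eb)) (hTlin _ _ _ _) (hTlin _ _ _ _)
    rintro _ ⟨_, ⟨l, rfl⟩, rfl⟩
    obtain ⟨cf, hcf1, hcf2⟩ := hcf l
    have hR : T b V'' hV'' (h1.trans eb)
        (pbSec φ F U' V'' e'' (F.presheaf.map (homOfLE hb).op (gen b l))) =
        Q.presheaf.map (homOfLE (h1.trans eb)).op (lam b (gen b l)) := by
      rw [pbSec_res_left φ F (h1.trans eb) e'' hb, hTpb]
    have hL : T a V'' hV'' (h1.trans ea)
        (pbSec φ F U' V'' e'' (F.presheaf.map (homOfLE hb).op (gen b l))) =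
        ∑ i, φ.appLE U' V'' e'' (cf i) •
          Q.presheaf.map (homOfLE (h1.trans ea)).op (lam a (gen a i)) := by
      rw [hcf1, map_sum, map_sum]
      refine Finset.sum_congr rfl fun i _ => ?_
      rw [pbSec_smul, hTlin, pbSec_res_left φ F (h1.trans ea) e'' ha, hTpb]
    rw [hR, hL]
    have h3 := congrArg (fun z => Q.presheaf.map (homOfLE e'').op z) hcf2
    simp only [res_res, map_sum, Scheme.Modules.map_smul] at h3
    exact h3.symm
  -- step 4: glue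
  have hcovW : ⨆ a, φ ⁻¹ᵁ U a = ⊤ := by
    rw [eq_top_iff]
    intro x _
    obtain ⟨a, ha⟩ := hcov (φ.base x)
    exact Opens.mem_iSup.2 ⟨a, ha⟩
  obtain ⟨τ, hτ⟩ := exists_glue_affine (N := (Scheme.Modules.pullback φ).obj F) (L := Q)
    (fun a => φ ⁻¹ᵁ U a)
    (fun V => T V.2.2.choose V.1 V.2.1 V.2.2.choose_spec)
    (fun V V' h s => by
      rw [hTnat _ V.1 V'.1 V.2.1 V'.2.1 _ h]
      exact hTeq _ _ _ _ _ _ _)
    (fun V c s => hTlin _ _ _ _ c s) hcovW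
  refine ⟨τ, fun a V hV e m => ?_⟩
  have h5 := hτ ⟨V, hV, a, e⟩ (pbSec φ F (U a) V e m)
  rw [h5]
  change T _ V hV _ _ = _
  rw [hTeq _ a V hV _ e, hTpb]

end glue

end Groth.Agent.Lead.HomDesc
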