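import Groth.Agent.Lead.HomDescF
import Groth.Agent.Lead.ModDict11

set_option autoImplicit false
open CategoryTheory AlgebraicGeometry Opposite TopologicalSpace TensorProduct
universe u

namespace Groth.Agent.Lead.HomDesc
open Scheme.Modules Groth.Agent.Lead.BCMap

section cover
variable {Y : Scheme.{u}}

theorem exists_fin_affine_cover (W : Y.Opens) (hW : IsCompact (W : Set Y)) :
    ∃ (n : ℕ) (U : Fin n → Y.Opens), (∀ a, IsAffineOpen (U a)) ∧ (∀ a, U a ≤ W) ∧
      ∀ y ∈ W, ∃ a, y ∈ U a := by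
  obtain ⟨s, hs, e⟩ := isCompact_iff_finite_and_eq_biUnion_affineOpens.1 hW
  have : Finite s := hs
  obtain ⟨n, ⟨eq⟩⟩ := Finite.exists_equiv_fin s
  refine ⟨n, fun a => ((eq.symm a).1 : Y.Opens), fun a => (eq.symm a).1.2, fun a => ?_,
    fun y hy => ?_⟩
  · rw [e]
    exact le_iSup₂_of_le (eq.symm a).1 (eq.symm a).2 le_rfl
  · rw [e] at hy
    simp only [Opens.mem_iSup] at hy
    obtain ⟨i, hi, hyi⟩ := hy
    refine ⟨eq ⟨i, hi⟩, ?_⟩
    change y ∈ ((eq.symm (eq ⟨i, hi⟩)).1 : Y.Opens)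
    rw [Equiv.symm_apply_apply]
    exact hyi

theorem exists_cf (F : Y.Modules) [F.IsQuasicoherent] {U U' : Y.Opens} (hU : IsAffineOpen U)
    (hU' : IsAffineOpen U') (h : U' ≤ U) {n : ℕ} (gen : Fin n → Γ(F, U))
    (hgen : Submodule.span Γ(Y, U) (Set.range gen) = ⊤) (r : Γ(F, U')) :
    ∃ cf : Fin n → Γ(Y, U'), r = ∑ i, cf i • F.presheaf.map (homOfLE h).op (gen i) := by
  have h1 := res_span F hU hU' h (Set.range gen) hgen r
  rw [← Set.range_comp, Submodule.mem_span_range_iff_exists_fun] at h1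
  obtain ⟨cf, hcf⟩ := h1
  exact ⟨cf, hcf.symm⟩

/-- a finite affine cover with generators of the sections and a finite affine cover of the
overlaps, with the transition coefficients -/
structure CoverData (Y : Scheme.{u}) (F : Y.Modules) where
  ι : Type
  [fι : Fintype ι]
  U : ι → Y.Opens
  hU : ∀ a, IsAffineOpen (U a)
  hcov : ∀ y : Y, ∃ a, y ∈ U a
  ng : ι → ℕ
  gen : ∀ a, Fin (ng a) → Γ(F, U a)
  hgen : ∀ a, Submodule.span Γ(Y, U a) (Set.range (gen a)) = ⊤
  κ : Type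
  [fκ : Fintype κ]
  la : κ → ι
  ra : κ → ι
  U' : κ → Y.Opens
  hU' : ∀ k, IsAffineOpen (U' k)
  hl : ∀ k, U' k ≤ U (la k)
  hr : ∀ k, U' k ≤ U (ra k)
  hκ : ∀ (a b : ι) (y : Y), y ∈ U a → y ∈ U b → ∃ k, la k = a ∧ ra k = b ∧ y ∈ U' k
  cf : ∀ k, Fin (ng (ra k)) → Fin (ng (la k)) → Γ(Y, U' k)
  hcf : ∀ k l, F.presheaf.map (homOfLE (hr k)).op (gen (ra k) l) =
    ∑ i, cf k l i • F.presheaf.map (homOfLE (hl k)).op (gen (la k) i)

theorem nonempty_coverData [CompactSpace Y] [QuasiSeparatedSpace Y] (F : Y.Modules)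
    [F.IsQuasicoherent]
    (hfin : ∀ (U : Y.Opens), IsAffineOpen U → Module.Finite Γ(Y, U) Γ(F, U)) :
    Nonempty (CoverData Y F) := by
  obtain ⟨n, U, hU, -, hcov⟩ := exists_fin_affine_cover (⊤ : Y.Opens) isCompact_univ
  have hpair : ∀ p : Fin n × Fin n, ∃ (m : ℕ) (U' : Fin m → Y.Opens),
      (∀ q, IsAffineOpen (U' q)) ∧ (∀ q, U' q ≤ U p.1 ⊓ U p.2) ∧
        ∀ y ∈ U p.1 ⊓ U p.2, ∃ q, y ∈ U' q := by
    intro p
    apply exists_fin_affine_cover
    rw [Opens.coe_inf]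
    exact (hU p.1).isCompact.inter_of_isOpen (hU p.2).isCompact (U p.1).isOpen (U p.2).isOpen
  choose m U' hU' hle hcov' using hpair
  have hg : ∀ a, ∃ (ng : ℕ) (gen : Fin ng → Γ(F, U a)),
      Submodule.span Γ(Y, U a) (Set.range gen) = ⊤ := by
    intro a
    haveI := hfin (U a) (hU a)
    exact Module.Finite.exists_fin
  choose ng gen hgen using hg
  have hcf : ∀ (k : Σ p : Fin n × Fin n, Fin (m p)) (l : Fin (ng k.1.2)),
      ∃ cf : Fin (ng k.1.1) → Γ(Y, U' k.1 k.2),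
        F.presheaf.map (homOfLE ((hle k.1 k.2).trans inf_le_right)).op (gen k.1.2 l) =
          ∑ i, cf i • F.presheaf.map (homOfLE ((hle k.1 k.2).trans inf_le_left)).op
            (gen k.1.1 i) := by
    intro k l
    exact exists_cf F (hU k.1.1) (hU' k.1 k.2) _ (gen k.1.1) (hgen k.1.1) _
  choose cf hcf using hcf
  exact ⟨{
    ι := Fin n
    U := U
    hU := hU
    hcov := fun y => hcov y trivial
    ng := ng
    gen := gen
    hgen := hgen
    κ := Σ p : Fin n × Fin n, Fin (m p)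
    la := fun k => k.1.1
    ra := fun k => k.1.2
    U' := fun k => U' k.1 k.2
    hU' := fun k => hU' k.1 k.2
    hl := fun k => (hle k.1 k.2).trans inf_le_left
    hr := fun k => (hle k.1 k.2).trans inf_le_right
    hκ := fun a b y ha hb => by
      obtain ⟨q, hq⟩ := hcov' (a, b) y ⟨ha, hb⟩
      exact ⟨⟨(a, b), q⟩, rfl, rfl, hq⟩
    cf := cf
    hcf := hcf }⟩

end cover

section stage

theorem exists_common_stage {J : Type*} [Category J] [IsCofiltered J] {ι : Type*} [Finite ι]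
    (P : ι → J → Prop) (hstab : ∀ a (j j' : J) (_ : j' ⟶ j), P a j → P a j')
    (hex : ∀ a, ∃ j, P a j) : ∃ j, ∀ a, P a j := by
  classical
  haveI := Fintype.ofFinite ι
  choose j₁ hj₁ using hex
  obtain ⟨S, hS⟩ := IsCofiltered.inf_objs_exists (Finset.univ.image j₁)
  refine ⟨S, fun a => ?_⟩
  obtain ⟨g⟩ := hS (Finset.mem_image_of_mem j₁ (Finset.mem_univ a))
  exact hstab a _ _ g (hj₁ a)

end stage

section general
variable {X Y : Scheme.{u}} (f : X ⟶ Y) (F : Y.Modules)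

/-- morphisms out of the pullback of a quasi-coherent module are determined by their values
on the pulled back sections over an affine cover of the base -/
theorem hom_ext_pbSec [F.IsQuasicoherent] {Q : X.Modules} {ι : Type*} (U : ι → Y.Opens)
    (hU : ∀ a, IsAffineOpen (U a)) (hcov : ∀ y : Y, ∃ a, y ∈ U a)
    (t t' : (Scheme.Modules.pullback f).obj F ⟶ Q)
    (h : ∀ a (m : Γ(F, U a)), t.app (f ⁻¹ᵁ U a) (pbSec f F (U a) (f ⁻¹ᵁ U a) le_rfl m) =
      t'.app (f ⁻¹ᵁ U a) (pbSec f F (U a) (f ⁻¹ᵁ U a) le_rfl m)) : t = t' := by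
  apply Scheme.Modules.hom_ext
  intro T
  ext s
  apply Groth.Agent.Helper4.TwistExt.eq_of_cover Q T
  intro x hx
  obtain ⟨a, ha⟩ := hcov (f.base x)
  obtain ⟨_, ⟨W, hW : IsAffineOpen W, rfl⟩, hxW, hWle⟩ :=
    X.isBasis_affineOpens.exists_subset_of_mem_open
      (show x ∈ ((T ⊓ f ⁻¹ᵁ U a : X.Opens) : Set X) from ⟨hx, ha⟩) (T ⊓ f ⁻¹ᵁ U a).isOpen
  have h1 : W ≤ T := fun z hz => (hWle hz).1
  have e : W ≤ f ⁻¹ᵁ U a := fun z hz => (hWle hz).2
  refine ⟨W, h1, hxW, ?_⟩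
  rw [← Groth.Agent.Helper4.StalkExact.app_res t (homOfLE h1),
    ← Groth.Agent.Helper4.StalkExact.app_res t' (homOfLE h1)]
  apply ext_unique f F Q (hU a) hW e Set.univ (by simp) (t.app W).hom (t'.app W).hom
    (fun b s => Hom.app_smul t b s) (fun b s => Hom.app_smul t' b s)
  intro m _
  change t.app W (pbSec f F (U a) W e m) = t'.app W (pbSec f F (U a) W e m)
  rw [pbSec_res_right f F le_rfl e m,
    Groth.Agent.Helper4.StalkExact.app_res t (homOfLE e),
    Groth.Agent.Helper4.StalkExact.app_res t' (homOfLE e), h]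

variable {F} {Q : X.Modules} (h : (Scheme.Modules.pullback f).obj F ⟶ Q)

/-- the semilinear maps on sections attached to a morphism out of the pullback -/
noncomputable def theta (V : Y.Opens) : Γ(F, V) →+ Γ(Q, f ⁻¹ᵁ V) :=
  (h.app (f ⁻¹ᵁ V)).hom.comp (pbSec f F V (f ⁻¹ᵁ V) le_rfl)

theorem theta_apply (V : Y.Opens) (m : Γ(F, V)) :
    theta f h V m = h.app (f ⁻¹ᵁ V) (pbSec f F V (f ⁻¹ᵁ V) le_rfl m) := rfl

theorem theta_smul (V : Y.Opens) (x : Γ(Y, V)) (m : Γ(F, V)) :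
    theta f h V (x • m) = f.app V x • theta f h V m := by
  rw [theta_apply, theta_apply, pbSec_smul', Hom.app_smul]

theorem theta_res {V V' : Y.Opens} (hV : V' ≤ V) (m : Γ(F, V)) :
    Q.presheaf.map (homOfLE (preimage_le f hV)).op (theta f h V m) =
      theta f h V' (F.presheaf.map (homOfLE hV).op m) := by
  rw [theta_apply, theta_apply, ← Groth.Agent.Helper4.StalkExact.app_res,
    pbSec_res f F le_rfl le_rfl hV (preimage_le f hV) m]

end general

section fp
variable {Y : Scheme.{u}} {U : Y.Opens}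

theorem fp_sections (hU : IsAffineOpen U) (F : Y.Modules) [F.IsQuasicoherent]
    (hF : SheafOfModules.IsFinitePresentation (R := Y.ringCatSheaf) F) :
    Module.FinitePresentation Γ(Y, U) Γ(F, U) := by
  have h1 : Module.FinitePresentation Γ(Y, U)
      (moduleSpecΓFunctor.obj (F.restrict hU.fromSpec) : ModuleCat Γ(Y, U)) :=
    Groth.Agent.Lead.ModDict.fp_secF hU F hF
  exact Module.FinitePresentation.of_equiv
    (Groth.Agent.Helper4.SecDict.sectionsEquiv hU F).symm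

end fp

end Groth.Agent.Lead.HomDesc
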