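import Groth.Agent.Lead.NApxB
import Mathlib
open CategoryTheory Limits AlgebraicGeometry TopologicalSpace

namespace Groth.Agent.Lead.HomGlueA
universe u

lemma appLE_congr {A B : Scheme.{u}} {f f' : A ⟶ B} (h : f = f') (W : B.Opens) (V : A.Opens)
    (e : V ≤ f ⁻¹ᵁ W) (e' : V ≤ f' ⁻¹ᵁ W) : f.appLE W V e = f'.appLE W V e' := by
  subst h; rfl

lemma fromSpecStalk_appLE_top {X : Scheme.{u}} (z : X) (V : X.Opens) (hz : z ∈ V)
    (hpre : (⊤ : (Spec (X.presheaf.stalk z)).Opens) ≤ X.fromSpecStalk z ⁻¹ᵁ V) :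
    (X.fromSpecStalk z).appLE V ⊤ hpre =
      X.presheaf.germ V z hz ≫ (Scheme.ΓSpecIso (X.presheaf.stalk z)).inv := by
  rw [Scheme.Hom.appLE, Scheme.fromSpecStalk_app hz]
  simp only [Category.assoc, ← Functor.map_comp]
  have : ((homOfLE (le_top : X.fromSpecStalk z ⁻¹ᵁ V ≤ ⊤)).op ≫ (homOfLE hpre).op) = 𝟙 _ :=
    Subsingleton.elim _ _
  rw [this, CategoryTheory.Functor.map_id, Category.comp_id]

/-- the key sheaf-theoretic statement: two morphisms agreeing away from `x` and on `Spec 𝒪_{X,x}`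
induce the same maps on sections. -/
lemma appLE_eq {X Y : Scheme.{u}} (x : X) (U : X.Opens) (hU : (U : Set X) = {x}ᶜ) (g₁ g₂ : X ⟶ Y)
    (h₁ : U.ι ≫ g₁ = U.ι ≫ g₂) (h₂ : X.fromSpecStalk x ≫ g₁ = X.fromSpecStalk x ≫ g₂)
    (W : Y.Opens) (V : X.Opens) (e₁ : V ≤ g₁ ⁻¹ᵁ W) (e₂ : V ≤ g₂ ⁻¹ᵁ W) :
    g₁.appLE W V e₁ = g₂.appLE W V e₂ := by
  refine CommRingCat.hom_ext (RingHom.ext fun s ↦ ?_)
  refine TopCat.Presheaf.section_ext X.sheaf V _ _ ?_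
  intro z hz
  by_cases hzx : z = x
  · subst hzx
    -- germs at x
    have hpre : (⊤ : (Spec (X.presheaf.stalk z)).Opens) ≤ X.fromSpecStalk z ⁻¹ᵁ V :=
      (Scheme.preimage_eq_top_of_closedPoint_mem (X.fromSpecStalk z)
        (by rw [Scheme.fromSpecStalk_closedPoint]; exact hz)).ge
    have k₁ := Scheme.Hom.appLE_comp_appLE (X.fromSpecStalk z) g₁ W V ⊤ e₁ hpre
    have k₂ := Scheme.Hom.appLE_comp_appLE (X.fromSpecStalk z) g₂ W V ⊤ e₂ hpre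
    have k := appLE_congr h₂ W ⊤ (hpre.trans ((Opens.map (X.fromSpecStalk z).base).map (homOfLE e₁)).le)
      (hpre.trans ((Opens.map (X.fromSpecStalk z).base).map (homOfLE e₂)).le)
    rw [← k₁, ← k₂, fromSpecStalk_appLE_top z V hz hpre, ← Category.assoc, ← Category.assoc,
      cancel_mono] at k
    exact ConcreteCategory.congr_hom k s
  · have hzU : z ∈ U := by
      change z ∈ (U : Set X)
      rw [hU]; exact hzx
    have e : U.ι ⁻¹ᵁ V ≤ U.ι ⁻¹ᵁ V := le_rfl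
    have k₁ := Scheme.Hom.appLE_comp_appLE U.ι g₁ W V (U.ι ⁻¹ᵁ V) e₁ e
    have k₂ := Scheme.Hom.appLE_comp_appLE U.ι g₂ W V (U.ι ⁻¹ᵁ V) e₂ e
    have k := appLE_congr h₁ W (U.ι ⁻¹ᵁ V) (e.trans ((Opens.map U.ι.base).map (homOfLE e₁)).le)
      (e.trans ((Opens.map U.ι.base).map (homOfLE e₂)).le)
    rw [← k₁, ← k₂, Scheme.Opens.ι_appLE] at k
    have hzO : z ∈ U.ι ''ᵁ (U.ι ⁻¹ᵁ V) := ⟨⟨z, hzU⟩, hz, rfl⟩
    have r := fun t ↦ TopCat.Presheaf.germ_res_apply X.presheaf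
      (homOfLE (show U.ι ''ᵁ (U.ι ⁻¹ᵁ V) ≤ V from Set.image_subset_iff.mpr e)) z hzO t
    erw [← r, ← r]
    exact congrArg _ (ConcreteCategory.congr_hom k s)

end Groth.Agent.Lead.HomGlueA

namespace Groth.Agent.Lead.HomGlueA
universe u
open Groth.Agent.Lead.NApxB

lemma cover_of_compl {X : Scheme.{u}} (x : X) (U : X.Opens) (hU : (U : Set X) = {x}ᶜ)
    {V : Scheme.{u}} (v : V ⟶ X) (hx : x ∈ Set.range v) :
    ∀ z : X, z ∈ Set.range U.ι ∨ z ∈ Set.range v := by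
  intro z
  by_cases hzx : z = x
  · right; rw [hzx]; exact hx
  · left
    rw [Scheme.Opens.range_ι, hU]
    exact hzx

theorem uniq {X Y : Scheme.{u}} (x : X) (U : X.Opens) (hU : (U : Set X) = {x}ᶜ) (g₁ g₂ : X ⟶ Y)
    (h₁ : U.ι ≫ g₁ = U.ι ≫ g₂) (h₂ : X.fromSpecStalk x ≫ g₁ = X.fromSpecStalk x ≫ g₂) :
    g₁ = g₂ := by
  have hy : g₁ x = g₂ x := by
    have := congr($h₂ (IsLocalRing.closedPoint (X.presheaf.stalk x)))
    simpa only [Scheme.Hom.comp_apply, Scheme.fromSpecStalk_closedPoint] using this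
  obtain ⟨W, hW, hyW, -⟩ := exists_isAffineOpen_mem_and_subset (x := g₁ x) (U := ⊤) trivial
  let V : X.Opens := g₁ ⁻¹ᵁ W ⊓ g₂ ⁻¹ᵁ W
  have hxV : x ∈ V := ⟨hyW, by change g₂ x ∈ W; rw [← hy]; exact hyW⟩
  have e₁ : V ≤ g₁ ⁻¹ᵁ W := inf_le_left
  have e₂ : V ≤ g₂ ⁻¹ᵁ W := inf_le_right
  refine hom_ext2 U.ι V.ι (cover_of_compl x U hU V.ι (by rw [Scheme.Opens.range_ι]; exact hxV))
    g₁ g₂ h₁ ?_
  rw [← Scheme.Hom.resLE_comp_ι g₁ e₁, ← Scheme.Hom.resLE_comp_ι g₂ e₂]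
  congr 1
  haveI : IsAffine W.toScheme := hW
  apply ext_of_isAffine
  simp only [Scheme.Hom.appTop, Scheme.Hom.resLE_app_top]
  rw [appLE_eq x U hU g₁ g₂ h₁ h₂ W V e₁ e₂]

end Groth.Agent.Lead.HomGlueA
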