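import Groth.Agent.Lead.HomGlueB
import Mathlib
open CategoryTheory Limits AlgebraicGeometry TopologicalSpace Opposite

namespace Groth.Agent.Lead.HomGlueC
universe u
open Groth.Agent.Lead.HomGlueB

lemma resLE_congr_hom {A B : Scheme.{u}} {f f' : A ⟶ B} (h : f = f') (U : B.Opens) (V : A.Opens)
    (e : V ≤ f ⁻¹ᵁ U) (e' : V ≤ f' ⁻¹ᵁ U) : f.resLE U V e = f'.resLE U V e' := by
  subst h; rfl

lemma agree_resLE {X Y Z : Scheme.{u}} {U : X.Opens} (f : Z ⟶ X) (b : Z ⟶ Y) (a : U.toScheme ⟶ Y)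
    (h : (f ⁻¹ᵁ U).ι ≫ b = (f ∣_ U) ≫ a) (O' : Z.Opens) (e : O' ≤ f ⁻¹ᵁ U) :
    O'.ι ≫ b = f.resLE U O' e ≫ a := by
  rw [Scheme.Hom.resLE, Category.assoc, ← h, Scheme.homOfLE_ι_assoc]

section Stage
variable {X Y S : Scheme.{u}} (x : X) (p : X ⟶ S) (q : Y ⟶ S) (U : X.Opens)
  (V₁ : Nb x)

/-- the structure maps of the punctured system -/
noncomputable def tS' :
    opensDiagram (D x) V₁ (fs x V₁ ⁻¹ᵁ U) ⟶ (Functor.const (Over V₁)).obj S where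
  app j := ((D x).map j.hom ⁻¹ᵁ (fs x V₁ ⁻¹ᵁ U)).ι ≫ fs x j.left ≫ p
  naturality j k f := by
    dsimp only [Functor.const_obj_obj, Functor.const_obj_map]
    rw [Category.comp_id]
    have key : ((D x).map f.left).resLE ((D x).map k.hom ⁻¹ᵁ (fs x V₁ ⁻¹ᵁ U))
        ((D x).map j.hom ⁻¹ᵁ (fs x V₁ ⁻¹ᵁ U))
        (le_of_eq (by rw [← Scheme.Hom.comp_preimage ((D x).map f.left) ((D x).map k.hom),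
          ← (D x).map_comp, Over.w f])) ≫
        ((D x).map k.hom ⁻¹ᵁ (fs x V₁ ⁻¹ᵁ U)).ι ≫ fs x k.left ≫ p =
        ((D x).map j.hom ⁻¹ᵁ (fs x V₁ ⁻¹ᵁ U)).ι ≫ fs x j.left ≫ p := by
      rw [Scheme.Hom.resLE_comp_ι_assoc, ← Category.assoc ((D x).map f.left), D_map_fs]
    exact key

instance compact_stage [QuasiCompact U.ι] (j : Over V₁) :
    CompactSpace ((opensDiagram (D x) V₁ (fs x V₁ ⁻¹ᵁ U)).obj j) := by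
  have hq : QuasiCompact (((D x).map j.hom ≫ fs x V₁) ⁻¹ᵁ U).ι :=
    MorphismProperty.of_isPullback (P := @QuasiCompact)
      (isPullback_morphismRestrict ((D x).map j.hom ≫ fs x V₁) U) (inferInstance : QuasiCompact U.ι)
  have h := @QuasiCompact.compactSpace_of_compactSpace _ _ _ hq inferInstance
  exact h

lemma tS'_app (j : Over V₁) : (tS' x p U V₁).app j =
    ((D x).map j.hom ⁻¹ᵁ (fs x V₁ ⁻¹ᵁ U)).ι ≫ fs x j.left ≫ p := rfl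

variable {x p q U V₁} in
lemma exists_agree [LocallyOfFiniteType q] [QuasiCompact U.ι]
    (a : U.toScheme ⟶ Y) (ha : a ≫ q = U.ι ≫ p)
    (b : Spec (X.presheaf.stalk x) ⟶ Y)
    (hab : (X.fromSpecStalk x ⁻¹ᵁ U).ι ≫ b = (X.fromSpecStalk x ∣_ U) ≫ a)
    (b₁ : (D x).obj V₁ ⟶ Y) (h1 : (cone x).π.app V₁ ≫ b₁ = b) (h2 : b₁ ≫ q = fs x V₁ ≫ p) :
    ∃ (V₂ : Nb x) (φ : V₂ ⟶ V₁),
      (fs x V₂ ⁻¹ᵁ U).ι ≫ (D x).map φ ≫ b₁ = (fs x V₂ ∣_ U) ≫ a := by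
  obtain ⟨hc⟩ := cone_isLimit x
  have hc' := isLimitOpensCone (D x) (cone x) hc V₁ (fs x V₁ ⁻¹ᵁ U)
  let j₀ : Over V₁ := Over.mk (𝟙 V₁)
  have eO : ∀ j : Over V₁, (D x).map j.hom ⁻¹ᵁ (fs x V₁ ⁻¹ᵁ U) ≤
      ((D x).map j.hom ≫ fs x V₁) ⁻¹ᵁ U := fun j ↦ le_of_eq rfl
  let A : (opensDiagram (D x) V₁ (fs x V₁ ⁻¹ᵁ U)).obj j₀ ⟶ Y :=
    ((D x).map j₀.hom ⁻¹ᵁ (fs x V₁ ⁻¹ᵁ U)).ι ≫ (D x).map j₀.hom ≫ b₁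
  let B : (opensDiagram (D x) V₁ (fs x V₁ ⁻¹ᵁ U)).obj j₀ ⟶ Y :=
    ((D x).map j₀.hom ≫ fs x V₁).resLE U ((D x).map j₀.hom ⁻¹ᵁ (fs x V₁ ⁻¹ᵁ U)) (eO j₀) ≫ a
  have hA : (tS' x p U V₁).app j₀ = A ≫ q := by
    rw [tS'_app]
    have key : ((D x).map j₀.hom ⁻¹ᵁ (fs x V₁ ⁻¹ᵁ U)).ι ≫ fs x j₀.left ≫ p =
        (((D x).map j₀.hom ⁻¹ᵁ (fs x V₁ ⁻¹ᵁ U)).ι ≫ (D x).map j₀.hom ≫ b₁) ≫ q := by
      rw [Category.assoc, Category.assoc, h2, ← Category.assoc ((D x).map j₀.hom), D_map_fs]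
    exact key
  have hB : (tS' x p U V₁).app j₀ = B ≫ q := by
    rw [tS'_app]
    have key : ((D x).map j₀.hom ⁻¹ᵁ (fs x V₁ ⁻¹ᵁ U)).ι ≫ fs x j₀.left ≫ p =
        (((D x).map j₀.hom ≫ fs x V₁).resLE U ((D x).map j₀.hom ⁻¹ᵁ (fs x V₁ ⁻¹ᵁ U)) (eO j₀) ≫
          a) ≫ q := by
      rw [Category.assoc, ha, Scheme.Hom.resLE_comp_ι_assoc]
      conv_lhs => rw [← D_map_fs x j₀.hom]
    exact key
  have e0 : (cone x).π.app V₁ ⁻¹ᵁ (fs x V₁ ⁻¹ᵁ U) ≤ X.fromSpecStalk x ⁻¹ᵁ U :=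
    le_of_eq (congrArg (fun f : Spec (X.presheaf.stalk x) ⟶ X ↦ f ⁻¹ᵁ U) (cone_π_fs x V₁))
  have e1 : (cone x).π.app V₁ ⁻¹ᵁ (fs x V₁ ⁻¹ᵁ U) ≤
      (cone x).π.app j₀.left ⁻¹ᵁ ((D x).map j₀.hom ⁻¹ᵁ (fs x V₁ ⁻¹ᵁ U)) :=
    le_of_eq (by rw [← Scheme.Hom.comp_preimage ((cone x).π.app j₀.left), Cone.w])
  have hAB : (opensCone (D x) (cone x) V₁ (fs x V₁ ⁻¹ᵁ U)).π.app j₀ ≫ A =
      (opensCone (D x) (cone x) V₁ (fs x V₁ ⁻¹ᵁ U)).π.app j₀ ≫ B := by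
    have key1 := agree_resLE (X.fromSpecStalk x) b a hab _ e0
    have keyA : ((cone x).π.app j₀.left).resLE ((D x).map j₀.hom ⁻¹ᵁ (fs x V₁ ⁻¹ᵁ U))
        ((cone x).π.app V₁ ⁻¹ᵁ (fs x V₁ ⁻¹ᵁ U)) e1 ≫
        ((D x).map j₀.hom ⁻¹ᵁ (fs x V₁ ⁻¹ᵁ U)).ι ≫ (D x).map j₀.hom ≫ b₁ =
        ((cone x).π.app V₁ ⁻¹ᵁ (fs x V₁ ⁻¹ᵁ U)).ι ≫ b := by
      rw [Scheme.Hom.resLE_comp_ι_assoc, Cone.w_assoc, h1]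
    have keyB : ((cone x).π.app j₀.left).resLE ((D x).map j₀.hom ⁻¹ᵁ (fs x V₁ ⁻¹ᵁ U))
        ((cone x).π.app V₁ ⁻¹ᵁ (fs x V₁ ⁻¹ᵁ U)) e1 ≫
        ((D x).map j₀.hom ≫ fs x V₁).resLE U ((D x).map j₀.hom ⁻¹ᵁ (fs x V₁ ⁻¹ᵁ U)) (eO j₀) ≫ a =
        (X.fromSpecStalk x).resLE U _ e0 ≫ a := by
      rw [Scheme.Hom.resLE_comp_resLE_assoc]
      congr 1
      exact resLE_congr_hom (by rw [Cone.w_assoc, cone_π_fs]) _ _ _ _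
    exact keyA.trans (key1.trans keyB.symm)
  obtain ⟨k, hik, H⟩ := Scheme.exists_hom_comp_eq_comp_of_locallyOfFiniteType
    (opensDiagram (D x) V₁ (fs x V₁ ⁻¹ᵁ U)) (tS' x p U V₁) q
    (opensCone (D x) (cone x) V₁ (fs x V₁ ⁻¹ᵁ U)) hc' A B hA hB hAB
  refine ⟨k.left, k.hom, ?_⟩
  have e2 : (D x).map k.hom ⁻¹ᵁ (fs x V₁ ⁻¹ᵁ U) ≤
      (D x).map hik.left ⁻¹ᵁ ((D x).map j₀.hom ⁻¹ᵁ (fs x V₁ ⁻¹ᵁ U)) :=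
    le_of_eq (by rw [← Scheme.Hom.comp_preimage ((D x).map hik.left), ← (D x).map_comp, Over.w hik])
  have keyA : ((D x).map hik.left).resLE ((D x).map j₀.hom ⁻¹ᵁ (fs x V₁ ⁻¹ᵁ U))
      ((D x).map k.hom ⁻¹ᵁ (fs x V₁ ⁻¹ᵁ U)) e2 ≫
      ((D x).map j₀.hom ⁻¹ᵁ (fs x V₁ ⁻¹ᵁ U)).ι ≫ (D x).map j₀.hom ≫ b₁ =
      ((D x).map k.hom ⁻¹ᵁ (fs x V₁ ⁻¹ᵁ U)).ι ≫ (D x).map k.hom ≫ b₁ := by
    rw [Scheme.Hom.resLE_comp_ι_assoc, ← Functor.map_comp_assoc, Over.w hik]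
  have keyB : ((D x).map hik.left).resLE ((D x).map j₀.hom ⁻¹ᵁ (fs x V₁ ⁻¹ᵁ U))
      ((D x).map k.hom ⁻¹ᵁ (fs x V₁ ⁻¹ᵁ U)) e2 ≫
      ((D x).map j₀.hom ≫ fs x V₁).resLE U ((D x).map j₀.hom ⁻¹ᵁ (fs x V₁ ⁻¹ᵁ U)) (eO j₀) ≫ a =
      ((D x).map k.hom ≫ fs x V₁).resLE U ((D x).map k.hom ⁻¹ᵁ (fs x V₁ ⁻¹ᵁ U)) (eO k) ≫ a := by
    rw [Scheme.Hom.resLE_comp_resLE_assoc]
    congr 1
    exact resLE_congr_hom (by rw [← Functor.map_comp_assoc, Over.w hik]) _ _ _ _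
  have P := keyA.symm.trans (H.trans keyB)
  have P' : (((D x).map k.hom ≫ fs x V₁) ⁻¹ᵁ U).ι ≫ (D x).map k.hom ≫ b₁ =
      (((D x).map k.hom ≫ fs x V₁) ∣_ U) ≫ a := by
    rw [← Scheme.Hom.resLE_eq_morphismRestrict]
    exact P
  rw [D_map_fs] at P'
  exact P'

end Stage

end Groth.Agent.Lead.HomGlueC
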