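import Groth.Agent.Lead.HomGlueC
import Mathlib
open CategoryTheory Limits AlgebraicGeometry TopologicalSpace Opposite

namespace Groth.Agent.Lead.HomGlueD
universe u
open Groth.Agent.Lead.HomGlueA Groth.Agent.Lead.HomGlueB Groth.Agent.Lead.HomGlueC
  Groth.Agent.Lead.NApxB

theorem exists_glue {X Y S : Scheme.{u}} (p : X ⟶ S) (q : Y ⟶ S) [LocallyOfFinitePresentation q]
    (x : X) (U : X.Opens) (hU : (U : Set X) = {x}ᶜ) [QuasiCompact U.ι]
    (a : U.toScheme ⟶ Y) (b : Spec (X.presheaf.stalk x) ⟶ Y) (ha : a ≫ q = U.ι ≫ p)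
    (hb : b ≫ q = X.fromSpecStalk x ≫ p)
    (hab : (X.fromSpecStalk x ⁻¹ᵁ U).ι ≫ b = (X.fromSpecStalk x ∣_ U) ≫ a) :
    ∃ g : X ⟶ Y, g ≫ q = p ∧ U.ι ≫ g = a ∧ X.fromSpecStalk x ≫ g = b := by
  obtain ⟨V₁, b₁, h1, h2⟩ := exists_extension x p q b hb
  obtain ⟨V₂, φ, h3⟩ := exists_agree a ha b hab b₁ h1 h2
  have huv := cover_of_compl x U hU (fs x V₂) (by rw [range_fs]; exact V₂.mem)
  have compat : pullback.fst U.ι (fs x V₂) ≫ a = pullback.snd U.ι (fs x V₂) ≫ (D x).map φ ≫ b₁ := by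
    have hr : Set.range (pullback.snd U.ι (fs x V₂)) ⊆ Set.range (fs x V₂ ⁻¹ᵁ U).ι := by
      rintro _ ⟨z, rfl⟩
      rw [Scheme.Opens.range_ι]
      change fs x V₂ (pullback.snd U.ι (fs x V₂) z) ∈ U
      rw [← Scheme.Hom.comp_apply, ← pullback.condition, Scheme.Hom.comp_apply]
      exact (pullback.fst U.ι (fs x V₂) z).2
    let l := IsOpenImmersion.lift (fs x V₂ ⁻¹ᵁ U).ι (pullback.snd U.ι (fs x V₂)) hr
    have hl : l ≫ (fs x V₂ ⁻¹ᵁ U).ι = pullback.snd U.ι (fs x V₂) := IsOpenImmersion.lift_fac _ _ _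
    have hl' : l ≫ (fs x V₂ ∣_ U) = pullback.fst U.ι (fs x V₂) := by
      rw [← cancel_mono U.ι, Category.assoc, morphismRestrict_ι, ← Category.assoc, hl,
        pullback.condition]
    rw [← hl, ← hl', Category.assoc, Category.assoc, h3]
  obtain ⟨g, hg1, hg2⟩ := glue2 U.ι (fs x V₂) huv a ((D x).map φ ≫ b₁) compat
  refine ⟨g, ?_, hg1, ?_⟩
  · refine hom_ext2 U.ι (fs x V₂) huv _ _ ?_ ?_
    · rw [← Category.assoc, hg1, ha]
    · rw [← Category.assoc, hg2, Category.assoc, h2, ← Category.assoc, D_map_fs]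
  · have e1 : X.fromSpecStalk x ≫ g = ((cone x).π.app V₂ ≫ fs x V₂) ≫ g :=
      congrArg (· ≫ g) (cone_π_fs x V₂).symm
    have e2 : ((cone x).π.app V₂ ≫ fs x V₂) ≫ g = (cone x).π.app V₂ ≫ (D x).map φ ≫ b₁ :=
      (Category.assoc _ _ _).trans (congrArg ((cone x).π.app V₂ ≫ ·) hg2)
    have e3 : (cone x).π.app V₂ ≫ (D x).map φ ≫ b₁ = (cone x).π.app V₁ ≫ b₁ :=
      (Category.assoc _ _ _).symm.trans (congrArg (· ≫ b₁) ((cone x).w φ))
    exact e1.trans (e2.trans (e3.trans h1))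

end Groth.Agent.Lead.HomGlueD
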