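import Mathlib
import Groth.Agent.Helper7.TakF
import Groth.Agent.Helper2.HopfFGv

/-!
# `k`-points of commutative Hopf algebras over an algebraically closed field

Extension of `k`-points from Hopf subalgebras (Zorn + Takeuchi's faithful flatness +
Nullstellensatz).
-/

set_option autoImplicit false
universe u v

open TensorProduct

namespace Groth.Agent.Lead.HopfPts

open Groth.Agent.Helper2.HopfFGv (IsHopfSub exists_fg_hopfSub isHopfSub_sup)

section Null

/-- Nullstellensatz: a nontrivial finitely generated algebra over an algebraically closed field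
has a `k`-point. -/
theorem exists_algHom_of_finiteType (k : Type u) [Field k] [IsAlgClosed k] (Q : Type v)
    [CommRing Q] [Algebra k Q] [Algebra.FiniteType k Q] [Nontrivial Q] :
    Nonempty (Q →ₐ[k] k) := by
  obtain ⟨m, hm⟩ := Ideal.exists_maximal Q
  letI : Field (Q ⧸ m) := Ideal.Quotient.field m
  haveI : Algebra.FiniteType k (Q ⧸ m) :=
    Algebra.FiniteType.of_surjective (Ideal.Quotient.mkₐ k m) (Ideal.Quotient.mkₐ_surjective k m)
  haveI : Module.Finite k (Q ⧸ m) := finite_of_finite_type_of_isJacobsonRing k (Q ⧸ m)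
  haveI : Algebra.IsIntegral k (Q ⧸ m) := Algebra.IsIntegral.of_finite k _
  have hbij : Function.Bijective (algebraMap k (Q ⧸ m)) :=
    IsAlgClosed.algebraMap_bijective_of_isIntegral
  let e : k ≃ₐ[k] (Q ⧸ m) := AlgEquiv.ofBijective (Algebra.ofId k (Q ⧸ m)) hbij
  exact ⟨(e.symm : (Q ⧸ m) →ₐ[k] k).comp (Ideal.Quotient.mkₐ k m)⟩

end Null

section Chain

lemma mem_sSup_of_chain {R M : Type*} [CommSemiring R] [Semiring M] [Algebra R M]
    (c : Set (Subalgebra R M)) (hc : IsChain (· ≤ ·) c) (hne : c.Nonempty) (p : M) :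
    p ∈ sSup c ↔ ∃ Γ ∈ c, p ∈ Γ := by
  haveI : Nonempty c := hne.to_subtype
  rw [sSup_eq_iSup', ← SetLike.mem_coe,
    Subalgebra.coe_iSup_of_directed hc.directedOn.directed_val]
  simp

end Chain

variable {k : Type u} [Field k] {A : Type v} [CommRing A] [HopfAlgebra k A]

lemma range_map_mono {B B' : Subalgebra k A} (h : B' ≤ B) :
    LinearMap.range (TensorProduct.map B'.val.toLinearMap B'.val.toLinearMap) ≤
      LinearMap.range (TensorProduct.map B.val.toLinearMap B.val.toLinearMap) := by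
  rintro _ ⟨z, rfl⟩
  refine ⟨TensorProduct.map (Subalgebra.inclusion h).toLinearMap
    (Subalgebra.inclusion h).toLinearMap z, ?_⟩
  rw [← LinearMap.comp_apply, ← TensorProduct.map_comp]
  rfl

lemma isHopfSub_of_forall {C : Subalgebra k A}
    (h : ∀ b ∈ C, ∃ C' : Subalgebra k A, C' ≤ C ∧ IsHopfSub C' ∧ b ∈ C') : IsHopfSub C := by
  refine ⟨fun b hb => ?_, fun b hb => ?_⟩
  · obtain ⟨C', hle, hH, hb'⟩ := h b hb
    exact range_map_mono hle (hH.1 b hb')
  · obtain ⟨C', hle, hH, hb'⟩ := h b hb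
    exact hle (hH.2 b hb')

variable [IsAlgClosed k]

/-- one-step extension of a `k`-point from a Hopf subalgebra `C` to `C ⊔ D`, `D` finitely
generated -/
theorem exists_extend_sup (C D : Subalgebra k A) (hC : IsHopfSub C) (hD : D.FG)
    (χ : C →ₐ[k] k) :
    ∃ χ' : ↥(C ⊔ D) →ₐ[k] k, ∀ c : C, χ' (Subalgebra.inclusion le_sup_left c) = χ c := by
  classical
  set C' : Subalgebra k A := C ⊔ D with hC'
  let ι : C →ₐ[k] C' := Subalgebra.inclusion le_sup_left
  let J : Ideal C' := (RingHom.ker (χ : C →+* k)).map (ι : C →+* C')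
  -- key congruence
  have hcong : ∀ c : C, Ideal.Quotient.mk J (ι c) =
      Ideal.Quotient.mk J (algebraMap k C' (χ c)) := by
    intro c
    rw [Ideal.Quotient.eq]
    have h1 : c - algebraMap k C (χ c) ∈ RingHom.ker (χ : C →+* k) := by
      rw [RingHom.mem_ker]
      simp
    have h2 := Ideal.mem_map_of_mem (ι : C →+* C') h1
    have h3 : (ι : C →+* C') (c - algebraMap k C (χ c)) = ι c - algebraMap k C' (χ c) := by
      rw [map_sub]
      congr 1
    rw [h3] at h2
    exact h2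
  -- nontriviality via faithful flatness
  have hff : Module.FaithfullyFlat C A :=
    Groth.Agent.Helper7.Takeuchi.faithfullyFlat C hC.1 hC.2
  have hJ : J ≠ ⊤ := by
    intro hJtop
    have h1 : (RingHom.ker (χ : C →+* k)).map (algebraMap C A) = ⊤ := by
      have h2 : J.map (C'.val : C' →+* A) = ⊤ := by
        rw [hJtop, Ideal.map_top]
      rw [Ideal.map_map] at h2
      exact h2
    have h3 := Ideal.comap_map_eq_self_of_faithfullyFlat (B := A) (RingHom.ker (χ : C →+* k))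
    rw [h1, Ideal.comap_top] at h3
    have h4 : (1 : C) ∈ RingHom.ker (χ : C →+* k) := by rw [← h3]; trivial
    rw [RingHom.mem_ker] at h4
    simp at h4
  haveI : Nontrivial (C' ⧸ J) := Ideal.Quotient.nontrivial_iff.mpr hJ
  -- finite type
  haveI : Algebra.FiniteType k D := (Subalgebra.fg_iff_finiteType D).mp hD
  let ρ : D →ₐ[k] (C' ⧸ J) :=
    (Ideal.Quotient.mkₐ k J).comp (Subalgebra.inclusion le_sup_right)
  have hρ : Function.Surjective ρ := by
    let P : Subalgebra k C' := (ρ.range).comap (Ideal.Quotient.mkₐ k J)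
    have hP : C' ≤ P.map C'.val := by
      refine sup_le (fun c hc => ?_) (fun d hd => ?_)
      · refine ⟨ι ⟨c, hc⟩, ?_, rfl⟩
        show Ideal.Quotient.mkₐ k J (ι ⟨c, hc⟩) ∈ ρ.range
        have := hcong ⟨c, hc⟩
        rw [Ideal.Quotient.mkₐ_eq_mk, this]
        exact ⟨algebraMap k D (χ ⟨c, hc⟩), by simp [ρ]⟩
      · refine ⟨Subalgebra.inclusion le_sup_right ⟨d, hd⟩, ?_, rfl⟩
        exact ⟨⟨d, hd⟩, rfl⟩
    intro q
    obtain ⟨x, rfl⟩ := Ideal.Quotient.mk_surjective q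
    obtain ⟨y, hy, hyx⟩ := hP x.2
    have : y = x := Subtype.ext hyx
    rw [← this]
    exact hy
  haveI : Algebra.FiniteType k (C' ⧸ J) := Algebra.FiniteType.of_surjective ρ hρ
  obtain ⟨θ⟩ := exists_algHom_of_finiteType k (C' ⧸ J)
  refine ⟨θ.comp (Ideal.Quotient.mkₐ k J), fun c => ?_⟩
  show θ (Ideal.Quotient.mk J (ι c)) = χ c
  rw [hcong c]
  have : Ideal.Quotient.mk J (algebraMap k C' (χ c)) = algebraMap k (C' ⧸ J) (χ c) := rfl
  rw [this, θ.commutes]
  rfl

/-- **Extension of `k`-points**: over an algebraically closed field, a `k`-point of a Hopf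
subalgebra `B` of a commutative Hopf algebra `A` extends to `A`. -/
theorem exists_extension (B : Subalgebra k A) (hB : IsHopfSub B) (φ : B →ₐ[k] k) :
    ∃ ψ : A →ₐ[k] k, ∀ b : B, ψ b = φ b := by
  classical
  let Γ₀ : Subalgebra k (A × k) := (AlgHom.prod B.val φ).range
  let S : Set (Subalgebra k (A × k)) :=
    {Γ | (∀ p ∈ Γ, p.1 = 0 → p.2 = 0) ∧ IsHopfSub (Γ.map (AlgHom.fst k A k))}
  have hmapgraph : ∀ (C : Subalgebra k A) (χ : C →ₐ[k] k),
      ((AlgHom.prod C.val χ).range).map (AlgHom.fst k A k) = C := by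
    intro C χ
    ext a
    constructor
    · rintro ⟨_, ⟨c, rfl⟩, rfl⟩
      exact c.2
    · intro ha
      exact ⟨_, ⟨⟨a, ha⟩, rfl⟩, rfl⟩
  have hgraphS : ∀ (C : Subalgebra k A) (χ : C →ₐ[k] k), IsHopfSub C →
      (AlgHom.prod C.val χ).range ∈ S := by
    intro C χ hC
    refine ⟨?_, ?_⟩
    · rintro _ ⟨c, rfl⟩ h0
      have hc : c = 0 := Subtype.ext h0
      show χ c = 0
      rw [hc, map_zero]
    · rw [hmapgraph]; exact hC
  have hΓ₀ : Γ₀ ∈ S := hgraphS B φ hB
  have ih : ∀ c ⊆ S, IsChain (· ≤ ·) c → ∀ y ∈ c, ∃ ub ∈ S, ∀ z ∈ c, z ≤ ub := by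
    intro c hcS hc y hy
    refine ⟨sSup c, ⟨?_, ?_⟩, fun z hz => le_sSup hz⟩
    · intro p hp h0
      obtain ⟨Γ, hΓ, hpΓ⟩ := (mem_sSup_of_chain c hc ⟨y, hy⟩ p).mp hp
      exact (hcS hΓ).1 p hpΓ h0
    · apply isHopfSub_of_forall
      rintro _ ⟨p, hp, rfl⟩
      obtain ⟨Γ, hΓ, hpΓ⟩ := (mem_sSup_of_chain c hc ⟨y, hy⟩ p).mp hp
      exact ⟨Γ.map (AlgHom.fst k A k), Subalgebra.map_mono (le_sSup hΓ), (hcS hΓ).2,
        ⟨p, hpΓ, rfl⟩⟩
  obtain ⟨m, hΓ₀m, hmax⟩ := zorn_le_nonempty₀ S ih Γ₀ hΓ₀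
  have hmS : m ∈ S := hmax.prop
  set C : Subalgebra k A := m.map (AlgHom.fst k A k) with hCdef
  -- the projection `m → C` is bijective
  let fstm : m →ₐ[k] C := ((AlgHom.fst k A k).comp m.val).codRestrict C
    (fun p => ⟨p.1, p.2, rfl⟩)
  have hfstm : Function.Bijective fstm := by
    constructor
    · intro p q hpq
      have h1 : (p.1 - q.1).1 = 0 := by
        have := congrArg Subtype.val hpq
        show p.1.1 - q.1.1 = 0
        exact sub_eq_zero.mpr this
      have h2 := hmS.1 (p.1 - q.1) (m.sub_mem p.2 q.2) h1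
      apply Subtype.ext
      apply Prod.ext
      · exact sub_eq_zero.mp h1
      · exact sub_eq_zero.mp h2
    · rintro ⟨_, p, hp, rfl⟩
      exact ⟨⟨p, hp⟩, rfl⟩
  let e : m ≃ₐ[k] C := AlgEquiv.ofBijective fstm hfstm
  let χ : C →ₐ[k] k := ((AlgHom.snd k A k).comp m.val).comp (e.symm : C →ₐ[k] m)
  have hχ : ∀ (p : A × k) (hp : p ∈ m), χ ⟨p.1, ⟨p, hp, rfl⟩⟩ = p.2 := by
    intro p hp
    have h1 : e ⟨p, hp⟩ = ⟨p.1, ⟨p, hp, rfl⟩⟩ := rfl
    show (e.symm ⟨p.1, ⟨p, hp, rfl⟩⟩).1.2 = p.2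
    rw [← h1, e.symm_apply_apply]
  -- `C = ⊤`
  have hCtop : C = ⊤ := by
    rw [eq_top_iff]
    intro a _
    by_contra ha
    obtain ⟨D, haD, hDfg, hDH⟩ := exists_fg_hopfSub (k := k) a
    obtain ⟨χ', hχ'⟩ := exists_extend_sup C D hmS.2 hDfg χ
    let m' : Subalgebra k (A × k) := (AlgHom.prod (C ⊔ D).val χ').range
    have hm'S : m' ∈ S := hgraphS (C ⊔ D) χ' (isHopfSub_sup hmS.2 hDH)
    have hle : m ≤ m' := by
      intro p hp
      refine ⟨Subalgebra.inclusion le_sup_left ⟨p.1, ⟨p, hp, rfl⟩⟩, ?_⟩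
      apply Prod.ext
      · rfl
      · show χ' _ = p.2
        rw [hχ', hχ p hp]
    have hle' : m' ≤ m := hmax.le_of_ge hm'S hle
    have h3 : (C ⊔ D) ≤ C := by
      rw [← hmapgraph (C ⊔ D) χ']
      exact Subalgebra.map_mono hle'
    exact ha (h3 ((le_sup_right : D ≤ C ⊔ D) haD))
  let ψ : A →ₐ[k] k := χ.comp ((AlgHom.id k A).codRestrict C (fun a => by rw [hCtop]; trivial))
  refine ⟨ψ, fun b => ?_⟩
  have hb : ((b : A), φ b) ∈ m := hΓ₀m ⟨b, rfl⟩
  exact hχ _ hb

/-- a `k`-point of `A'` lifts along a map of Hopf algebras `A' → A` which is surjective on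
spectra -/
theorem exists_lift_of_comap_surjective {A' : Type v} [CommRing A'] [HopfAlgebra k A']
    (f : A' →ₐc[k] A) (hs : Function.Surjective (PrimeSpectrum.comap (f : A' →+* A)))
    (ξ : A' →ₐ[k] k) : ∃ ψ : A →ₐ[k] k, ψ.comp (f : A' →ₐ[k] A) = ξ := by
  let f' : A' →ₐ[k] A := (f : A' →ₐ[k] A)
  have hB : IsHopfSub f'.range :=
    ⟨Groth.Agent.Helper7.Takeuchi.comulMem_range f,
      Groth.Agent.Helper7.Takeuchi.antipode_mem_range f⟩
  have hker : ∀ a ∈ RingHom.ker f', ξ a = 0 := by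
    intro a ha
    haveI : (RingHom.ker (ξ : A' →+* k)).IsPrime := RingHom.ker_isPrime _
    obtain ⟨q, hq⟩ := hs ⟨RingHom.ker (ξ : A' →+* k), inferInstance⟩
    have h1 : a ∈ (PrimeSpectrum.comap (f : A' →+* A) q).asIdeal := by
      show (f : A' →+* A) a ∈ q.asIdeal
      have : (f : A' →+* A) a = 0 := ha
      rw [this]
      exact q.asIdeal.zero_mem
    rw [hq] at h1
    exact h1
  let φ : f'.range →ₐ[k] k :=
    (Ideal.Quotient.liftₐ (RingHom.ker f') ξ hker).comp
      ((Ideal.quotientKerEquivRange f').symm : f'.range →ₐ[k] _)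
  have hφ : ∀ a : A', φ ⟨f' a, a, rfl⟩ = ξ a := by
    intro a
    have h1 : Ideal.quotientKerEquivRange f' (Ideal.Quotient.mk _ a) = ⟨f' a, a, rfl⟩ := rfl
    show Ideal.Quotient.liftₐ (RingHom.ker f') ξ hker
      ((Ideal.quotientKerEquivRange f').symm ⟨f' a, a, rfl⟩) = ξ a
    rw [← h1, AlgEquiv.symm_apply_apply]
    rfl
  obtain ⟨ψ, hψ⟩ := exists_extension f'.range hB φ
  refine ⟨ψ, ?_⟩
  ext a
  exact (hψ ⟨f' a, a, rfl⟩).trans (hφ a)

/-- a non-nilpotent element of a commutative Hopf algebra over an algebraically closed field is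
non-zero at some `k`-point -/
theorem exists_point_ne_zero (a : A) (ha : ¬ IsNilpotent a) : ∃ ψ : A →ₐ[k] k, ψ a ≠ 0 := by
  obtain ⟨B, haB, hBfg, hBH⟩ := exists_fg_hopfSub (k := k) a
  haveI : Algebra.FiniteType k B := (Subalgebra.fg_iff_finiteType B).mp hBfg
  let a' : B := ⟨a, haB⟩
  have ha' : ¬ IsNilpotent a' := by
    intro h
    exact ha (h.map B.val)
  let Q := Localization.Away a'
  haveI : Algebra.FiniteType B Q := IsLocalization.finiteType_of_monoid_fg (Submonoid.powers a') Q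
  haveI : Algebra.FiniteType k Q := Algebra.FiniteType.trans (inferInstance : Algebra.FiniteType k B)
    (inferInstance : Algebra.FiniteType B Q)
  haveI : Nontrivial Q := by
    rw [← not_subsingleton_iff_nontrivial, IsLocalization.subsingleton_iff (M := Submonoid.powers a')]
    rintro ⟨n, hn⟩
    exact ha' ⟨n, hn⟩
  obtain ⟨θ⟩ := exists_algHom_of_finiteType k Q
  let φ : B →ₐ[k] k := θ.comp (IsScalarTower.toAlgHom k B Q)
  have hφ : φ a' ≠ 0 := by
    have hu : IsUnit (algebraMap B Q a') := IsLocalization.Away.algebraMap_isUnit a'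
    have : IsUnit (θ (algebraMap B Q a')) := hu.map θ
    exact this.ne_zero
  obtain ⟨ψ, hψ⟩ := exists_extension B hBH φ
  exact ⟨ψ, by rw [show ψ a = φ a' from hψ a']; exact hφ⟩

end Groth.Agent.Lead.HopfPts
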