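import Mathlib
import Groth.Agent.Lead.HopfPtsA

/-!
# `k`-points of affine group schemes over an algebraically closed field
-/

set_option autoImplicit false
universe u

open CategoryTheory CategoryTheory.Limits MonoidalCategory CartesianMonoidalCategory MonObj GrpObj
  AlgebraicGeometry Opposite

namespace Groth.Agent.Lead.HopfPts

section Pts

variable {k : Type u} [Field k]

/-- the `k`-point of `Spec A` attached to an algebra map `A → k` -/
noncomputable def ptOfAlgHom (H : (CommHopfAlgCat (CommRingCat.of k))ᵒᵖ) (ψ : H.unop →ₐ[k] k) :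
    𝟙_ (Over (Spec (CommRingCat.of k))) ⟶ ((hopfSpec (CommRingCat.of k)).obj H).X :=
  Over.homMk (Spec.map (CommRingCat.ofHom (ψ : H.unop →+* k))) (by
    show Spec.map _ ≫ Spec.map (CommRingCat.ofHom (algebraMap k H.unop)) = 𝟙 _
    rw [← Spec.map_comp]
    have h1 : CommRingCat.ofHom (algebraMap k H.unop) ≫
        CommRingCat.ofHom (ψ : H.unop →+* k) = 𝟙 (CommRingCat.of k) :=
      CommRingCat.hom_ext (RingHom.ext fun c => ψ.commutes c)
    exact (congrArg Spec.map h1).trans (Spec.map_id _))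

lemma ptOfAlgHom_left (H : (CommHopfAlgCat (CommRingCat.of k))ᵒᵖ) (ψ : H.unop →ₐ[k] k) :
    (ptOfAlgHom H ψ).left = Spec.map (CommRingCat.ofHom (ψ : H.unop →+* k)) := rfl

/-- the algebra map `A → k` attached to a `k`-point of `Spec A` -/
noncomputable def algHomOfPt (H : (CommHopfAlgCat (CommRingCat.of k))ᵒᵖ)
    (g : 𝟙_ (Over (Spec (CommRingCat.of k))) ⟶ ((hopfSpec (CommRingCat.of k)).obj H).X) :
    H.unop →ₐ[k] k :=
  { (Spec.preimage (R := CommRingCat.of H.unop) (S := CommRingCat.of k) g.left).hom with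
    commutes' := by
      intro c
      have h1 : CommRingCat.ofHom (algebraMap k H.unop) ≫
          Spec.preimage (R := CommRingCat.of H.unop) (S := CommRingCat.of k) g.left = 𝟙 _ := by
        apply Spec.map_injective
        rw [Spec.map_comp, Spec.map_preimage, Spec.map_id]
        exact Over.w g
      exact congrArg (fun φ => φ.hom c) h1 }

lemma ptOfAlgHom_algHomOfPt (H : (CommHopfAlgCat (CommRingCat.of k))ᵒᵖ)
    (g : 𝟙_ (Over (Spec (CommRingCat.of k))) ⟶ ((hopfSpec (CommRingCat.of k)).obj H).X) :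
    ptOfAlgHom H (algHomOfPt H g) = g := by
  apply Over.OverMorphism.ext
  rw [ptOfAlgHom_left]
  exact Spec.map_preimage _

end Pts

section Main

variable (k : Type u) [Field k] [IsAlgClosed k]

/-- a surjective homomorphism of affine group schemes over an algebraically closed field is
surjective on `k`-points -/
theorem main_surj (G G' : Over (Spec (CommRingCat.of k))) [GrpObj G] [GrpObj G']
    [IsAffine G.left] [IsAffine G'.left] (h : G ⟶ G') [IsMonHom h] (hs : Surjective h.left)
    (x : 𝟙_ (Over (Spec (CommRingCat.of k))) ⟶ G') :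
    ∃ g : 𝟙_ (Over (Spec (CommRingCat.of k))) ⟶ G, g ≫ h = x := by
  obtain ⟨H, ⟨e⟩⟩ := (essImage_hopfSpec (G := Grp.mk G)).mpr ‹_›
  obtain ⟨H', ⟨e'⟩⟩ := (essImage_hopfSpec (G := Grp.mk G')).mpr ‹_›
  let F : (hopfSpec (CommRingCat.of k)).obj H ⟶ (hopfSpec (CommRingCat.of k)).obj H' :=
    e.hom ≫ Grp.ofHom h ≫ e'.inv
  let f : H ⟶ H' := (hopfSpec.fullyFaithful (R := CommRingCat.of k)).preimage F
  have hf : (hopfSpec (CommRingCat.of k)).map f = F :=
    (hopfSpec.fullyFaithful (R := CommRingCat.of k)).map_preimage F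
  let ψG : ((hopfSpec (CommRingCat.of k)).obj H).X ⟶ G := e.hom.hom.hom
  let ψG' : ((hopfSpec (CommRingCat.of k)).obj H').X ⟶ G' := e'.hom.hom.hom
  let ψG'i : G' ⟶ ((hopfSpec (CommRingCat.of k)).obj H').X := e'.inv.hom.hom
  have hii : ψG'i ≫ ψG' = 𝟙 _ := by
    have := congrArg (fun φ => φ.hom.hom) e'.inv_hom_id
    exact this
  have hii' : ψG' ≫ ψG'i = 𝟙 _ := by
    have := congrArg (fun φ => φ.hom.hom) e'.hom_inv_id
    exact this
  have hcomm : ((hopfSpec (CommRingCat.of k)).map f).hom.hom = ψG ≫ h ≫ ψG'i := by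
    rw [hf]; rfl
  let fa : H'.unop →ₐc[k] H.unop := f.unop.hom
  have hleft : ((hopfSpec (CommRingCat.of k)).map f).hom.hom.left =
      Spec.map (CommRingCat.ofHom ((fa : H'.unop →ₐc[k] H.unop) : H'.unop →+* H.unop)) := rfl
  -- surjectivity on spectra
  haveI : IsIso ψG := (inferInstance : IsIso ((Grp.forget _).map e.hom))
  haveI : IsIso ψG'i := ⟨ψG', hii, hii'⟩
  haveI : IsIso ψG.left := (inferInstance : IsIso ((Over.forget _).map ψG))
  haveI : IsIso ψG'i.left := (inferInstance : IsIso ((Over.forget _).map ψG'i))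
  have hsurj : Surjective (Spec.map
      (CommRingCat.ofHom ((fa : H'.unop →ₐc[k] H.unop) : H'.unop →+* H.unop))) := by
    rw [← hleft, hcomm]
    show Surjective (ψG.left ≫ h.left ≫ ψG'i.left)
    infer_instance
  have hs' : Function.Surjective (PrimeSpectrum.comap ((fa : H'.unop →ₐc[k] H.unop) :
      H'.unop →+* H.unop)) := hsurj.surj
  -- the point
  let ξ : H'.unop →ₐ[k] k := algHomOfPt H' (x ≫ ψG'i)
  obtain ⟨ψ, hψ⟩ := exists_lift_of_comap_surjective fa hs' ξ
  refine ⟨ptOfAlgHom H ψ ≫ ψG, ?_⟩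
  have h1 : ptOfAlgHom H ψ ≫ ((hopfSpec (CommRingCat.of k)).map f).hom.hom = x ≫ ψG'i := by
    rw [← ptOfAlgHom_algHomOfPt H' (x ≫ ψG'i)]
    apply Over.OverMorphism.ext
    have key : Spec.map (CommRingCat.ofHom (ψ : H.unop →+* k)) ≫
        Spec.map (CommRingCat.ofHom ((fa : H'.unop →ₐc[k] H.unop) : H'.unop →+* H.unop)) =
        Spec.map (CommRingCat.ofHom (ξ : H'.unop →+* k)) := by
      rw [← Spec.map_comp]
      congr 1
      apply CommRingCat.hom_ext
      apply RingHom.ext
      intro a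
      exact congrArg (fun φ => φ a) hψ
    exact key
  rw [hcomm] at h1
  have h2 := congrArg (fun φ => φ ≫ ψG') h1
  simp only [Category.assoc, hii, Category.comp_id] at h2
  exact h2

/-- the `k`-points of an affine group scheme over an algebraically closed field are dense -/
theorem main_dense (G : Over (Spec (CommRingCat.of k))) [GrpObj G] [IsAffine G.left] :
    Dense {x : ↥G.left | ∃ g : 𝟙_ (Over (Spec (CommRingCat.of k))) ⟶ G,
      g.left.base (IsLocalRing.closedPoint k) = x} := by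
  obtain ⟨H, ⟨e⟩⟩ := (essImage_hopfSpec (G := Grp.mk G)).mpr ‹_›
  let ψG : ((hopfSpec (CommRingCat.of k)).obj H).X ⟶ G := e.hom.hom.hom
  haveI : IsIso ψG := (inferInstance : IsIso ((Grp.forget _).map e.hom))
  haveI : IsIso ψG.left := (inferInstance : IsIso ((Over.forget _).map ψG))
  rw [dense_iff_inter_open]
  intro U hU hne
  -- pull back to `Spec A`
  let V : Set (PrimeSpectrum H.unop) := ψG.left.base ⁻¹' U
  have hV : IsOpen V := hU.preimage ψG.left.base.hom.continuous
  have hVne : V.Nonempty := by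
    obtain ⟨y, hy⟩ := hne
    obtain ⟨z, hz⟩ := (ψG.left.homeomorph).surjective y
    exact ⟨z, by show ψG.left.base z ∈ U; rw [show ψG.left.base z = y from hz]; exact hy⟩
  obtain ⟨z, hz⟩ := hVne
  obtain ⟨_, ⟨a, rfl⟩, hza, haV⟩ :=
    PrimeSpectrum.isTopologicalBasis_basic_opens.exists_subset_of_mem_open hz hV
  have hnil : ¬ IsNilpotent a := by
    intro hn
    have : (PrimeSpectrum.basicOpen a : Set (PrimeSpectrum H.unop)) = ∅ := by
      rw [← TopologicalSpace.Opens.coe_bot, SetLike.coe_set_eq]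
      exact (PrimeSpectrum.basicOpen_eq_bot_iff a).mpr hn
    have hza' : z ∈ (PrimeSpectrum.basicOpen a : Set (PrimeSpectrum H.unop)) := hza
    rw [this] at hza'
    exact hza'
  obtain ⟨ψ, hψ⟩ := exists_point_ne_zero (k := k) a hnil
  let g := ptOfAlgHom H ψ ≫ ψG
  refine ⟨g.left.base (IsLocalRing.closedPoint k), ?_, ⟨g, rfl⟩⟩
  show ψG.left.base ((ptOfAlgHom H ψ).left.base (IsLocalRing.closedPoint k)) ∈ U
  apply haV
  show a ∉ ((ptOfAlgHom H ψ).left.base (IsLocalRing.closedPoint k)).asIdeal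
  rw [ptOfAlgHom_left]
  show a ∉ (PrimeSpectrum.comap (ψ : H.unop →+* k) (IsLocalRing.closedPoint k)).asIdeal
  show ¬ ((ψ : H.unop →+* k) a ∈ (IsLocalRing.closedPoint k).asIdeal)
  intro hmem
  have : (ψ : H.unop →+* k) a ∈ IsLocalRing.maximalIdeal k := hmem
  rw [IsLocalRing.maximalIdeal_eq_bot, Ideal.mem_bot] at this
  exact hψ this

end Main

end Groth.Agent.Lead.HopfPts
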