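import Groth.Agent.Lead.CnMapE
import Mathlib

set_option autoImplicit false
set_option backward.isDefEq.respectTransparency false
set_option backward.isDefEq.respectTransparency.types false
open CategoryTheory CategoryTheory.Limits AlgebraicGeometry Opposite TopologicalSpace
universe u

namespace Groth.Agent.Lead.IdMapA

open Scheme.Modules OmegaSh Groth.Agent.Helper4 Groth.Agent.Lead.BCMap Groth.Agent.Helper1

section One
variable {X : Scheme.{u}} (𝓘 : X.IdealSheafData)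

theorem idealSect_smul (U : X.Opens) (a : Γ(X, U)) (σ : Γ(ClSub.idealMod 𝓘, U)) :
    idealSect 𝓘 U (a • σ) = a * idealSect 𝓘 U σ := by
  rw [idealSect_apply, Scheme.Modules.Hom.app_smul]
  rfl

theorem idealSect_injective (U : X.Opens) : Function.Injective (idealSect 𝓘 U) := by
  intro a b hab
  exact IdealModDict.idealModι_app_injective 𝓘 U hab

theorem idealSect_res {U₁ U₂ : X.Opens} (hU : U₂ ≤ U₁) (s : Γ(ClSub.idealMod 𝓘, U₁)) :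
    idealSect 𝓘 U₂ ((ClSub.idealMod 𝓘).presheaf.map (homOfLE hU).op s) =
      X.presheaf.map (homOfLE hU).op (idealSect 𝓘 U₁ s) :=
  StalkExact.app_res (ClSub.idealModι 𝓘) (homOfLE hU) s

theorem idealSect_mem {U : X.Opens} (hU : IsAffineOpen U) (σ : Γ(ClSub.idealMod 𝓘, U)) :
    idealSect 𝓘 U σ ∈ 𝓘.ideal ⟨U, hU⟩ :=
  (IdealModDict.exists_section_iff 𝓘 ⟨U, hU⟩ _).mp ⟨σ, rfl⟩

theorem exists_idealSect {U : X.Opens} (hU : IsAffineOpen U) (s : Γ(X, U))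
    (hs : s ∈ 𝓘.ideal ⟨U, hU⟩) : ∃ σ : Γ(ClSub.idealMod 𝓘, U), idealSect 𝓘 U σ = s := by
  obtain ⟨σ, hσ⟩ := (IdealModDict.exists_section_iff 𝓘 ⟨U, hU⟩ s).mpr hs
  exact ⟨σ, hσ⟩

/-- a function which is a section of the ideal on a cover is a section of the ideal -/
theorem exists_idealSect_of_cover (P : X.Opens) (t : Γ(X, P)) {κ : Type u} (W : κ → X.Opens)
    (hW : ∀ k, W k ≤ P) (hcov : P ≤ iSup W)
    (h : ∀ k, ∃ τ : Γ(ClSub.idealMod 𝓘, W k),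
      idealSect 𝓘 (W k) τ = X.presheaf.map (homOfLE (hW k)).op t) :
    ∃ s : Γ(ClSub.idealMod 𝓘, P), idealSect 𝓘 P s = t := by
  have h0 : (ClSub.toSubscheme 𝓘).app P (show Γ(Coh.structureModule X, P) from t) = 0 := by
    apply BasisHom.section_ext_of_cover _ P W hW hcov
    intro k
    rw [map_zero, ← StalkExact.app_res]
    obtain ⟨τ, hτ⟩ := h k
    exact (SubSec.exists_kernel_section_iff (ClSub.toSubscheme 𝓘) (W k) _).mp ⟨τ, hτ⟩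
  obtain ⟨s, hs⟩ := (SubSec.exists_kernel_section_iff (ClSub.toSubscheme 𝓘) P _).mpr h0
  exact ⟨s, hs⟩

end One

/-- sections of a pullback along a morphism with surjective comorphism on an affine pair -/
theorem exists_pullSect {Z X : Scheme.{u}} (i : Z ⟶ X) (F : X.Modules) [F.IsQuasicoherent]
    {U : X.Opens} (hU : IsAffineOpen U)
    (hU' : IsAffineOpen (i ⁻¹ᵁ U)) (hsurj : Function.Surjective (i.app U))
    (n : Γ((Scheme.Modules.pullback i).obj F, i ⁻¹ᵁ U)) :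
    ∃ σ : Γ(F, U), pullSect i F U σ = n := by
  have e : i ⁻¹ᵁ U ≤ i ⁻¹ᵁ U := le_rfl
  letI algBC := (i.appLE U (i ⁻¹ᵁ U) e).hom.toAlgebra
  have hsurj' : Function.Surjective (algebraMap Γ(X, U) Γ(Z, i ⁻¹ᵁ U)) := by
    intro t
    obtain ⟨s, hs⟩ := hsurj t
    refine ⟨s, ?_⟩
    change i.appLE U (i ⁻¹ᵁ U) e s = t
    rw [Scheme.Hom.appLE_eq_app]
    exact hs
  letI : Module Γ(X, U) Γ((Scheme.Modules.pullback i).obj F, i ⁻¹ᵁ U) :=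
    Module.compHom _ (i.appLE U (i ⁻¹ᵁ U) e).hom
  haveI : IsScalarTower Γ(X, U) Γ(Z, i ⁻¹ᵁ U)
      Γ((Scheme.Modules.pullback i).obj F, i ⁻¹ᵁ U) :=
    IsScalarTower.of_compHom _ _ _
  obtain ⟨ρI, hρI, hbI⟩ := exists_isBaseChange_pbSec i F hU hU' e
  obtain ⟨σ, hσ⟩ := OmegaCnC.isBaseChange_surjective ρI hbI hsurj' n
  rw [hρI, OmegaCnB.pbSec_self] at hσ
  exact ⟨σ, hσ⟩

theorem pullSect_res {Z X : Scheme.{u}} (i : Z ⟶ X) (F : X.Modules) {U V : X.Opens} (e : V ≤ U)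
    (σ : Γ(F, U)) :
    pullSect i F V (F.presheaf.map (homOfLE e).op σ) =
      ((Scheme.Modules.pullback i).obj F).presheaf.map (homOfLE (i.preimage_mono e)).op
        (pullSect i F U σ) := by
  have h4 := pbSec_res i F (le_refl (i ⁻¹ᵁ U)) (le_refl (i ⁻¹ᵁ V)) e (i.preimage_mono e) σ
  rw [OmegaCnB.pbSec_self, OmegaCnB.pbSec_self] at h4
  exact h4

theorem pullSect_smul {Z X : Scheme.{u}} (i : Z ⟶ X) (F : X.Modules) (U : X.Opens)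
    (b : Γ(X, U)) (σ : Γ(F, U)) :
    pullSect i F U (b • σ) = i.appLE U (i ⁻¹ᵁ U) le_rfl b • pullSect i F U σ := by
  rw [← OmegaCnB.pbSec_self, pbSec_smul, OmegaCnB.pbSec_self]


section Pair
variable {Z X Z' X' : Scheme.{u}} (i : Z ⟶ X) (i' : Z' ⟶ X') (g : X ⟶ X') (gZ : Z ⟶ Z')
  (𝓘 : X.IdealSheafData) (𝓘' : X'.IdealSheafData)

/-- the pulled-back ideal module -/
noncomputable abbrev M : Z.Modules := (Scheme.Modules.pullback i).obj (ClSub.idealMod 𝓘)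

/-- `φ` is compatible with `g♯` on sections of the ideals -/
def IsIdMap (φ : (Scheme.Modules.pullback gZ).obj (M i' 𝓘') ⟶ M i 𝓘) : Prop :=
  gZ ≫ i' = i ≫ g ∧
  ∀ (U' : X'.Opens) (s' : Γ(ClSub.idealMod 𝓘', U')) (s : Γ(ClSub.idealMod 𝓘, g ⁻¹ᵁ U')),
    idealSect 𝓘 (g ⁻¹ᵁ U') s = g.app U' (idealSect 𝓘' U' s') →
    ∀ (V : Z.Opens) (h₁ : V ≤ gZ ⁻¹ᵁ (i' ⁻¹ᵁ U')) (h₂ : V ≤ i ⁻¹ᵁ (g ⁻¹ᵁ U')),
      (M i 𝓘).presheaf.map (homOfLE h₁).op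
          (φ.app (gZ ⁻¹ᵁ (i' ⁻¹ᵁ U'))
            (pullSect gZ (M i' 𝓘') (i' ⁻¹ᵁ U') (pullSect i' (ClSub.idealMod 𝓘') U' s'))) =
        (M i 𝓘).presheaf.map (homOfLE h₂).op (pullSect i (ClSub.idealMod 𝓘) (g ⁻¹ᵁ U') s)

variable (φ : (Scheme.Modules.pullback gZ).obj (M i' 𝓘') ⟶ M i 𝓘)
  (hφ : IsIdMap i i' g gZ 𝓘 𝓘' φ)
  (hlift : ∀ (U' : X'.Opens) (s' : Γ(ClSub.idealMod 𝓘', U')),
    ∃ s : Γ(ClSub.idealMod 𝓘, g ⁻¹ᵁ U'),
      idealSect 𝓘 (g ⁻¹ᵁ U') s = g.app U' (idealSect 𝓘' U' s'))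

include hφ in
theorem le_pre' {U : X.Opens} {U' : X'.Opens} (e : U ≤ g ⁻¹ᵁ U') :
    i ⁻¹ᵁ U ≤ gZ ⁻¹ᵁ (i' ⁻¹ᵁ U') := by
  intro x hx
  have h : (gZ ≫ i') x = (i ≫ g) x := by rw [hφ.1]
  have h' : i' (gZ x) = g (i x) := h
  change i' (gZ x) ∈ U'
  rw [h']
  exact e hx

include hφ hlift in
/-- the value of an ideal map over a pair `U ≤ g⁻¹U'` -/
theorem idmap_affine {U : X.Opens} {U' : X'.Opens} (e : U ≤ g ⁻¹ᵁ U')
    (s' : Γ(ClSub.idealMod 𝓘', U')) :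
    ∃ τ : Γ(ClSub.idealMod 𝓘, U),
      idealSect 𝓘 U τ = g.appLE U' U e (idealSect 𝓘' U' s') ∧
      φ.app (i ⁻¹ᵁ U) (pbSec gZ (M i' 𝓘') (i' ⁻¹ᵁ U') (i ⁻¹ᵁ U)
        (le_pre' i i' g gZ 𝓘 𝓘' φ hφ e) (pullSect i' (ClSub.idealMod 𝓘') U' s')) =
          pullSect i (ClSub.idealMod 𝓘) U τ := by
  obtain ⟨s, hs⟩ := hlift U' s'
  refine ⟨(ClSub.idealMod 𝓘).presheaf.map (homOfLE e).op s, ?_, ?_⟩
  · rw [idealSect_res, hs]
    rfl
  · have h1 := hφ.2 U' s' s hs (i ⁻¹ᵁ U) (le_pre' i i' g gZ 𝓘 𝓘' φ hφ e) (i.preimage_mono e)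
    rw [pbSec_apply]
    have h2 := StalkExact.app_res φ (homOfLE (le_pre' i i' g gZ 𝓘 𝓘' φ hφ e))
      (pullSect gZ (M i' 𝓘') (i' ⁻¹ᵁ U') (pullSect i' (ClSub.idealMod 𝓘') U' s'))
    refine h2.trans (h1.trans ?_)
    exact (pullSect_res i (ClSub.idealMod 𝓘) e s).symm

include hφ hlift in
/-- surjectivity on a chart where the ideal is the extension of the ideal -/
theorem app_surjective_chart {U : X.Opens} {U' : X'.Opens} (e : U ≤ g ⁻¹ᵁ U')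
    (hU' : IsAffineOpen U') (hU : IsAffineOpen U) (hV : IsAffineOpen (i ⁻¹ᵁ U))
    (hsurj : Function.Surjective (i.app U))
    (hI : 𝓘.ideal ⟨U, hU⟩ = Ideal.map (g.appLE U' U e).hom (𝓘'.ideal ⟨U', hU'⟩)) :
    Function.Surjective (φ.app (i ⁻¹ᵁ U)) := by
  intro t
  obtain ⟨σ, hσ⟩ := exists_pullSect i (ClSub.idealMod 𝓘) hU hV hsurj t
  have key : ∀ x ∈ Ideal.map (g.appLE U' U e).hom (𝓘'.ideal ⟨U', hU'⟩),
      ∃ (τ : Γ(ClSub.idealMod 𝓘, U))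
        (s : Γ((Scheme.Modules.pullback gZ).obj (M i' 𝓘'), i ⁻¹ᵁ U)),
        idealSect 𝓘 U τ = x ∧ φ.app (i ⁻¹ᵁ U) s = pullSect i (ClSub.idealMod 𝓘) U τ := by
    intro x hx
    induction hx using Submodule.span_induction with
    | mem x hx =>
      obtain ⟨b, hb, rfl⟩ := hx
      obtain ⟨s', hs'⟩ := exists_idealSect 𝓘' hU' b hb
      obtain ⟨τ, hτ, h⟩ := idmap_affine i i' g gZ 𝓘 𝓘' φ hφ hlift e s'
      exact ⟨τ, _, by rw [hτ, hs'], h⟩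
    | zero => exact ⟨0, 0, map_zero _, by rw [map_zero, map_zero]⟩
    | add x y _ _ hx hy =>
      obtain ⟨τ₁, s₁, h₁, h₁'⟩ := hx
      obtain ⟨τ₂, s₂, h₂, h₂'⟩ := hy
      exact ⟨τ₁ + τ₂, s₁ + s₂, by rw [map_add, h₁, h₂], by rw [map_add, map_add, h₁', h₂']⟩
    | smul a x _ hx =>
      obtain ⟨τ, s, h, h'⟩ := hx
      refine ⟨a • τ, i.appLE U (i ⁻¹ᵁ U) le_rfl a • s, ?_, ?_⟩
      · rw [idealSect_smul, h]
        rfl
      · rw [Scheme.Modules.Hom.app_smul, h', pullSect_smul]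
  have hmem : idealSect 𝓘 U σ ∈
      Ideal.map (g.appLE U' U e).hom (𝓘'.ideal ⟨U', hU'⟩) := by
    rw [← hI]
    exact idealSect_mem 𝓘 hU σ
  obtain ⟨τ, s, hτ, hs⟩ := key _ hmem
  have hτσ : τ = σ := idealSect_injective 𝓘 U hτ
  exact ⟨s, by rw [hs, hτσ, hσ]⟩

end Pair

end Groth.Agent.Lead.IdMapA
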