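import Groth.Agent.Lead.IdMapA
import Mathlib

set_option autoImplicit false
set_option backward.isDefEq.respectTransparency false
set_option backward.isDefEq.respectTransparency.types false
open CategoryTheory CategoryTheory.Limits AlgebraicGeometry Opposite TopologicalSpace
universe u

namespace Groth.Agent.Lead.IdMapB

open Scheme.Modules OmegaSh Groth.Agent.Helper4 Groth.Agent.Lead.BCMap Groth.Agent.Lead.IdMapA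

variable {Z X Z' X' : Scheme.{u}} (i : Z ⟶ X) (i' : Z' ⟶ X') (g : X ⟶ X') (gZ : Z ⟶ Z')
  (𝓘 : X.IdealSheafData) (𝓘' : X'.IdealSheafData)
  (φ : (Scheme.Modules.pullback gZ).obj (M i' 𝓘') ⟶ M i 𝓘)
  (hφ : IsIdMap i i' g gZ 𝓘 𝓘' φ)
  (hlift : ∀ (U' : X'.Opens) (s' : Γ(ClSub.idealMod 𝓘', U')),
    ∃ s : Γ(ClSub.idealMod 𝓘, g ⁻¹ᵁ U'),
      idealSect 𝓘 (g ⁻¹ᵁ U') s = g.app U' (idealSect 𝓘' U' s'))

include hφ hlift in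
theorem app_bijective_chart {U' : X'.Opens} {U : X.Opens} (e : U ≤ g ⁻¹ᵁ U')
    (hU' : IsAffineOpen U') (hU : IsAffineOpen U) (hV' : IsAffineOpen (i' ⁻¹ᵁ U'))
    (hV : IsAffineOpen (i ⁻¹ᵁ U))
    (hbc : letI := (g.appLE U' U e).hom.toAlgebra
      letI : Module Γ(X', U') Γ(ClSub.idealMod 𝓘, U) := Module.compHom _ (g.appLE U' U e).hom
      haveI : IsScalarTower Γ(X', U') Γ(X, U) Γ(ClSub.idealMod 𝓘, U) :=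
        IsScalarTower.of_compHom _ _ _
      ∀ lam : Γ(ClSub.idealMod 𝓘', U') →ₗ[Γ(X', U')] Γ(ClSub.idealMod 𝓘, U),
        (∀ m', idealSect 𝓘 U (lam m') = g.appLE U' U e (idealSect 𝓘' U' m')) →
          IsBaseChange Γ(X, U) lam) :
    Function.Bijective (φ.app (i ⁻¹ᵁ U)) := by
  have e1 : i' ⁻¹ᵁ U' ≤ i' ⁻¹ᵁ U' := le_rfl
  have e2 : i ⁻¹ᵁ U ≤ gZ ⁻¹ᵁ (i' ⁻¹ᵁ U') := le_pre' i i' g gZ 𝓘 𝓘' φ hφ e
  have e3 : i ⁻¹ᵁ U ≤ i ⁻¹ᵁ U := le_rfl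
  -- algebras
  letI algA'A : Algebra Γ(X', U') Γ(X, U) := (g.appLE U' U e).hom.toAlgebra
  letI algAB : Algebra Γ(X, U) Γ(Z, i ⁻¹ᵁ U) := (i.appLE U (i ⁻¹ᵁ U) e3).hom.toAlgebra
  letI algA'B' : Algebra Γ(X', U') Γ(Z', i' ⁻¹ᵁ U') := (i'.appLE U' (i' ⁻¹ᵁ U') e1).hom.toAlgebra
  letI algB'B : Algebra Γ(Z', i' ⁻¹ᵁ U') Γ(Z, i ⁻¹ᵁ U) :=
    (gZ.appLE (i' ⁻¹ᵁ U') (i ⁻¹ᵁ U) e2).hom.toAlgebra
  letI algA'B : Algebra Γ(X', U') Γ(Z, i ⁻¹ᵁ U) :=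
    ((gZ.appLE (i' ⁻¹ᵁ U') (i ⁻¹ᵁ U) e2).hom.comp (i'.appLE U' (i' ⁻¹ᵁ U') e1).hom).toAlgebra
  haveI : IsScalarTower Γ(X', U') Γ(Z', i' ⁻¹ᵁ U') Γ(Z, i ⁻¹ᵁ U) :=
    IsScalarTower.of_algebraMap_eq' rfl
  have hcomm : ∀ r : Γ(X', U'), i.appLE U (i ⁻¹ᵁ U) e3 (g.appLE U' U e r) =
      gZ.appLE (i' ⁻¹ᵁ U') (i ⁻¹ᵁ U) e2 (i'.appLE U' (i' ⁻¹ᵁ U') e1 r) := by
    intro r
    have key : ∀ (f f' : Z ⟶ X') (_ : f = f') (h1 : i ⁻¹ᵁ U ≤ f ⁻¹ᵁ U')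
        (h2 : i ⁻¹ᵁ U ≤ f' ⁻¹ᵁ U'), f.appLE U' (i ⁻¹ᵁ U) h1 = f'.appLE U' (i ⁻¹ᵁ U) h2 := by
      rintro _ _ rfl _ _
      rfl
    have h1 := Scheme.Hom.appLE_comp_appLE i g U' U (i ⁻¹ᵁ U) e e3
    have h2 := Scheme.Hom.appLE_comp_appLE gZ i' U' (i' ⁻¹ᵁ U') (i ⁻¹ᵁ U) e1 e2
    have h3 := key _ _ hφ.1 (by rw [Scheme.Hom.comp_preimage]; exact e2)
      (by rw [Scheme.Hom.comp_preimage]; exact i.preimage_mono e)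
    have h4 := congr($h1 r)
    have h5 := congr($h2 r)
    exact h4.trans ((congr($h3 r)).symm.trans h5.symm)
  haveI : IsScalarTower Γ(X', U') Γ(X, U) Γ(Z, i ⁻¹ᵁ U) :=
    IsScalarTower.of_algebraMap_eq (fun r => (hcomm r).symm)
  haveI : (M i' 𝓘').IsQuasicoherent :=
    StalkPull.isQuasicoherent_pullbackObj i' (ClSub.idealMod 𝓘')
  -- modules, source side
  letI modA'N' : Module Γ(X', U') Γ(M i' 𝓘', i' ⁻¹ᵁ U') :=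
    Module.compHom _ (i'.appLE U' (i' ⁻¹ᵁ U') e1).hom
  haveI : IsScalarTower Γ(X', U') Γ(Z', i' ⁻¹ᵁ U') Γ(M i' 𝓘', i' ⁻¹ᵁ U') :=
    IsScalarTower.of_compHom _ _ _
  obtain ⟨ρ₁, hρ₁, hb₁⟩ := exists_isBaseChange_pbSec i' (ClSub.idealMod 𝓘') hU' hV' e1
  letI modB'P : Module Γ(Z', i' ⁻¹ᵁ U')
      Γ((Scheme.Modules.pullback gZ).obj (M i' 𝓘'), i ⁻¹ᵁ U) :=
    Module.compHom _ (gZ.appLE (i' ⁻¹ᵁ U') (i ⁻¹ᵁ U) e2).hom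
  haveI : IsScalarTower Γ(Z', i' ⁻¹ᵁ U') Γ(Z, i ⁻¹ᵁ U)
      Γ((Scheme.Modules.pullback gZ).obj (M i' 𝓘'), i ⁻¹ᵁ U) :=
    IsScalarTower.of_compHom _ _ _
  obtain ⟨ρ₂, hρ₂, hb₂⟩ := exists_isBaseChange_pbSec gZ (M i' 𝓘') hV' hV e2
  letI modA'P : Module Γ(X', U')
      Γ((Scheme.Modules.pullback gZ).obj (M i' 𝓘'), i ⁻¹ᵁ U) :=
    Module.compHom _ (algebraMap Γ(X', U') Γ(Z, i ⁻¹ᵁ U))
  haveI : IsScalarTower Γ(X', U') Γ(Z, i ⁻¹ᵁ U)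
      Γ((Scheme.Modules.pullback gZ).obj (M i' 𝓘'), i ⁻¹ᵁ U) :=
    IsScalarTower.of_compHom _ _ _
  haveI : IsScalarTower Γ(X', U') Γ(Z', i' ⁻¹ᵁ U')
      Γ((Scheme.Modules.pullback gZ).obj (M i' 𝓘'), i ⁻¹ᵁ U) :=
    IsScalarTower.of_algebraMap_smul (fun r m => rfl)
  have hsrc : IsBaseChange Γ(Z, i ⁻¹ᵁ U) ((ρ₂.restrictScalars Γ(X', U')) ∘ₗ ρ₁) :=
    IsBaseChange.comp hb₁ hb₂
  -- target side
  letI modAN : Module Γ(X, U) Γ(M i 𝓘, i ⁻¹ᵁ U) :=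
    Module.compHom _ (i.appLE U (i ⁻¹ᵁ U) e3).hom
  haveI : IsScalarTower Γ(X, U) Γ(Z, i ⁻¹ᵁ U) Γ(M i 𝓘, i ⁻¹ᵁ U) :=
    IsScalarTower.of_compHom _ _ _
  obtain ⟨ρ₃, hρ₃, hb₃⟩ := exists_isBaseChange_pbSec i (ClSub.idealMod 𝓘) hU hV e3
  letI modA'N : Module Γ(X', U') Γ(M i 𝓘, i ⁻¹ᵁ U) :=
    Module.compHom _ (algebraMap Γ(X', U') Γ(Z, i ⁻¹ᵁ U))
  haveI : IsScalarTower Γ(X', U') Γ(Z, i ⁻¹ᵁ U) Γ(M i 𝓘, i ⁻¹ᵁ U) :=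
    IsScalarTower.of_compHom _ _ _
  haveI : IsScalarTower Γ(X', U') Γ(X, U) Γ(M i 𝓘, i ⁻¹ᵁ U) :=
    IsScalarTower.of_algebraMap_smul (fun r m => congrArg (· • m) (hcomm r))
  letI modA'M : Module Γ(X', U') Γ(ClSub.idealMod 𝓘, U) :=
    Module.compHom _ (g.appLE U' U e).hom
  haveI : IsScalarTower Γ(X', U') Γ(X, U) Γ(ClSub.idealMod 𝓘, U) :=
    IsScalarTower.of_compHom _ _ _
  have hsq := hφ.1
  choose lft hlft using hlift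
  let lam : Γ(ClSub.idealMod 𝓘', U') →ₗ[Γ(X', U')] Γ(ClSub.idealMod 𝓘, U) :=
    { toFun := fun m' => (ClSub.idealMod 𝓘).presheaf.map (homOfLE e).op (lft U' m')
      map_add' := fun a b => by
        apply idealSect_injective 𝓘 U
        rw [map_add, idealSect_res, idealSect_res, idealSect_res, hlft, hlft, hlft, map_add,
          map_add, map_add]
      map_smul' := fun r m' => by
        apply idealSect_injective 𝓘 U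
        rw [idealSect_res, hlft, idealSect_smul, map_mul, map_mul]
        change _ = idealSect 𝓘 U (g.appLE U' U e r • _)
        rw [idealSect_smul, idealSect_res, hlft]
        rfl }
  have hlam : ∀ m', idealSect 𝓘 U (lam m') = g.appLE U' U e (idealSect 𝓘' U' m') := by
    intro m'
    change idealSect 𝓘 U ((ClSub.idealMod 𝓘).presheaf.map (homOfLE e).op (lft U' m')) = _
    rw [idealSect_res, hlft]
    rfl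
  have hlamBC : IsBaseChange Γ(X, U) lam := hbc lam hlam
  let Φ : Γ((Scheme.Modules.pullback gZ).obj (M i' 𝓘'), i ⁻¹ᵁ U) →ₗ[Γ(Z, i ⁻¹ᵁ U)]
      Γ(M i 𝓘, i ⁻¹ᵁ U) :=
    { toFun := φ.app (i ⁻¹ᵁ U)
      map_add' := map_add _
      map_smul' := fun b p => Scheme.Modules.Hom.app_smul φ b p }
  have hΦ : ∀ m', Φ (((ρ₂.restrictScalars Γ(X', U')) ∘ₗ ρ₁) m') = ρ₃ (lam m') := by
    intro m'
    change φ.app (i ⁻¹ᵁ U) (ρ₂ (ρ₁ m')) = ρ₃ (lam m')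
    rw [hρ₁, hρ₂, hρ₃, OmegaCnB.pbSec_self, OmegaCnB.pbSec_self]
    obtain ⟨τ, hτ, h⟩ := idmap_affine i i' g gZ 𝓘 𝓘' φ hφ (fun U' s' => ⟨lft U' s', hlft U' s'⟩)
      e m'
    have hτ' : τ = lam m' := by
      apply idealSect_injective 𝓘 U
      rw [hτ]
      exact (hlam m').symm
    rw [← hτ']
    exact h
  exact CnMapD.bijective_of_isBaseChange lam hlamBC _ hsrc ρ₃ hb₃ Φ hΦ

end Groth.Agent.Lead.IdMapB
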