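import Groth.Agent.Lead.IdMapB
import Groth.Prelude.Def_OmegaPn
import Mathlib

set_option autoImplicit false
set_option backward.isDefEq.respectTransparency false
set_option backward.isDefEq.respectTransparency.types false
open CategoryTheory CategoryTheory.Limits AlgebraicGeometry Opposite TopologicalSpace
universe u

namespace Groth.Agent.Lead.IdMapC

open Scheme.Modules OmegaSh Groth.Agent.Helper4 Groth.Agent.Lead.BCMap Groth.Agent.Lead.IdMapA

section Lift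
variable {Z X Z' X' : Scheme.{u}} (i : Z ⟶ X) (i' : Z' ⟶ X') [QuasiCompact i] [QuasiCompact i']
  (g : X ⟶ X') (gZ : Z ⟶ Z') (hsq : gZ ≫ i' = i ≫ g) (n : ℕ)

include hsq in
/-- `g♯` maps the ideal of `i'` into the ideal of `i` -/
theorem map_ker_le {U : X.Opens} {U' : X'.Opens} (hU : IsAffineOpen U) (hU' : IsAffineOpen U')
    (e : U ≤ g ⁻¹ᵁ U') :
    Ideal.map (g.appLE U' U e).hom (i'.ker.ideal ⟨U', hU'⟩) ≤ i.ker.ideal ⟨U, hU⟩ := by
  rw [Ideal.map_le_iff_le_comap]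
  intro a ha
  rw [Scheme.Hom.ker_apply, RingHom.mem_ker] at ha
  rw [Ideal.mem_comap, Scheme.Hom.ker_apply, RingHom.mem_ker]
  have e1 : i' ⁻¹ᵁ U' ≤ i' ⁻¹ᵁ U' := le_rfl
  have e3 : i ⁻¹ᵁ U ≤ i ⁻¹ᵁ U := le_rfl
  have e2 : i ⁻¹ᵁ U ≤ gZ ⁻¹ᵁ (i' ⁻¹ᵁ U') := by
    intro x hx
    have h : (gZ ≫ i') x = (i ≫ g) x := by rw [hsq]
    have h' : i' (gZ x) = g (i x) := h
    change i' (gZ x) ∈ U'
    rw [h']
    exact e hx
  have key : ∀ (f f' : Z ⟶ X') (_ : f = f') (h1 : i ⁻¹ᵁ U ≤ f ⁻¹ᵁ U')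
      (h2 : i ⁻¹ᵁ U ≤ f' ⁻¹ᵁ U'), f.appLE U' (i ⁻¹ᵁ U) h1 = f'.appLE U' (i ⁻¹ᵁ U) h2 := by
    rintro _ _ rfl _ _
    rfl
  have h1 := Scheme.Hom.appLE_comp_appLE i g U' U (i ⁻¹ᵁ U) e e3
  have h2 := Scheme.Hom.appLE_comp_appLE gZ i' U' (i' ⁻¹ᵁ U') (i ⁻¹ᵁ U) e1 e2
  have h3 := key _ _ hsq (by rw [Scheme.Hom.comp_preimage]; exact e2)
    (by rw [Scheme.Hom.comp_preimage]; exact i.preimage_mono e)
  have h4 := congr($h1 a)
  have h5 := congr($h2 a)
  have h6 : i.appLE U (i ⁻¹ᵁ U) e3 (g.appLE U' U e a) =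
      gZ.appLE (i' ⁻¹ᵁ U') (i ⁻¹ᵁ U) e2 (i'.appLE U' (i' ⁻¹ᵁ U') e1 a) :=
    h4.trans ((congr($h3 a)).symm.trans h5.symm)
  rw [Scheme.Hom.appLE_eq_app] at h6
  refine h6.trans ?_
  rw [Scheme.Hom.appLE_eq_app]
  have : (i'.app U') a = 0 := ha
  rw [this, map_zero]

include hsq in
theorem map_ker_pow_le {U : X.Opens} {U' : X'.Opens} (hU : IsAffineOpen U)
    (hU' : IsAffineOpen U') (e : U ≤ g ⁻¹ᵁ U') :
    Ideal.map (g.appLE U' U e).hom ((i'.ker ^ n).ideal ⟨U', hU'⟩) ≤ (i.ker ^ n).ideal ⟨U, hU⟩ := by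
  change Ideal.map (g.appLE U' U e).hom ((i'.ker.ideal ⟨U', hU'⟩) ^ n) ≤ (i.ker.ideal ⟨U, hU⟩) ^ n
  rw [Ideal.map_pow]
  exact Ideal.pow_right_mono (map_ker_le i i' g gZ hsq hU hU' e) n

include hsq in
/-- lifting sections of powers of the ideals -/
theorem exists_lift_pow (U' : X'.Opens) (s' : Γ(ClSub.idealMod (i'.ker ^ n), U')) :
    ∃ s : Γ(ClSub.idealMod (i.ker ^ n), g ⁻¹ᵁ U'),
      idealSect (i.ker ^ n) (g ⁻¹ᵁ U') s = g.app U' (idealSect (i'.ker ^ n) U' s') := by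
  let κ : Type u := {p : X.affineOpens × X'.affineOpens // p.2.1 ≤ U' ∧ p.1.1 ≤ g ⁻¹ᵁ p.2.1}
  have hW : ∀ k : κ, k.1.1.1 ≤ g ⁻¹ᵁ U' := fun k => k.2.2.trans (g.preimage_mono k.2.1)
  apply exists_idealSect_of_cover (i.ker ^ n) (g ⁻¹ᵁ U') _ (fun k : κ => k.1.1.1) hW
  · intro x hx
    obtain ⟨_, ⟨V', hV' : IsAffineOpen V', rfl⟩, hxV', hV'U⟩ :=
      X'.isBasis_affineOpens.exists_subset_of_mem_open (show g x ∈ U' from hx) U'.isOpen
    obtain ⟨_, ⟨W, hW : IsAffineOpen W, rfl⟩, hxW, hWV⟩ :=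
      X.isBasis_affineOpens.exists_subset_of_mem_open (show x ∈ g ⁻¹ᵁ V' from hxV')
        (g ⁻¹ᵁ V').isOpen
    exact Opens.mem_iSup.2 ⟨⟨(⟨W, hW⟩, ⟨V', hV'⟩), hV'U, hWV⟩, hxW⟩
  · intro k
    obtain ⟨⟨⟨W, hW'⟩, ⟨V', hV'⟩⟩, hV'U, hWV⟩ := k
    apply exists_idealSect (i.ker ^ n) hW'
    have h1 : X.presheaf.map (homOfLE (hWV.trans (g.preimage_mono hV'U))).op
        (g.app U' (idealSect (i'.ker ^ n) U' s')) =
        g.appLE V' W hWV (idealSect (i'.ker ^ n) V'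
          ((ClSub.idealMod (i'.ker ^ n)).presheaf.map (homOfLE hV'U).op s')) := by
      rw [idealSect_res]
      have h2 := congr($(g.naturality (homOfLE hV'U).op) (idealSect (i'.ker ^ n) U' s'))
      have h2' : g.app V' (X'.presheaf.map (homOfLE hV'U).op (idealSect (i'.ker ^ n) U' s')) =
          X.presheaf.map (homOfLE (g.preimage_mono hV'U)).op
            (g.app U' (idealSect (i'.ker ^ n) U' s')) := h2
      change X.presheaf.map _ _ = X.presheaf.map (homOfLE hWV).op (g.app V' _)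
      rw [h2']
      exact (QcohGlue.map_map_thin (Coh.structureModule X) _ _ _ _).symm
    rw [h1]
    apply map_ker_pow_le i i' g gZ hsq n hW' hV' hWV
    exact Ideal.mem_map_of_mem _ (idealSect_mem (i'.ker ^ n) hV' _)


end Lift

section Gr
variable {Y X Y' X' : Scheme.{u}} (f : Y ⟶ X) [IsClosedImmersion f] (v : X' ⟶ X) (u : Y' ⟶ Y)
  (f' : Y' ⟶ X') (hsq : IsPullback u f' f v) (n : ℕ)
  (φ : (Scheme.Modules.pullback u).obj (PrinPart.grMod f n) ⟶ PrinPart.grMod f' n)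
  (hφ : PrinPart.IsGrMap f' f v u n φ)

include hsq in
theorem isClosedImmersion' : IsClosedImmersion f' :=
  MorphismProperty.of_isPullback (P := @IsClosedImmersion) hsq inferInstance

include hsq in
theorem chart [IsClosedImmersion f'] (z : Y') (T : Y'.Opens) (hz : z ∈ T) :
    ∃ (U' : X.Opens) (U : X'.Opens) (e : U ≤ v ⁻¹ᵁ U') (hU' : IsAffineOpen U')
      (hU : IsAffineOpen U), IsAffineOpen (f ⁻¹ᵁ U') ∧ IsAffineOpen (f' ⁻¹ᵁ U) ∧
      Function.Surjective (f'.app U) ∧ z ∈ f' ⁻¹ᵁ U ∧ f' ⁻¹ᵁ U ≤ T ∧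
      (f'.ker ^ n).ideal ⟨U, hU⟩ =
        Ideal.map (v.appLE U' U e).hom ((f.ker ^ n).ideal ⟨U', hU'⟩) := by
  obtain ⟨U', U, e, hU', hU, hcl', hcl, hzU, hUT, hker⟩ :=
    CnMapC.exists_chart f' f v u hsq.flip z T hz
  obtain ⟨hV', -⟩ := H1RegB.affine_of_restrict_closed f hU'
  obtain ⟨hV, hsurj⟩ := H1RegB.affine_of_restrict_closed f' hU
  refine ⟨U', U, e, hU', hU, hV', hV, hsurj, hzU, hUT, ?_⟩
  change (f'.ker.ideal ⟨U, hU⟩) ^ n = Ideal.map (v.appLE U' U e).hom ((f.ker.ideal ⟨U', hU'⟩) ^ n)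
  rw [Ideal.map_pow, Scheme.Hom.ker_apply, Scheme.Hom.ker_apply, hker]

include hsq hφ in
/-- **S5952** -/
theorem epi : Epi φ := by
  haveI := isClosedImmersion' f v u f' hsq
  have hφ' : IsIdMap f' f v u (f'.ker ^ n) (f.ker ^ n) φ := hφ
  have hlift := exists_lift_pow f' f v u hφ.1 n
  apply Groth.Agent.Lead.LocalLift.epi_of_local_lift (F := (Scheme.Modules.pullback u).obj
    (M f (f.ker ^ n))) (G := M f' (f'.ker ^ n)) φ
  intro T t z hz
  obtain ⟨U', U, e, hU', hU, hV', hV, hsurj, hzU, hUT, hI⟩ := chart f v u f' hsq n z T hz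
  refine ⟨f' ⁻¹ᵁ U, hUT, hzU, ?_⟩
  exact app_surjective_chart f' f v u (f'.ker ^ n) (f.ker ^ n) φ hφ' hlift e hU' hU hV hsurj hI _

include hsq hφ in
/-- **S5953** -/
theorem isIso_of_flat [Flat v] : IsIso φ := by
  haveI := isClosedImmersion' f v u f' hsq
  haveI hepi : Epi φ := epi f v u f' hsq n φ hφ
  have hφ' : IsIdMap f' f v u (f'.ker ^ n) (f.ker ^ n) φ := hφ
  have hlift := exists_lift_pow f' f v u hφ.1 n
  haveI : (M f' (f'.ker ^ n)).IsQuasicoherent :=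
    StalkPull.isQuasicoherent_pullbackObj f' (ClSub.idealMod (f'.ker ^ n))
  haveI : (M f (f.ker ^ n)).IsQuasicoherent :=
    StalkPull.isQuasicoherent_pullbackObj f (ClSub.idealMod (f.ker ^ n))
  haveI : ((Scheme.Modules.pullback u).obj (M f (f.ker ^ n))).IsQuasicoherent :=
    StalkPull.isQuasicoherent_pullbackObj u _
  haveI : Mono φ := by
    apply QcohLocal.mono_of_app_injective_of_affine_cover (F := (Scheme.Modules.pullback u).obj
      (M f (f.ker ^ n))) (G := M f' (f'.ker ^ n)) φ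
    intro z
    obtain ⟨U', U, e, hU', hU, hV', hV, hsurj, hzU, -, hI⟩ := chart f v u f' hsq n z ⊤ trivial
    refine ⟨f' ⁻¹ᵁ U, hV, hzU,
      (IdMapB.app_bijective_chart f' f v u (f'.ker ^ n) (f.ker ^ n) φ hφ' hlift e hU' hU hV' hV
        ?_).1⟩
    intro lam hlam
    letI algA'A : Algebra Γ(X, U') Γ(X', U) := (v.appLE U' U e).hom.toAlgebra
    letI modA'M : Module Γ(X, U') Γ(ClSub.idealMod (f'.ker ^ n), U) :=
      Module.compHom _ (v.appLE U' U e).hom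
    haveI : IsScalarTower Γ(X, U') Γ(X', U) Γ(ClSub.idealMod (f'.ker ^ n), U) :=
      IsScalarTower.of_compHom _ _ _
    haveI : Module.Flat Γ(X, U') Γ(X', U) :=
      HasRingHomProperty.appLE (P := @Flat) v inferInstance ⟨U', hU'⟩ ⟨U, hU⟩ e
    let ι' : Γ(ClSub.idealMod (f.ker ^ n), U') →ₗ[Γ(X, U')] Γ(X, U') :=
      { toFun := idealSect (f.ker ^ n) U'
        map_add' := map_add _
        map_smul' := fun a σ => by
          rw [idealSect_smul]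
          rfl }
    let ι : Γ(ClSub.idealMod (f'.ker ^ n), U) →ₗ[Γ(X', U)] Γ(X', U) :=
      { toFun := idealSect (f'.ker ^ n) U
        map_add' := map_add _
        map_smul' := fun a σ => by
          rw [idealSect_smul]
          rfl }
    refine CnMapD.isBaseChange_of_flat ((f.ker ^ n).ideal ⟨U', hU'⟩) ι'
      (idealSect_injective _ U') (fun x hx => exists_idealSect _ hU' x hx) ι
      (idealSect_injective _ U) (fun m => ?_) lam hlam
    change idealSect (f'.ker ^ n) U m ∈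
      Ideal.map (v.appLE U' U e).hom ((f.ker ^ n).ideal ⟨U', hU'⟩)
    rw [← hI]
    exact idealSect_mem _ hU m
  exact isIso_of_mono_of_epi φ

end Gr

end Groth.Agent.Lead.IdMapC
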