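import Mathlib

set_option autoImplicit false
open TensorProduct
universe u

namespace Groth.Agent.Lead.IdMapD

/-- the extension of an ideal is its base change as soon as tensoring keeps the inclusion
injective -/
theorem isBaseChange_of_lTensor_injective {A' A : Type u} [CommRing A'] [CommRing A]
    [Algebra A' A] (I' : Ideal A')
    {M' M : Type u} [AddCommGroup M'] [Module A' M'] [AddCommGroup M] [Module A M]
    [Module A' M] [IsScalarTower A' A M]
    (ι' : M' →ₗ[A'] A') (hinj' : Function.Injective (LinearMap.lTensor A ι'))
    (hr' : ∀ x ∈ I', ∃ m', ι' m' = x)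
    (ι : M →ₗ[A] A) (hι : Function.Injective ι)
    (hr : ∀ m, ι m ∈ Ideal.map (algebraMap A' A) I')
    (lam : M' →ₗ[A'] M) (hlam : ∀ m', ι (lam m') = algebraMap A' A (ι' m')) :
    IsBaseChange A lam := by
  let L : A ⊗[A'] M' →ₗ[A] M := LinearMap.liftBaseChange A lam
  have hL : ∀ (a : A) (m' : M'), L (a ⊗ₜ m') = a • lam m' := fun a m' =>
    LinearMap.liftBaseChange_tmul A lam a m'
  have hinj : Function.Injective L := by
    have h2 : ∀ x : A ⊗[A'] M', ι (L x) =
        (TensorProduct.rid A' A) (LinearMap.lTensor A ι' x) := by
      intro x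
      induction x using TensorProduct.induction_on with
      | zero => simp
      | tmul a m' =>
        rw [hL, map_smul, hlam, LinearMap.lTensor_tmul, TensorProduct.rid_tmul, smul_eq_mul,
          Algebra.smul_def, mul_comm]
      | add x y hx hy => rw [map_add, map_add, hx, hy, map_add, map_add]
    intro x y hxy
    apply hinj'
    apply (TensorProduct.rid A' A).injective
    rw [← h2, ← h2, hxy]
  have hsurj : Function.Surjective L := by
    have key : ∀ x ∈ Ideal.map (algebraMap A' A) I', ∃ t : A ⊗[A'] M', ι (L t) = x := by
      intro x hx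
      induction hx using Submodule.span_induction with
      | mem x hx =>
        obtain ⟨b, hb, rfl⟩ := hx
        obtain ⟨m', hm'⟩ := hr' b hb
        exact ⟨1 ⊗ₜ m', by rw [hL, one_smul, hlam, hm']⟩
      | zero => exact ⟨0, by rw [map_zero, map_zero]⟩
      | add x y _ _ hx hy =>
        obtain ⟨t₁, h₁⟩ := hx
        obtain ⟨t₂, h₂⟩ := hy
        exact ⟨t₁ + t₂, by rw [map_add, map_add, h₁, h₂]⟩
      | smul a x _ hx =>
        obtain ⟨t, h⟩ := hx
        exact ⟨a • t, by rw [map_smul, map_smul, h]⟩
    intro m
    obtain ⟨t, ht⟩ := key _ (hr m)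
    exact ⟨t, hι ht⟩
  refine IsBaseChange.of_equiv (LinearEquiv.ofBijective L ⟨hinj, hsurj⟩) ?_
  intro x
  change L (1 ⊗ₜ x) = lam x
  rw [hL, one_smul]

/-- injectivity of a tensored inclusion can be checked over the base of a pushout -/
theorem lTensor_injective_of_isPushout (R S A B : Type u) [CommRing R] [CommRing S] [CommRing A]
    [CommRing B] [Algebra R S] [Algebra R A] [Algebra A B] [Algebra S B] [Algebra R B]
    [IsScalarTower R A B] [IsScalarTower R S B] [Algebra.IsPushout R S A B]
    {M : Type u} [AddCommGroup M] [Module R M] [Module A M] [IsScalarTower R A M]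
    (ι : M →ₗ[A] A)
    (h : Function.Injective (LinearMap.lTensor S (ι.restrictScalars R))) :
    Function.Injective (LinearMap.lTensor B ι) := by
  let eM := Algebra.IsPushout.cancelBaseChange R S A B M
  let eA := Algebra.IsPushout.cancelBaseChange R S A B A
  have hcomm : ∀ x : S ⊗[R] M, LinearMap.lTensor B ι (eM.symm x) =
      eA.symm (LinearMap.lTensor S (ι.restrictScalars R) x) := by
    intro x
    induction x using TensorProduct.induction_on with
    | zero => simp
    | tmul s m =>
      rw [Algebra.IsPushout.cancelBaseChange_symm_tmul, LinearMap.lTensor_tmul,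
        LinearMap.lTensor_tmul, Algebra.IsPushout.cancelBaseChange_symm_tmul]
      rfl
    | add x y hx hy => rw [map_add, map_add, hx, hy, map_add, map_add]
  intro x y hxy
  have hx : x = eM.symm (eM x) := (eM.symm_apply_apply x).symm
  have hy : y = eM.symm (eM y) := (eM.symm_apply_apply y).symm
  rw [hx, hy, hcomm, hcomm] at hxy
  have h3 := h (eA.symm.injective hxy)
  exact eM.injective h3

/-- the kernel of a retraction `ρ : A → R` of an `R`-algebra stays a submodule after any base
change -/
theorem lTensor_injective_of_retraction (R S A : Type u) [CommRing R] [CommRing S] [CommRing A]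
    [Algebra R S] [Algebra R A] (ρ : A →ₐ[R] R)
    {M : Type u} [AddCommGroup M] [Module R M] [Module A M] [IsScalarTower R A M]
    (ι : M →ₗ[A] A) (hι : Function.Injective ι)
    (hr : ∀ a, ρ a = 0 ↔ ∃ m, ι m = a) :
    Function.Injective (LinearMap.lTensor S (ι.restrictScalars R)) := by
  have hsurj : Function.Surjective ρ.toLinearMap := by
    intro r
    exact ⟨algebraMap R A r, by simp⟩
  refine LinearMap.lTensor_injective_of_exact_of_flat ρ.toLinearMap hsurj
    (ι.restrictScalars R) hι ?_ S
  intro a
  constructor
  · intro ha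
    exact (hr a).mp ha
  · intro ha
    exact (hr a).mpr ha

end Groth.Agent.Lead.IdMapD
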