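import Groth.Agent.Lead.IdMapC
import Groth.Agent.Lead.IdMapD
import Groth.Agent.Lead.BCMap10
import Mathlib

set_option autoImplicit false
set_option backward.isDefEq.respectTransparency false
set_option backward.isDefEq.respectTransparency.types false
open CategoryTheory CategoryTheory.Limits AlgebraicGeometry Opposite TopologicalSpace TensorProduct
universe u

namespace Groth.Agent.Lead.IdMapE

open Scheme.Modules OmegaSh Groth.Agent.Helper4 Groth.Agent.Lead.BCMap Groth.Agent.Lead.IdMapA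

variable {X Y X' Y' : Scheme.{u}} (g : X ⟶ Y) (f : Y ⟶ X) [IsClosedImmersion f]
  (hf : f ≫ g = 𝟙 Y) (u : Y' ⟶ Y) (v : X' ⟶ X) (g' : X' ⟶ Y')
  (hsq : IsPullback v g' g u) (f' : Y' ⟶ X') (hf' : f' ≫ g' = 𝟙 Y') (hf'v : f' ≫ v = u ≫ f)

include hf hsq hf' hf'v in
/-- the square of the sections is cartesian -/
theorem isPullback_sections : IsPullback u f' f v := by
  have s : IsPullback (f' ≫ g') u u (f ≫ g) := by
    rw [hf, hf']
    exact IsPullback.of_horiz_isIso ⟨by simp⟩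
  exact (IsPullback.of_right s hf'v hsq.flip).flip


variable (n : ℕ)
  (φ : (Scheme.Modules.pullback u).obj (PrinPart.grMod f n) ⟶ PrinPart.grMod f' n)
  (hφ : PrinPart.IsGrMap f' f v u n φ)

include hf hsq hf' hf'v hφ in
/-- bijectivity on a chart adapted to the sections -/
theorem section_chart_bijective [IsClosedImmersion f'] {U' : X.Opens} (hU' : IsAffineOpen U')
    (hst : U' ≤ g ⁻¹ᵁ (f ⁻¹ᵁ U')) {VY' : Y'.Opens} (hVY' : IsAffineOpen VY')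
    (e' : VY' ≤ u ⁻¹ᵁ (f ⁻¹ᵁ U')) (U : X'.Opens) (hUeq : U = v ⁻¹ᵁ U' ⊓ g' ⁻¹ᵁ VY')
    (hinjR : letI := (u.appLE (f ⁻¹ᵁ U') VY' e').hom.toAlgebra
      letI := (g.appLE (f ⁻¹ᵁ U') U' hst).hom.toAlgebra
      letI : Module Γ(Y, f ⁻¹ᵁ U') Γ(ClSub.idealMod (f.ker ^ n), U') :=
        Module.compHom _ (g.appLE (f ⁻¹ᵁ U') U' hst).hom
      ∀ ι' : Γ(ClSub.idealMod (f.ker ^ n), U') →ₗ[Γ(Y, f ⁻¹ᵁ U')] Γ(X, U'),
        (∀ m, ι' m = idealSect (f.ker ^ n) U' m) →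
          Function.Injective (LinearMap.lTensor Γ(Y', VY') ι')) :
    Function.Bijective (φ.app (f' ⁻¹ᵁ U)) := by
  have hsqf : IsPullback u f' f v := isPullback_sections g f hf u v g' hsq f' hf' hf'v
  haveI : IsClosedImmersion (f ∣_ U') := inferInstance
  obtain ⟨hVY, -⟩ := H1RegB.affine_of_restrict_closed f hU'
  have eU : U ≤ v ⁻¹ᵁ U' := hUeq.le.trans inf_le_left
  have hUg : U ≤ g' ⁻¹ᵁ VY' := hUeq.le.trans inf_le_right
  have hU : IsAffineOpen U := by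
    haveI : IsAffine ((f ⁻¹ᵁ U' : Y.Opens) : Scheme) := hVY
    haveI : IsAffine (VY' : Scheme) := hVY'
    haveI : IsAffine (U' : Scheme) := hU'
    exact .of_isIso (Scheme.Hom.isPullback_resLE hsq e' hst hUeq).isoPullback.hom
  haveI : IsClosedImmersion (f' ∣_ U) := inferInstance
  obtain ⟨hV, -⟩ := H1RegB.affine_of_restrict_closed f' hU
  obtain ⟨-, hker⟩ := CnMapB.ker_baseChange f' f v u hsqf.flip hU' hU eU
  have hI : (f'.ker ^ n).ideal ⟨U, hU⟩ =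
      Ideal.map (v.appLE U' U eU).hom ((f.ker ^ n).ideal ⟨U', hU'⟩) := by
    change (f'.ker.ideal ⟨U, hU⟩) ^ n =
      Ideal.map (v.appLE U' U eU).hom ((f.ker.ideal ⟨U', hU'⟩) ^ n)
    rw [Ideal.map_pow, Scheme.Hom.ker_apply, Scheme.Hom.ker_apply, hker]
  have hφ' : IsIdMap f' f v u (f'.ker ^ n) (f.ker ^ n) φ := hφ
  have hlift := IdMapC.exists_lift_pow f' f v u hφ.1 n
  refine IdMapB.app_bijective_chart f' f v u (f'.ker ^ n) (f.ker ^ n) φ hφ' hlift eU hU' hU hVY hV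
    ?_
  intro lam hlam
  -- rings
  letI aRS : Algebra Γ(Y, f ⁻¹ᵁ U') Γ(Y', VY') := (u.appLE (f ⁻¹ᵁ U') VY' e').hom.toAlgebra
  letI aRA : Algebra Γ(Y, f ⁻¹ᵁ U') Γ(X, U') := (g.appLE (f ⁻¹ᵁ U') U' hst).hom.toAlgebra
  letI aAB : Algebra Γ(X, U') Γ(X', U) := (v.appLE U' U eU).hom.toAlgebra
  letI aSB : Algebra Γ(Y', VY') Γ(X', U) := (g'.appLE VY' U hUg).hom.toAlgebra
  letI aRB : Algebra Γ(Y, f ⁻¹ᵁ U') Γ(X', U) :=
    ((v.appLE U' U eU).hom.comp (g.appLE (f ⁻¹ᵁ U') U' hst).hom).toAlgebra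
  haveI tRAB : IsScalarTower Γ(Y, f ⁻¹ᵁ U') Γ(X, U') Γ(X', U) :=
    IsScalarTower.of_algebraMap_eq (fun b => rfl)
  haveI tRSB : IsScalarTower Γ(Y, f ⁻¹ᵁ U') Γ(Y', VY') Γ(X', U) :=
    IsScalarTower.of_algebraMap_eq (fun b => appLE_square g u v g' hsq e' hst hUg eU b)
  have hpo : IsPushout (g.appLE (f ⁻¹ᵁ U') U' hst) (u.appLE (f ⁻¹ᵁ U') VY' e')
      (v.appLE U' U eU) (g'.appLE VY' U hUg) :=
    (isIso_pushoutSection_iff hsq e' hst hUeq).mp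
      (isIso_pushoutSection_of_isAffineOpen hsq e' hst hUeq hVY hVY' hU')
  haveI hpush : Algebra.IsPushout Γ(Y, f ⁻¹ᵁ U') Γ(Y', VY') Γ(X, U') Γ(X', U) :=
    CommRingCat.isPushout_iff_isPushout.mp hpo.flip
  -- modules
  letI modRM : Module Γ(Y, f ⁻¹ᵁ U') Γ(ClSub.idealMod (f.ker ^ n), U') :=
    Module.compHom _ (g.appLE (f ⁻¹ᵁ U') U' hst).hom
  haveI : IsScalarTower Γ(Y, f ⁻¹ᵁ U') Γ(X, U') Γ(ClSub.idealMod (f.ker ^ n), U') :=
    IsScalarTower.of_compHom _ _ _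
  letI modAM2 : Module Γ(X, U') Γ(ClSub.idealMod (f'.ker ^ n), U) :=
    Module.compHom _ (v.appLE U' U eU).hom
  haveI : IsScalarTower Γ(X, U') Γ(X', U) Γ(ClSub.idealMod (f'.ker ^ n), U) :=
    IsScalarTower.of_compHom _ _ _
  let ι' : Γ(ClSub.idealMod (f.ker ^ n), U') →ₗ[Γ(X, U')] Γ(X, U') :=
    { toFun := idealSect (f.ker ^ n) U'
      map_add' := map_add _
      map_smul' := fun a σ => by
        rw [idealSect_smul]
        rfl }
  let ι : Γ(ClSub.idealMod (f'.ker ^ n), U) →ₗ[Γ(X', U)] Γ(X', U) :=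
    { toFun := idealSect (f'.ker ^ n) U
      map_add' := map_add _
      map_smul' := fun a σ => by
        rw [idealSect_smul]
        rfl }
  have hinj' : Function.Injective (LinearMap.lTensor Γ(X', U) ι') :=
    IdMapD.lTensor_injective_of_isPushout Γ(Y, f ⁻¹ᵁ U') Γ(Y', VY') Γ(X, U') Γ(X', U) ι'
      (hinjR (ι'.restrictScalars Γ(Y, f ⁻¹ᵁ U')) (fun m => rfl))
  refine IdMapD.isBaseChange_of_lTensor_injective ((f.ker ^ n).ideal ⟨U', hU'⟩) ι' hinj'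
    (fun x hx => exists_idealSect _ hU' x hx) ι
    (idealSect_injective _ U) (fun m => ?_) lam hlam
  change idealSect (f'.ker ^ n) U m ∈
    Ideal.map (v.appLE U' U eU).hom ((f.ker ^ n).ideal ⟨U', hU'⟩)
  rw [← hI]
  exact idealSect_mem _ hU m


include hsq in
theorem isAffineOpen_chart {U' : X.Opens} (hU' : IsAffineOpen U')
    (hVY : IsAffineOpen (f ⁻¹ᵁ U'))
    (hst : U' ≤ g ⁻¹ᵁ (f ⁻¹ᵁ U')) {VY' : Y'.Opens} (hVY' : IsAffineOpen VY')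
    (e' : VY' ≤ u ⁻¹ᵁ (f ⁻¹ᵁ U')) (U : X'.Opens) (hUeq : U = v ⁻¹ᵁ U' ⊓ g' ⁻¹ᵁ VY') :
    IsAffineOpen U := by
  haveI : IsAffine ((f ⁻¹ᵁ U' : Y.Opens) : Scheme) := hVY
  haveI : IsAffine (VY' : Scheme) := hVY'
  haveI : IsAffine (U' : Scheme) := hU'
  exact .of_isIso (Scheme.Hom.isPullback_resLE hsq e' hst hUeq).isoPullback.hom

include hf hsq hf' hf'v in
/-- charts adapted to the sections around a point of `Y'` -/
theorem exists_section_chart [IsClosedImmersion f'] (z : Y') :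
    ∃ (U' : X.Opens) (VY' : Y'.Opens) (U : X'.Opens), IsAffineOpen U' ∧
      IsAffineOpen (f ⁻¹ᵁ U') ∧ ∃ (hst : U' ≤ g ⁻¹ᵁ (f ⁻¹ᵁ U')) (e' : VY' ≤ u ⁻¹ᵁ (f ⁻¹ᵁ U')),
      IsAffineOpen VY' ∧ U = v ⁻¹ᵁ U' ⊓ g' ⁻¹ᵁ VY' ∧ IsAffineOpen (f' ⁻¹ᵁ U) ∧ z ∈ f' ⁻¹ᵁ U := by
  obtain ⟨U', hU', hzU', -, hVY, -, hst⟩ := OmegaCnD.exists_stable_affine f g hf (u z) ⊤ trivial
  have hz1 : z ∈ u ⁻¹ᵁ (f ⁻¹ᵁ U') := hzU'
  obtain ⟨_, ⟨VY', hVY' : IsAffineOpen VY', rfl⟩, hzVY', hVY'le⟩ :=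
    Y'.isBasis_affineOpens.exists_subset_of_mem_open hz1 (u ⁻¹ᵁ (f ⁻¹ᵁ U')).isOpen
  have e' : VY' ≤ u ⁻¹ᵁ (f ⁻¹ᵁ U') := hVY'le
  have hU : IsAffineOpen (v ⁻¹ᵁ U' ⊓ g' ⁻¹ᵁ VY') :=
    isAffineOpen_chart g f u v g' hsq hU' hVY hst hVY' e' _ rfl
  haveI : IsClosedImmersion (f' ∣_ (v ⁻¹ᵁ U' ⊓ g' ⁻¹ᵁ VY')) := inferInstance
  obtain ⟨hV, -⟩ := H1RegB.affine_of_restrict_closed f' hU
  refine ⟨U', VY', v ⁻¹ᵁ U' ⊓ g' ⁻¹ᵁ VY', hU', hVY, hst, e', hVY', rfl, hV, ?_⟩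
  have h1 : v (f' z) = f (u z) := by
    have := congrArg (fun h : Y' ⟶ X => h z) hf'v
    exact this
  have h2 : g' (f' z) = z := by
    have := congrArg (fun h : Y' ⟶ Y' => h z) hf'
    exact this
  refine ⟨?_, ?_⟩
  · change v (f' z) ∈ U'
    rw [h1]
    exact hzU'
  · change g' (f' z) ∈ VY'
    rw [h2]
    exact hzVY'


include hf in
/-- the retraction `f♯` on a stable affine chart -/
theorem app_appLE {U' : X.Opens} (hst : U' ≤ g ⁻¹ᵁ (f ⁻¹ᵁ U')) (r : Γ(Y, f ⁻¹ᵁ U')) :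
    f.app U' (g.appLE (f ⁻¹ᵁ U') U' hst r) = r := by
  have h1 : f.appLE U' (f ⁻¹ᵁ U') le_rfl (g.appLE (f ⁻¹ᵁ U') U' hst r) = r := by
    rw [← CommRingCat.comp_apply, Scheme.Hom.appLE_comp_appLE]
    exact OmegaCnD.appLE_eq_self (f ≫ g) hf _ _ r
  rwa [Scheme.Hom.appLE_eq_app] at h1

include hf hsq hf' hf'v in
/-- **S5963** -/
theorem main_one (φ : (Scheme.Modules.pullback u).obj (PrinPart.grMod f 1) ⟶ PrinPart.grMod f' 1)
    (hφ : PrinPart.IsGrMap f' f v u 1 φ) : IsIso φ := by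
  have hsqf : IsPullback u f' f v := isPullback_sections g f hf u v g' hsq f' hf' hf'v
  haveI := IdMapC.isClosedImmersion' f v u f' hsqf
  haveI hepi : Epi φ := IdMapC.epi f v u f' hsqf 1 φ hφ
  haveI : (M f' (f'.ker ^ 1)).IsQuasicoherent :=
    StalkPull.isQuasicoherent_pullbackObj f' (ClSub.idealMod (f'.ker ^ 1))
  haveI : (M f (f.ker ^ 1)).IsQuasicoherent :=
    StalkPull.isQuasicoherent_pullbackObj f (ClSub.idealMod (f.ker ^ 1))
  haveI : ((Scheme.Modules.pullback u).obj (M f (f.ker ^ 1))).IsQuasicoherent :=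
    StalkPull.isQuasicoherent_pullbackObj u _
  haveI : Mono φ := by
    apply QcohLocal.mono_of_app_injective_of_affine_cover (F := (Scheme.Modules.pullback u).obj
      (M f (f.ker ^ 1))) (G := M f' (f'.ker ^ 1)) φ
    intro z
    obtain ⟨U', VY', U, hU', hVY, hst, e', hVY', hUeq, hV, hzU⟩ :=
      exists_section_chart g f hf u v g' hsq f' hf' hf'v z
    refine ⟨f' ⁻¹ᵁ U, hV, hzU,
      (section_chart_bijective g f hf u v g' hsq f' hf' hf'v 1 φ hφ hU' hst hVY' e' U hUeq ?_).1⟩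
    intro ι' hι'
    letI aRS : Algebra Γ(Y, f ⁻¹ᵁ U') Γ(Y', VY') := (u.appLE (f ⁻¹ᵁ U') VY' e').hom.toAlgebra
    letI aRA : Algebra Γ(Y, f ⁻¹ᵁ U') Γ(X, U') := (g.appLE (f ⁻¹ᵁ U') U' hst).hom.toAlgebra
    letI modRM : Module Γ(Y, f ⁻¹ᵁ U') Γ(ClSub.idealMod (f.ker ^ 1), U') :=
      Module.compHom _ (g.appLE (f ⁻¹ᵁ U') U' hst).hom
    haveI : IsScalarTower Γ(Y, f ⁻¹ᵁ U') Γ(X, U') Γ(ClSub.idealMod (f.ker ^ 1), U') :=
      IsScalarTower.of_compHom _ _ _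
    let ιA : Γ(ClSub.idealMod (f.ker ^ 1), U') →ₗ[Γ(X, U')] Γ(X, U') :=
      { toFun := idealSect (f.ker ^ 1) U'
        map_add' := map_add _
        map_smul' := fun a σ => by
          rw [idealSect_smul]
          rfl }
    let ρ : Γ(X, U') →ₐ[Γ(Y, f ⁻¹ᵁ U')] Γ(Y, f ⁻¹ᵁ U') :=
      { (f.app U').hom with
        commutes' := fun r => app_appLE g f hf hst r }
    have h0 : ι' = ιA.restrictScalars Γ(Y, f ⁻¹ᵁ U') := LinearMap.ext hι'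
    rw [h0]
    refine IdMapD.lTensor_injective_of_retraction Γ(Y, f ⁻¹ᵁ U') Γ(Y', VY') Γ(X, U') ρ ιA
      (idealSect_injective _ U') ?_
    intro a
    have h1 : (f.ker ^ 1).ideal ⟨U', hU'⟩ = RingHom.ker (f.app U').hom := by
      change (f.ker.ideal ⟨U', hU'⟩) ^ 1 = _
      rw [pow_one, Scheme.Hom.ker_apply]
    constructor
    · intro ha
      have ha' : a ∈ (f.ker ^ 1).ideal ⟨U', hU'⟩ := by
        rw [h1]
        exact ha
      exact exists_idealSect _ hU' a ha'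
    · rintro ⟨m, rfl⟩
      have := idealSect_mem (f.ker ^ 1) hU' m
      rw [h1] at this
      exact this
  exact isIso_of_mono_of_epi φ

end Groth.Agent.Lead.IdMapE
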