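import Mathlib

set_option autoImplicit false
open TensorProduct
universe u

namespace Groth.Agent.Lead.IdMapF

/-- powers of an ideal with flat graded pieces stay submodules after base change -/
theorem lTensor_pow_injective (R S A : Type u) [CommRing R] [CommRing S] [CommRing A]
    [Algebra R S] [Algebra R A] (I : Ideal A) (n : ℕ)
    (hq : ∀ k < n, ∃ (G : Type u) (_ : AddCommGroup G) (_ : Module R G) (_ : Module.Flat R G)
      (q : ↥(I ^ k) →ₗ[R] G), Function.Surjective q ∧ ∀ x, q x = 0 ↔ (x : A) ∈ I ^ (k + 1)) :
    Function.Injective (LinearMap.lTensor S ((I ^ n).subtype.restrictScalars R)) := by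
  induction n with
  | zero =>
    have htop : ∀ a : A, a ∈ I ^ 0 := by
      intro a
      rw [pow_zero, Ideal.one_eq_top]
      trivial
    let ψ : A →ₗ[R] ↥(I ^ 0) :=
      { toFun := fun a => ⟨a, htop a⟩
        map_add' := fun _ _ => rfl
        map_smul' := fun _ _ => rfl }
    have hψ : ψ ∘ₗ ((I ^ 0).subtype.restrictScalars R) = LinearMap.id := by
      ext x
      rfl
    have h1 : (LinearMap.lTensor S ψ) ∘ₗ (LinearMap.lTensor S ((I ^ 0).subtype.restrictScalars R))
        = LinearMap.id := by
      rw [← LinearMap.lTensor_comp, hψ, LinearMap.lTensor_id]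
    exact Function.LeftInverse.injective (g := LinearMap.lTensor S ψ)
      (fun x => congrArg (fun φ => φ x) h1)
  | succ n ih =>
    have ih' := ih (fun k hk => hq k (Nat.lt_succ_of_lt hk))
    obtain ⟨G, _, _, _, q, hqs, hqk⟩ := hq n (Nat.lt_succ_self n)
    let incl : ↥(I ^ (n + 1)) →ₗ[R] ↥(I ^ n) :=
      (Submodule.inclusion (Ideal.pow_le_pow_right (Nat.le_succ n))).restrictScalars R
    have hincl : Function.Injective incl :=
      Submodule.inclusion_injective (Ideal.pow_le_pow_right (Nat.le_succ n))
    have hex : Function.Exact incl q := by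
      intro x
      rw [hqk]
      constructor
      · intro hx
        exact ⟨⟨x.1, hx⟩, Subtype.ext rfl⟩
      · rintro ⟨y, rfl⟩
        exact y.2
    have h1 : Function.Injective (LinearMap.lTensor S incl) :=
      LinearMap.lTensor_injective_of_exact_of_flat q hqs incl hincl hex S
    have h2 : (I ^ (n + 1)).subtype.restrictScalars R =
        ((I ^ n).subtype.restrictScalars R) ∘ₗ incl := by
      ext x
      rfl
    rw [h2, LinearMap.lTensor_comp]
    exact ih'.comp h1

end Groth.Agent.Lead.IdMapF
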