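import Groth.Agent.Lead.IdMapE
import Groth.Agent.Lead.IdMapF
import Groth.Agent.Helper5.AffFlat1
import Mathlib

set_option autoImplicit false
set_option backward.isDefEq.respectTransparency false
set_option backward.isDefEq.respectTransparency.types false
open CategoryTheory CategoryTheory.Limits AlgebraicGeometry Opposite TopologicalSpace TensorProduct
universe u

namespace Groth.Agent.Lead.IdMapG

open Scheme.Modules OmegaSh Groth.Agent.Helper4 Groth.Agent.Lead.BCMap Groth.Agent.Lead.IdMapA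

/-- sections of a flat quasi-coherent module over an affine open are flat -/
theorem flat_sections_of_isFlat {Y : Scheme.{u}} (F : Y.Modules) [F.IsQuasicoherent]
    (hF : FlatMod.IsFlat F) {V : Y.Opens} (hV : IsAffineOpen V) :
    Module.Flat Γ(Y, V) Γ(F, V) := by
  refine Module.flat_of_isLocalized_maximal Γ(Y, V) Γ(F, V)
    (fun P _ => LocalizedModule P.primeCompl Γ(F, V))
    (fun P _ => LocalizedModule.mkLinearMap P.primeCompl Γ(F, V)) ?_
  intro P hP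
  obtain ⟨y, hy, hyP⟩ := FinLocFree5.exists_point_of_prime hV ⟨P, hP.isPrime⟩
  letI mA : Module Γ(Y, V) (F.presheaf.stalk y) := StalkDict.sectionModStalk F y hy
  haveI := StalkDict.isLocalizedModule_germ hV F y hy
  letI algSt : Algebra Γ(Y, V) (Y.presheaf.stalk y) := (Y.presheaf.germ V y hy).hom.toAlgebra
  haveI : IsScalarTower Γ(Y, V) (Y.presheaf.stalk y) (F.presheaf.stalk y) :=
    IsScalarTower.of_algebraMap_smul fun r m => rfl
  haveI : IsLocalization.AtPrime (Y.presheaf.stalk y) (hV.primeIdealOf ⟨y, hy⟩).asIdeal :=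
    hV.isLocalization_stalk ⟨y, hy⟩
  haveI : Module.Flat Γ(Y, V) (Y.presheaf.stalk y) :=
    IsLocalization.flat _ (hV.primeIdealOf ⟨y, hy⟩).asIdeal.primeCompl
  haveI : Module.Flat (Y.presheaf.stalk y) (F.presheaf.stalk y) := hF y
  have hfl : Module.Flat Γ(Y, V) (F.presheaf.stalk y) :=
    Module.Flat.trans Γ(Y, V) (Y.presheaf.stalk y) (F.presheaf.stalk y)
  have hP' : (hV.primeIdealOf ⟨y, hy⟩).asIdeal = P := by rw [hyP]
  subst hP'
  let eq := IsLocalizedModule.iso (hV.primeIdealOf ⟨y, hy⟩).asIdeal.primeCompl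
    (StalkDict.germLin F y hy)
  exact Module.Flat.of_linearEquiv eq


section Kernel
variable {Z X : Scheme.{u}} (i : Z ⟶ X) (𝓘 : X.IdealSheafData)

/-- classes of sections of `K·𝓘` vanish in the pullback to `Z` -/
theorem pullSect_eq_zero_of_mem {U : X.Opens} (hU : IsAffineOpen U)
    (σ : Γ(ClSub.idealMod 𝓘, U))
    (hσ : idealSect 𝓘 U σ ∈ RingHom.ker (i.app U).hom * 𝓘.ideal ⟨U, hU⟩) :
    pullSect i (ClSub.idealMod 𝓘) U σ = 0 := by
  suffices H : ∀ s ∈ RingHom.ker (i.app U).hom * 𝓘.ideal ⟨U, hU⟩,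
      ∃ τ : Γ(ClSub.idealMod 𝓘, U), idealSect 𝓘 U τ = s ∧
        pullSect i (ClSub.idealMod 𝓘) U τ = 0 by
    obtain ⟨τ, h1, h2⟩ := H _ hσ
    rw [idealSect_injective 𝓘 U h1.symm]
    exact h2
  intro s hs
  refine Submodule.mul_induction_on hs ?_ ?_
  · intro m hm n hn
    obtain ⟨ν, hν⟩ := exists_idealSect 𝓘 hU n hn
    refine ⟨m • ν, by rw [idealSect_smul, hν], ?_⟩
    rw [IdMapA.pullSect_smul]
    have : i.appLE U (i ⁻¹ᵁ U) le_rfl m = 0 := by
      rw [Scheme.Hom.appLE_eq_app]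
      exact hm
    rw [this, zero_smul]
  · intro x y hx hy
    obtain ⟨a, ha1, ha2⟩ := hx
    obtain ⟨b, hb1, hb2⟩ := hy
    exact ⟨a + b, by rw [map_add, ha1, hb1], by rw [map_add, ha2, hb2, add_zero]⟩

/-- a section of the ideal with vanishing class lies in `K·𝓘` -/
theorem mem_of_pullSect_eq_zero {U : X.Opens} (hU : IsAffineOpen U)
    (hU' : IsAffineOpen (i ⁻¹ᵁ U)) (hsurj : Function.Surjective (i.app U))
    (σ : Γ(ClSub.idealMod 𝓘, U)) (h : pullSect i (ClSub.idealMod 𝓘) U σ = 0) :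
    idealSect 𝓘 U σ ∈ RingHom.ker (i.app U).hom * 𝓘.ideal ⟨U, hU⟩ := by
  have e : i ⁻¹ᵁ U ≤ i ⁻¹ᵁ U := le_rfl
  letI algBC := (i.appLE U (i ⁻¹ᵁ U) e).hom.toAlgebra
  have hsurj' : Function.Surjective (algebraMap Γ(X, U) Γ(Z, i ⁻¹ᵁ U)) := by
    intro t
    obtain ⟨s, hs⟩ := hsurj t
    refine ⟨s, ?_⟩
    change i.appLE U (i ⁻¹ᵁ U) e s = t
    rw [Scheme.Hom.appLE_eq_app]
    exact hs
  have h5 : RingHom.ker (i.app U).hom = RingHom.ker (algebraMap Γ(X, U) Γ(Z, i ⁻¹ᵁ U)) := by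
    change _ = RingHom.ker (i.appLE U (i ⁻¹ᵁ U) e).hom
    rw [Scheme.Hom.appLE_eq_app]
  letI : Module Γ(X, U) Γ((Scheme.Modules.pullback i).obj (ClSub.idealMod 𝓘), i ⁻¹ᵁ U) :=
    Module.compHom _ (i.appLE U (i ⁻¹ᵁ U) e).hom
  haveI : IsScalarTower Γ(X, U) Γ(Z, i ⁻¹ᵁ U)
      Γ((Scheme.Modules.pullback i).obj (ClSub.idealMod 𝓘), i ⁻¹ᵁ U) :=
    IsScalarTower.of_compHom _ _ _
  obtain ⟨ρI, hρI, hbI⟩ := exists_isBaseChange_pbSec i (ClSub.idealMod 𝓘) hU hU' e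
  have h1 : hbI.equiv ((1 : Γ(Z, i ⁻¹ᵁ U)) ⊗ₜ[Γ(X, U)] σ) = 0 := by
    rw [IsBaseChange.equiv_tmul, one_smul, hρI, OmegaCnB.pbSec_self]
    exact h
  have h2 : (1 : Γ(Z, i ⁻¹ᵁ U)) ⊗ₜ[Γ(X, U)] σ = 0 :=
    hbI.equiv.injective (h1.trans (map_zero _).symm)
  have h3 := OmegaCnE.mem_smul_top_of_one_tmul_eq_zero _ _ _ hsurj' σ h2
  rw [h5]
  refine Submodule.smul_induction_on h3 ?_ ?_
  · intro t ht ν _
    rw [idealSect_smul]
    exact Ideal.mul_mem_mul ht (idealSect_mem 𝓘 hU ν)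
  · intro x y hx hy
    rw [map_add]
    exact add_mem hx hy

end Kernel


section Chain
variable {X Y : Scheme.{u}} (g : X ⟶ Y) (f : Y ⟶ X) [IsClosedImmersion f] (hf : f ≫ g = 𝟙 Y)

include hf in
theorem exists_q (k : ℕ) (hflat : FlatMod.IsFlat (PrinPart.grMod f k)) {U' : X.Opens}
    (hU' : IsAffineOpen U') (hst : U' ≤ g ⁻¹ᵁ (f ⁻¹ᵁ U')) :
    letI := (g.appLE (f ⁻¹ᵁ U') U' hst).hom.toAlgebra
    ∃ (G : Type u) (_ : AddCommGroup G) (_ : Module Γ(Y, f ⁻¹ᵁ U') G)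
      (_ : Module.Flat Γ(Y, f ⁻¹ᵁ U') G)
      (q : ↥((RingHom.ker (f.app U').hom) ^ k) →ₗ[Γ(Y, f ⁻¹ᵁ U')] G), Function.Surjective q ∧
        ∀ x, q x = 0 ↔ (x : Γ(X, U')) ∈ (RingHom.ker (f.app U').hom) ^ (k + 1) := by
  letI aRA : Algebra Γ(Y, f ⁻¹ᵁ U') Γ(X, U') := (g.appLE (f ⁻¹ᵁ U') U' hst).hom.toAlgebra
  haveI : IsClosedImmersion (f ∣_ U') := inferInstance
  obtain ⟨hVY, hsurj⟩ := H1RegB.affine_of_restrict_closed f hU'
  haveI : (PrinPart.grMod f k).IsQuasicoherent :=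
    StalkPull.isQuasicoherent_pullbackObj f (ClSub.idealMod (f.ker ^ k))
  have hk : (f.ker ^ k).ideal ⟨U', hU'⟩ = (RingHom.ker (f.app U').hom) ^ k := by
    change (f.ker.ideal ⟨U', hU'⟩) ^ k = _
    rw [Scheme.Hom.ker_apply]
  have hex : ∀ x : ↥((RingHom.ker (f.app U').hom) ^ k),
      ∃ σ : Γ(ClSub.idealMod (f.ker ^ k), U'), idealSect (f.ker ^ k) U' σ = x.1 := fun x =>
    exists_idealSect (f.ker ^ k) hU' x.1 (by rw [hk]; exact x.2)
  choose s hs using hex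
  have hflatG : Module.Flat Γ(Y, f ⁻¹ᵁ U') Γ(PrinPart.grMod f k, f ⁻¹ᵁ U') :=
    flat_sections_of_isFlat (PrinPart.grMod f k) hflat hVY
  let q : ↥((RingHom.ker (f.app U').hom) ^ k) →ₗ[Γ(Y, f ⁻¹ᵁ U')]
      Γ(PrinPart.grMod f k, f ⁻¹ᵁ U') :=
    { toFun := fun x => pullSect f (ClSub.idealMod (f.ker ^ k)) U' (s x)
      map_add' := fun x y => by
        have h1 : s (x + y) = s x + s y := by
          apply idealSect_injective (f.ker ^ k) U'
          rw [map_add, hs, hs, hs]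
          rfl
        rw [h1, map_add]
      map_smul' := fun r x => by
        have h1 : s (r • x) = (g.appLE (f ⁻¹ᵁ U') U' hst r) • s x := by
          apply idealSect_injective (f.ker ^ k) U'
          rw [idealSect_smul, hs, hs]
          rfl
        rw [h1, IdMapA.pullSect_smul, Scheme.Hom.appLE_eq_app, IdMapE.app_appLE g f hf hst r]
        rfl }
  refine ⟨Γ(PrinPart.grMod f k, f ⁻¹ᵁ U'), inferInstance, inferInstance, hflatG, q, ?_, ?_⟩
  · intro t
    obtain ⟨σ, hσ⟩ := exists_pullSect f (ClSub.idealMod (f.ker ^ k)) hU' hVY hsurj t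
    have hmem : idealSect (f.ker ^ k) U' σ ∈ (RingHom.ker (f.app U').hom) ^ k := by
      rw [← hk]
      exact idealSect_mem _ hU' σ
    refine ⟨⟨_, hmem⟩, ?_⟩
    have h1 : s ⟨_, hmem⟩ = σ := idealSect_injective (f.ker ^ k) U' (hs _)
    change pullSect f (ClSub.idealMod (f.ker ^ k)) U' (s ⟨_, hmem⟩) = t
    rw [h1, hσ]
  · intro x
    change pullSect f (ClSub.idealMod (f.ker ^ k)) U' (s x) = 0 ↔ _
    constructor
    · intro h
      have h1 := mem_of_pullSect_eq_zero f (f.ker ^ k) hU' hVY hsurj (s x) h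
      rw [hs, hk, ← pow_succ'] at h1
      exact h1
    · intro h
      apply pullSect_eq_zero_of_mem f (f.ker ^ k) hU'
      rw [hs, hk, ← pow_succ']
      exact h

end Chain


section Main
variable {X Y X' Y' : Scheme.{u}} (g : X ⟶ Y) (f : Y ⟶ X) [IsClosedImmersion f]
  (hf : f ≫ g = 𝟙 Y) (u : Y' ⟶ Y) (v : X' ⟶ X) (g' : X' ⟶ Y')
  (hsq : IsPullback v g' g u) (f' : Y' ⟶ X') (hf' : f' ≫ g' = 𝟙 Y') (hf'v : f' ≫ v = u ≫ f)

include hf hsq hf' hf'v in
/-- **S5964** -/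
theorem main_flat (m : ℕ) (hflat : ∀ k ≤ m, FlatMod.IsFlat (PrinPart.grMod f k)) {n : ℕ}
    (hn : n ≤ m)
    (φ : (Scheme.Modules.pullback u).obj (PrinPart.grMod f n) ⟶ PrinPart.grMod f' n)
    (hφ : PrinPart.IsGrMap f' f v u n φ) : IsIso φ := by
  have hsqf : IsPullback u f' f v := IdMapE.isPullback_sections g f hf u v g' hsq f' hf' hf'v
  haveI := IdMapC.isClosedImmersion' f v u f' hsqf
  haveI hepi : Epi φ := IdMapC.epi f v u f' hsqf n φ hφ
  haveI : (M f' (f'.ker ^ n)).IsQuasicoherent :=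
    StalkPull.isQuasicoherent_pullbackObj f' (ClSub.idealMod (f'.ker ^ n))
  haveI : (M f (f.ker ^ n)).IsQuasicoherent :=
    StalkPull.isQuasicoherent_pullbackObj f (ClSub.idealMod (f.ker ^ n))
  haveI : ((Scheme.Modules.pullback u).obj (M f (f.ker ^ n))).IsQuasicoherent :=
    StalkPull.isQuasicoherent_pullbackObj u _
  haveI : Mono φ := by
    apply QcohLocal.mono_of_app_injective_of_affine_cover (F := (Scheme.Modules.pullback u).obj
      (M f (f.ker ^ n))) (G := M f' (f'.ker ^ n)) φ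
    intro z
    obtain ⟨U', VY', U, hU', hVY, hst, e', hVY', hUeq, hV, hzU⟩ :=
      IdMapE.exists_section_chart g f hf u v g' hsq f' hf' hf'v z
    refine ⟨f' ⁻¹ᵁ U, hV, hzU,
      (IdMapE.section_chart_bijective g f hf u v g' hsq f' hf' hf'v n φ hφ hU' hst hVY' e' U hUeq
        ?_).1⟩
    intro ι' hι'
    letI aRS : Algebra Γ(Y, f ⁻¹ᵁ U') Γ(Y', VY') := (u.appLE (f ⁻¹ᵁ U') VY' e').hom.toAlgebra
    letI aRA : Algebra Γ(Y, f ⁻¹ᵁ U') Γ(X, U') := (g.appLE (f ⁻¹ᵁ U') U' hst).hom.toAlgebra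
    letI modRM : Module Γ(Y, f ⁻¹ᵁ U') Γ(ClSub.idealMod (f.ker ^ n), U') :=
      Module.compHom _ (g.appLE (f ⁻¹ᵁ U') U' hst).hom
    have hk : (f.ker ^ n).ideal ⟨U', hU'⟩ = (RingHom.ker (f.app U').hom) ^ n := by
      change (f.ker.ideal ⟨U', hU'⟩) ^ n = _
      rw [Scheme.Hom.ker_apply]
    let c : Γ(ClSub.idealMod (f.ker ^ n), U') →ₗ[Γ(Y, f ⁻¹ᵁ U')]
        ↥((RingHom.ker (f.app U').hom) ^ n) :=
      { toFun := fun σ => ⟨idealSect (f.ker ^ n) U' σ, by
          rw [← hk]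
          exact idealSect_mem _ hU' σ⟩
        map_add' := fun a b => Subtype.ext (map_add _ a b)
        map_smul' := fun r σ => Subtype.ext (by
          change idealSect (f.ker ^ n) U' ((g.appLE (f ⁻¹ᵁ U') U' hst r) • σ) = _
          rw [idealSect_smul]
          rfl) }
    have hc : Function.Bijective c := by
      constructor
      · intro a b hab
        exact idealSect_injective (f.ker ^ n) U' (congrArg Subtype.val hab)
      · intro x
        obtain ⟨σ, hσ⟩ := exists_idealSect (f.ker ^ n) hU' x.1 (by rw [hk]; exact x.2)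
        exact ⟨σ, Subtype.ext hσ⟩
    have h0 : ι' = (((RingHom.ker (f.app U').hom) ^ n).subtype.restrictScalars
        Γ(Y, f ⁻¹ᵁ U')) ∘ₗ c := LinearMap.ext hι'
    rw [h0, LinearMap.lTensor_comp]
    have h1 := IdMapF.lTensor_pow_injective Γ(Y, f ⁻¹ᵁ U') Γ(Y', VY') Γ(X, U')
      (RingHom.ker (f.app U').hom) n (fun k hk' =>
        exists_q g f hf k (hflat k ((Nat.le_of_lt hk').trans hn)) hU' hst)
    have h2 : Function.Injective (LinearMap.lTensor Γ(Y', VY') c) := by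
      have : LinearMap.lTensor Γ(Y', VY') c =
          ((LinearEquiv.ofBijective c hc).lTensor Γ(Y', VY')).toLinearMap := rfl
      rw [this]
      exact ((LinearEquiv.ofBijective c hc).lTensor Γ(Y', VY')).injective
    exact h1.comp h2
  exact isIso_of_mono_of_epi φ

end Main

end Groth.Agent.Lead.IdMapG
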