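import Groth.Agent.Lead.IdMapG
import Groth.Agent.Helper4.FTGlue
import Mathlib

set_option autoImplicit false
set_option backward.isDefEq.respectTransparency false
set_option backward.isDefEq.respectTransparency.types false
open CategoryTheory CategoryTheory.Limits AlgebraicGeometry Opposite TopologicalSpace TensorProduct
universe u

namespace Groth.Agent.Lead.IdMapH

open Scheme.Modules OmegaSh Groth.Agent.Helper4 Groth.Agent.Lead.BCMap Groth.Agent.Lead.IdMapA

variable {Y X : Scheme.{u}} (f : Y ⟶ X) [IsClosedImmersion f]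

/-- the kernel of a closed immersion locally of finite presentation is finitely generated on
affine opens -/
theorem ker_fg [LocallyOfFinitePresentation f] {W : X.Opens} (hW : IsAffineOpen W) :
    (RingHom.ker (f.app W).hom).FG := by
  haveI : IsClosedImmersion (f ∣_ W) := inferInstance
  obtain ⟨hO, hsurj⟩ := H1RegB.affine_of_restrict_closed f hW
  have hfp : (f.appLE W (f ⁻¹ᵁ W) le_rfl).hom.FinitePresentation :=
    HasRingHomProperty.appLE (P := @LocallyOfFinitePresentation) f inferInstance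
      ⟨W, hW⟩ ⟨f ⁻¹ᵁ W, hO⟩ le_rfl
  rw [Scheme.Hom.appLE_eq_app] at hfp
  letI := (f.app W).hom.toAlgebra
  haveI : Algebra.FinitePresentation Γ(X, W) Γ(Y, f ⁻¹ᵁ W) := hfp
  exact Algebra.FinitePresentation.ker_fG_of_surjective (Algebra.ofId Γ(X, W) Γ(Y, f ⁻¹ᵁ W))
    hsurj

/-- **S5973** -/
theorem isCoh_grMod [LocallyOfFinitePresentation f] (n : ℕ) :
    Coh.IsCoh (PrinPart.grMod f n) := by
  classical
  haveI hq : (PrinPart.grMod f n).IsQuasicoherent :=
    StalkPull.isQuasicoherent_pullbackObj f (ClSub.idealMod (f.ker ^ n))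
  refine ⟨hq, ?_⟩
  apply FTGlue.isFiniteType_of_finite_sections
  intro y
  obtain ⟨W, hW, hyW⟩ := QcohLimits.exists_affine_nhd (f y)
  haveI : IsClosedImmersion (f ∣_ W) := inferInstance
  obtain ⟨hO, hsurj⟩ := H1RegB.affine_of_restrict_closed f hW
  refine ⟨f ⁻¹ᵁ W, hO, hyW, ?_⟩
  have hk : (f.ker ^ n).ideal ⟨W, hW⟩ = (RingHom.ker (f.app W).hom) ^ n := by
    change (f.ker.ideal ⟨W, hW⟩) ^ n = _
    rw [Scheme.Hom.ker_apply]
  have hfg : ((RingHom.ker (f.app W).hom) ^ n).FG := (ker_fg f hW).pow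
  obtain ⟨T, hT⟩ := hfg
  have hex : ∀ x : T, ∃ σ : Γ(ClSub.idealMod (f.ker ^ n), W),
      idealSect (f.ker ^ n) W σ = x.1 := fun x =>
    exists_idealSect (f.ker ^ n) hW x.1 (by
      rw [hk, ← hT]
      exact Ideal.subset_span x.2)
  choose s hs using hex
  refine ⟨⟨Finset.univ.image (fun x : T => pullSect f (ClSub.idealMod (f.ker ^ n)) W (s x)), ?_⟩⟩
  rw [eq_top_iff]
  intro t _
  obtain ⟨σ, hσ⟩ := exists_pullSect f (ClSub.idealMod (f.ker ^ n)) hW hO hsurj t
  have key : ∀ a ∈ Ideal.span (T : Set Γ(X, W)), ∃ τ : Γ(ClSub.idealMod (f.ker ^ n), W),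
      idealSect (f.ker ^ n) W τ = a ∧ pullSect f (ClSub.idealMod (f.ker ^ n)) W τ ∈
        Submodule.span Γ(Y, f ⁻¹ᵁ W) ((Finset.univ.image (fun x : T =>
          pullSect f (ClSub.idealMod (f.ker ^ n)) W (s x)) : Finset _) : Set _) := by
    intro a ha
    induction ha using Submodule.span_induction with
    | mem a ha =>
      refine ⟨s ⟨a, ha⟩, hs _, Submodule.subset_span ?_⟩
      rw [Finset.coe_image]
      exact ⟨⟨a, ha⟩, Finset.mem_coe.2 (Finset.mem_univ _), rfl⟩
    | zero => exact ⟨0, map_zero _, by rw [map_zero]; exact Submodule.zero_mem _⟩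
    | add a b _ _ ha hb =>
      obtain ⟨τ₁, h₁, h₁'⟩ := ha
      obtain ⟨τ₂, h₂, h₂'⟩ := hb
      exact ⟨τ₁ + τ₂, by rw [map_add, h₁, h₂], by rw [map_add]; exact Submodule.add_mem _ h₁' h₂'⟩
    | smul c a _ ha =>
      obtain ⟨τ, h, h'⟩ := ha
      refine ⟨c • τ, by rw [idealSect_smul, h]; rfl, ?_⟩
      rw [IdMapA.pullSect_smul]
      exact Submodule.smul_mem _ _ h'
  have hmem : idealSect (f.ker ^ n) W σ ∈ Ideal.span (T : Set Γ(X, W)) := by
    rw [hT, ← hk]
    exact idealSect_mem _ hW σ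
  obtain ⟨τ, hτ, hτ'⟩ := key _ hmem
  have : τ = σ := idealSect_injective (f.ker ^ n) W hτ
  rw [← hσ, ← this]
  exact hτ'

end Groth.Agent.Lead.IdMapH
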