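import Groth.Agent.Lead.IdMapC
import Mathlib

set_option autoImplicit false
set_option backward.isDefEq.respectTransparency false
set_option backward.isDefEq.respectTransparency.types false
open CategoryTheory CategoryTheory.Limits AlgebraicGeometry Opposite TopologicalSpace
universe u

namespace Groth.Agent.Lead.IdMapI

variable {Y X Y' X' : Scheme.{u}} (f : Y ⟶ X) [IsClosedImmersion f]
  (v : X' ⟶ X) (u : Y' ⟶ Y) (f' : Y' ⟶ X') (hsq : IsPullback u f' f v) (n : ℕ)
  (w : PrinPart.infNbhd f' n ⟶ PrinPart.infNbhd f n)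
  (hw : w ≫ PrinPart.infNbhdι f n = PrinPart.infNbhdι f' n ≫ v)

instance (n : ℕ) {Y X : Scheme.{u}} (f : Y ⟶ X) : IsClosedImmersion (PrinPart.infNbhdι f n) := by
  unfold PrinPart.infNbhdι
  infer_instance

include hsq hw in
/-- **S5951** -/
theorem main : IsPullback w (PrinPart.infNbhdι f' n) (PrinPart.infNbhdι f n) v := by
  haveI := IdMapC.isClosedImmersion' f v u f' hsq
  let p₁ := pullback.fst (PrinPart.infNbhdι f n) v
  let p₂ := pullback.snd (PrinPart.infNbhdι f n) v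
  haveI : IsClosedImmersion p₂ := inferInstance
  have hP : IsPullback p₂ p₁ v (PrinPart.infNbhdι f n) := (IsPullback.of_hasPullback _ _).flip
  have hker : p₂.ker = (PrinPart.infNbhdι f' n).ker := by
    have h0 : (PrinPart.infNbhdι f' n).ker = f'.ker ^ (n + 1) := by
      unfold PrinPart.infNbhdι
      exact Scheme.IdealSheafData.ker_subschemeι _
    rw [h0]
    apply Scheme.IdealSheafData.ext_of_iSup_eq_top
      (fun p : {p : X'.affineOpens × X.affineOpens // p.1.1 ≤ v ⁻¹ᵁ p.2.1} => p.1.1)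
    · rw [eq_top_iff]
      intro x _
      obtain ⟨_, ⟨U', hU' : IsAffineOpen U', rfl⟩, hxU', -⟩ :=
        X.isBasis_affineOpens.exists_subset_of_mem_open (Set.mem_univ (v x)) isOpen_univ
      obtain ⟨_, ⟨U, hU : IsAffineOpen U, rfl⟩, hxU, hUle⟩ :=
        X'.isBasis_affineOpens.exists_subset_of_mem_open (show x ∈ v ⁻¹ᵁ U' from hxU')
          (v ⁻¹ᵁ U').isOpen
      exact Opens.mem_iSup.2 ⟨⟨(⟨U, hU⟩, ⟨U', hU'⟩), hUle⟩, hxU⟩
    · rintro ⟨⟨⟨U, hU⟩, ⟨U', hU'⟩⟩, e⟩
      haveI : IsClosedImmersion ((PrinPart.infNbhdι f n) ∣_ U') := inferInstance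
      haveI : IsClosedImmersion (f ∣_ U') := inferInstance
      obtain ⟨-, h1⟩ := CnMapB.ker_baseChange p₂ (PrinPart.infNbhdι f n) v p₁ hP hU' hU e
      obtain ⟨-, h2⟩ := CnMapB.ker_baseChange f' f v u hsq.flip hU' hU e
      have h3 : RingHom.ker ((PrinPart.infNbhdι f n).app U').hom =
          (f.ker ^ (n + 1)).ideal ⟨U', hU'⟩ := by
        unfold PrinPart.infNbhdι
        exact (f.ker ^ (n + 1)).ker_subschemeι_app ⟨U', hU'⟩
      change p₂.ker.ideal ⟨U, hU⟩ = (f'.ker.ideal ⟨U, hU⟩) ^ (n + 1)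
      rw [Scheme.Hom.ker_apply, Scheme.Hom.ker_apply, h1, h3, h2, ← Ideal.map_pow]
      change Ideal.map (v.appLE U' U e).hom ((f.ker.ideal ⟨U', hU'⟩) ^ (n + 1)) = _
      rw [Scheme.Hom.ker_apply]
  let k : PrinPart.infNbhd f' n ⟶ pullback (PrinPart.infNbhdι f n) v :=
    pullback.lift w (PrinPart.infNbhdι f' n) hw
  have hk2 : k ≫ p₂ = PrinPart.infNbhdι f' n := pullback.lift_snd _ _ _
  haveI : IsIso k :=
    IsClosedImmersion.isIso_of_ker_eq (PrinPart.infNbhdι f' n) p₂ k hk2 hker.symm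
  exact IsPullback.of_iso_pullback ⟨hw⟩ (asIso k) (pullback.lift_fst _ _ _) hk2

end Groth.Agent.Lead.IdMapI
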