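import Mathlib
import Groth.Agent.Helper4.StalkDict
import Groth.Agent.Helper4.StalkExact
import Groth.Agent.Helper4.SecDict
import Groth.Agent.Helper4.FinLocFree2
import Groth.Agent.Helper4.FinLocFree6
import Groth.Prelude.Def_Coh

/-!
# Finite families of local sections generating all stalks of a submodule of a coherent module on a
Noetherian scheme (S11167)
-/

set_option autoImplicit false
universe u
open CategoryTheory CategoryTheory.Limits AlgebraicGeometry TopologicalSpace Opposite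

namespace Groth.Agent.Lead.IdealGen

open Groth.Agent.Helper4 Groth.Agent.Helper4.StalkDict

variable {X : Scheme.{u}}

/-- a finite family of local sections -/
abbrev Fam (G : X.Modules) := List (Σ U : X.Opens, Γ(G, U))

/-- the germs at `x` of the members of the family defined at `x` -/
def germsAt {G : X.Modules} (L : Fam G) (x : X) : Set (G.presheaf.stalk x) :=
  {g | ∃ p ∈ L, ∃ hx : x ∈ p.1, g = G.presheaf.germ p.1 x hx p.2}

/-- the family generates the stalk at `x` -/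
def GoodAt {G : X.Modules} (L : Fam G) (x : X) : Prop :=
  Submodule.span (X.presheaf.stalk x) (germsAt L x) = ⊤

theorem germsAt_mono {G : X.Modules} {L L' : Fam G} (h : ∀ p ∈ L, p ∈ L') (x : X) :
    germsAt L x ⊆ germsAt L' x := by
  rintro g ⟨p, hp, hx, rfl⟩
  exact ⟨p, h p hp, hx, rfl⟩

theorem GoodAt.mono {G : X.Modules} {L L' : Fam G} (h : ∀ p ∈ L, p ∈ L') {x : X}
    (hg : GoodAt L x) : GoodAt L' x := by
  unfold GoodAt at hg ⊢
  exact top_le_iff.mp (hg ▸ Submodule.span_mono (germsAt_mono h x))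

theorem GoodAt.append_left {G : X.Modules} {L : Fam G} (L' : Fam G) {x : X}
    (hg : GoodAt L x) : GoodAt (L ++ L') x :=
  hg.mono (fun p hp => List.mem_append_left _ hp)

theorem GoodAt.append_right {G : X.Modules} (L : Fam G) {L' : Fam G} {x : X}
    (hg : GoodAt L' x) : GoodAt (L ++ L') x :=
  hg.mono (fun p hp => List.mem_append_right _ hp)

section Algebra

variable {A : Type u} [CommRing A] {N : Type u} [AddCommGroup N] [Module A N]

/-- the saturation of a submodule with respect to a multiplicative predicate. -/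
def sat (P : A → Prop) (h1 : P 1) (hmul : ∀ a b, P a → P b → P (a * b)) (I : Submodule A N) :
    Submodule A N where
  carrier := {b | ∃ u : A, P u ∧ u • b ∈ I}
  add_mem' := by
    rintro b₁ b₂ ⟨u₁, h₁, hb₁⟩ ⟨u₂, h₂, hb₂⟩
    refine ⟨u₁ * u₂, hmul _ _ h₁ h₂, ?_⟩
    rw [smul_add]
    refine I.add_mem ?_ ?_
    · rw [mul_comm, mul_smul]; exact I.smul_mem _ hb₁
    · rw [mul_smul]; exact I.smul_mem _ hb₂
  zero_mem' := ⟨1, h1, by simp⟩
  smul_mem' := by
    rintro r b ⟨u, hu, hb⟩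
    exact ⟨u, hu, by rw [smul_comm]; exact I.smul_mem _ hb⟩

theorem exists_smul_sat_le [IsNoetherian A N] (P : A → Prop) (h1 : P 1)
    (hmul : ∀ a b, P a → P b → P (a * b)) (I : Submodule A N) :
    ∃ f : A, P f ∧ ∀ b ∈ sat P h1 hmul I, f • b ∈ I := by
  obtain ⟨T, hT⟩ := (IsNoetherian.noetherian (sat P h1 hmul I) : (sat P h1 hmul I).FG)
  have hmem : ∀ t ∈ T, ∃ u : A, P u ∧ u • t ∈ I := by
    intro t ht
    have : t ∈ sat P h1 hmul I := hT ▸ Submodule.subset_span ht
    exact this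
  choose! u hu1 hu2 using hmem
  refine ⟨∏ t ∈ T, u t, ?_, ?_⟩
  · apply Finset.prod_induction _ P hmul h1
    intro t ht
    exact hu1 t ht
  · intro b hb
    rw [← hT] at hb
    induction hb using Submodule.span_induction with
    | mem t ht =>
      obtain ⟨c, hc⟩ := Finset.dvd_prod_of_mem u ht
      rw [hc, mul_comm, mul_smul]
      exact I.smul_mem _ (hu2 t ht)
    | zero => simp
    | add a b _ _ ha hb => rw [smul_add]; exact I.add_mem ha hb
    | smul r a _ ha => rw [smul_comm]; exact I.smul_mem _ ha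

end Algebra


section Geometry

theorem exists_common_sections (G : X.Modules) (x : X) (S : Finset (G.presheaf.stalk x)) :
    ∃ (W : X.Opens) (hx : x ∈ W), ∀ g ∈ S, ∃ t : Γ(G, W), G.presheaf.germ W x hx t = g := by
  classical
  induction S using Finset.induction_on with
  | empty => exact ⟨⊤, trivial, by simp⟩
  | insert g S _ ih =>
    obtain ⟨W, hx, hW⟩ := ih
    obtain ⟨V, hxV, t, rfl⟩ := TopCat.Presheaf.exists_germ_eq G.presheaf g
    refine ⟨W ⊓ V, ⟨hx, hxV⟩, ?_⟩
    intro g' hg'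
    rw [Finset.mem_insert] at hg'
    rcases hg' with rfl | hg'
    · exact ⟨G.presheaf.map (homOfLE inf_le_right).op t,
        TopCat.Presheaf.germ_res_apply G.presheaf (homOfLE inf_le_right) x ⟨hx, hxV⟩ t⟩
    · obtain ⟨t', rfl⟩ := hW g' hg'
      exact ⟨G.presheaf.map (homOfLE inf_le_left).op t',
        TopCat.Presheaf.germ_res_apply G.presheaf (homOfLE inf_le_left) x ⟨hx, hxV⟩ t'⟩

variable (M : X.Modules) {V : X.Opens}

/-- germs of elements of the `Γ(X,V)`-span lie in the span of the germs. -/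
theorem germ_mem_span (x : X) (hx : x ∈ V) (T : Set Γ(M, V)) (n : Γ(M, V))
    (hn : n ∈ Submodule.span Γ(X, V) T) :
    M.presheaf.germ V x hx n ∈
      Submodule.span (X.presheaf.stalk x) ((fun t => M.presheaf.germ V x hx t) '' T) := by
  induction hn using Submodule.span_induction with
  | mem t ht => exact Submodule.subset_span ⟨t, ht, rfl⟩
  | zero => rw [map_zero]; exact Submodule.zero_mem _
  | add a b _ _ ha hb => rw [map_add]; exact Submodule.add_mem _ ha hb
  | smul r a _ ha => rw [germ_smul]; exact Submodule.smul_mem _ _ ha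

/-- elements of the stalk-span of germs of a submodule become germs of elements of the submodule
after multiplication by a function invertible at the point. -/
theorem exists_smul_eq_germ (hV : IsAffineOpen V) (ξ : X) (hξ : ξ ∈ V) (T : Set Γ(M, V))
    (z : M.presheaf.stalk ξ)
    (hz : z ∈ Submodule.span (X.presheaf.stalk ξ) ((fun t => M.presheaf.germ V ξ hξ t) '' T)) :
    ∃ u : Γ(X, V), ξ ∈ X.basicOpen u ∧ ∃ i₀ ∈ Submodule.span Γ(X, V) T,
      X.presheaf.germ V ξ hξ u • z = M.presheaf.germ V ξ hξ i₀ := by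
  induction hz using Submodule.span_induction with
  | mem y hy =>
    obtain ⟨t, ht, rfl⟩ := hy
    refine ⟨1, by rw [X.basicOpen_one]; exact hξ, t, Submodule.subset_span ht, ?_⟩
    rw [map_one, one_smul]
  | zero =>
    refine ⟨1, by rw [X.basicOpen_one]; exact hξ, 0, Submodule.zero_mem _, ?_⟩
    rw [smul_zero, map_zero]
  | add z₁ z₂ _ _ h₁ h₂ =>
    obtain ⟨u₁, hu₁, i₁, hi₁, e₁⟩ := h₁
    obtain ⟨u₂, hu₂, i₂, hi₂, e₂⟩ := h₂
    refine ⟨u₁ * u₂, by rw [X.basicOpen_mul]; exact ⟨hu₁, hu₂⟩, u₂ • i₁ + u₁ • i₂,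
      Submodule.add_mem _ (Submodule.smul_mem _ _ hi₁) (Submodule.smul_mem _ _ hi₂), ?_⟩
    rw [map_add, germ_smul, germ_smul, ← e₁, ← e₂, map_mul, smul_add, smul_smul, smul_smul,
      mul_comm]
  | smul c z _ h =>
    obtain ⟨u, hu, i₀, hi₀, e⟩ := h
    letI := X.presheaf.algebra_section_stalk ⟨ξ, hξ⟩
    haveI := hV.isLocalization_stalk ⟨ξ, hξ⟩
    obtain ⟨⟨c', ⟨u', hu'⟩⟩, hc⟩ :=
      IsLocalization.surj (hV.primeIdealOf ⟨ξ, hξ⟩).asIdeal.primeCompl c
    have hc2 : c * X.presheaf.germ V ξ hξ u' = X.presheaf.germ V ξ hξ c' := hc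
    have hu'' : ξ ∈ X.basicOpen u' :=
      (mem_basicOpen_iff_notMem_primeIdealOf hV ξ hξ u').mpr hu'
    refine ⟨u' * u, by rw [X.basicOpen_mul]; exact ⟨hu'', hu⟩, c' • i₀,
      Submodule.smul_mem _ _ hi₀, ?_⟩
    rw [germ_smul, ← e, ← hc2, map_mul, smul_smul, smul_smul]
    congr 1
    ring


/-- **core step**: sections over an affine open `V` whose germs generate `G_ξ` generate `G_x`
for all specializations `x` of `ξ` in a basic open neighbourhood of `ξ`. -/
theorem core [IsLocallyNoetherian X] {G : X.Modules} (ι : G ⟶ M) [Mono ι] (hM : Coh.IsCoh M)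
    (hV : IsAffineOpen V) (ξ : X) (hξ : ξ ∈ V) (T : Set Γ(G, V))
    (hgen : Submodule.span (X.presheaf.stalk ξ)
      ((fun t => G.presheaf.germ V ξ hξ t) '' T) = ⊤) :
    ∃ f₀ : Γ(X, V), ξ ∈ X.basicOpen f₀ ∧ ∀ x (hx : x ∈ X.basicOpen f₀), ξ ⤳ x →
      Submodule.span (X.presheaf.stalk x)
        ((fun t => G.presheaf.germ V x (X.basicOpen_le f₀ hx) t) '' T) = ⊤ := by
  haveI : M.IsQuasicoherent := hM.1
  haveI : IsNoetherianRing Γ(X, V) := IsLocallyNoetherian.component_noetherian ⟨V, hV⟩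
  haveI : Module.Finite Γ(X, V) Γ(M, V) := SecDict.finite_sections hV M hM.1 hM.2
  haveI : IsNoetherian Γ(X, V) Γ(M, V) := isNoetherian_of_isNoetherianRing_of_finite _ _
  let a : Γ(G, V) → Γ(M, V) := fun t => Scheme.Modules.Hom.app ι V t
  let I : Submodule Γ(X, V) Γ(M, V) := Submodule.span Γ(X, V) (a '' T)
  let P : Γ(X, V) → Prop := fun u => ξ ∈ X.basicOpen u
  have h1 : P 1 := by change ξ ∈ X.basicOpen (1 : Γ(X, V)); rw [X.basicOpen_one]; exact hξ
  have hmul : ∀ u v, P u → P v → P (u * v) := by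
    intro u v hu hv
    change ξ ∈ X.basicOpen (u * v)
    rw [X.basicOpen_mul]
    exact ⟨hu, hv⟩
  obtain ⟨f₀, hf₀, hsat⟩ := exists_smul_sat_le P h1 hmul I
  refine ⟨f₀, hf₀, ?_⟩
  intro x hx hspec
  have hxV : x ∈ V := X.basicOpen_le f₀ hx
  rw [eq_top_iff]
  intro g _
  obtain ⟨W₀, hxW₀, t₀, rfl⟩ := TopCat.Presheaf.exists_germ_eq G.presheaf g
  obtain ⟨h, hle, hxh⟩ := hV.exists_basicOpen_le (V := W₀) ⟨x, hxW₀⟩ hxV
  have hxh' : x ∈ X.basicOpen h := hxh
  let t : Γ(G, X.basicOpen h) := G.presheaf.map (homOfLE hle).op t₀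
  have hξh : ξ ∈ X.basicOpen h := hspec.mem_open (X.basicOpen h).2 hxh'
  obtain ⟨m, b, hb⟩ := exists_pow_smul_eq_res hV M h (Scheme.Modules.Hom.app ι _ t)
  -- germ computation valid at any point `y` of `D(h)`
  have hgerm : ∀ (y : X) (hy : y ∈ X.basicOpen h),
      M.presheaf.germ V y (X.basicOpen_le h hy) b =
        X.presheaf.germ V y (X.basicOpen_le h hy) h ^ m •
          stalkLin ι y (G.presheaf.germ (X.basicOpen h) y hy t) := by
    intro y hy
    have e1 := congrArg (M.presheaf.germ (X.basicOpen h) y hy) hb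
    rw [germ_smul, TopCat.Presheaf.germ_res_apply, TopCat.Presheaf.germ_res_apply, map_pow] at e1
    rw [StalkExact.stalkLin_germ]
    exact e1.symm
  -- images of the generators
  have himage : ∀ (y : X) (hy : y ∈ V), (fun t => M.presheaf.germ V y hy t) '' (a '' T) =
      (stalkLin ι y) '' ((fun t => G.presheaf.germ V y hy t) '' T) := by
    intro y hy
    ext z
    constructor
    · rintro ⟨_, ⟨t', ht', rfl⟩, rfl⟩
      exact ⟨_, ⟨t', ht', rfl⟩, StalkExact.stalkLin_germ ι y V hy t'⟩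
    · rintro ⟨_, ⟨t', ht', rfl⟩, rfl⟩
      exact ⟨_, ⟨t', ht', rfl⟩, (StalkExact.stalkLin_germ ι y V hy t').symm⟩
  -- Claim A: `b` lies in the saturation
  have hbsat : b ∈ sat P h1 hmul I := by
    have hz : M.presheaf.germ V ξ hξ b ∈ Submodule.span (X.presheaf.stalk ξ)
        ((fun t => M.presheaf.germ V ξ hξ t) '' (a '' T)) := by
      rw [hgerm ξ hξh, himage ξ hξ]
      refine Submodule.smul_mem _ _ ?_
      rw [← Submodule.map_span]
      refine ⟨_, ?_, rfl⟩
      rw [hgen]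
      trivial
    obtain ⟨u, hu, i₀, hi₀, e⟩ := exists_smul_eq_germ M hV ξ hξ (a '' T) _ hz
    letI := sectionModStalk M ξ hξ
    haveI := isLocalizedModule_germ hV M ξ hξ
    have e2 : germLin M ξ hξ (u • b) = germLin M ξ hξ i₀ := by
      rw [germLin_apply, germLin_apply, germ_smul]
      exact e
    obtain ⟨c, hc⟩ := IsLocalizedModule.exists_of_eq
      (S := (hV.primeIdealOf ⟨ξ, hξ⟩).asIdeal.primeCompl) e2
    refine ⟨c.1 * u, hmul _ _ ?_ hu, ?_⟩
    · exact (mem_basicOpen_iff_notMem_primeIdealOf hV ξ hξ c.1).mpr c.2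
    · rw [mul_smul]
      have : (c.1 • (u • b) : Γ(M, V)) = c.1 • i₀ := hc
      rw [this]
      exact Submodule.smul_mem _ _ hi₀
  have hfb : f₀ • b ∈ I := hsat b hbsat
  -- now at `x`
  have h2 := germ_mem_span M x hxV (a '' T) _ hfb
  rw [germ_smul] at h2
  have hunit : IsUnit (X.presheaf.germ V x hxV f₀) := (X.mem_basicOpen f₀ x hxV).mp hx
  have h3 : M.presheaf.germ V x hxV b ∈ Submodule.span (X.presheaf.stalk x)
      ((fun t => M.presheaf.germ V x hxV t) '' (a '' T)) := by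
    obtain ⟨w, hw⟩ := hunit
    have := Submodule.smul_mem _ (↑w⁻¹ : X.presheaf.stalk x) h2
    rwa [← hw, smul_smul, Units.inv_mul, one_smul] at this
  rw [hgerm x hxh'] at h3
  have hunit2 : IsUnit (X.presheaf.germ V x hxV h ^ m) :=
    ((X.mem_basicOpen h x hxV).mp hxh').pow m
  have h4 : stalkLin ι x (G.presheaf.germ (X.basicOpen h) x hxh' t) ∈
      Submodule.span (X.presheaf.stalk x)
        ((fun t => M.presheaf.germ V x hxV t) '' (a '' T)) := by
    obtain ⟨w, hw⟩ := hunit2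
    have := Submodule.smul_mem _ (↑w⁻¹ : X.presheaf.stalk x) h3
    rwa [← hw, smul_smul, Units.inv_mul, one_smul] at this
  rw [himage x hxV, ← Submodule.map_span] at h4
  obtain ⟨y, hy, hy2⟩ := h4
  have hinj := StalkExact.stalkLin_injective ι x
  have hy3 : y = G.presheaf.germ (X.basicOpen h) x hxh' t := hinj hy2
  have hy4 : G.presheaf.germ (X.basicOpen h) x hxh' t = G.presheaf.germ W₀ x hxW₀ t₀ :=
    TopCat.Presheaf.germ_res_apply G.presheaf (homOfLE hle) x hxh' t₀
  rw [← hy4, ← hy3]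
  exact hy


theorem exists_nhd_good [IsLocallyNoetherian X] {G : X.Modules} (ι : G ⟶ M) [Mono ι]
    (hM : Coh.IsCoh M) (ξ : X) :
    ∃ (V' : X.Opens) (L : Fam G), ξ ∈ V' ∧ ∀ x ∈ V', ξ ⤳ x → GoodAt L x := by
  haveI : M.IsQuasicoherent := hM.1
  haveI : IsNoetherianRing (X.presheaf.stalk ξ) := inferInstance
  haveI : Module.Finite (X.presheaf.stalk ξ) (M.presheaf.stalk ξ) :=
    FinLocFree2.finite_stalk M hM.2 ξ
  haveI : IsNoetherian (X.presheaf.stalk ξ) (M.presheaf.stalk ξ) :=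
    isNoetherian_of_isNoetherianRing_of_finite _ _
  haveI hfin : Module.Finite (X.presheaf.stalk ξ) (G.presheaf.stalk ξ) :=
    Module.Finite.of_injective (stalkLin ι ξ) (StalkExact.stalkLin_injective ι ξ)
  obtain ⟨S, hS⟩ := (Module.finite_def.mp hfin : (⊤ : Submodule _ (G.presheaf.stalk ξ)).FG)
  obtain ⟨W, hξW, hW⟩ := exists_common_sections G ξ S
  choose! t ht using hW
  obtain ⟨_, ⟨V, hV, rfl⟩, hξV, hVW⟩ :=
    X.isBasis_affineOpens.exists_subset_of_mem_open hξW W.2
  let s : G.presheaf.stalk ξ → Γ(G, V) := fun g => G.presheaf.map (homOfLE hVW).op (t g)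
  have hs : ∀ g ∈ S, G.presheaf.germ V ξ hξV (s g) = g := fun g hg => by
    have := TopCat.Presheaf.germ_res_apply G.presheaf (homOfLE hVW) ξ hξV (t g)
    exact this.trans (ht g hg)
  let T : Set Γ(G, V) := s '' (S : Set (G.presheaf.stalk ξ))
  have hgen : Submodule.span (X.presheaf.stalk ξ)
      ((fun t => G.presheaf.germ V ξ hξV t) '' T) = ⊤ := by
    rw [eq_top_iff, ← hS]
    apply Submodule.span_mono
    intro g hg
    exact ⟨s g, ⟨g, hg, rfl⟩, hs g hg⟩
  obtain ⟨f₀, hf₀, hgood⟩ := core M ι hM hV ξ hξV T hgen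
  refine ⟨X.basicOpen f₀, S.toList.map (fun g => ⟨V, s g⟩), hf₀, ?_⟩
  intro x hx hspec
  have h := hgood x hx hspec
  unfold GoodAt
  rw [eq_top_iff, ← h]
  apply Submodule.span_mono
  rintro _ ⟨_, ⟨g, hg, rfl⟩, rfl⟩
  exact ⟨⟨V, s g⟩, List.mem_map.mpr ⟨g, Finset.mem_toList.mpr hg, rfl⟩, X.basicOpen_le f₀ hx, rfl⟩

theorem exists_good_on_closed [IsNoetherian X] {G : X.Modules} (ι : G ⟶ M) [Mono ι]
    (hM : Coh.IsCoh M) (Z : Closeds X) :
    ∃ L : Fam G, ∀ x ∈ Z, GoodAt L x := by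
  induction Z using WellFoundedLT.induction with
  | _ Z IH =>
  rcases eq_or_ne Z ⊥ with rfl | h₀
  · exact ⟨[], fun x hx => (hx : x ∈ (∅ : Set X)).elim⟩
  · by_cases h₁ : IsPreirreducible (Z : Set X)
    · have hirr : IsIrreducible (Z : Set X) := ⟨Closeds.coe_nonempty.2 h₀, h₁⟩
      obtain ⟨ξ, hξ⟩ := QuasiSober.sober hirr Z.isClosed
      obtain ⟨V', L₁, hξV', hL₁⟩ := exists_nhd_good M ι hM ξ
      have hξZ : ξ ∈ Z := hξ.mem
      let Z' : Closeds X := Z ⊓ ⟨(V' : Set X)ᶜ, V'.2.isClosed_compl⟩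
      have hlt : Z' < Z := by
        refine lt_of_le_of_ne inf_le_left ?_
        intro heq
        have h2 : ξ ∈ Z' := heq ▸ hξZ
        exact h2.2 hξV'
      obtain ⟨L₂, hL₂⟩ := IH Z' hlt
      refine ⟨L₁ ++ L₂, fun x hx => ?_⟩
      by_cases hxV : x ∈ V'
      · refine (hL₁ x hxV ?_).append_left _
        rw [specializes_iff_mem_closure, hξ.def]
        exact hx
      · exact (hL₂ x ⟨hx, hxV⟩).append_right _
    · simp only [isPreirreducible_iff_isClosed_union_isClosed, not_forall, not_or] at h₁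
      obtain ⟨z₁, z₂, hz₁, hz₂, h, hz₁', hz₂'⟩ := h₁
      lift z₁ to Closeds X using hz₁
      lift z₂ to Closeds X using hz₂
      obtain ⟨L₁, hL₁⟩ := IH (Z ⊓ z₁) (inf_lt_left.2 hz₁')
      obtain ⟨L₂, hL₂⟩ := IH (Z ⊓ z₂) (inf_lt_left.2 hz₂')
      refine ⟨L₁ ++ L₂, fun x hx => ?_⟩
      rcases h hx with h1 | h2
      · exact (hL₁ x ⟨hx, h1⟩).append_left _
      · exact (hL₂ x ⟨hx, h2⟩).append_right _

/-- **S11167** (for a submodule of any coherent module) -/
theorem main [IsNoetherian X] (G : X.Modules) (ι : G ⟶ M) [Mono ι] (hM : Coh.IsCoh M) :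
    ∃ (m : ℕ) (U : Fin m → X.Opens) (k : Fin m → ℕ)
      (s : (i : Fin m) → Fin (k i) → (G.presheaf.obj (Opposite.op (U i)) : Type u)),
      ∀ x : X, Submodule.span (X.presheaf.stalk x)
          (Set.range (fun p : (Σ i : {i : Fin m // x ∈ U i}, Fin (k i.1)) =>
            (G.presheaf.germ (U p.1.1) x p.1.2) (s p.1.1 p.2))) = ⊤ := by
  obtain ⟨L, hL⟩ := exists_good_on_closed M ι hM ⊤
  refine ⟨L.length, fun i => (L.get i).1, fun _ => 1, fun i _ => (L.get i).2, fun x => ?_⟩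
  have h := hL x trivial
  unfold GoodAt at h
  rw [eq_top_iff, ← h]
  apply Submodule.span_mono
  rintro _ ⟨p, hp, hx, rfl⟩
  obtain ⟨i, rfl⟩ := List.get_of_mem hp
  exact ⟨⟨⟨i, hx⟩, 0⟩, rfl⟩

end Geometry

end Groth.Agent.Lead.IdealGen
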