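import Mathlib
import Groth.Agent.Lead.IdealMulD

/-!
# Artin–Rees for the homology of the Deligne system `I^n F^•`
-/

set_option autoImplicit false
set_option linter.unusedSectionVars false
set_option linter.style.haveILetI false

open CategoryTheory Limits AlgebraicGeometry TopologicalSpace Opposite

universe u

namespace Groth.Agent.Lead.IdealMul

open Groth.Agent.Helper4 Groth.Agent.Lead.Thick

variable {X : Scheme.{u}}

/-- exactness on affine sections in the middle of `A ⟶ Z ⟶ coker` -/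
theorem mem_secR_of_cokernel_π_app_eq_zero {A Z : X.Modules} [A.IsQuasicoherent]
    [Z.IsQuasicoherent] (τ : A ⟶ Z) {V : X.Opens} (hV : IsAffineOpen V) (z : Γ(Z, V))
    (h : (cokernel.π τ).app V z = 0) : z ∈ secR τ V := by
  haveI : (cokernel τ).IsQuasicoherent := QcohLimits.isQuasicoherent_cokernel τ
  haveI : (Abelian.image τ).IsQuasicoherent := QcohLimits.isQuasicoherent_kernel (cokernel.π τ)
  obtain ⟨k, hk⟩ := (SubSec.exists_kernel_section_iff (cokernel.π τ) V z).mpr h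
  obtain ⟨a, ha⟩ := QcohEpi.app_surjective_of_epi (Abelian.factorThruImage τ) hV k
  refine (mem_secR τ V z).mpr ⟨a, ?_⟩
  have h1 := congrArg (fun φ => (Scheme.Modules.Hom.app φ V) a) (Abelian.image.fac τ)
  rw [← hk, ← ha]
  exact h1.symm

theorem mem_secR_of_isColimit {A Z H : X.Modules} [A.IsQuasicoherent] [Z.IsQuasicoherent]
    (τ : A ⟶ Z) (π : Z ⟶ H) (w : τ ≫ π = 0) (hc : IsColimit (CokernelCofork.ofπ π w))
    {V : X.Opens} (hV : IsAffineOpen V) (z : Γ(Z, V)) (h : π.app V z = 0) : z ∈ secR τ V := by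
  apply mem_secR_of_cokernel_π_app_eq_zero τ hV
  have hcπ : cokernel.π τ ≫ ((cokernelIsCokernel τ).coconePointUniqueUpToIso hc).hom = π :=
    (cokernelIsCokernel τ).comp_coconePointUniqueUpToIso_hom hc WalkingParallelPair.one
  apply AffineDict.app_injective_of_mono
    ((cokernelIsCokernel τ).coconePointUniqueUpToIso hc).hom V
  rw [map_zero]
  have h1 := congrArg (fun φ => (Scheme.Modules.Hom.app φ V) z) hcπ
  exact h1.trans h

theorem isQuasicoherent_cycles (F : CochainComplex X.Modules ℤ)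
    (hF : ∀ q, (F.X q).IsQuasicoherent) (p : ℤ) : (F.cycles p).IsQuasicoherent := by
  haveI := hF p
  haveI := hF (p + 1)
  haveI : (kernel (F.d p (p + 1))).IsQuasicoherent := QcohLimits.isQuasicoherent_kernel _
  have e : F.cycles p ≅ kernel (F.d p (p + 1)) :=
    (F.cyclesIsKernel p (p + 1) (by simp)).conePointUniqueUpToIso
      (limit.isLimit (parallelPair (F.d p (p + 1)) 0))
  exact QcohLimits.isQuasicoherent_of_iso e.symm

theorem isQuasicoherent_homology (F : CochainComplex X.Modules ℤ)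
    (hF : ∀ q, (F.X q).IsQuasicoherent) (p : ℤ) : (F.homology p).IsQuasicoherent := by
  haveI := hF (p - 1)
  haveI := isQuasicoherent_cycles F hF p
  haveI : (cokernel (F.toCycles (p - 1) p)).IsQuasicoherent :=
    QcohLimits.isQuasicoherent_cokernel _
  have e : cokernel (F.toCycles (p - 1) p) ≅ F.homology p :=
    (colimit.isColimit (parallelPair (F.toCycles (p - 1) p) 0)).coconePointUniqueUpToIso
      (F.homologyIsCokernel (p - 1) p (by simp))
  exact QcohLimits.isQuasicoherent_of_iso e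

/-- uniform weak Artin–Rees for two problems at once -/
theorem exists_ar_le₂ [IsNoetherian X] (I : X.IdealSheafData) (Q₁ K₁ Q₂ K₂ : X.Modules)
    [Q₁.IsQuasicoherent] (hQ₁ : SheafOfModules.IsFiniteType (R := X.ringCatSheaf) Q₁)
    [Q₂.IsQuasicoherent] (hQ₂ : SheafOfModules.IsFiniteType (R := X.ringCatSheaf) Q₂)
    (k₁ : K₁ ⟶ Q₁) (k₂ : K₂ ⟶ Q₂) :
    ∃ c : ℕ, 0 < c ∧ ∀ x : X, ∃ V : X.Opens, ∃ hV : IsAffineOpen V, x ∈ V ∧ ∀ n ≥ c,
      (I.ideal ⟨V, hV⟩ ^ n • (⊤ : Submodule Γ(X, V) Γ(Q₁, V)) ⊓ secR k₁ V ≤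
        I.ideal ⟨V, hV⟩ ^ (n - c) • secR k₁ V) ∧
      (I.ideal ⟨V, hV⟩ ^ n • (⊤ : Submodule Γ(X, V) Γ(Q₂, V)) ⊓ secR k₂ V ≤
        I.ideal ⟨V, hV⟩ ^ (n - c) • secR k₂ V) := by
  let P : ℕ → X.Opens → Prop := fun c V => ∀ hV : IsAffineOpen V, ∀ n ≥ c,
      (I.ideal ⟨V, hV⟩ ^ n • (⊤ : Submodule Γ(X, V) Γ(Q₁, V)) ⊓ secR k₁ V ≤
        I.ideal ⟨V, hV⟩ ^ (n - c) • secR k₁ V) ∧
      (I.ideal ⟨V, hV⟩ ^ n • (⊤ : Submodule Γ(X, V) Γ(Q₂, V)) ⊓ secR k₂ V ≤
        I.ideal ⟨V, hV⟩ ^ (n - c) • secR k₂ V)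
  have hmono : ∀ (c c' : ℕ) (V : X.Opens), c ≤ c' → P c V → P c' V := by
    intro c c' V hcc' hP hV n hn
    obtain ⟨h1, h2⟩ := hP hV n (hcc'.trans hn)
    have hle : I.ideal ⟨V, hV⟩ ^ (n - c) ≤ I.ideal ⟨V, hV⟩ ^ (n - c') :=
      Ideal.pow_le_pow_right (by omega)
    exact ⟨h1.trans (Submodule.smul_mono hle le_rfl), h2.trans (Submodule.smul_mono hle le_rfl)⟩
  have hex : ∀ V : X.Opens, IsAffineOpen V → ∃ c, P c V := by
    intro V hV
    haveI : IsNoetherianRing Γ(X, V) := IsLocallyNoetherian.component_noetherian ⟨V, hV⟩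
    haveI : Module.Finite Γ(X, V) Γ(Q₁, V) := SecDict.finite_sections hV Q₁ inferInstance hQ₁
    haveI : Module.Finite Γ(X, V) Γ(Q₂, V) := SecDict.finite_sections hV Q₂ inferInstance hQ₂
    obtain ⟨c₁, hc₁⟩ := Ideal.exists_pow_inf_eq_pow_smul (I.ideal ⟨V, hV⟩) (secR k₁ V)
    obtain ⟨c₂, hc₂⟩ := Ideal.exists_pow_inf_eq_pow_smul (I.ideal ⟨V, hV⟩) (secR k₂ V)
    refine ⟨max c₁ c₂, fun _ n hn => ⟨?_, ?_⟩⟩
    · have h := hc₁ n ((le_max_left c₁ c₂).trans hn)
      rw [h]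
      exact (Submodule.smul_mono le_rfl inf_le_right).trans
        (Submodule.smul_mono (Ideal.pow_le_pow_right (by omega)) le_rfl)
    · have h := hc₂ n ((le_max_right c₁ c₂).trans hn)
      rw [h]
      exact (Submodule.smul_mono le_rfl inf_le_right).trans
        (Submodule.smul_mono (Ideal.pow_le_pow_right (by omega)) le_rfl)
  obtain ⟨c, hc⟩ := exists_uniform P hmono hex
  refine ⟨c + 1, Nat.succ_pos c, fun x => ?_⟩
  obtain ⟨V, hV, hxV, hP⟩ := hc x
  exact ⟨V, hV, hxV, hmono c (c + 1) V (Nat.le_succ c) hP hV⟩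

end Groth.Agent.Lead.IdealMul
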