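import Mathlib
import Groth.Agent.Lead.IdealMulG
import Groth.Agent.Lead.IdealMulC

/-!
# Artin–Rees for the homology of the Deligne system `I^n F^•`: the comparison maps
-/

set_option autoImplicit false
set_option linter.unusedSectionVars false
set_option linter.style.haveILetI false

open CategoryTheory Limits AlgebraicGeometry TopologicalSpace Opposite

universe u

namespace Groth.Agent.Lead.IdealMul

open Groth.Agent.Helper4 Groth.Agent.Lead.Thick

variable {X : Scheme.{u}}

theorem toCycles_cyclesMap {K L : CochainComplex X.Modules ℤ} (φ : K ⟶ L) (i j : ℤ) :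
    K.toCycles i j ≫ HomologicalComplex.cyclesMap φ j = φ.f i ≫ L.toCycles i j := by
  rw [← cancel_mono (L.iCycles j), Category.assoc, HomologicalComplex.cyclesMap_i,
    HomologicalComplex.toCycles_i_assoc, Category.assoc, HomologicalComplex.toCycles_i, φ.comm]

variable (I : X.IdealSheafData) (F : CochainComplex X.Modules ℤ)

theorem isQuasicoherent_deligne_X (hF : ∀ q, (F.X q).IsQuasicoherent) (n : ℕ) (q : ℤ) :
    (((Dual3.deligne I n).obj F).X q).IsQuasicoherent := by
  haveI := hF q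
  exact isQuasicoherent_idealMul (I ^ n) (F.X q)

/-- sections helper: evaluate an equality of morphisms on a section -/
theorem app_congr {A B : X.Modules} {f g : A ⟶ B} (h : f = g) (V : X.Opens) (t : Γ(A, V)) :
    f.app V t = g.app V t := by rw [h]

/-- `w : Z^p(I^n F) ⟶ I^k Z^p(F)` -/
theorem exists_w (hF : ∀ q, (F.X q).IsQuasicoherent) (p : ℤ) (n k : ℕ)
    (hcov : ∀ x : X, ∃ V : X.Opens, ∃ hV : IsAffineOpen V, x ∈ V ∧
      I.ideal ⟨V, hV⟩ ^ n • (⊤ : Submodule Γ(X, V) Γ(F.X p, V)) ⊓ secR (F.iCycles p) V ≤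
        I.ideal ⟨V, hV⟩ ^ k • secR (F.iCycles p) V) :
    ∃ w : ((Dual3.deligne I n).obj F).cycles p ⟶ (Dual3.idealMul (I ^ k)).obj (F.cycles p),
      w ≫ Dual3.idealMulι (I ^ k) (F.cycles p) =
        HomologicalComplex.cyclesMap (Dual3.deligneι I n F) p := by
  haveI := hF p
  haveI : (F.cycles p).IsQuasicoherent := isQuasicoherent_cycles F hF p
  haveI : (((Dual3.deligne I n).obj F).cycles p).IsQuasicoherent :=
    isQuasicoherent_cycles _ (isQuasicoherent_deligne_X I F hF n) p
  apply exists_factor_of_cover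
  intro x
  obtain ⟨V, hV, hxV, hle⟩ := hcov x
  refine ⟨V, hV, hxV, ?_⟩
  intro s hs
  obtain ⟨t, rfl⟩ := (mem_secR _ V s).mp hs
  -- the image of `s` in `F^p(V)`
  have h1 : (F.iCycles p).app V
      ((HomologicalComplex.cyclesMap (Dual3.deligneι I n F) p).app V t) =
      (Dual3.idealMulι (I ^ n) (F.X p)).app V
        ((((Dual3.deligne I n).obj F).iCycles p).app V t) :=
    app_congr (HomologicalComplex.cyclesMap_i (Dual3.deligneι I n F) p) V t
  have h2 : (F.iCycles p).app V
      ((HomologicalComplex.cyclesMap (Dual3.deligneι I n F) p).app V t) ∈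
      I.ideal ⟨V, hV⟩ ^ n • (⊤ : Submodule Γ(X, V) Γ(F.X p, V)) ⊓ secR (F.iCycles p) V := by
    refine ⟨?_, app_mem_secR _ V _⟩
    rw [h1]
    have := app_mem_secR (Dual3.idealMulι (I ^ n) (F.X p)) V
      ((((Dual3.deligne I n).obj F).iCycles p).app V t)
    rw [secR_idealMulι (I ^ n) (F.X p) hV] at this
    exact this
  have h3 := hle h2
  have h4 : I.ideal ⟨V, hV⟩ ^ k • secR (F.iCycles p) V =
      secR (Dual3.idealMulι (I ^ k) (F.cycles p) ≫ F.iCycles p) V :=
    (secR_idealMulι_comp (I ^ k) (F.iCycles p) hV).symm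
  rw [h4] at h3
  obtain ⟨u, hu⟩ := (mem_secR _ V _).mp h3
  refine (mem_secR _ V _).mpr ⟨u, ?_⟩
  apply AffineDict.app_injective_of_mono (F.iCycles p) V
  exact hu

/-- `φ : H^p(I^n F) ⟶ I^k H^p(F)` -/
theorem exists_phi (p : ℤ) (n k : ℕ)
    (w : ((Dual3.deligne I n).obj F).cycles p ⟶ (Dual3.idealMul (I ^ k)).obj (F.cycles p))
    (hw : w ≫ Dual3.idealMulι (I ^ k) (F.cycles p) =
        HomologicalComplex.cyclesMap (Dual3.deligneι I n F) p) :
    ∃ φ : ((Dual3.deligne I n).obj F).homology p ⟶ (Dual3.idealMul (I ^ k)).obj (F.homology p),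
      ((Dual3.deligne I n).obj F).homologyπ p ≫ φ =
        w ≫ (Dual3.idealMul (I ^ k)).map (F.homologyπ p) ∧
      φ ≫ Dual3.idealMulι (I ^ k) (F.homology p) =
        HomologicalComplex.homologyMap (Dual3.deligneι I n F) p := by
  have hg : ((Dual3.deligne I n).obj F).toCycles (p - 1) p ≫
      (w ≫ (Dual3.idealMul (I ^ k)).map (F.homologyπ p)) = 0 := by
    rw [← cancel_mono (Dual3.idealMulι (I ^ k) (F.homology p)), zero_comp, Category.assoc,
      Category.assoc, Dual3.idealMul_map_ι, reassoc_of% hw, ← Category.assoc,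
      toCycles_cyclesMap, Category.assoc, HomologicalComplex.toCycles_comp_homologyπ, comp_zero]
  let hc := ((Dual3.deligne I n).obj F).homologyIsCokernel (p - 1) p (by simp)
  refine ⟨hc.desc (CokernelCofork.ofπ _ hg), ?_, ?_⟩
  · exact hc.fac (CokernelCofork.ofπ _ hg) WalkingParallelPair.one
  · rw [← cancel_epi (((Dual3.deligne I n).obj F).homologyπ p)]
    have h1 : ((Dual3.deligne I n).obj F).homologyπ p ≫ hc.desc (CokernelCofork.ofπ _ hg) =
        w ≫ (Dual3.idealMul (I ^ k)).map (F.homologyπ p) :=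
      hc.fac (CokernelCofork.ofπ _ hg) WalkingParallelPair.one
    rw [reassoc_of% h1, Dual3.idealMul_map_ι, reassoc_of% hw,
      HomologicalComplex.homologyπ_naturality]

/-- `λ : I^n Z^p(F) ⟶ Z^p(I^k F)` for `k ≤ n` -/
theorem exists_lam (hF : ∀ q, (F.X q).IsQuasicoherent) (p : ℤ) (n k : ℕ) (hkn : k ≤ n) :
    ∃ l : (Dual3.idealMul (I ^ n)).obj (F.cycles p) ⟶ ((Dual3.deligne I k).obj F).cycles p,
      l ≫ ((Dual3.deligne I k).obj F).iCycles p ≫ Dual3.idealMulι (I ^ k) (F.X p) =
        Dual3.idealMulι (I ^ n) (F.cycles p) ≫ F.iCycles p := by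
  haveI := hF p
  haveI : (F.cycles p).IsQuasicoherent := isQuasicoherent_cycles F hF p
  obtain ⟨a, ha⟩ : ∃ a : (Dual3.idealMul (I ^ n)).obj (F.cycles p) ⟶
      (Dual3.idealMul (I ^ k)).obj (F.X p),
      a ≫ Dual3.idealMulι (I ^ k) (F.X p) =
        Dual3.idealMulι (I ^ n) (F.cycles p) ≫ F.iCycles p := by
    apply exists_factor_of_cover
    intro x
    obtain ⟨V, hV, hxV⟩ := QcohLimits.exists_affine_nhd x
    refine ⟨V, hV, hxV, ?_⟩
    rw [secR_idealMulι_comp (I ^ n) (F.iCycles p) hV, secR_idealMulι (I ^ k) (F.X p) hV]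
    refine (Submodule.smul_mono ?_ le_top)
    change I.ideal ⟨V, hV⟩ ^ n ≤ I.ideal ⟨V, hV⟩ ^ k
    exact Ideal.pow_le_pow_right hkn
  have had : a ≫ ((Dual3.deligne I k).obj F).d p (p + 1) = 0 := by
    change a ≫ (Dual3.idealMul (I ^ k)).map (F.d p (p + 1)) = 0
    rw [← cancel_mono (Dual3.idealMulι (I ^ k) (F.X (p + 1))), zero_comp, Category.assoc,
      Dual3.idealMul_map_ι, reassoc_of% ha, HomologicalComplex.iCycles_d, comp_zero]
  refine ⟨((Dual3.deligne I k).obj F).liftCycles a (p + 1) (by simp) had, ?_⟩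
  rw [HomologicalComplex.liftCycles_i_assoc]
  exact ha

/-- `ψ : I^n H^p(F) ⟶ H^p(I^k F)` -/
theorem exists_psi (hF : ∀ q, (F.X q).IsQuasicoherent) (p : ℤ) (n k : ℕ)
    (hcov : ∀ x : X, ∃ V : X.Opens, ∃ hV : IsAffineOpen V, x ∈ V ∧
      I.ideal ⟨V, hV⟩ ^ n • (⊤ : Submodule Γ(X, V) Γ(F.cycles p, V)) ⊓
          secR (F.toCycles (p - 1) p) V ≤
        I.ideal ⟨V, hV⟩ ^ k • secR (F.toCycles (p - 1) p) V)
    (l : (Dual3.idealMul (I ^ n)).obj (F.cycles p) ⟶ ((Dual3.deligne I k).obj F).cycles p)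
    (hl : l ≫ ((Dual3.deligne I k).obj F).iCycles p ≫ Dual3.idealMulι (I ^ k) (F.X p) =
        Dual3.idealMulι (I ^ n) (F.cycles p) ≫ F.iCycles p) :
    ∃ ψ : (Dual3.idealMul (I ^ n)).obj (F.homology p) ⟶ ((Dual3.deligne I k).obj F).homology p,
      (Dual3.idealMul (I ^ n)).map (F.homologyπ p) ≫ ψ =
        l ≫ ((Dual3.deligne I k).obj F).homologyπ p := by
  haveI := hF p
  haveI := hF (p - 1)
  haveI : (F.cycles p).IsQuasicoherent := isQuasicoherent_cycles F hF p
  haveI : (F.homology p).IsQuasicoherent := isQuasicoherent_homology F hF p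
  haveI : Epi ((Dual3.idealMul (I ^ n)).map (F.homologyπ p)) :=
    epi_idealMul_map (I ^ n) (F.homologyπ p)
  haveI : (kernel ((Dual3.idealMul (I ^ n)).map (F.homologyπ p))).IsQuasicoherent :=
    QcohLimits.isQuasicoherent_kernel _
  have hker : kernel.ι ((Dual3.idealMul (I ^ n)).map (F.homologyπ p)) ≫
      (l ≫ ((Dual3.deligne I k).obj F).homologyπ p) = 0 := by
    apply eq_zero_of_cover
    intro x
    obtain ⟨V, hV, hxV, hle⟩ := hcov x
    refine ⟨V, hV, hxV, fun m => ?_⟩
    obtain ⟨z, hz⟩ : ∃ z, z = (kernel.ι ((Dual3.idealMul (I ^ n)).map (F.homologyπ p))).app V m :=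
      ⟨_, rfl⟩
    have hez : ((Dual3.idealMul (I ^ n)).map (F.homologyπ p)).app V z = 0 := by
      rw [hz]
      exact app_congr (kernel.condition ((Dual3.idealMul (I ^ n)).map (F.homologyπ p))) V m
    obtain ⟨z', hz'⟩ : ∃ z', z' = (Dual3.idealMulι (I ^ n) (F.cycles p)).app V z := ⟨_, rfl⟩
    have hπz' : (F.homologyπ p).app V z' = 0 := by
      rw [hz']
      have h1 := app_congr (Dual3.idealMul_map_ι (I ^ n) (F.homologyπ p)) V z
      have h2 : (Dual3.idealMulι (I ^ n) (F.homology p)).app V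
          (((Dual3.idealMul (I ^ n)).map (F.homologyπ p)).app V z) = 0 := by
        rw [hez, map_zero]
      exact h1.symm.trans h2
    have hz'τ : z' ∈ secR (F.toCycles (p - 1) p) V :=
      mem_secR_of_isColimit (F.toCycles (p - 1) p) (F.homologyπ p)
        (F.toCycles_comp_homologyπ (p - 1) p) (F.homologyIsCokernel (p - 1) p (by simp)) hV z'
        hπz'
    have hz'I : z' ∈ I.ideal ⟨V, hV⟩ ^ n • (⊤ : Submodule Γ(X, V) Γ(F.cycles p, V)) := by
      have := app_mem_secR (Dual3.idealMulι (I ^ n) (F.cycles p)) V z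
      rw [secR_idealMulι (I ^ n) (F.cycles p) hV] at this
      rw [hz']
      exact this
    have h3 := hle ⟨hz'I, hz'τ⟩
    have h4 : I.ideal ⟨V, hV⟩ ^ k • secR (F.toCycles (p - 1) p) V =
        secR (Dual3.idealMulι (I ^ k) (F.X (p - 1)) ≫ F.toCycles (p - 1) p) V :=
      (secR_idealMulι_comp (I ^ k) (F.toCycles (p - 1) p) hV).symm
    rw [h4] at h3
    obtain ⟨u, hu⟩ := (mem_secR _ V _).mp h3
    -- `l z = toCycles u`
    have hlu : l.app V z = (((Dual3.deligne I k).obj F).toCycles (p - 1) p).app V u := by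
      haveI : Mono (((Dual3.deligne I k).obj F).iCycles p ≫ Dual3.idealMulι (I ^ k) (F.X p)) :=
        @mono_comp _ _ _ _ _ _ inferInstance _ (Dual3.mono_idealMulι (I ^ k) (F.X p))
      apply AffineDict.app_injective_of_mono
        (((Dual3.deligne I k).obj F).iCycles p ≫ Dual3.idealMulι (I ^ k) (F.X p)) V
      have e1 : (((Dual3.deligne I k).obj F).iCycles p ≫ Dual3.idealMulι (I ^ k) (F.X p)).app V
          (l.app V z) = (F.iCycles p).app V z' := by
        rw [hz']
        exact app_congr hl V z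
      have e2 : ((Dual3.deligne I k).obj F).toCycles (p - 1) p ≫
          ((Dual3.deligne I k).obj F).iCycles p ≫ Dual3.idealMulι (I ^ k) (F.X p) =
          (Dual3.idealMulι (I ^ k) (F.X (p - 1)) ≫ F.toCycles (p - 1) p) ≫ F.iCycles p := by
        rw [HomologicalComplex.toCycles_i_assoc, Category.assoc, HomologicalComplex.toCycles_i]
        exact Dual3.idealMul_map_ι (I ^ k) (F.d (p - 1) p)
      have e3 : (((Dual3.deligne I k).obj F).iCycles p ≫ Dual3.idealMulι (I ^ k) (F.X p)).app V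
          ((((Dual3.deligne I k).obj F).toCycles (p - 1) p).app V u) = (F.iCycles p).app V z' := by
        rw [← hu]
        exact app_congr e2 V u
      exact e1.trans e3.symm
    have h5 : (l ≫ ((Dual3.deligne I k).obj F).homologyπ p).app V z = 0 := by
      change (((Dual3.deligne I k).obj F).homologyπ p).app V (l.app V z) = 0
      rw [hlu]
      exact (app_congr (((Dual3.deligne I k).obj F).toCycles_comp_homologyπ (p - 1) p) V u).trans
        (by rfl)
    rw [hz] at h5
    exact h5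
  exact ⟨Abelian.epiDesc _ _ hker, Abelian.comp_epiDesc _ _ hker⟩

end Groth.Agent.Lead.IdealMul
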