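import Mathlib
import Groth.Agent.Lead.IdealMulH

/-!
# Artin–Rees for the homology of the Deligne system `I^n F^•`: the main theorem
-/

set_option autoImplicit false
set_option linter.unusedSectionVars false
set_option linter.style.haveILetI false

open CategoryTheory Limits AlgebraicGeometry TopologicalSpace Opposite

universe u

namespace Groth.Agent.Lead.IdealMul

open Groth.Agent.Helper4 Groth.Agent.Lead.Thick

variable {X : Scheme.{u}} (I : X.IdealSheafData) (F : CochainComplex X.Modules ℤ)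

theorem deligne_homology_artinRees [IsNoetherian X] (hF : ∀ q, (F.X q).IsQuasicoherent)
    (hFt : ∀ q, SheafOfModules.IsFiniteType (R := X.ringCatSheaf) (F.X q)) (p : ℤ) :
    ∃ (c : ℕ) (φ : ∀ n : ℕ, ((Dual3.deligne I n).obj F).homology p ⟶
        (Dual3.idealMul (I ^ (n - c))).obj (F.homology p))
      (ψ : ∀ n : ℕ, (Dual3.idealMul (I ^ n)).obj (F.homology p) ⟶
        ((Dual3.deligne I (n - c)).obj F).homology p),
      0 < c ∧
      (∀ n : ℕ, c ≤ n → φ n ≫ Dual3.idealMulι (I ^ (n - c)) (F.homology p) =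
        HomologicalComplex.homologyMap (Dual3.deligneι I n F) p) ∧
      (∀ n : ℕ, c ≤ n → ψ n ≫ HomologicalComplex.homologyMap (Dual3.deligneι I (n - c) F) p =
        Dual3.idealMulι (I ^ n) (F.homology p)) ∧
      (∀ n : ℕ, 2 * c ≤ n → (ψ n ≫ φ (n - c)) ≫ Dual3.idealMulι (I ^ (n - c - c)) (F.homology p) =
        Dual3.idealMulι (I ^ n) (F.homology p)) ∧
      ∀ (n : ℕ), 2 * c ≤ n → ∀ t : (Dual3.deligne I n).obj F ⟶ (Dual3.deligne I (n - c - c)).obj F,
        t ≫ Dual3.deligneι I (n - c - c) F = Dual3.deligneι I n F →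
        φ n ≫ ψ (n - c) = HomologicalComplex.homologyMap t p := by
  haveI := hF p
  haveI := hF (p - 1)
  haveI : (F.cycles p).IsQuasicoherent := isQuasicoherent_cycles F hF p
  haveI : (F.homology p).IsQuasicoherent := isQuasicoherent_homology F hF p
  have hZft : SheafOfModules.IsFiniteType (R := X.ringCatSheaf) (F.cycles p) :=
    QcohEpi.isFiniteType_of_mono (F.iCycles p) (hFt p)
  obtain ⟨c, hc0, hc⟩ := exists_ar_le₂ I (F.X p) (F.cycles p) (F.cycles p) (F.X (p - 1))
    (hFt p) hZft (F.iCycles p) (F.toCycles (p - 1) p)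
  -- the weak Artin–Rees inclusions hold for all `n`
  have hc' : ∀ x : X, ∃ V : X.Opens, ∃ hV : IsAffineOpen V, x ∈ V ∧ ∀ n : ℕ,
      (I.ideal ⟨V, hV⟩ ^ n • (⊤ : Submodule Γ(X, V) Γ(F.X p, V)) ⊓ secR (F.iCycles p) V ≤
        I.ideal ⟨V, hV⟩ ^ (n - c) • secR (F.iCycles p) V) ∧
      (I.ideal ⟨V, hV⟩ ^ n • (⊤ : Submodule Γ(X, V) Γ(F.cycles p, V)) ⊓
          secR (F.toCycles (p - 1) p) V ≤
        I.ideal ⟨V, hV⟩ ^ (n - c) • secR (F.toCycles (p - 1) p) V) := by
    intro x
    obtain ⟨V, hV, hxV, h⟩ := hc x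
    refine ⟨V, hV, hxV, fun n => ?_⟩
    by_cases hn : c ≤ n
    · exact h n hn
    · have h0 : n - c = 0 := by omega
      rw [h0, pow_zero, Ideal.one_eq_top, Submodule.top_smul, Submodule.top_smul]
      exact ⟨inf_le_right, inf_le_right⟩
  have hdata : ∀ n : ℕ, ∃ (w : ((Dual3.deligne I n).obj F).cycles p ⟶
        (Dual3.idealMul (I ^ (n - c))).obj (F.cycles p))
      (φ : ((Dual3.deligne I n).obj F).homology p ⟶
        (Dual3.idealMul (I ^ (n - c))).obj (F.homology p))
      (l : (Dual3.idealMul (I ^ n)).obj (F.cycles p) ⟶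
        ((Dual3.deligne I (n - c)).obj F).cycles p)
      (ψ : (Dual3.idealMul (I ^ n)).obj (F.homology p) ⟶
        ((Dual3.deligne I (n - c)).obj F).homology p),
      w ≫ Dual3.idealMulι (I ^ (n - c)) (F.cycles p) =
        HomologicalComplex.cyclesMap (Dual3.deligneι I n F) p ∧
      ((Dual3.deligne I n).obj F).homologyπ p ≫ φ =
        w ≫ (Dual3.idealMul (I ^ (n - c))).map (F.homologyπ p) ∧
      φ ≫ Dual3.idealMulι (I ^ (n - c)) (F.homology p) =
        HomologicalComplex.homologyMap (Dual3.deligneι I n F) p ∧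
      l ≫ ((Dual3.deligne I (n - c)).obj F).iCycles p ≫
          Dual3.idealMulι (I ^ (n - c)) (F.X p) =
        Dual3.idealMulι (I ^ n) (F.cycles p) ≫ F.iCycles p ∧
      (Dual3.idealMul (I ^ n)).map (F.homologyπ p) ≫ ψ =
        l ≫ ((Dual3.deligne I (n - c)).obj F).homologyπ p := by
    intro n
    obtain ⟨w, hw⟩ := exists_w I F hF p n (n - c) (fun x => by
      obtain ⟨V, hV, hxV, h⟩ := hc' x
      exact ⟨V, hV, hxV, (h n).1⟩)
    obtain ⟨φ, hφ1, hφ2⟩ := exists_phi I F p n (n - c) w hw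
    obtain ⟨l, hl⟩ := exists_lam I F hF p n (n - c) (Nat.sub_le n c)
    obtain ⟨ψ, hψ⟩ := exists_psi I F hF p n (n - c) (fun x => by
      obtain ⟨V, hV, hxV, h⟩ := hc' x
      exact ⟨V, hV, hxV, (h n).2⟩) l hl
    exact ⟨w, φ, l, ψ, hw, hφ1, hφ2, hl, hψ⟩
  choose w φ l ψ hw hφ1 hφ2 hl hψ using hdata
  have hlc : ∀ n : ℕ, l n ≫ HomologicalComplex.cyclesMap (Dual3.deligneι I (n - c) F) p =
      Dual3.idealMulι (I ^ n) (F.cycles p) := by
    intro n
    rw [← cancel_mono (F.iCycles p), Category.assoc, HomologicalComplex.cyclesMap_i]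
    exact hl n
  have hepi : ∀ n : ℕ, Epi ((Dual3.idealMul (I ^ n)).map (F.homologyπ p)) := fun n =>
    epi_idealMul_map (I ^ n) (F.homologyπ p)
  have h2 : ∀ n : ℕ, ψ n ≫ HomologicalComplex.homologyMap (Dual3.deligneι I (n - c) F) p =
      Dual3.idealMulι (I ^ n) (F.homology p) := by
    intro n
    haveI := hepi n
    rw [← cancel_epi ((Dual3.idealMul (I ^ n)).map (F.homologyπ p)), reassoc_of% (hψ n),
      HomologicalComplex.homologyπ_naturality, reassoc_of% (hlc n), Dual3.idealMul_map_ι]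
  refine ⟨c, φ, ψ, hc0, fun n _ => hφ2 n, fun n _ => h2 n, fun n _ => ?_, fun n _ t ht => ?_⟩
  · rw [Category.assoc, hφ2 (n - c), h2 n]
  · rw [← cancel_epi (((Dual3.deligne I n).obj F).homologyπ p), reassoc_of% (hφ1 n),
      hψ (n - c), HomologicalComplex.homologyπ_naturality]
    have hwl : w n ≫ l (n - c) = HomologicalComplex.cyclesMap t p := by
      haveI : Mono (((Dual3.deligne I (n - c - c)).obj F).iCycles p ≫
          Dual3.idealMulι (I ^ (n - c - c)) (F.X p)) :=
        @mono_comp _ _ _ _ _ _ inferInstance _ (Dual3.mono_idealMulι (I ^ (n - c - c)) (F.X p))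
      rw [← cancel_mono (((Dual3.deligne I (n - c - c)).obj F).iCycles p ≫
          Dual3.idealMulι (I ^ (n - c - c)) (F.X p)), Category.assoc, hl (n - c),
        reassoc_of% (hw n), HomologicalComplex.cyclesMap_i,
        HomologicalComplex.cyclesMap_i_assoc]
      have h3 : t.f p ≫ Dual3.idealMulι (I ^ (n - c - c)) (F.X p) =
          (Dual3.deligneι I n F).f p := by
        rw [← ht]
        rfl
      rw [h3]
    rw [reassoc_of% hwl]

end Groth.Agent.Lead.IdealMul
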