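import Mathlib

open CategoryTheory Limits AlgebraicGeometry

namespace Groth.Agent.Lead.ImgInt
universe u

/-- Chevalley-type statement (proved in S0593) -/
def Chev : Prop := ∀ (X S : Scheme.{u}) (f : X ⟶ S) [IsAffine X] [Surjective f]
  [UniversallyClosed f], IsAffine S

set_option maxHeartbeats 400000 in
theorem main (chev : Chev.{u})
    {X Y S : Scheme.{u}} (f : X ⟶ Y) (g : Y ⟶ S)
    [IsSeparated g] [IsIntegralHom (f ≫ g)] (hfin : ∀ s : S, Set.Finite ((f ≫ g).base ⁻¹' {s})) :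
    IsIntegralHom (f.imageι ≫ g) ∧ ∀ s : S, Set.Finite ((f.imageι ≫ g).base ⁻¹' {s}) := by
  have hqc : QuasiCompact f := QuasiCompact.of_comp f g
  have hcomp : f.toImage ≫ (f.imageι ≫ g) = f ≫ g := by
    rw [← Category.assoc, Scheme.Hom.toImage_imageι]
  have hint : IsIntegralHom (f.toImage ≫ (f.imageι ≫ g)) := by rw [hcomp]; infer_instance
  have haffc : IsAffineHom (f.toImage ≫ (f.imageι ≫ g)) := by rw [hcomp]; infer_instance
  have hucc : UniversallyClosed (f.toImage ≫ (f.imageι ≫ g)) := by rw [hcomp]; infer_instance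
  have hsep : IsSeparated (f.imageι ≫ g) := inferInstance
  have hti : IsIntegralHom f.toImage := IsIntegralHom.of_comp f.toImage (f.imageι ≫ g)
  have hucti : UniversallyClosed f.toImage :=
    (IsIntegralHom.iff_universallyClosed_and_isAffineHom.mp hti).1
  have hsurj : Surjective f.toImage :=
    surjective_of_isDominant_of_isClosed_range _ (f.toImage.isClosedMap.isClosed_range)
  have huc : UniversallyClosed (f.imageι ≫ g) :=
    UniversallyClosed.of_comp_surjective f.toImage (f.imageι ≫ g)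
  have haff : IsAffineHom (f.imageι ≫ g) := by
    refine ⟨fun V hV ↦ ?_⟩
    have hXV : IsAffineOpen ((f.toImage ≫ (f.imageι ≫ g)) ⁻¹ᵁ V) :=
      @IsAffineOpen.preimage _ _ _ hV (f.toImage ≫ (f.imageι ≫ g)) haffc
    rw [Scheme.Hom.comp_preimage] at hXV
    have : IsAffine ↑(f.toImage ⁻¹ᵁ ((f.imageι ≫ g) ⁻¹ᵁ V)) := hXV
    have h1 : Surjective (f.toImage ∣_ ((f.imageι ≫ g) ⁻¹ᵁ V)) :=
      IsZariskiLocalAtTarget.restrict (P := @Surjective) hsurj _
    have h2 : UniversallyClosed (f.toImage ∣_ ((f.imageι ≫ g) ⁻¹ᵁ V)) :=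
      IsZariskiLocalAtTarget.restrict (P := @UniversallyClosed) hucti _
    exact chev _ _ (f.toImage ∣_ ((f.imageι ≫ g) ⁻¹ᵁ V))
  refine ⟨IsIntegralHom.iff_universallyClosed_and_isAffineHom.mpr ⟨huc, haff⟩, fun s ↦ ?_⟩
  refine ((hfin s).image f.toImage).subset ?_
  intro z hz
  obtain ⟨x, rfl⟩ := hsurj.surj z
  refine ⟨x, ?_, rfl⟩
  have e : (f ≫ g) x = (f.toImage ≫ (f.imageι ≫ g)) x := by rw [hcomp]
  exact e.trans hz

end Groth.Agent.Lead.ImgInt
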