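import Mathlib

open CategoryTheory Limits AlgebraicGeometry

namespace Groth.Agent.Lead.ImgLim
universe u

variable {I : Type u} [SmallCategory I] [IsCofiltered I] (D : I ⥤ Scheme.{u})
  [∀ {i j : I} (f : i ⟶ j), IsAffineHom (D.map f)] (c : Cone D) (hc : IsLimit c)

set_option backward.defeqAttrib.useBackward true in
set_option backward.isDefEq.respectTransparency false in
open Scheme.Opens in
include hc in
/-- sections over the preimage of an affine open of a stage come from a later stage -/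
lemma exists_appLE_eq (i : I) (V : (D.obj i).Opens) (hV : IsAffineOpen V)
    (r : Γ(c.pt, c.π.app i ⁻¹ᵁ V)) :
    ∃ (j : Over i) (s : Γ(D.obj j.left, D.map j.hom ⁻¹ᵁ V))
      (h : c.π.app i ⁻¹ᵁ V ≤ c.π.app j.left ⁻¹ᵁ D.map j.hom ⁻¹ᵁ V),
      r = (c.π.app j.left).appLE (D.map j.hom ⁻¹ᵁ V) (c.π.app i ⁻¹ᵁ V) h s := by
  have (j : _) : IsAffine ((opensDiagram D i V).op.obj j).unop := hV.preimage _
  have (j : _) : IsAffine ((opensDiagram D i V).obj j) := hV.preimage _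
  obtain ⟨⟨j⟩, s, hs⟩ := (Types.jointly_surjective_of_isColimit (isColimitOfPreserves
    (Scheme.Γ ⋙ forget _) (isLimitOpensCone D c hc i V).op) ((c.π.app i ⁻¹ᵁ V).topIso.inv r))
  obtain ⟨s, rfl⟩ := (D.map j.hom ⁻¹ᵁ V).topIso.symm.commRingCatIsoToRingEquiv.surjective s
  have h : c.π.app j.left ⁻¹ᵁ D.map j.hom ⁻¹ᵁ V = c.π.app i ⁻¹ᵁ V := congr($(c.w j.hom) ⁻¹ᵁ V)
  refine ⟨j, s, h.ge, ?_⟩
  convert!
    show r = ((topIso _).inv ≫ ((opensCone D c i V).π.app j).appTop ≫ (topIso _).hom) s from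
      (c.π.app i ⁻¹ᵁ V).topIso.commRingCatIsoToRingEquiv.symm_apply_eq.mp hs.symm using 3
  simp [Scheme.Hom.app_eq_appLE, Scheme.Hom.resLE_appLE]

end Groth.Agent.Lead.ImgLim

namespace Groth.Agent.Lead.ImgLim
universe u

variable {I : Type u} [SmallCategory I] [IsCofiltered I] (D : I ⥤ Scheme.{u})
  [∀ {i j : I} (f : i ⟶ j), IsAffineHom (D.map f)] (c : Cone D) (hc : IsLimit c)

include hc in
/-- an ideal sheaf on the limit is determined by its pushforwards to the stages -/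
theorem le_of_map_le (K L : c.pt.IdealSheafData)
    (H : ∀ a, K.map (c.π.app a) ≤ L.map (c.π.app a)) : K ≤ L := by
  have hπ : ∀ a, IsAffineHom (c.π.app a) := fun a ↦ isAffineHom_π_app D c hc a
  let U : (Σ a : I, (D.obj a).affineOpens) → c.pt.affineOpens :=
    fun p ↦ ⟨c.π.app p.1 ⁻¹ᵁ p.2.1, p.2.2.preimage _⟩
  refine Scheme.IdealSheafData.le_of_iSup_eq_top U ?_ ?_
  · rw [eq_top_iff]
    intro x _
    obtain ⟨a⟩ := IsCofiltered.nonempty (C := I)
    obtain ⟨_, ⟨V, hV, rfl⟩, hxV, -⟩ := (D.obj a).isBasis_affineOpens.exists_subset_of_mem_open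
      (Set.mem_univ (c.π.app a x)) isOpen_univ
    exact TopologicalSpace.Opens.mem_iSup.mpr ⟨⟨a, ⟨V, hV⟩⟩, hxV⟩
  · rintro ⟨a, V⟩ r hr
    obtain ⟨j, s, h, rfl⟩ := exists_appLE_eq D c hc a V.1 V.2 r
    have hVj : IsAffineOpen (D.map j.hom ⁻¹ᵁ V.1) := V.2.preimage _
    have he : c.π.app j.left ⁻¹ᵁ D.map j.hom ⁻¹ᵁ V.1 = c.π.app a ⁻¹ᵁ V.1 :=
      congr($(c.w j.hom) ⁻¹ᵁ V.1)
    let U' : c.pt.affineOpens := ⟨c.π.app j.left ⁻¹ᵁ D.map j.hom ⁻¹ᵁ V.1, hVj.preimage _⟩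
    have hU'U : U' ≤ U ⟨a, V⟩ := he.le
    have hUU' : U ⟨a, V⟩ ≤ U' := he.ge
    have e1 : (c.π.app j.left).appLE (D.map j.hom ⁻¹ᵁ V.1) (c.π.app a ⁻¹ᵁ V.1) h s =
        (c.pt.presheaf.map (homOfLE hUU').op).hom
          (((c.π.app j.left).app (D.map j.hom ⁻¹ᵁ V.1)).hom s) := by
      rw [Scheme.Hom.appLE]
      rfl
    have e2 : ((c.π.app j.left).app (D.map j.hom ⁻¹ᵁ V.1)).hom s =
        (c.pt.presheaf.map (homOfLE hU'U).op).hom
          ((c.π.app j.left).appLE (D.map j.hom ⁻¹ᵁ V.1) (c.π.app a ⁻¹ᵁ V.1) h s) := by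
      have := Scheme.Hom.appLE_map (c.π.app j.left) h (homOfLE hU'U).op
      rw [Scheme.Hom.appLE_eq_app] at this
      exact (congr($(this) s)).symm
    have h1 : s ∈ (K.map (c.π.app j.left)).ideal ⟨_, hVj⟩ := by
      rw [Scheme.IdealSheafData.ideal_map_of_isAffineHom]
      change ((c.π.app j.left).app (D.map j.hom ⁻¹ᵁ V.1)).hom s ∈ K.ideal U'
      rw [e2]
      exact K.ideal_le_comap_ideal hU'U hr
    have h2 := H j.left ⟨_, hVj⟩ h1
    rw [Scheme.IdealSheafData.ideal_map_of_isAffineHom] at h2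
    change ((c.π.app j.left).app (D.map j.hom ⁻¹ᵁ V.1)).hom s ∈ L.ideal U' at h2
    rw [e1]
    exact L.ideal_le_comap_ideal hUU' h2

end Groth.Agent.Lead.ImgLim
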