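import Mathlib
import Groth.Agent.Lead.ImgLimA

open CategoryTheory Limits AlgebraicGeometry

namespace Groth.Agent.Lead.ImgLim
universe u

variable {I : Type u} [SmallCategory I] [IsCofiltered I] (D : I ⥤ Scheme.{u})
  [∀ {i j : I} (f : i ⟶ j), IsAffineHom (D.map f)] (c : Cone D) (hc : IsLimit c)
  (K : c.pt.IdealSheafData)

lemma map_map_eq {a b : I} (t : a ⟶ b) :
    (K.map (c.π.app a)).map (D.map t) = K.map (c.π.app b) := by
  rw [← Scheme.IdealSheafData.map_comp, c.w]

/-- the diagram of scheme-theoretic images of a closed subscheme of the limit -/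
noncomputable def imgDiag : I ⥤ Scheme.{u} where
  obj a := (K.map (c.π.app a)).subscheme
  map {a b} t := Scheme.IdealSheafData.subschemeMap (K.map (c.π.app a)) (K.map (c.π.app b))
    (D.map t) (map_map_eq D c K t).ge
  map_id a := by
    rw [← cancel_mono (K.map (c.π.app a)).subschemeι]
    simp
  map_comp {a b d} t t' := by
    rw [← cancel_mono (K.map (c.π.app d)).subschemeι]
    simp

/-- the inclusions -/
noncomputable def imgι : imgDiag D c K ⟶ D where
  app a := (K.map (c.π.app a)).subschemeι
  naturality a b t := by simp [imgDiag]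

instance (a : I) : IsClosedImmersion ((imgι D c K).app a) :=
  inferInstanceAs (IsClosedImmersion (K.map (c.π.app a)).subschemeι)

/-- the projections of the cone -/
noncomputable def imgπ (a : I) : K.subscheme ⟶ (imgDiag D c K).obj a :=
  Scheme.IdealSheafData.subschemeMap K (K.map (c.π.app a)) (c.π.app a) le_rfl

@[reassoc]
lemma imgπ_ι (a : I) :
    imgπ D c K a ≫ (imgι D c K).app a = K.subschemeι ≫ c.π.app a :=
  Scheme.IdealSheafData.subschemeMap_subschemeι _ _ _ _

/-- the cone -/
noncomputable def imgCone : Cone (imgDiag D c K) where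
  pt := K.subscheme
  π :=
  { app a := imgπ D c K a
    naturality a b t := by
      rw [← cancel_mono ((imgι D c K).app b)]
      simp only [Functor.const_obj_obj, Functor.const_obj_map, Category.id_comp, Category.assoc]
      rw [(imgι D c K).naturality t, imgπ_ι, imgπ_ι_assoc, c.w] }

@[reassoc]
lemma imgCone_π_ι (a : I) :
    (imgCone D c K).π.app a ≫ (imgι D c K).app a = K.subschemeι ≫ c.π.app a :=
  imgπ_ι D c K a

instance {a b : I} (t : a ⟶ b) : IsAffineHom ((imgDiag D c K).map t) := by
  have h : (imgDiag D c K).map t ≫ (imgι D c K).app b = (imgι D c K).app a ≫ D.map t :=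
    (imgι D c K).naturality t
  have : IsAffineHom ((imgDiag D c K).map t ≫ (imgι D c K).app b) := by
    rw [h]; infer_instance
  exact IsAffineHom.of_comp _ ((imgι D c K).app b)

include hc in
/-- the kernel inequality needed for lifting -/
lemma le_ker_lift (s : Cone (imgDiag D c K)) (m : s.pt ⟶ c.pt)
    (hm : ∀ a, m ≫ c.π.app a = s.π.app a ≫ (imgι D c K).app a) : K ≤ m.ker := by
  apply le_of_map_le D c hc
  intro a
  rw [Scheme.IdealSheafData.map_ker, hm a]
  have h1 : ((imgι D c K).app a).ker = K.map (c.π.app a) :=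
    Scheme.IdealSheafData.ker_subschemeι _
  calc K.map (c.π.app a) = ((imgι D c K).app a).ker := h1.symm
    _ ≤ (s.π.app a ≫ (imgι D c K).app a).ker := Scheme.Hom.le_ker_comp _ _

include hc in
/-- the cone of images is a limit cone -/
noncomputable def imgConeIsLimit : IsLimit (imgCone D c K) := by
  let cD : ∀ s : Cone (imgDiag D c K), Cone D := fun s ↦
    { pt := s.pt
      π :=
      { app := fun a ↦ s.π.app a ≫ (imgι D c K).app a
        naturality := fun a b t ↦ by
          simp only [Functor.const_obj_obj, Functor.const_obj_map, Category.id_comp,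
            Category.assoc]
          rw [← (imgι D c K).naturality t, ← Category.assoc, s.w] } }
  have hm : ∀ (s : Cone (imgDiag D c K)) (a : I),
      hc.lift (cD s) ≫ c.π.app a = s.π.app a ≫ (imgι D c K).app a := fun s a ↦ hc.fac (cD s) a
  have hker : ∀ s : Cone (imgDiag D c K), K.subschemeι.ker ≤ (hc.lift (cD s)).ker := by
    intro s
    rw [Scheme.IdealSheafData.ker_subschemeι]
    exact le_ker_lift D c hc K s _ (hm s)
  let L : ∀ s : Cone (imgDiag D c K), s.pt ⟶ K.subscheme := fun s ↦
    IsClosedImmersion.lift K.subschemeι (hc.lift (cD s)) (hker s)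
  have hL : ∀ s, L s ≫ K.subschemeι = hc.lift (cD s) := fun s ↦
    IsClosedImmersion.lift_fac _ _ _
  refine
  { lift := fun s ↦ L s
    fac := fun s a ↦ ?_
    uniq := fun s m' hm' ↦ ?_ }
  · have key : (L s ≫ imgπ D c K a) ≫ (imgι D c K).app a = s.π.app a ≫ (imgι D c K).app a := by
      rw [Category.assoc, imgπ_ι, ← Category.assoc, hL s, hm s a]
    exact (cancel_mono ((imgι D c K).app a)).mp key
  · let m'' : s.pt ⟶ K.subscheme := m'
    have hm'' : ∀ a, m'' ≫ imgπ D c K a = s.π.app a := hm'
    have key : m'' ≫ K.subschemeι = L s ≫ K.subschemeι := by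
      rw [hL s]
      refine hc.hom_ext fun a ↦ ?_
      rw [hm s a, Category.assoc, ← imgπ_ι, ← Category.assoc, hm'' a]
    exact (cancel_mono K.subschemeι).mp key

end Groth.Agent.Lead.ImgLim
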