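import Mathlib
import Groth.Agent.Lead.ImgLimB
import Groth.Agent.Lead.PropStage
import Groth.Agent.S2079
import Groth.Agent.S0590
import Groth.Agent.S7409

open CategoryTheory Limits AlgebraicGeometry

namespace Groth.Agent.Lead.ImgLim
universe u
open Groth.Agent.Lead.LimPullback

set_option backward.isDefEq.respectTransparency false in
lemma pbDiag_map_fst {I : Type u} [SmallCategory I] (D : I ⥤ Scheme.{u}) (i : I) {T : Scheme.{u}}
    (g : T ⟶ D.obj i) {j k : Over i} (t : j ⟶ k) :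
    (pbDiag D i g).map t ≫ pullback.fst (D.map k.hom) g =
      pullback.fst (D.map j.hom) g ≫ D.map t.left := by
  simp [pbDiag]

set_option backward.isDefEq.respectTransparency false in
lemma pbCone_π_fst {I : Type u} [SmallCategory I] (D : I ⥤ Scheme.{u}) (c : Cone D) (i : I)
    {T : Scheme.{u}} (g : T ⟶ D.obj i) (j : Over i) :
    (pbCone D c i g).π.app j ≫ pullback.fst (D.map j.hom) g =
      pullback.fst (c.π.app i) g ≫ c.π.app j.left := by
  simp [pbCone]

end Groth.Agent.Lead.ImgLim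

namespace Groth.Agent.Lead.ImgLim
universe u
open Groth.Agent.Lead.LimPullback

set_option maxHeartbeats 1600000 in
set_option backward.isDefEq.respectTransparency false in
theorem main {X S : Scheme.{u}} (f : X ⟶ S) [IsProper f] [CompactSpace S]
    [QuasiSeparatedSpace S] :
    ∃ (I : Type u) (_ : SmallCategory I) (_ : IsCofiltered I) (DX DS : I ⥤ Scheme.{u}) (φ : DX ⟶ DS)
      (cX : Limits.Cone DX) (cS : Limits.Cone DS) (_ : Limits.IsLimit cX) (_ : Limits.IsLimit cS)
      (eX : cX.pt ≅ X) (eS : cS.pt ≅ S),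
      (∀ (i j : I) (a : i ⟶ j), IsAffineHom (DX.map a) ∧ IsAffineHom (DS.map a)) ∧
      (∀ i, IsProper (φ.app i) ∧ CompactSpace (DS.obj i) ∧
        LocallyOfFiniteType (Limits.IsTerminal.from specULiftZIsTerminal (DS.obj i))) ∧
      (∀ i, cX.π.app i ≫ φ.app i = eX.hom ≫ f ≫ eS.inv ≫ cS.π.app i) := by
  -- step 1: closed immersion into a proper finitely presented scheme
  obtain ⟨I₁, _, _, D₁, c₁, hc₁, e₁, -, h₁⟩ := Groth.Agent.S2079.result f
  obtain ⟨i₁⟩ := IsCofiltered.nonempty (C := I₁)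
  let X' : Scheme.{u} := (D₁.obj i₁).left
  let h' : X' ⟶ S := (D₁.obj i₁).hom
  haveI : IsProper h' := (h₁ i₁).2.1
  haveI : LocallyOfFinitePresentation h' := (h₁ i₁).2.2
  let j : X ⟶ X' := e₁.inv.left ≫ (c₁.π.app i₁).left
  haveI : IsClosedImmersion (c₁.π.app i₁).left := (h₁ i₁).1
  haveI : IsIso e₁.inv.left := inferInstanceAs (IsIso ((Over.forget S).map e₁.inv))
  haveI : IsClosedImmersion j := inferInstance
  have hj : j ≫ h' = f := by
    have h1 : (c₁.π.app i₁).left ≫ h' = c₁.pt.hom := Over.w (c₁.π.app i₁)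
    have h2 : e₁.inv.left ≫ c₁.pt.hom = f := Over.w e₁.inv
    rw [Category.assoc, h1, h2]
  -- step 2: approximation of the base
  obtain ⟨Λ, _, _, _, DS₀, cS₀, hcS₀, haff, hD, ⟨eS⟩⟩ := Groth.Agent.S0590.result S
  haveI : ∀ (i j : Λᵒᵖ) (f : i ⟶ j), IsAffineHom (DS₀.map f) := haff
  haveI hA' : ∀ {i j : Λᵒᵖ} (f : i ⟶ j), IsAffineHom (DS₀.map f) := fun f ↦ haff _ _ f
  haveI : ∀ i, CompactSpace (DS₀.obj i) := fun i ↦ (hD i).1
  haveI hqs : ∀ i, QuasiSeparatedSpace (DS₀.obj i) := by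
    intro i
    haveI := (hD i).2
    haveI : IsNoetherianRing (ULift.{u} ℤ) :=
      isNoetherianRing_of_ringEquiv ℤ (ULift.ringEquiv : ULift.{u} ℤ ≃+* ℤ).symm
    haveI : IsLocallyNoetherian (Spec (CommRingCat.of (ULift.{u} ℤ))) := inferInstance
    haveI : IsLocallyNoetherian (DS₀.obj i) :=
      LocallyOfFiniteType.isLocallyNoetherian (specULiftZIsTerminal.from (DS₀.obj i))
    infer_instance
  haveI : IsFiltered Λ := inferInstance
  -- step 3: descend X' to a stage
  haveI : IsProper (h' ≫ eS.inv) := inferInstance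
  haveI : LocallyOfFinitePresentation (h' ≫ eS.inv) := inferInstance
  obtain ⟨i', W, w, gW, hw1, hw2, hsq⟩ :=
    Groth.Agent.Lead.PropStage.descend_proper_fp (fun f => Groth.Agent.S7409.result f)
      DS₀ cS₀ hcS₀ (h' ≫ eS.inv)
  haveI := hw1
  -- step 4: the system of base changes
  haveI hPaff : ∀ {a b : Over i'} (t : a ⟶ b), IsAffineHom ((pbDiag DS₀ i' w).map t) :=
    fun t ↦ isAffineHom_pbDiag_map i' w t
  let eP : X' ≅ pullback (cS₀.π.app i') w := hsq.flip.isoPullback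
  have heP1 : eP.hom ≫ pullback.fst (cS₀.π.app i') w = h' ≫ eS.inv := hsq.flip.isoPullback_hom_fst
  let ι : X ⟶ (pbCone DS₀ cS₀ i' w).pt := j ≫ eP.hom
  haveI : IsClosedImmersion ι := inferInstanceAs (IsClosedImmersion (j ≫ eP.hom))
  let K : (pbCone DS₀ cS₀ i' w).pt.IdealSheafData := ι.ker
  haveI : IsIso ι.toImage := inferInstance
  let eX : K.subscheme ≅ X := (asIso ι.toImage).symm
  have heX : eX.inv ≫ K.subschemeι = ι := ι.toImage_imageι
  let DS : Over i' ⥤ Scheme.{u} := Over.forget i' ⋙ DS₀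
  let φ : imgDiag (pbDiag DS₀ i' w) (pbCone DS₀ cS₀ i' w) K ⟶ DS :=
    { app := fun a ↦ (imgι (pbDiag DS₀ i' w) (pbCone DS₀ cS₀ i' w) K).app a ≫
        pullback.fst (DS₀.map a.hom) w
      naturality := fun a b t ↦ by
        have h1 := (imgι (pbDiag DS₀ i' w) (pbCone DS₀ cS₀ i' w) K).naturality t
        have h2 := pbDiag_map_fst DS₀ i' w t
        calc _ = ((imgDiag (pbDiag DS₀ i' w) (pbCone DS₀ cS₀ i' w) K).map t ≫
              (imgι (pbDiag DS₀ i' w) (pbCone DS₀ cS₀ i' w) K).app b) ≫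
              pullback.fst (DS₀.map b.hom) w := (Category.assoc _ _ _).symm
          _ = ((imgι (pbDiag DS₀ i' w) (pbCone DS₀ cS₀ i' w) K).app a ≫
              (pbDiag DS₀ i' w).map t) ≫ pullback.fst (DS₀.map b.hom) w := by rw [h1]
          _ = (imgι (pbDiag DS₀ i' w) (pbCone DS₀ cS₀ i' w) K).app a ≫
              pullback.fst (DS₀.map a.hom) w ≫ DS₀.map t.left := by
                rw [Category.assoc, h2]
          _ = _ := (Category.assoc _ _ _).symm }
  have hcS : IsLimit (cS₀.whisker (Over.forget i')) :=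
    (Functor.Initial.isLimitWhiskerEquiv (Over.forget i') cS₀).symm hcS₀
  refine ⟨Over i', inferInstance, inferInstance,
    imgDiag (pbDiag DS₀ i' w) (pbCone DS₀ cS₀ i' w) K, DS, φ,
    imgCone (pbDiag DS₀ i' w) (pbCone DS₀ cS₀ i' w) K, cS₀.whisker (Over.forget i'),
    imgConeIsLimit (pbDiag DS₀ i' w) (pbCone DS₀ cS₀ i' w) (pbConeIsLimit i' w hcS₀) K, hcS,
    eX, eS, ?_, ?_, ?_⟩
  · intro a b t
    exact ⟨inferInstance, haff _ _ _⟩
  · intro a
    refine ⟨?_, (hD _).1, (hD _).2⟩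
    haveI : IsProper (pullback.fst (DS₀.map a.hom) w) := inferInstance
    exact inferInstanceAs (IsProper ((imgι (pbDiag DS₀ i' w) (pbCone DS₀ cS₀ i' w) K).app a ≫
        pullback.fst (DS₀.map a.hom) w))
  · intro a
    have h1 := imgCone_π_ι (pbDiag DS₀ i' w) (pbCone DS₀ cS₀ i' w) K a
    have h2 := pbCone_π_fst DS₀ cS₀ i' w a
    have h3 : K.subschemeι ≫ pullback.fst (cS₀.π.app i') w = eX.hom ≫ f ≫ eS.inv := by
      have : K.subschemeι = eX.hom ≫ ι := by rw [← heX, Iso.hom_inv_id_assoc]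
      rw [this, Category.assoc]
      change eX.hom ≫ (j ≫ eP.hom) ≫ _ = _
      rw [Category.assoc, heP1, ← Category.assoc j, hj]
    calc _ = ((imgCone (pbDiag DS₀ i' w) (pbCone DS₀ cS₀ i' w) K).π.app a ≫
          (imgι (pbDiag DS₀ i' w) (pbCone DS₀ cS₀ i' w) K).app a) ≫
          pullback.fst (DS₀.map a.hom) w := (Category.assoc _ _ _).symm
      _ = (K.subschemeι ≫ (pbCone DS₀ cS₀ i' w).π.app a) ≫ pullback.fst (DS₀.map a.hom) w := by
          rw [h1]
      _ = K.subschemeι ≫ pullback.fst (cS₀.π.app i') w ≫ cS₀.π.app a.left := by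
          rw [Category.assoc, h2]
      _ = (eX.hom ≫ f ≫ eS.inv) ≫ cS₀.π.app a.left := by
          rw [← Category.assoc, h3]
      _ = _ := by simp only [Category.assoc]; rfl

end Groth.Agent.Lead.ImgLim
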