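import Mathlib

set_option autoImplicit false
universe u
open AlgebraicGeometry CategoryTheory TopologicalSpace Limits

namespace Groth.Agent.Lead.ImmDense

/-- a dense open meets every irreducible component, when there are finitely many. -/
theorem inter_nonempty_of_dense {T : Type*} [TopologicalSpace T]
    (hfin : (irreducibleComponents T).Finite) (U : Set T) (hd : Dense U)
    (Z : Set T) (hZ : Z ∈ irreducibleComponents T) : (Z ∩ U).Nonempty := by
  have hcl := closure_sUnion_irreducibleComponents_sdiff_singleton hfin Z hZ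
  set O := (⋃₀ (irreducibleComponents T \ {Z}))ᶜ with hO
  have hOopen : IsOpen O := by
    rw [hO, Set.sUnion_eq_biUnion, isOpen_compl_iff]
    exact hfin.sdiff.isClosed_biUnion fun W hW ↦ isClosed_of_mem_irreducibleComponents W hW.1
  have hOne : O.Nonempty := by
    by_contra h
    rw [Set.not_nonempty_iff_eq_empty] at h
    rw [h, closure_empty] at hcl
    exact hZ.1.1.ne_empty hcl.symm
  obtain ⟨w, hwO, hwU⟩ := hd.inter_open_nonempty O hOopen hOne
  exact ⟨w, hcl ▸ subset_closure hwO, hwU⟩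

theorem mem_of_map_eq {X Y : Scheme.{u}} (f : X ⟶ Y) [IsSeparated f] (U : X.Opens)
    (hd : Dense (U : Set X)) [IsImmersion (U.ι ≫ f)] (x u : X) (hu : u ∈ U)
    (h : f x = f u) : x ∈ U := by
  set j := U.ι ≫ f with hj
  let pr1 := pullback.fst j f
  let pr2 := pullback.snd j f
  let s : (U : Scheme.{u}) ⟶ pullback j f := pullback.lift (𝟙 _) U.ι (by simp [hj])
  have hs1 : s ≫ pr1 = 𝟙 _ := pullback.lift_fst _ _ _
  have hs2 : s ≫ pr2 = U.ι := pullback.lift_snd _ _ _
  haveI : IsSeparated pr1 := inferInstance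
  haveI : IsClosedImmersion (s ≫ pr1) := by rw [hs1]; infer_instance
  haveI : IsClosedImmersion s := IsClosedImmersion.of_comp s pr1
  haveI : IsImmersion pr2 := inferInstance
  have hemb : Topology.IsEmbedding pr2 := pr2.isEmbedding
  have hrange : Set.range s = pr2 ⁻¹' (U : Set X) := by
    ext p
    constructor
    · rintro ⟨v, rfl⟩
      show pr2 (s v) ∈ U
      rw [← Scheme.Hom.comp_apply, hs2]
      exact v.2
    · intro hp
      refine ⟨⟨pr2 p, hp⟩, hemb.injective ?_⟩
      rw [← Scheme.Hom.comp_apply, hs2]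
      rfl
  have hclosed : IsClosed (Set.range s) := s.isClosedEmbedding.isClosed_range
  obtain ⟨p, hp1, hp2⟩ := Scheme.Pullback.exists_preimage_pullback (f := j) (g := f)
    ⟨u, hu⟩ x (by rw [hj, Scheme.Hom.comp_apply]; exact h.symm)
  by_contra hx
  have hpC : p ∈ (Set.range s)ᶜ := by
    rw [hrange]
    intro hp
    apply hx
    rw [← hp2]
    exact hp
  obtain ⟨O, hO, hOeq⟩ := hemb.isInducing.isOpen_iff.mp hclosed.isOpen_compl
  have hxO : x ∈ O := by
    rw [← hp2]
    show p ∈ pr2 ⁻¹' O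
    rw [hOeq]
    exact hpC
  obtain ⟨u', hu'O, hu'U⟩ := hd.inter_open_nonempty O hO ⟨x, hxO⟩
  have h1 : s ⟨u', hu'U⟩ ∈ pr2 ⁻¹' O := by
    show pr2 (s _) ∈ O
    rw [← Scheme.Hom.comp_apply, hs2]
    exact hu'O
  rw [hOeq] at h1
  exact h1 ⟨_, rfl⟩

theorem preimage_coborderRange {X Y : Scheme.{u}} (f : X ⟶ Y) [IsSeparated f]
    (hfin : (irreducibleComponents (X : Type u)).Finite) (U : X.Opens)
    (hd : Dense (U : Set X)) [IsImmersion (U.ι ≫ f)] :
    f ⁻¹ᵁ (U.ι ≫ f).coborderRange = U := by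
  ext t
  constructor
  · intro ht
    have ht' : f t ∈ coborder (Set.range (U.ι ≫ f)) := ht
    -- generic point of an irreducible component through t
    have hZ := irreducibleComponent_mem_irreducibleComponents t
    obtain ⟨η, hη⟩ := QuasiSober.sober hZ.1 isClosed_irreducibleComponent
    have hηU : η ∈ U :=
      (hη.mem_open_set_iff U.isOpen).mpr (inter_nonempty_of_dense hfin _ hd _ hZ)
    have hηt : η ⤳ t := hη.specializes mem_irreducibleComponent
    have hft : f η ⤳ f t := hηt.map f.continuous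
    have hmem : f t ∈ closure (Set.range (U.ι ≫ f)) := by
      refine closure_mono ?_ hft.mem_closure
      rintro _ rfl
      exact ⟨⟨η, hηU⟩, rfl⟩
    have hr : f t ∈ Set.range (U.ι ≫ f) := by
      rw [← coborder_inter_closure (s := Set.range (U.ι ≫ f))]
      exact ⟨ht', hmem⟩
    obtain ⟨u, hu⟩ := hr
    exact mem_of_map_eq f U hd t u.1 u.2 hu.symm
  · intro ht
    show f t ∈ coborder (Set.range (U.ι ≫ f))
    exact subset_coborder ⟨⟨t, ht⟩, rfl⟩

theorem main {X Y : Scheme.{u}} (f : X ⟶ Y) [IsSeparated f]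
    (hfin : (irreducibleComponents (X : Type u)).Finite) {ι : Type u} (U : ι → X.Opens)
    (hU : ⨆ i, U i = ⊤) (hd : ∀ i, Dense (U i : Set X)) (h : ∀ i, IsImmersion ((U i).ι ≫ f)) :
    IsImmersion f := by
  haveI : MorphismProperty.RespectsRight @IsImmersion @IsOpenImmersion :=
    ⟨fun i hi f hf => by
      haveI : IsOpenImmersion i := hi
      haveI : IsImmersion f := hf
      infer_instance⟩
  haveI : MorphismProperty.HasOfPostcompProperty @IsImmersion @IsOpenImmersion :=
    MorphismProperty.HasOfPostcompProperty.of_le (W := @IsImmersion) (W' := @IsOpenImmersion) ⊤ le_top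
  refine IsZariskiLocalAtTarget.of_forall_source_exists_preimage (P := @IsImmersion) f ?_
  intro x
  have hx : x ∈ ⨆ i, U i := hU ▸ trivial
  rw [Opens.mem_iSup] at hx
  obtain ⟨i, hi⟩ := hx
  haveI := h i
  refine ⟨((U i).ι ≫ f).coborderRange, ?_, ?_⟩
  · show f x ∈ coborder (Set.range ((U i).ι ≫ f))
    exact subset_coborder ⟨⟨x, hi⟩, rfl⟩
  · rw [preimage_coborderRange f hfin (U i) (hd i)]
    exact h i

end Groth.Agent.Lead.ImmDense
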