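import Mathlib
import Groth.Agent.Lead.InjShK
import Groth.Agent.Helper3.FlatPullEx
import Groth.Agent.Helper5.StalkRed
import Groth.Agent.S0311
import Groth.Agent.S2249

/-!
# Lead: the direct image of `E~` along `Spec O_{X,x} ⟶ X` is injective and quasi-coherent
-/

set_option autoImplicit false
universe u
open CategoryTheory CategoryTheory.Limits AlgebraicGeometry Opposite TopologicalSpace

namespace Groth.Agent.Lead.InjShL

/-- the direct image along a flat morphism preserves injective modules -/
theorem injective_pushforward {X Y : Scheme.{u}} (f : X ⟶ Y) [Flat f] (I : X.Modules)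
    [Injective I] : Injective ((Scheme.Modules.pushforward f).obj I) := by
  haveI : (Scheme.Modules.pullback f).PreservesMonomorphisms :=
    ⟨fun φ _ => Groth.Agent.Helper3.FlatPullEx.mono_pullback f φ⟩
  exact Injective.injective_of_adjoint (Scheme.Modules.pullbackPushforwardAdjunction f) I

/-- `E~` is injective on the spectrum of a Noetherian local ring, `E` a hull of the residue field -/
theorem injective_tilde_hull (R : CommRingCat.{u}) [IsLocalRing R] [IsNoetherianRing R]
    (E : Type u) [AddCommGroup E] [Module R E]
    (i : IsLocalRing.ResidueField R →ₗ[R] E) (hi : InjHull.IsInjectiveHull i) :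
    Injective (tilde (ModuleCat.of R E)) := by
  have hpt := Groth.Agent.S0311.result R E i hi
  apply Groth.Agent.Lead.InjShK.injective_tilde (ModuleCat.of R E) (IsLocalRing.closedPoint R)
    hi.isInjective
  · intro s hs
    have hu : IsUnit s := by
      by_contra hne
      exact hs ((IsLocalRing.mem_maximalIdeal s).2 hne)
    obtain ⟨u, rfl⟩ := hu
    constructor
    · intro a b hab
      have := congrArg (fun e => (u⁻¹ : Rˣ).1 • e) hab
      simpa [smul_smul] using this
    · intro b
      exact ⟨(u⁻¹ : Rˣ).1 • b, by simp [smul_smul]⟩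
  · intro f hf e
    obtain ⟨n, hn⟩ := hpt e
    exact ⟨n, hn _ (Ideal.pow_mem_pow hf n)⟩

theorem main {X : Scheme.{u}} [IsLocallyNoetherian X]
    (x : X) (E : Type u) [AddCommGroup E] [Module (X.presheaf.stalk x) E]
    (i : IsLocalRing.ResidueField (X.presheaf.stalk x) →ₗ[X.presheaf.stalk x] E)
    (hi : InjHull.IsInjectiveHull i) :
    Injective ((Scheme.Modules.pushforward (X.fromSpecStalk x)).obj
        (tilde (ModuleCat.of (X.presheaf.stalk x) E))) ∧
      Coh.IsQCoh ((Scheme.Modules.pushforward (X.fromSpecStalk x)).obj
        (tilde (ModuleCat.of (X.presheaf.stalk x) E))) := by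
  constructor
  · haveI : Flat (X.fromSpecStalk x) := Groth.Agent.Helper5.StalkRed.flat_fromSpecStalk X x
    haveI := injective_tilde_hull (X.presheaf.stalk x) E i hi
    exact injective_pushforward (X.fromSpecStalk x) _
  · haveI : Coh.IsQCoh (tilde (ModuleCat.of (X.presheaf.stalk x) E)) :=
      (inferInstance : (tilde (ModuleCat.of (X.presheaf.stalk x) E)).IsQuasicoherent)
    exact Groth.Agent.S2249.result (X.fromSpecStalk x) _

end Groth.Agent.Lead.InjShL
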