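import Mathlib
import Groth.Agent.Lead.SheafHomAdj
import Groth.Agent.Lead.HomRestr
import Groth.Agent.Helper4.Flasque
import Groth.Agent.Helper4.StalkExact

/-!
# Lead: the sheaf Hom into an injective module is flasque
-/

set_option autoImplicit false
universe u
open CategoryTheory CategoryTheory.Limits AlgebraicGeometry Opposite TopologicalSpace

namespace Groth.Agent.Lead.InjShN

open RefHull Groth.Agent.Lead.SheafHomAdj Groth.Agent.Lead.HomRestr

variable {X : Scheme.{u}} (F I : X.Modules)

/-- a section of the sheaf Hom over `U` into an injective module is the restriction of a global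
morphism -/
theorem exists_extension [Injective I] (U : X.Opens) (t : Γ(homSh F I, U)) :
    ∃ ψ : F ⟶ I, (Scheme.Modules.restrictFunctor U.ι).map ψ = homU F I U t := by
  let adj := CxOX.extZeroAdj U.ι
  let φ : (Scheme.Modules.restrictFunctor U.ι).obj F ⟶ (Scheme.Modules.restrictFunctor U.ι).obj I :=
    homU F I U t
  let φ' : (CxOX.extZero U.ι).obj ((Scheme.Modules.restrictFunctor U.ι).obj F) ⟶ I :=
    (adj.homEquiv _ _).symm φ
  let c : (CxOX.extZero U.ι).obj ((Scheme.Modules.restrictFunctor U.ι).obj F) ⟶ F :=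
    adj.counit.app F
  haveI : Mono c := Groth.Agent.Helper4.Flasque.mono_counit U.ι F
  refine ⟨Injective.factorThru φ' c, ?_⟩
  have h1 : c ≫ Injective.factorThru φ' c = φ' := Injective.comp_factorThru φ' c
  have h2 : adj.homEquiv _ _ φ' = φ := Equiv.apply_symm_apply _ _
  rw [Adjunction.homEquiv_unit, ← h1, Functor.map_comp, ← Category.assoc] at h2
  have h3 := adj.right_triangle_components F
  rw [h3, Category.id_comp] at h2
  exact h2

theorem flasque_homSh [Injective I] (U V : X.Opens) (hUV : U ≤ V) (t : Γ(homSh F I, U)) :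
    ∃ s : Γ(homSh F I, V), rs (homSh F I) hUV s = t := by
  obtain ⟨ψ, hψ⟩ := exists_extension F I U t
  refine ⟨ofHom ψ V, ?_⟩
  apply homSh_ext
  intro x hx W hW hxW m
  rw [rs_apply, ofHom_apply, stalkMapₗ_germ, ← germ_secMap F I U t hW m x hxW]
  congr 1
  -- `ψ.app W m = secMap t m`
  obtain ⟨W', rfl⟩ : ∃ W' : U.toScheme.Opens, W = U.ι ''ᵁ W' :=
    ⟨U.ι ⁻¹ᵁ W, by
      rw [Scheme.Hom.image_preimage_eq_opensRange_inf, Scheme.Opens.opensRange_ι]
      exact (inf_eq_right.2 hW).symm⟩
  have h4 := congrArg (fun k => k.app W' m) hψ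
  exact h4

theorem main [DCoh.HasSheafHom F] (hI : Injective I) (U V : X.Opens) (hUV : U ≤ V) :
    Function.Surjective (((DCoh.sheafHom F).obj I).val.map (homOfLE hUV).op).hom := by
  haveI := hI
  intro s
  let e := sheafHomIso F I
  obtain ⟨t', ht'⟩ := flasque_homSh F I U V hUV (e.hom.app U s)
  refine ⟨e.inv.app V t', ?_⟩
  show ((DCoh.sheafHom F).obj I).presheaf.map (homOfLE hUV).op (e.inv.app V t') = s
  rw [← Groth.Agent.Helper4.StalkExact.app_res e.inv (homOfLE hUV) t']
  have : (homSh F I).presheaf.map (homOfLE hUV).op t' = e.hom.app U s := ht'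
  rw [this]
  have h5 : e.hom.app U ≫ e.inv.app U = 𝟙 _ := by
    rw [← Scheme.Modules.Hom.comp_app, e.hom_inv_id]
    rfl
  exact congrArg (fun k => k s) h5

end Groth.Agent.Lead.InjShN
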