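import Mathlib
import Groth.Agent.Lead.SheafHomAdj
import Groth.Agent.Lead.FLFDual2
import Groth.Agent.Lead.HomShB
import Groth.Agent.Lead.HomSh2
import Groth.Agent.Helper4.CohFP
import Groth.Agent.Helper9.SkyMod5

/-!
# Lead: vanishing of the first derived functor of the sheaf Hom, on stalks
-/

set_option autoImplicit false
universe u
open CategoryTheory CategoryTheory.Limits AlgebraicGeometry Opposite TopologicalSpace

namespace Groth.Agent.Lead.InjShP

open RefHull Groth.Agent.Lead.SheafHomAdj Groth.Agent.Helper9.SkyMod4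

variable {X : Scheme.{u}} (G : X.Modules)

/-- the sheaf Hom functor on morphisms, with the types of the sheaf Hom modules -/
noncomputable def hmap {A B : X.Modules} (ψ : A ⟶ B) : homSh G A ⟶ homSh G B :=
  (homFunctor G).map ψ

theorem hmap_apply {A B : X.Modules} (ψ : A ⟶ B) (U : X.Opens) (t : Γ(homSh G A, U)) (x : U)
    (v : G.presheaf.stalk x.1) :
    ((hmap G ψ).app U t).1 x v = stalkMapₗ ψ x.1 (t.1 x v) :=
  Groth.Agent.Lead.FLFDual.homFunctor_map_apply G ψ U t x v

theorem hmap_comp {A B C : X.Modules} (φ : A ⟶ B) (ψ : B ⟶ C) :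
    hmap G (φ ≫ ψ) = hmap G φ ≫ hmap G ψ := (homFunctor G).map_comp φ ψ

theorem hmap_zero {A B : X.Modules} : hmap G (0 : A ⟶ B) = 0 := by
  haveI : (homFunctor G).IsRightAdjoint := (adj G).isRightAdjoint
  haveI := Functor.preservesZeroMorphisms_of_isRightAdjoint (homFunctor G)
  exact (homFunctor G).map_zero A B

/-- evaluation at the stalk is natural in the second variable -/
theorem evalStalk_natural {A B : X.Modules} (ψ : A ⟶ B) (x : X)
    (t : (homSh G A).presheaf.stalk x) :
    evalStalk G B x (stalkMapₗ (hmap G ψ) x t) =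
      (stalkMapₗ ψ x) ∘ₗ (evalStalk G A x t) := by
  obtain ⟨U, hxU, t, rfl⟩ := TopCat.Presheaf.exists_germ_eq (homSh G A).presheaf t
  rw [stalkMapₗ_germ, evalStalk_germ, evalStalk_germ]
  ext v
  exact hmap_apply G ψ U t ⟨x, hxU⟩ v

section Derived

variable [HasInjectiveResolutions X.Modules] [DCoh.HasSheafHom G] [(DCoh.sheafHom G).Additive]

/-- the comparison of the chosen sheaf Hom with the constructed one -/
noncomputable def ν : DCoh.sheafHom G ≅ homFunctor G :=
  (DCoh.sheafHomAdj G).rightAdjointUniq (adj G)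

theorem exact_hmap (F : X.Modules)
    (hz : IsZero (((DCoh.sheafHom G).rightDerived 1).obj F)) (I : InjectiveResolution F) :
    (ShortComplex.mk (hmap G (I.cocomplex.d 0 1)) (hmap G (I.cocomplex.d 1 2))
      (by rw [← hmap_comp, I.cocomplex.d_comp_d, hmap_zero])).Exact := by
  set H := DCoh.sheafHom G with hH
  set K := (H.mapHomologicalComplex (ComplexShape.up ℕ)).obj I.cocomplex with hK
  have h1 : IsZero (K.homology 1) := hz.of_iso (I.isoRightDerivedObj H 1).symm
  have h2 : K.ExactAt 1 := (HomologicalComplex.exactAt_iff_isZero_homology K 1).mpr h1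
  have h3 : (K.sc' 0 1 2).Exact :=
    (HomologicalComplex.exactAt_iff' K 0 1 2 (by simp) (by simp)).mp h2
  refine ShortComplex.exact_of_iso ?_ h3
  exact ShortComplex.isoMk ((ν G).app _) ((ν G).app _) ((ν G).app _)
    ((ν G).hom.naturality (I.cocomplex.d 0 1)).symm ((ν G).hom.naturality (I.cocomplex.d 1 2)).symm

theorem St_map_apply {A B : X.Modules} (φ : A ⟶ B) (x : X) (m : A.presheaf.stalk x) :
    ((St x).map φ).hom m = stalkMapₗ φ x m := by
  obtain ⟨U, hxU, s, rfl⟩ := TopCat.Presheaf.exists_germ_eq A.presheaf m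
  rw [stalkMapₗ_germ]
  exact DerSch.stalkFunctor_map_germ x φ U hxU s

/-- vanishing of the first derived functor of the sheaf Hom out of a coherent module gives the
lifting property for maps out of its stalk against the stalks of an injective resolution. -/
theorem exists_lift [IsLocallyNoetherian X] (hG : Coh.IsCoh G) (F : X.Modules)
    (hz : IsZero (((DCoh.sheafHom G).rightDerived 1).obj F)) (I : InjectiveResolution F) (x : X)
    (l : StalkHom G (I.cocomplex.X 1) x) (hl : (stalkMapₗ (I.cocomplex.d 1 2) x) ∘ₗ l = 0) :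
    ∃ l' : StalkHom G (I.cocomplex.X 0) x, (stalkMapₗ (I.cocomplex.d 0 1) x) ∘ₗ l' = l := by
  have hFP := Groth.Agent.Helper4.CohFP.isFP_of_isCoh G hG.1 hG.2
  obtain ⟨t, ht⟩ := Groth.Agent.Lead.HomShB.evalStalk_surjective G (I.cocomplex.X 1) hFP x l
  have h0 : stalkMapₗ (hmap G (I.cocomplex.d 1 2)) x t = 0 := by
    apply Groth.Agent.Lead.HomSh.evalStalk_injective_of_isFT G (I.cocomplex.X 2) hG.2 x
    rw [evalStalk_natural, ht, hl, map_zero]
  have hS := (exact_hmap G F hz I).map (St x)
  rw [ShortComplex.moduleCat_exact_iff] at hS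
  obtain ⟨s, hs⟩ := hS t ((St_map_apply _ x t).trans h0)
  refine ⟨evalStalk G (I.cocomplex.X 0) x s, ?_⟩
  rw [← evalStalk_natural, ← ht, ← (St_map_apply _ x s).symm.trans hs]

end Derived

end Groth.Agent.Lead.InjShP
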