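import Mathlib
import Groth.Agent.Lead.InjShO
import Groth.Agent.Lead.InjShP
import Groth.Agent.Lead.InjShI
import Groth.Agent.Lead.InjShM

/-!
# Lead: a quasi-coherent module on a locally noetherian scheme is injective iff the first sheaf Ext
from every coherent module vanishes (S11163)
-/

set_option autoImplicit false
universe u
open CategoryTheory CategoryTheory.Limits AlgebraicGeometry Opposite TopologicalSpace

namespace Groth.Agent.Lead.InjShQ

open RefHull Groth.Agent.Lead.SheafHomAdj Groth.Agent.Helper9.SkyMod4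
open Groth.Agent.Lead.InjShP (St_map_apply)

variable {X : Scheme.{u}}

theorem stalkMapₗ_comp_apply {A B C : X.Modules} (φ : A ⟶ B) (ψ : B ⟶ C) (x : X)
    (m : A.presheaf.stalk x) :
    stalkMapₗ ψ x (stalkMapₗ φ x m) = stalkMapₗ (φ ≫ ψ) x m := by
  rw [← St_map_apply, ← St_map_apply, ← St_map_apply, Functor.map_comp]
  rfl

theorem stalkMapₗ_zero_apply {A B : X.Modules} (x : X) (m : A.presheaf.stalk x) :
    stalkMapₗ (0 : A ⟶ B) x m = 0 := by
  rw [← St_map_apply, Functor.map_zero]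
  rfl

theorem stalk_injective_of_vanishing [IsLocallyNoetherian X] [HasInjectiveResolutions X.Modules]
    (F : X.Modules)
    (h : ∀ (G : X.Modules) [DCoh.HasSheafHom G] [(DCoh.sheafHom G).Additive],
      Coh.IsCoh G → IsZero (((DCoh.sheafHom G).rightDerived 1).obj F)) (x : X) :
    Module.Injective (X.presheaf.stalk x) (F.presheaf.stalk x) := by
  let I : InjectiveResolution F := injectiveResolution F
  apply Module.Baer.injective
  intro 𝔞 g
  suffices hn : ∃ n : F.presheaf.stalk x, ∀ (a) (ha : a ∈ 𝔞), a • n = g ⟨a, ha⟩ by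
    obtain ⟨n, hn⟩ := hn
    exact ⟨LinearMap.toSpanSingleton _ _ n, fun a ha => by
      rw [LinearMap.toSpanSingleton_apply]; exact hn a ha⟩
  -- the stalk maps
  let ι0 : F ⟶ I.cocomplex.X 0 := I.ι.f 0
  set ιx := stalkMapₗ ι0 x with hιx
  set d0 := stalkMapₗ (I.cocomplex.d 0 1) x with hd0
  set d1 := stalkMapₗ (I.cocomplex.d 1 2) x with hd1
  have hι_inj : Function.Injective ιx := by
    haveI : Mono ι0 := inferInstanceAs (Mono (I.ι.f 0))
    haveI : Mono ((St x).map ι0) := inferInstance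
    have := (ModuleCat.mono_iff_injective ((St x).map ι0)).mp inferInstance
    intro a b hab
    exact this ((St_map_apply _ x a).trans (hab.trans (St_map_apply _ x b).symm))
  have hd0ι : ∀ m, d0 (ιx m) = 0 := fun m => by
    rw [hd0, hιx, stalkMapₗ_comp_apply]
    have : ι0 ≫ I.cocomplex.d 0 1 = 0 := I.ι_f_zero_comp_complex_d
    rw [this, stalkMapₗ_zero_apply]
  have hd1d0 : ∀ m, d1 (d0 m) = 0 := fun m => by
    rw [hd1, hd0, stalkMapₗ_comp_apply, I.cocomplex.d_comp_d, stalkMapₗ_zero_apply]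
  have hex : ∀ e, d0 e = 0 → ∃ n, ιx n = e := by
    intro e he
    have hS := (I.exact₀).map (St x)
    rw [ShortComplex.moduleCat_exact_iff] at hS
    obtain ⟨n, hn⟩ := hS e ((St_map_apply _ x e).trans he)
    exact ⟨n, (St_map_apply _ x n).symm.trans hn⟩
  -- Baer for the injective stalk of `I⁰`
  haveI : Injective (I.cocomplex.X 0) := I.injective 0
  have hI0 : Module.Injective (X.presheaf.stalk x) ((I.cocomplex.X 0).presheaf.stalk x) :=
    Groth.Agent.Lead.InjShI.stalk_injective (I.cocomplex.X 0) x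
  obtain ⟨e', he'⟩ := Module.Baer.of_injective hI0 𝔞 (ιx ∘ₗ g)
  set e₀ := e' 1 with he₀
  have hae₀ : ∀ (a) (ha : a ∈ 𝔞), a • e₀ = ιx (g ⟨a, ha⟩) := fun a ha => by
    rw [he₀, ← map_smul, smul_eq_mul, mul_one, he' a ha]
    rfl
  -- the coherent quotient
  have hm : ∀ a ∈ 𝔞, a • d0 e₀ = 0 := fun a ha => by
    rw [← map_smul, hae₀ a ha, hd0ι]
  obtain ⟨l, hl⟩ := Groth.Agent.Lead.InjShO.exists_lin x 𝔞 (d0 e₀) hm
  have hd1l : d1 ∘ₗ l = 0 := by
    ext g'
    obtain ⟨r, rfl⟩ := Groth.Agent.Lead.InjShO.exists_smul_γ_eq x 𝔞 g'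
    rw [LinearMap.comp_apply, map_smul, map_smul, hl, hd1d0, smul_zero]
    rfl
  haveI : (DCoh.sheafHom (Groth.Agent.Lead.InjShO.G x 𝔞)).Additive :=
    (DCoh.sheafHomAdj (Groth.Agent.Lead.InjShO.G x 𝔞)).right_adjoint_additive
  obtain ⟨l', hl'⟩ := Groth.Agent.Lead.InjShP.exists_lift (Groth.Agent.Lead.InjShO.G x 𝔞)
    (Groth.Agent.Lead.InjShO.isCoh_G x 𝔞) F
    (h (Groth.Agent.Lead.InjShO.G x 𝔞) (Groth.Agent.Lead.InjShO.isCoh_G x 𝔞)) I x l hd1l
  set e₁ := l' (Groth.Agent.Lead.InjShO.γ x 𝔞) with he₁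
  have hd0e₁ : d0 e₁ = d0 e₀ := by
    rw [he₁, ← hl, ← hl']
    rfl
  have hae₁ : ∀ a ∈ 𝔞, a • e₁ = 0 := fun a ha => by
    rw [he₁, ← map_smul, (Groth.Agent.Lead.InjShO.smul_γ_eq_zero_iff x 𝔞 a).mpr ha, map_zero]
  obtain ⟨n, hn⟩ := hex (e₀ - e₁) (by rw [map_sub, hd0e₁, sub_self])
  refine ⟨n, fun a ha => hι_inj ?_⟩
  rw [map_smul, hn, smul_sub, hae₁ a ha, sub_zero, hae₀ a ha]

theorem main [IsLocallyNoetherian X] [HasInjectiveResolutions X.Modules]
    (F : X.Modules) (hF : Coh.IsQCoh F) :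
    Injective F ↔ ∀ (G : X.Modules) [DCoh.HasSheafHom G] [(DCoh.sheafHom G).Additive],
      Coh.IsCoh G → IsZero (((DCoh.sheafHom G).rightDerived 1).obj F) := by
  constructor
  · intro hI G _ _ _
    exact Functor.isZero_rightDerived_obj_injective_succ _ 0 F
  · intro h
    exact (Groth.Agent.Lead.InjShM.main F hF).mpr (stalk_injective_of_vanishing F h)

end Groth.Agent.Lead.InjShQ
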