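import Mathlib

/-! Avoiding all primes over a given prime in an integral extension, inside an "almost ideal". -/

namespace Groth.Agent.Lead.IntAvoid

open Polynomial

variable {B B' : Type*} [CommRing B] [CommRing B']

lemma pow_trick {R : Type*} [CommRing R] (a x r : R) (m : ℕ) (h : a * x ^ m = x ^ (m + 1) * r)
    (j : ℕ) : a ^ j * x ^ m = x ^ (m + j) * r ^ j := by
  induction j with
  | zero => simp
  | succ j ih =>
    calc a ^ (j + 1) * x ^ m = a * (a ^ j * x ^ m) := by ring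
      _ = a * (x ^ (m + j) * r ^ j) := by rw [ih]
      _ = (a * x ^ m) * (x ^ j * r ^ j) := by ring
      _ = (x ^ (m + 1) * r) * (x ^ j * r ^ j) := by rw [h]
      _ = x ^ (m + (j + 1)) * r ^ (j + 1) := by ring

lemma exists_data_aux (ψ : B →+* B') (p : Ideal B) (γ : B') :
    ∀ (n : ℕ) (P : B[X]) (t : ℕ), P.natDegree = n → (∃ i, P.coeff i ∉ p) →
      γ ^ t * eval₂ ψ γ P ∈ p.map ψ →
      ∃ (m : ℕ) (c : B) (r : B'), c ∉ p ∧ ψ c * γ ^ m - γ ^ (m + 1) * r ∈ p.map ψ := by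
  intro n
  induction n using Nat.strong_induction_on with
  | _ n ih =>
    intro P t hn hex hmem
    have hP : eval₂ ψ γ P = eval₂ ψ γ (divX P) * γ + ψ (P.coeff 0) := by
      conv_lhs => rw [← divX_mul_X_add P]
      simp [eval₂_add, eval₂_mul]
    by_cases h0 : P.coeff 0 ∈ p
    · obtain ⟨i, hi⟩ := hex
      have hi0 : i ≠ 0 := by
        rintro rfl
        exact hi h0
      obtain ⟨k, rfl⟩ := Nat.exists_eq_succ_of_ne_zero hi0
      have hdeg : 0 < P.natDegree := by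
        by_contra hd
        have : P.natDegree < k + 1 := by omega
        exact hi (by rw [coeff_eq_zero_of_natDegree_lt this]; exact p.zero_mem)
      have hlt : (divX P).natDegree < n := by
        rw [natDegree_divX_eq_natDegree_tsub_one]
        omega
      refine ih _ hlt (divX P) (t + 1) rfl ⟨k, by rwa [coeff_divX]⟩ ?_
      have h1 : γ ^ (t + 1) * eval₂ ψ γ (divX P) =
          γ ^ t * eval₂ ψ γ P - γ ^ t * ψ (P.coeff 0) := by
        rw [hP]; ring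
      rw [h1]
      exact Ideal.sub_mem _ hmem (Ideal.mul_mem_left _ _ (Ideal.mem_map_of_mem _ h0))
    · refine ⟨t, P.coeff 0, -(eval₂ ψ γ (divX P)), h0, ?_⟩
      have h1 : ψ (P.coeff 0) * γ ^ t - γ ^ (t + 1) * -(eval₂ ψ γ (divX P)) =
          γ ^ t * eval₂ ψ γ P := by
        rw [hP]; ring
      rw [h1]
      exact hmem

lemma exists_data (ψ : B →+* B') (hψ : ψ.IsIntegral) (p : Ideal B) [hp : p.IsPrime] (γ : B') :
    ∃ (m : ℕ) (c : B) (r : B'), c ∉ p ∧ ψ c * γ ^ m - γ ^ (m + 1) * r ∈ p.map ψ := by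
  obtain ⟨P, hmonic, hP⟩ := hψ γ
  refine exists_data_aux ψ p γ _ P 0 rfl ⟨P.natDegree, ?_⟩ ?_
  · rw [hmonic.coeff_natDegree]
    exact (Ideal.ne_top_iff_one p).mp hp.ne_top
  · rw [hP]; simp

/-- An "almost ideal". -/
structure Good (𝔘 : Set B') : Prop where
  zero : (0 : B') ∈ 𝔘
  add : ∀ a b, a ∈ 𝔘 → b ∈ 𝔘 → a + b ∈ 𝔘
  mul : ∀ a b, a ∈ 𝔘 → b ∈ 𝔘 → a * b ∈ 𝔘
  trick : ∀ u ∈ 𝔘, ∀ b : B', ∃ N : ℕ, u ^ N * b ∈ 𝔘

lemma Good.trick' {𝔘 : Set B'} (h : Good 𝔘) (u : B') (hu : u ∈ 𝔘) (b : B') :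
    ∃ N : ℕ, 0 < N ∧ u ^ N * b ∈ 𝔘 := by
  obtain ⟨N, hN⟩ := h.trick u hu b
  refine ⟨N + 1, Nat.succ_pos _, ?_⟩
  have : u ^ (N + 1) * b = u * (u ^ N * b) := by ring
  rw [this]
  exact h.mul _ _ hu hN

lemma step (ψ : B →+* B') (hψ : ψ.IsIntegral) (p : Ideal B) [hp : p.IsPrime] {𝔘 : Set B'}
    (h𝔘 : Good 𝔘) (u₁ u₂ : B') (h₁ : u₁ ∈ 𝔘) (h₂ : u₂ ∈ 𝔘) :
    ∃ u ∈ 𝔘, ∀ P : Ideal B', P.IsPrime → P.comap ψ = p → (u₁ ∉ P ∨ u₂ ∉ P) → u ∉ P := by
  obtain ⟨m, c, r, hc, hrel⟩ := exists_data ψ hψ p u₁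
  set e : B' := u₁ ^ m * r ^ m with he
  set s : B' := ψ c ^ m with hs
  obtain ⟨M₁, hM₁, hU₁⟩ := h𝔘.trick' u₁ h₁ e
  obtain ⟨M₂, hM₂, hU₂⟩ := h𝔘.trick' u₂ h₂ (s - e)
  refine ⟨u₁ ^ M₁ * e + u₂ ^ M₂ * (s - e), h𝔘.add _ _ hU₁ hU₂, ?_⟩
  intro P hP hPp hor
  have hle : p.map ψ ≤ P := Ideal.map_le_iff_le_comap.mpr (le_of_eq hPp.symm)
  have hcP : ψ c ∉ P := by
    intro h
    apply hc
    rw [← hPp]
    exact h
  have hsP : s ∉ P := fun h => hcP (hP.mem_of_pow_mem _ h)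
  -- (s - e) * u₁^m ∈ p.map ψ
  have hF1 : (s - e) * u₁ ^ m ∈ p.map ψ := by
    have hq : (Ideal.Quotient.mk (p.map ψ)) (ψ c) * (Ideal.Quotient.mk (p.map ψ)) u₁ ^ m =
        (Ideal.Quotient.mk (p.map ψ)) u₁ ^ (m + 1) * (Ideal.Quotient.mk (p.map ψ)) r := by
      rw [← sub_eq_zero, ← map_pow, ← map_pow, ← map_mul, ← map_mul, ← map_sub,
        Ideal.Quotient.eq_zero_iff_mem]
      exact hrel
    have hq' := pow_trick _ _ _ m hq m
    rw [← Ideal.Quotient.eq_zero_iff_mem, map_mul, map_sub, hs, he]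
    simp only [map_mul, map_pow]
    have : (Ideal.Quotient.mk (p.map ψ)) (ψ c) ^ m * (Ideal.Quotient.mk (p.map ψ)) u₁ ^ m =
        (Ideal.Quotient.mk (p.map ψ)) u₁ ^ (m + m) * (Ideal.Quotient.mk (p.map ψ)) r ^ m := hq'
    linear_combination this
  by_cases h1 : u₁ ∈ P
  · -- u₁ ∈ P, so u₂ ∉ P
    have h2 : u₂ ∉ P := by
      rcases hor with h | h
      · exact absurd h1 h
      · exact h
    have heP : e ∈ P := by
      rcases Nat.eq_zero_or_pos m with hm | hm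
      · exfalso
        subst hm
        have : ψ c * u₁ ^ 0 - u₁ ^ (0 + 1) * r ∈ P := hle hrel
        simp only [pow_zero, mul_one, zero_add, pow_one] at this
        apply hcP
        have h3 : ψ c = (ψ c - u₁ * r) + u₁ * r := by ring
        rw [h3]
        exact P.add_mem this (P.mul_mem_right _ h1)
      · rw [he]
        exact P.mul_mem_right _ (P.pow_mem_of_mem h1 m hm)
    intro hu
    have hse : s - e ∉ P := by
      intro h
      apply hsP
      have h3 : s = (s - e) + e := by ring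
      rw [h3]
      exact P.add_mem h heP
    have h4 : u₂ ^ M₂ * (s - e) ∈ P := by
      have h3 : u₂ ^ M₂ * (s - e) = (u₁ ^ M₁ * e + u₂ ^ M₂ * (s - e)) - u₁ ^ M₁ * e := by ring
      rw [h3]
      exact P.sub_mem hu (P.mul_mem_left _ heP)
    rcases hP.mem_or_mem h4 with h5 | h5
    · exact h2 (hP.mem_of_pow_mem _ h5)
    · exact hse h5
  · -- u₁ ∉ P
    have hseP : s - e ∈ P := by
      rcases hP.mem_or_mem (hle hF1) with h5 | h5
      · exact h5
      · exact absurd (hP.mem_of_pow_mem _ h5) h1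
    have heP : e ∉ P := by
      intro h
      apply hsP
      have h3 : s = (s - e) + e := by ring
      rw [h3]
      exact P.add_mem hseP h
    intro hu
    have h4 : u₁ ^ M₁ * e ∈ P := by
      have h3 : u₁ ^ M₁ * e = (u₁ ^ M₁ * e + u₂ ^ M₂ * (s - e)) - u₂ ^ M₂ * (s - e) := by ring
      rw [h3]
      exact P.sub_mem hu (P.mul_mem_left _ hseP)
    rcases hP.mem_or_mem h4 with h5 | h5
    · exact h1 (hP.mem_of_pow_mem _ h5)
    · exact heP h5

theorem key (ψ : B →+* B') (hψ : ψ.IsIntegral) (p : Ideal B) [hp : p.IsPrime] {𝔘 : Set B'}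
    (h𝔘 : Good 𝔘) (hspan : Ideal.span 𝔘 = ⊤) :
    ∃ u ∈ 𝔘, ∀ P : Ideal B', P.IsPrime → P.comap ψ = p → u ∉ P := by
  classical
  have h1 : (1 : B') ∈ Ideal.span 𝔘 := by rw [hspan]; trivial
  obtain ⟨T, hT, h1T⟩ := Submodule.mem_span_finite_of_mem_span h1
  have claim : ∀ T : Finset B', (↑T : Set B') ⊆ 𝔘 →
      ∃ u ∈ 𝔘, ∀ P : Ideal B', P.IsPrime → P.comap ψ = p → (∃ k ∈ T, k ∉ P) → u ∉ P := by
    intro T
    induction T using Finset.induction_on with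
    | empty =>
      intro _
      exact ⟨0, h𝔘.zero, fun P _ _ h => by obtain ⟨k, hk, _⟩ := h; simp at hk⟩
    | insert a T ha ih =>
      intro hsub
      obtain ⟨u', hu', hu'P⟩ := ih (fun x hx => hsub (by simp [Finset.mem_coe.mp hx]))
      have haU : a ∈ 𝔘 := hsub (by simp)
      obtain ⟨u, hu, huP⟩ := step ψ hψ p h𝔘 a u' haU hu'
      refine ⟨u, hu, fun P hP hPp hk => huP P hP hPp ?_⟩
      obtain ⟨k, hk, hkP⟩ := hk
      rcases Finset.mem_insert.mp hk with rfl | hk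
      · exact Or.inl hkP
      · exact Or.inr (hu'P P hP hPp ⟨k, hk, hkP⟩)
  obtain ⟨u, hu, huP⟩ := claim T hT
  refine ⟨u, hu, fun P hP hPp => huP P hP hPp ?_⟩
  by_contra hcon
  push Not at hcon
  have : Ideal.span (↑T : Set B') ≤ P := Ideal.span_le.mpr (fun k hk => hcon k (Finset.mem_coe.mp hk))
  exact hP.ne_top ((Ideal.eq_top_iff_one _).mpr (this h1T))

end Groth.Agent.Lead.IntAvoid
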