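import Groth.Agent.Lead.Glue2
import Mathlib
open CategoryTheory Limits AlgebraicGeometry

namespace Groth.Agent.Lead.IntExt
open Groth.Agent.Lead.Glue2
universe u

/-- a commutative square with empty corner and empty pullback is a pullback -/
lemma isPullback_of_isEmpty {P X Y Z : Scheme.{u}} (fst : P ⟶ X) (snd : P ⟶ Y) (f : X ⟶ Z)
    (g : Y ⟶ Z) (w : fst ≫ f = snd ≫ g) [IsEmpty (pullback f g : Scheme.{u})] : IsPullback fst snd f g := by
  have : IsIso (pullback.lift fst snd w) := inferInstance
  exact .of_iso_pullback ⟨w⟩ (asIso (pullback.lift _ _ w)) (pullback.lift_fst _ _ _)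
    (pullback.lift_snd _ _ _)

set_option backward.isDefEq.respectTransparency false in
/-- extension of a surjective integral morphism over a retrocompact open -/
theorem exists_integral_extension {S V : Scheme.{u}} (U : S.Opens) [QuasiCompact U.ι]
    (v : V ⟶ (U : Scheme.{u})) [IsIntegralHom v] [Surjective v] :
    ∃ (V' : Scheme.{u}) (π : V' ⟶ S) (i : V ⟶ V'), Surjective π ∧ IsIntegralHom π ∧
      IsPullback i v π U.ι := by
  let f : V ⟶ S := v ≫ U.ι
  have hfqc : QuasiCompact f := inferInstance
  have hfqs : QuasiSeparated f := inferInstance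
  let N := f.normalization
  let t : V ⟶ N := f.toNormalization
  let π₀ : N ⟶ S := f.fromNormalization
  have htπ : t ≫ π₀ = f := f.toNormalization_fromNormalization
  -- the complement
  let Zc : TopologicalSpace.Closeds S := ⟨(U : Set S)ᶜ, U.2.isClosed_compl⟩
  let J := Scheme.IdealSheafData.vanishingIdeal Zc
  let z : J.subscheme ⟶ S := J.subschemeι
  have hz : Set.range z = (U : Set S)ᶜ := by
    rw [Scheme.IdealSheafData.range_subschemeι, Scheme.IdealSheafData.coe_support_vanishingIdeal]
    rfl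
  -- key pullback
  let s := pullback.snd f U.ι
  have hs : pullback.fst f U.ι ≫ v = s := by
    rw [← cancel_mono U.ι, Category.assoc]
    exact pullback.condition
  have hiso : IsIso (pullback.fst f U.ι) := by
    refine ⟨pullback.lift (𝟙 V) v (by simp [f]), ?_, by simp⟩
    apply pullback.hom_ext
    · simp
    · simp [hs, s]
  have hsint : IsIntegralHom s := by rw [← hs]; infer_instance
  let θ : V ⟶ pullback π₀ U.ι :=
    inv (pullback.fst f U.ι) ≫ s.toNormalization ≫ f.normalizationPullback U.ι
  have hθ1 : θ ≫ pullback.fst π₀ U.ι = t := by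
    simp only [θ, Category.assoc]
    rw [f.toNormalization_normalizationPullback_fst U.ι]
    simp [t]
  have hθ2 : θ ≫ pullback.snd π₀ U.ι = v := by
    simp only [θ, Category.assoc]
    rw [f.normalizationPullback_snd U.ι, s.toNormalization_fromNormalization,
      IsIso.inv_comp_eq, hs]
  have key : IsPullback t v π₀ U.ι :=
    IsPullback.of_iso_pullback ⟨by rw [htπ]⟩ (asIso θ) hθ1 hθ2
  -- the extension
  let π : N ⨿ J.subscheme ⟶ S := coprod.desc π₀ z
  let i : V ⟶ N ⨿ J.subscheme := t ≫ coprod.inl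
  have hcov : ∀ y : ↑(N ⨿ J.subscheme), y ∈ Set.range (coprod.inl : N ⟶ N ⨿ J.subscheme) ∨
      y ∈ Set.range (coprod.inr : J.subscheme ⟶ N ⨿ J.subscheme) := by
    intro y
    obtain ⟨(x | x), rfl⟩ := (coprodMk N J.subscheme).surjective y
    · left; exact ⟨x, (coprodMk_inl _ _ x).symm⟩
    · right; exact ⟨x, (coprodMk_inr _ _ x).symm⟩
  refine ⟨N ⨿ J.subscheme, π, i, ⟨fun x ↦ ?_⟩, inferInstance, ?_⟩
  · by_cases hx : x ∈ U
    · obtain ⟨y, hy⟩ := Surjective.surj (f := v) ⟨x, hx⟩
      refine ⟨(coprod.inl : N ⟶ N ⨿ J.subscheme) (t y), ?_⟩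
      rw [← Scheme.Hom.comp_apply, coprod.inl_desc, ← Scheme.Hom.comp_apply, htπ,
        Scheme.Hom.comp_apply, hy]
      rfl
    · have : x ∈ Set.range z := by rw [hz]; exact hx
      obtain ⟨y, rfl⟩ := this
      refine ⟨(coprod.inr : J.subscheme ⟶ N ⨿ J.subscheme) y, ?_⟩
      rw [← Scheme.Hom.comp_apply, coprod.inr_desc]
  · refine Scheme.isPullback_of_openCover i v π U.ι
      (cover2 (coprod.inl : N ⟶ N ⨿ J.subscheme) (coprod.inr : J.subscheme ⟶ N ⨿ J.subscheme) hcov) ?_
    rintro (_ | _)
    · change IsPullback (pullback.snd i coprod.inr) (pullback.fst i coprod.inr ≫ v)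
        (coprod.inr ≫ π) U.ι
      have hπz : (coprod.inr : J.subscheme ⟶ N ⨿ J.subscheme) ≫ π = z := coprod.inr_desc _ _
      rw [hπz]
      have : IsEmpty (pullback z U.ι : Scheme.{u}) := by
        refine ⟨fun p ↦ ?_⟩
        have h1 : (pullback.fst z U.ι ≫ z) p ∈ Set.range z := ⟨pullback.fst z U.ι p, rfl⟩
        rw [hz, pullback.condition] at h1
        exact h1 ((pullback.snd z U.ι p).2)
      refine isPullback_of_isEmpty _ _ _ _ ?_
      rw [← hπz, ← pullback.condition_assoc, Category.assoc]
      simp only [i, π, Category.assoc, coprod.inl_desc]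
      rw [htπ]
    · change IsPullback (pullback.snd i coprod.inl) (pullback.fst i coprod.inl ≫ v)
        (coprod.inl ≫ π) U.ι
      have hπ₀ : (coprod.inl : N ⟶ N ⨿ J.subscheme) ≫ π = π₀ := coprod.inl_desc _ _
      rw [hπ₀]
      have pV : IsPullback t (𝟙 V) (coprod.inl : N ⟶ N ⨿ J.subscheme) i :=
        IsOpenImmersion.isPullback t (𝟙 V) coprod.inl i (by simp [i]) (by
          rw [Scheme.Hom.opensRange_of_isIso (𝟙 V), eq_top_iff]
          intro x _
          exact ⟨t x, by simp [i]⟩)
      refine IsPullback.of_iso key pV.flip.isoPullback (Iso.refl _) (Iso.refl _) (Iso.refl _)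
        ?_ ?_ ?_ ?_
      · simp
      · simp
      · simp
      · simp

end Groth.Agent.Lead.IntExt
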