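import Groth.Agent.S0046
import Groth.Agent.S2515
import Groth.Agent.Lead.FlatPull
import Groth.Agent.Lead.StalkPull
import Groth.Agent.Helper4.QcohLimits
import Groth.Agent.Helper4.QcohGlue
import Mathlib

/-!
# Lead: `F ∩ f_* G` is coherent for fpqc `f`
-/

set_option autoImplicit false
open CategoryTheory AlgebraicGeometry Opposite TopologicalSpace
universe u

namespace Groth.Agent.Lead.InterPush
open Scheme.Modules Groth.Agent.Helper4

theorem main {X Y : Scheme.{u}} (f : Y ⟶ X) [QuasiCompact f] [QuasiSeparated f] [Flat f]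
    [Surjective f] [IsLocallyNoetherian X] [IsLocallyNoetherian Y] (F : X.Modules)
    (hF : Coh.IsQCoh F) (G : Y.Modules) (hG : Coh.IsCoh G)
    (φ : G ⟶ (Scheme.Modules.pullback f).obj F) [Mono φ] :
    Coh.IsCoh (Limits.pullback ((Scheme.Modules.pullbackPushforwardAdjunction f).unit.app F)
      ((Scheme.Modules.pushforward f).map φ)) := by
  haveI : F.IsQuasicoherent := hF
  haveI : G.IsQuasicoherent := hG.1
  haveI q1 : ((Scheme.Modules.pullback f).obj F).IsQuasicoherent :=
    Groth.Agent.Lead.StalkPull.isQuasicoherent_pullbackObj f F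
  haveI q2 : ((Scheme.Modules.pushforward f).obj G).IsQuasicoherent :=
    QcohGlue.isQuasicoherent_pushforward f G
  haveI q3 : ((Scheme.Modules.pushforward f).obj ((Scheme.Modules.pullback f).obj F)).IsQuasicoherent :=
    QcohGlue.isQuasicoherent_pushforward f _
  haveI q3' : ((Scheme.Modules.pullback f ⋙ Scheme.Modules.pushforward f).obj F).IsQuasicoherent := q3
  haveI q0 : ((𝟭 X.Modules).obj F).IsQuasicoherent := hF
  let adj := Scheme.Modules.pullbackPushforwardAdjunction f
  have hP : (Limits.pullback (adj.unit.app F)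
      ((Scheme.Modules.pushforward f).map φ)).IsQuasicoherent :=
    QcohLimits.isQuasicoherent_pullback _ _
  apply Groth.Agent.S2515.result f _ hP
  haveI := hP
  -- the comparison map `f^*P ⟶ G`
  let P := Limits.pullback (adj.unit.app F) ((Scheme.Modules.pushforward f).map φ)
  let ψ : (Scheme.Modules.pullback f).obj P ⟶ G :=
    (adj.homEquiv P G).symm (Limits.pullback.snd _ _)
  have hψ : ψ ≫ φ = (Scheme.Modules.pullback f).map (Limits.pullback.fst _ _) := by
    apply (adj.homEquiv _ _).injective
    rw [Adjunction.homEquiv_naturality_right, Equiv.apply_symm_apply, Adjunction.homEquiv_unit]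
    have h1 := adj.unit.naturality (Limits.pullback.fst (adj.unit.app F)
      ((Scheme.Modules.pushforward f).map φ))
    simp only [Functor.id_map, Functor.comp_map] at h1
    rw [← h1]
    exact Limits.pullback.condition.symm
  haveI : Mono ((Scheme.Modules.pushforward f).map φ) := inferInstance
  haveI m1 : Mono (Limits.pullback.fst (adj.unit.app F) ((Scheme.Modules.pushforward f).map φ)) :=
    inferInstance
  haveI m2 : Mono ((Scheme.Modules.pullback f).map
      (Limits.pullback.fst (adj.unit.app F) ((Scheme.Modules.pushforward f).map φ))) :=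
    Groth.Agent.Lead.FlatPull.mono_pullback_of_flat f _
  haveI : Mono (ψ ≫ φ) := by rw [hψ]; exact m2
  haveI : Mono ψ := mono_of_mono ψ φ
  exact Groth.Agent.S0046.result Y G ((Scheme.Modules.pullback f).obj P) ψ hG
    (Groth.Agent.Lead.StalkPull.isQuasicoherent_pullbackObj f P)

end Groth.Agent.Lead.InterPush
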