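import Mathlib
import Groth.Agent.Helper9.InvAlg

/-!
# Invariants of a finite group of invertible order: flatness, finite type, finite presentation
-/

set_option autoImplicit false
set_option linter.style.haveILetI false
set_option linter.unusedSectionVars false

namespace Groth.Agent.Lead.InvFP

universe u v

section Alg

variable (R C A : Type u) [CommRing R] [CommRing C] [CommRing A] [Algebra R C] [Algebra C A]
  [Algebra R A] [IsScalarTower R C A]
  (G : Type v) [Group G] [Fintype G] [MulSemiringAction G A] [SMulCommClass G C A]

/-- The unnormalised trace `a ↦ ∑ g, g • a`, a `C`-linear map. -/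
noncomputable def tr : A →ₗ[C] A := ∑ g : G, DistribSMul.toLinearMap C A g

theorem tr_apply (a : A) : tr C A G a = ∑ g : G, g • a := by
  unfold tr
  rw [LinearMap.sum_apply]
  rfl

theorem smul_tr (h : G) (a : A) : h • tr C A G a = tr C A G a := by
  rw [tr_apply, Finset.smul_sum]
  refine Fintype.sum_equiv (Equiv.mulLeft h) _ _ (fun g => ?_)
  rw [Equiv.coe_mulLeft, mul_smul]

theorem tr_algebraMap (c : C) :
    tr C A G (algebraMap C A c) = (Fintype.card G : ℕ) • algebraMap C A c := by
  rw [tr_apply]
  simp only [smul_algebraMap, Finset.sum_const, Finset.card_univ]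

variable {R}

/-- The Reynolds operator. -/
noncomputable def rey (u : R) : A →ₗ[C] A := (algebraMap R C u) • tr C A G

theorem smul_rey (u : R) (h : G) (a : A) : h • rey C A G u a = rey C A G u a := by
  unfold rey
  rw [LinearMap.smul_apply, smul_comm, smul_tr]

theorem rey_algebraMap (u : R) (hu : u * ((Fintype.card G : ℕ) : R) = 1) (c : C) :
    rey C A G u (algebraMap C A c) = algebraMap C A c := by
  unfold rey
  have h : algebraMap C A (algebraMap R C u) * ((Fintype.card G : ℕ) : A) = 1 := by
    rw [← map_natCast (algebraMap C A), ← map_natCast (algebraMap R C), ← RingHom.map_mul,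
      ← RingHom.map_mul, hu, map_one, map_one]
  rw [LinearMap.smul_apply, tr_algebraMap, Algebra.smul_def, nsmul_eq_mul, ← mul_assoc, h,
    one_mul]

variable [Algebra.IsInvariant C A G]

theorem exists_eq_rey (u : R) (a : A) : ∃ c : C, algebraMap C A c = rey C A G u a :=
  Algebra.IsInvariant.isInvariant (A := C) (G := G) _ (fun g => smul_rey C A G u g a)

/-- The retraction `A → C` of the inclusion of invariants. -/
noncomputable def ret (hinj : Function.Injective (algebraMap C A)) (u : R) : A →ₗ[C] C where
  toFun a := (exists_eq_rey C A G u a).choose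
  map_add' a b := hinj (by
    have h1 := (exists_eq_rey C A G u (a + b)).choose_spec
    have h2 := (exists_eq_rey C A G u a).choose_spec
    have h3 := (exists_eq_rey C A G u b).choose_spec
    rw [h1, RingHom.map_add, h2, h3, LinearMap.map_add])
  map_smul' c a := hinj (by
    have h1 := (exists_eq_rey C A G u (c • a)).choose_spec
    have h2 := (exists_eq_rey C A G u a).choose_spec
    rw [h1, RingHom.id_apply, smul_eq_mul, RingHom.map_mul, h2, LinearMap.map_smul,
      Algebra.smul_def])

theorem algebraMap_ret (hinj : Function.Injective (algebraMap C A)) (u : R) (a : A) :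
    algebraMap C A (ret C A G hinj u a) = rey C A G u a :=
  (exists_eq_rey C A G u a).choose_spec

theorem ret_algebraMap (hinj : Function.Injective (algebraMap C A)) (u : R)
    (hu : u * ((Fintype.card G : ℕ) : R) = 1) (c : C) :
    ret C A G hinj u (algebraMap C A c) = c :=
  hinj (by rw [algebraMap_ret, rey_algebraMap C A G u hu])

theorem ret_surjective (hinj : Function.Injective (algebraMap C A)) (u : R)
    (hu : u * ((Fintype.card G : ℕ) : R) = 1) : Function.Surjective (ret C A G hinj u) :=
  fun c => ⟨_, ret_algebraMap C A G hinj u hu c⟩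

variable (R)

/-- Flatness descends to the invariants. -/
theorem flat (hinj : Function.Injective (algebraMap C A)) (u : R)
    (hu : u * ((Fintype.card G : ℕ) : R) = 1) [Module.Flat R A] : Module.Flat R C := by
  refine Module.Flat.of_retract (M := A) ((Algebra.linearMap C A).restrictScalars R)
    ((ret C A G hinj u).restrictScalars R) ?_
  ext c
  exact ret_algebraMap C A G hinj u hu c

/-- Finite type descends to the invariants. -/
theorem finiteType (hinj : Function.Injective (algebraMap C A)) (u : R)
    (hu : u * ((Fintype.card G : ℕ) : R) = 1) [Algebra.FiniteType R A] :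
    Algebra.FiniteType R C := by
  haveI : Algebra.IsIntegral C A := Algebra.IsInvariant.isIntegral C A G
  haveI : Algebra.FiniteType C A := Algebra.FiniteType.of_restrictScalars_finiteType R C A
  haveI : Module.Finite C A := Algebra.IsIntegral.finite
  obtain ⟨C₀, hC₀, hfin⟩ := exists_subalgebra_of_fg R C A Algebra.FiniteType.out
    Module.Finite.fg_top
  haveI : Module.Finite C₀ A := ⟨hfin⟩
  have hsurj : Function.Surjective ((ret C A G hinj u).restrictScalars C₀) :=
    ret_surjective C A G hinj u hu
  haveI : Module.Finite C₀ C := Module.Finite.of_surjective _ hsurj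
  haveI : Algebra.FiniteType R C₀ := (Subalgebra.fg_iff_finiteType C₀).mp hC₀
  haveI : Algebra.FiniteType C₀ C := inferInstance
  exact Algebra.FiniteType.trans (R := R) (S := C₀) (A := C) inferInstance inferInstance

/-- Finite presentation descends to the invariants. -/
theorem finitePresentation (hinj : Function.Injective (algebraMap C A)) (u : R)
    (hu : u * ((Fintype.card G : ℕ) : R) = 1) [Algebra.FinitePresentation R A] :
    Algebra.FinitePresentation R C := by
  haveI : Algebra.FiniteType R C := finiteType R C A G hinj u hu
  obtain ⟨n, f, hf⟩ := Algebra.FiniteType.iff_quotient_mvPolynomial''.mp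
    (inferInstance : Algebra.FiniteType R C)
  letI : Algebra (MvPolynomial (Fin n) R) C := f.toRingHom.toAlgebra
  letI : Algebra (MvPolynomial (Fin n) R) A :=
    ((algebraMap C A).comp f.toRingHom).toAlgebra
  haveI : IsScalarTower (MvPolynomial (Fin n) R) C A := IsScalarTower.of_algebraMap_eq' rfl
  haveI : IsScalarTower R (MvPolynomial (Fin n) R) C :=
    IsScalarTower.of_algebraMap_eq' f.comp_algebraMap.symm
  haveI : IsScalarTower R (MvPolynomial (Fin n) R) A := by
    refine IsScalarTower.of_algebraMap_eq' ?_
    ext r
    change algebraMap R A r = algebraMap C A (f (algebraMap R _ r))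
    rw [f.commutes, ← IsScalarTower.algebraMap_apply]
  haveI : Algebra.FinitePresentation (MvPolynomial (Fin n) R) A :=
    Algebra.FinitePresentation.of_restrict_scalars_finitePresentation R _ A
  haveI : Algebra.IsIntegral C A := Algebra.IsInvariant.isIntegral C A G
  haveI : Algebra.FiniteType C A := Algebra.FiniteType.of_restrictScalars_finiteType R C A
  haveI : Module.Finite C A := Algebra.IsIntegral.finite
  haveI : Module.Finite (MvPolynomial (Fin n) R) C :=
    Module.Finite.of_surjective (Algebra.linearMap (MvPolynomial (Fin n) R) C) hf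
  haveI : Module.Finite (MvPolynomial (Fin n) R) A := Module.Finite.trans C A
  haveI : Module.FinitePresentation (MvPolynomial (Fin n) R) A :=
    Module.FinitePresentation.of_finite_of_finitePresentation _ _
  -- `C` is a retract of `A`
  let i : C →ₗ[MvPolynomial (Fin n) R] A :=
    (Algebra.linearMap C A).restrictScalars (MvPolynomial (Fin n) R)
  let r : A →ₗ[MvPolynomial (Fin n) R] C :=
    (ret C A G hinj u).restrictScalars (MvPolynomial (Fin n) R)
  have hri : ∀ c, r (i c) = c := fun c => ret_algebraMap C A G hinj u hu c
  have hker : LinearMap.ker r = LinearMap.range (LinearMap.id - i ∘ₗ r) := by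
    ext x
    constructor
    · intro hx
      refine ⟨x, ?_⟩
      rw [LinearMap.sub_apply, LinearMap.id_apply, LinearMap.comp_apply,
        LinearMap.mem_ker.mp hx, map_zero, sub_zero]
    · rintro ⟨y, rfl⟩
      rw [LinearMap.mem_ker, LinearMap.sub_apply, LinearMap.id_apply, LinearMap.comp_apply,
        map_sub, hri, sub_self]
  haveI : Module.FinitePresentation (MvPolynomial (Fin n) R) C := by
    refine Module.finitePresentation_of_surjective r (ret_surjective C A G hinj u hu) ?_
    rw [hker]
    exact Submodule.fg_range _
  have hk : (LinearMap.ker (Algebra.linearMap (MvPolynomial (Fin n) R) C)).FG :=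
    Module.FinitePresentation.fg_ker _ hf
  refine Algebra.FinitePresentation.of_surjective (f := f) hf ?_
  have e : RingHom.ker f.toRingHom =
      LinearMap.ker (Algebra.linearMap (MvPolynomial (Fin n) R) C) := by
    ext x
    rw [RingHom.mem_ker, LinearMap.mem_ker]
    rfl
  rw [e]
  exact hk

end Alg

section RingHom

variable {R C A : Type u} [CommRing R] [CommRing C] [CommRing A] {G : Type v} [Group G] [Finite G]

/-- Ring-hom form: `φ : C → A` is the inclusion of the invariants of an (anti-)action `α`
of `G` on `A`, `χ : R → C`, and `|G|` is invertible in `R`. -/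
theorem ringHom_main (χ : R →+* C) (φ : C →+* A) (hinj : Function.Injective φ)
    (α : G → A →+* A) (h1 : α 1 = RingHom.id A)
    (hmul : ∀ g h : G, α (g * h) = (α h).comp (α g))
    (hrange : ∀ a : A, a ∈ Set.range φ ↔ ∀ g : G, α g a = a)
    (hN : IsUnit ((Nat.card G : ℕ) : R)) :
    ((φ.comp χ).Flat → χ.Flat) ∧ ((φ.comp χ).FiniteType → χ.FiniteType) ∧
      ((φ.comp χ).FinitePresentation → χ.FinitePresentation ∧ φ.FinitePresentation) := by
  letI : Algebra R C := χ.toAlgebra
  letI : Algebra C A := φ.toAlgebra
  letI : Algebra R A := (φ.comp χ).toAlgebra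
  haveI : IsScalarTower R C A := IsScalarTower.of_algebraMap_eq' rfl
  letI : MulSemiringAction G A := Groth.Agent.Helper9.InvAlg.actOf α h1 hmul
  have hsm : ∀ (g : G) (b : A), g • b = α g⁻¹ b := fun g b => rfl
  haveI : SMulCommClass G C A := ⟨fun g a b => by
    rw [Algebra.smul_def, Algebra.smul_def, hsm, hsm, map_mul]
    congr 1
    exact (hrange _).mp ⟨a, rfl⟩ g⁻¹⟩
  haveI : Algebra.IsInvariant C A G := ⟨fun b hb => (hrange b).mpr (fun g => by
    have := hb g⁻¹
    rwa [hsm, _root_.inv_inv] at this)⟩
  letI : Fintype G := Fintype.ofFinite G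
  obtain ⟨u, hu⟩ : ∃ u : R, u * ((Fintype.card G : ℕ) : R) = 1 := by
    rw [← Nat.card_eq_fintype_card]
    exact ⟨_, hN.val_inv_mul⟩
  refine ⟨fun h => ?_, fun h => ?_, fun h => ?_⟩
  · haveI : Module.Flat R A := h
    exact flat R C A G hinj u hu
  · haveI : Algebra.FiniteType R A := h
    exact finiteType R C A G hinj u hu
  · haveI : Algebra.FinitePresentation R A := h
    have h2 : Algebra.FinitePresentation R C := finitePresentation R C A G hinj u hu
    refine ⟨h2, ?_⟩
    haveI := h2
    exact RingHom.FinitePresentation.of_comp_finiteType χ h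
      (RingHom.FiniteType.of_finitePresentation h2)

end RingHom

end Groth.Agent.Lead.InvFP
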