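import Mathlib
import Groth.Prelude.Def_SGA1
import Groth.Agent.Helper9.QuotAff
import Groth.Agent.Lead.InvFPA

/-!
# Quotients of proper schemes by finite groups of invertible order
-/

set_option autoImplicit false
set_option linter.style.haveILetI false

namespace Groth.Agent.Lead.InvFP

open CategoryTheory CategoryTheory.Limits AlgebraicGeometry Topology

universe u

variable {X Y Z : Scheme.{u}} {G : Type u} [Group G] [Finite G] {ρ : G →* Aut X} {p : X ⟶ Y}

theorem isOpenMap (hp : SGA1.IsQuot ρ p) : IsOpenMap p.base := by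
  intro W hW
  have hq := Groth.Agent.Helper9.FinQuot.isQuotientMap hp
  rw [← hq.isOpen_preimage]
  have : p.base ⁻¹' (p.base '' W) = ⋃ g : G, (ρ g).hom.base '' W := by
    ext x
    simp only [Set.mem_preimage, Set.mem_image, Set.mem_iUnion]
    constructor
    · rintro ⟨w, hw, hwx⟩
      obtain ⟨g, hg⟩ := Groth.Agent.Helper9.FinQuot.orbit hp w x hwx
      exact ⟨g, w, hw, hg⟩
    · rintro ⟨g, w, hw, rfl⟩
      exact ⟨w, hw, (congrArg (fun k : X ⟶ Y => k.base w) (hp.inv g)).symm⟩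
  rw [this]
  exact isOpen_iUnion fun g => (ρ g).hom.isOpenEmbedding.isOpenMap W hW

theorem local_main (hp : SGA1.IsQuot ρ p) (q : Y ⟶ Z)
    (hN : IsUnit ((Nat.card G : ℕ) : Γ(Z, ⊤)))
    (U : Z.affineOpens) (V : Y.affineOpens) (e : V.1 ≤ q ⁻¹ᵁ U.1) :
    ∃ e' : p ⁻¹ᵁ V.1 ≤ (p ≫ q) ⁻¹ᵁ U.1,
    (((p ≫ q).appLE U.1 (p ⁻¹ᵁ V.1) e').hom.Flat → (q.appLE U.1 V.1 e).hom.Flat) ∧
    (((p ≫ q).appLE U.1 (p ⁻¹ᵁ V.1) e').hom.FiniteType → (q.appLE U.1 V.1 e).hom.FiniteType) ∧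
    (((p ≫ q).appLE U.1 (p ⁻¹ᵁ V.1) e').hom.FinitePresentation →
      (q.appLE U.1 V.1 e).hom.FinitePresentation ∧ (p.app V.1).hom.FinitePresentation) := by
  have e' : p ⁻¹ᵁ V.1 ≤ (p ≫ q) ⁻¹ᵁ U.1 := fun x hx => e hx
  refine ⟨e', ?_⟩
  have hcomp : (p ≫ q).appLE U.1 (p ⁻¹ᵁ V.1) e' = q.appLE U.1 V.1 e ≫ p.app V.1 := by
    rw [Scheme.Hom.app_eq_appLE, Scheme.Hom.appLE_comp_appLE]
  have hN' : IsUnit ((Nat.card G : ℕ) : Γ(Z, U.1)) := by
    have := hN.map (Z.presheaf.map (homOfLE (le_top : U.1 ≤ ⊤)).op).hom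
    rwa [map_natCast] at this
  have key := ringHom_main (q.appLE U.1 V.1 e).hom (p.app V.1).hom (hp.injective V.1)
    (Groth.Agent.Helper9.FinQuot.α ρ p hp.inv V.1)
    (Groth.Agent.Helper9.FinQuot.α_one ρ p hp.inv V.1)
    (Groth.Agent.Helper9.FinQuot.α_mul ρ p hp.inv V.1) (hp.range_iff V.1) hN'
  rw [hcomp]
  exact key

theorem main {S : Scheme.{u}} (f : X ⟶ S) [IsProper f] (π : X ⟶ Y) (q : Y ⟶ S) (hπ : π ≫ q = f)
    (hquot : SGA1.IsQuot ρ π) :
    (Surjective π ∧ IsFinite π ∧ IsOpenMap π ∧ IsClosedMap π) ∧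
      (IsUnit ((Nat.card G : ℕ) : Γ(S, ⊤)) →
        (Flat f → Flat q) ∧ IsSeparated q ∧
        (LocallyOfFinitePresentation f →
          IsProper q ∧ LocallyOfFinitePresentation q ∧ LocallyOfFinitePresentation π)) := by
  subst hπ
  haveI := hquot.affine
  have hsurj : Function.Surjective π.base := Groth.Agent.Helper9.FinQuot.surjective hquot
  haveI : Surjective π := ⟨hsurj⟩
  haveI : IsFinite π :=
    Groth.Agent.Helper9.QuotAff.isFinite_of_locallyOfFiniteType hquot (π ≫ q) q rfl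
  have hsep : IsSeparated q :=
    (Groth.Agent.Helper9.QuotAff.isSeparated_iff hquot (π ≫ q) q rfl).mp inferInstance
  refine ⟨⟨inferInstance, inferInstance, isOpenMap hquot, π.isClosedMap⟩,
    fun hN => ⟨fun hfl => ?_, hsep, fun hfp => ?_⟩⟩
  · rw [HasRingHomProperty.iff_appLE (P := @Flat)]
    intro U V e
    obtain ⟨e', h1, -, -⟩ := local_main hquot q hN U V e
    exact h1 (HasRingHomProperty.appLE (P := @Flat) (π ≫ q) hfl U ⟨_, V.2.preimage π⟩ e')
  · have hq : LocallyOfFinitePresentation q := by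
      rw [HasRingHomProperty.iff_appLE (P := @LocallyOfFinitePresentation)]
      intro U V e
      obtain ⟨e', -, -, h3⟩ := local_main hquot q hN U V e
      exact (h3 (HasRingHomProperty.appLE (P := @LocallyOfFinitePresentation) (π ≫ q) hfp U
        ⟨_, V.2.preimage π⟩ e')).1
    have hπfp : LocallyOfFinitePresentation π := by
      rw [HasRingHomProperty.iff_exists_appLE (P := @LocallyOfFinitePresentation)
        (RingHom.finitePresentation_stableUnderComposition.stableUnderCompositionWithLocalizationAway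
          RingHom.finitePresentation_holdsForLocalizationAway).left]
      intro x
      obtain ⟨_, ⟨U, hU, rfl⟩, hxU, -⟩ := S.isBasis_affineOpens.exists_subset_of_mem_open
        (Set.mem_univ ((π ≫ q).base x)) isOpen_univ
      obtain ⟨_, ⟨V, hV, rfl⟩, hxV, hVU⟩ := Y.isBasis_affineOpens.exists_subset_of_mem_open
        (show π.base x ∈ ((q ⁻¹ᵁ U : Y.Opens) : Set Y) from hxU) (q ⁻¹ᵁ U).2
      refine ⟨⟨V, hV⟩, ⟨π ⁻¹ᵁ V, hV.preimage π⟩, hxV, le_rfl, ?_⟩
      obtain ⟨e', -, -, h3⟩ := local_main hquot q hN ⟨U, hU⟩ ⟨V, hV⟩ hVU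
      have := (h3 (HasRingHomProperty.appLE (P := @LocallyOfFinitePresentation) (π ≫ q) hfp
        ⟨U, hU⟩ ⟨_, hV.preimage π⟩ e')).2
      rwa [Scheme.Hom.app_eq_appLE] at this
    refine ⟨?_, hq, hπfp⟩
    haveI := hq
    haveI := hsep
    haveI : UniversallyClosed q := UniversallyClosed.of_comp_surjective π q
    exact {}

end Groth.Agent.Lead.InvFP
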