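import Groth.Agent.Helper4.QcohLocal
import Groth.Agent.Helper4.QcqsMod
import Groth.Agent.Helper4.FinLocFree
import Groth.Agent.Helper4.QcohEpi
import Groth.Agent.Helper4.StalkExact
import Groth.Agent.Helper4.QcohLimits
import Groth.Agent.Lead.AssClos
import Mathlib

set_option autoImplicit false
set_option linter.unusedSectionVars false
set_option linter.style.haveILetI false
universe u

open CategoryTheory CategoryTheory.Limits AlgebraicGeometry Opposite TopologicalSpace

namespace Groth.Agent.Lead.InvMapDich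

open Groth.Agent.Helper4 Groth.Agent.Helper4.QcohLocal Groth.Agent.Helper4.QcqsMod
  Groth.Agent.Helper4.StalkDict

section Alg
variable {R M N : Type u} [CommRing R] [IsDomain R] [AddCommGroup M] [AddCommGroup N]
  [Module R M] [Module R N]

omit [IsDomain R] in
theorem eq_repr_smul (a : Module.Basis (Fin 1) R M) (m : M) : m = (a.repr m 0) • a 0 := by
  conv_lhs => rw [← a.sum_repr m]
  simp

theorem zero_or_injective (a : Module.Basis (Fin 1) R M) (b : Module.Basis (Fin 1) R N)
    (g : M →+ N) (hg : ∀ (r : R) (m : M), g (r • m) = r • g m) :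
    (∀ m, g m = 0) ∨ Function.Injective g := by
  by_cases hρ : b.repr (g (a 0)) 0 = 0
  · left
    intro m
    have hga : g (a 0) = 0 := by
      rw [eq_repr_smul b (g (a 0)), hρ, zero_smul]
    rw [eq_repr_smul a m, hg, hga, smul_zero]
  · right
    rw [injective_iff_map_eq_zero]
    intro m hm
    have h1 : a.repr m 0 * b.repr (g (a 0)) 0 = 0 := by
      have h2 : b.repr (g m) 0 = 0 := by rw [hm, LinearEquiv.map_zero, Finsupp.zero_apply]
      rw [eq_repr_smul a m, hg, map_smul] at h2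
      simpa using h2
    have h2 : a.repr m 0 = 0 := (mul_eq_zero.mp h1).resolve_right hρ
    rw [eq_repr_smul a m, h2, zero_smul]

theorem eq_zero_of_smul_eq_zero (b : Module.Basis (Fin 1) R N) (s : R) (hs : s ≠ 0) (n : N)
    (h : s • n = 0) : n = 0 := by
  have h1 : s * b.repr n 0 = 0 := by
    have h2 : b.repr (s • n) 0 = 0 := by rw [h, LinearEquiv.map_zero, Finsupp.zero_apply]
    rw [map_smul] at h2
    simpa using h2
  rw [eq_repr_smul b n, (mul_eq_zero.mp h1).resolve_left hs, zero_smul]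

end Alg

section Sheaf
variable {X : Scheme.{u}} [IsIntegral X] {A B : X.Modules} [A.IsQuasicoherent]
  [B.IsQuasicoherent] (c : A ⟶ B)

omit [IsIntegral X] in
theorem exists_good (hA : FlatMod.IsFinLocFreeOfRank 1 A) (hB : FlatMod.IsFinLocFreeOfRank 1 B)
    (x : X) :
    ∃ U : X.Opens, IsAffineOpen U ∧ x ∈ U ∧
      Nonempty (Module.Basis (Fin 1) Γ(X, U) Γ(A, U)) ∧
      Nonempty (Module.Basis (Fin 1) Γ(X, U) Γ(B, U)) := by
  obtain ⟨UA, hxA, eA⟩ := hA x
  obtain ⟨UB, hxB, eB⟩ := hB x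
  obtain ⟨_, ⟨U, hU : IsAffineOpen U, rfl⟩, hxU, hUle⟩ :=
    X.isBasis_affineOpens.exists_subset_of_mem_open
      (show x ∈ ((UA ⊓ UB : X.Opens) : Set X) from ⟨hxA, hxB⟩) (UA ⊓ UB).isOpen
  have hfA : FinLocFree.IsFreeAlong A UA.ι 1 := eA
  have hfB : FinLocFree.IsFreeAlong B UB.ι 1 := eB
  exact ⟨U, hU, hxU,
    (FinLocFree.isFreeAlong_ι_iff_basis hU A).mp (hfA.of_le (fun y hy => (hUle hy).1)),
    (FinLocFree.isFreeAlong_ι_iff_basis hU B).mp (hfB.of_le (fun y hy => (hUle hy).2))⟩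

theorem app_zero_or_injective {U : X.Opens} [Nonempty U]
    (a : Module.Basis (Fin 1) Γ(X, U) Γ(A, U)) (b : Module.Basis (Fin 1) Γ(X, U) Γ(B, U)) :
    (∀ m : Γ(A, U), c.app U m = 0) ∨ Function.Injective (c.app U) := by
  haveI : IsDomain Γ(X, U) := inferInstance
  exact zero_or_injective a b (c.app U).hom (fun r m => Scheme.Modules.Hom.app_smul c r m)

theorem germ_generic_injective {U : X.Opens} (hU : IsAffineOpen U) (hη : genericPoint X ∈ U)
    (b : Module.Basis (Fin 1) Γ(X, U) Γ(B, U)) (n : Γ(B, U))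
    (h : B.presheaf.germ U (genericPoint X) hη n = 0) : n = 0 := by
  haveI : Nonempty U := ⟨⟨_, hη⟩⟩
  haveI : IsDomain Γ(X, U) := inferInstance
  letI := sectionModStalk B (genericPoint X) hη
  haveI := isLocalizedModule_germ_of_isLocalizingOn B hU (isLocalizingOn_of_isAffineOpen B hU)
    (genericPoint X) hη
  have h1 := (IsLocalizedModule.eq_zero_iff (hU.primeIdealOf ⟨_, hη⟩).asIdeal.primeCompl
    (germLin B (genericPoint X) hη) (m := n)).mp (by rw [germLin_apply]; exact h)
  obtain ⟨s, hs⟩ := h1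
  have hs0 : (s : Γ(X, U)) ≠ 0 := fun h0 => s.2 (h0 ▸ Ideal.zero_mem _)
  exact eq_zero_of_smul_eq_zero b s hs0 n hs

omit [IsIntegral X] [A.IsQuasicoherent] in
theorem app_basicOpen_surjective {U : X.Opens} (hU : IsAffineOpen U)
    (a : Module.Basis (Fin 1) Γ(X, U) Γ(A, U)) (b : Module.Basis (Fin 1) Γ(X, U) Γ(B, U))
    (ρ : Γ(X, U)) (hρ : c.app U (a 0) = ρ • b 0) :
    Function.Surjective (c.app (X.basicOpen ρ)) := by
  intro t
  obtain ⟨n, m, hnm⟩ := (isLocalizingOn_of_isAffineOpen B hU).surj ρ t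
  have hu : IsUnit (X.presheaf.map (homOfLE (X.basicOpen_le ρ)).op ρ) :=
    X.toRingedSpace.isUnit_res_basicOpen ρ
  obtain ⟨u, hu'⟩ := hu
  have hb0 : B.presheaf.map (homOfLE (X.basicOpen_le ρ)).op (b 0) =
      (↑u⁻¹ : Γ(X, X.basicOpen ρ)) •
        c.app (X.basicOpen ρ) (A.presheaf.map (homOfLE (X.basicOpen_le ρ)).op (a 0)) := by
    rw [StalkExact.app_res, hρ, Scheme.Modules.map_smul, ← hu', smul_smul, Units.inv_mul,
      one_smul]
  have hm : m = (b.repr m 0) • b 0 := eq_repr_smul b m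
  have ht : t = (↑(u⁻¹ ^ n) : Γ(X, X.basicOpen ρ)) •
      B.presheaf.map (homOfLE (X.basicOpen_le ρ)).op m := by
    rw [← hnm, map_pow, ← hu', smul_smul, ← Units.val_pow_eq_pow_val, ← Units.val_mul,
      ← mul_pow, inv_mul_cancel, one_pow, Units.val_one, one_smul]
  refine ⟨((↑(u⁻¹ ^ n) : Γ(X, X.basicOpen ρ)) *
    X.presheaf.map (homOfLE (X.basicOpen_le ρ)).op (b.repr m 0) * ↑u⁻¹) •
      A.presheaf.map (homOfLE (X.basicOpen_le ρ)).op (a 0), ?_⟩
  rw [Scheme.Modules.Hom.app_smul, ht]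
  conv_rhs => rw [hm, Scheme.Modules.map_smul, hb0]
  rw [smul_smul, smul_smul, mul_assoc]

omit [IsIntegral X] in
theorem isZero_pullback_cokernel {W : X.Opens} (hW : IsAffineOpen W)
    (hsurj : ∀ W' : X.Opens, W' = W → Function.Surjective (c.app W')) :
    IsZero ((Scheme.Modules.pullback W.ι).obj (cokernel c)) := by
  haveI : (cokernel c).IsQuasicoherent := QcohLimits.isQuasicoherent_cokernel c
  refine IsZero.of_iso ?_ ((Scheme.Modules.restrictFunctorIsoPullback W.ι).app (cokernel c)).symm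
  rw [IsZero.iff_id_eq_zero]
  haveI : IsAffine (W : Scheme.{u}) := hW
  apply eq_zero_of_app_eq_zero_of_affine_cover
  intro x
  refine ⟨⊤, isAffineOpen_top _, trivial, ?_⟩
  intro m
  have hW' : IsAffineOpen (W.ι ''ᵁ ⊤) := by
    rw [Scheme.Opens.ι_image_top]; exact hW
  obtain ⟨t, ht⟩ := QcohEpi.app_surjective_of_epi (cokernel.π c) hW' m
  obtain ⟨s, hs⟩ := hsurj (W.ι ''ᵁ ⊤) (Scheme.Opens.ι_image_top W) t
  have h0 : (c ≫ cokernel.π c).app (W.ι ''ᵁ ⊤) s = 0 := by
    rw [cokernel.condition]; rfl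
  have h1 : (cokernel.π c).app (W.ι ''ᵁ ⊤) (c.app (W.ι ''ᵁ ⊤) s) = 0 := h0
  rw [hs, ht] at h1
  exact h1

/-- a morphism of invertible modules on an integral scheme is zero, or injective and generically
an isomorphism. -/
theorem main (hA : FlatMod.IsFinLocFreeOfRank 1 A) (hB : FlatMod.IsFinLocFreeOfRank 1 B) :
    c = 0 ∨ (Mono c ∧ ∃ U : X.Opens, (U : Set X).Nonempty ∧
      IsZero ((Scheme.Modules.pullback U.ι).obj (cokernel c))) := by
  have hηU : ∀ U : X.Opens, (U : Set X).Nonempty → genericPoint X ∈ U := fun U hU =>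
    ((genericPoint_spec X).mem_open_set_iff U.isOpen).mpr (by simpa using hU)
  have key : ∀ x : X, ∃ U : X.Opens, IsAffineOpen U ∧ x ∈ U ∧
      ∃ (a : Module.Basis (Fin 1) Γ(X, U) Γ(A, U)) (b : Module.Basis (Fin 1) Γ(X, U) Γ(B, U)),
        ((∀ t, StalkDict.stalkLin c (genericPoint X) t = 0) → ∀ m : Γ(A, U), c.app U m = 0) ∧
        ((¬ ∀ t, StalkDict.stalkLin c (genericPoint X) t = 0) →
          Function.Injective (c.app U)) := by
    intro x
    obtain ⟨U, hU, hxU, ⟨a⟩, ⟨b⟩⟩ := exists_good hA hB x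
    refine ⟨U, hU, hxU, a, b, ?_, ?_⟩
    · intro hP
      have hη := hηU U ⟨x, hxU⟩
      haveI : Nonempty U := ⟨⟨x, hxU⟩⟩
      haveI : IsDomain Γ(X, U) := inferInstance
      rcases app_zero_or_injective c a b with h0 | hinj
      · exact h0
      · exfalso
        have h1 : c.app U (a 0) = 0 := by
          apply germ_generic_injective hU hη b
          rw [← StalkExact.stalkLin_germ]
          exact hP _
        have h2 : a 0 = 0 := hinj (h1.trans (map_zero _).symm)
        exact a.ne_zero 0 h2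
    · intro hP
      haveI : Nonempty U := ⟨⟨x, hxU⟩⟩
      rcases app_zero_or_injective c a b with h0 | hinj
      · exfalso
        apply hP
        intro t
        exact stalkLin_eq_zero_of_app_eq_zero c hU (isLocalizingOn_of_isAffineOpen A hU) h0
          (genericPoint X) (hηU U ⟨x, hxU⟩) t
      · exact hinj
  by_cases hP : ∀ t, StalkDict.stalkLin c (genericPoint X) t = 0
  · left
    apply eq_zero_of_app_eq_zero_of_affine_cover
    intro x
    obtain ⟨U, hU, hxU, a, b, h1, -⟩ := key x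
    exact ⟨U, hU, hxU, h1 hP⟩
  · right
    refine ⟨mono_of_app_injective_of_affine_cover c (fun x => ?_), ?_⟩
    · obtain ⟨U, hU, hxU, a, b, -, h2⟩ := key x
      exact ⟨U, hU, hxU, h2 hP⟩
    · obtain ⟨U, hU, hxU, a, b, -, h2⟩ := key (genericPoint X)
      have hinj := h2 hP
      haveI : Nonempty U := ⟨⟨_, hxU⟩⟩
      haveI : IsDomain Γ(X, U) := inferInstance
      obtain ⟨ρ, hρdef⟩ : ∃ ρ, ρ = b.repr (c.app U (a 0)) 0 := ⟨_, rfl⟩
      have hρ : c.app U (a 0) = ρ • b 0 := by
        rw [hρdef]; exact eq_repr_smul b _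
      have hρ0 : ρ ≠ 0 := by
        intro h0
        rw [h0, zero_smul] at hρ
        exact a.ne_zero 0 (hinj (hρ.trans (map_zero _).symm))
      refine ⟨X.basicOpen ρ, ?_, ?_⟩
      · by_contra hne
        have hbot : X.basicOpen ρ = ⊥ := by
          ext y
          simp only [Opens.coe_bot, Set.mem_empty_iff_false, iff_false]
          exact fun hy => hne ⟨y, hy⟩
        exact hρ0 ((basicOpen_eq_bot_iff ρ).mp hbot)
      · apply isZero_pullback_cokernel c (hU.basicOpen ρ)
        rintro W' rfl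
        exact app_basicOpen_surjective c hU a b ρ hρ

end Sheaf

end Groth.Agent.Lead.InvMapDich
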