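import Groth.Agent.Lead.InvMapDich
import Groth.Agent.Lead.SmOmegaC
import Groth.Agent.Helper2.FinLocFreeLim
import Mathlib

set_option autoImplicit false
set_option linter.unusedSectionVars false
set_option linter.style.haveILetI false
universe u

open CategoryTheory CategoryTheory.Limits AlgebraicGeometry Opposite TopologicalSpace

namespace Groth.Agent.Lead.InvMapDichB

/-- the sheaf of differentials of a smooth irreducible scheme of dimension `n` over a field is
locally free of rank `n`. -/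
theorem isFinLocFreeOfRank_omega (k : Type u) [Field k] (n : ℕ) (X : Scheme.{u})
    (f : X ⟶ Spec (CommRingCat.of k)) [IrreducibleSpace ↥X] [Smooth f]
    (hn : topologicalKrullDim ↥X = (n : WithBot ℕ∞)) (Ω : X.Modules)
    (d : OmegaSh.Der f Ω) (hd : OmegaSh.IsUniversal d) : FlatMod.IsFinLocFreeOfRank n Ω := by
  intro x
  have hx : x ∈ f.smoothLocus := by rw [Scheme.Hom.smoothLocus_eq_top]; trivial
  obtain ⟨-, U, m, hxU, φ, hm⟩ := SmOmegaB.fwd f Ω d hd x hx
  have hmn : m = n := by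
    rw [SmOmegaC.fibreDimAt_eq_of_field k X f x, hn] at hm
    exact_mod_cast hm.symm
  subst hmn
  exact ⟨U, hxU, φ⟩

/-- S19535 -/
theorem s19535 (k : Type u) [Field k] {X Y : Scheme.{u}} (pX : X ⟶ Spec (CommRingCat.of k))
    (pY : Y ⟶ Spec (CommRingCat.of k)) (φ : X ⟶ Y) [IsIntegral X] [Smooth pX]
    (hdX : topologicalKrullDim X = 1) [IsIntegral Y] [Smooth pY]
    (hdY : topologicalKrullDim Y = 1) (ΩY : Y.Modules) (dY : OmegaSh.Der pY ΩY)
    (hY : OmegaSh.IsUniversal dY) (ΩX : X.Modules) (dX : OmegaSh.Der pX ΩX)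
    (hX : OmegaSh.IsUniversal dX) (c : (Scheme.Modules.pullback φ).obj ΩY ⟶ ΩX) :
    c = 0 ∨ (Mono c ∧ ∃ U : X.Opens, (U : Set X).Nonempty ∧
      IsZero ((Scheme.Modules.pullback U.ι).obj (cokernel c))) := by
  haveI := OmegaLocB.isQuasicoherent_of_isUniversal pX dX hX
  haveI := OmegaLocB.isQuasicoherent_of_isUniversal pY dY hY
  haveI := StalkPull.isQuasicoherent_pullbackObj φ ΩY
  have hΩX : FlatMod.IsFinLocFreeOfRank 1 ΩX :=
    isFinLocFreeOfRank_omega k 1 X pX (by exact_mod_cast hdX) ΩX dX hX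
  have hΩY : FlatMod.IsFinLocFreeOfRank 1 ΩY :=
    isFinLocFreeOfRank_omega k 1 Y pY (by exact_mod_cast hdY) ΩY dY hY
  exact InvMapDich.main c
    (Groth.Agent.Helper2.FinLocFreeLim.isFinLocFreeOfRank_pullback φ hΩY) hΩX

end Groth.Agent.Lead.InvMapDichB
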