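import Mathlib

set_option autoImplicit false
set_option linter.style.haveILetI false
set_option linter.unusedVariables false
set_option linter.unusedSectionVars false

open Cardinal

universe u

namespace Groth.Agent.Lead.JacCardA

/-- a field extension of dimension smaller than the cardinality of the base field is algebraic -/
theorem isAlgebraic_of_rank_lt (K L : Type u) [Field K] [Field L] [Algebra K L]
    (h : Module.rank K L < #K) : Algebra.IsAlgebraic K L := by
  by_contra hna
  rw [← Algebra.transcendental_iff_not_isAlgebraic] at hna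
  have h1 := Algebra.Transcendental.rank_eq_cardinalMk K L
  have h2 : #K ≤ #L := Cardinal.mk_le_of_injective (algebraMap K L).injective
  rw [h1] at h
  exact absurd (h.trans_le h2) (lt_irrefl _)

theorem rank_away_le {K C : Type u} [Field K] [CommRing C] [Algebra K C] (g : C)
    (C' : Type u) [CommRing C'] [Algebra C C'] [Algebra K C'] [IsScalarTower K C C']
    [IsLocalization.Away g C'] :
    Module.rank K C' ≤ ℵ₀ * Module.rank K C := by
  obtain ⟨inv, hinv⟩ : ∃ inv : C', algebraMap C C' g * inv = 1 :=
    ⟨_, (IsLocalization.Away.algebraMap_isUnit (S := C') g).mul_val_inv⟩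
  let ψ : C →ₗ[K] C' := (IsScalarTower.toAlgHom K C C').toLinearMap
  let φ : (ℕ →₀ C) →ₗ[K] C' :=
    Finsupp.lsum K (fun n => (LinearMap.mulLeft K (inv ^ n)).comp ψ)
  have hsurj : Function.Surjective φ := by
    intro z
    obtain ⟨⟨a, ⟨_, n, rfl⟩⟩, h⟩ := IsLocalization.surj (Submonoid.powers g) z
    refine ⟨Finsupp.single n a, ?_⟩
    have h' : z * algebraMap C C' g ^ n = algebraMap C C' a := by simpa using h
    have : φ (Finsupp.single n a) = inv ^ n * algebraMap C C' a := by
      simp [φ, ψ]
    rw [this, ← h']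
    have : inv ^ n * (z * algebraMap C C' g ^ n) = z * (algebraMap C C' g * inv) ^ n := by ring
    rw [this, hinv, one_pow, mul_one]
  have h1 := φ.rank_le_of_surjective hsurj
  rw [rank_finsupp] at h1
  simpa using h1

theorem main (K C : Type u) [Field K] [CommRing C] [Algebra K C]
    (h0 : ℵ₀ < #K) (h : Module.rank K C < #K) :
    IsJacobsonRing C ∧ ∀ (m : Ideal C) [m.IsMaximal], Algebra.IsAlgebraic K (C ⧸ m) := by
  have hquot : ∀ (I : Ideal C), Module.rank K (C ⧸ I) ≤ Module.rank K C := fun I =>
    (Ideal.Quotient.mkₐ K I).toLinearMap.rank_le_of_surjective Ideal.Quotient.mk_surjective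
  refine ⟨?_, ?_⟩
  · rw [isJacobsonRing_iff_prime_eq]
    intro P hP
    refine le_antisymm ?_ Ideal.le_jacobson
    intro f hf
    by_contra hfP
    -- the domain `D = C/P` and its localization at `g = [f]`
    have hg : (Ideal.Quotient.mk P f) ≠ 0 := by
      rwa [Ne, Ideal.Quotient.eq_zero_iff_mem]
    haveI : IsDomain (C ⧸ P) := Ideal.Quotient.isDomain P
    have hle : Submonoid.powers (Ideal.Quotient.mk P f) ≤ nonZeroDivisors (C ⧸ P) :=
      powers_le_nonZeroDivisors_of_noZeroDivisors hg
    haveI : Nontrivial (Localization.Away (Ideal.Quotient.mk P f)) :=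
      (IsLocalization.injective (Localization.Away (Ideal.Quotient.mk P f)) hle).nontrivial
    obtain ⟨n, hn⟩ := Ideal.exists_maximal (Localization.Away (Ideal.Quotient.mk P f))
    letI := Ideal.Quotient.field n
    have hr1 : Module.rank K (Localization.Away (Ideal.Quotient.mk P f)) ≤
        ℵ₀ * Module.rank K (C ⧸ P) := rank_away_le (Ideal.Quotient.mk P f) _
    have hr2 : Module.rank K (Localization.Away (Ideal.Quotient.mk P f) ⧸ n) ≤
        Module.rank K (Localization.Away (Ideal.Quotient.mk P f)) :=
      (Ideal.Quotient.mkₐ K n).toLinearMap.rank_le_of_surjective Ideal.Quotient.mk_surjective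
    have hr3 : ℵ₀ * Module.rank K (C ⧸ P) < #K :=
      Cardinal.mul_lt_of_lt h0.le h0 ((hquot P).trans_lt h)
    have halg : Algebra.IsAlgebraic K (Localization.Away (Ideal.Quotient.mk P f) ⧸ n) :=
      isAlgebraic_of_rank_lt K _ ((hr2.trans hr1).trans_lt hr3)
    let θ : C →ₐ[K] (Localization.Away (Ideal.Quotient.mk P f) ⧸ n) :=
      (Ideal.Quotient.mkₐ K n).comp
        ((IsScalarTower.toAlgHom K (C ⧸ P) (Localization.Away (Ideal.Quotient.mk P f))).comp
          (Ideal.Quotient.mkₐ K P))
    have hθ : ∀ c, θ c = Ideal.Quotient.mk n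
        (algebraMap (C ⧸ P) (Localization.Away (Ideal.Quotient.mk P f))
          (Ideal.Quotient.mk P c)) := fun c => rfl
    -- the kernel of θ is maximal
    have hmax : (RingHom.ker θ).IsMaximal := by
      apply Ideal.Quotient.maximal_of_isField
      haveI : (RingHom.ker θ).IsPrime := RingHom.ker_isPrime θ
      haveI : IsDomain (C ⧸ RingHom.ker θ) :=
        Ideal.Quotient.isDomain _
      haveI : Algebra.IsIntegral K (C ⧸ RingHom.ker θ) := by
        refine ⟨fun x => ?_⟩
        have h1 : IsIntegral K (Ideal.kerLiftAlg θ x) :=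
          (Algebra.IsAlgebraic.isAlgebraic (R := K) (Ideal.kerLiftAlg θ x)).isIntegral
        exact (isIntegral_algHom_iff (Ideal.kerLiftAlg θ) (Ideal.kerLiftAlg_injective θ)).mp h1
      exact isField_of_isIntegral_of_isField' (Field.toIsField K)
    have hPle : P ≤ RingHom.ker θ := by
      intro c hc
      rw [RingHom.mem_ker]
      change θ c = 0
      rw [hθ, Ideal.Quotient.eq_zero_iff_mem.mpr hc, map_zero, map_zero]
    have hfm : f ∈ RingHom.ker θ := by
      rw [Ideal.jacobson, Ideal.mem_sInf] at hf
      exact hf ⟨hPle, hmax⟩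
    rw [RingHom.mem_ker] at hfm
    change θ f = 0 at hfm
    rw [hθ, Ideal.Quotient.eq_zero_iff_mem] at hfm
    have hu : IsUnit (algebraMap (C ⧸ P) (Localization.Away (Ideal.Quotient.mk P f))
        (Ideal.Quotient.mk P f)) := IsLocalization.Away.algebraMap_isUnit _
    exact hn.ne_top (Ideal.eq_top_of_isUnit_mem _ hfm hu)
  · intro m hm
    letI := Ideal.Quotient.field m
    exact isAlgebraic_of_rank_lt K _ ((hquot m).trans_lt h)

end Groth.Agent.Lead.JacCardA
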