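import Groth.Agent.Lead.JacCardA
import Groth.Agent.Helper1.CechBC1
import Groth.Prelude.Def_Curv2

set_option autoImplicit false
set_option linter.style.haveILetI false
set_option linter.unusedVariables false
set_option linter.unusedSectionVars false

open Cardinal CategoryTheory Limits Opposite TopologicalSpace AlgebraicGeometry TensorProduct
open Groth.Agent.Helper1.TensSec Groth.Agent.Helper1.CechBC

universe u

namespace Groth.Agent.Lead.JacCardB

variable (k : Type u) [Field k] (X : Scheme.{u}) [X.Over (Spec (CommRingCat.of k))]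
  (K : Type u) [Field K] [Algebra k K]

/-- the `K`-scheme structure of the base change -/
noncomputable abbrev bcOver : (Curv2.bc k X K).Over (Spec (CommRingCat.of K)) :=
  ⟨Curv2.bcSnd k X K⟩

attribute [local instance] bcOver

theorem hsq : IsPullback (Curv2.bcFst k X K) (Curv2.bc k X K ↘ Spec (CommRingCat.of K))
    (X ↘ Spec (CommRingCat.of k)) (Spec.map (CommRingCat.ofHom (algebraMap k K))) :=
  IsPullback.of_hasPullback _ _

theorem rank_le (U : X.Opens) (hU : IsAffineOpen U) :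
    letI : Algebra K Γ(Curv2.bc k X K, Curv2.bcFst k X K ⁻¹ᵁ U) :=
      (ρV K (Curv2.bcFst k X K ⁻¹ᵁ U)).toAlgebra
    Module.rank K Γ(Curv2.bc k X K, Curv2.bcFst k X K ⁻¹ᵁ U) ≤ #Γ(X, U) := by
  have hpo := isPushout_sections k K (Curv2.bcFst k X K) (hsq k X K) U hU
  letI a1 : Algebra k Γ(X, U) := (ρV k U).toAlgebra
  letI a2 : Algebra K Γ(Curv2.bc k X K, Curv2.bcFst k X K ⁻¹ᵁ U) :=
    (ρV K (Curv2.bcFst k X K ⁻¹ᵁ U)).toAlgebra
  letI a3 : Algebra Γ(X, U) Γ(Curv2.bc k X K, Curv2.bcFst k X K ⁻¹ᵁ U) :=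
    ((Curv2.bcFst k X K).appLE U (Curv2.bcFst k X K ⁻¹ᵁ U) le_rfl).hom.toAlgebra
  letI a4 : Algebra k Γ(Curv2.bc k X K, Curv2.bcFst k X K ⁻¹ᵁ U) :=
    (((Curv2.bcFst k X K).appLE U (Curv2.bcFst k X K ⁻¹ᵁ U) le_rfl).hom.comp (ρV k U)).toAlgebra
  haveI : IsScalarTower k Γ(X, U) Γ(Curv2.bc k X K, Curv2.bcFst k X K ⁻¹ᵁ U) :=
    IsScalarTower.of_algebraMap_eq (fun _ => rfl)
  have hw : ∀ r, ((Curv2.bcFst k X K).appLE U (Curv2.bcFst k X K ⁻¹ᵁ U) le_rfl).hom (ρV k U r) =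
      ρV K (Curv2.bcFst k X K ⁻¹ᵁ U) (algebraMap k K r) := by
    intro r
    have := congrArg (fun φ => φ.hom r) hpo.w
    exact this
  haveI : IsScalarTower k K Γ(Curv2.bc k X K, Curv2.bcFst k X K ⁻¹ᵁ U) :=
    IsScalarTower.of_algebraMap_eq (fun r => hw r)
  have hP : Algebra.IsPushout k Γ(X, U) K Γ(Curv2.bc k X K, Curv2.bcFst k X K ⁻¹ᵁ U) :=
    CommRingCat.isPushout_iff_isPushout.mp hpo
  haveI : Algebra.IsPushout k K Γ(X, U) Γ(Curv2.bc k X K, Curv2.bcFst k X K ⁻¹ᵁ U) := hP.symm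
  have hbc : IsBaseChange K (IsScalarTower.toAlgHom k Γ(X, U)
      Γ(Curv2.bc k X K, Curv2.bcFst k X K ⁻¹ᵁ U)).toLinearMap := Algebra.IsPushout.out
  have e := hbc.equiv
  rw [← e.rank_eq, Module.rank_baseChange]
  simpa using rank_le_card (R := k) (M := Γ(X, U))

/-- Jacobson property and algebraicity, ring level, over the preimage of an affine open. -/
theorem ring_level (U : X.Opens) (hU : IsAffineOpen U) (h0 : ℵ₀ < #K) (hlt : #Γ(X, U) < #K) :
    IsJacobsonRing Γ(Curv2.bc k X K, Curv2.bcFst k X K ⁻¹ᵁ U) ∧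
      ∀ (m : Ideal Γ(Curv2.bc k X K, Curv2.bcFst k X K ⁻¹ᵁ U)) [m.IsMaximal]
        (c : Γ(Curv2.bc k X K, Curv2.bcFst k X K ⁻¹ᵁ U)),
        ∃ q : Polynomial K, q ≠ 0 ∧
          Polynomial.eval₂ (ρV K (Curv2.bcFst k X K ⁻¹ᵁ U)) c q ∈ m := by
  letI a2 : Algebra K Γ(Curv2.bc k X K, Curv2.bcFst k X K ⁻¹ᵁ U) :=
    (ρV K (Curv2.bcFst k X K ⁻¹ᵁ U)).toAlgebra
  obtain ⟨hJ, hA⟩ := Groth.Agent.Lead.JacCardA.main K
    Γ(Curv2.bc k X K, Curv2.bcFst k X K ⁻¹ᵁ U) h0 ((rank_le k X K U hU).trans_lt hlt)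
  refine ⟨hJ, fun m hm c => ?_⟩
  obtain ⟨q, hq0, hq⟩ := (hA m).isAlgebraic (Ideal.Quotient.mk m c)
  refine ⟨q, hq0, ?_⟩
  rw [← Ideal.Quotient.eq_zero_iff_mem, Polynomial.hom_eval₂]
  rw [Polynomial.aeval_def] at hq
  exact hq

theorem isAffineHom_fst : IsAffineHom (Curv2.bcFst k X K) :=
  isAffineHom_of_isPullback' k X K
where
  isAffineHom_of_isPullback' (k : Type u) [Field k] (X : Scheme.{u})
      [X.Over (Spec (CommRingCat.of k))] (K : Type u) [Field K] [Algebra k K] :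
      IsAffineHom (Curv2.bcFst k X K) :=
    MorphismProperty.of_isPullback (P := @IsAffineHom) (hsq k X K).flip inferInstance

theorem jacobsonSpace (h0 : ℵ₀ < #K) (hlt : ∀ U : X.affineOpens, #Γ(X, U.1) < #K) :
    JacobsonSpace ↥(Curv2.bc k X K) := by
  haveI := isAffineHom_fst k X K
  have hcov : TopologicalSpace.IsOpenCover
      (fun U : X.affineOpens => Curv2.bcFst k X K ⁻¹ᵁ U.1) := by
    rw [TopologicalSpace.IsOpenCover, ← Scheme.Hom.preimage_iSup, iSup_affineOpens_eq_top,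
      Scheme.Hom.preimage_top]
  rw [hcov.jacobsonSpace_iff]
  intro U
  have hV : IsAffineOpen (Curv2.bcFst k X K ⁻¹ᵁ U.1) := U.2.preimage _
  haveI : IsJacobsonRing Γ(Curv2.bc k X K, Curv2.bcFst k X K ⁻¹ᵁ U.1) :=
    (ring_level k X K U.1 U.2 h0 (hlt U)).1
  have := JacobsonSpace.of_isOpenEmbedding (hV.isoSpec.hom.isOpenEmbedding)
  exact this

attribute [local instance] Curv2.resAlgebra

theorem isAlgebraic_residueField (h0 : ℵ₀ < #K) (hlt : ∀ U : X.affineOpens, #Γ(X, U.1) < #K)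
    (x : ↥(Curv2.bc k X K)) (hx : IsClosed ({x} : Set ↥(Curv2.bc k X K))) :
    Algebra.IsAlgebraic K ((Curv2.bc k X K).residueField x) := by
  haveI := isAffineHom_fst k X K
  -- an affine open around the image of `x`
  obtain ⟨_, ⟨U, hU, rfl⟩, hxU, -⟩ := X.isBasis_affineOpens.exists_subset_of_mem_open
    (Set.mem_univ (Curv2.bcFst k X K x)) isOpen_univ
  have hxV : x ∈ Curv2.bcFst k X K ⁻¹ᵁ U := hxU
  have hV : IsAffineOpen (Curv2.bcFst k X K ⁻¹ᵁ U) := hU.preimage _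
  obtain ⟨-, hA⟩ := ring_level k X K U hU h0 (hlt ⟨U, hU⟩)
  have hmax : (hV.primeIdealOf ⟨x, hxV⟩).asIdeal.IsMaximal :=
    hV.primeIdealOf_isMaximal_of_isClosed ⟨x, hxV⟩ hx
  letI := (Curv2.bc k X K).presheaf.algebra_section_stalk
    (⟨x, hxV⟩ : ↥(Curv2.bcFst k X K ⁻¹ᵁ U))
  have hloc : IsLocalization.AtPrime ((Curv2.bc k X K).presheaf.stalk x)
      (hV.primeIdealOf ⟨x, hxV⟩).asIdeal := hV.isLocalization_stalk ⟨x, hxV⟩
  -- evaluation map
  obtain ⟨ev, hev⟩ : ∃ ev : Γ(Curv2.bc k X K, Curv2.bcFst k X K ⁻¹ᵁ U) →+*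
      (Curv2.bc k X K).residueField x,
      ev = ((Curv2.bc k X K).residue x).hom.comp
        ((Curv2.bc k X K).presheaf.germ (Curv2.bcFst k X K ⁻¹ᵁ U) x hxV).hom := ⟨_, rfl⟩
  have hevρ : ev.comp (ρV K (Curv2.bcFst k X K ⁻¹ᵁ U)) =
      algebraMap K ((Curv2.bc k X K).residueField x) := by
    ext c
    rw [hev]
    change ((Curv2.bc k X K).residue x).hom
      (((Curv2.bc k X K).presheaf.germ (Curv2.bcFst k X K ⁻¹ᵁ U) x hxV).hom
        (ρV K (Curv2.bcFst k X K ⁻¹ᵁ U) c)) =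
      ((Curv2.bc k X K).residue x).hom (((Curv2.bc k X K).presheaf.germ ⊤ x trivial).hom
        (Coh.toGlobal (Curv2.bc k X K ↘ Spec (CommRingCat.of K)) c))
    congr 1
    exact TopCat.Presheaf.germ_res_apply (Curv2.bc k X K).presheaf
      (homOfLE (le_top : Curv2.bcFst k X K ⁻¹ᵁ U ≤ ⊤)) x hxV _
  have hker : ∀ c, c ∈ (hV.primeIdealOf ⟨x, hxV⟩).asIdeal → ev c = 0 := by
    intro c hc
    rw [hev]
    change ((Curv2.bc k X K).residue x).hom
      (algebraMap _ ((Curv2.bc k X K).presheaf.stalk x) c) = 0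
    have h1 : algebraMap _ ((Curv2.bc k X K).presheaf.stalk x) c ∈
        IsLocalRing.maximalIdeal ((Curv2.bc k X K).presheaf.stalk x) :=
      (IsLocalization.AtPrime.to_map_mem_maximal_iff _
        (hV.primeIdealOf ⟨x, hxV⟩).asIdeal c).mpr hc
    exact (IsLocalRing.residue_eq_zero_iff _).mpr h1
  have hsurj : ∀ z : (Curv2.bc k X K).residueField x, ∃ c, ev c = z := by
    intro z
    obtain ⟨w, rfl⟩ : ∃ w, ((Curv2.bc k X K).residue x).hom w = z :=
      IsLocalRing.residue_surjective z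
    obtain ⟨⟨a, s⟩, has⟩ := IsLocalization.surj
      (hV.primeIdealOf ⟨x, hxV⟩).asIdeal.primeCompl w
    -- `s` is invertible modulo the maximal ideal
    obtain ⟨t, ht⟩ : ∃ t, (s : Γ(Curv2.bc k X K, Curv2.bcFst k X K ⁻¹ᵁ U)) * t - 1 ∈
        (hV.primeIdealOf ⟨x, hxV⟩).asIdeal := by
      obtain ⟨t, ht⟩ := Ideal.Quotient.exists_inv
        (I := (hV.primeIdealOf ⟨x, hxV⟩).asIdeal)
        (a := Ideal.Quotient.mk _ (s : Γ(Curv2.bc k X K, Curv2.bcFst k X K ⁻¹ᵁ U)))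
        (by rw [Ne, Ideal.Quotient.eq_zero_iff_mem]; exact s.2)
      obtain ⟨t', rfl⟩ := Ideal.Quotient.mk_surjective t
      refine ⟨t', ?_⟩
      rw [← Ideal.Quotient.eq_zero_iff_mem, map_sub, map_mul, map_one, ht, sub_self]
    refine ⟨a * t, ?_⟩
    have h1 := hker _ ht
    rw [map_sub, map_mul, map_one, sub_eq_zero] at h1
    have h2 : ((Curv2.bc k X K).residue x).hom w * ev s = ev a := by
      rw [hev]
      have := congrArg ((Curv2.bc k X K).residue x).hom has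
      rw [map_mul] at this
      exact this
    rw [map_mul, ← h2, mul_assoc, h1, mul_one]
  refine ⟨fun z => ?_⟩
  obtain ⟨c, rfl⟩ := hsurj z
  obtain ⟨q, hq0, hq⟩ := hA (hV.primeIdealOf ⟨x, hxV⟩).asIdeal c
  refine ⟨q, hq0, ?_⟩
  have := hker _ hq
  rw [Polynomial.hom_eval₂, hevρ] at this
  rw [Polynomial.aeval_def]
  exact this

theorem main :
    ∃ κ : Cardinal.{u}, ∀ (K : Type u) [Field K] [Algebra k K], κ ≤ Cardinal.mk K →
      JacobsonSpace ↥(Curv2.bc k X K) ∧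
        ∀ x : ↥(Curv2.bc k X K), IsClosed ({x} : Set ↥(Curv2.bc k X K)) →
          letI : (Curv2.bc k X K).Over (Spec (CommRingCat.of K)) := ⟨Curv2.bcSnd k X K⟩
          Algebra.IsAlgebraic K ((Curv2.bc k X K).residueField x) := by
  refine ⟨Order.succ (max ℵ₀ #(Σ U : X.affineOpens, Γ(X, U.1))), fun K _ _ hK => ?_⟩
  have h1 : max ℵ₀ #(Σ U : X.affineOpens, Γ(X, U.1)) < #K := Order.succ_le_iff.mp hK
  have h0 : ℵ₀ < #K := (le_max_left _ _).trans_lt h1
  have hlt : ∀ U : X.affineOpens, #Γ(X, U.1) < #K := by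
    intro U
    refine lt_of_le_of_lt ?_ ((le_max_right _ _).trans_lt h1)
    exact Cardinal.mk_le_of_injective (f := fun c => (⟨U, c⟩ : Σ U : X.affineOpens, Γ(X, U.1)))
      (fun a b h => by simpa using h)
  exact ⟨jacobsonSpace k X K h0 hlt, fun x hx => isAlgebraic_residueField k X K h0 hlt x hx⟩

end Groth.Agent.Lead.JacCardB
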