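import Mathlib
import Groth.Agent.Helper7.FittJac

set_option linter.style.haveILetI false
set_option linter.unusedSectionVars false
set_option autoImplicit false

namespace Groth.Agent.Lead.JacSm

open MvPolynomial Algebra TensorProduct KaehlerDifferential Groth.Agent.Helper7.FittLib

universe u

section Std

variable (A : Type u) [CommRing A] {N q : ℕ} (v : Fin q → MvPolynomial (Fin N) A)
  (e : Fin q → Fin N)

/-- the Jacobian minor -/
noncomputable def jac : MvPolynomial (Fin N) A :=
  (Matrix.of fun a b : Fin q => pderiv (e b) (v a)).det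

theorem naive_jacobian (he : Function.Injective e) :
    (PreSubmersivePresentation.naive (R := A) (v := v) e he).jacobian =
      Ideal.Quotient.mk (Ideal.span (Set.range v)) (jac A v e) := by
  rw [PreSubmersivePresentation.jacobian_eq_jacobiMatrix_det]
  have : (PreSubmersivePresentation.naive (R := A) (v := v) e he).jacobiMatrix =
      (Matrix.of fun a b : Fin q => pderiv (e b) (v a)).transpose := by
    ext i j
    rw [PreSubmersivePresentation.jacobiMatrix_naive]
    rfl
  rw [this, Matrix.det_transpose]
  rfl

theorem isStandardSmooth_away (he : Function.Injective e) (T : Type u) [CommRing T] [Algebra A T]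
    [Algebra (MvPolynomial (Fin N) A ⧸ Ideal.span (Set.range v)) T]
    [IsScalarTower A (MvPolynomial (Fin N) A ⧸ Ideal.span (Set.range v)) T]
    [IsLocalization.Away (Ideal.Quotient.mk (Ideal.span (Set.range v)) (jac A v e)) T] :
    Algebra.IsStandardSmoothOfRelativeDimension (N - q) A T := by
  let P₀ := PreSubmersivePresentation.naive (R := A) (v := v) e he
  let r := Ideal.Quotient.mk (Ideal.span (Set.range v)) (jac A v e)
  let Q₀ := PreSubmersivePresentation.localizationAway T r
  let PP := Q₀.comp P₀
  have hj : PP.jacobian = algebraMap _ T r * algebraMap _ T r := by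
    rw [PreSubmersivePresentation.comp_jacobian_eq_jacobian_smul_jacobian,
      PreSubmersivePresentation.localizationAway_jacobian, naive_jacobian A v e he, Algebra.smul_def]
  have hu : IsUnit PP.jacobian := by
    rw [hj]
    have := IsLocalization.Away.algebraMap_isUnit (S := T) r
    exact this.mul this
  let SP : SubmersivePresentation A T (Unit ⊕ Fin N) (Unit ⊕ Fin q) :=
    { toPreSubmersivePresentation := PP
      jacobian_isUnit := hu }
  refine SP.isStandardSmoothOfRelativeDimension ?_
  change PP.dimension = _
  rw [PreSubmersivePresentation.dimension_comp_eq_dimension_add_dimension]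
  have h1 : Q₀.dimension = 0 := Presentation.localizationAway_dimension_zero r
  rw [h1, zero_add]
  simp [Presentation.dimension]

end Std

section Gen
variable (A : Type u) [CommRing A] {σ : Type} [Fintype σ] {κ : Type*}
  (f : κ → MvPolynomial σ A) (B : Type u) [CommRing B] [Algebra A B]
  [Algebra (MvPolynomial σ A) B] [IsScalarTower A (MvPolynomial σ A) B]

local notation "P" => MvPolynomial σ A

/-- the basis `1 ⊗ dX_j` of `B ⊗_P Ω_{P/A}`. -/
noncomputable def jacBasis : Module.Basis σ B (B ⊗[P] Ω[P⁄A]) :=
  (KaehlerDifferential.mvPolynomialBasis A σ).baseChange B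

lemma jacBasis_repr_one_tmul_D (g : P) (j : σ) :
    (jacBasis A B).equivFun ((1 : B) ⊗ₜ[P] D A P g) j = algebraMap P B (MvPolynomial.pderiv j g) := by
  rw [Module.Basis.equivFun_apply, jacBasis, Module.Basis.baseChange_repr_tmul,
    KaehlerDifferential.mvPolynomialBasis_repr_apply, Algebra.smul_def, mul_one]

variable {B} in
lemma one_tmul_D_mem (hker : RingHom.ker (algebraMap P B) = Ideal.span (Set.range f))
    (g : P) (hg : g ∈ Ideal.span (Set.range f)) :
    (1 : B) ⊗ₜ[P] D A P g ∈ Submodule.span B (Set.range fun i => (1 : B) ⊗ₜ[P] D A P (f i)) := by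
  induction hg using Submodule.span_induction with
  | mem g hg =>
    obtain ⟨i, rfl⟩ := hg
    exact Submodule.subset_span ⟨i, rfl⟩
  | zero => simp
  | add g1 g2 _ _ h1 h2 =>
    rw [map_add, tmul_add]
    exact Submodule.add_mem _ h1 h2
  | smul h g hg ih =>
    rw [smul_eq_mul, Derivation.leibniz, tmul_add]
    refine Submodule.add_mem _ ?_ ?_
    · have : (1 : B) ⊗ₜ[P] (h • D A P g) = (algebraMap P B h) • ((1 : B) ⊗ₜ[P] D A P g) := by
        rw [TensorProduct.tmul_smul]
        exact (algebraMap_smul B h _).symm
      rw [this]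
      exact Submodule.smul_mem _ _ ih
    · have : (1 : B) ⊗ₜ[P] (g • D A P h) = 0 := by
        have h0 : algebraMap P B g = 0 := by
          have : g ∈ RingHom.ker (algebraMap P B) := by rw [hker]; exact hg
          exact this
        have h1 : g • ((1 : B) ⊗ₜ[P] D A P h) = algebraMap P B g • ((1 : B) ⊗ₜ[P] D A P h) :=
          (algebraMap_smul B g _).symm
        rw [TensorProduct.tmul_smul, h1, h0]
        exact zero_smul B ((1 : B) ⊗ₜ[P] D A P h)
      rw [this]
      exact Submodule.zero_mem _

/-- Fitting ideals of `Ω_{B/A}` for a presentation `P → B` with kernel `(f_κ)`. -/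
theorem fitt_kaehler (hsurj : Function.Surjective (algebraMap P B))
    (hker : RingHom.ker (algebraMap P B) = Ideal.span (Set.range f)) (r : ℕ) :
    Fitt.ideal B Ω[B⁄A] r =
      minors (Set.range fun i : κ => fun j : σ => algebraMap P B (MvPolynomial.pderiv j (f i)))
        (Fintype.card σ - r) := by
  have hW : Submodule.span B (Set.range fun i => (1 : B) ⊗ₜ[P] D A P (f i)) =
      LinearMap.ker (KaehlerDifferential.mapBaseChange A P B) := by
    apply le_antisymm
    · rw [Submodule.span_le]
      rintro _ ⟨i, rfl⟩
      rw [SetLike.mem_coe, LinearMap.mem_ker, KaehlerDifferential.mapBaseChange_tmul,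
        KaehlerDifferential.map_D]
      have : algebraMap P B (f i) = 0 := by
        have : f i ∈ RingHom.ker (algebraMap P B) := by
          rw [hker]; exact Ideal.subset_span ⟨i, rfl⟩
        exact this
      rw [this, map_zero, smul_zero]
    · intro t ht
      obtain ⟨y, rfl⟩ := (KaehlerDifferential.exact_kerCotangentToTensor_mapBaseChange A P B hsurj t).mp ht
      obtain ⟨⟨g, hg⟩, rfl⟩ := Ideal.toCotangent_surjective _ y
      rw [KaehlerDifferential.kerCotangentToTensor_toCotangent]
      apply one_tmul_D_mem A f hker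
      rwa [hker] at hg
  rw [fitt_of_surjective_basis (jacBasis A B) (KaehlerDifferential.mapBaseChange A P B)
    (KaehlerDifferential.mapBaseChange_surjective A P B hsurj) _ hW r]
  congr 1
  rw [← Set.range_comp]
  congr 1
  funext i j
  exact jacBasis_repr_one_tmul_D A B (f i) j

end Gen


section Main

theorem exists_stdSmooth_surj (A B : Type u) [CommRing A] [CommRing B] [Algebra A B]
    [Algebra.FinitePresentation A B] (p : ℕ) (𝔭 : Ideal B) [𝔭.IsPrime]
    (h : ¬ Fitt.ideal B Ω[B⁄A] p ≤ 𝔭) :
    ∃ (g : B) (_ : g ∉ 𝔭) (T : Type u) (_ : CommRing T) (_ : Algebra A T),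
      Algebra.IsStandardSmoothOfRelativeDimension p A T ∧
      ∀ (Bg : Type u) [CommRing Bg] [Algebra B Bg] [Algebra A Bg] [IsScalarTower A B Bg]
        [IsLocalization.Away g Bg], ∃ ψ : T →ₐ[A] Bg, Function.Surjective ψ := by
  obtain ⟨n, φ₀, hφ₀, -⟩ := Algebra.FinitePresentation.out (R := A) (A := B)
  let π : MvPolynomial (Fin (n + p)) A →ₐ[A] MvPolynomial (Fin n) A :=
    aeval (Fin.append (fun i => X i) (fun _ => 0))
  have hπ : Function.Surjective π := by
    intro x
    refine ⟨rename (Fin.castAdd p) x, ?_⟩
    change aeval _ (rename _ x) = x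
    rw [aeval_rename]
    have : (Fin.append (fun i => (X i : MvPolynomial (Fin n) A)) (fun _ : Fin p => 0)) ∘
        Fin.castAdd p = X := by
      funext i
      simp
    rw [this, aeval_X_left, AlgHom.id_apply]
  let φ : MvPolynomial (Fin (n + p)) A →ₐ[A] B := φ₀.comp π
  have hφ : Function.Surjective φ := hφ₀.comp hπ
  have hfg : (RingHom.ker φ.toRingHom).FG := Algebra.FinitePresentation.ker_fG_of_surjective φ hφ
  obtain ⟨s, hs⟩ := hfg
  letI algPB : Algebra (MvPolynomial (Fin (n + p)) A) B := φ.toRingHom.toAlgebra
  haveI : IsScalarTower A (MvPolynomial (Fin (n + p)) A) B :=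
    IsScalarTower.of_algebraMap_eq' φ.comp_algebraMap.symm
  let f : ↥s → MvPolynomial (Fin (n + p)) A := Subtype.val
  have hker : RingHom.ker (algebraMap (MvPolynomial (Fin (n + p)) A) B) =
      Ideal.span (Set.range f) := by
    rw [Subtype.range_coe]
    exact hs.symm
  have hF := fitt_kaehler A f B hφ hker p
  rw [hF, Fintype.card_fin, minors_le_iff] at h
  push Not at h
  obtain ⟨z, e, hz, hdet⟩ := h
  choose k hk using hz
  let v : Fin (n + p - p) → MvPolynomial (Fin (n + p)) A := fun a => f (k a)
  have he : Function.Injective e := by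
    by_contra hne
    rw [Function.not_injective_iff] at hne
    obtain ⟨b1, b2, hb, hne⟩ := hne
    apply hdet
    rw [Matrix.det_zero_of_column_eq hne]
    · exact 𝔭.zero_mem
    · intro a
      simp only [Matrix.of_apply]
      rw [hb]
  have hjac : φ (jac A v e) ∉ 𝔭 := by
    have : φ (jac A v e) = (Matrix.of fun a b => z a (e b)).det := by
      unfold jac
      rw [AlgHom.map_det]
      congr 1
      ext a b
      simp only [AlgHom.mapMatrix_apply, Matrix.map_apply, Matrix.of_apply]
      rw [← hk a]
      rfl
    rw [this]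
    exact hdet
  let J := Ideal.span (Set.range v)
  have hJ : ∀ a ∈ J, φ a = 0 := by
    intro a ha
    have h1 : J ≤ RingHom.ker φ.toRingHom := by
      rw [← hs, Ideal.span_le]
      rintro _ ⟨a, rfl⟩
      exact Ideal.subset_span (k a).2
    exact h1 ha
  let χ : (MvPolynomial (Fin (n + p)) A ⧸ J) →ₐ[A] B := Ideal.Quotient.liftₐ J φ hJ
  have hχ : Function.Surjective χ := by
    intro b
    obtain ⟨x, rfl⟩ := hφ b
    exact ⟨Ideal.Quotient.mk J x, rfl⟩
  let r : MvPolynomial (Fin (n + p)) A ⧸ J := Ideal.Quotient.mk J (jac A v e)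
  refine ⟨χ r, hjac, Localization.Away r, inferInstance, inferInstance, ?_, ?_⟩
  · have := isStandardSmooth_away A v e he (Localization.Away r)
    rwa [Nat.sub_sub_self (Nat.le_add_left p n)] at this
  · intro Bg _ _ _ _ _
    exact ⟨IsLocalization.Away.mapₐ (Localization.Away r) Bg χ r,
      IsLocalization.Away.mapₐ_surjective_of_surjective r hχ⟩

end Main


section Back

theorem fitt_eq_top_of_stdSmooth_surj (A T B : Type u) [CommRing A] [CommRing T] [CommRing B]
    [Algebra A T] [Algebra A B] [Algebra T B] [IsScalarTower A T B] (p : ℕ)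
    [Algebra.IsStandardSmoothOfRelativeDimension p A T]
    (hs : Function.Surjective (algebraMap T B)) : Fitt.ideal B Ω[B⁄A] p = ⊤ := by
  rcases subsingleton_or_nontrivial B with hB | hB
  · exact Subsingleton.elim _ _
  haveI : Nontrivial T := (algebraMap T B).domain_nontrivial
  haveI : Algebra.IsStandardSmooth A T :=
    Algebra.IsStandardSmoothOfRelativeDimension.isStandardSmooth p
  have hrank := Algebra.IsStandardSmoothOfRelativeDimension.rank_kaehlerDifferential
    (R := A) (S := T) p
  have hfr : Module.finrank T Ω[T⁄A] = p := by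
    rw [Module.finrank, hrank]
    simp
  let b := Module.finBasisOfFinrankEq T Ω[T⁄A] hfr
  let x : Fin p → Ω[B⁄A] := fun i => KaehlerDifferential.map A A T B (b i)
  have hx : Submodule.span B (Set.range x) = ⊤ := by
    rw [_root_.eq_top_iff]
    intro y hy
    clear hy
    obtain ⟨w, rfl⟩ := KaehlerDifferential.map_surjective_of_surjective A A T B hs y
    have hw : w ∈ Submodule.span T (Set.range b) := by rw [b.span_eq]; trivial
    induction hw using Submodule.span_induction with
    | mem w hw =>
      obtain ⟨i, rfl⟩ := hw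
      exact Submodule.subset_span ⟨i, rfl⟩
    | zero => rw [map_zero]; exact Submodule.zero_mem _
    | add w1 w2 _ _ h1 h2 => rw [map_add]; exact Submodule.add_mem _ h1 h2
    | smul t w _ ih =>
      rw [map_smul, ← algebraMap_smul B t]
      exact Submodule.smul_mem _ _ ih
  exact fitt_eq_top_of_le x hx (by simp)

end Back

end Groth.Agent.Lead.JacSm
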