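import Mathlib
import Groth.Agent.Lead.JacSm
import Groth.Agent.Helper7.Fitt18
import Groth.Agent.Helper3.KzCot

set_option linter.style.haveILetI false
set_option linter.unusedSectionVars false
set_option autoImplicit false

namespace Groth.Agent.Lead.JacSm3

open MvPolynomial Algebra TensorProduct KaehlerDifferential Groth.Agent.Helper7.FittLib
open Groth.Agent.Lead.JacSm

universe u

/-- (G): a presentation with exactly `N - m` relations and `Fitt_m Ω ⊄ 𝔭` is standard smooth of
relative dimension `m` near `𝔭`. -/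
theorem exists_stdSmooth_away (A B : Type u) [CommRing A] [CommRing B] [Algebra A B] (N m : ℕ)
    (hm : m ≤ N) (φ : MvPolynomial (Fin N) A →ₐ[A] B) (hφ : Function.Surjective φ)
    {κ : Type} [Fintype κ] (f : κ → MvPolynomial (Fin N) A)
    (hkerφ : RingHom.ker φ.toRingHom = Ideal.span (Set.range f))
    (hcard : Fintype.card κ = N - m) (𝔭 : Ideal B) [𝔭.IsPrime]
    (h : ¬ Fitt.ideal B Ω[B⁄A] m ≤ 𝔭) :
    ∃ g : B, g ∉ 𝔭 ∧ ∀ (Bg : Type u) [CommRing Bg] [Algebra B Bg] [Algebra A Bg]
      [IsScalarTower A B Bg] [IsLocalization.Away g Bg],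
      Algebra.IsStandardSmoothOfRelativeDimension m A Bg := by
  letI algPB : Algebra (MvPolynomial (Fin N) A) B := φ.toRingHom.toAlgebra
  haveI : IsScalarTower A (MvPolynomial (Fin N) A) B :=
    IsScalarTower.of_algebraMap_eq' φ.comp_algebraMap.symm
  have hker : RingHom.ker (algebraMap (MvPolynomial (Fin N) A) B) = Ideal.span (Set.range f) :=
    hkerφ
  have hF := fitt_kaehler A f B hφ hker m
  rw [hF, Fintype.card_fin, minors_le_iff] at h
  push Not at h
  obtain ⟨z, e, hz, hdet⟩ := h
  choose k hk using hz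
  have he : Function.Injective e := by
    by_contra hne
    rw [Function.not_injective_iff] at hne
    obtain ⟨b1, b2, hb, hne⟩ := hne
    apply hdet
    rw [Matrix.det_zero_of_column_eq hne]
    · exact 𝔭.zero_mem
    · intro a
      simp only [Matrix.of_apply]
      rw [hb]
  have hk_inj : Function.Injective k := by
    by_contra hne
    rw [Function.not_injective_iff] at hne
    obtain ⟨a1, a2, ha, hne⟩ := hne
    apply hdet
    rw [Matrix.det_zero_of_row_eq hne]
    · exact 𝔭.zero_mem
    · funext b
      simp only [Matrix.of_apply]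
      rw [← hk a1, ← hk a2, ha]
  have hk_surj : Function.Surjective k := by
    have : Function.Bijective k := by
      rw [Fintype.bijective_iff_injective_and_card]
      exact ⟨hk_inj, by rw [Fintype.card_fin, hcard]⟩
    exact this.2
  let v : Fin (N - m) → MvPolynomial (Fin N) A := fun a => f (k a)
  have hrange : Set.range v = Set.range f := by
    ext x
    constructor
    · rintro ⟨a, rfl⟩
      exact ⟨k a, rfl⟩
    · rintro ⟨i, rfl⟩
      obtain ⟨a, rfl⟩ := hk_surj i
      exact ⟨a, rfl⟩
  have hjac : φ (jac A v e) ∉ 𝔭 := by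
    have : φ (jac A v e) = (Matrix.of fun a b => z a (e b)).det := by
      unfold jac
      rw [AlgHom.map_det]
      congr 1
      ext a b
      simp only [AlgHom.mapMatrix_apply, Matrix.map_apply, Matrix.of_apply]
      rw [← hk a]
      rfl
    rw [this]
    exact hdet
  let J := Ideal.span (Set.range v)
  have hJker : J = RingHom.ker φ.toRingHom := by
    change Ideal.span (Set.range v) = _
    rw [hrange, hkerφ]
  have hJ : ∀ a ∈ J, φ a = 0 := by
    intro a ha
    rw [hJker] at ha
    exact ha
  let χ : (MvPolynomial (Fin N) A ⧸ J) →ₐ[A] B := Ideal.Quotient.liftₐ J φ hJ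
  have hχs : Function.Surjective χ := by
    intro b
    obtain ⟨x, rfl⟩ := hφ b
    exact ⟨Ideal.Quotient.mk J x, rfl⟩
  have hχi : Function.Injective χ := by
    rw [injective_iff_map_eq_zero]
    intro x hx
    obtain ⟨y, rfl⟩ := Ideal.Quotient.mk_surjective x
    rw [Ideal.Quotient.eq_zero_iff_mem, hJker]
    exact hx
  let r : MvPolynomial (Fin N) A ⧸ J := Ideal.Quotient.mk J (jac A v e)
  refine ⟨χ r, hjac, ?_⟩
  intro Bg _ _ _ _ _
  have hstd := isStandardSmooth_away A v e he (Localization.Away r)
  rw [Nat.sub_sub_self hm] at hstd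
  let ψ : Localization.Away r →ₐ[A] Bg := IsLocalization.Away.mapₐ (Localization.Away r) Bg χ r
  have hψ : Function.Bijective ψ :=
    ⟨IsLocalization.Away.mapₐ_injective_of_injective r hχi,
      IsLocalization.Away.mapₐ_surjective_of_surjective r hχs⟩
  exact Algebra.IsStandardSmoothOfRelativeDimension.of_algEquiv m (AlgEquiv.ofBijective ψ hψ)


/-- (L1): quotient of a standard smooth algebra of relative dimension `m + c` by `c` elements,
with `Fitt_m Ω ⊄ 𝔭`, is standard smooth of relative dimension `m` near `𝔭`. -/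
theorem exists_stdSmooth_away_of_quotient (A T B : Type u) [CommRing A] [CommRing T] [CommRing B]
    [Algebra A T] [Algebra A B] [Algebra T B] [IsScalarTower A T B] (m c : ℕ)
    [Algebra.IsStandardSmoothOfRelativeDimension (m + c) A T]
    (hs : Function.Surjective (algebraMap T B)) (r : Fin c → T)
    (hkerTB : RingHom.ker (algebraMap T B) = Ideal.span (Set.range r))
    (𝔭 : Ideal B) [𝔭.IsPrime] (h : ¬ Fitt.ideal B Ω[B⁄A] m ≤ 𝔭) :
    ∃ g : B, g ∉ 𝔭 ∧ ∀ (Bg : Type u) [CommRing Bg] [Algebra B Bg] [Algebra A Bg]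
      [IsScalarTower A B Bg] [IsLocalization.Away g Bg],
      Algebra.IsStandardSmoothOfRelativeDimension m A Bg := by
  obtain ⟨ι, σ, _, _, P₀, hP₀⟩ :=
    Algebra.IsStandardSmoothOfRelativeDimension.out (n := m + c) (R := A) (S := T)
  letI := Fintype.ofFinite ι
  letI := Fintype.ofFinite σ
  let P := P₀.reindex (Fintype.equivFin ι).symm (Fintype.equivFin σ).symm
  have hP : P.dimension = m + c := by
    rw [← hP₀]
    exact Presentation.dimension_reindex _ _ _
  have hle := PreSubmersivePresentation.card_relations_le_card_vars_of_isFinite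
    P.toPreSubmersivePresentation
  simp only [Presentation.dimension, Nat.card_eq_fintype_card, Fintype.card_fin] at hP hle
  set N := Fintype.card ι with hN
  set q := Fintype.card σ with hq
  let ψ : MvPolynomial (Fin N) A →ₐ[A] T := IsScalarTower.toAlgHom A P.Ring T
  have hψ : Function.Surjective ψ := P.algebraMap_surjective
  let φ : MvPolynomial (Fin N) A →ₐ[A] B := (IsScalarTower.toAlgHom A T B).comp ψ
  have hφ : Function.Surjective φ := hs.comp hψ
  let rt : Fin c → MvPolynomial (Fin N) A := fun j => P.σ (r j)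
  have hrt : ∀ j, ψ (rt j) = r j := by
    intro j
    change algebraMap P.Ring T (P.σ (r j)) = r j
    rw [P.algebraMap_apply, P.aeval_val_σ]
  let f : Fin q ⊕ Fin c → MvPolynomial (Fin N) A := Sum.elim P.relation rt
  have hkerψ : RingHom.ker ψ.toRingHom = Ideal.span (Set.range P.relation) :=
    P.span_range_relation_eq_ker.symm
  have hkerφ : RingHom.ker φ.toRingHom = Ideal.span (Set.range f) := by
    have hrange : Set.range f = Set.range P.relation ∪ Set.range rt := Set.Sum.elim_range _ _
    rw [hrange, Ideal.span_union]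
    apply le_antisymm
    · intro x hx
      have hx' : ψ x ∈ Ideal.span (Set.range r) := by
        rw [← hkerTB]
        exact hx
      have hmap : Ideal.span (Set.range r) = (Ideal.span (Set.range rt)).map ψ.toRingHom := by
        rw [Ideal.map_span, ← Set.range_comp]
        congr 2
        funext j
        exact (hrt j).symm
      rw [hmap] at hx'
      have hx'' : x ∈ ((Ideal.span (Set.range rt)).map ψ.toRingHom).comap ψ.toRingHom := hx'
      rw [Ideal.comap_map_of_surjective ψ.toRingHom hψ, ← RingHom.ker_eq_comap_bot, hkerψ] at hx''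
      rw [sup_comm]
      exact hx''
    · rw [sup_le_iff, Ideal.span_le, Ideal.span_le]
      constructor
      · rintro _ ⟨s, rfl⟩
        have h1 : P.relation s ∈ RingHom.ker ψ.toRingHom := by
          rw [hkerψ]
          exact Ideal.subset_span ⟨s, rfl⟩
        change algebraMap T B (ψ (P.relation s)) = 0
        have h2 : ψ (P.relation s) = 0 := h1
        rw [h2, map_zero]
      · rintro _ ⟨j, rfl⟩
        change algebraMap T B (ψ (rt j)) = 0
        rw [hrt j]
        have : r j ∈ RingHom.ker (algebraMap T B) := by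
          rw [hkerTB]
          exact Ideal.subset_span ⟨j, rfl⟩
        exact this
  have hcard : Fintype.card (Fin q ⊕ Fin c) = N - m := by
    rw [Fintype.card_sum, Fintype.card_fin, Fintype.card_fin]
    omega
  exact exists_stdSmooth_away A B N m (by omega) φ hφ f hkerφ hcard 𝔭 h


/-- (L2): a formally smooth quotient of a standard smooth algebra of relative dimension `m + c`
by a Koszul-regular sequence of length `c` has `Fitt_m Ω = ⊤`. -/
theorem fitt_eq_top_of_formallySmooth (A T B : Type u) [CommRing A] [CommRing T] [CommRing B]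
    [Algebra A T] [Algebra A B] [Algebra T B] [IsScalarTower A T B] (m c : ℕ)
    [Algebra.IsStandardSmoothOfRelativeDimension (m + c) A T]
    (hs : Function.Surjective (algebraMap T B)) (r : Fin c → T)
    (hkerTB : RingHom.ker (algebraMap T B) = Ideal.span (Set.range r))
    (hreg : LCI.IsKoszulRegularSeq T (List.ofFn r))
    [Algebra.FormallySmooth A B] : Fitt.ideal B Ω[B⁄A] m = ⊤ := by
  rcases subsingleton_or_nontrivial B with hB | hB
  · exact Subsingleton.elim _ _
  haveI : Nontrivial T := (algebraMap T B).domain_nontrivial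
  haveI : Algebra.IsStandardSmooth A T :=
    Algebra.IsStandardSmoothOfRelativeDimension.isStandardSmooth (m + c)
  haveI : Algebra.FiniteType A B := Algebra.FiniteType.of_surjective
    (IsScalarTower.toAlgHom A T B) hs
  set I := RingHom.ker (algebraMap T B) with hIdef
  have hI : I ≠ ⊤ := by
    intro h
    have : (1 : T) ∈ I := by rw [h]; trivial
    have h1 : algebraMap T B 1 = 0 := this
    rw [map_one] at h1
    exact one_ne_zero h1
  have hrI : ∀ j, r j ∈ I := by
    intro j
    rw [hkerTB]
    exact Ideal.subset_span ⟨j, rfl⟩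
  obtain ⟨b, hb⟩ := Groth.Agent.Helper3.KzCot.main hI c (fun j => ⟨r j, hrI j⟩) hreg hkerTB.symm
  obtain ⟨l, hl⟩ := (Algebra.FormallySmooth.iff_split_injection (R := A) hs).mp inferInstance
  let ε : (T ⧸ I) ≃+* B := RingHom.quotientKerEquivOfSurjective hs
  have hε : ∀ t : T, ε (Ideal.Quotient.mk I t) = algebraMap T B t :=
    fun t => RingHom.quotientKerEquivOfSurjective_apply_mk hs t
  let crd : I.Cotangent →ₗ[T] (Fin c → B) :=
    { toFun := fun y j => ε (b.equivFun y j)
      map_add' := fun y y' => by
        funext j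
        simp only [map_add, Pi.add_apply]
      map_smul' := fun t y => by
        funext j
        have h1 : t • y = (Ideal.Quotient.mk I t) • y := (algebraMap_smul (T ⧸ I) t y).symm
        simp only [RingHom.id_apply, Pi.smul_apply]
        rw [h1, map_smul, Pi.smul_apply, smul_eq_mul, map_mul, hε, Algebra.smul_def] }
  have hcrd_inj : ∀ y, crd y = 0 → y = 0 := by
    intro y hy
    apply b.equivFun.injective
    rw [map_zero]
    funext j
    have h0 : ε (b.equivFun y j) = 0 := congrFun hy j
    exact ε.injective (h0.trans (map_zero ε).symm)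
  have hcrd_surj : ∀ w : Fin c → B, ∃ y, crd y = w := by
    intro w
    refine ⟨b.equivFun.symm (fun j => ε.symm (w j)), ?_⟩
    funext j
    change ε (b.equivFun (b.equivFun.symm _) j) = w j
    rw [LinearEquiv.apply_symm_apply, RingEquiv.apply_symm_apply]
  let ΛT : B ⊗[T] Ω[T⁄A] →ₗ[T] (Fin c → B) := crd ∘ₗ l
  let Λ : B ⊗[T] Ω[T⁄A] →ₗ[B] (Fin c → B) := ΛT.extendScalarsOfSurjective hs
  have hΛ : ∀ y, Λ (kerCotangentToTensor A T B y) = crd y := by
    intro y
    change crd (l (kerCotangentToTensor A T B y)) = crd y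
    have := LinearMap.congr_fun hl y
    simp only [LinearMap.comp_apply, LinearMap.id_apply] at this
    rw [this]
  let g := KaehlerDifferential.mapBaseChange A T B
  have hg : Function.Surjective g := KaehlerDifferential.mapBaseChange_surjective A T B hs
  have hex := KaehlerDifferential.exact_kerCotangentToTensor_mapBaseChange A T B hs
  let E₀ : B ⊗[T] Ω[T⁄A] →ₗ[B] (Fin c → B) × Ω[B⁄A] := Λ.prod g
  have hE : Function.Bijective E₀ := by
    constructor
    · rw [injective_iff_map_eq_zero]
      intro x hx
      have h1 : Λ x = 0 := congrArg Prod.fst hx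
      have h2 : g x = 0 := congrArg Prod.snd hx
      obtain ⟨y, rfl⟩ := (hex x).mp h2
      rw [hΛ] at h1
      rw [hcrd_inj y h1, map_zero]
    · rintro ⟨v, ω⟩
      obtain ⟨x₀, hx₀⟩ := hg ω
      obtain ⟨y, hy⟩ := hcrd_surj (v - Λ x₀)
      refine ⟨x₀ + kerCotangentToTensor A T B y, ?_⟩
      have h3 : g (kerCotangentToTensor A T B y) = 0 := (hex _).mpr ⟨y, rfl⟩
      change (Λ (x₀ + _), g (x₀ + _)) = (v, ω)
      rw [map_add, map_add, hΛ, hy, h3, hx₀, add_zero, add_sub_cancel]
  let E : B ⊗[T] Ω[T⁄A] ≃ₗ[B] (Fin c → B) × Ω[B⁄A] := LinearEquiv.ofBijective E₀ hE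
  -- ranks
  have hrank := Algebra.IsStandardSmoothOfRelativeDimension.rank_kaehlerDifferential
    (R := A) (S := T) (m + c)
  have hfr : Module.finrank T Ω[T⁄A] = m + c := by
    rw [Module.finrank, hrank]
    simp
  let bT := Module.finBasisOfFinrankEq T Ω[T⁄A] hfr
  let bB : Module.Basis (Fin (m + c)) B (B ⊗[T] Ω[T⁄A]) := bT.baseChange B
  have h1 : Fitt.ideal B (B ⊗[T] Ω[T⁄A]) (m + c) = ⊤ := by
    rw [fitt_free bB (m + c), Fintype.card_fin, if_neg (lt_irrefl _)]
  rw [fitt_congr E (m + c), fitt_prod (Fin c → B) Ω[B⁄A] (m + c)] at h1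
  rw [_root_.eq_top_iff, ← h1]
  rw [Ideal.sum_eq_sup]
  apply Finset.sup_le
  intro k _
  by_cases hk : k < c
  · have h0 : Fitt.ideal B (Fin c → B) k = ⊥ := by
      rw [fitt_free (Pi.basisFun B (Fin c)) k, Fintype.card_fin, if_pos hk]
    rw [h0, Ideal.bot_mul]
    exact bot_le
  · have h2 : Fitt.ideal B Ω[B⁄A] (m + c - k) ≤ Fitt.ideal B Ω[B⁄A] m :=
      fitt_mono_index (R := B) (M := Ω[B⁄A]) (r := m + c - k) (r' := m) (by omega)
    first | exact le_trans Ideal.mul_le_left h2 | exact le_trans Ideal.mul_le_right h2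

end Groth.Agent.Lead.JacSm3
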