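import Groth.Agent.Lead.JacSm
import Groth.Agent.Lead.OmegaSecB
import Groth.Agent.Lead.FittSheafB
import Groth.Agent.Helper4.StalkDict
import Mathlib

/-!
# Lead: `Fitt_p Ω_{X/Y}` and local closed immersions into smooth schemes of relative dimension `p`
-/

set_option autoImplicit false
set_option linter.style.haveILetI false
open CategoryTheory CategoryTheory.Limits AlgebraicGeometry Opposite TopologicalSpace TensorProduct
universe u

namespace Groth.Agent.Lead.JacSmB
open Scheme.Modules Groth.Agent.Helper4 Groth.Agent.Helper7.FittLib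

variable {X Y : Scheme.{u}} (f : X ⟶ Y)

theorem smoothOfRelativeDimension_SpecMap (A T : Type u) [CommRing A] [CommRing T] [Algebra A T]
    (p : ℕ) [Algebra.IsStandardSmoothOfRelativeDimension p A T] :
    SmoothOfRelativeDimension p (Spec.map (CommRingCat.ofHom (algebraMap A T))) := by
  rw [HasRingHomProperty.Spec_iff (P := @SmoothOfRelativeDimension p)]
  apply RingHom.locally_of RingHom.isStandardSmoothOfRelativeDimension_respectsIso
  exact (RingHom.isStandardSmoothOfRelativeDimension_algebraMap p).mpr inferInstance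

theorem forward [LocallyOfFinitePresentation f] [QuasiSeparated f] (p : ℕ) (x : X)
    (hx : x ∉ (Fitt.sheafIdeal (Omega.sheaf f) p).support) :
    ∃ (U : X.Opens) (U' : Scheme.{u}) (i : (U : Scheme.{u}) ⟶ U') (g : U' ⟶ Y),
      x ∈ U ∧ IsClosedImmersion i ∧ SmoothOfRelativeDimension p g ∧ i ≫ g = U.ι ≫ f := by
  obtain ⟨U, V, hU, hV, hxU, e⟩ := OmegaSecB.exists_affine_pair f x
  letI algAB : Algebra Γ(Y, V) Γ(X, U) := (f.appLE V U e).hom.toAlgebra
  haveI : Algebra.FinitePresentation Γ(Y, V) Γ(X, U) :=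
    HasRingHomProperty.appLE (P := @LocallyOfFinitePresentation) f inferInstance ⟨V, hV⟩ ⟨U, hU⟩ e
  obtain ⟨ε, -⟩ := OmegaSecA.exists_sectionsEquiv f hU hV e
  have hft := OmegaSecB.isFiniteType_omega f
  rw [FittSheafB.mem_support_iff (Omega.sheaf f) hft p hU x hxU, fitt_congr ε p] at hx
  obtain ⟨g, hg, T, _, _, hT, hψ⟩ := JacSm.exists_stdSmooth_surj Γ(Y, V) Γ(X, U) p _ hx
  have hUt : IsAffineOpen (X.basicOpen g) := hU.basicOpen g
  have e' : X.basicOpen g ≤ f ⁻¹ᵁ V := (X.basicOpen_le g).trans e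
  letI algABg : Algebra Γ(Y, V) Γ(X, X.basicOpen g) := (f.appLE V (X.basicOpen g) e').hom.toAlgebra
  haveI : IsScalarTower Γ(Y, V) Γ(X, U) Γ(X, X.basicOpen g) := by
    apply IsScalarTower.of_algebraMap_eq'
    change (f.appLE V (X.basicOpen g) e').hom =
      (X.presheaf.map (homOfLE (X.basicOpen_le g)).op).hom.comp (f.appLE V U e).hom
    rw [← CommRingCat.hom_comp, Scheme.Hom.appLE_map]
  haveI := hU.isLocalization_basicOpen g
  obtain ⟨ψ, hψs⟩ := hψ Γ(X, X.basicOpen g)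
  haveI := smoothOfRelativeDimension_SpecMap Γ(Y, V) T p
  refine ⟨X.basicOpen g, Spec (CommRingCat.of T),
    hUt.isoSpec.hom ≫ Spec.map (CommRingCat.ofHom ψ.toRingHom),
    Spec.map (CommRingCat.ofHom (algebraMap Γ(Y, V) T)) ≫ hV.fromSpec, ?_, ?_, ?_, ?_⟩
  · exact (StalkDict.mem_basicOpen_iff_notMem_primeIdealOf hU x hxU g).mpr hg
  · haveI := IsClosedImmersion.spec_of_surjective (CommRingCat.ofHom ψ.toRingHom) hψs
    infer_instance
  · exact inferInstanceAs (SmoothOfRelativeDimension (p + 0) _)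
  · rw [Category.assoc, ← Spec.map_comp_assoc]
    have h1 : CommRingCat.ofHom (algebraMap Γ(Y, V) T) ≫ CommRingCat.ofHom ψ.toRingHom =
        f.appLE V (X.basicOpen g) e' := by
      ext a
      exact ψ.commutes a
    rw [h1, IsAffineOpen.SpecMap_appLE_fromSpec f hV hUt e', ← Category.assoc,
      IsAffineOpen.isoSpec_hom_fromSpec]


theorem appLE_congr {X Y : Scheme.{u}} {φ φ' : X ⟶ Y} (h : φ = φ') (V : Y.Opens) (W : X.Opens)
    (e : W ≤ φ ⁻¹ᵁ V) : φ.appLE V W e = φ'.appLE V W (h ▸ e) := by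
  subst h
  rfl

theorem backward [LocallyOfFinitePresentation f] [QuasiSeparated f] (p : ℕ) (x : X)
    (U : X.Opens) (U' : Scheme.{u}) (i : (U : Scheme.{u}) ⟶ U') (g : U' ⟶ Y)
    (hxU : x ∈ U) [IsClosedImmersion i] [SmoothOfRelativeDimension p g]
    (hcomm : i ≫ g = U.ι ≫ f) :
    x ∉ (Fitt.sheafIdeal (Omega.sheaf f) p).support := by
  let x₀ : (U : Scheme.{u}) := ⟨x, hxU⟩
  obtain ⟨V, hV, W', hW', hx', e', hstd⟩ :=
    SmoothOfRelativeDimension.exists_isStandardSmoothOfRelativeDimension (n := p) (f := g) (i x₀)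
  let W : (U : Scheme.{u}).Opens := i ⁻¹ᵁ W'
  have hW : IsAffineOpen W := hW'.preimage i
  let Wt : X.Opens := U.ι ''ᵁ W
  have hWt : IsAffineOpen Wt := hW.image_of_isOpenImmersion U.ι
  have hxW : x ∈ Wt := ⟨x₀, hx', rfl⟩
  have eW : W ≤ (U.ι ≫ f) ⁻¹ᵁ V := by
    rw [← hcomm]
    intro w hw
    exact e' hw
  have e : Wt ≤ f ⁻¹ᵁ V := by
    rintro _ ⟨w, hw, rfl⟩
    exact eW hw
  letI algAT : Algebra Γ(Y, V) Γ(U', W') := (g.appLE V W' e').hom.toAlgebra
  letI algAB : Algebra Γ(Y, V) Γ(X, Wt) := (f.appLE V Wt e).hom.toAlgebra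
  let ρ : Γ(U', W') ⟶ Γ(X, Wt) := i.app W' ≫ (U.ι.appIso W).inv
  letI algTB : Algebra Γ(U', W') Γ(X, Wt) := ρ.hom.toAlgebra
  haveI : IsScalarTower Γ(Y, V) Γ(U', W') Γ(X, Wt) := by
    apply IsScalarTower.of_algebraMap_eq'
    change (f.appLE V Wt e).hom = ρ.hom.comp (g.appLE V W' e').hom
    rw [← CommRingCat.hom_comp]
    congr 1
    rw [← cancel_mono (U.ι.appIso W).hom]
    simp only [ρ, Category.assoc, Iso.inv_hom_id, Category.comp_id]
    rw [Scheme.Hom.appIso_hom', Scheme.Hom.appLE_comp_appLE, Scheme.Hom.app_eq_appLE,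
      Scheme.Hom.appLE_comp_appLE]
    exact (appLE_congr hcomm V W _).symm
  have hs : Function.Surjective (algebraMap Γ(U', W') Γ(X, Wt)) := by
    change Function.Surjective ρ.hom
    have h1 := i.app_surjective W' hW'
    have h2 : Function.Bijective (U.ι.appIso W).inv.hom :=
      ConcreteCategory.bijective_of_isIso (U.ι.appIso W).inv
    simp only [ρ, CommRingCat.hom_comp, RingHom.coe_comp]
    exact h2.2.comp h1
  haveI : Algebra.IsStandardSmoothOfRelativeDimension p Γ(Y, V) Γ(U', W') := hstd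
  have htop := JacSm.fitt_eq_top_of_stdSmooth_surj Γ(Y, V) Γ(U', W') Γ(X, Wt) p hs
  obtain ⟨ε, -⟩ := OmegaSecA.exists_sectionsEquiv f hWt hV e
  have hft := OmegaSecB.isFiniteType_omega f
  rw [FittSheafB.mem_support_iff (Omega.sheaf f) hft p hWt x hxW, fitt_congr ε p, htop]
  intro h
  exact (hWt.primeIdealOf ⟨x, hxW⟩).isPrime.ne_top (top_le_iff.mp h)

theorem main [LocallyOfFinitePresentation f] [QuasiSeparated f] (p : ℕ) (x : X) :
    x ∉ (Fitt.sheafIdeal (Omega.sheaf f) p).support ↔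
      ∃ (U : X.Opens) (U' : Scheme.{u}) (i : (U : Scheme.{u}) ⟶ U') (g : U' ⟶ Y),
        x ∈ U ∧ IsClosedImmersion i ∧ SmoothOfRelativeDimension p g ∧ i ≫ g = U.ι ≫ f := by
  constructor
  · exact forward f p x
  · rintro ⟨U, U', i, g, hxU, hi, hg, hcomm⟩
    exact backward f p x U U' i g hxU hcomm

end Groth.Agent.Lead.JacSmB
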