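import Groth.Agent.Lead.JacSm3
import Groth.Agent.Lead.JacSmB
import Groth.Agent.Lead.KoszulGeoB
import Mathlib

/-!
# Lead: smoothness near a point of an lci morphism and the Jacobian locus `Fitt_m Ω`
-/

set_option autoImplicit false
set_option linter.style.haveILetI false
open CategoryTheory CategoryTheory.Limits AlgebraicGeometry Opposite TopologicalSpace TensorProduct
universe u

namespace Groth.Agent.Lead.JacSm4
open Scheme.Modules Groth.Agent.Helper4 Groth.Agent.Helper7.FittLib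

section Pair
variable {Y X : Scheme.{u}} (f : Y ⟶ X)
variable {U : Y.Opens} (hU : IsAffineOpen U) {V : X.Opens} (hV : IsAffineOpen V)
  (e : U ≤ f ⁻¹ᵁ V)

include hU hV in
theorem smooth_ι_comp_iff : Smooth (U.ι ≫ f) ↔ (f.appLE V U e).hom.Smooth := by
  haveI : IsAffine (U : Scheme.{u}) := hU
  haveI : IsAffine (V : Scheme.{u}) := hV
  have h1 : U.ι ≫ f = f.resLE V U e ≫ V.ι := (Scheme.Hom.resLE_comp_ι f e).symm
  have h2 : Smooth (f.resLE V U e) ↔ (f.appLE V U e).hom.Smooth := by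
    rw [HasRingHomProperty.iff_of_isAffine (P := @Smooth)]
    exact (RingHom.Smooth.respectsIso).arrow_mk_iso_iff (arrowResLEAppIso f V U e)
  rw [← h2, h1]
  constructor
  · intro h
    exact MorphismProperty.of_postcomp (W := @Smooth) (W' := @IsOpenImmersion) _ V.ι
      inferInstance h
  · intro h
    exact MorphismProperty.comp_mem _ _ _ h inferInstance

end Pair

section Chart
variable {Z P X : Scheme.{u}} (i : Z ⟶ P) (π : P ⟶ X) (n c : ℕ)

theorem chart (hreg : RegImm.IsRegularImmersionOfCodim RegImm.Kind.koszul c i)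
    [SmoothOfRelativeDimension n π] (z : Z) (O : Z.Opens) (hz : z ∈ O) :
    ∃ (V : X.Opens) (_ : IsAffineOpen V) (D : P.Opens) (_ : IsAffineOpen D) (e' : D ≤ π ⁻¹ᵁ V),
      i z ∈ D ∧ i ⁻¹ᵁ D ≤ O ∧
      RingHom.IsStandardSmoothOfRelativeDimension n (π.appLE V D e').hom ∧
      IsClosedImmersion (i ∣_ D) ∧
      ∃ rs : List Γ(P, D), rs.length = c ∧ LCI.IsKoszulRegularSeq Γ(P, D) rs ∧
        RingHom.ker (i.app D).hom = Ideal.ofList rs := by
  obtain ⟨himm, hloc⟩ := hreg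
  obtain ⟨U₁, hzU₁, hcl, rs, hlen, hseq, hker⟩ := hloc z
  obtain ⟨V, hV, W', hW', hzW', e₀, hstd⟩ :=
    SmoothOfRelativeDimension.exists_isStandardSmoothOfRelativeDimension (n := n) (f := π) (i z)
  obtain ⟨G, hGopen, hG⟩ := i.isEmbedding.isInducing.isOpen_iff.mp O.2
  let G' : P.Opens := ⟨G, hGopen⟩
  have hzG : i z ∈ G' := by
    change z ∈ i ⁻¹' G
    rw [hG]
    exact hz
  obtain ⟨g₁, hg₁le, hg₁z⟩ := hW'.exists_basicOpen_le (V := U₁.1 ⊓ G') ⟨i z, ⟨hzU₁, hzG⟩⟩ hzW'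
  have hD : IsAffineOpen (P.basicOpen g₁) := hW'.basicOpen g₁
  have hDW : P.basicOpen g₁ ≤ W' := P.basicOpen_le g₁
  have e' : P.basicOpen g₁ ≤ π ⁻¹ᵁ V := hDW.trans e₀
  haveI := hcl
  obtain ⟨hcD, hkD, hkerD⟩ := KoszulGeoB.koszul_restrict i U₁.2 hD (hg₁le.trans inf_le_left) rs
    hseq hker
  refine ⟨V, hV, P.basicOpen g₁, hD, e', hg₁z, ?_, ?_, hcD, _, ?_, hkD, hkerD⟩
  · intro w hw
    have : i w ∈ G' := (hg₁le hw).2
    have h2 : w ∈ i ⁻¹' G := this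
    rw [hG] at h2
    exact h2
  · have heq : π.appLE V (P.basicOpen g₁) e' =
        π.appLE V W' e₀ ≫ P.presheaf.map (homOfLE hDW).op := by
      rw [Scheme.Hom.appLE_map]
    rw [heq, CommRingCat.hom_comp]
    haveI := hW'.isLocalization_basicOpen g₁
    exact (RingHom.isStandardSmoothOfRelativeDimension_stableUnderCompositionWithLocalizationAway
      n).right Γ(P, P.basicOpen g₁) g₁ (π.appLE V W' e₀).hom hstd
  · rw [List.length_map]
    exact hlen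

end Chart


section Main
variable {Y X : Scheme.{u}} (f : Y ⟶ X)

theorem setup (m : ℕ) (y : Y)
    (U : Y.Opens) (P : Scheme.{u}) (i : (U : Scheme.{u}) ⟶ P) (π : P ⟶ X) (c : ℕ) (hyU : y ∈ U)
    (hreg : RegImm.IsRegularImmersionOfCodim RegImm.Kind.koszul c i)
    [SmoothOfRelativeDimension (m + c) π] (hcomm : i ≫ π = U.ι ≫ f)
    (O : (U : Scheme.{u}).Opens) (hO : (⟨y, hyU⟩ : (U : Scheme.{u})) ∈ O) :
    ∃ (V : X.Opens) (_ : IsAffineOpen V) (Wt : Y.Opens) (_ : IsAffineOpen Wt)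
      (e : Wt ≤ f ⁻¹ᵁ V), y ∈ Wt ∧ Wt ≤ U.ι ''ᵁ O ∧
      (letI := (f.appLE V Wt e).hom.toAlgebra
       (∀ (𝔭 : Ideal Γ(Y, Wt)) [𝔭.IsPrime],
          ¬ Fitt.ideal Γ(Y, Wt) Ω[Γ(Y, Wt)⁄Γ(X, V)] m ≤ 𝔭 →
          ∃ g : Γ(Y, Wt), g ∉ 𝔭 ∧ ∀ (Bg : Type u) [CommRing Bg] [Algebra Γ(Y, Wt) Bg]
            [Algebra Γ(X, V) Bg] [IsScalarTower Γ(X, V) Γ(Y, Wt) Bg] [IsLocalization.Away g Bg],
            Algebra.IsStandardSmoothOfRelativeDimension m Γ(X, V) Bg) ∧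
       (Algebra.FormallySmooth Γ(X, V) Γ(Y, Wt) →
          Fitt.ideal Γ(Y, Wt) Ω[Γ(Y, Wt)⁄Γ(X, V)] m = ⊤)) := by
  let u₀ : (U : Scheme.{u}) := ⟨y, hyU⟩
  obtain ⟨V, hV, D, hD, e', hzD, hDO, hstd, hcl, rs, hlen, hkz, hker⟩ :=
    chart i π (m + c) c hreg u₀ O hO
  subst hlen
  haveI := hcl
  obtain ⟨hW, hsurj⟩ := H1RegB.affine_of_restrict_closed i hD
  let W : (U : Scheme.{u}).Opens := i ⁻¹ᵁ D
  let Wt : Y.Opens := U.ι ''ᵁ W
  have hWt : IsAffineOpen Wt := hW.image_of_isOpenImmersion U.ι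
  have hyW : y ∈ Wt := ⟨u₀, hzD, rfl⟩
  have eW : W ≤ (U.ι ≫ f) ⁻¹ᵁ V := by
    rw [← hcomm]
    intro w hw
    exact e' hw
  have e : Wt ≤ f ⁻¹ᵁ V := by
    rintro _ ⟨w, hw, rfl⟩
    exact eW hw
  have hWtO : Wt ≤ U.ι ''ᵁ O := by
    rintro _ ⟨w, hw, rfl⟩
    exact ⟨w, hDO hw, rfl⟩
  refine ⟨V, hV, Wt, hWt, e, hyW, hWtO, ?_⟩
  letI algAT : Algebra Γ(X, V) Γ(P, D) := (π.appLE V D e').hom.toAlgebra
  letI algAB : Algebra Γ(X, V) Γ(Y, Wt) := (f.appLE V Wt e).hom.toAlgebra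
  let ρ : Γ(P, D) ⟶ Γ(Y, Wt) := i.app D ≫ (U.ι.appIso W).inv
  letI algTB : Algebra Γ(P, D) Γ(Y, Wt) := ρ.hom.toAlgebra
  haveI : IsScalarTower Γ(X, V) Γ(P, D) Γ(Y, Wt) := by
    apply IsScalarTower.of_algebraMap_eq'
    change (f.appLE V Wt e).hom = ρ.hom.comp (π.appLE V D e').hom
    rw [← CommRingCat.hom_comp]
    congr 1
    rw [← cancel_mono (U.ι.appIso W).hom]
    simp only [ρ, Category.assoc, Iso.inv_hom_id, Category.comp_id]
    rw [Scheme.Hom.appIso_hom', Scheme.Hom.appLE_comp_appLE, Scheme.Hom.app_eq_appLE,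
      Scheme.Hom.appLE_comp_appLE]
    exact (JacSmB.appLE_congr hcomm V W _).symm
  have h2 : Function.Bijective (U.ι.appIso W).inv.hom :=
    ConcreteCategory.bijective_of_isIso (U.ι.appIso W).inv
  have hs : Function.Surjective (algebraMap Γ(P, D) Γ(Y, Wt)) := by
    change Function.Surjective ρ.hom
    simp only [ρ, CommRingCat.hom_comp, RingHom.coe_comp]
    exact h2.2.comp hsurj
  haveI : Algebra.IsStandardSmoothOfRelativeDimension (m + rs.length) Γ(X, V) Γ(P, D) := hstd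
  have hkerTB : RingHom.ker (algebraMap Γ(P, D) Γ(Y, Wt)) = Ideal.span (Set.range rs.get) := by
    change RingHom.ker ρ.hom = _
    simp only [ρ, CommRingCat.hom_comp]
    rw [RingHom.ker_comp_of_injective _ h2.1, hker, Set.range_list_get]
  constructor
  · intro 𝔭 _ h𝔭
    exact JacSm3.exists_stdSmooth_away_of_quotient Γ(X, V) Γ(P, D) Γ(Y, Wt) m rs.length hs rs.get
      hkerTB 𝔭 h𝔭
  · intro hfs
    haveI := hfs
    exact JacSm3.fitt_eq_top_of_formallySmooth Γ(X, V) Γ(P, D) Γ(Y, Wt) m rs.length hs rs.get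
      hkerTB (by rw [List.ofFn_get]; exact hkz)

end Main


section Final
variable {Y X : Scheme.{u}} (f : Y ⟶ X)

theorem main [LocallyOfFinitePresentation f] [QuasiSeparated f] (m : ℕ) (y : Y)
    (hlci : ∃ (U : Y.Opens) (P : Scheme.{u}) (i : (U : Scheme.{u}) ⟶ P) (π : P ⟶ X) (c : ℕ),
      y ∈ U ∧ RegImm.IsRegularImmersionOfCodim RegImm.Kind.koszul c i ∧
        SmoothOfRelativeDimension (m + c) π ∧ i ≫ π = U.ι ≫ f) :
    (∃ V : Y.Opens, y ∈ V ∧ Smooth (V.ι ≫ f)) ↔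
      y ∉ (Fitt.sheafIdeal (Omega.sheaf f) m).support := by
  obtain ⟨U, P, i, π, c, hyU, hreg, hsm, hcomm⟩ := hlci
  haveI := hsm
  have hft := OmegaSecB.isFiniteType_omega f
  constructor
  · rintro ⟨V', hyV', hsmV'⟩
    obtain ⟨V, hV, Wt, hWt, e, hyW, hWtO, hA⟩ :=
      setup f m y U P i π c hyU hreg hcomm (U.ι ⁻¹ᵁ V') hyV'
    letI algAB : Algebra Γ(X, V) Γ(Y, Wt) := (f.appLE V Wt e).hom.toAlgebra
    have hle : Wt ≤ V' := by
      intro w hw
      obtain ⟨w', hw', rfl⟩ := hWtO hw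
      exact hw'
    have h1 : Smooth (Wt.ι ≫ f) := by
      have : Wt.ι ≫ f = Y.homOfLE hle ≫ V'.ι ≫ f := by
        rw [← Category.assoc, Scheme.homOfLE_ι]
      rw [this]
      infer_instance
    have h2 : (f.appLE V Wt e).hom.Smooth := (smooth_ι_comp_iff f hWt hV e).mp h1
    have h3 : Algebra.Smooth Γ(X, V) Γ(Y, Wt) := h2
    have htop := hA.2 h3.1
    obtain ⟨ε, -⟩ := OmegaSecA.exists_sectionsEquiv f hWt hV e
    rw [FittSheafB.mem_support_iff (Omega.sheaf f) hft m hWt y hyW, fitt_congr ε m, htop]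
    intro h
    exact (hWt.primeIdealOf ⟨y, hyW⟩).isPrime.ne_top (top_le_iff.mp h)
  · intro hy
    obtain ⟨V, hV, Wt, hWt, e, hyW, -, hA⟩ :=
      setup f m y U P i π c hyU hreg hcomm ⊤ trivial
    letI algAB : Algebra Γ(X, V) Γ(Y, Wt) := (f.appLE V Wt e).hom.toAlgebra
    obtain ⟨ε, -⟩ := OmegaSecA.exists_sectionsEquiv f hWt hV e
    rw [FittSheafB.mem_support_iff (Omega.sheaf f) hft m hWt y hyW, fitt_congr ε m] at hy
    obtain ⟨g, hg, hstd⟩ := hA.1 (hWt.primeIdealOf ⟨y, hyW⟩).asIdeal hy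
    have hUt : IsAffineOpen (Y.basicOpen g) := hWt.basicOpen g
    have e' : Y.basicOpen g ≤ f ⁻¹ᵁ V := (Y.basicOpen_le g).trans e
    letI algABg : Algebra Γ(X, V) Γ(Y, Y.basicOpen g) :=
      (f.appLE V (Y.basicOpen g) e').hom.toAlgebra
    haveI : IsScalarTower Γ(X, V) Γ(Y, Wt) Γ(Y, Y.basicOpen g) := by
      apply IsScalarTower.of_algebraMap_eq'
      change (f.appLE V (Y.basicOpen g) e').hom =
        (Y.presheaf.map (homOfLE (Y.basicOpen_le g)).op).hom.comp (f.appLE V Wt e).hom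
      rw [← CommRingCat.hom_comp, Scheme.Hom.appLE_map]
    haveI := hWt.isLocalization_basicOpen g
    have h1 := hstd Γ(Y, Y.basicOpen g)
    haveI : Algebra.IsStandardSmooth Γ(X, V) Γ(Y, Y.basicOpen g) :=
      Algebra.IsStandardSmoothOfRelativeDimension.isStandardSmooth m
    have h2 : (f.appLE V (Y.basicOpen g) e').hom.Smooth :=
      (inferInstance : Algebra.Smooth Γ(X, V) Γ(Y, Y.basicOpen g))
    exact ⟨Y.basicOpen g, (StalkDict.mem_basicOpen_iff_notMem_primeIdealOf hWt y hyW g).mpr hg,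
      (smooth_ι_comp_iff f hUt hV e').mpr h2⟩

end Final

end Groth.Agent.Lead.JacSm4
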