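import Mathlib

set_option autoImplicit false
set_option linter.style.haveILetI false
universe u
open CategoryTheory CategoryTheory.Limits AlgebraicGeometry MvPolynomial

namespace Groth.Agent.Lead.Jouan

section cat
variable {C : Type*} [Category C]

lemma isPullback_of_comp_mono {P X' T X Z : C} {a : P ⟶ X'} {b : P ⟶ T} {g : X' ⟶ X}
    {p : T ⟶ X} (ι : X ⟶ Z) [Mono ι]
    (h : IsPullback a b (g ≫ ι) (p ≫ ι)) : IsPullback a b g p := by
  have w : a ≫ g = b ≫ p := by
    rw [← cancel_mono ι, Category.assoc, Category.assoc]; exact h.w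
  refine ⟨⟨w⟩, ⟨PullbackCone.IsLimit.mk w
    (fun s => h.lift s.fst s.snd (by rw [← Category.assoc, s.condition, Category.assoc]))
    (fun s => h.lift_fst _ _ _) (fun s => h.lift_snd _ _ _)
    (fun s m h1 h2 => h.hom_ext (by simp [h1]) (by simp [h2]))⟩⟩

end cat

section alg
variable {A : Type u} [CommRing A] {σ : Type u} [Fintype σ] (f : σ → A)

/-- The relation `∑ f_i x_i - 1`. -/
noncomputable def relPoly : MvPolynomial (Option σ) A :=
  ∑ i, C (f i) * X (some i) - 1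

/-- The Jouanolou ring `A[x_i, t]/(∑ f_i x_i - 1)`. -/
abbrev JR : Type u := MvPolynomial (Option σ) A ⧸ Ideal.span {relPoly f}

noncomputable def xx (i : σ) : JR f := Ideal.Quotient.mk _ (X (some i))
noncomputable def tt : JR f := Ideal.Quotient.mk _ (X none)

lemma sum_xx : ∑ i, algebraMap A (JR f) (f i) * xx f i = 1 := by
  have h : Ideal.Quotient.mk (Ideal.span {relPoly f})
      (∑ i, C (f i) * X (some i) - 1) = 0 :=
    Ideal.Quotient.eq_zero_iff_mem.mpr (Ideal.subset_span rfl)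
  rw [map_sub, map_one, sub_eq_zero, map_sum] at h
  refine (Finset.sum_congr rfl fun i _ => ?_).trans h
  rw [map_mul]; rfl

lemma isUnit_span_map (𝔭 : Ideal (JR f)) [𝔭.IsPrime] :
    ∃ i, algebraMap A (JR f) (f i) ∉ 𝔭 := by
  by_contra hcon
  push Not at hcon
  have : (1 : JR f) ∈ 𝔭 := by
    rw [← sum_xx f]
    exact Ideal.sum_mem _ fun i _ => Ideal.mul_mem_right _ _ (hcon i)
  exact (Ideal.IsPrime.ne_top ‹_›) ((Ideal.eq_top_iff_one _).mpr this)

variable {B : Type u} [CommRing B] (γ : A →+* B) (b : σ → B)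

/-- the linear form `∑ γ(f_j) z_j`. -/
noncomputable def lin : MvPolynomial σ B := ∑ j, C (γ (f j)) * X j

noncomputable def φ₀ : MvPolynomial (Option σ) A →+* MvPolynomial σ B :=
  eval₂Hom (C.comp γ) (fun o => match o with
    | some i => C (b i) + X i - lin f γ * C (b i)
    | none => lin f γ)

variable (hb : ∑ j, γ (f j) * b j = 1)
include hb

lemma φ₀_rel : φ₀ f γ b (relPoly f) = 0 := by
  have h1 : (∑ j, C (γ (f j)) * C (b j) : MvPolynomial σ B) = 1 := by
    simp_rw [← C_mul]; rw [← map_sum, hb, C_1]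
  rw [relPoly, map_sub, map_one, map_sum]
  have : ∀ i, φ₀ f γ b (C (f i) * X (some i)) =
      C (γ (f i)) * C (b i) + C (γ (f i)) * X i - lin f γ * (C (γ (f i)) * C (b i)) := by
    intro i
    rw [map_mul, φ₀, eval₂Hom_C, eval₂Hom_X']
    simp only [RingHom.comp_apply]
    ring
  simp_rw [this]
  rw [Finset.sum_sub_distrib, Finset.sum_add_distrib, ← Finset.mul_sum, h1]
  rw [lin]; ring

/-- The comparison map `JR → B[z]`. -/
noncomputable def φ : JR f →+* MvPolynomial σ B :=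
  Ideal.Quotient.lift _ (φ₀ f γ b) (by
    intro x hx
    rw [Ideal.mem_span_singleton] at hx
    obtain ⟨y, rfl⟩ := hx
    rw [map_mul, φ₀_rel f γ b hb, zero_mul])

lemma φ_algebraMap (a : A) : φ f γ b hb (algebraMap A (JR f) a) = C (γ a) := by
  change φ f γ b hb (Ideal.Quotient.mk _ (C a)) = _
  rw [φ, Ideal.Quotient.lift_mk, φ₀, eval₂Hom_C]; rfl

lemma φ_xx (i : σ) : φ f γ b hb (xx f i) = C (b i) + X i - lin f γ * C (b i) := by
  rw [xx, φ, Ideal.Quotient.lift_mk, φ₀, eval₂Hom_X']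

lemma φ_tt : φ f γ b hb (tt f) = lin f γ := by
  rw [tt, φ, Ideal.Quotient.lift_mk, φ₀, eval₂Hom_X']

variable {D : Type u} [CommRing D] (β : B →+* D) (ρ : JR f →+* D)

/-- the images of the variables under the descended map. -/
noncomputable def dd (i : σ) : D := ρ (xx f i) - β (b i) + ρ (tt f) * β (b i)

omit hb in
lemma βγ (hc : β.comp γ = ρ.comp (algebraMap A (JR f))) (a : A) :
    β (γ a) = ρ (algebraMap A (JR f) a) := by
  have := congrArg (fun h => h a) hc
  simpa using this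

lemma key (hc : β.comp γ = ρ.comp (algebraMap A (JR f))) : ∑ j, β (γ (f j)) * dd f b β ρ j = ρ (tt f) := by
  have h1 : ∑ j, β (γ (f j)) * β (b j) = 1 := by
    simp_rw [← map_mul]; rw [← map_sum, hb, map_one]
  have h2 : ∑ j, β (γ (f j)) * ρ (xx f j) = 1 := by
    simp_rw [βγ f γ β ρ hc, ← map_mul]; rw [← map_sum, sum_xx, map_one]
  have : ∀ j, β (γ (f j)) * dd f b β ρ j =
      β (γ (f j)) * ρ (xx f j) - β (γ (f j)) * β (b j) + ρ (tt f) * (β (γ (f j)) * β (b j)) := by
    intro j; rw [dd]; ring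
  simp_rw [this]
  rw [Finset.sum_add_distrib, Finset.sum_sub_distrib, ← Finset.mul_sum, h1, h2]; ring

/-- the descended map. -/
noncomputable def desc : MvPolynomial σ B →+* D := eval₂Hom β (dd f b β ρ)

omit hb in
lemma desc_C : (desc f b β ρ).comp C = β := by
  ext x; simp [desc]

omit hb in
lemma desc_lin : desc f b β ρ (lin f γ) = ∑ j, β (γ (f j)) * dd f b β ρ j := by
  rw [lin, map_sum]
  refine Finset.sum_congr rfl fun j _ => ?_
  rw [map_mul, desc, eval₂Hom_C, eval₂Hom_X']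

lemma desc_φ (hc : β.comp γ = ρ.comp (algebraMap A (JR f))) : (desc f b β ρ).comp (φ f γ b hb) = ρ := by
  apply Ideal.Quotient.ringHom_ext
  apply MvPolynomial.ringHom_ext
  · intro a
    change desc f b β ρ (φ f γ b hb (algebraMap A (JR f) a)) = ρ (algebraMap A (JR f) a)
    rw [φ_algebraMap, desc, eval₂Hom_C, βγ f γ β ρ hc]
  · intro o
    cases o with
    | none =>
      change desc f b β ρ (φ f γ b hb (tt f)) = ρ (tt f)
      rw [φ_tt, desc_lin, key f γ b hb β ρ hc]
    | some i =>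
      change desc f b β ρ (φ f γ b hb (xx f i)) = ρ (xx f i)
      rw [φ_xx, map_sub, map_add, map_mul, desc_lin, key f γ b hb β ρ hc]
      rw [desc, eval₂Hom_C, eval₂Hom_X', dd]; ring

lemma desc_uniq (m : MvPolynomial σ B →+* D) (h1 : m.comp C = β)
    (h2 : m.comp (φ f γ b hb) = ρ) : m = desc f b β ρ := by
  apply MvPolynomial.ringHom_ext
  · intro x
    rw [desc, eval₂Hom_C]
    exact congrArg (fun h => h x) h1
  · intro i
    rw [desc, eval₂Hom_X', dd]
    have hX : (X i : MvPolynomial σ B) =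
        φ f γ b hb (xx f i) - C (b i) + φ f γ b hb (tt f) * C (b i) := by
      rw [φ_xx, φ_tt]; ring
    have e1 : ∀ y, m (φ f γ b hb y) = ρ y := fun y => congrArg (fun h => h y) h2
    have e2 : ∀ y, m (C y) = β y := fun y => congrArg (fun h => h y) h1
    conv_lhs => rw [hX]
    rw [map_add, map_sub, map_mul, e1, e1, e2]

end alg

section sch

theorem isPushout {A B : Type u} [CommRing A] [CommRing B] {σ : Type u} [Fintype σ]
    (f : σ → A) (γ : A →+* B) (b : σ → B) (hb : ∑ j, γ (f j) * b j = 1) :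
    IsPushout (CommRingCat.ofHom γ) (CommRingCat.ofHom (algebraMap A (JR f)))
      (CommRingCat.ofHom (C : B →+* MvPolynomial σ B)) (CommRingCat.ofHom (φ f γ b hb)) := by
  have w : CommRingCat.ofHom γ ≫ CommRingCat.ofHom (C : B →+* MvPolynomial σ B) =
      CommRingCat.ofHom (algebraMap A (JR f)) ≫ CommRingCat.ofHom (φ f γ b hb) := by
    ext a
    simp [φ_algebraMap]
  refine ⟨⟨w⟩, ⟨PushoutCocone.IsColimit.mk w
    (fun s => CommRingCat.ofHom (desc f b s.inl.hom s.inr.hom)) ?_ ?_ ?_⟩⟩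
  · intro s
    apply CommRingCat.hom_ext
    exact desc_C f b s.inl.hom s.inr.hom
  · intro s
    have hc : s.inl.hom.comp γ = s.inr.hom.comp (algebraMap A (JR f)) :=
      congrArg CommRingCat.Hom.hom s.condition
    apply CommRingCat.hom_ext
    exact desc_φ f γ b hb s.inl.hom s.inr.hom hc
  · intro s m h1 h2
    apply CommRingCat.hom_ext
    exact desc_uniq f γ b hb s.inl.hom s.inr.hom m.hom
      (congrArg CommRingCat.Hom.hom h1) (congrArg CommRingCat.Hom.hom h2)

theorem main (X : Scheme.{u}) [X.IsQuasiAffine] :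
    ∃ (n : ℕ) (T : Scheme.{u}) (_ : IsAffine T) (p : T ⟶ X),
      ∀ (X' : Scheme.{u}) [IsAffine X'] (g : X' ⟶ X),
        ∃ e : Limits.pullback g p ≅ 𝔸(ULift.{u} (Fin n); X'),
          e.hom ≫ (𝔸(ULift.{u} (Fin n); X') ↘ X') = Limits.pullback.fst g p := by
  classical
  have hcomp : IsCompact (Set.range X.toSpecΓ.base) := isCompact_range X.toSpecΓ.continuous
  have hopen : IsOpen (Set.range X.toSpecΓ.base) := X.toSpecΓ.isOpenEmbedding.isOpen_range
  obtain ⟨t, ht⟩ := PrimeSpectrum.isCompact_isOpen_iff.mp ⟨hcomp, hopen⟩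
  let f : ULift.{u} (Fin t.card) → Γ(X, ⊤) := fun i => (t.equivFin.symm i.down : Γ(X, ⊤))
  have hf : ∀ a ∈ t, ∃ i, f i = a := by
    intro a ha
    refine ⟨⟨t.equivFin ⟨a, ha⟩⟩, ?_⟩
    simp [f]
  -- points of the range are those where some `f i` does not vanish
  have hmem : ∀ 𝔭 : PrimeSpectrum Γ(X, ⊤), (∃ i, f i ∉ 𝔭.asIdeal) → 𝔭 ∈ Set.range X.toSpecΓ.base := by
    rintro 𝔭 ⟨i, hi⟩
    rw [← ht]
    intro h𝔭
    exact hi (h𝔭 (Finset.coe_mem _))
  have hmem' : ∀ 𝔭 : PrimeSpectrum Γ(X, ⊤), 𝔭 ∈ Set.range X.toSpecΓ.base → ∃ i, f i ∉ 𝔭.asIdeal := by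
    intro 𝔭 h𝔭
    rw [← ht] at h𝔭
    by_contra hcon
    push Not at hcon
    apply h𝔭
    intro a ha
    obtain ⟨i, rfl⟩ := hf a ha
    exact hcon i
  have hrange : Set.range (Spec.map (CommRingCat.ofHom (algebraMap Γ(X, ⊤) (JR f)))).base ⊆
      Set.range X.toSpecΓ.base := by
    rintro _ ⟨𝔭, rfl⟩
    obtain ⟨i, hi⟩ := isUnit_span_map f 𝔭.asIdeal
    exact hmem _ ⟨i, hi⟩
  refine ⟨t.card, Spec (.of (JR f)), inferInstance,
    IsOpenImmersion.lift X.toSpecΓ (Spec.map (CommRingCat.ofHom (algebraMap Γ(X, ⊤) (JR f)))) hrange,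
    ?_⟩
  intro X' _ g
  -- the coefficients `b`
  have hspan : Ideal.span (Set.range fun i => g.appTop.hom (f i)) = ⊤ := by
    by_contra hne
    obtain ⟨𝔪, h𝔪, hle⟩ := Ideal.exists_le_maximal _ hne
    obtain ⟨x', hx'⟩ := (X'.isoSpec.hom.homeomorph).surjective ⟨𝔪, h𝔪.isPrime⟩
    have hnat : (Spec.map g.appTop).base (X'.toSpecΓ.base x') = X.toSpecΓ.base (g.base x') := by
      rw [← Scheme.Hom.comp_apply, ← Scheme.Hom.comp_apply, Scheme.toSpecΓ_naturality]
    obtain ⟨i, hi⟩ := hmem' _ ⟨g.base x', hnat.symm⟩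
    apply hi
    have hx'' : X'.toSpecΓ.base x' = ⟨𝔪, h𝔪.isPrime⟩ := hx'
    rw [hx'']
    exact hle (Ideal.subset_span ⟨i, rfl⟩)
  obtain ⟨c, hc⟩ := (Ideal.mem_span_range_iff_exists_fun (R := Γ(X', ⊤))).mp
    ((Ideal.eq_top_iff_one _).mp hspan)
  have hb : ∑ j, g.appTop.hom (f j) * c j = 1 := by
    rw [← hc]; exact Finset.sum_congr rfl fun j _ => mul_comm _ _
  have h1 := isPullback_SpecMap_of_isPushout _ _ _ _ (isPushout f g.appTop.hom c hb)
  have h2 : IsPullback (Spec.map (CommRingCat.ofHom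
        (C : Γ(X', ⊤) →+* MvPolynomial (ULift.{u} (Fin t.card)) Γ(X', ⊤))) ≫ X'.isoSpec.inv)
      (Spec.map (CommRingCat.ofHom (φ f g.appTop.hom c hb)))
      (g ≫ X.toSpecΓ)
      (IsOpenImmersion.lift X.toSpecΓ
        (Spec.map (CommRingCat.ofHom (algebraMap Γ(X, ⊤) (JR f)))) hrange ≫ X.toSpecΓ) := by
    refine h1.of_iso (Iso.refl _) X'.isoSpec.symm (Iso.refl _) (Iso.refl _) ?_ ?_ ?_ ?_
    · simp
    · simp
    · simp only [Iso.refl_hom, Category.comp_id, Iso.symm_hom]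
      rw [Scheme.toSpecΓ_naturality, ← Category.assoc]
      have : X'.isoSpec.inv ≫ X'.toSpecΓ = 𝟙 _ := X'.isoSpec.inv_hom_id
      rw [this]
      exact (Category.id_comp _).symm
    · simp only [Iso.refl_hom, Category.comp_id, Category.id_comp]
      rw [IsOpenImmersion.lift_fac]
  have h3 := isPullback_of_comp_mono X.toSpecΓ h2
  refine ⟨h3.isoPullback.symm ≪≫ (AffineSpace.isoOfIsAffine (ULift.{u} (Fin t.card)) X').symm, ?_⟩
  simp only [Iso.trans_hom, Iso.symm_hom, Category.assoc]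
  rw [AffineSpace.isoOfIsAffine_inv_over]
  exact h3.isoPullback_inv_fst

end sch

end Groth.Agent.Lead.Jouan
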