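import Mathlib
import Groth.Prelude.Def_KRR
import Groth.Agent.Lead.KPoinc
import Groth.Agent.Lead.LocLift6
import Groth.Agent.Helper3.FlatPullEx
import Groth.Agent.Helper9.ResThm

set_option autoImplicit false
set_option linter.style.haveILetI false
set_option linter.unusedSectionVars false
set_option linter.unusedVariables false

/-!
# The pull-back on `K₀` of finite locally free modules
-/

namespace Groth.Agent.Lead.KPull

open CategoryTheory Limits AlgebraicGeometry Opposite
open Groth.Agent.Helper9.SkyMod4 Groth.Agent.Helper9.SkyMod5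
open Groth.Agent.Lead.KPoinc Groth.Agent.Lead.SyzReg

universe u

variable {X Y : Scheme.{u}} (f : X ⟶ Y)

/-- the stalks of a short exact sequence with finite locally free cokernel split -/
theorem exists_retraction_stalk (S : ShortComplex Y.Modules) (hS : S.ShortExact)
    (h3 : FlatMod.IsFinLocFree S.X₃) (y : Y) :
    ∃ r : (St y).obj S.X₂ ⟶ (St y).obj S.X₁, (St y).map S.f ≫ r = 𝟙 _ := by
  have hSy : (S.map (St y)).ShortExact := hS.map_of_exact (St y)
  have hp : HasProjectiveDimensionLT
      (ModuleCat.of (Y.presheaf.stalk y) (S.X₃.presheaf.stalk y)) 1 :=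
    pdLT_one_of_isFinLocFree _ h3 y
  haveI : Projective (S.map (St y)).X₃ := projective_iff_hasProjectiveDimensionLT_one.mpr hp
  haveI : Epi (S.map (St y)).g := hSy.epi_g
  haveI : Mono (S.map (St y)).f := hSy.mono_f
  let s : (S.map (St y)).X₃ ⟶ (S.map (St y)).X₂ := Projective.factorThru (𝟙 _) (S.map (St y)).g
  have hs : s ≫ (S.map (St y)).g = 𝟙 _ := Projective.factorThru_comp _ _
  let σ := ShortComplex.Splitting.ofExactOfSection (S.map (St y)) hSy.exact s hs inferInstance
  exact ⟨σ.r, σ.f_r⟩

/-- the pullback of a monomorphism with finite locally free cokernel is a monomorphism -/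
theorem mono_pullback_of_flf (S : ShortComplex Y.Modules) (hS : S.ShortExact)
    (h3 : FlatMod.IsFinLocFree S.X₃) : Mono ((Scheme.Modules.pullback f).map S.f) := by
  apply Groth.Agent.Helper3.FlatPullEx.mono_of_stalks
  intro x
  have hnat := (pullStalkIso x f).hom.naturality S.f
  obtain ⟨r, hr⟩ := exists_retraction_stalk S hS h3 (f.base x)
  have hm2 : Mono ((St (f.base x) ⋙ ext x f).map S.f) := by
    rw [Functor.comp_map]
    have hfac : (ext x f).map ((St (f.base x)).map S.f) ≫ (ext x f).map r = 𝟙 _ := by
      rw [← Functor.map_comp, hr]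
      exact CategoryTheory.Functor.map_id _ _
    exact mono_of_mono_fac hfac
  have hiso : IsIso ((pullStalkIso x f).hom.app S.X₁) := ((pullStalkIso x f).app S.X₁).isIso_hom
  have hm1 : Mono ((pullStalkIso x f).hom.app S.X₁) := @IsIso.mono_of_iso _ _ _ _ _ hiso
  have h3 : Mono ((pullStalkIso x f).hom.app S.X₁ ≫ (St (f.base x) ⋙ ext x f).map S.f) :=
    @mono_comp _ _ _ _ _ _ hm1 _ hm2
  rw [← hnat] at h3
  exact mono_of_mono ((Scheme.Modules.pullback f ⋙ St x).map S.f)
    ((pullStalkIso x f).hom.app S.X₂)

/-- the pullback of a short exact sequence with finite locally free cokernel is short exact -/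
theorem shortExact_pullback_of_flf (S : ShortComplex Y.Modules) (hS : S.ShortExact)
    (h3 : FlatMod.IsFinLocFree S.X₃) : (S.map (Scheme.Modules.pullback f)).ShortExact := by
  haveI : (Scheme.Modules.pullback f).Additive :=
    (Scheme.Modules.pullbackPushforwardAdjunction f).left_adjoint_additive
  haveI : PreservesFiniteColimits (Scheme.Modules.pullback f) :=
    haveI : PreservesColimitsOfSize.{0, 0} (Scheme.Modules.pullback f) :=
      (Scheme.Modules.pullbackPushforwardAdjunction f).leftAdjoint_preservesColimits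
    PreservesColimitsOfSize.preservesFiniteColimits _
  have h1 := ((Scheme.Modules.pullback f).preservesFiniteColimits_iff_forall_exact_map_and_epi).1
    inferInstance S hS
  exact ShortComplex.ShortExact.mk' h1.1 (mono_pullback_of_flf f S hS h3) h1.2

/-! ### the map on `K₀` -/

theorem cl_eq_mk (E : Y.Modules) (hE : FlatMod.IsFinLocFree E) :
    KRR.cl Y E = QuotientAddGroup.mk (FreeAbelianGroup.of (⟨E, hE⟩ : Subtype (KRR.vbP Y))) := by
  classical
  unfold KRR.cl KZero.clSub
  rw [dif_pos hE]

/-- the pull-back on `K₀` of finite locally free modules -/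
noncomputable def pullK : SGA6.Kvb Y →+ SGA6.Kvb X :=
  QuotientAddGroup.lift (KZero.relSub (KRR.vbP Y))
    (FreeAbelianGroup.lift (fun E : Subtype (KRR.vbP Y) =>
      KRR.cl X ((Scheme.Modules.pullback f).obj E.1))) (by
    rw [KZero.relSub, AddSubgroup.closure_le]
    rintro _ ⟨S, h1, h2, h3, hS, rfl⟩
    rw [SetLike.mem_coe, AddMonoidHom.mem_ker, map_sub, map_sub, FreeAbelianGroup.lift_apply_of,
      FreeAbelianGroup.lift_apply_of, FreeAbelianGroup.lift_apply_of]
    have h := Groth.Agent.Helper9.ResThm.clSub_add (KRR.vbP X)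
      (S.map (Scheme.Modules.pullback f)) (shortExact_pullback_of_flf f S hS h3)
      (Groth.Agent.Lead.LocLift.isFinLocFree_pullback f h1)
      (Groth.Agent.Lead.LocLift.isFinLocFree_pullback f h2)
      (Groth.Agent.Lead.LocLift.isFinLocFree_pullback f h3)
    change KRR.cl X ((Scheme.Modules.pullback f).obj S.X₂) =
      KRR.cl X ((Scheme.Modules.pullback f).obj S.X₁) +
        KRR.cl X ((Scheme.Modules.pullback f).obj S.X₃) at h
    rw [h]
    abel)

theorem pullK_cl (E : Y.Modules) (hE : FlatMod.IsFinLocFree E) :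
    pullK f (KRR.cl Y E) = KRR.cl X ((Scheme.Modules.pullback f).obj E) := by
  rw [cl_eq_mk E hE]
  unfold pullK
  rw [QuotientAddGroup.lift_mk, FreeAbelianGroup.lift_apply_of]

/-- additive maps out of `K₀` are determined by the classes -/
theorem hom_ext_of_cl {M : Type*} [AddCommGroup M] (a b : SGA6.Kvb Y →+ M)
    (h : ∀ E, FlatMod.IsFinLocFree E → a (KRR.cl Y E) = b (KRR.cl Y E)) : a = b := by
  refine AddMonoidHom.ext fun w => ?_
  obtain ⟨a', rfl⟩ := QuotientAddGroup.mk_surjective w
  induction a' using FreeAbelianGroup.induction_on with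
  | zero => simp
  | of E =>
    have := h E.1 E.2
    rwa [cl_eq_mk E.1 E.2] at this
  | neg E ih =>
    rw [QuotientAddGroup.mk_neg, map_neg, map_neg, ih]
  | add x y hx hy =>
    rw [QuotientAddGroup.mk_add, map_add, map_add, hx, hy]

/-- **existence and uniqueness of the pull-back on models** -/
theorem existsUnique_isPull {KX KY : Type*} [CommRing KX] [CommRing KY]
    (φX : SGA6.Kvb X →+ KX) (φY : SGA6.Kvb Y →+ KY) (hY : Function.Bijective φY) :
    ∃! g : KY →+ KX, KRR.IsPull f φY φX g := by
  let e : SGA6.Kvb Y ≃+ KY := AddEquiv.ofBijective φY hY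
  have he : ∀ w, e w = φY w := fun w => rfl
  refine ⟨φX.comp ((pullK f).comp e.symm.toAddMonoidHom), ?_, ?_⟩
  · intro E hE
    change φX (pullK f (e.symm (φY (KRR.cl Y E)))) = _
    rw [← he, AddEquiv.symm_apply_apply, pullK_cl f E hE]
  · intro g hg
    have h1 : g.comp φY = (φX.comp ((pullK f).comp e.symm.toAddMonoidHom)).comp φY := by
      apply hom_ext_of_cl
      intro E hE
      change g (φY (KRR.cl Y E)) = φX (pullK f (e.symm (φY (KRR.cl Y E))))
      rw [hg E hE, ← he, AddEquiv.symm_apply_apply, pullK_cl f E hE]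
    refine AddMonoidHom.ext fun z => ?_
    obtain ⟨w, rfl⟩ := hY.surjective z
    exact DFunLike.congr_fun h1 w

end Groth.Agent.Lead.KPull
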