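import Mathlib
import Groth.Agent.Lead.KPoinc
import Groth.Agent.Lead.PerfLib7

set_option autoImplicit false
set_option linter.style.haveILetI false
set_option linter.unusedSectionVars false
set_option linter.unusedVariables false

/-!
# Modules with a finite resolution by finite locally free modules
-/

namespace Groth.Agent.Lead.KPoinc

open CategoryTheory Limits AlgebraicGeometry Opposite
open Groth.Agent.Helper4 Groth.Agent.Lead.SyzReg

universe u

section abstract

variable {C : Type*} [Category C] [Abelian C]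

/-- exactness is preserved by precomposing with an epi and postcomposing with a mono -/
theorem exact_epi_mono {A' A B D D' : C} (e : A' ⟶ A) [Epi e] (f : A ⟶ B) (g : B ⟶ D)
    (m : D ⟶ D') [Mono m] (w : f ≫ g = 0) (h : (ShortComplex.mk f g w).Exact)
    (w' : (e ≫ f) ≫ (g ≫ m) = 0) : (ShortComplex.mk (e ≫ f) (g ≫ m) w').Exact := by
  have w₁ : (e ≫ f) ≫ g = 0 := by rw [Category.assoc, w, comp_zero]
  let φ₁ : ShortComplex.mk (e ≫ f) g w₁ ⟶ ShortComplex.mk f g w :=
    { τ₁ := e, τ₂ := 𝟙 _, τ₃ := 𝟙 _ }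
  haveI : Epi φ₁.τ₁ := by dsimp [φ₁]; infer_instance
  haveI : IsIso φ₁.τ₂ := by dsimp [φ₁]; infer_instance
  haveI : Mono φ₁.τ₃ := by dsimp [φ₁]; infer_instance
  have h₁ : (ShortComplex.mk (e ≫ f) g w₁).Exact :=
    (ShortComplex.exact_iff_of_epi_of_isIso_of_mono φ₁).2 h
  let φ₂ : ShortComplex.mk (e ≫ f) g w₁ ⟶ ShortComplex.mk (e ≫ f) (g ≫ m) w' :=
    { τ₁ := 𝟙 _, τ₂ := 𝟙 _, τ₃ := m }
  haveI : Epi φ₂.τ₁ := by dsimp [φ₂]; infer_instance
  haveI : IsIso φ₂.τ₂ := by dsimp [φ₂]; infer_instance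
  haveI : Mono φ₂.τ₃ := by dsimp [φ₂]; infer_instance
  exact (ShortComplex.exact_iff_of_epi_of_isIso_of_mono φ₂).1 h₁

end abstract

section Res

variable {X : Scheme.{u}} [IsLocallyNoetherian X] (c : ∀ A : CohObj X, Cover A) (A : CohObj X)

/-- the terms of the resolution -/
noncomputable def resX (n : ℕ) : X.Modules := (c (syz c A n)).E

/-- the covering maps -/
noncomputable def resP (n : ℕ) : resX c A (n + 1) ⟶ (nextSyz c (syz c A n)).K :=
  (c (syz c A (n + 1))).p

instance resP_epi (n : ℕ) : Epi (resP c A n) := (c (syz c A (n + 1))).epi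

/-- the augmentation map -/
noncomputable def resQ0 : resX c A 0 ⟶ A.K := (c A).p

instance resQ0_epi : Epi (resQ0 c A) := (c A).epi

/-- the inclusions -/
noncomputable def resI (n : ℕ) : (nextSyz c (syz c A n)).K ⟶ resX c A n := syzι c (syz c A n)

instance resI_mono (n : ℕ) : Mono (resI c A n) := syzι_mono c _

theorem resI_resP (n : ℕ) : resI c A (n + 1) ≫ resP c A n = 0 := syzι_p c (syz c A (n + 1))

theorem exact_resI_resP (n : ℕ) :
    (ShortComplex.mk (resI c A (n + 1)) (resP c A n) (resI_resP c A n)).Exact :=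
  exact_syz c (syz c A (n + 1))

theorem resI_resQ0 : resI c A 0 ≫ resQ0 c A = 0 := syzι_p c A

theorem exact_resI_resQ0 :
    (ShortComplex.mk (resI c A 0) (resQ0 c A) (resI_resQ0 c A)).Exact :=
  exact_syz c A

/-- the differentials of the resolution -/
noncomputable def resD (n : ℕ) : resX c A (n + 1) ⟶ resX c A n :=
  resP c A n ≫ resI c A n

theorem resD_sq (n : ℕ) : resD c A (n + 1) ≫ resD c A n = 0 := by
  dsimp only [resD]
  rw [Category.assoc, reassoc_of% (resI_resP c A n), zero_comp, comp_zero]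

/-- the resolution -/
noncomputable def resCx : ChainComplex X.Modules ℕ :=
  ChainComplex.of (resX c A) (resD c A) (resD_sq c A)

theorem resCx_d (n : ℕ) : (resCx c A).d (n + 1) n = resD c A n :=
  ChainComplex.of_d _ _ n

theorem resD_zero_comp : resD c A 0 ≫ resQ0 c A = 0 := by
  dsimp only [resD]
  rw [Category.assoc, resI_resQ0, comp_zero]

/-- the augmentation -/
noncomputable def resπ : resCx c A ⟶ (ChainComplex.single₀ X.Modules).obj A.K :=
  (ChainComplex.toSingle₀Equiv _ _).symm ⟨resQ0 c A, by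
    rw [resCx_d]
    exact resD_zero_comp c A⟩

theorem exact_resD (n : ℕ) :
    (ShortComplex.mk (resD c A (n + 1)) (resD c A n) (resD_sq c A n)).Exact :=
  exact_epi_mono (resP c A (n + 1)) (resI c A (n + 1)) (resP c A n)
    (resI c A n) (resI_resP c A n) (exact_resI_resP c A n) (resD_sq c A n)

theorem exact_resD_zero :
    (ShortComplex.mk (resD c A 0) (resQ0 c A) (resD_zero_comp c A)).Exact := by
  have h := exact_epi_mono (resP c A 0) (resI c A 0) (resQ0 c A) (𝟙 _) (resI_resQ0 c A)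
    (exact_resI_resQ0 c A) (by rw [Category.comp_id]; exact resD_zero_comp c A)
  refine ShortComplex.exact_of_iso ?_ h
  exact ShortComplex.isoMk (Iso.refl _) (Iso.refl _) (Iso.refl _) (by simp [resD]) (by simp)

theorem resCx_exactAt_succ (n : ℕ) : (resCx c A).ExactAt (n + 1) := by
  rw [HomologicalComplex.exactAt_iff' _ (n + 1 + 1) (n + 1) n (by simp) (by simp)]
  refine ShortComplex.exact_of_iso ?_ (exact_resD c A n)
  refine ShortComplex.isoMk (Iso.refl _) (Iso.refl _) (Iso.refl _) ?_ ?_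
  · dsimp only [Iso.refl_hom, HomologicalComplex.sc']
    erw [Category.id_comp, Category.comp_id]
    exact resCx_d c A (n + 1)
  · dsimp only [Iso.refl_hom, HomologicalComplex.sc']
    erw [Category.id_comp, Category.comp_id]
    exact resCx_d c A n

theorem resπ_f_zero : (resπ c A).f 0 = resQ0 c A := by
  simp [resπ, ChainComplex.toSingle₀Equiv]

instance resπ_quasiIso : QuasiIso (resπ c A) := ⟨fun n => by
  cases n
  · rw [ChainComplex.quasiIsoAt₀_iff, ShortComplex.quasiIso_iff_of_zeros']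
    · refine (ShortComplex.exact_and_epi_g_iff_of_iso ?_).2
        ⟨exact_resD_zero c A, by dsimp; infer_instance⟩
      exact ShortComplex.isoMk (Iso.refl _) (Iso.refl _) (Iso.refl _)
        (by
          dsimp only [Iso.refl_hom]
          erw [Category.id_comp])
        (by
          dsimp only [Iso.refl_hom]
          erw [Category.id_comp])
    all_goals rfl
  · rw [quasiIsoAt_iff_exactAt']
    · apply resCx_exactAt_succ
    · apply ChainComplex.exactAt_succ_single_obj⟩

end Res


variable {X : Scheme.{u}}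

/-! ### good covers -/

theorem exists_goodCover (hX : KRR.HasEnoughLocFree X) (A : CohObj X) :
    ∃ C : Cover A, FlatMod.IsFinLocFree A.K → IsIso C.p := by
  by_cases h : FlatMod.IsFinLocFree A.K
  · exact ⟨⟨A.K, 𝟙 _, h, inferInstance⟩, fun _ => (inferInstance : IsIso (𝟙 A.K))⟩
  · exact ⟨coverOf hX A, fun h' => absurd h' h⟩

/-- a cover which is the identity when possible -/
noncomputable def goodCover (hX : KRR.HasEnoughLocFree X) (A : CohObj X) : Cover A :=
  (exists_goodCover hX A).choose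

theorem goodCover_iso (hX : KRR.HasEnoughLocFree X) (A : CohObj X)
    (h : FlatMod.IsFinLocFree A.K) : IsIso (goodCover hX A).p :=
  (exists_goodCover hX A).choose_spec h

section Good

variable [IsLocallyNoetherian X] (c : ∀ A : CohObj X, Cover A)
  (hc : ∀ B : CohObj X, FlatMod.IsFinLocFree B.K → IsIso (c B).p) (A : CohObj X)

include hc in
theorem isZero_syz (N : ℕ) (hN : FlatMod.IsFinLocFree (syz c A N).K) :
    ∀ j : ℕ, IsZero (syz c A (N + 1 + j)).K := by
  intro j
  induction j with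
  | zero => exact isZero_nextSyz_of_isIso c _ (hc _ hN)
  | succ j ih =>
    exact isZero_nextSyz_of_isIso c _ (hc _ (PerfLib.isFinLocFree_of_isZero ih))

include hc in
theorem isZero_resX (N : ℕ) (hN : FlatMod.IsFinLocFree (syz c A N).K) (i : ℕ) (hi : N < i) :
    IsZero (resX c A i) := by
  obtain ⟨j, rfl⟩ : ∃ j, i = N + 1 + j := ⟨i - N - 1, by omega⟩
  have hz := isZero_syz c hc A N hN j
  have hiso : IsIso (c (syz c A (N + 1 + j))).p := hc _ (PerfLib.isFinLocFree_of_isZero hz)
  exact IsZero.of_iso hz (@asIso _ _ _ _ _ hiso)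

end Good

/-- a coherent module with stalkwise bounded projective dimension has a finite resolution -/
theorem hasLFRes_of_pdLT [IsLocallyNoetherian X] (hX : KRR.HasEnoughLocFree X) (M : X.Modules)
    (hM : Coh.IsCoh M) (N : ℕ) (h : PdLT M (N + 1)) : KRR.HasLFRes M := by
  let A : CohObj X := ⟨M, hM⟩
  have hN : FlatMod.IsFinLocFree (syz (goodCover hX) A N).K :=
    isFinLocFree_of_pdLT_one _ (syz (goodCover hX) A N).h
      (fun x => syz_pdLTAt_one (goodCover hX) x N A (h x))
  exact ⟨N, resCx (goodCover hX) A, resπ (goodCover hX) A,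
    ⟨fun i => ((goodCover hX) (syz (goodCover hX) A i)).flf,
     isZero_resX (goodCover hX) (goodCover_iso hX) A N hN, inferInstance⟩⟩

/-- the stalks of a module with a finite resolution have bounded projective dimension -/
theorem exists_pdLT_of_hasLFRes [IsLocallyNoetherian X] (M : X.Modules) (h : KRR.HasLFRes M) :
    ∃ N : ℕ, PdLT M (N + 1) := by
  obtain ⟨n, L, π, hflf, hzero, hqi⟩ := h
  haveI := hqi
  have hex : ∀ i, 1 ≤ i → L.ExactAt i := by
    intro i hi
    obtain ⟨j, rfl⟩ : ∃ j, i = j + 1 := ⟨i - 1, by omega⟩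
    exact (quasiIsoAt_iff_exactAt' π (j + 1)
      (ChainComplex.exactAt_succ_single_obj _ _)).1 inferInstance
  have e : L.homology 0 ≅ M := asIso (HomologicalComplex.homologyMap π 0) ≪≫
    HomologicalComplex.singleObjHomologySelfIso (ComplexShape.down ℕ) 0 M
  have hz : IsZero (L.cycles (n + 1)) := IsZero.of_mono (L.iCycles (n + 1)) (hzero (n + 1) (by omega))
  have key : ∀ k i : ℕ, i + k = n + 1 → 1 ≤ i → PdLT (L.cycles i) (k + 1) := by
    intro k
    induction k with
    | zero =>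
      intro i hi _
      obtain rfl : i = n + 1 := by omega
      exact pdLT_one_of_isFinLocFree _ (PerfLib.isFinLocFree_of_isZero hz)
    | succ k ih =>
      intro i hi h1
      have h := ih (i + 1) (by omega) (by omega)
      exact pdLT_X₃ (cycSC L i) (cycSC_shortExact L i (hex i h1)) (hflf (i + 1)) (k + 1)
        (by omega) h
  have h1 : PdLT (L.cycles 1) (n + 1) := key n 1 (by omega) le_rfl
  have h2 : PdLT (kernel (L.toCycles 1 0)) (n + 1) := pdLT_of_iso (cyclesOneIso L) _ h1
  have h3 : PdLT (kernel (L.homologyπ 0)) (n + 1 + 1) :=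
    pdLT_X₃ (kerSC (sc₀ L)) (kerSC_shortExact _ (sc₀_exact L)) (hflf 1) (n + 1) (by omega) h2
  have hc0 : FlatMod.IsFinLocFree (L.cycles 0) :=
    FinLocFree2.isFinLocFree_of_iso L.cycles₀Iso.symm (hflf 0)
  have h4 : PdLT (L.homology 0) (n + 1 + 1 + 1) :=
    pdLT_X₃ _ (shortExact_kernel (L.homologyπ 0)) hc0 (n + 1 + 1) (by omega) h3
  exact ⟨n + 2, pdLT_of_iso e _ h4⟩

theorem pdLT_X₁_gen (T : ShortComplex X.Modules) (hT : T.ShortExact) (n : ℕ)
    (h2 : PdLT T.X₂ n) (h3 : PdLT T.X₃ (n + 1)) : PdLT T.X₁ n := by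
  intro x
  have hS := stalkSC_shortExact T hT x
  exact hS.hasProjectiveDimensionLT_X₁ n (h2 x) (h3 x)

theorem flf_cycles_of_pdLT [IsLocallyNoetherian X] (A : X.Modules) (N : ℕ)
    (hN : PdLT A (N + 1)) (L : ChainComplex X.Modules ℕ)
    (hL : ∀ i, FlatMod.IsFinLocFree (L.X i))
    (hex : ∀ i, 1 ≤ i → L.ExactAt i) (e : L.homology 0 ≅ A) :
    FlatMod.IsFinLocFree (L.cycles (N + 1)) := by
  have h0 : PdLT (L.homology 0) (N + 1) := pdLT_of_iso e.symm _ hN
  have h1 := pdLT_cycles L hL hex N h0 N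
  rw [Nat.sub_self] at h1
  exact isFinLocFree_of_pdLT_one _ (isCoh_cycles_succ L hL N) h1

theorem resolvable_closedUnderIso [IsLocallyNoetherian X] (hX : KRR.HasEnoughLocFree X) :
    ObjectProperty.IsClosedUnderIsomorphisms
      (fun M : X.Modules => Coh.IsCoh M ∧ KRR.HasLFRes M) where
  of_iso e h := by
    obtain ⟨N, hN⟩ := exists_pdLT_of_hasLFRes _ h.2
    have hc := PerfLib.isCoh_of_iso e h.1
    exact ⟨hc, hasLFRes_of_pdLT hX _ hc N (pdLT_of_iso e _ hN)⟩

/-- **`K₀` of vector bundles maps bijectively onto `K₀` of resolvable coherent modules** -/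
theorem resolvable (X : Scheme.{u}) [IsNoetherian X] (hX : KRR.HasEnoughLocFree X)
    (h : ∀ M : X.Modules, FlatMod.IsFinLocFree M → Coh.IsCoh M ∧ KRR.HasLFRes M) :
    Function.Bijective (SGA6.mapSub (𝟭 X.Modules) (KRR.vbP X)
      (fun M : X.Modules => Coh.IsCoh M ∧ KRR.HasLFRes M) h) := by
  haveI := resolvable_closedUnderIso hX
  refine Groth.Agent.S3200.result (KRR.vbP X)
    (fun M : X.Modules => Coh.IsCoh M ∧ KRR.HasLFRes M) h
    (fun S hS h1 h3 => flf_ext S hS h1 h3) ?_
    (fun S hS h2 h3 => flf_X₁ S hS h2 h3) ?_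
    (fun A B D u v hu hA hB hD => exists_cover hX A B D u v hu hA.1 hB.1 hD.1)
    ?_
  · intro S hS h1 h3
    obtain ⟨N1, hN1⟩ := exists_pdLT_of_hasLFRes _ h1.2
    obtain ⟨N3, hN3⟩ := exists_pdLT_of_hasLFRes _ h3.2
    have hc := isCoh_ext S hS h1.1 h3.1
    exact ⟨hc, hasLFRes_of_pdLT hX _ hc (max N1 N3) (pdLT_X₂ S hS _
      (pdLT_mono (by omega) hN1) (pdLT_mono (by omega) hN3))⟩
  · intro S hS h2 h3
    obtain ⟨N2, hN2⟩ := exists_pdLT_of_hasLFRes _ h2.2
    obtain ⟨N3, hN3⟩ := exists_pdLT_of_hasLFRes _ h3.2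
    have hc := isCoh_X₁ S hS h2.1 h3.1
    exact ⟨hc, hasLFRes_of_pdLT hX _ hc (max N2 N3) (pdLT_X₁_gen S hS _
      (pdLT_mono (by omega) hN2) (pdLT_mono (by omega) hN3))⟩
  · intro A hA
    obtain ⟨N, hN⟩ := exists_pdLT_of_hasLFRes _ hA.2
    exact ⟨N, fun L hL hex ⟨e⟩ => flf_cycles_of_pdLT A N hN L hL hex e⟩

end Groth.Agent.Lead.KPoinc
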