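import Mathlib
import Groth.Prelude.Def_KRR
import Groth.Agent.Lead.KRes
import Groth.Agent.Lead.KPull
import Groth.Agent.Helper9.ClImm1
import Groth.Agent.Helper8.RegSeqB
import Groth.Agent.S0019

set_option autoImplicit false
set_option linter.style.haveILetI false
set_option linter.unusedSectionVars false
set_option linter.unusedVariables false

/-!
# The push-forward on `K₀` along a regular closed immersion
-/

namespace Groth.Agent.Lead.KPush

open CategoryTheory Limits AlgebraicGeometry Opposite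
open Groth.Agent.Helper9.SkyMod4 Groth.Agent.Helper9.SkyMod5
open Groth.Agent.Lead.KPoinc Groth.Agent.Lead.SyzReg

universe u

section LocalAlg

variable {R R' : Type u} [CommRing R] [CommRing R']

/-- finite powers have bounded projective dimension -/
theorem pdLT_pi (F : ModuleCat.{u} R' ⥤ ModuleCat.{u} R) [F.Additive] (d : ℕ)
    (h1 : HasProjectiveDimensionLT (F.obj (ModuleCat.of R' R')) d) :
    ∀ r : ℕ, HasProjectiveDimensionLT (F.obj (ModuleCat.of R' (Fin r → R'))) d := by
  intro r
  induction r with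
  | zero =>
    have hz : IsZero (ModuleCat.of R' (Fin 0 → R')) := ModuleCat.isZero_of_subsingleton _
    have hz' : IsZero (F.obj (ModuleCat.of R' (Fin 0 → R'))) := F.map_isZero hz
    haveI := hz'.hasProjectiveDimensionLT_zero
    exact hasProjectiveDimensionLT_of_ge _ 0 d (Nat.zero_le _)
  | succ r ih =>
    let e₀ : (R' × (Fin r → R')) ≃ₗ[R'] (Fin (r + 1) → R') :=
      Fin.consLinearEquiv R' (fun _ : Fin (r + 1) => R')
    let e : ModuleCat.of R' (Fin (r + 1) → R') ≅
        (ModuleCat.of R' R' ⊞ ModuleCat.of R' (Fin r → R') : ModuleCat.{u} R') :=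
      e₀.symm.toModuleIso ≪≫
        (ModuleCat.biprodIsoProd (ModuleCat.of R' R') (ModuleCat.of R' (Fin r → R'))).symm
    haveI : PreservesBinaryBiproducts F := preservesBinaryBiproducts_of_preservesBiproducts F
    have e' := F.mapIso e ≪≫ F.mapBiprod _ _
    haveI := h1
    haveI := ih
    exact hasProjectiveDimensionLT_of_iso e'.symm d

variable [IsLocalRing R] [IsNoetherianRing R]

/-- the quotient by a regular sequence has finite projective dimension -/
theorem pdLT_restrictScalars_self (φ : R →+* R') (hφ : Function.Surjective φ) (rs : List R)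
    (hreg : RingTheory.Sequence.IsRegular R rs) (hker : RingHom.ker φ = Ideal.ofList rs) :
    HasProjectiveDimensionLT ((ModuleCat.restrictScalars φ).obj (ModuleCat.of R' R'))
      (rs.length + 1) := by
  have h1 : projectiveDimension (ModuleCat.of R (Shrink.{u} (R ⧸ Ideal.ofList rs))) = rs.length :=
    ModuleCat.projectiveDimension_quotient_eq_length rs hreg
  have h2 : HasProjectiveDimensionLT (ModuleCat.of R (Shrink.{u} (R ⧸ Ideal.ofList rs)))
      (rs.length + 1) := by
    rw [← projectiveDimension_lt_iff, h1]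
    exact_mod_cast Nat.lt_succ_self _
  let N := (ModuleCat.restrictScalars φ).obj (ModuleCat.of R' R')
  let g : R →ₗ[R] N := LinearMap.toSpanSingleton R N (1 : R')
  have hg : ∀ r : R, g r = φ r := by
    intro r
    change φ r * 1 = φ r
    rw [mul_one]
  have hle : Ideal.ofList rs ≤ LinearMap.ker g := by
    intro r hr
    rw [LinearMap.mem_ker, hg]
    rw [← hker] at hr
    exact hr
  let q : (R ⧸ Ideal.ofList rs) →ₗ[R] N := Submodule.liftQ _ g hle
  have hq : Function.Bijective q := by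
    constructor
    · rw [← LinearMap.ker_eq_bot, Submodule.ker_liftQ_eq_bot']
      ext r
      rw [LinearMap.mem_ker, hg, ← hker, RingHom.mem_ker]
      exact Iff.rfl
    · intro n
      obtain ⟨r, rfl⟩ := hφ n
      exact ⟨Submodule.Quotient.mk r, by rw [Submodule.liftQ_apply, hg]⟩
  let e : Shrink.{u} (R ⧸ Ideal.ofList rs) ≃ₗ[R] N :=
    (Shrink.linearEquiv R _).trans (LinearEquiv.ofBijective q hq)
  exact hasProjectiveDimensionLT_of_iso e.toModuleIso _

theorem pdLT_restrictScalars_of_free [Nontrivial R'] (φ : R →+* R')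
    (hφ : Function.Surjective φ) (rs : List R)
    (hreg : RingTheory.Sequence.IsRegular R rs) (hker : RingHom.ker φ = Ideal.ofList rs)
    (N : ModuleCat.{u} R') [Module.Free R' N] [Module.Finite R' N] :
    HasProjectiveDimensionLT ((ModuleCat.restrictScalars φ).obj N) (rs.length + 1) := by
  let b := Module.finBasis R' N
  let e : N ≅ ModuleCat.of R' (Fin (Module.finrank R' N) → R') := b.equivFun.toModuleIso
  haveI := pdLT_pi (ModuleCat.restrictScalars φ) (rs.length + 1)
    (pdLT_restrictScalars_self φ hφ rs hreg hker) (Module.finrank R' N)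
  exact hasProjectiveDimensionLT_of_iso ((ModuleCat.restrictScalars φ).mapIso e).symm _

end LocalAlg

/-! ### the Euler characteristic of a finite resolution -/

section Euler

variable {C : Type*} [Category C] [Abelian C] (P : ObjectProperty C)

theorem clSub_isZero' (Z : C) (hZ : IsZero Z) (hP : P Z) : KZero.clSub P Z = 0 := by
  have hS : (ShortComplex.mk (0 : Z ⟶ Z) (0 : Z ⟶ Z) zero_comp).ShortExact :=
    ShortComplex.ShortExact.mk' (ShortComplex.exact_of_isZero_X₂ _ hZ)
      ⟨fun g h _ => hZ.eq_of_tgt g h⟩ ⟨fun g h _ => hZ.eq_of_src g h⟩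
  have h := Groth.Agent.Helper9.ResThm.clSub_add P _ hS hP hP hP
  exact left_eq_add.mp h

theorem clSub_iso' {A B : C} (e : A ≅ B) (hA : P A) (hB : P B) (Z : C) (hZ : IsZero Z)
    (hPZ : P Z) : KZero.clSub P A = KZero.clSub P B := by
  have hS : (ShortComplex.mk e.hom (0 : B ⟶ Z) comp_zero).ShortExact :=
    ShortComplex.ShortExact.mk'
      ((ShortComplex.exact_iff_epi _ (by rfl)).mpr (by dsimp; infer_instance))
      (by dsimp; infer_instance) ⟨fun g h _ => hZ.eq_of_src g h⟩
  have h := Groth.Agent.Helper9.ResThm.clSub_add P _ hS hA hB hPZ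
  change KZero.clSub P B = KZero.clSub P A + KZero.clSub P Z at h
  rw [h, clSub_isZero' P Z hZ hPZ, add_zero]

/-- the alternating sum telescopes -/
theorem telescope {G : Type*} [AddCommGroup G] (x w : ℕ → G) (h0 : G)
    (hh : h0 = x 0 - w 0) (hw : ∀ i, x (i + 1) = w (i + 1) + w i) (m : ℕ) :
    h0 = ∑ k ∈ Finset.range (m + 1), (-1 : ℤ) ^ k • x k + (-1 : ℤ) ^ (m + 1) • w m := by
  induction m with
  | zero => simp [hh, sub_eq_add_neg]
  | succ m ih =>
    have e : (-1 : ℤ) ^ (m + 1) • w m =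
        (-1 : ℤ) ^ (m + 1) • x (m + 1) + (-1 : ℤ) ^ (m + 1 + 1) • w (m + 1) := by
      rw [hw m, pow_succ (-1 : ℤ) (m + 1), smul_add, mul_neg, mul_one, neg_smul]
      abel
    rw [Finset.sum_range_succ, add_assoc, ← e]
    exact ih

variable (h1 : ∀ S : ShortComplex C, S.ShortExact → P S.X₂ → P S.X₃ → P S.X₁)
  [P.IsClosedUnderIsomorphisms]

include h1 in
/-- **the Euler characteristic** of a finite resolution -/
theorem euler (L : ChainComplex C ℕ) (hL : ∀ i, P (L.X i)) (n : ℕ)
    (hz : ∀ i, n < i → IsZero (L.X i)) (hex : ∀ i, 1 ≤ i → L.ExactAt i)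
    (hH : P (L.homology 0)) :
    KZero.clSub P (L.homology 0) =
      ∑ k ∈ Finset.range (n + 1), (-1 : ℤ) ^ k • KZero.clSub P (L.X k) := by
  have hc0 : P (L.cycles 0) := P.prop_of_iso L.cycles₀Iso.symm (hL 0)
  have hS0 := shortExact_kernel (L.homologyπ 0)
  have hB : P (kernel (L.homologyπ 0)) := h1 _ hS0 hc0 hH
  have hS1 := kerSC_shortExact _ (sc₀_exact L)
  have hK1 : P (kernel (L.toCycles 1 0)) := h1 _ hS1 (hL 1) hB
  have hc1 : P (L.cycles 1) := P.prop_of_iso (cyclesOneIso L).symm hK1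
  have hcyc : ∀ i : ℕ, P (L.cycles (i + 1)) := by
    intro i
    induction i with
    | zero => exact hc1
    | succ i ih => exact h1 _ (cycSC_shortExact L (i + 1) (hex _ (by omega))) (hL _) ih
  -- the zero objects
  have hZ : IsZero (L.X (n + 1)) := hz _ (by omega)
  have hZc : IsZero (L.cycles (n + 1)) := IsZero.of_mono (L.iCycles (n + 1)) hZ
  -- the relations
  let x : ℕ → KZero.K0sub P := fun k => KZero.clSub P (L.X k)
  let w : ℕ → KZero.K0sub P := fun k =>
    match k with
    | 0 => KZero.clSub P (kernel (L.homologyπ 0))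
    | (k + 1) => KZero.clSub P (L.cycles (k + 1))
  have hh : KZero.clSub P (L.homology 0) = x 0 - w 0 := by
    have h := Groth.Agent.Helper9.ResThm.clSub_add P _ hS0 hB hc0 hH
    have h' := clSub_iso' P L.cycles₀Iso hc0 (hL 0) _ hZ (hL _)
    change KZero.clSub P (L.cycles 0) = KZero.clSub P (kernel (L.homologyπ 0)) +
      KZero.clSub P (L.homology 0) at h
    change _ = KZero.clSub P (L.X 0) - KZero.clSub P (kernel (L.homologyπ 0))
    rw [← h', h]
    abel
  have hw : ∀ i, x (i + 1) = w (i + 1) + w i := by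
    intro i
    cases i with
    | zero =>
      have h := Groth.Agent.Helper9.ResThm.clSub_add P _ hS1 hK1 (hL 1) hB
      have h' := clSub_iso' P (cyclesOneIso L) hc1 hK1 _ hZ (hL _)
      change KZero.clSub P (L.X 1) = KZero.clSub P (kernel (L.toCycles 1 0)) +
        KZero.clSub P (kernel (L.homologyπ 0)) at h
      change KZero.clSub P (L.X 1) = KZero.clSub P (L.cycles 1) +
        KZero.clSub P (kernel (L.homologyπ 0))
      rw [h', h]
    | succ i =>
      have h := Groth.Agent.Helper9.ResThm.clSub_add P _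
        (cycSC_shortExact L (i + 1) (hex _ (by omega))) (hcyc (i + 1)) (hL _) (hcyc i)
      exact h
  have key := telescope x w _ hh hw n
  have hwn : w n = 0 := by
    have h2 := hw n
    have hx : x (n + 1) = 0 := clSub_isZero' P _ hZ (hL _)
    have hwn1 : w (n + 1) = 0 := clSub_isZero' P _ hZc (hcyc n)
    rw [hx, hwn1, zero_add] at h2
    exact h2.symm
  rw [key, hwn, smul_zero, add_zero]

end Euler

/-! ### the direct image of a finite locally free module along a regular closed immersion -/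

section Push

open Groth.Agent.Helper4 Groth.Agent.Helper9.ClImm1

/-- the uniform bound on projective dimensions, from pointwise bounds -/
theorem exists_pdLT_of_pointwise {X : Scheme.{u}} [IsNoetherian X]
    (hX : KRR.HasEnoughLocFree X) (A : X.Modules) (hA : Coh.IsCoh A)
    (hloc : ∀ x : X, ∃ d : ℕ, PdLTAt A x (d + 1)) :
    ∃ N : ℕ, PdLT A (N + 1) := by
  let A₀ : CohObj X := ⟨A, hA⟩
  let c := coverOf hX
  let U : ℕ → Set X := fun n =>
    {x : X | Module.Free (X.presheaf.stalk x) ((syz c A₀ n).K.presheaf.stalk x)}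
  have hUo : ∀ n, IsOpen (U n) := fun n => isOpen_free_locus _ (syz c A₀ n).h
  have hmono : ∀ n, U n ⊆ U (n + 1) := by
    intro n x hx
    have h1 : PdLTAt (syz c A₀ n).K x 2 :=
      pdLTAt_mono (by omega) (pdLTAt_one_of_free _ x hx)
    have h2 := nextSyz_pdLTAt c (syz c A₀ n) x 1 le_rfl h1
    exact free_of_pdLTAt_one _ (nextSyz c (syz c A₀ n)).h x h2
  have hmono' : Monotone U := monotone_nat_of_le_succ hmono
  have hcov : (Set.univ : Set X) ⊆ ⋃ n, U n := by
    intro x _
    obtain ⟨d, h0⟩ := hloc x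
    have h1 := syz_pdLTAt_one c x d A₀ h0
    exact Set.mem_iUnion.mpr ⟨d, free_of_pdLTAt_one _ (syz c A₀ d).h x h1⟩
  obtain ⟨N, hN⟩ := isCompact_univ.elim_directed_cover U hUo hcov
    (directed_of_isDirected_le hmono')
  refine ⟨N, pdLT_of_syz c N A₀ ?_⟩
  intro x
  exact pdLTAt_one_of_free _ x (hN (Set.mem_univ x))

variable {X Y : Scheme.{u}} (i : X ⟶ Y)

theorem pdLTAt_push [IsLocallyNoetherian Y] (hi : Mor2.IsRegularClosedImmersion i)
    (F : X.Modules) (hF : FlatMod.IsFinLocFree F) (y : Y) :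
    ∃ d : ℕ, PdLTAt ((Scheme.Modules.pushforward i).obj F) y (d + 1) := by
  haveI : IsClosedImmersion i := hi.1
  have hcoh := Groth.Agent.Lead.PerfLib.isCoh_of_isFinLocFree hF
  haveI : F.IsQuasicoherent := hcoh.1
  by_cases hy : y ∈ Set.range i.base
  · obtain ⟨z, rfl⟩ := hy
    obtain ⟨rs, hreg, hker⟩ := Groth.Agent.Helper8.RegSeqB.stalk_of_regAt i z
      (((Groth.Agent.Helper8.RegSeqB.isRegularClosedImmersion_iff i).1 hi).2 z)
    haveI : Module.Free (X.presheaf.stalk z) ((St z).obj F) :=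
      FinLocFree2.free_stalk_of_isFinLocFree F hF z
    haveI : Module.Finite (X.presheaf.stalk z) ((St z).obj F) :=
      FinLocFree2.finite_stalk F hcoh.2 z
    have h1 := pdLT_restrictScalars_of_free (i.stalkMap z).hom (i.stalkMap_surjective z) rs hreg
      hker ((St z).obj F)
    have e := (pushStalkIso i (isClosedEmbedding i).isInducing z).app F
    haveI h1' : HasProjectiveDimensionLT
        ((St z ⋙ ModuleCat.restrictScalars (i.stalkMap z).hom).obj F) (rs.length + 1) := h1
    exact ⟨rs.length, hasProjectiveDimensionLT_of_iso e.symm _⟩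
  · haveI := subsingleton_stalk i (isClosedEmbedding i).isClosed_range F y hy
    have hz : IsZero (ModuleCat.of (Y.presheaf.stalk y)
        (((Scheme.Modules.pushforward i).obj F).presheaf.stalk y)) :=
      ModuleCat.isZero_of_subsingleton _
    haveI := hz.hasProjectiveDimensionLT_zero
    exact ⟨0, hasProjectiveDimensionLT_of_ge _ 0 1 (Nat.zero_le _)⟩

/-- the direct image of a finite locally free module along a regular closed immersion is a
coherent module with a finite resolution -/
theorem resolvable_push [IsNoetherian Y] (hYe : KRR.HasEnoughLocFree Y)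
    (hi : Mor2.IsRegularClosedImmersion i) (F : X.Modules) (hF : FlatMod.IsFinLocFree F) :
    Coh.IsCoh ((Scheme.Modules.pushforward i).obj F) ∧
      KRR.HasLFRes ((Scheme.Modules.pushforward i).obj F) := by
  haveI : IsClosedImmersion i := hi.1
  have hc : Coh.IsCoh ((Scheme.Modules.pushforward i).obj F) :=
    Groth.Agent.S0019.result i F (Groth.Agent.Lead.PerfLib.isCoh_of_isFinLocFree hF)
  obtain ⟨N, hN⟩ := exists_pdLT_of_pointwise hYe _ hc (pdLTAt_push i hi F hF)
  exact ⟨hc, hasLFRes_of_pdLT hYe _ hc N hN⟩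

end Push

/-! ### the push-forward on `K₀` -/

section PushK

open Groth.Agent.Helper4 Groth.Agent.Helper9.ClImm1

/-- coherent modules with a finite resolution by finite locally free modules -/
abbrev P₁ (Y : Scheme.{u}) : ObjectProperty Y.Modules :=
  fun M => Coh.IsCoh M ∧ KRR.HasLFRes M

theorem mapSub_id_clSub {C : Type*} [Category C] [Abelian C] (P₀ Q : ObjectProperty C)
    (h : ∀ M, P₀ M → Q M) (E : C) (hE : P₀ E) :
    SGA6.mapSub (𝟭 C) P₀ Q h (KZero.clSub P₀ E) = KZero.clSub Q E := by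
  classical
  unfold KZero.clSub
  rw [dif_pos hE, dif_pos (h E hE)]
  rfl

variable {X Y : Scheme.{u}}

theorem P₁_of_flf [IsNoetherian Y] (hYe : KRR.HasEnoughLocFree Y) (M : Y.Modules)
    (hM : FlatMod.IsFinLocFree M) : P₁ Y M :=
  ⟨Groth.Agent.Lead.PerfLib.isCoh_of_isFinLocFree hM,
    hasLFRes_of_pdLT hYe M (Groth.Agent.Lead.PerfLib.isCoh_of_isFinLocFree hM) 0
      (pdLT_one_of_isFinLocFree M hM)⟩

theorem P₁_X₁ [IsNoetherian Y] (hYe : KRR.HasEnoughLocFree Y) (S : ShortComplex Y.Modules)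
    (hS : S.ShortExact) (h2 : P₁ Y S.X₂) (h3 : P₁ Y S.X₃) : P₁ Y S.X₁ := by
  obtain ⟨N2, hN2⟩ := exists_pdLT_of_hasLFRes _ h2.2
  obtain ⟨N3, hN3⟩ := exists_pdLT_of_hasLFRes _ h3.2
  have hc := isCoh_X₁ S hS h2.1 h3.1
  exact ⟨hc, hasLFRes_of_pdLT hYe _ hc (max N2 N3) (pdLT_X₁_gen S hS _
    (pdLT_mono (by omega) hN2) (pdLT_mono (by omega) hN3))⟩

/-- the Euler characteristic of a finite locally free resolution in `K₀(P₁)` -/
theorem clSub_eq_sum_of_isLFRes [IsNoetherian Y] (hYe : KRR.HasEnoughLocFree Y) (M : Y.Modules)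
    (hM : P₁ Y M) (n : ℕ) (L : ChainComplex Y.Modules ℕ)
    (π : L ⟶ (ChainComplex.single₀ Y.Modules).obj M) (hres : KRR.IsLFRes M n L π) :
    KZero.clSub (P₁ Y) M =
      ∑ k ∈ Finset.range (n + 1), (-1 : ℤ) ^ k • KZero.clSub (P₁ Y) (L.X k) := by
  obtain ⟨hflf, hzero, hqi⟩ := hres
  haveI := hqi
  haveI := resolvable_closedUnderIso hYe
  have hex : ∀ i, 1 ≤ i → L.ExactAt i := by
    intro i hi
    obtain ⟨j, rfl⟩ : ∃ j, i = j + 1 := ⟨i - 1, by omega⟩
    exact (quasiIsoAt_iff_exactAt' π (j + 1)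
      (ChainComplex.exactAt_succ_single_obj _ _)).1 inferInstance
  have e : L.homology 0 ≅ M := asIso (HomologicalComplex.homologyMap π 0) ≪≫
    HomologicalComplex.singleObjHomologySelfIso (ComplexShape.down ℕ) 0 M
  have hL : ∀ i, P₁ Y (L.X i) := fun i => P₁_of_flf hYe _ (hflf i)
  have hH : P₁ Y (L.homology 0) := (P₁ Y).prop_of_iso e.symm hM
  have h := euler (P₁ Y) (fun S hS h2 h3 => P₁_X₁ hYe S hS h2 h3) L hL n hzero hex hH
  rw [← h]
  exact (clSub_iso' (P₁ Y) e hH hM (L.X (n + 1)) (hzero _ (by omega)) (hL _)).symm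

variable (i : X ⟶ Y)

/-- the push-forward `K₀(vb X) → K₀(P₁ Y)` -/
noncomputable def pushK [IsNoetherian Y] (hYe : KRR.HasEnoughLocFree Y)
    (hi : Mor2.IsRegularClosedImmersion i) : SGA6.Kvb X →+ KZero.K0sub (P₁ Y) :=
  QuotientAddGroup.lift (KZero.relSub (KRR.vbP X))
    (FreeAbelianGroup.lift (fun E : Subtype (KRR.vbP X) =>
      KZero.clSub (P₁ Y) ((Scheme.Modules.pushforward i).obj E.1))) (by
    haveI : IsClosedImmersion i := hi.1
    haveI : (Scheme.Modules.pushforward i).Additive :=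
      (Scheme.Modules.pullbackPushforwardAdjunction i).right_adjoint_additive
    rw [KZero.relSub, AddSubgroup.closure_le]
    rintro _ ⟨S, h1, h2, h3, hS, rfl⟩
    rw [SetLike.mem_coe, AddMonoidHom.mem_ker, map_sub, map_sub, FreeAbelianGroup.lift_apply_of,
      FreeAbelianGroup.lift_apply_of, FreeAbelianGroup.lift_apply_of]
    have hS' : (S.map (Scheme.Modules.pushforward i)).ShortExact :=
      hS.map_of_exact (Scheme.Modules.pushforward i)
    have h := Groth.Agent.Helper9.ResThm.clSub_add (P₁ Y) _ hS'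
      (resolvable_push i hYe hi _ h1) (resolvable_push i hYe hi _ h2)
      (resolvable_push i hYe hi _ h3)
    change KZero.clSub (P₁ Y) ((Scheme.Modules.pushforward i).obj S.X₂) =
      KZero.clSub (P₁ Y) ((Scheme.Modules.pushforward i).obj S.X₁) +
        KZero.clSub (P₁ Y) ((Scheme.Modules.pushforward i).obj S.X₃) at h
    rw [h]
    abel)

theorem pushK_cl [IsNoetherian Y] (hYe : KRR.HasEnoughLocFree Y)
    (hi : Mor2.IsRegularClosedImmersion i) (E : X.Modules) (hE : FlatMod.IsFinLocFree E) :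
    pushK i hYe hi (KRR.cl X E) = KZero.clSub (P₁ Y) ((Scheme.Modules.pushforward i).obj E) := by
  rw [Groth.Agent.Lead.KPull.cl_eq_mk E hE]
  unfold pushK
  rw [QuotientAddGroup.lift_mk, FreeAbelianGroup.lift_apply_of]

/-- the inverse of the comparison `K₀(vb Y) ≃ K₀(P₁ Y)` -/
noncomputable def resEquiv [IsNoetherian Y] (hYe : KRR.HasEnoughLocFree Y) :
    SGA6.Kvb Y ≃+ KZero.K0sub (P₁ Y) :=
  AddEquiv.ofBijective (SGA6.mapSub (𝟭 Y.Modules) (KRR.vbP Y) (P₁ Y) (P₁_of_flf hYe))
    (resolvable Y hYe (P₁_of_flf hYe))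

theorem resEquiv_cl [IsNoetherian Y] (hYe : KRR.HasEnoughLocFree Y) (E : Y.Modules)
    (hE : FlatMod.IsFinLocFree E) : resEquiv hYe (KRR.cl Y E) = KZero.clSub (P₁ Y) E :=
  mapSub_id_clSub (KRR.vbP Y) (P₁ Y) (P₁_of_flf hYe) E hE

/-- the class of a resolvable module in `K₀(vb)` -/
theorem resEquiv_symm_clSub [IsNoetherian Y] (hYe : KRR.HasEnoughLocFree Y) (M : Y.Modules)
    (hM : P₁ Y M) (n : ℕ) (L : ChainComplex Y.Modules ℕ)
    (π : L ⟶ (ChainComplex.single₀ Y.Modules).obj M) (hres : KRR.IsLFRes M n L π) :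
    (resEquiv hYe).symm (KZero.clSub (P₁ Y) M) =
      ∑ k ∈ Finset.range (n + 1), (-1 : ℤ) ^ k • KRR.cl Y (L.X k) := by
  rw [AddEquiv.symm_apply_eq, map_sum, clSub_eq_sum_of_isLFRes hYe M hM n L π hres]
  refine Finset.sum_congr rfl fun k _ => ?_
  rw [map_zsmul, resEquiv_cl hYe _ (hres.finLocFree k)]

/-- **existence and uniqueness of the push-forward along a regular closed immersion** -/
theorem existsUnique_isPushCl [IsNoetherian Y] (hYe : KRR.HasEnoughLocFree Y)
    (hi : Mor2.IsRegularClosedImmersion i) {KX KY : Type*} [CommRing KX] [CommRing KY]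
    (φX : SGA6.Kvb X →+ KX) (φY : SGA6.Kvb Y →+ KY) (hX : Function.Bijective φX) :
    ∃! h : KX →+ KY, KRR.IsPushCl i φX φY h := by
  let eX : SGA6.Kvb X ≃+ KX := AddEquiv.ofBijective φX hX
  have heX : ∀ w, eX w = φX w := fun w => rfl
  let g₀ : SGA6.Kvb X →+ KY :=
    φY.comp ((resEquiv hYe).symm.toAddMonoidHom.comp (pushK i hYe hi))
  have hg₀ : ∀ F : X.Modules, FlatMod.IsFinLocFree F → ∀ (n : ℕ) (L : ChainComplex Y.Modules ℕ)
      (π : L ⟶ (ChainComplex.single₀ Y.Modules).obj ((Scheme.Modules.pushforward i).obj F)),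
      KRR.IsLFRes ((Scheme.Modules.pushforward i).obj F) n L π →
      g₀ (KRR.cl X F) = ∑ k ∈ Finset.range (n + 1), (-1 : ℤ) ^ k • φY (KRR.cl Y (L.X k)) := by
    intro F hF n L π hres
    change φY ((resEquiv hYe).symm (pushK i hYe hi (KRR.cl X F))) = _
    rw [pushK_cl i hYe hi F hF,
      resEquiv_symm_clSub hYe _ (resolvable_push i hYe hi F hF) n L π hres, map_sum]
    refine Finset.sum_congr rfl fun k _ => ?_
    rw [map_zsmul]
  refine ⟨g₀.comp eX.symm.toAddMonoidHom, ?_, ?_⟩
  · intro F hF n L π hres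
    change g₀ (eX.symm (φX (KRR.cl X F))) = _
    rw [← heX, AddEquiv.symm_apply_apply]
    exact hg₀ F hF n L π hres
  · intro g hg
    have h1 : g.comp φX = g₀ := by
      apply Groth.Agent.Lead.KPull.hom_ext_of_cl
      intro F hF
      obtain ⟨n, L, π, hres⟩ := (resolvable_push i hYe hi F hF).2
      change g (φX (KRR.cl X F)) = g₀ (KRR.cl X F)
      rw [hg F hF n L π hres, hg₀ F hF n L π hres]
    refine AddMonoidHom.ext fun z => ?_
    obtain ⟨w, rfl⟩ := hX.surjective z
    change g (φX w) = g₀ (eX.symm (φX w))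
    rw [← heX, AddEquiv.symm_apply_apply, ← h1]
    rfl

end PushK

end Groth.Agent.Lead.KPush
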