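import Mathlib
import Groth.Agent.Lead.KPush
import Groth.Agent.S1661

set_option autoImplicit false
set_option linter.style.haveILetI false
set_option linter.unusedSectionVars false
set_option linter.unusedVariables false

/-!
# Functoriality of the push-forward on `K₀` along regular closed immersions
-/

namespace Groth.Agent.Lead.KPush

open CategoryTheory Limits AlgebraicGeometry Opposite
open Groth.Agent.Helper9.SkyMod4 Groth.Agent.Helper9.SkyMod5
open Groth.Agent.Lead.KPoinc Groth.Agent.Lead.SyzReg
open Groth.Agent.Helper4 Groth.Agent.Helper9.ClImm1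

universe u

variable {X Y Z : Scheme.{u}}

/-- the value of a push-forward on a class -/
theorem pushCl_apply [IsNoetherian Y] (hYe : KRR.HasEnoughLocFree Y) (i : X ⟶ Y)
    (hi : Mor2.IsRegularClosedImmersion i) {KX KY : Type*} [CommRing KX] [CommRing KY]
    (φX : SGA6.Kvb X →+ KX) (φY : SGA6.Kvb Y →+ KY) (h : KX →+ KY)
    (hh : KRR.IsPushCl i φX φY h) (F : X.Modules) (hF : FlatMod.IsFinLocFree F) :
    h (φX (KRR.cl X F)) =
      φY ((resEquiv hYe).symm (KZero.clSub (P₁ Y) ((Scheme.Modules.pushforward i).obj F))) := by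
  obtain ⟨n, L, π, hres⟩ := (resolvable_push i hYe hi F hF).2
  rw [hh F hF n L π hres,
    resEquiv_symm_clSub hYe _ (resolvable_push i hYe hi F hF) n L π hres, map_sum]
  refine Finset.sum_congr rfl fun k _ => ?_
  rw [map_zsmul]

section Comp

variable (g : Y ⟶ Z) [IsClosedImmersion g]

/-- the direct image of a chain complex -/
noncomputable abbrev pushCx (M : ChainComplex Y.Modules ℕ) : ChainComplex Z.Modules ℕ :=
  haveI : (Scheme.Modules.pushforward g).Additive :=
    (Scheme.Modules.pullbackPushforwardAdjunction g).right_adjoint_additive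
  ((Scheme.Modules.pushforward g).mapHomologicalComplex (ComplexShape.down ℕ)).obj M

/-- the direct image along a closed immersion commutes with homology -/
noncomputable def pushCxHomologyIso (M : ChainComplex Y.Modules ℕ) (j : ℕ) :
    (pushCx g M).homology j ≅ (Scheme.Modules.pushforward g).obj (M.homology j) :=
  haveI : (Scheme.Modules.pushforward g).Additive :=
    (Scheme.Modules.pullbackPushforwardAdjunction g).right_adjoint_additive
  (M.sc j).mapHomologyIso (Scheme.Modules.pushforward g)

theorem pushCx_exactAt (M : ChainComplex Y.Modules ℕ) (j : ℕ) (h : M.ExactAt j) :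
    (pushCx g M).ExactAt j := by
  haveI : (Scheme.Modules.pushforward g).Additive :=
    (Scheme.Modules.pullbackPushforwardAdjunction g).right_adjoint_additive
  rw [HomologicalComplex.exactAt_iff_isZero_homology] at h ⊢
  exact IsZero.of_iso ((Scheme.Modules.pushforward g).map_isZero h) (pushCxHomologyIso g M j)

end Comp

/-- the class of the direct image along a composite -/
theorem clSub_push_comp [IsNoetherian Y] [IsNoetherian Z] (hYe : KRR.HasEnoughLocFree Y)
    (hZe : KRR.HasEnoughLocFree Z) (f : X ⟶ Y) (g : Y ⟶ Z)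
    (hf : Mor2.IsRegularClosedImmersion f) (hg : Mor2.IsRegularClosedImmersion g)
    (F : X.Modules) (hF : FlatMod.IsFinLocFree F) (n : ℕ) (M : ChainComplex Y.Modules ℕ)
    (π : M ⟶ (ChainComplex.single₀ Y.Modules).obj ((Scheme.Modules.pushforward f).obj F))
    (hres : KRR.IsLFRes ((Scheme.Modules.pushforward f).obj F) n M π) :
    KZero.clSub (P₁ Z) ((Scheme.Modules.pushforward (f ≫ g)).obj F) =
      ∑ k ∈ Finset.range (n + 1), (-1 : ℤ) ^ k •
        KZero.clSub (P₁ Z) ((Scheme.Modules.pushforward g).obj (M.X k)) := by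
  haveI : IsClosedImmersion g := hg.1
  haveI : (Scheme.Modules.pushforward g).Additive :=
    (Scheme.Modules.pullbackPushforwardAdjunction g).right_adjoint_additive
  haveI := resolvable_closedUnderIso hZe
  obtain ⟨hflf, hzero, hqi⟩ := hres
  haveI := hqi
  have hex : ∀ i, 1 ≤ i → M.ExactAt i := by
    intro i hi
    obtain ⟨j, rfl⟩ : ∃ j, i = j + 1 := ⟨i - 1, by omega⟩
    exact (quasiIsoAt_iff_exactAt' π (j + 1)
      (ChainComplex.exactAt_succ_single_obj _ _)).1 inferInstance
  have e : M.homology 0 ≅ (Scheme.Modules.pushforward f).obj F :=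
    asIso (HomologicalComplex.homologyMap π 0) ≪≫
      HomologicalComplex.singleObjHomologySelfIso (ComplexShape.down ℕ) 0 _
  have hfg : Mor2.IsRegularClosedImmersion (f ≫ g) := Groth.Agent.S1661.result f g hf hg
  have hFfg : P₁ Z ((Scheme.Modules.pushforward (f ≫ g)).obj F) :=
    resolvable_push (f ≫ g) hZe hfg F hF
  have e' : (pushCx g M).homology 0 ≅ (Scheme.Modules.pushforward (f ≫ g)).obj F :=
    pushCxHomologyIso g M 0 ≪≫ (Scheme.Modules.pushforward g).mapIso e ≪≫
      (Scheme.Modules.pushforwardComp f g).app F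
  have hL : ∀ k, P₁ Z ((pushCx g M).X k) := fun k => resolvable_push g hZe hg _ (hflf k)
  have hH : P₁ Z ((pushCx g M).homology 0) := (P₁ Z).prop_of_iso e'.symm hFfg
  have hz : ∀ k, n < k → IsZero ((pushCx g M).X k) :=
    fun k hk => (Scheme.Modules.pushforward g).map_isZero (hzero k hk)
  have h := euler (P₁ Z) (fun S hS h2 h3 => P₁_X₁ hZe S hS h2 h3) (pushCx g M) hL n hz
    (fun k hk => pushCx_exactAt g M k (hex k hk)) hH
  rw [← clSub_iso' (P₁ Z) e' hH hFfg _ (hz (n + 1) (by omega)) (hL _), h]
  rfl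

/-- **the push-forward along a composite of regular closed immersions** -/
theorem pushCl_comp [IsNoetherian Y] [IsNoetherian Z] (hYe : KRR.HasEnoughLocFree Y)
    (hZe : KRR.HasEnoughLocFree Z) (f : X ⟶ Y) (g : Y ⟶ Z)
    (hf : Mor2.IsRegularClosedImmersion f) (hg : Mor2.IsRegularClosedImmersion g)
    {KX KY KZ : Type*} [CommRing KX] [CommRing KY] [CommRing KZ]
    (φX : SGA6.Kvb X →+ KX) (hX : Function.Bijective φX) (φY : SGA6.Kvb Y →+ KY)
    (φZ : SGA6.Kvb Z →+ KZ)
    (a : KX →+ KY) (ha : KRR.IsPushCl f φX φY a) (b : KY →+ KZ) (hb : KRR.IsPushCl g φY φZ b)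
    (c : KX →+ KZ) (hc : KRR.IsPushCl (f ≫ g) φX φZ c) : c = b.comp a := by
  have hfg : Mor2.IsRegularClosedImmersion (f ≫ g) := Groth.Agent.S1661.result f g hf hg
  have h1 : c.comp φX = (b.comp a).comp φX := by
    apply Groth.Agent.Lead.KPull.hom_ext_of_cl
    intro F hF
    change c (φX (KRR.cl X F)) = b (a (φX (KRR.cl X F)))
    obtain ⟨n, M, π, hres⟩ := (resolvable_push f hYe hf F hF).2
    rw [pushCl_apply hZe (f ≫ g) hfg φX φZ c hc F hF, ha F hF n M π hres, map_sum,
      clSub_push_comp hYe hZe f g hf hg F hF n M π hres, map_sum, map_sum]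
    refine Finset.sum_congr rfl fun k _ => ?_
    rw [map_zsmul, map_zsmul, map_zsmul, pushCl_apply hZe g hg φY φZ b hb _ (hres.finLocFree k)]
  refine AddMonoidHom.ext fun z => ?_
  obtain ⟨w, rfl⟩ := hX.surjective z
  exact DFunLike.congr_fun h1 w

end Groth.Agent.Lead.KPush
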