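import Mathlib
import Groth.Agent.Lead.KPush2

set_option autoImplicit false
set_option linter.style.haveILetI false
set_option linter.unusedSectionVars false
set_option linter.unusedVariables false

/-!
# Pull-back of a push-forward along a morphism missing the closed subscheme
-/

namespace Groth.Agent.Lead.KPush

open CategoryTheory Limits AlgebraicGeometry Opposite
open Groth.Agent.Helper9.SkyMod4 Groth.Agent.Helper9.SkyMod5
open Groth.Agent.Lead.KPoinc Groth.Agent.Lead.SyzReg
open Groth.Agent.Helper4 Groth.Agent.Helper9.ClImm1 Groth.Agent.Lead.KPull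

universe u

variable {P M Z : Scheme.{u}}

section Flat

variable {U : Scheme.{u}} (j : U ⟶ M) [Flat j]

/-- the inverse image of a chain complex along a flat morphism -/
noncomputable abbrev pullCx (L : ChainComplex M.Modules ℕ) : ChainComplex U.Modules ℕ :=
  haveI : (Scheme.Modules.pullback j).Additive :=
    (Scheme.Modules.pullbackPushforwardAdjunction j).left_adjoint_additive
  ((Scheme.Modules.pullback j).mapHomologicalComplex (ComplexShape.down ℕ)).obj L

theorem preservesFiniteColimits_pullback :
    PreservesFiniteColimits (Scheme.Modules.pullback j) :=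
  haveI : PreservesColimitsOfSize.{0, 0} (Scheme.Modules.pullback j) :=
    (Scheme.Modules.pullbackPushforwardAdjunction j).leftAdjoint_preservesColimits
  PreservesColimitsOfSize.preservesFiniteColimits _

/-- flat inverse image commutes with homology -/
noncomputable def pullCxHomologyIso (L : ChainComplex M.Modules ℕ) (i : ℕ) :
    (pullCx j L).homology i ≅ (Scheme.Modules.pullback j).obj (L.homology i) :=
  haveI : (Scheme.Modules.pullback j).Additive :=
    (Scheme.Modules.pullbackPushforwardAdjunction j).left_adjoint_additive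
  haveI := preservesFiniteColimits_pullback j
  haveI := Groth.Agent.Helper3.FlatPullEx.preservesFiniteLimits_pullback j
  (L.sc i).mapHomologyIso (Scheme.Modules.pullback j)

theorem pullCx_exactAt (L : ChainComplex M.Modules ℕ) (i : ℕ) (h : L.ExactAt i) :
    (pullCx j L).ExactAt i := by
  haveI : (Scheme.Modules.pullback j).Additive :=
    (Scheme.Modules.pullbackPushforwardAdjunction j).left_adjoint_additive
  rw [HomologicalComplex.exactAt_iff_isZero_homology] at h ⊢
  exact IsZero.of_iso ((Scheme.Modules.pullback j).map_isZero h) (pullCxHomologyIso j L i)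

end Flat

/-- the inverse image of a direct image along a morphism missing the closed subscheme vanishes -/
theorem isZero_pullback_push {U : Scheme.{u}} (F : P ⟶ M) [IsClosedImmersion F] (j : U ⟶ M)
    (hj : Disjoint (Set.range j.base) (Set.range F.base)) (E : P.Modules) :
    IsZero ((Scheme.Modules.pullback j).obj ((Scheme.Modules.pushforward F).obj E)) := by
  apply isZero_of_stalks
  intro u
  have e := (pullStalkIso u j).app ((Scheme.Modules.pushforward F).obj E)
  refine IsZero.of_iso ?_ e
  have hu : j.base u ∉ Set.range F.base := fun h => Set.disjoint_left.mp hj ⟨u, rfl⟩ h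
  haveI : Subsingleton ((St (j.base u)).obj ((Scheme.Modules.pushforward F).obj E)) :=
    subsingleton_stalk F (isClosedEmbedding F).isClosed_range E (j.base u) hu
  have hz : IsZero ((St (j.base u)).obj ((Scheme.Modules.pushforward F).obj E)) :=
    ModuleCat.isZero_of_subsingleton _
  exact (ext u j).map_isZero hz

/-- the alternating sum of the inverse images of a resolution of a direct image vanishes -/
theorem sum_cl_pullback_eq_zero [IsNoetherian M] (F : P ⟶ M) [IsClosedImmersion F]
    (h : Z ⟶ M) (hh : Disjoint (Set.range h.base) (Set.range F.base)) (E : P.Modules)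
    (n : ℕ) (L : ChainComplex M.Modules ℕ)
    (π : L ⟶ (ChainComplex.single₀ M.Modules).obj ((Scheme.Modules.pushforward F).obj E))
    (hres : KRR.IsLFRes ((Scheme.Modules.pushforward F).obj E) n L π) :
    ∑ k ∈ Finset.range (n + 1), (-1 : ℤ) ^ k •
      KRR.cl Z ((Scheme.Modules.pullback h).obj (L.X k)) = 0 := by
  obtain ⟨hflf, hzero, hqi⟩ := hres
  haveI := hqi
  -- the open complement
  let U : M.Opens := ⟨(Set.range F.base)ᶜ, (isClosedEmbedding F).isClosed_range.isOpen_compl⟩
  have hU : Set.range h.base ⊆ Set.range U.ι.base := by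
    rw [Scheme.Opens.range_ι]
    intro m hm hm'
    exact Set.disjoint_left.mp hh hm hm'
  let h' : Z ⟶ U := IsOpenImmersion.lift U.ι h hU
  have hfac : h' ≫ U.ι = h := IsOpenImmersion.lift_fac U.ι h hU
  have hjU : Disjoint (Set.range U.ι.base) (Set.range F.base) := by
    rw [Scheme.Opens.range_ι]
    exact disjoint_compl_left
  haveI : (Scheme.Modules.pullback U.ι).Additive :=
    (Scheme.Modules.pullbackPushforwardAdjunction U.ι).left_adjoint_additive
  -- the complex on `U`
  have hex : ∀ i, 1 ≤ i → L.ExactAt i := by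
    intro i hi
    obtain ⟨j, rfl⟩ : ∃ j, i = j + 1 := ⟨i - 1, by omega⟩
    exact (quasiIsoAt_iff_exactAt' π (j + 1)
      (ChainComplex.exactAt_succ_single_obj _ _)).1 inferInstance
  have e : L.homology 0 ≅ (Scheme.Modules.pushforward F).obj E :=
    asIso (HomologicalComplex.homologyMap π 0) ≪≫
      HomologicalComplex.singleObjHomologySelfIso (ComplexShape.down ℕ) 0 _
  have hH0 : IsZero ((pullCx U.ι L).homology 0) :=
    IsZero.of_iso (isZero_pullback_push F U.ι hjU E)
      (pullCxHomologyIso U.ι L 0 ≪≫ (Scheme.Modules.pullback U.ι).mapIso e)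
  have hL : ∀ k, KRR.vbP U ((pullCx U.ι L).X k) :=
    fun k => Groth.Agent.Lead.LocLift.isFinLocFree_pullback U.ι (hflf k)
  have hz : ∀ k, n < k → IsZero ((pullCx U.ι L).X k) :=
    fun k hk => (Scheme.Modules.pullback U.ι).map_isZero (hzero k hk)
  have hH : KRR.vbP U ((pullCx U.ι L).homology 0) :=
    Groth.Agent.Lead.PerfLib.isFinLocFree_of_isZero hH0
  have h1 := euler (KRR.vbP U) (fun S hS h2 h3 => flf_X₁ S hS h2 h3) (pullCx U.ι L) hL n hz
    (fun k hk => pullCx_exactAt U.ι L k (hex k hk)) hH
  rw [clSub_isZero' (KRR.vbP U) _ hH0 hH] at h1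
  -- pull back to `Z`
  have h2 := congrArg (pullK h') h1
  rw [map_zero, map_sum] at h2
  rw [h2]
  refine Finset.sum_congr rfl fun k _ => ?_
  rw [map_zsmul]
  congr 1
  change KRR.cl Z _ = pullK h' (KRR.cl U ((Scheme.Modules.pullback U.ι).obj (L.X k)))
  have hLk : FlatMod.IsFinLocFree ((Scheme.Modules.pullback U.ι).obj (L.X k)) := hL k
  rw [pullK_cl h' _ hLk]
  have e' : (Scheme.Modules.pullback h').obj ((Scheme.Modules.pullback U.ι).obj (L.X k)) ≅
      (Scheme.Modules.pullback h).obj (L.X k) :=
    (Scheme.Modules.pullbackComp h' U.ι).app (L.X k) ≪≫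
      (Scheme.Modules.pullbackCongr hfac).app (L.X k)
  have hA := Groth.Agent.Lead.LocLift.isFinLocFree_pullback h' hLk
  have hB := Groth.Agent.Lead.LocLift.isFinLocFree_pullback h (hflf k)
  exact (clSub_iso' (KRR.vbP Z) e' hA hB _
    ((Scheme.Modules.pullback h).map_isZero (hzero (n + 1) (by omega)))
    (Groth.Agent.Lead.LocLift.isFinLocFree_pullback h (hflf _))).symm

/-- **the pull-back along a morphism missing `P` kills the push-forward from `P`** -/
theorem pull_pushCl_eq_zero [IsNoetherian M] (hMe : KRR.HasEnoughLocFree M) (F : P ⟶ M)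
    (hF : Mor2.IsRegularClosedImmersion F) (h : Z ⟶ M)
    (hh : Disjoint (Set.range h.base) (Set.range F.base))
    {KP KM KZ : Type*} [CommRing KP] [CommRing KM] [CommRing KZ]
    (φP : SGA6.Kvb P →+ KP) (hP : Function.Bijective φP) (φM : SGA6.Kvb M →+ KM)
    (φZ : SGA6.Kvb Z →+ KZ) (gh : KM →+ KZ) (hgh : KRR.IsPull h φM φZ gh)
    (gF : KP →+ KM) (hgF : KRR.IsPushCl F φP φM gF) (p : KP) : gh (gF p) = 0 := by
  haveI : IsClosedImmersion F := hF.1
  have h1 : (gh.comp gF).comp φP = 0 := by
    apply hom_ext_of_cl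
    intro E hE
    change gh (gF (φP (KRR.cl P E))) = 0
    obtain ⟨n, L, π, hres⟩ := (resolvable_push F hMe hF E hE).2
    rw [hgF E hE n L π hres, map_sum]
    have h0 := congrArg φZ (sum_cl_pullback_eq_zero F h hh E n L π hres)
    rw [map_zero, map_sum] at h0
    rw [← h0]
    refine Finset.sum_congr rfl fun k _ => ?_
    rw [map_zsmul, map_zsmul, hgh _ (hres.finLocFree k)]
  obtain ⟨w, rfl⟩ := hP.surjective p
  exact DFunLike.congr_fun h1 w

theorem disjoint_range_of_isPullback {X Y : Scheme.{u}} (F : P ⟶ M) (φ : Y ⟶ M) (f : X ⟶ Y)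
    (ψ : X ⟶ P) (hsq : IsPullback f ψ φ F) (k : Z ⟶ Y)
    (hk : Disjoint (Set.range k.base) (Set.range f.base)) :
    Disjoint (Set.range (k ≫ φ).base) (Set.range F.base) := by
  rw [Set.disjoint_left]
  rintro _ ⟨z, rfl⟩ ⟨p, hp⟩
  have hp' : φ.base (k.base z) = F.base p := by
    rw [hp]
    rfl
  obtain ⟨x, hx, -⟩ :=
    AlgebraicGeometry.Scheme.exists_preimage_of_isPullback hsq (k.base z) p hp'
  exact Set.disjoint_left.mp hk ⟨z, rfl⟩ ⟨x, hx⟩

end Groth.Agent.Lead.KPush
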