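import Mathlib
import Groth.Agent.Lead.KPush2
import Groth.Agent.Lead.FLFProj
import Groth.Agent.Helper9.FlfTensor1

set_option autoImplicit false
set_option linter.style.haveILetI false
set_option linter.unusedSectionVars false
set_option linter.unusedVariables false

/-!
# The projection formula for the push-forward on `K₀` along a regular closed immersion
-/

namespace Groth.Agent.Lead.KPush

open CategoryTheory Limits AlgebraicGeometry Opposite
open Groth.Agent.Helper9.SkyMod4 Groth.Agent.Helper9.SkyMod5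
open Groth.Agent.Lead.KPoinc Groth.Agent.Lead.SyzReg
open Groth.Agent.Helper4 Groth.Agent.Helper9.ClImm1 Groth.Agent.Lead.KPull
open Groth.Agent.Lead.FLFDual

universe u

variable {X Y : Scheme.{u}}

section Tens

variable (E : Y.Modules)

theorem exact_TNX (hE : FlatMod.IsFinLocFree E) :
    PreservesFiniteLimits (TNX E) ∧ PreservesFiniteColimits (TNX E) := by
  obtain ⟨h1, h2⟩ := exact_TLX E hE
  exact ⟨preservesFiniteLimits_of_natIso (symX E), preservesFiniteColimits_of_natIso (symX E)⟩

/-- tensoring a chain complex with `E` -/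
noncomputable abbrev tensCx (L : ChainComplex Y.Modules ℕ) : ChainComplex Y.Modules ℕ :=
  ((TNX E).mapHomologicalComplex (ComplexShape.down ℕ)).obj L

/-- tensoring with a finite locally free module commutes with homology -/
noncomputable def tensCxHomologyIso (hE : FlatMod.IsFinLocFree E) (L : ChainComplex Y.Modules ℕ)
    (i : ℕ) : (tensCx E L).homology i ≅ (TNX E).obj (L.homology i) :=
  haveI := (exact_TNX E hE).1
  haveI := (exact_TNX E hE).2
  (L.sc i).mapHomologyIso (TNX E)

theorem tensCx_exactAt (hE : FlatMod.IsFinLocFree E) (L : ChainComplex Y.Modules ℕ) (i : ℕ)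
    (h : L.ExactAt i) : (tensCx E L).ExactAt i := by
  rw [HomologicalComplex.exactAt_iff_isZero_homology] at h ⊢
  exact IsZero.of_iso ((TNX E).map_isZero h) (tensCxHomologyIso E hE L i)

end Tens

/-- the class of the direct image of a tensor product with an inverse image -/
theorem clSub_push_tensor [IsNoetherian Y] (hYe : KRR.HasEnoughLocFree Y) (f : X ⟶ Y)
    (hf : Mor2.IsRegularClosedImmersion f) (F : X.Modules) (hF : FlatMod.IsFinLocFree F)
    (E : Y.Modules) (hE : FlatMod.IsFinLocFree E) (n : ℕ) (L : ChainComplex Y.Modules ℕ)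
    (π : L ⟶ (ChainComplex.single₀ Y.Modules).obj ((Scheme.Modules.pushforward f).obj F))
    (hres : KRR.IsLFRes ((Scheme.Modules.pushforward f).obj F) n L π) :
    KZero.clSub (P₁ Y) ((Scheme.Modules.pushforward f).obj
        ((TNX ((Scheme.Modules.pullback f).obj E)).obj F)) =
      ∑ k ∈ Finset.range (n + 1), (-1 : ℤ) ^ k • KZero.clSub (P₁ Y) ((TNX E).obj (L.X k)) := by
  haveI := resolvable_closedUnderIso hYe
  obtain ⟨hflf, hzero, hqi⟩ := hres
  haveI := hqi
  have hex : ∀ i, 1 ≤ i → L.ExactAt i := by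
    intro i hi
    obtain ⟨j, rfl⟩ : ∃ j, i = j + 1 := ⟨i - 1, by omega⟩
    exact (quasiIsoAt_iff_exactAt' π (j + 1)
      (ChainComplex.exactAt_succ_single_obj _ _)).1 inferInstance
  have e : L.homology 0 ≅ (Scheme.Modules.pushforward f).obj F :=
    asIso (HomologicalComplex.homologyMap π 0) ≪≫
      HomologicalComplex.singleObjHomologySelfIso (ComplexShape.down ℕ) 0 _
  have hFE : FlatMod.IsFinLocFree ((TNX ((Scheme.Modules.pullback f).obj E)).obj F) :=
    Groth.Agent.Helper9.FlfTensor1.isFinLocFree_tensor F _ hF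
      (Groth.Agent.Lead.LocLift.isFinLocFree_pullback f hE)
  have hP : P₁ Y ((Scheme.Modules.pushforward f).obj
      ((TNX ((Scheme.Modules.pullback f).obj E)).obj F)) := resolvable_push f hYe hf _ hFE
  have e' : (tensCx E L).homology 0 ≅ (Scheme.Modules.pushforward f).obj
      ((TNX ((Scheme.Modules.pullback f).obj E)).obj F) :=
    tensCxHomologyIso E hE L 0 ≪≫ (TNX E).mapIso e ≪≫ (projNatIso f E hE).app F
  have hL : ∀ k, P₁ Y ((tensCx E L).X k) := fun k =>
    P₁_of_flf hYe _ (Groth.Agent.Helper9.FlfTensor1.isFinLocFree_tensor (L.X k) E (hflf k) hE)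
  have hH : P₁ Y ((tensCx E L).homology 0) := (P₁ Y).prop_of_iso e'.symm hP
  have hz : ∀ k, n < k → IsZero ((tensCx E L).X k) :=
    fun k hk => (TNX E).map_isZero (hzero k hk)
  have h := euler (P₁ Y) (fun S hS h2 h3 => P₁_X₁ hYe S hS h2 h3) (tensCx E L) hL n hz
    (fun k hk => tensCx_exactAt E hE L k (hex k hk)) hH
  rw [← clSub_iso' (P₁ Y) e' hH hP _ (hz (n + 1) (by omega)) (hL _), h]
  rfl

/-- **the projection formula** `f_K (x · f^K y) = f_K x · y` -/
theorem pushCl_mul_pull [IsNoetherian Y] (hYe : KRR.HasEnoughLocFree Y) (f : X ⟶ Y)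
    (hf : Mor2.IsRegularClosedImmersion f) {KX KY : Type*} [CommRing KX] [CommRing KY]
    (φX : SGA6.Kvb X →+ KX) (φY : SGA6.Kvb Y →+ KY)
    (hX : Function.Bijective φX) (hY : Function.Bijective φY)
    (mulX : ∀ E F : X.Modules, FlatMod.IsFinLocFree E → FlatMod.IsFinLocFree F →
      φX (KRR.cl X E) * φX (KRR.cl X F) =
        φX (KRR.cl X (((DCoh.tensorBi (X := X)).obj E).obj F)))
    (mulY : ∀ E F : Y.Modules, FlatMod.IsFinLocFree E → FlatMod.IsFinLocFree F →
      φY (KRR.cl Y E) * φY (KRR.cl Y F) =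
        φY (KRR.cl Y (((DCoh.tensorBi (X := Y)).obj E).obj F)))
    (g : KY →+ KX) (hg : KRR.IsPull f φY φX g) (h : KX →+ KY) (hh : KRR.IsPushCl f φX φY h)
    (x : KX) (y : KY) : h (x * g y) = h x * y := by
  -- generators
  have gen : ∀ (F : X.Modules) (E : Y.Modules), FlatMod.IsFinLocFree F → FlatMod.IsFinLocFree E →
      h (φX (KRR.cl X F) * g (φY (KRR.cl Y E))) = h (φX (KRR.cl X F)) * φY (KRR.cl Y E) := by
    intro F E hF hE
    have hfE := Groth.Agent.Lead.LocLift.isFinLocFree_pullback f hE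
    have hFE : FlatMod.IsFinLocFree ((TNX ((Scheme.Modules.pullback f).obj E)).obj F) :=
      Groth.Agent.Helper9.FlfTensor1.isFinLocFree_tensor F _ hF hfE
    obtain ⟨n, L, π, hres⟩ := (resolvable_push f hYe hf F hF).2
    rw [hg E hE, mulX F _ hF hfE]
    change h (φX (KRR.cl X ((TNX ((Scheme.Modules.pullback f).obj E)).obj F))) = _
    rw [pushCl_apply hYe f hf φX φY h hh _ hFE, clSub_push_tensor hYe f hf F hF E hE n L π hres,
      hh F hF n L π hres, Finset.sum_mul, map_sum, map_sum]
    refine Finset.sum_congr rfl fun k _ => ?_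
    have hLk : FlatMod.IsFinLocFree ((TNX E).obj (L.X k)) :=
      Groth.Agent.Helper9.FlfTensor1.isFinLocFree_tensor (L.X k) E (hres.finLocFree k) hE
    rw [map_zsmul, map_zsmul, smul_mul_assoc, mulY _ _ (hres.finLocFree k) hE]
    congr 2
    rw [AddEquiv.symm_apply_eq]
    exact (resEquiv_cl hYe _ hLk).symm
  -- extension in `x`
  have genx : ∀ (x : KX) (E : Y.Modules), FlatMod.IsFinLocFree E →
      h (x * g (φY (KRR.cl Y E))) = h x * φY (KRR.cl Y E) := by
    intro x E hE
    have h1 : (h.comp (AddMonoidHom.mulRight (g (φY (KRR.cl Y E))))).comp φX =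
        ((AddMonoidHom.mulRight (φY (KRR.cl Y E))).comp h).comp φX := by
      apply hom_ext_of_cl
      intro F hF
      exact gen F E hF hE
    obtain ⟨w, rfl⟩ := hX.surjective x
    exact DFunLike.congr_fun h1 w
  -- extension in `y`
  have h2 : (h.comp ((AddMonoidHom.mulLeft x).comp g)).comp φY =
      (AddMonoidHom.mulLeft (h x)).comp φY := by
    apply hom_ext_of_cl
    intro E hE
    exact genx x E hE
  obtain ⟨w, rfl⟩ := hY.surjective y
  exact DFunLike.congr_fun h2 w

end Groth.Agent.Lead.KPush
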