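import Mathlib
import Groth.Agent.Lead.KPoinc
import Groth.Agent.S3584
import Groth.Agent.S9815
import Groth.Agent.S1108
import Groth.Agent.Helper4.SmReg
import Groth.Agent.Helper1.ProjVanish
import Groth.Agent.Helper1.ProjTop1
import Groth.Agent.Helper3.ProjNoeth

set_option autoImplicit false
set_option linter.style.haveILetI false
set_option linter.unusedSectionVars false
set_option linter.unusedVariables false

/-!
# `K⁰ = K₀` for smooth quasi-projective schemes over a field
-/

namespace Groth.Agent.Lead.KSmooth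

open CategoryTheory Limits AlgebraicGeometry Opposite MvPolynomial

universe u

/-- `O(1)` on projective space is ample -/
theorem isAmple_twist_one (N : ℕ) (R : Type u) [CommRing R] :
    CohB1.IsAmple (Twist.twist (CohB1.polyGrading N R) 1) := by
  classical
  let s : Finset (MvPolynomial (Fin (N + 1)) R) :=
    Finset.univ.image (fun j : Fin (N + 1) => (X j : MvPolynomial (Fin (N + 1)) R))
  have hs1 : ∀ f ∈ s, f ∈ CohB1.polyGrading N R 1 := by
    intro f hf
    obtain ⟨j, -, rfl⟩ := Finset.mem_image.1 hf
    exact Groth.Agent.Helper1.ProjTop.X_mem N R j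
  have hs : (HomogeneousIdeal.irrelevant (CohB1.polyGrading N R)).toIdeal =
      Ideal.span (s : Set (MvPolynomial (Fin (N + 1)) R)) := by
    have := Groth.Agent.Helper1.ProjVanish.irrelevant_eq_span_of_adjoin (CohB1.polyGrading N R)
      (fun j : Fin (N + 1) => (X j : MvPolynomial (Fin (N + 1)) R))
      (Groth.Agent.Helper1.ProjTop.X_mem N R) (MvPolynomial.adjoin_range_X)
    rw [this]
    congr 1
    ext f
    simp [s]
  exact Groth.Agent.S3584.result (CohB1.polyGrading N R) s hs1 hs

/-- the comparison map sends classes to classes -/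
theorem mapSub_id_clSub {X : Scheme.{u}}
    (h : ∀ M : X.Modules, FlatMod.IsFinLocFree M → Coh.IsCoh M) (E : X.Modules)
    (hE : FlatMod.IsFinLocFree E) :
    SGA6.mapSub (𝟭 X.Modules) (fun M : X.Modules => FlatMod.IsFinLocFree M)
      (fun M : X.Modules => Coh.IsCoh M) h
      (KZero.clSub (fun M : X.Modules => FlatMod.IsFinLocFree M) E) =
      KZero.clSub (fun M : X.Modules => Coh.IsCoh M) E := by
  classical
  unfold KZero.clSub
  rw [dif_pos hE, dif_pos (h E hE)]
  rfl

theorem main (k : Type u) [Field k] (N : ℕ)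
    (X : Scheme.{u}) [X.Over (Spec (CommRingCat.of k))] [Smooth (X ↘ Spec (CommRingCat.of k))]
    (ι : X ⟶ CohB1.ProjSpace N k) [IsImmersion ι] :
    ∃ α : KZero.K0sub (fun M : X.Modules => FlatMod.IsFinLocFree M) →+
        KZero.K0sub (fun M : X.Modules => Coh.IsCoh M),
      (∀ E : X.Modules, FlatMod.IsFinLocFree E →
        α (KZero.clSub (fun M : X.Modules => FlatMod.IsFinLocFree M) E) =
          KZero.clSub (fun M : X.Modules => Coh.IsCoh M) E) ∧
      Function.Bijective α := by
  obtain ⟨hLN, hreg⟩ :=
    Groth.Agent.Helper4.SmReg.regular_of_smooth_field k (X ↘ Spec (CommRingCat.of k))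
  haveI := hLN
  haveI : IsNoetherianRing (MvPolynomial (Fin (N + 1)) k) := inferInstance
  haveI hPN : IsNoetherian (CohB1.ProjSpace N k) :=
    Groth.Agent.Helper3.ProjNoeth.main (CohB1.polyGrading N k)
  haveI : TopologicalSpace.NoetherianSpace (CohB1.ProjSpace N k) := inferInstance
  have hemb : Topology.IsEmbedding ι := ι.isEmbedding
  haveI : TopologicalSpace.NoetherianSpace X := hemb.isInducing.noetherianSpace
  haveI : CompactSpace X := inferInstance
  haveI : IsNoetherian X := {}
  have hL0 : CohB1.IsAmple (X := CohB1.ProjSpace N k) (Twist.twist (CohB1.polyGrading N k) 1) :=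
    isAmple_twist_one N k
  have hL := Groth.Agent.S9815.result ι hemb _ hL0
  have hres := Groth.Agent.S1108.result X _ hL
  have hX : KRR.HasEnoughLocFree X := fun F hF => hres F hF.1 hF.2
  have h : ∀ M : X.Modules, FlatMod.IsFinLocFree M → Coh.IsCoh M :=
    fun M hM => Groth.Agent.Lead.PerfLib.isCoh_of_isFinLocFree hM
  exact ⟨SGA6.mapSub (𝟭 X.Modules) (fun M : X.Modules => FlatMod.IsFinLocFree M)
      (fun M : X.Modules => Coh.IsCoh M) h, fun E hE => mapSub_id_clSub h E hE,
    Groth.Agent.Lead.KPoinc.poincare X hreg hX h⟩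

end Groth.Agent.Lead.KSmooth
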