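import Mathlib
import Groth.Prelude.Def_LCI2
import Groth.Agent.Helper3.KzTor
import Groth.Agent.Helper3.KzTorPow
import Groth.Agent.Helper9.TBC6
import Groth.Agent.Helper1.TorBalanceNat2

set_option autoImplicit false
set_option linter.style.haveILetI false
set_option linter.unusedSectionVars false
set_option linter.unusedVariables false

/-!
# Tor-independence: a projective resolution of a finite free `A/(l)`-module stays exact after
extension of scalars to `B` when `l` and its image in `B` are Koszul-regular
-/

namespace Groth.Agent.Lead.KTor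

open CategoryTheory Limits MonoidalCategory

universe u

variable {A B : Type u} [CommRing A] [CommRing B] (φ : A →+* B)

/-- `B` as an `A`-module through `φ` -/
noncomputable abbrev Y : ModuleCat.{u} A := Groth.Agent.Helper9.TBC6.Y φ

/-- Tor against `B` kills finite free `A/(l)`-modules -/
theorem isZero_tor (l : List A) (hl : LCI.IsKoszulRegularSeq A l)
    (hl' : LCI.IsKoszulRegularSeq B (l.map φ)) (N : ModuleCat.{u} A) (r : ℕ)
    (e : N ≅ ModuleCat.of A (Fin r → A ⧸ Ideal.ofList l)) (k : ℕ) :
    IsZero (((Tor (ModuleCat.{u} A) (k + 1)).obj (Y φ)).obj N) := by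
  letI : Algebra A B := φ.toAlgebra
  have h0 : IsZero (((Tor (ModuleCat.{u} A) (k + 1)).obj
      (ModuleCat.of A (A ⧸ Ideal.ofList l))).obj (ModuleCat.of A B)) :=
    Groth.Agent.Helper3.KzTor.isZero_tor_quot_algebra l hl hl' (k + 1) (by omega)
  have h1 := Groth.Agent.Helper3.KzTorPow.isZero_tor_pi (ModuleCat.of A B) (k + 1)
    (A ⧸ Ideal.ofList l) h0 (Fin r)
  have h2 : IsZero (((Tor (ModuleCat.{u} A) (k + 1)).obj N).obj (ModuleCat.of A B)) :=
    h1.of_iso (((Tor (ModuleCat.{u} A) (k + 1)).mapIso e).app (ModuleCat.of A B))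
  have h3 : IsZero (((Tor (ModuleCat.{u} A) (k + 1)).obj (ModuleCat.of A B)).obj N) :=
    h2.of_iso (((Groth.Agent.Helper1.TorLib.torFlipIso (A := A) (k + 1)).app
      (ModuleCat.of A B)).app N)
  let iY : Y φ ≅ ModuleCat.of A B :=
    (Groth.Agent.Helper3.DRingLib.restrictSelfEquiv (A := A) (B := B)).toModuleIso
  exact h3.of_iso (((Tor (ModuleCat.{u} A) (k + 1)).mapIso iY).app N)


/-- a short complex which is exact after `A ⊗ -` (as `A`-modules) is exact after extension of
scalars -/
theorem exact_map_extendScalars (S : ShortComplex (ModuleCat.{u} A))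
    (h : (S.map (tensorLeft (Y φ))).Exact) :
    (S.map (ModuleCat.extendScalars.{u, u, u} φ)).Exact := by
  have h1 : (S.map (ModuleCat.extendScalars.{u, u, u} φ ⋙ ModuleCat.restrictScalars.{u} φ)).Exact :=
    (ShortComplex.exact_iff_of_iso (S.mapNatIso (Groth.Agent.Helper9.TBC6.ν φ))).1 h
  have h2 : ((S.map (ModuleCat.extendScalars.{u, u, u} φ)).map
      (ModuleCat.restrictScalars.{u} φ)).Exact := h1
  exact (ShortComplex.exact_map_iff_of_faithful _ (ModuleCat.restrictScalars.{u} φ)).1 h2

/-- **Tor-independence for resolutions** -/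
theorem exactAt_extendScalars (l : List A) (hl : LCI.IsKoszulRegularSeq A l)
    (hl' : LCI.IsKoszulRegularSeq B (l.map φ)) (N : ModuleCat.{u} A) (r : ℕ)
    (e : N ≅ ModuleCat.of A (Fin r → A ⧸ Ideal.ofList l)) (P : ProjectiveResolution N) (k : ℕ) :
    (((ModuleCat.extendScalars.{u, u, u} φ).mapHomologicalComplex (ComplexShape.down ℕ)).obj
      P.complex).ExactAt (k + 1) := by
  have hz := isZero_tor φ l hl hl' N r e k
  have iso1 := P.isoLeftDerivedObj (tensorLeft (Y φ)) (k + 1)
  have hz' : IsZero ((((tensorLeft (Y φ)).mapHomologicalComplex (ComplexShape.down ℕ)).obj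
      P.complex).homology (k + 1)) := IsZero.of_iso hz iso1.symm
  rw [← HomologicalComplex.exactAt_iff_isZero_homology, HomologicalComplex.exactAt_iff] at hz'
  rw [HomologicalComplex.exactAt_iff]
  exact exact_map_extendScalars φ (P.complex.sc (k + 1)) hz'


/-- the trivial case: a projective resolution of a zero module stays exact -/
theorem exactAt_extendScalars_of_isZero (N : ModuleCat.{u} A) (hN : IsZero N)
    (P : ProjectiveResolution N) (k : ℕ) :
    (((ModuleCat.extendScalars.{u, u, u} φ).mapHomologicalComplex (ComplexShape.down ℕ)).obj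
      P.complex).ExactAt (k + 1) := by
  haveI : Projective N := ⟨fun f e _ => ⟨0, hN.eq_of_src _ _⟩⟩
  have hz : IsZero (((tensorLeft (Y φ)).leftDerived (k + 1)).obj N) :=
    Functor.isZero_leftDerived_obj_projective_succ _ k N
  have iso1 := P.isoLeftDerivedObj (tensorLeft (Y φ)) (k + 1)
  have hz' : IsZero ((((tensorLeft (Y φ)).mapHomologicalComplex (ComplexShape.down ℕ)).obj
      P.complex).homology (k + 1)) := IsZero.of_iso hz iso1.symm
  rw [← HomologicalComplex.exactAt_iff_isZero_homology, HomologicalComplex.exactAt_iff] at hz'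
  rw [HomologicalComplex.exactAt_iff]
  exact exact_map_extendScalars φ (P.complex.sc (k + 1)) hz'

end Groth.Agent.Lead.KTor
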