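import Mathlib
import Groth.Agent.Lead.KTorA
import Groth.Agent.Lead.KPush3

set_option autoImplicit false
set_option linter.style.haveILetI false
set_option linter.unusedSectionVars false
set_option linter.unusedVariables false

/-!
# Tor-independence, geometric part: stalks of finite locally free resolutions
-/

namespace Groth.Agent.Lead.KTor

open CategoryTheory Limits AlgebraicGeometry Opposite
open Groth.Agent.Helper9.SkyMod4 Groth.Agent.Helper9.SkyMod5

universe u

variable {M : Scheme.{u}}

/-- exactness of a chain complex of modules can be checked on stalks -/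
theorem exactAt_of_stalks (K : ChainComplex M.Modules ℕ) (i : ℕ)
    (h : ∀ x : M, (((St x).mapHomologicalComplex (ComplexShape.down ℕ)).obj K).ExactAt i) :
    K.ExactAt i := by
  rw [HomologicalComplex.exactAt_iff, ShortComplex.exact_iff_isZero_homology]
  apply isZero_of_stalks
  intro x
  have h1 : ((K.sc i).map (St x)).Exact := by
    have h2 := h x
    rw [HomologicalComplex.exactAt_iff] at h2
    exact h2
  rw [ShortComplex.exact_iff_isZero_homology] at h1
  exact h1.of_iso ((K.sc i).mapHomologyIso (St x)).symm

/-- the stalk of a finite locally free resolution is a projective resolution -/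
noncomputable def stalkRes (N : M.Modules) (n : ℕ) (L : ChainComplex M.Modules ℕ)
    (π : L ⟶ (ChainComplex.single₀ M.Modules).obj N) (hres : KRR.IsLFRes N n L π) (m : M) :
    ProjectiveResolution ((St m).obj N) where
  complex := ((St m).mapHomologicalComplex (ComplexShape.down ℕ)).obj L
  projective := fun k => by
    haveI : (L.X k).IsQuasicoherent :=
      (Groth.Agent.Lead.PerfLib.isCoh_of_isFinLocFree (hres.finLocFree k)).1
    haveI : Module.Free (M.presheaf.stalk m) ((St m).obj (L.X k)) :=
      Groth.Agent.Helper4.FinLocFree2.free_stalk_of_isFinLocFree (L.X k) (hres.finLocFree k) m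
    change Projective ((St m).obj (L.X k))
    infer_instance
  π := ((St m).mapHomologicalComplex (ComplexShape.down ℕ)).map π ≫
    (HomologicalComplex.singleMapHomologicalComplex (St m) (ComplexShape.down ℕ) 0).hom.app N
  quasiIso := by
    haveI := hres.quasiIso
    infer_instance


section LocalAlg

variable {A A' : Type u} [CommRing A] [CommRing A']

/-- a finite free module over a quotient `A' = A/(l)`, as an `A`-module -/
theorem nonempty_restrictScalars_iso (g : A →+* A') (hg : Function.Surjective g) (l : List A)
    (hker : RingHom.ker g = Ideal.ofList l) [Nontrivial A'] (N : ModuleCat.{u} A')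
    [Module.Free A' N] [Module.Finite A' N] :
    Nonempty ((ModuleCat.restrictScalars g).obj N ≅
      ModuleCat.of A (Fin (Module.finrank A' N) → A ⧸ Ideal.ofList l)) := by
  let r := Module.finrank A' N
  let b := Module.finBasis A' N
  let e : N ≅ ModuleCat.of A' (Fin r → A') := b.equivFun.toModuleIso
  let q₀ : A ⧸ Ideal.ofList l →+* A' := Ideal.Quotient.lift (Ideal.ofList l) g (by
    intro a ha
    rw [← hker] at ha
    exact ha)
  have hq₀ : Function.Bijective q₀ := by
    constructor
    · rw [injective_iff_map_eq_zero]
      intro a ha
      obtain ⟨a, rfl⟩ := Ideal.Quotient.mk_surjective a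
      rw [Ideal.Quotient.lift_mk] at ha
      rw [Ideal.Quotient.eq_zero_iff_mem, ← hker]
      exact ha
    · intro a'
      obtain ⟨a, rfl⟩ := hg a'
      exact ⟨Ideal.Quotient.mk _ a, Ideal.Quotient.lift_mk _ _ _⟩
  let T : (Fin r → A ⧸ Ideal.ofList l) →ₗ[A]
      (ModuleCat.restrictScalars g).obj (ModuleCat.of A' (Fin r → A')) :=
    { toFun := fun v => (fun i => q₀ (v i) : Fin r → A')
      map_add' := fun v w => by
        funext i
        exact map_add q₀ (v i) (w i)
      map_smul' := fun a v => by
        funext i
        change q₀ (a • v i) = g a * q₀ (v i)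
        rw [Algebra.smul_def, map_mul]
        rfl }
  have hT : Function.Bijective T := by
    constructor
    · intro v w h
      funext i
      exact hq₀.1 (congrFun h i)
    · intro w
      choose v hv using fun i => hq₀.2 ((w : Fin r → A') i)
      exact ⟨v, funext hv⟩
  exact ⟨(ModuleCat.restrictScalars g).mapIso e ≪≫
    (LinearEquiv.ofBijective T hT).symm.toModuleIso⟩

end LocalAlg

end Groth.Agent.Lead.KTor
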