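import Groth.Agent.Lead.H1RegB
import Groth.Agent.S5802
import Groth.Agent.Lead.KPoinc
import Groth.Agent.Helper4.FinLocFree2
import Mathlib

set_option autoImplicit false
set_option backward.isDefEq.respectTransparency false
set_option backward.isDefEq.respectTransparency.types false
set_option linter.unusedSectionVars false
set_option linter.unusedVariables false
set_option linter.style.haveILetI false
open CategoryTheory CategoryTheory.Limits AlgebraicGeometry Opposite TopologicalSpace
universe u

/-!
# The conormal module of a regular closed immersion is free of rank the length of the sequence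
-/

namespace Groth.Agent.Lead.KTor

open Scheme.Modules OmegaSh Groth.Agent.Lead Groth.Agent.Helper4 Groth.Agent.Lead.BCMap
open Groth.Agent.Lead.H1RegB

variable {Z Y : Scheme.{u}} (i : Z ⟶ Y) [IsClosedImmersion i]

theorem isFreeAlong_conormal {U : Y.Opens} (hU : IsAffineOpen U) (rs : List Γ(Y, U))
    (hrs : RingTheory.Sequence.IsWeaklyRegular Γ(Y, U) rs)
    (hker : i.ker.ideal ⟨U, hU⟩ = Ideal.ofList rs) :
    FinLocFree.IsFreeAlong (Omega.conormal i) (i ⁻¹ᵁ U).ι rs.length := by
  haveI : (Omega.conormal i).IsQuasicoherent :=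
    StalkPull.isQuasicoherent_pullbackObj i (ClSub.idealMod i.ker)
  have hO : IsAffineOpen (i ⁻¹ᵁ U) := hU.preimage i
  have hsurj : Function.Surjective (i.app U) :=
    (isClosedImmersion_iff_isAffineHom.mp ‹_›).2 U hU
  rw [FinLocFree.isFreeAlong_ι_iff_basis hO]
  have hqr : CAlgX.IsQuasiRegular rs.get :=
    Groth.Agent.S5802.result _ rs.length rs.get (by rwa [List.ofFn_get])
  have hI : RingHom.ker (i.app U).hom = Ideal.span (Set.range rs.get) := by
    rw [← i.ker_apply ⟨U, hU⟩, hker, Set.range_list_get]
  have hσ : ∀ k : Fin rs.length, ∃ σ : Γ(ClSub.idealMod i.ker, U),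
      idealSect i.ker U σ = rs.get k := fun k =>
    OmegaCnB.exists_idealSect i hU _ (by
      rw [← RingHom.mem_ker, hI]
      exact Ideal.subset_span ⟨k, rfl⟩)
  choose σ hσ using hσ
  let v : Fin rs.length → Γ(Omega.conormal i, i ⁻¹ᵁ U) := fun k => conormalSect i U (σ k)
  refine ⟨Module.Basis.mk (v := v) ?_ ?_⟩
  · rw [Fintype.linearIndependent_iff]
    intro g hg k
    choose b hb using fun k => hsurj (g k)
    have h1 : conormalSect i U (∑ k, b k • σ k) = 0 := by
      rw [map_sum, ← hg]
      refine Finset.sum_congr rfl fun k _ => ?_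
      rw [OmegaCnG.conormalSect_smul, Scheme.Hom.appLE_eq_app, hb]
    have h2 := OmegaCnF.idealSect_mem_sq i hU hO hsurj _ h1
    rw [map_sum] at h2
    have h3 : ∑ k, b k * rs.get k ∈ Ideal.span (Set.range rs.get) ^ 2 := by
      rw [← hI]
      have h4 : ∑ k, b k * rs.get k = ∑ k, idealSect i.ker U (b k • σ k) := by
        refine Finset.sum_congr rfl fun k _ => ?_
        rw [OmegaCnC.idealSect_smul, hσ]
      rw [h4]
      exact h2
    have h4 := H1RegA.coeff_mem_of_quasiRegular rs.get hqr b h3 k
    rw [← hI, RingHom.mem_ker] at h4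
    rw [← hb k]
    exact h4
  · rintro t -
    obtain ⟨τ, rfl⟩ := OmegaCnH.exists_conormalSect i hU hO hsurj t
    have hτ : idealSect i.ker U τ ∈ Ideal.span (Set.range rs.get) := by
      rw [← hI]
      exact OmegaCnB.app_idealSect i hU τ
    obtain ⟨b, hb⟩ := (Ideal.mem_span_range_iff_exists_fun).mp hτ
    have hτ' : τ = ∑ k, b k • σ k := by
      apply OmegaCnC.idealSect_injective i U
      rw [map_sum, ← hb]
      refine Finset.sum_congr rfl fun k _ => ?_
      rw [OmegaCnC.idealSect_smul, hσ]
    rw [hτ', map_sum]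
    refine Submodule.sum_mem _ fun k _ => ?_
    rw [OmegaCnG.conormalSect_smul]
    exact Submodule.smul_mem _ _ (Submodule.subset_span ⟨k, rfl⟩)


/-- the length of a regular sequence cutting out `Z` near a point is the rank of the conormal
module -/
theorem length_eq_of_rank {U : Y.Opens} (hU : IsAffineOpen U) (rs : List Γ(Y, U))
    (hrs : RingTheory.Sequence.IsWeaklyRegular Γ(Y, U) rs)
    (hker : i.ker.ideal ⟨U, hU⟩ = Ideal.ofList rs) (p : Z) (hp : i p ∈ U) (d : ℕ)
    (hc : FlatMod.IsFinLocFreeOfRank d (Omega.conormal i)) : rs.length = d := by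
  haveI : (Omega.conormal i).IsQuasicoherent :=
    StalkPull.isQuasicoherent_pullbackObj i (ClSub.idealMod i.ker)
  have h1 := isFreeAlong_conormal i hU rs hrs hker
  obtain ⟨b1⟩ := Groth.Agent.Helper4.FinLocFree2.nonempty_basis_stalk_of_isFreeAlong
    (Omega.conormal i) h1 p hp
  obtain ⟨V, hpV, hV⟩ := hc p
  obtain ⟨b2⟩ := Groth.Agent.Helper4.FinLocFree2.nonempty_basis_stalk_of_isFreeAlong
    (Omega.conormal i) hV p hpV
  have e1 := Module.finrank_eq_card_basis b1
  have e2 := Module.finrank_eq_card_basis b2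
  rw [Fintype.card_fin] at e1 e2
  exact e1.symm.trans e2

end Groth.Agent.Lead.KTor
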