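import Mathlib
import Groth.Agent.Lead.KTorB
import Groth.Agent.Lead.KTorC
import Groth.Agent.Helper3.KzMin
import Groth.Agent.Helper9.IdealComap
import Groth.Agent.S15821
import Groth.Agent.Helper8.RegSeqB

set_option autoImplicit false
set_option linter.style.haveILetI false
set_option linter.unusedSectionVars false
set_option linter.unusedVariables false

/-!
# Tor-independence, geometric part: the local structure of a regular closed immersion and of
its base change of the same codimension
-/

namespace Groth.Agent.Lead.KTor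

open CategoryTheory Limits AlgebraicGeometry Opposite
open Groth.Agent.Helper9.SkyMod4 Groth.Agent.Helper9.SkyMod5 Groth.Agent.Helper9.ClImm1

universe u

variable {X Y P M : Scheme.{u}}

/-- germs of a weakly regular sequence form a Koszul-regular sequence -/
theorem kreg_germ (m : M) {U : M.Opens} (hU : IsAffineOpen U) (hm : m ∈ U) (rs : List Γ(M, U))
    (hrs : RingTheory.Sequence.IsWeaklyRegular Γ(M, U) rs) :
    LCI.IsKoszulRegularSeq (M.presheaf.stalk m) (rs.map (M.presheaf.germ U m hm).hom) := by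
  letI algS : Algebra Γ(M, U) (M.presheaf.stalk m) := M.presheaf.algebra_section_stalk ⟨m, hm⟩
  haveI locS : IsLocalization.AtPrime (M.presheaf.stalk m) (hU.primeIdealOf ⟨m, hm⟩).asIdeal :=
    hU.isLocalization_stalk ⟨m, hm⟩
  have h1 := RingTheory.Sequence.IsWeaklyRegular.of_isLocalization (M.presheaf.stalk m)
    (hU.primeIdealOf ⟨m, hm⟩).asIdeal.primeCompl hrs
  exact (Groth.Agent.S15821.result _ _ h1).1

/-- the kernel of the stalk map of a closed immersion, from generators on an affine open -/
theorem ker_stalkMap_eq_ofList (F : P ⟶ M) [IsClosedImmersion F] (p : P) {U : M.Opens}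
    (hU : IsAffineOpen U) (hp : F p ∈ U) (rs : List Γ(M, U))
    (hker : F.ker.ideal ⟨U, hU⟩ = Ideal.ofList rs) :
    RingHom.ker (F.stalkMap p).hom =
      Ideal.ofList (rs.map (M.presheaf.germ U (F p) hp).hom) := by
  rw [Groth.Agent.Helper8.RegSeqB.ker_stalkMap_eq F p hU hp (hU.preimage F)
    (Groth.Agent.Helper8.RegSeqB.app_surjective F hU), ← F.ker_apply ⟨U, hU⟩, hker,
    Ideal.map_ofList]

/-- the stalk of the direct image of a finite locally free module along a closed immersion cut
out by `rs` -/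
theorem nonempty_stalk_push_iso (F : P ⟶ M) [IsClosedImmersion F] (m : M)
    (hm : m ∈ Set.range F.base) {U : M.Opens} (hU : IsAffineOpen U) (hmU : m ∈ U)
    (rs : List Γ(M, U)) (hker : F.ker.ideal ⟨U, hU⟩ = Ideal.ofList rs)
    (E : P.Modules) (hE : FlatMod.IsFinLocFree E) :
    ∃ r : ℕ, Nonempty ((St m).obj ((Scheme.Modules.pushforward F).obj E) ≅
      ModuleCat.of (M.presheaf.stalk m) (Fin r → M.presheaf.stalk m ⧸
        Ideal.ofList (rs.map (M.presheaf.germ U m hmU).hom))) := by
  obtain ⟨p, rfl⟩ := hm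
  have hcoh := Groth.Agent.Lead.PerfLib.isCoh_of_isFinLocFree hE
  haveI : E.IsQuasicoherent := hcoh.1
  haveI : Module.Free (P.presheaf.stalk p) ((St p).obj E) :=
    Groth.Agent.Helper4.FinLocFree2.free_stalk_of_isFinLocFree E hE p
  haveI : Module.Finite (P.presheaf.stalk p) ((St p).obj E) :=
    Groth.Agent.Helper4.FinLocFree2.finite_stalk E hcoh.2 p
  obtain ⟨e1⟩ := nonempty_restrictScalars_iso (F.stalkMap p).hom (F.stalkMap_surjective p) _
    (ker_stalkMap_eq_ofList F p hU hmU rs hker) ((St p).obj E)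
  exact ⟨_, ⟨(pushStalkIso F (isClosedEmbedding F).isInducing p).app E ≪≫ e1⟩⟩

variable (F : P ⟶ M) (φ : Y ⟶ M) (f : X ⟶ Y) (ψ : X ⟶ P)

/-- the ideal of the base change of a closed immersion -/
theorem ker_eq_comap (hsq : IsPullback f ψ φ F) [IsClosedImmersion F] :
    f.ker = F.ker.comap φ := by
  calc f.ker = (hsq.isoPullback.hom ≫ pullback.fst φ F).ker := by rw [hsq.isoPullback_hom_fst]
    _ = (pullback.fst φ F).ker := Scheme.Hom.ker_comp_of_isIso _ _
    _ = F.ker.comap φ := Scheme.IdealSheafData.ker_fst_of_isClosedImmersion F φ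

/-- the kernel of the stalk map of the base change -/
theorem ker_stalkMap_pullback (hsq : IsPullback f ψ φ F) [IsClosedImmersion F]
    [IsClosedImmersion f] (x : X) {U : M.Opens} (hU : IsAffineOpen U) (hx : φ (f x) ∈ U)
    (rs : List Γ(M, U)) (hker : F.ker.ideal ⟨U, hU⟩ = Ideal.ofList rs) :
    RingHom.ker (f.stalkMap x).hom =
      Ideal.ofList ((rs.map (M.presheaf.germ U (φ (f x)) hx).hom).map
        (φ.stalkMap (f x)).hom) := by
  obtain ⟨V, hV, hxV, hVU⟩ := (TopologicalSpace.Opens.isBasis_iff_nbhd.1 Y.isBasis_affineOpens)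
    (show f x ∈ φ ⁻¹ᵁ U from hx)
  have h1 := Groth.Agent.Helper9.IdealComap.ideal_comap φ F.ker ⟨U, hU⟩ ⟨V, hV⟩ hVU
  rw [← ker_eq_comap F φ f ψ hsq, hker, Ideal.map_ofList] at h1
  rw [ker_stalkMap_eq_ofList f x hV hxV _ h1, List.map_map, List.map_map]
  congr 1
  apply List.map_congr_left
  intro a _
  change (Y.presheaf.germ V (f x) hxV).hom ((φ.appLE U V hVU).hom a) =
    (φ.stalkMap (f x)).hom ((M.presheaf.germ U (φ (f x)) hx).hom a)
  have h2 := Scheme.Hom.germ_stalkMap_apply φ U (f x) hx a
  refine Eq.trans ?_ h2.symm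
  exact Y.presheaf.germ_res_apply (homOfLE hVU) (f x) hxV ((φ.app U).hom a)


/-- **the image of the regular sequence stays Koszul-regular** when the base change has the
same codimension -/
theorem kreg_map_stalkMap (hsq : IsPullback f ψ φ F) (hF : Mor2.IsRegularClosedImmersion F)
    (hf : Mor2.IsRegularClosedImmersion f) (d : ℕ)
    (hcF : FlatMod.IsFinLocFreeOfRank d (Omega.conormal F))
    (hcf : FlatMod.IsFinLocFreeOfRank d (Omega.conormal f))
    (x : X) {U : M.Opens} (hU : IsAffineOpen U) (hx : φ (f x) ∈ U)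
    (rs : List Γ(M, U)) (hrs : RingTheory.Sequence.IsWeaklyRegular Γ(M, U) rs)
    (hker : F.ker.ideal ⟨U, hU⟩ = Ideal.ofList rs) :
    LCI.IsKoszulRegularSeq (Y.presheaf.stalk (f x))
      ((rs.map (M.presheaf.germ U (φ (f x)) hx).hom).map (φ.stalkMap (f x)).hom) := by
  haveI : IsClosedImmersion F := hF.1
  haveI : IsClosedImmersion f := hf.1
  obtain ⟨V', hV', hxV', ts, hts, hkert⟩ := hf.2 x
  have hFx : F (ψ x) ∈ U := by
    have h1 : φ (f x) = F (ψ x) := by
      have h2 := congrArg (fun g => g x) hsq.w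
      exact h2
    rw [← h1]
    exact hx
  have hlen1 : rs.length = d := length_eq_of_rank F hU rs hrs hker (ψ x) hFx d hcF
  have hlen2 : ts.length = d :=
    length_eq_of_rank f hV' ts hts.toIsWeaklyRegular hkert x hxV' d hcf
  have hg := kreg_germ (f x) hV' hxV' ts hts.toIsWeaklyRegular
  have hgI := (ker_stalkMap_eq_ofList f x hV' hxV' ts hkert).symm
  have hfI := (ker_stalkMap_pullback F φ f ψ hsq x hU hx rs hker).symm
  have hI : RingHom.ker (f.stalkMap x).hom ≠ ⊤ := RingHom.ker_ne_top _
  refine (Groth.Agent.Helper3.KzMin.main hI _ hg hgI _ hfI).2 (fun h hh => ?_)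
  have h3 := Groth.Agent.Helper3.KzMin.length_le_of_kreg hI _ hg hgI h hh
  simp only [List.length_map] at h3 ⊢
  omega


instance additive_pullback (φ : Y ⟶ M) : (Scheme.Modules.pullback φ).Additive :=
  (Scheme.Modules.pullbackPushforwardAdjunction φ).left_adjoint_additive

/-- the inverse image of a chain complex along an arbitrary morphism -/
noncomputable abbrev pullCx' (L : ChainComplex M.Modules ℕ) : ChainComplex Y.Modules ℕ :=
  ((Scheme.Modules.pullback φ).mapHomologicalComplex (ComplexShape.down ℕ)).obj L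

/-- exactness of the inverse image of a complex, checked on stalks -/
theorem exactAt_pullCx'_of_stalks (L : ChainComplex M.Modules ℕ) (i : ℕ)
    (h : ∀ y : Y, (((ext y φ).mapHomologicalComplex (ComplexShape.down ℕ)).obj
      (((St (φ.base y)).mapHomologicalComplex (ComplexShape.down ℕ)).obj L)).ExactAt i) :
    (pullCx' φ L).ExactAt i := by
  apply exactAt_of_stalks
  intro y
  rw [HomologicalComplex.exactAt_iff]
  have h1 := h y
  rw [HomologicalComplex.exactAt_iff] at h1
  have h2 : ((L.sc i).map (St (φ.base y) ⋙ ext y φ)).Exact := h1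
  have h3 : ((L.sc i).map (Scheme.Modules.pullback φ ⋙ St y)).Exact :=
    (ShortComplex.exact_iff_of_iso ((L.sc i).mapNatIso (pullStalkIso y φ))).2 h2
  exact h3

/-- **Tor-independence**: the inverse image of a resolution of `F_* E` stays exact in positive
degrees -/
theorem exactAt_pullCx' (hsq : IsPullback f ψ φ F) (hF : Mor2.IsRegularClosedImmersion F)
    (hf : Mor2.IsRegularClosedImmersion f) (d : ℕ)
    (hcF : FlatMod.IsFinLocFreeOfRank d (Omega.conormal F))
    (hcf : FlatMod.IsFinLocFreeOfRank d (Omega.conormal f))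
    (E : P.Modules) (hE : FlatMod.IsFinLocFree E) (n : ℕ) (L : ChainComplex M.Modules ℕ)
    (π : L ⟶ (ChainComplex.single₀ M.Modules).obj ((Scheme.Modules.pushforward F).obj E))
    (hres : KRR.IsLFRes ((Scheme.Modules.pushforward F).obj E) n L π) (k : ℕ) :
    (pullCx' φ L).ExactAt (k + 1) := by
  haveI : IsClosedImmersion F := hF.1
  haveI : IsClosedImmersion f := hf.1
  apply exactAt_pullCx'_of_stalks
  intro y
  by_cases hy : φ.base y ∈ Set.range F.base
  · obtain ⟨p, hp⟩ := hy
    obtain ⟨x, hx1, hx2⟩ := Scheme.exists_preimage_of_isPullback hsq y p hp.symm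
    subst hx1
    obtain ⟨U, hU, hpU, rs, hrs, hker⟩ := hF.2 p
    have hx : φ (f x) ∈ U := by
      have h1 : F p = φ (f x) := hp
      rw [← h1]
      exact hpU
    obtain ⟨r, ⟨e⟩⟩ := nonempty_stalk_push_iso F (φ.base (f.base x)) ⟨p, hp⟩ hU hx rs hker E hE
    exact exactAt_extendScalars (φ.stalkMap (f x)).hom _
      (kreg_germ _ hU hx rs hrs.toIsWeaklyRegular)
      (kreg_map_stalkMap F φ f ψ hsq hF hf d hcF hcf x hU hx rs hrs.toIsWeaklyRegular hker)
      _ r e (stalkRes _ n L π hres (φ.base (f.base x))) k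
  · haveI : Subsingleton ((St (φ.base y)).obj ((Scheme.Modules.pushforward F).obj E)) :=
      subsingleton_stalk F (isClosedEmbedding F).isClosed_range E _ hy
    exact exactAt_extendScalars_of_isZero (φ.stalkMap y).hom _
      (ModuleCat.isZero_of_subsingleton _) (stalkRes _ n L π hres (φ.base y)) k

end Groth.Agent.Lead.KTor
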