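import Mathlib
import Groth.Agent.Lead.KTorD
import Groth.Agent.S0017

set_option autoImplicit false
set_option linter.style.haveILetI false
set_option linter.unusedSectionVars false
set_option linter.unusedVariables false

/-!
# Pull-back of a push-forward along a Tor-independent square (SGA 6)
-/

namespace Groth.Agent.Lead.KTor

open CategoryTheory Limits AlgebraicGeometry Opposite
open Groth.Agent.Helper9.SkyMod4 Groth.Agent.Helper9.SkyMod5 Groth.Agent.Helper9.ClImm1
open Groth.Agent.Lead.KPush Groth.Agent.Lead.KPull Groth.Agent.Lead.SyzReg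
open Groth.Agent.Lead.KPoinc

universe u

variable {X Y P M : Scheme.{u}} (F : P ⟶ M) (φ : Y ⟶ M) (f : X ⟶ Y) (ψ : X ⟶ P)

/-- the inverse image commutes with `H₀` of a chain complex -/
noncomputable def pullCxH0Iso (L : ChainComplex M.Modules ℕ) :
    (pullCx' φ L).homology 0 ≅ (Scheme.Modules.pullback φ).obj (L.homology 0) := by
  haveI : PreservesColimitsOfSize.{0, 0} (Scheme.Modules.pullback φ) :=
    (Scheme.Modules.pullbackPushforwardAdjunction φ).leftAdjoint_preservesColimits
  have hg : (L.sc 0).g = 0 := L.shape _ _ (by simp)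
  haveI := Functor.preservesLeftHomology_of_zero_g (Scheme.Modules.pullback φ) (L.sc 0) hg
  haveI := Functor.preservesRightHomology_of_zero_g (Scheme.Modules.pullback φ) (L.sc 0) hg
  exact (L.sc 0).mapHomologyIso (Scheme.Modules.pullback φ)

/-- **the alternating sum of the inverse images of a resolution of `F_* E` is the class of
`f_* ψ^* E`** -/
theorem sum_cl_pullback_eq (hsq : IsPullback f ψ φ F) (hF : Mor2.IsRegularClosedImmersion F)
    (hf : Mor2.IsRegularClosedImmersion f) (d : ℕ)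
    (hcF : FlatMod.IsFinLocFreeOfRank d (Omega.conormal F))
    (hcf : FlatMod.IsFinLocFreeOfRank d (Omega.conormal f))
    [IsNoetherian Y] (hYe : KRR.HasEnoughLocFree Y)
    (E : P.Modules) (hE : FlatMod.IsFinLocFree E) (n : ℕ) (L : ChainComplex M.Modules ℕ)
    (π : L ⟶ (ChainComplex.single₀ M.Modules).obj ((Scheme.Modules.pushforward F).obj E))
    (hres : KRR.IsLFRes ((Scheme.Modules.pushforward F).obj E) n L π) :
    ∑ k ∈ Finset.range (n + 1), (-1 : ℤ) ^ k •
      KRR.cl Y ((Scheme.Modules.pullback φ).obj (L.X k)) =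
    (resEquiv hYe).symm (KZero.clSub (P₁ Y)
      ((Scheme.Modules.pushforward f).obj ((Scheme.Modules.pullback ψ).obj E))) := by
  haveI : IsClosedImmersion F := hF.1
  haveI : IsClosedImmersion f := hf.1
  haveI := hres.quasiIso
  haveI := resolvable_closedUnderIso hYe
  have hψE : FlatMod.IsFinLocFree ((Scheme.Modules.pullback ψ).obj E) :=
    Groth.Agent.Lead.LocLift.isFinLocFree_pullback ψ hE
  have hP : P₁ Y ((Scheme.Modules.pushforward f).obj ((Scheme.Modules.pullback ψ).obj E)) :=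
    resolvable_push f hYe hf _ hψE
  have hflf : ∀ k, FlatMod.IsFinLocFree ((pullCx' φ L).X k) :=
    fun k => Groth.Agent.Lead.LocLift.isFinLocFree_pullback φ (hres.finLocFree k)
  have hL : ∀ k, P₁ Y ((pullCx' φ L).X k) := fun k => P₁_of_flf hYe _ (hflf k)
  have hz : ∀ k, n < k → IsZero ((pullCx' φ L).X k) :=
    fun k hk => (Scheme.Modules.pullback φ).map_isZero (hres.isZero k hk)
  have hex : ∀ k, 1 ≤ k → (pullCx' φ L).ExactAt k := by
    intro k hk
    obtain ⟨j, rfl⟩ : ∃ j, k = j + 1 := ⟨k - 1, by omega⟩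
    exact exactAt_pullCx' F φ f ψ hsq hF hf d hcF hcf E hE n L π hres j
  have eL : L.homology 0 ≅ (Scheme.Modules.pushforward F).obj E :=
    asIso (HomologicalComplex.homologyMap π 0) ≪≫
      HomologicalComplex.singleObjHomologySelfIso (ComplexShape.down ℕ) 0 _
  haveI : E.IsQuasicoherent := (Groth.Agent.Lead.PerfLib.isCoh_of_isFinLocFree hE).1
  obtain ⟨ebc⟩ := Groth.Agent.S0017.result F φ ψ f hsq.flip E
  have e0 : (pullCx' φ L).homology 0 ≅
      (Scheme.Modules.pushforward f).obj ((Scheme.Modules.pullback ψ).obj E) :=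
    pullCxH0Iso φ L ≪≫ (Scheme.Modules.pullback φ).mapIso eL ≪≫ ebc
  have hH : P₁ Y ((pullCx' φ L).homology 0) := (P₁ Y).prop_of_iso e0.symm hP
  have h1 := euler (P₁ Y) (fun S hS h2 h3 => P₁_X₁ hYe S hS h2 h3) (pullCx' φ L) hL n hz hex hH
  have h2 := clSub_iso' (P₁ Y) e0 hH hP ((pullCx' φ L).X (n + 1)) (hz _ (by omega)) (hL _)
  rw [h2] at h1
  rw [h1, map_sum]
  refine Finset.sum_congr rfl fun k _ => ?_
  rw [map_zsmul]
  congr 1
  rw [AddEquiv.eq_symm_apply]
  exact resEquiv_cl hYe _ (hflf k)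

/-- **S3749**: `φ^K (F_K p) = f_K (ψ^K p)` for a fibre square of regular closed immersions of
the same codimension -/
theorem pull_pushCl (hsq : IsPullback f ψ φ F) (hF : Mor2.IsRegularClosedImmersion F)
    (hf : Mor2.IsRegularClosedImmersion f) (d : ℕ)
    (hcF : FlatMod.IsFinLocFreeOfRank d (Omega.conormal F))
    (hcf : FlatMod.IsFinLocFreeOfRank d (Omega.conormal f))
    [IsNoetherian Y] (hYe : KRR.HasEnoughLocFree Y) [IsNoetherian M]
    (hMe : KRR.HasEnoughLocFree M)
    {KX KY KP KM : Type*} [CommRing KX] [CommRing KY] [CommRing KP] [CommRing KM]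
    (φX : SGA6.Kvb X →+ KX) (φY : SGA6.Kvb Y →+ KY) (φP : SGA6.Kvb P →+ KP)
    (hP : Function.Bijective φP) (φM : SGA6.Kvb M →+ KM)
    (gφ : KM →+ KY) (hgφ : KRR.IsPull φ φM φY gφ) (gψ : KP →+ KX) (hgψ : KRR.IsPull ψ φP φX gψ)
    (gF : KP →+ KM) (hgF : KRR.IsPushCl F φP φM gF) (gf : KX →+ KY)
    (hgf : KRR.IsPushCl f φX φY gf) (p : KP) : gφ (gF p) = gf (gψ p) := by
  haveI : IsClosedImmersion F := hF.1
  haveI : IsClosedImmersion f := hf.1
  have h1 : (gφ.comp gF).comp φP = (gf.comp gψ).comp φP := by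
    apply hom_ext_of_cl
    intro E hE
    change gφ (gF (φP (KRR.cl P E))) = gf (gψ (φP (KRR.cl P E)))
    obtain ⟨n, L, π, hres⟩ := (resolvable_push F hMe hF E hE).2
    have hψE : FlatMod.IsFinLocFree ((Scheme.Modules.pullback ψ).obj E) :=
      Groth.Agent.Lead.LocLift.isFinLocFree_pullback ψ hE
    rw [hgF E hE n L π hres, map_sum, hgψ E hE,
      pushCl_apply hYe f hf φX φY gf hgf _ hψE,
      ← sum_cl_pullback_eq F φ f ψ hsq hF hf d hcF hcf hYe E hE n L π hres, map_sum]
    refine Finset.sum_congr rfl fun k _ => ?_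
    rw [map_zsmul, map_zsmul, hgφ _ (hres.finLocFree k)]
  obtain ⟨w, rfl⟩ := hP.surjective p
  exact DFunLike.congr_fun h1 w

end Groth.Agent.Lead.KTor
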