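import Mathlib
import Groth.Agent.Lead.KTorE
import Groth.Agent.Lead.KPush4
import Groth.Agent.Helper4.PullUnit
import Groth.Agent.Helper4.QAffCounit
import Groth.Agent.Helper4.PullAmple
import Groth.Agent.Helper4.FinLocFree6

set_option autoImplicit false
set_option linter.style.haveILetI false
set_option linter.unusedSectionVars false
set_option linter.unusedVariables false

/-!
# `[O_Y] · [O_Z] = [O_{Y ∩ Z}]` for closed subschemes meeting regularly (SGA 6)
-/

namespace Groth.Agent.Lead.KTor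

open CategoryTheory Limits AlgebraicGeometry Opposite
open Groth.Agent.Lead.KPush Groth.Agent.Lead.KPull Groth.Agent.Lead.SyzReg
open Groth.Agent.Lead.KPoinc
open ZeroObject

universe v u

variable {X Y Z W : Scheme.{u}}

theorem isNoetherian_of_isClosedImmersion (j : Z ⟶ X) [IsClosedImmersion j] [IsNoetherian X] :
    IsNoetherian Z :=
  { toIsLocallyNoetherian := LocallyOfFiniteType.isLocallyNoetherian j
    toCompactSpace := j.isClosedEmbedding.compactSpace }

/-- a closed subscheme of a scheme with enough locally free modules has enough of them -/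
theorem hasEnoughLocFree_of_isClosedImmersion (j : Z ⟶ X) [IsClosedImmersion j]
    [IsLocallyNoetherian X] (hXe : KRR.HasEnoughLocFree X) : KRR.HasEnoughLocFree Z := by
  intro G hG
  have hc : Coh.IsCoh ((Scheme.Modules.pushforward j).obj G) := Groth.Agent.S0019.result j G hG
  obtain ⟨E, p, hE, hp⟩ := hXe _ hc
  haveI := hp
  haveI : (Scheme.Modules.pullback j).PreservesEpimorphisms :=
    Functor.preservesEpimorphisms_of_adjunction (Scheme.Modules.pullbackPushforwardAdjunction j)
  haveI : Epi ((Scheme.Modules.pullbackPushforwardAdjunction j).counit.app G) :=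
    ((Groth.Agent.Helper4.QAffCounit.isQuasiAffine_iff_separated_and_counit_epi j).1
      (Groth.Agent.Helper4.PullAmple.isQuasiAffine_of_isAffineHom j)).2 G hG.1
  exact ⟨(Scheme.Modules.pullback j).obj E,
    (Scheme.Modules.pullback j).map p ≫
      (Scheme.Modules.pullbackPushforwardAdjunction j).counit.app G,
    Groth.Agent.Lead.LocLift.isFinLocFree_pullback j hE, epi_comp _ _⟩

/-- the pull-back on models preserves the unit -/
theorem pull_one (h : W ⟶ Y) {KW KY : Type*} [CommRing KW] [CommRing KY]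
    (φW : SGA6.Kvb W →+ KW) (φY : SGA6.Kvb Y →+ KY)
    (oneW : φW (KRR.cl W (Coh.structureModule W)) = 1)
    (oneY : φY (KRR.cl Y (Coh.structureModule Y)) = 1)
    (g : KY →+ KW) (hg : KRR.IsPull h φY φW g) : g 1 = 1 := by
  have hOY : FlatMod.IsFinLocFree (Coh.structureModule Y) :=
    Groth.Agent.Helper4.FinLocFree6.isFinLocFree_unit
  have hOW : FlatMod.IsFinLocFree (Coh.structureModule W) :=
    Groth.Agent.Helper4.FinLocFree6.isFinLocFree_unit
  rw [← oneY, hg _ hOY, ← oneW]
  congr 1
  have hz : IsZero (0 : W.Modules) := isZero_zero _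
  exact clSub_iso' (KRR.vbP W) (Groth.Agent.Helper4.PullUnit.pullbackUnitIso h)
    (Groth.Agent.Lead.LocLift.isFinLocFree_pullback h hOY) hOW 0 hz
    (Groth.Agent.Lead.PerfLib.isFinLocFree_of_isZero hz)


/-- **S3790**: `i_K(1) · j_K(1) = (g ≫ j)_K(1)` for closed subschemes meeting regularly -/
theorem pushCl_one_mul [IsNoetherian X] (hXe : KRR.HasEnoughLocFree X)
    (i : Y ⟶ X) (hi : Mor2.IsRegularClosedImmersion i)
    (j : Z ⟶ X) (hj : Mor2.IsRegularClosedImmersion j)
    (h : W ⟶ Y) (g : W ⟶ Z) (hsq : IsPullback g h j i) (hg : Mor2.IsRegularClosedImmersion g)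
    (d : ℕ) (hci : FlatMod.IsFinLocFreeOfRank d (Omega.conormal i))
    (hcg : FlatMod.IsFinLocFreeOfRank d (Omega.conormal g))
    {KX : Type v} [CommRing KX] [LambdaRing.LambdaOps KX] (PX : LambdaRing.PosStructure KX)
    (φX : SGA6.Kvb X →+ KX) (hKX : KRR.IsModel X KX PX φX)
    {KY : Type v} [CommRing KY] [LambdaRing.LambdaOps KY] (PY : LambdaRing.PosStructure KY)
    (φY : SGA6.Kvb Y →+ KY) (hKY : KRR.IsModel Y KY PY φY)
    {KZ : Type v} [CommRing KZ] [LambdaRing.LambdaOps KZ] (PZ : LambdaRing.PosStructure KZ)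
    (φZ : SGA6.Kvb Z →+ KZ) (hKZ : KRR.IsModel Z KZ PZ φZ)
    {KW : Type v} [CommRing KW] [LambdaRing.LambdaOps KW] (PW : LambdaRing.PosStructure KW)
    (φW : SGA6.Kvb W →+ KW) (hKW : KRR.IsModel W KW PW φW)
    (a : KY →+ KX) (ha : KRR.IsPushCl i φY φX a) (b : KZ →+ KX) (hb : KRR.IsPushCl j φZ φX b)
    (c : KW →+ KX) (hc : KRR.IsPushCl (g ≫ j) φW φX c) :
    a 1 * b 1 = c 1 := by
  haveI : IsClosedImmersion i := hi.1
  haveI : IsClosedImmersion j := hj.1
  haveI : IsClosedImmersion g := hg.1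
  haveI : IsNoetherian Z := isNoetherian_of_isClosedImmersion j
  have hZe := hasEnoughLocFree_of_isClosedImmersion j hXe
  obtain ⟨jK, hjK, -⟩ := existsUnique_isPull j φZ φX hKX.bijective
  obtain ⟨hK, hhK, -⟩ := existsUnique_isPull h φW φY hKY.bijective
  obtain ⟨gK, hgK, -⟩ := existsUnique_isPushCl g hZe hg φW φZ hKW.bijective
  have h1 := pushCl_mul_pull hXe j hj φZ φX hKZ.bijective hKX.bijective hKZ.map_mul hKX.map_mul
    jK hjK b hb 1 (a 1)
  have h2 := pull_pushCl i j g h hsq hi hg d hci hcg hZe hXe φW φZ φY hKY.bijective φX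
    jK hjK hK hhK a ha gK hgK 1
  have h3 := pull_one h φW φY hKW.map_one hKY.map_one hK hhK
  have h4 := pushCl_comp hZe hXe g j hg hj φW hKW.bijective φZ φX gK hgK b hb c hc
  rw [mul_comm, ← h1, one_mul, h2, h3, h4]
  rfl

end Groth.Agent.Lead.KTor
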