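import Mathlib

set_option autoImplicit false
universe u
open CategoryTheory CategoryTheory.Limits AlgebraicGeometry

namespace Groth.Agent.Lead.KerFlat

theorem stalkMap_injective_of_flat {X Y : Scheme.{u}} (f : X ⟶ Y) [Flat f] (x : X) :
    Function.Injective (f.stalkMap x).hom := by
  algebraize [(f.stalkMap x).hom]
  have : Module.FaithfullyFlat (Y.presheaf.stalk (f x)) (X.presheaf.stalk x) :=
    @Module.FaithfullyFlat.of_flat_of_isLocalHom _ _ _ _ _ _ _
      (Flat.stalkMap f x) (f.toLRSHom.prop x)
  exact ‹RingHom.FaithfullyFlat _›.injective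

theorem app_injective_of_flat_of_surjective {X Y : Scheme.{u}} (f : X ⟶ Y) [Flat f]
    [Surjective f] (U : Y.Opens) : Function.Injective (f.app U).hom := by
  rw [injective_iff_map_eq_zero]
  intro a ha
  have key : ∀ (y : Y) (hy : y ∈ U), Y.presheaf.germ U y hy a = Y.presheaf.germ U y hy 0 := by
    intro y hy
    obtain ⟨x, rfl⟩ := f.surjective y
    apply stalkMap_injective_of_flat f x
    change f.stalkMap x (Y.presheaf.germ U (f x) hy a) =
      f.stalkMap x (Y.presheaf.germ U (f x) hy 0)
    rw [Scheme.Hom.germ_stalkMap_apply, Scheme.Hom.germ_stalkMap_apply]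
    have ha' : f.app U a = 0 := ha
    rw [ha', map_zero, map_zero, map_zero]
  exact TopCat.Presheaf.section_ext Y.sheaf U a 0 key

theorem ker_eq_bot_of_flat_of_surjective {X Y : Scheme.{u}} (f : X ⟶ Y) [Flat f]
    [Surjective f] : f.ker = ⊥ := by
  apply Scheme.IdealSheafData.ext
  funext U
  rw [Scheme.IdealSheafData.ideal_bot, Pi.bot_apply, eq_bot_iff]
  refine (f.ideal_ker_le U).trans ?_
  rw [le_bot_iff, RingHom.ker_eq_bot_iff_eq_zero]
  intro a ha
  exact app_injective_of_flat_of_surjective f U (by rw [ha, map_zero])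

theorem comap_map_eq_of_flat_of_surjective {X Y : Scheme.{u}} (f : X ⟶ Y) [Flat f]
    [Surjective f] (J : Y.IdealSheafData) : (J.comap f).map f = J := by
  have h1 : (J.comap f).subschemeι ≫ f =
      ((J.comapIso f).hom ≫ pullback.snd f J.subschemeι) ≫ J.subschemeι := by
    rw [Category.assoc, ← pullback.condition, ← Category.assoc,
      Scheme.IdealSheafData.comapIso_hom_fst]
  rw [Scheme.IdealSheafData.map, h1, Category.assoc, Scheme.Hom.ker_comp_of_isIso,
    Scheme.Hom.ker_comp, ker_eq_bot_of_flat_of_surjective, Scheme.IdealSheafData.map_bot,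
    Scheme.IdealSheafData.ker_subschemeι]

end Groth.Agent.Lead.KerFlat
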