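import Mathlib

set_option autoImplicit false
set_option linter.style.haveILetI false
set_option linter.unusedVariables false
set_option linter.unusedSectionVars false

universe u

namespace Groth.Agent.Lead.KummerA

/-- `p^(n-s)` divides `choose (p^n) i` when `i = p^s * t'`, `p ∤ t'`. -/
theorem choose_dvd (p n i : ℕ) (hp : p.Prime) (hi0 : 0 < i) (hi : i < p ^ n) :
    ∃ s, s < n ∧ p ^ s ≤ i ∧ p ^ (n - s) ∣ Nat.choose (p ^ n) i := by
  obtain ⟨s, t', ht', rfl⟩ := Nat.exists_eq_pow_mul_and_not_dvd hi0.ne' p hp.ne_one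
  have ht0 : 0 < t' := Nat.pos_of_ne_zero (by rintro rfl; simp at hi0)
  have hs : s < n := by
    have h1 : p ^ s ≤ p ^ s * t' := Nat.le_mul_of_pos_right _ ht0
    exact (Nat.pow_lt_pow_iff_right hp.one_lt).mp (lt_of_le_of_lt h1 hi)
  refine ⟨s, hs, Nat.le_mul_of_pos_right _ ht0, ?_⟩
  have hq : 0 < p ^ n := pow_pos hp.pos n
  obtain ⟨m, hm⟩ : ∃ m, p ^ n = m + 1 := ⟨p ^ n - 1, by omega⟩
  obtain ⟨k, hk⟩ : ∃ k, p ^ s * t' = k + 1 := ⟨p ^ s * t' - 1, by omega⟩
  have key : (m + 1) * Nat.choose m k = Nat.choose (m + 1) (k + 1) * (k + 1) :=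
    Nat.add_one_mul_choose_eq m k
  rw [← hm, ← hk] at key
  have h1 : p ^ n ∣ Nat.choose (p ^ n) (p ^ s * t') * (p ^ s * t') := ⟨_, key.symm⟩
  have h2 : p ^ n = p ^ s * p ^ (n - s) := by rw [← pow_add]; congr 1; omega
  rw [h2, show Nat.choose (p ^ s * p ^ (n - s)) (p ^ s * t') * (p ^ s * t') =
    p ^ s * (Nat.choose (p ^ s * p ^ (n - s)) (p ^ s * t') * t') by ring] at h1
  have h3 := (Nat.mul_dvd_mul_iff_left (pow_pos hp.pos s)).mp h1
  have hc : Nat.Coprime (p ^ (n - s)) t' :=
    Nat.Coprime.pow_left _ ((Nat.Prime.coprime_iff_not_dvd hp).2 ht')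
  rw [← h2] at h3
  exact hc.dvd_of_dvd_mul_right h3

theorem pow_le_add (r s d : ℕ) :
    (r + 1) ^ (s + d) ≤ (r + 1) ^ s + d * r * (r + 1) ^ (s + d - 1) := by
  induction d with
  | zero => simp
  | succ d ih =>
    have h1 : (r + 1) ^ (s + (d + 1)) = r * (r + 1) ^ (s + d) + (r + 1) ^ (s + d) := by
      rw [show s + (d + 1) = (s + d) + 1 by ring, pow_succ]; ring
    have h2 : (r + 1) ^ (s + d - 1) ≤ (r + 1) ^ (s + d) :=
      Nat.pow_le_pow_right (Nat.succ_pos r) (Nat.sub_le _ _)
    have h3 : s + (d + 1) - 1 = s + d := by omega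
    rw [h1, h3]
    have h4 : d * r * (r + 1) ^ (s + d - 1) ≤ d * r * (r + 1) ^ (s + d) :=
      Nat.mul_le_mul_left _ h2
    nlinarith [ih, h4]

/-- The key exponent inequality. -/
theorem exp_ineq (p n s i j : ℕ) (hp : 1 ≤ p) (hs : s < n) (hsi : p ^ s ≤ i) (hi : i < p ^ n) :
    (j + 1) * (p ^ n - i) ≤ (p ^ (n - 1) * (p - 1) * (j + 1)) * (n - s) := by
  obtain ⟨r, rfl⟩ : ∃ r, p = r + 1 := ⟨p - 1, by omega⟩
  have h := pow_le_add r s (n - s)
  rw [show s + (n - s) = n by omega] at h
  have h1 : (r + 1) ^ n - i ≤ (n - s) * r * (r + 1) ^ (n - 1) := by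
    have : (r + 1) ^ n - i ≤ (r + 1) ^ n - (r + 1) ^ s := Nat.sub_le_sub_left hsi _
    omega
  calc (j + 1) * ((r + 1) ^ n - i) ≤ (j + 1) * ((n - s) * r * (r + 1) ^ (n - 1)) :=
        Nat.mul_le_mul_left _ h1
    _ = ((r + 1) ^ (n - 1) * (r + 1 - 1) * (j + 1)) * (n - s) := by
        rw [Nat.add_sub_cancel]; ring

/-- Divisibility of binomial coefficients by powers of the uniformizer. -/
theorem choose_dvd_ring {R : Type*} [CommRing R] (ϖ : R) (p n j : ℕ) (hp : p.Prime)
    (hj : ϖ ^ (p ^ (n - 1) * (p - 1) * (j + 1)) ∣ (p : R)) (i : ℕ) (hi0 : 0 < i)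
    (hi : i < p ^ n) :
    ϖ ^ ((j + 1) * (p ^ n - i)) ∣ ((Nat.choose (p ^ n) i : ℕ) : R) := by
  obtain ⟨s, hs, hsi, hdvd⟩ := choose_dvd p n i hp hi0 hi
  have h1 := exp_ineq p n s i j hp.one_lt.le hs hsi hi
  have h2 : ϖ ^ ((j + 1) * (p ^ n - i)) ∣ ϖ ^ ((p ^ (n - 1) * (p - 1) * (j + 1)) * (n - s)) :=
    pow_dvd_pow _ h1
  have h3 : ϖ ^ ((p ^ (n - 1) * (p - 1) * (j + 1)) * (n - s)) ∣ (p : R) ^ (n - s) := by
    rw [pow_mul]; exact pow_dvd_pow_of_dvd hj _
  have h4 : (p : R) ^ (n - s) ∣ ((Nat.choose (p ^ n) i : ℕ) : R) := by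
    have := Nat.cast_dvd_cast (α := R) hdvd
    simpa using this
  exact h2.trans (h3.trans h4)

/-- Binomial expansion separating the extreme terms. -/
theorem one_add_pow_succ {L : Type*} [CommRing L] (x : L) (m : ℕ) :
    (1 + x) ^ (m + 1) = 1 + x ^ (m + 1) +
      ∑ k ∈ Finset.range m, ((Nat.choose (m + 1) (k + 1) : ℕ) : L) * x ^ (k + 1) := by
  rw [add_comm 1 x, add_pow, Finset.sum_range_succ, Finset.sum_range_succ']
  simp only [one_pow, mul_one, Nat.choose_self, Nat.cast_one, pow_zero, Nat.choose_zero_right,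
    Nat.sub_self]
  have : ∀ k ∈ Finset.range m, x ^ (k + 1) * ((Nat.choose (m + 1) (k + 1) : ℕ) : L) =
      ((Nat.choose (m + 1) (k + 1) : ℕ) : L) * x ^ (k + 1) := fun k _ => mul_comm _ _
  rw [Finset.sum_congr rfl this]
  ring


theorem expand {L : Type*} [CommRing L] (τ W : L) (c : ℕ → L) (m J a : ℕ) (ha : a ≤ J)
    (hc : ∀ k, k < m → ((Nat.choose (m + 1) (k + 1) : ℕ) : L) = τ ^ (J * (m - k)) * c k) :
    (1 + τ ^ a * W) ^ (m + 1) = 1 + τ ^ (a * (m + 1)) *
      (W ^ (m + 1) + ∑ k ∈ Finset.range m, τ ^ ((J - a) * (m - k)) * c k * W ^ (k + 1)) := by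
  rw [one_add_pow_succ, mul_add, Finset.mul_sum, ← add_assoc]
  congr 1
  · rw [mul_pow, ← pow_mul]
  · refine Finset.sum_congr rfl fun k hk => ?_
    have hk' : k < m := Finset.mem_range.mp hk
    rw [hc k hk']
    obtain ⟨e, rfl⟩ : ∃ e, J = a + e := ⟨J - a, by omega⟩
    obtain ⟨f, rfl⟩ : ∃ f, m = k + f := ⟨m - k, by omega⟩
    rw [show a + e - a = e by omega, show k + f - k = f by omega]
    ring

theorem core {A : Type u} [CommRing A] (t : A) (p n : ℕ) (hp : p.Prime)
    (L : Type u) [CommRing L] [Algebra A L]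
    (hinj : Function.Injective (algebraMap A L))
    (ht : IsUnit (algebraMap A L t))
    (hN : ∀ x : L, IsIntegral A x → ∀ (m : ℕ) (a : A),
      algebraMap A L t ^ m * x = algebraMap A L a → ∃ c, a = t ^ m * c)
    (hpt : (p : A) ∈ Ideal.span {t})
    (hlift : ∀ a : A, IsUnit (Ideal.Quotient.mk (Ideal.span {t}) a) → IsUnit a)
    (j : ℕ)
    (hD : ∀ i, 0 < i → i < p ^ n →
      t ^ ((j + 1) * (p ^ n - i)) ∣ ((Nat.choose (p ^ n) i : ℕ) : A))
    (f g : Aˣ) (f₀ : A)
    (hfg : (f : A) * (g : A) ^ (p ^ n) = 1 + t ^ (j * p ^ n) * f₀)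
    (hmax : ∀ (g' : Aˣ) (c : A),
      (f : A) * (g' : A) ^ (p ^ n) ≠ 1 + t ^ ((j + 1) * p ^ n) * c)
    (Z : L) (hZ : Z ^ (p ^ n) = algebraMap A L f)
    (hred : (Ideal.span {algebraMap A (integralClosure A L) t}).IsRadical)
    (g₀ : A) : f₀ - g₀ ^ (p ^ n) ∉ Ideal.span {t} := by
  intro hmem
  obtain ⟨d, hd⟩ := Ideal.mem_span_singleton'.mp hmem
  obtain ⟨pc, hpc⟩ := Ideal.mem_span_singleton'.mp hpt
  have hqpos : 0 < p ^ n := pow_pos hp.pos n
  obtain ⟨m, hm⟩ : ∃ m, p ^ n = m + 1 := ⟨p ^ n - 1, by omega⟩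
  have hred' := hred
  rw [hm] at hfg hmax hZ hd hD
  obtain ⟨τi, hτi⟩ : ∃ τi : L, algebraMap A L t * τi = 1 := ⟨_, ht.mul_val_inv⟩
  have hbex : ∀ k, ∃ bk : A, k < m →
      ((Nat.choose (m + 1) (k + 1) : ℕ) : A) = t ^ ((j + 1) * (m - k)) * bk := by
    intro k
    by_cases hk : k < m
    · obtain ⟨bk, hbk⟩ := hD (k + 1) (Nat.succ_pos k) (by omega)
      refine ⟨bk, fun _ => ?_⟩
      rw [hbk, show m + 1 - (k + 1) = m - k by omega]
    · exact ⟨0, fun h => absurd h hk⟩
  choose b hb using hbex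
  have hbL : ∀ k, k < m → ((Nat.choose (m + 1) (k + 1) : ℕ) : L) =
      algebraMap A L t ^ ((j + 1) * (m - k)) * algebraMap A L (b k) := by
    intro k hk
    have := congrArg (algebraMap A L) (hb k hk)
    simpa using this
  -- the elements `y` and `W`
  obtain ⟨y, hy⟩ : ∃ y : L, y = Z * algebraMap A L g := ⟨_, rfl⟩
  have hyq : y ^ (m + 1) = 1 + algebraMap A L t ^ (j * (m + 1)) * algebraMap A L f₀ := by
    rw [hy, mul_pow, hZ, ← map_pow, ← map_mul, hfg]; simp
  obtain ⟨W, hW⟩ : ∃ W : L, W = (y - 1) * τi ^ j := ⟨_, rfl⟩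
  have hyW : y = 1 + algebraMap A L t ^ j * W := by
    have : algebraMap A L t ^ j * ((y - 1) * τi ^ j) = (y - 1) * (algebraMap A L t * τi) ^ j := by
      ring
    rw [hW, this, hτi, one_pow, mul_one]; ring
  have hexp := expand (algebraMap A L t) W (fun k => algebraMap A L (b k)) m (j + 1) j
    (Nat.le_succ j) hbL
  rw [← hyW, hyq, show j + 1 - j = 1 by omega] at hexp
  simp only [one_mul] at hexp
  have hstar : algebraMap A L f₀ = W ^ (m + 1) + ∑ k ∈ Finset.range m,
      algebraMap A L t ^ (m - k) * algebraMap A L (b k) * W ^ (k + 1) :=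
    (ht.pow (j * (m + 1))).mul_left_cancel (add_left_cancel hexp)
  -- `W` is integral
  have hWint : IsIntegral A W := by
    let r : Polynomial A := ∑ k ∈ Finset.range m,
      Polynomial.C (t ^ (m - k) * b k) * Polynomial.X ^ (k + 1) - Polynomial.C f₀
    have hdeg : r.degree < ((m + 1 : ℕ) : WithBot ℕ) := by
      refine lt_of_le_of_lt (Polynomial.degree_sub_le _ _) (max_lt ?_ ?_)
      · refine lt_of_le_of_lt (Polynomial.degree_sum_le _ _) ?_
        rw [Finset.sup_lt_iff (WithBot.bot_lt_coe _)]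
        intro k hk
        refine lt_of_le_of_lt (Polynomial.degree_C_mul_X_pow_le _ _) ?_
        exact_mod_cast Nat.succ_lt_succ (Finset.mem_range.mp hk)
      · exact lt_of_le_of_lt Polynomial.degree_C_le (by exact_mod_cast Nat.succ_pos m)
    refine ⟨Polynomial.X ^ (m + 1) + r, Polynomial.monic_X_pow_add hdeg, ?_⟩
    simp only [r, Polynomial.eval₂_add, Polynomial.eval₂_sub, Polynomial.eval₂_pow,
      Polynomial.eval₂_X, Polynomial.eval₂_finsetSum, Polynomial.eval₂_mul, Polynomial.eval₂_C,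
      map_mul, map_pow]
    rw [hstar]; ring
  -- pass to the integral closure `B`
  obtain ⟨WB, hWB⟩ : ∃ WB : integralClosure A L, (WB : L) = W := ⟨⟨W, hWint⟩, rfl⟩
  have hstarB : algebraMap A (integralClosure A L) f₀ = WB ^ (m + 1) + ∑ k ∈ Finset.range m,
      algebraMap A (integralClosure A L) (t ^ (m - k) * b k) * WB ^ (k + 1) := by
    apply Subtype.ext
    simp only [Subalgebra.coe_add, Subalgebra.coe_pow, AddSubmonoidClass.coe_finsetSum,
      Subalgebra.coe_mul, Subalgebra.coe_algebraMap, hWB, map_mul, map_pow]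
    exact hstar
  have hI1 : WB ^ (m + 1) - algebraMap A (integralClosure A L) f₀ ∈
      Ideal.span {algebraMap A (integralClosure A L) t} := by
    rw [hstarB, sub_add_cancel_left, Ideal.neg_mem_iff]
    refine Ideal.sum_mem _ fun k hk => ?_
    have hk' : k < m := Finset.mem_range.mp hk
    obtain ⟨e, he⟩ : ∃ e, m - k = e + 1 := ⟨m - k - 1, by omega⟩
    rw [he, pow_succ, Ideal.mem_span_singleton']
    refine ⟨algebraMap A (integralClosure A L) (t ^ e * b k) * WB ^ (k + 1), ?_⟩
    simp only [map_mul, map_pow]; ring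
  have hI2 : algebraMap A (integralClosure A L) f₀ -
      (algebraMap A (integralClosure A L) g₀) ^ (m + 1) ∈
      Ideal.span {algebraMap A (integralClosure A L) t} := by
    rw [Ideal.mem_span_singleton']
    refine ⟨algebraMap A (integralClosure A L) d, ?_⟩
    rw [← map_mul, hd, map_sub, map_pow]
  have hpB : ((p : ℕ) : integralClosure A L) ∈
      Ideal.span {algebraMap A (integralClosure A L) t} := by
    rw [Ideal.mem_span_singleton']
    refine ⟨algebraMap A (integralClosure A L) pc, ?_⟩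
    rw [← map_mul, hpc, map_natCast]
  have hI3 : (-(algebraMap A (integralClosure A L) g₀)) ^ (m + 1) +
      (algebraMap A (integralClosure A L) g₀) ^ (m + 1) ∈
      Ideal.span {algebraMap A (integralClosure A L) t} := by
    rcases Nat.even_or_odd (m + 1) with he | ho
    · rw [he.neg_pow]
      have hp2 : p = 2 := by
        rw [← hm] at he
        exact (Nat.Prime.even_iff hp).mp ((Nat.even_pow.mp he).1)
      have : (algebraMap A (integralClosure A L) g₀) ^ (m + 1) +
          (algebraMap A (integralClosure A L) g₀) ^ (m + 1) =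
          ((p : ℕ) : integralClosure A L) * (algebraMap A (integralClosure A L) g₀) ^ (m + 1) := by
        rw [hp2]; push_cast; ring
      rw [this]
      exact Ideal.mul_mem_right _ _ hpB
    · rw [ho.neg_pow, neg_add_cancel]; exact Ideal.zero_mem _
  have hI4 : (WB - algebraMap A (integralClosure A L) g₀) ^ (m + 1) ∈
      Ideal.span {algebraMap A (integralClosure A L) t} := by
    obtain ⟨r, hr⟩ := exists_add_pow_prime_pow_eq hp WB
      (-(algebraMap A (integralClosure A L) g₀)) n
    rw [hm] at hr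
    rw [sub_eq_add_neg, hr]
    have : WB ^ (m + 1) + (-(algebraMap A (integralClosure A L) g₀)) ^ (m + 1) +
        (p : integralClosure A L) * WB * -(algebraMap A (integralClosure A L)) g₀ * r =
        (WB ^ (m + 1) - algebraMap A (integralClosure A L) f₀) +
        (algebraMap A (integralClosure A L) f₀ -
          (algebraMap A (integralClosure A L) g₀) ^ (m + 1)) +
        ((-(algebraMap A (integralClosure A L) g₀)) ^ (m + 1) +
          (algebraMap A (integralClosure A L) g₀) ^ (m + 1)) +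
        (p : integralClosure A L) * (WB * -(algebraMap A (integralClosure A L)) g₀ * r) := by
      ring
    rw [this]
    exact Ideal.add_mem _ (Ideal.add_mem _ (Ideal.add_mem _ hI1 hI2) hI3)
      (Ideal.mul_mem_right _ _ hpB)
  have hI5 : WB - algebraMap A (integralClosure A L) g₀ ∈
      Ideal.span {algebraMap A (integralClosure A L) t} := hred ⟨m + 1, hI4⟩
  obtain ⟨W', hW'⟩ := Ideal.mem_span_singleton'.mp hI5
  -- `y = u + t^(j+1) W'`
  obtain ⟨u, hu⟩ : ∃ u : A, u = 1 + t ^ j * g₀ := ⟨_, rfl⟩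
  have hWL : W = algebraMap A L g₀ + (W' : L) * algebraMap A L t := by
    have := congrArg (Subtype.val) hW'
    simp only [Subalgebra.coe_mul, Subalgebra.coe_sub, Subalgebra.coe_algebraMap, hWB] at this
    rw [this]; ring
  obtain ⟨yB, hyB⟩ : ∃ yB : integralClosure A L, yB = algebraMap A (integralClosure A L) u +
      (algebraMap A (integralClosure A L) t) ^ (j + 1) * W' := ⟨_, rfl⟩
  have hyBL : (yB : L) = y := by
    rw [hyB, hyW, hWL, hu]
    simp only [Subalgebra.coe_add, Subalgebra.coe_mul, Subalgebra.coe_pow,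
      Subalgebra.coe_algebraMap, map_add, map_mul, map_pow, map_one, Subalgebra.coe_one]
    ring
  have hyBq : yB ^ (m + 1) = algebraMap A (integralClosure A L) ((f : A) * (g : A) ^ (m + 1)) := by
    apply Subtype.ext
    simp only [Subalgebra.coe_pow, Subalgebra.coe_algebraMap, hyBL]
    rw [hy, mul_pow, hZ, map_mul, map_pow]
  have huunit : IsUnit u := by
    apply hlift
    by_contra hnu
    have hne : Ideal.span {u} ⊔ Ideal.span {t} ≠ ⊤ := by
      intro htop
      apply hnu
      have h1 : (1 : A) ∈ Ideal.span {u} ⊔ Ideal.span {t} := htop ▸ Submodule.mem_top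
      obtain ⟨x, hx, z, hz, hxz⟩ := Submodule.mem_sup.mp h1
      obtain ⟨a', rfl⟩ := Ideal.mem_span_singleton'.mp hx
      refine IsUnit.of_mul_eq_one (Ideal.Quotient.mk _ a') ?_
      rw [← map_mul, ← map_one (Ideal.Quotient.mk (Ideal.span {t})), Ideal.Quotient.eq]
      have : u * a' - 1 = -z := by rw [← hxz]; ring
      rw [this]
      exact (Ideal.neg_mem_iff _).mpr hz
    obtain ⟨M, hM, hle⟩ := Ideal.exists_le_maximal _ hne
    have hker : RingHom.ker (algebraMap A (integralClosure A L)) ≤ M := by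
      intro a ha
      have h0 : algebraMap A L a = 0 := by
        have := congrArg (Subtype.val) (RingHom.mem_ker.mp ha)
        simpa using this
      rw [hinj (h0.trans (map_zero _).symm)]; exact M.zero_mem
    obtain ⟨Q, hQmax, hQ⟩ := Ideal.exists_ideal_over_maximal_of_isIntegral M hker
    have huQ : algebraMap A (integralClosure A L) u ∈ Q := by
      have : u ∈ M := hle (Ideal.mem_sup_left (Ideal.subset_span rfl))
      rw [← hQ] at this; exact this
    have htQ : algebraMap A (integralClosure A L) t ∈ Q := by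
      have : t ∈ M := hle (Ideal.mem_sup_right (Ideal.subset_span rfl))
      rw [← hQ] at this; exact this
    have hyQ : yB ∈ Q := by
      rw [hyB]
      exact Q.add_mem huQ (Q.mul_mem_right _ (Ideal.pow_mem_of_mem _ htQ _ (Nat.succ_pos j)))
    have h2 : yB ^ (m + 1) ∈ Q := Ideal.pow_mem_of_mem _ hyQ _ (Nat.succ_pos m)
    rw [hyBq] at h2
    have hunit : IsUnit (algebraMap A (integralClosure A L) ((f : A) * (g : A) ^ (m + 1))) :=
      ((f * g ^ (m + 1)).isUnit.map (algebraMap A (integralClosure A L)))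
    exact hQmax.ne_top (Ideal.eq_top_of_isUnit_mem _ h2 hunit)
  obtain ⟨uu, huu⟩ := huunit
  -- the new unit `g' = g / u`
  obtain ⟨W'', hW''⟩ : ∃ W'' : integralClosure A L,
      W'' = W' * algebraMap A (integralClosure A L) ((uu⁻¹ : Aˣ) : A) := ⟨_, rfl⟩
  have huinv : algebraMap A L u * algebraMap A L ((uu⁻¹ : Aˣ) : A) = 1 := by
    rw [← map_mul, ← huu, Units.mul_inv, map_one]
  have hZg' : Z * algebraMap A L ((g * uu⁻¹ : Aˣ) : A) =
      1 + algebraMap A L t ^ (j + 1) * (W'' : L) := by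
    have h1 : Z * algebraMap A L ((g * uu⁻¹ : Aˣ) : A) =
        y * algebraMap A L ((uu⁻¹ : Aˣ) : A) := by
      rw [hy, Units.val_mul, map_mul]; ring
    rw [h1, ← hyBL, hyB, hW'']
    simp only [Subalgebra.coe_add, Subalgebra.coe_mul, Subalgebra.coe_pow,
      Subalgebra.coe_algebraMap]
    rw [add_mul, huinv]; ring
  have hexp2 := expand (algebraMap A L t) (W'' : L) (fun k => algebraMap A L (b k)) m (j + 1)
    (j + 1) le_rfl hbL
  rw [← hZg', Nat.sub_self] at hexp2
  simp only [zero_mul, pow_zero, one_mul] at hexp2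
  obtain ⟨xB, hxB⟩ : ∃ xB : integralClosure A L, xB = W'' ^ (m + 1) + ∑ k ∈ Finset.range m,
      algebraMap A (integralClosure A L) (b k) * W'' ^ (k + 1) := ⟨_, rfl⟩
  have hxBL : (xB : L) = (W'' : L) ^ (m + 1) + ∑ k ∈ Finset.range m,
      algebraMap A L (b k) * (W'' : L) ^ (k + 1) := by
    rw [hxB]
    simp only [Subalgebra.coe_add, Subalgebra.coe_pow, AddSubmonoidClass.coe_finsetSum,
      Subalgebra.coe_mul, Subalgebra.coe_algebraMap]
  have hfin : algebraMap A L t ^ ((j + 1) * (m + 1)) * (xB : L) =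
      algebraMap A L ((f : A) * ((g * uu⁻¹ : Aˣ) : A) ^ (m + 1) - 1) := by
    rw [hxBL, map_sub, map_mul, map_pow, map_one, ← hZ, ← mul_pow, hexp2]; ring
  obtain ⟨c, hc⟩ := hN (xB : L) xB.2 _ _ hfin
  refine hmax (g * uu⁻¹) c ?_
  rw [← hc]; ring

theorem hN_concrete {A : Type u} [CommRing A] [IsDomain A] [IsIntegrallyClosed A] (t : A)
    (ht0 : t ≠ 0) (L : Type u) [CommRing L] [Algebra A L] [Algebra (Localization.Away t) L]
    [IsScalarTower A (Localization.Away t) L]
    (hψ : Function.Injective (algebraMap (Localization.Away t) L)) :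
    ∀ x : L, IsIntegral A x → ∀ (m : ℕ) (a : A),
      algebraMap A L t ^ m * x = algebraMap A L a → ∃ c, a = t ^ m * c := by
  intro x hx m a hxa
  have htu : IsUnit (algebraMap A (Localization.Away t) t) :=
    IsLocalization.Away.algebraMap_isUnit t
  obtain ⟨ξ, hξ⟩ : ∃ ξ : Localization.Away t,
      algebraMap A (Localization.Away t) t ^ m * ξ = algebraMap A (Localization.Away t) a := by
    obtain ⟨v, hv⟩ := htu.pow m
    exact ⟨↑v⁻¹ * algebraMap A (Localization.Away t) a,
      by rw [← mul_assoc, ← hv, Units.mul_inv, one_mul]⟩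
  have hxξ : algebraMap (Localization.Away t) L ξ = x := by
    have h1 : algebraMap A L t ^ m * algebraMap (Localization.Away t) L ξ =
        algebraMap A L t ^ m * x := by
      rw [hxa, IsScalarTower.algebraMap_apply A (Localization.Away t) L,
        IsScalarTower.algebraMap_apply A (Localization.Away t) L, ← map_pow, ← map_mul, hξ]
    have hu : IsUnit (algebraMap A L t ^ m) := by
      rw [IsScalarTower.algebraMap_apply A (Localization.Away t) L]
      exact (htu.map _).pow m
    exact hu.mul_left_cancel h1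
  have hξint : IsIntegral A ξ := by
    rw [← hxξ] at hx
    exact (isIntegral_algHom_iff (IsScalarTower.toAlgHom A (Localization.Away t) L) hψ).mp hx
  have htK : algebraMap A (FractionRing A) t ≠ 0 := by
    intro h
    exact ht0 (IsFractionRing.injective A (FractionRing A) (h.trans (map_zero _).symm))
  have hunits : ∀ y : Submonoid.powers t, IsUnit (algebraMap A (FractionRing A) (y : A)) := by
    rintro ⟨_, k, rfl⟩
    simp only [map_pow]
    exact (IsUnit.mk0 _ htK).pow k
  obtain ⟨χ, hχ⟩ : ∃ χ : Localization.Away t →+* FractionRing A,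
      χ.comp (algebraMap A (Localization.Away t)) = algebraMap A (FractionRing A) :=
    ⟨IsLocalization.lift hunits, IsLocalization.lift_comp hunits⟩
  have hint : IsIntegral A (χ ξ) :=
    IsIntegral.map_of_comp_eq (RingHom.id A) χ (by rw [RingHom.comp_id]; exact hχ.symm) hξint
  obtain ⟨c, hc⟩ := IsIntegrallyClosed.isIntegral_iff.mp hint
  refine ⟨c, ?_⟩
  apply IsFractionRing.injective A (FractionRing A)
  rw [map_mul, map_pow, hc, ← hχ]
  simp only [RingHom.comp_apply]
  rw [← map_pow, ← map_mul, hξ]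

open Polynomial in
theorem main (R : Type u) [CommRing R] [IsDomain R] [IsDiscreteValuationRing R] [CharZero R]
    (p : ℕ) [Fact p.Prime] [CharP (IsLocalRing.ResidueField R) p] (ϖ : R) (hϖ : Irreducible ϖ)
    (n : ℕ) (hn : 0 < n) (ζ : R) (hζ : IsPrimitiveRoot ζ (p ^ n))
    (A : Type u) [CommRing A] [IsDomain A] [IsNoetherianRing A] [IsIntegrallyClosed A] [Algebra R A]
    [Module.FaithfullyFlat R A]
    (hprime : (Ideal.span {algebraMap R A ϖ}).IsPrime)
    (hlift : ∀ a : A, IsUnit (Ideal.Quotient.mk (Ideal.span {algebraMap R A ϖ}) a) → IsUnit a)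
    (f g : Aˣ) (j : ℕ) (hj : ϖ ^ (p ^ (n - 1) * (p - 1) * (j + 1)) ∣ (p : R)) (f₀ : A)
    (hfg : (f : A) * (g : A) ^ (p ^ n) = 1 + (algebraMap R A ϖ) ^ (j * p ^ n) * f₀)
    (hmax : ∀ (g' : Aˣ) (c : A), (f : A) * (g' : A) ^ (p ^ n) ≠ 1 + (algebraMap R A ϖ) ^ ((j + 1) * p ^ n) * c)
    [IsDomain (AdjoinRoot (Polynomial.X ^ (p ^ n) - Polynomial.C (algebraMap A (Localization.Away (algebraMap R A ϖ)) (f : A))))]
    (hred : (Ideal.span {algebraMap A (integralClosure A (AdjoinRoot (Polynomial.X ^ (p ^ n) - Polynomial.C (algebraMap A (Localization.Away (algebraMap R A ϖ)) (f : A))))) (algebraMap R A ϖ)}).IsRadical)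
    (g₀ : A) : f₀ - g₀ ^ (p ^ n) ∉ Ideal.span {(algebraMap R A ϖ)} := by
  have hp : p.Prime := Fact.out
  have ht0 : algebraMap R A ϖ ≠ 0 := by
    intro h
    exact hϖ.ne_zero (FaithfulSMul.algebraMap_injective R A (h.trans (map_zero _).symm))
  have hle : Submonoid.powers (algebraMap R A ϖ) ≤ nonZeroDivisors A :=
    powers_le_nonZeroDivisors_of_noZeroDivisors ht0
  haveI : IsDomain (Localization.Away (algebraMap R A ϖ)) :=
    IsLocalization.isDomain_localization hle
  have hψ : Function.Injective (algebraMap (Localization.Away (algebraMap R A ϖ))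
      (AdjoinRoot (Polynomial.X ^ (p ^ n) - Polynomial.C
        (algebraMap A (Localization.Away (algebraMap R A ϖ)) (f : A))))) := by
    apply AdjoinRoot.of.injective_of_degree_ne_zero
    rw [degree_X_pow_sub_C (pow_pos hp.pos n)]
    exact_mod_cast (pow_pos hp.pos n).ne'
  have hinj : Function.Injective (algebraMap A
      (AdjoinRoot (Polynomial.X ^ (p ^ n) - Polynomial.C
        (algebraMap A (Localization.Away (algebraMap R A ϖ)) (f : A))))) := by
    rw [IsScalarTower.algebraMap_eq A (Localization.Away (algebraMap R A ϖ))]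
    exact hψ.comp (IsLocalization.injective _ hle)
  have ht : IsUnit (algebraMap A (AdjoinRoot (Polynomial.X ^ (p ^ n) - Polynomial.C
        (algebraMap A (Localization.Away (algebraMap R A ϖ)) (f : A)))) (algebraMap R A ϖ)) := by
    rw [IsScalarTower.algebraMap_apply A (Localization.Away (algebraMap R A ϖ))]
    exact (IsLocalization.Away.algebraMap_isUnit (S := Localization.Away (algebraMap R A ϖ))
      (algebraMap R A ϖ)).map (algebraMap (Localization.Away (algebraMap R A ϖ))
        (AdjoinRoot (Polynomial.X ^ (p ^ n) - Polynomial.C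
          (algebraMap A (Localization.Away (algebraMap R A ϖ)) (f : A)))))
  have hE : 1 ≤ p ^ (n - 1) * (p - 1) * (j + 1) := by
    have h1 : 0 < p ^ (n - 1) := pow_pos hp.pos _
    have h2 : 0 < p - 1 := by have := hp.two_le; omega
    exact Nat.mul_pos (Nat.mul_pos h1 h2) (Nat.succ_pos j)
  have hpt : (p : A) ∈ Ideal.span {algebraMap R A ϖ} := by
    rw [Ideal.mem_span_singleton]
    have h1 : ϖ ∣ (p : R) := (dvd_pow_self ϖ (by omega)).trans hj
    have := map_dvd (algebraMap R A) h1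
    simpa using this
  have hD : ∀ i, 0 < i → i < p ^ n → (algebraMap R A ϖ) ^ ((j + 1) * (p ^ n - i)) ∣
      ((Nat.choose (p ^ n) i : ℕ) : A) := by
    intro i hi0 hi
    have := map_dvd (algebraMap R A) (choose_dvd_ring ϖ p n j hp hj i hi0 hi)
    simpa using this
  have hZ : (AdjoinRoot.root (Polynomial.X ^ (p ^ n) - Polynomial.C
        (algebraMap A (Localization.Away (algebraMap R A ϖ)) (f : A)))) ^ (p ^ n) =
      algebraMap A (AdjoinRoot (Polynomial.X ^ (p ^ n) - Polynomial.C
        (algebraMap A (Localization.Away (algebraMap R A ϖ)) (f : A)))) (f : A) := by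
    have h := AdjoinRoot.eval₂_root (Polynomial.X ^ (p ^ n) - Polynomial.C
        (algebraMap A (Localization.Away (algebraMap R A ϖ)) (f : A)))
    simp only [eval₂_sub, eval₂_pow, eval₂_X, eval₂_C] at h
    rw [sub_eq_zero.mp h, IsScalarTower.algebraMap_apply A (Localization.Away (algebraMap R A ϖ))]
    rfl
  exact core (algebraMap R A ϖ) p n hp _ hinj ht
    (hN_concrete (algebraMap R A ϖ) ht0 _ hψ) hpt hlift j hD f g f₀ hfg hmax _ hZ hred g₀

end Groth.Agent.Lead.KummerA
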