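import Mathlib

/-!
# Frobenius-semilinear bijections over an algebraically closed field have a fixed basis (copied from helper8, Groth/Agent/Helper8/LangK.lean)
-/

set_option autoImplicit false
set_option linter.unusedSectionVars false

noncomputable section

open Polynomial

universe u v

namespace Groth.Agent.Lead.Lang

variable {k : Type u} [Field k] [IsAlgClosed k] {q : ℕ} {σ : k →+* k}

theorem sigma_surjective (hq : 2 ≤ q) (hσ : ∀ a, σ a = a ^ q) : Function.Surjective σ := by
  intro c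
  obtain ⟨a, ha⟩ := IsAlgClosed.exists_pow_nat_eq c (show 0 < q by omega)
  exact ⟨a, by rw [hσ, ha]⟩

/-- Artin–Schreier type equations are solvable -/
theorem exists_sigma_sub_eq (hq : 2 ≤ q) (hσ : ∀ a, σ a = a ^ q) (c : k) : ∃ a : k, σ a - a = c := by
  have hdeg : (X ^ q - X - C c : k[X]).natDegree = q := by
    have h1 : (X ^ q - X : k[X]).natDegree = q := by
      have : (X : k[X]).natDegree < (X ^ q : k[X]).natDegree := by
        rw [natDegree_X_pow, natDegree_X]; omega
      rw [natDegree_sub_eq_left_of_natDegree_lt this, natDegree_X_pow]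
    have h2 : (C c : k[X]).natDegree < (X ^ q - X : k[X]).natDegree := by
      rw [h1, natDegree_C]; omega
    rw [natDegree_sub_eq_left_of_natDegree_lt h2, h1]
  have hne : (X ^ q - X - C c : k[X]).degree ≠ 0 := by
    intro h0
    have h3 : (X ^ q - X - C c : k[X]).natDegree = 0 :=
      natDegree_eq_zero_iff_degree_le_zero.mpr h0.le
    omega
  obtain ⟨a, ha⟩ := IsAlgClosed.exists_root _ hne
  refine ⟨a, ?_⟩
  simp only [IsRoot.def, eval_sub, eval_pow, eval_X, eval_C] at ha
  rw [hσ]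
  linear_combination ha

/-- the coefficient recursion -/
def coefSeq (σ : k →+* k) (c : ℕ → k) (t : k) : ℕ → k
  | 0 => c 0 * σ t
  | (i + 1) => σ (coefSeq σ c t i) + c (i + 1) * σ t

/-- the coefficient recursion, as polynomials in `t` -/
def coefPoly (q : ℕ) (c : ℕ → k) : ℕ → k[X]
  | 0 => C (c 0) * X ^ q
  | (i + 1) => (coefPoly q c i) ^ q + C (c (i + 1)) * X ^ q

theorem eval_coefPoly (hσ : ∀ a, σ a = a ^ q) (c : ℕ → k) (t : k) (i : ℕ) :
    (coefPoly q c i).eval t = coefSeq σ c t i := by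
  induction i with
  | zero => simp [coefPoly, coefSeq, hσ]
  | succ i ih => simp [coefPoly, coefSeq, hσ, ih]

theorem X_sq_dvd_coefPoly (hq : 2 ≤ q) (c : ℕ → k) (i : ℕ) : (X : k[X]) ^ 2 ∣ coefPoly q c i := by
  have h1 : (X : k[X]) ^ 2 ∣ X ^ q := pow_dvd_pow X hq
  induction i with
  | zero => exact Dvd.dvd.mul_left h1 _
  | succ i ih =>
    refine dvd_add ?_ (Dvd.dvd.mul_left h1 _)
    exact ih.trans (dvd_pow_self _ (by omega))

theorem natDegree_coefPoly (hq : 2 ≤ q) (c : ℕ → k) (hc : c 0 ≠ 0) (i : ℕ) :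
    (coefPoly q c i).natDegree = q ^ (i + 1) := by
  induction i with
  | zero =>
    simp only [coefPoly]
    rw [natDegree_C_mul_X_pow q (c 0) hc]; simp
  | succ i ih =>
    simp only [coefPoly]
    have h1 : ((coefPoly q c i) ^ q).natDegree = q ^ (i + 1 + 1) := by
      rw [natDegree_pow, ih]; ring
    have h2 : (C (c (i + 1)) * X ^ q : k[X]).natDegree < ((coefPoly q c i) ^ q).natDegree := by
      rw [h1]
      refine lt_of_le_of_lt (natDegree_C_mul_X_pow_le _ _) ?_
      calc q = q ^ 1 := (pow_one q).symm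
        _ < q ^ (i + 1 + 1) := Nat.pow_lt_pow_right (by omega) (by omega)
    rw [natDegree_add_eq_left_of_natDegree_lt h2, h1]

theorem exists_root_ne_zero (hq : 2 ≤ q) (c : ℕ → k) (hc : c 0 ≠ 0) (r : ℕ) :
    ∃ t : k, t ≠ 0 ∧ (coefPoly q c r).eval t = t := by
  set G : k[X] := coefPoly q c r - X with hG
  have hdvd := X_sq_dvd_coefPoly hq c r
  have hcoef := (X_pow_dvd_iff.mp hdvd)
  have hG0 : G.coeff 0 = 0 := by
    rw [hG, coeff_sub, hcoef 0 (by omega), coeff_X_zero, sub_zero]
  have hG1 : G.coeff 1 = -1 := by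
    rw [hG, coeff_sub, hcoef 1 (by omega), coeff_X_one, zero_sub]
  have hq2 : 2 ≤ q ^ (r + 1) := by
    calc 2 ≤ q := hq
      _ = q ^ 1 := (pow_one q).symm
      _ ≤ q ^ (r + 1) := Nat.pow_le_pow_right (by omega) (by omega)
  have hGdeg : G.natDegree = q ^ (r + 1) := by
    have : (X : k[X]).natDegree < (coefPoly q c r).natDegree := by
      rw [natDegree_coefPoly hq c hc, natDegree_X]; omega
    rw [hG, natDegree_sub_eq_left_of_natDegree_lt this, natDegree_coefPoly hq c hc]
  set H : k[X] := divX G with hH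
  have hHdeg : H.natDegree = q ^ (r + 1) - 1 := by
    rw [hH, natDegree_divX_eq_natDegree_tsub_one, hGdeg]
  have hHne : H.degree ≠ 0 := by
    intro h0
    have h3 : H.natDegree = 0 := natDegree_eq_zero_iff_degree_le_zero.mpr h0.le
    omega
  obtain ⟨t, ht⟩ := IsAlgClosed.exists_root H hHne
  have hH0 : H.coeff 0 = -1 := by rw [hH, coeff_divX, hG1]
  have hGH : G = H * X := by
    have := divX_mul_X_add G
    rw [hG0, map_zero, add_zero] at this
    exact this.symm
  refine ⟨t, ?_, ?_⟩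
  · rintro rfl
    rw [IsRoot.def, ← coeff_zero_eq_eval_zero, hH0] at ht
    exact absurd ht (by simp)
  · have : G.eval t = 0 := by rw [hGH, eval_mul, ht, zero_mul]
    rw [hG, eval_sub, eval_X] at this
    exact sub_eq_zero.mp this

variable {V : Type v} [AddCommGroup V] [Module k V]

/-- a Frobenius-semilinear injective endomorphism of a nonzero finite-dimensional space has a
nonzero fixed vector -/
theorem exists_fixed_ne_zero (hq : 2 ≤ q) (hσ : ∀ a, σ a = a ^ q) [FiniteDimensional k V]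
    [Nontrivial V] (Φ : V →ₛₗ[σ] V) (hΦ : Function.Injective Φ) : ∃ x : V, x ≠ 0 ∧ Φ x = x := by
  classical
  obtain ⟨v, hv⟩ := exists_ne (0 : V)
  set u : ℕ → V := fun i => (⇑Φ)^[i] v with hu
  have hu_succ : ∀ i, Φ (u i) = u (i + 1) := fun i => (Function.iterate_succ_apply' _ _ _).symm
  have hex : ∃ m, ¬ LinearIndependent k (fun i : Fin m => u i) := by
    refine ⟨Module.finrank k V + 1, fun hli => ?_⟩
    have := hli.fintype_card_le_finrank
    simp at this
  have hfind_ne : Nat.find hex ≠ 0 := by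
    intro h0
    have := Nat.find_spec hex
    rw [h0] at this
    exact this linearIndependent_empty_type
  obtain ⟨r₀, hr₀⟩ := Nat.exists_eq_succ_of_ne_zero hfind_ne
  have hdep : ¬ LinearIndependent k (fun i : Fin (r₀ + 1) => u i) := by
    have := Nat.find_spec hex
    rwa [hr₀] at this
  have hind : LinearIndependent k (fun i : Fin r₀ => u i) := by
    have := Nat.find_min hex (m := r₀) (by omega)
    exact not_not.mp this
  -- r₀ ≥ 1
  have hr₀pos : r₀ ≠ 0 := by
    rintro rfl
    have hdep' : ¬ LinearIndependent k (fun i : Fin 1 => u i) := hdep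
    apply hdep'
    rw [Fintype.linearIndependent_iff]
    intro g hg i
    have hi : i = 0 := Subsingleton.elim _ _
    subst hi
    simp only [Finset.univ_unique, Finset.sum_singleton] at hg
    rcases smul_eq_zero.mp hg with h | h
    · exact h
    · exact absurd h hv
  obtain ⟨n, rfl⟩ := Nat.exists_eq_succ_of_ne_zero hr₀pos
  -- the dependence relation
  have hmem : u (n + 1) ∈ Submodule.span k (Set.range fun i : Fin (n + 1) => u i) := by
    by_contra hnot
    apply hdep
    rw [linearIndependent_finSucc']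
    exact ⟨hind, hnot⟩
  obtain ⟨c', hc'⟩ := (Submodule.mem_span_range_iff_exists_fun k).mp hmem
  set c : ℕ → k := fun i => if h : i < n + 1 then c' ⟨i, h⟩ else 0 with hc
  have hrel : ∑ i ∈ Finset.range (n + 1), c i • u i = u (n + 1) := by
    rw [← hc', ← Fin.sum_univ_eq_sum_range (fun i => c i • u i) (n + 1)]
    refine Finset.sum_congr rfl fun i _ => ?_
    show c i • u i = c' i • u i
    rw [hc]
    simp only
    rw [dif_pos i.2]
  -- c 0 ≠ 0
  have hc0 : c 0 ≠ 0 := by
    intro h0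
    choose c'' hc'' using fun i : ℕ => sigma_surjective hq hσ (c (i + 1))
    have h1 : Φ (u n) = Φ (∑ i ∈ Finset.range n, c'' i • u i) := by
      rw [hu_succ, ← hrel, Finset.sum_range_succ', h0, zero_smul, add_zero, map_sum]
      refine Finset.sum_congr rfl fun i _ => ?_
      rw [LinearMap.map_smulₛₗ, hc'', hu_succ]
    have h2 := hΦ h1
    have h3 := Fintype.linearIndependent_iff.mp hind
      (fun i : Fin (n + 1) => if (i : ℕ) < n then c'' i else -1) (by
        rw [Fin.sum_univ_eq_sum_range (fun i => (if i < n then c'' i else -1) • u i) (n + 1),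
          Finset.sum_range_succ]
        simp only [lt_irrefl, if_false, neg_smul, one_smul]
        rw [h2]
        rw [add_neg_eq_zero]
        refine Finset.sum_congr rfl fun i hi => ?_
        rw [if_pos (Finset.mem_range.mp hi)]) (Fin.last n)
    simp at h3
  -- the root
  obtain ⟨t, ht0, ht⟩ := exists_root_ne_zero hq c hc0 n
  rw [eval_coefPoly hσ] at ht
  set a : ℕ → k := coefSeq σ c t with ha
  have ha0 : a 0 = c 0 * σ t := rfl
  have hasucc : ∀ i, a (i + 1) = σ (a i) + c (i + 1) * σ t := fun i => rfl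
  refine ⟨∑ i ∈ Finset.range (n + 1), a i • u i, ?_, ?_⟩
  · intro h0
    have h3 := Fintype.linearIndependent_iff.mp hind (fun i : Fin (n + 1) => a i) (by
      rw [Fin.sum_univ_eq_sum_range (fun i => a i • u i) (n + 1)]
      exact h0) (Fin.last n)
    simp only [Fin.val_last] at h3
    exact ht0 (ht ▸ h3)
  · rw [map_sum]
    have h1 : ∀ i, Φ (a i • u i) = σ (a i) • u (i + 1) := fun i => by
      rw [LinearMap.map_smulₛₗ, hu_succ]
    simp only [h1]
    have hx : ∑ i ∈ Finset.range (n + 1), a i • u i =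
        ∑ i ∈ Finset.range n, a (i + 1) • u (i + 1) + a 0 • u 0 := Finset.sum_range_succ' _ _
    have hun : u (n + 1) = ∑ i ∈ Finset.range n, c (i + 1) • u (i + 1) + c 0 • u 0 := by
      rw [← hrel]; exact Finset.sum_range_succ' _ _
    rw [Finset.sum_range_succ, ht, hx, hun, smul_add, Finset.smul_sum, ← add_assoc,
      ← Finset.sum_add_distrib, ha0, smul_smul, mul_comm (σ t) (c 0)]
    congr 1
    refine Finset.sum_congr rfl fun i _ => ?_
    rw [hasucc, add_smul, smul_smul, mul_comm (σ t)]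

/-- the span of the fixed vectors -/
def fixedSpan (Φ : V →ₛₗ[σ] V) : Submodule k V := Submodule.span k {x | Φ x = x}

theorem fixedSpan_eq_top (hq : 2 ≤ q) (hσ : ∀ a, σ a = a ^ q) [FiniteDimensional k V]
    (Φ : V →ₛₗ[σ] V) (hΦ : Function.Injective Φ) : fixedSpan Φ = ⊤ := by
  set S := fixedSpan Φ with hS
  have hS1 : ∀ z ∈ S, Φ z ∈ S := by
    intro z hz
    refine Submodule.span_induction (p := fun z _ => Φ z ∈ S) ?_ ?_ ?_ ?_ hz
    · intro x hx
      have hx' : Φ x = x := hx
      rw [hx']; exact Submodule.subset_span hx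
    · rw [map_zero]; exact S.zero_mem
    · intro x y _ _ hx hy; rw [map_add]; exact S.add_mem hx hy
    · intro c x _ hx; rw [LinearMap.map_smulₛₗ]; exact S.smul_mem _ hx
  have hS2 : ∀ z ∈ S, ∃ y ∈ S, Φ y = z := by
    intro z hz
    refine Submodule.span_induction (p := fun z _ => ∃ y ∈ S, Φ y = z) ?_ ?_ ?_ ?_ hz
    · intro x hx; exact ⟨x, Submodule.subset_span hx, hx⟩
    · exact ⟨0, S.zero_mem, map_zero _⟩
    · rintro x y _ _ ⟨x', hx', rfl⟩ ⟨y', hy', rfl⟩
      exact ⟨x' + y', S.add_mem hx' hy', map_add _ _ _⟩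
    · rintro c x _ ⟨x', hx', rfl⟩
      obtain ⟨c', rfl⟩ := sigma_surjective hq hσ c
      exact ⟨c' • x', S.smul_mem _ hx', LinearMap.map_smulₛₗ _ _ _⟩
  have hS3 : ∀ z ∈ S, ∀ c : k, ∃ w ∈ S, Φ w - w = c • z := by
    intro z hz
    refine Submodule.span_induction (p := fun z _ => ∀ c : k, ∃ w ∈ S, Φ w - w = c • z)
      ?_ ?_ ?_ ?_ hz
    · intro x hx c
      have hx' : Φ x = x := hx
      obtain ⟨a, ha⟩ := exists_sigma_sub_eq hq hσ c
      refine ⟨a • x, S.smul_mem _ (Submodule.subset_span hx), ?_⟩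
      rw [LinearMap.map_smulₛₗ, hx', ← sub_smul, ha]
    · intro c; exact ⟨0, S.zero_mem, by simp⟩
    · intro x y _ _ hx hy c
      obtain ⟨w₁, hw₁, e₁⟩ := hx c
      obtain ⟨w₂, hw₂, e₂⟩ := hy c
      refine ⟨w₁ + w₂, S.add_mem hw₁ hw₂, ?_⟩
      rw [map_add, smul_add, ← e₁, ← e₂]; abel
    · intro d x _ hx c
      obtain ⟨w, hw, e⟩ := hx (c * d)
      exact ⟨w, hw, by rw [e, mul_smul]⟩
  by_contra hne
  have hnt : Nontrivial (V ⧸ S) := Submodule.Quotient.nontrivial_iff.mpr hne
  set Φ' : (V ⧸ S) →ₛₗ[σ] (V ⧸ S) := S.mapQ S Φ (fun z hz => hS1 z hz) with hΦ'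
  have hΦ'inj : Function.Injective Φ' := by
    rw [injective_iff_map_eq_zero]
    intro x hx
    obtain ⟨y, rfl⟩ := Submodule.Quotient.mk_surjective S x
    rw [hΦ', Submodule.mapQ_apply, Submodule.Quotient.mk_eq_zero] at hx
    obtain ⟨y', hy', hyy⟩ := hS2 _ hx
    rw [Submodule.Quotient.mk_eq_zero, ← hΦ hyy]
    exact hy'
  obtain ⟨x, hx0, hxfix⟩ := exists_fixed_ne_zero hq hσ Φ' hΦ'inj
  obtain ⟨y, rfl⟩ := Submodule.Quotient.mk_surjective S x
  apply hx0
  rw [hΦ', Submodule.mapQ_apply, ← sub_eq_zero, ← Submodule.Quotient.mk_sub,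
    Submodule.Quotient.mk_eq_zero] at hxfix
  obtain ⟨w, hw, e⟩ := hS3 _ hxfix (-1)
  have hz : Φ (y + w) = y + w := by
    rw [map_add, ← sub_eq_zero]
    have : Φ y + Φ w - (y + w) = (Φ y - y) + (Φ w - w) := by abel
    rw [this, e]; simp
  have hzS : y + w ∈ S := Submodule.subset_span hz
  rw [Submodule.Quotient.mk_eq_zero]
  have : y = (y + w) - w := by abel
  rw [this]
  exact S.sub_mem hzS hw

theorem exists_basis_fixed (hq : 2 ≤ q) (hσ : ∀ a, σ a = a ^ q) [FiniteDimensional k V]
    (Φ : V →ₛₗ[σ] V) (hΦ : Function.Injective Φ) :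
    ∃ (ι : Type v) (b : Module.Basis ι k V), ∀ i, Φ (b i) = b i := by
  obtain ⟨b, hbs, hspan, hli⟩ := exists_linearIndependent k {x : V | Φ x = x}
  have htop : ⊤ ≤ Submodule.span k (Set.range (Subtype.val : b → V)) := by
    rw [Subtype.range_coe, hspan]
    exact (fixedSpan_eq_top hq hσ Φ hΦ).ge
  exact ⟨b, Module.Basis.mk hli htop, fun i => by rw [Module.Basis.mk_apply]; exact hbs i.2⟩

/-- `Φ - 1` is surjective -/
theorem exists_sub_eq (hq : 2 ≤ q) (hσ : ∀ a, σ a = a ^ q) [FiniteDimensional k V]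
    (Φ : V →ₛₗ[σ] V) (hΦ : Function.Injective Φ) (z : V) : ∃ w : V, Φ w - w = z := by
  obtain ⟨ι, b, hb⟩ := exists_basis_fixed hq hσ Φ hΦ
  choose a ha using fun i => exists_sigma_sub_eq hq hσ (b.repr z i)
  refine ⟨∑ i ∈ (b.repr z).support, a i • b i, ?_⟩
  rw [map_sum, ← Finset.sum_sub_distrib]
  conv_rhs => rw [← b.linearCombination_repr z, Finsupp.linearCombination_apply, Finsupp.sum]
  refine Finset.sum_congr rfl fun i _ => ?_
  rw [LinearMap.map_smulₛₗ, hb, ← sub_smul, ha]

end Groth.Agent.Lead.Lang
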