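import Mathlib
import Groth.Prelude.Def_SpSeq

/-!
# Weak Serre classes and abutments of spectral sequences

If all `E₂` terms of a spectral sequence with a finitely filtered abutment lie in a class of
objects closed under isomorphisms, kernels, cokernels and extensions (and containing the zero
objects), then so do the abutment objects.
-/

set_option autoImplicit false

namespace Groth.Agent.Lead.SpProp

open CategoryTheory Limits

universe v u

variable {C : Type u} [Category.{v} C] [Abelian C]

/-- a class of objects closed under isomorphisms, kernels, cokernels, extensions, with zero -/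
structure WeakSerre (P : C → Prop) : Prop where
  iso : ∀ {X Y : C}, (X ≅ Y) → P X → P Y
  zero : ∀ X : C, IsZero X → P X
  ker : ∀ {X Y : C} (f : X ⟶ Y), P X → P Y → P (kernel f)
  coker : ∀ {X Y : C} (f : X ⟶ Y), P X → P Y → P (cokernel f)
  ext : ∀ (S : ShortComplex C), S.ShortExact → P S.X₁ → P S.X₃ → P S.X₂

variable {P : C → Prop}

theorem prop_homology (hP : WeakSerre P) (S : ShortComplex C) (h1 : P S.X₁) (h2 : P S.X₂)
    (h3 : P S.X₃) : P S.homology :=
  hP.iso S.homologyIsoCokernelLift.symm (hP.coker _ h1 (hP.ker _ h2 h3))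

theorem prop_page (hP : WeakSerre P) (E : E₂CohomologicalSpectralSequence C)
    (hE : ∀ pq : ℤ × ℤ, P ((E.page 2 le_rfl).X pq)) :
    ∀ (r : ℤ) (hr : 2 ≤ r) (pq : ℤ × ℤ), P ((E.page r hr).X pq) := by
  intro r hr
  induction r, hr using Int.leInduction with
  | base => exact hE
  | succ r hr ih =>
    intro pq
    refine hP.iso (E.iso r (r + 1) pq rfl hr) ?_
    exact prop_homology hP ((E.page r hr).sc pq) (ih _) (ih _) (ih _)

theorem prop_gr (hP : WeakSerre P) (E : E₂CohomologicalSpectralSequence C) (H : ℤ → C)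
    (a : SpSeq.Abutment E H) (hE : ∀ pq : ℤ × ℤ, P ((E.page 2 le_rfl).X pq)) (n p : ℤ) :
    P (SpSeq.grPiece (a.fil n) (a.anti n) p) := by
  have h := hP.iso (a.β (p, n - p)) (prop_page hP E hE _ (a.stat (p, n - p)).1 _)
  have key : ∀ (m : ℤ) (_ : m = n), P (SpSeq.grPiece (a.fil m) (a.anti m) p) →
      P (SpSeq.grPiece (a.fil n) (a.anti n) p) := by
    rintro m rfl h
    exact h
  exact key (p + (n - p)) (by ring) h

theorem prop_step (hP : WeakSerre P) {X : C} (F : ℤ → Subobject X) (hF : Antitone F)
    (hgr : ∀ p, P (SpSeq.grPiece F hF p)) (p : ℤ) (h : P ((F (p + 1) : Subobject X) : C)) :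
    P ((F p : Subobject X) : C) := by
  let f := (F (p + 1)).ofLE (F p) (hF (Int.le_add_one le_rfl))
  let S : ShortComplex C := ShortComplex.mk f (cokernel.π f) (cokernel.condition f)
  have hS : S.ShortExact :=
    { exact := ShortComplex.exact_cokernel f
      mono_f := inferInstanceAs (Mono f)
      epi_g := inferInstanceAs (Epi (cokernel.π f)) }
  exact hP.ext S hS h (hgr p)

theorem prop_of_fil_eq_bot (hP : WeakSerre P) {X : C} (S : Subobject X) (h : S = ⊥) :
    P (S : C) := by
  subst h
  exact hP.zero _ (IsZero.of_iso (isZero_zero C) Subobject.botCoeIsoZero)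

theorem prop_of_finite (hP : WeakSerre P) {X : C} (F : ℤ → Subobject X) (hF : Antitone F)
    (hgr : ∀ p, P (SpSeq.grPiece F hF p)) (htop : ∃ a : ℤ, F a = ⊤) (hbot : ∃ b : ℤ, F b = ⊥) :
    P X := by
  obtain ⟨a, ha⟩ := htop
  obtain ⟨b, hb⟩ := hbot
  have hall : ∀ p : ℤ, P ((F p : Subobject X) : C) := by
    intro p
    by_cases hp : b ≤ p
    · exact prop_of_fil_eq_bot hP _ (le_bot_iff.1 (hb ▸ hF hp))
    · have hp' : p ≤ b := by lia
      induction p, hp' using Int.leInductionDown with
      | base => exact prop_of_fil_eq_bot hP _ hb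
      | pred q hq ih =>
        apply prop_step hP F hF hgr
        have : q - 1 + 1 = q := by ring
        rw [this]
        by_cases hq' : b ≤ q
        · exact prop_of_fil_eq_bot hP _ (le_bot_iff.1 (hb ▸ hF hq'))
        · exact ih hq'
  have h := hall a
  rw [ha] at h
  exact hP.iso (asIso (⊤ : Subobject X).arrow) h

/-- **Weak Serre classes pass to abutments.** -/
theorem prop_abutment (hP : WeakSerre P) (E : E₂CohomologicalSpectralSequence C) (H : ℤ → C)
    (a : SpSeq.Abutment E H) (hfin : ∀ n, a.IsFinite n)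
    (hE : ∀ pq : ℤ × ℤ, P ((E.page 2 le_rfl).X pq)) (n : ℤ) : P (H n) :=
  prop_of_finite hP (a.fil n) (a.anti n) (fun p => prop_gr hP E H a hE n p)
    (hfin n).1 (hfin n).2

end Groth.Agent.Lead.SpProp
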