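import Mathlib
import Groth.Agent.Helper4.HZshQc
import Groth.Agent.Helper4.RpushQc
import Groth.Agent.Helper4.HasRD
import Groth.Agent.Helper4.QcohExt
import Groth.Agent.S0998
import Groth.Agent.Lead.SpProp

/-! Local cohomology sheaves with supports in a locally closed subset, module level:
`G = j₁_* ∘ Γ_Z ∘ j₁^*`, the long exact sequence and quasi-coherence of `RⁿG`. -/

set_option autoImplicit false
set_option linter.style.haveILetI false
universe u

open CategoryTheory CategoryTheory.Limits AlgebraicGeometry Opposite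

namespace Groth.Agent.Lead.LcQc

open Groth.Agent.Helper4 Groth.Agent.Helper1

section WS

variable {C : Type*} [Category C] [Abelian C] {P : C → Prop}

/-- five-term lemma for a weak Serre class -/
theorem prop_of_exact5 (hP : SpProp.WeakSerre P) {A B X D E : C} (a : A ⟶ B) (f : B ⟶ X)
    (g : X ⟶ D) (e : D ⟶ E) (w₁ : a ≫ f = 0) (w₂ : f ≫ g = 0) (w₃ : g ≫ e = 0)
    (h₁ : (ShortComplex.mk a f w₁).Exact) (h₂ : (ShortComplex.mk f g w₂).Exact)
    (h₃ : (ShortComplex.mk g e w₃).Exact) (hA : P A) (hB : P B) (hD : P D) (hE : P E) : P X := by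
  have hm : Mono (cokernel.desc a f w₁) := (ShortComplex.exact_iff_mono_cokernel_desc _).1 h₁
  have he : Epi (kernel.lift e g w₃) := (ShortComplex.exact_iff_epi_kernel_lift _).1 h₃
  have w₄ : cokernel.desc a f w₁ ≫ g = 0 := by
    rw [← cancel_epi (cokernel.π a)]
    simp [w₂]
  have w₅ : cokernel.desc a f w₁ ≫ kernel.lift e g w₃ = 0 := by
    rw [← cancel_mono (kernel.ι e)]
    simp [w₄]
  have h₄ : (ShortComplex.mk (cokernel.desc a f w₁) g w₄).Exact := by
    let φ : ShortComplex.mk f g w₂ ⟶ ShortComplex.mk (cokernel.desc a f w₁) g w₄ :=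
      { τ₁ := cokernel.π a, τ₂ := 𝟙 _, τ₃ := 𝟙 _ }
    haveI : Epi φ.τ₁ := by dsimp [φ]; infer_instance
    haveI : IsIso φ.τ₂ := by dsimp [φ]; infer_instance
    haveI : Mono φ.τ₃ := by dsimp [φ]; infer_instance
    exact (ShortComplex.exact_iff_of_epi_of_isIso_of_mono φ).1 h₂
  have h₅ : (ShortComplex.mk (cokernel.desc a f w₁) (kernel.lift e g w₃) w₅).Exact := by
    let φ : ShortComplex.mk (cokernel.desc a f w₁) (kernel.lift e g w₃) w₅ ⟶
        ShortComplex.mk (cokernel.desc a f w₁) g w₄ :=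
      { τ₁ := 𝟙 _, τ₂ := 𝟙 _, τ₃ := kernel.ι e }
    haveI : Epi φ.τ₁ := by dsimp [φ]; infer_instance
    haveI : IsIso φ.τ₂ := by dsimp [φ]; infer_instance
    haveI : Mono φ.τ₃ := by dsimp [φ]; infer_instance
    exact (ShortComplex.exact_iff_of_epi_of_isIso_of_mono φ).2 h₄
  exact hP.ext _ { exact := h₅, mono_f := hm, epi_g := he } (hP.coker a hA hB) (hP.ker e hD hE)

/-- three-term version: `0 → X → D → E` -/
theorem prop_of_exact3 (hP : SpProp.WeakSerre P) {X D E : C} (g : X ⟶ D) (e : D ⟶ E)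
    (w₃ : g ≫ e = 0) [Mono g] (h₃ : (ShortComplex.mk g e w₃).Exact) (hD : P D) (hE : P E) :
    P X :=
  hP.iso (IsLimit.conePointUniqueUpToIso (limit.isLimit _) h₃.fIsKernel) (hP.ker e hD hE)

end WS

/-- quasi-coherent modules form a weak Serre class -/
theorem weakSerre_qcoh (Y : Scheme.{u}) :
    SpProp.WeakSerre (fun M : Y.Modules => M.IsQuasicoherent) where
  iso e h := @QcohLimits.isQuasicoherent_of_iso _ _ _ e h
  zero X hX := by
    have h0 : (∐ (fun _ : PEmpty.{u + 1} => X)).IsQuasicoherent :=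
      QcohLimits.isQuasicoherent_sigma _ (fun i => i.elim)
    have h1 := @QcohLimits.isQuasicoherent_kernel _ _ _
      (𝟙 (∐ (fun _ : PEmpty.{u + 1} => X))) h0 h0
    exact @QcohLimits.isQuasicoherent_of_iso _ _ _
      ((isZero_kernel_of_mono _).iso hX) h1
  ker f hX hY := @QcohLimits.isQuasicoherent_kernel _ _ _ f hX hY
  coker f hX hY := @QcohLimits.isQuasicoherent_cokernel _ _ _ f hX hY
  ext S hS h₁ h₃ := @QcohExt.isQuasicoherent_of_shortExact _ S hS h₁ h₃


section Functors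

variable {Y : Scheme.{u}} (V₁ V₂ : Y.Opens)

/-- the open `V₂ ∩ V₁` of the scheme `V₁` -/
abbrev W : (V₁ : Scheme.{u}).Opens := V₁.ι ⁻¹ᵁ V₂

/-- `k : V₂ ∩ V₁ ⟶ V₁` -/
abbrev k : ((W V₁ V₂ : (V₁ : Scheme.{u}).Opens) : Scheme.{u}) ⟶ (V₁ : Scheme.{u}) := (W V₁ V₂).ι

/-- `F ↦ j₁_* Γ_Z (F|_{V₁})` -/
noncomputable abbrev GM : Y.Modules ⥤ Y.Modules :=
  Scheme.Modules.restrictFunctor V₁.ι ⋙ DCoh.gammaZ (k V₁ V₂) ⋙ Scheme.Modules.pushforward V₁.ι

/-- `F ↦ j₁_* (F|_{V₁})` -/
noncomputable abbrev A1 : Y.Modules ⥤ Y.Modules :=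
  Scheme.Modules.restrictFunctor V₁.ι ⋙ 𝟭 _ ⋙ Scheme.Modules.pushforward V₁.ι

/-- `F ↦ j₁_* k_* k^* (F|_{V₁})` -/
noncomputable abbrev A2 : Y.Modules ⥤ Y.Modules :=
  Scheme.Modules.restrictFunctor V₁.ι ⋙
    (Scheme.Modules.restrictFunctor (k V₁ V₂) ⋙ Scheme.Modules.pushforward (k V₁ V₂)) ⋙
      Scheme.Modules.pushforward V₁.ι

noncomputable abbrev α : GM V₁ V₂ ⟶ A1 V₁ :=
  Functor.whiskerLeft (Scheme.Modules.restrictFunctor V₁.ι)
    (Functor.whiskerRight (CxOX.gammaZι (k V₁ V₂)) (Scheme.Modules.pushforward V₁.ι))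

noncomputable abbrev β : A1 V₁ ⟶ A2 V₁ V₂ :=
  Functor.whiskerLeft (Scheme.Modules.restrictFunctor V₁.ι)
    (Functor.whiskerRight (HZshQc.β (k V₁ V₂)) (Scheme.Modules.pushforward V₁.ι))

lemma w : α V₁ V₂ ≫ β V₁ V₂ = 0 := by
  ext F : 2
  have h := congrArg (fun t => t.app ((Scheme.Modules.restrictFunctor V₁.ι).obj F))
    (HZshQc.w (k V₁ V₂))
  change (Scheme.Modules.pushforward V₁.ι).map
      ((CxOX.gammaZι (k V₁ V₂)).app ((Scheme.Modules.restrictFunctor V₁.ι).obj F)) ≫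
    (Scheme.Modules.pushforward V₁.ι).map
      ((HZshQc.β (k V₁ V₂)).app ((Scheme.Modules.restrictFunctor V₁.ι).obj F)) = 0
  rw [← Functor.map_comp]
  change (Scheme.Modules.pushforward V₁.ι).map
    ((CxOX.gammaZι (k V₁ V₂) ≫ HZshQc.β (k V₁ V₂)).app _) = 0
  rw [HZshQc.w]
  exact Functor.map_zero _ _ _

instance : (GM V₁ V₂).Additive := by unfold GM; infer_instance
instance : (A1 V₁).Additive := by unfold A1; infer_instance
instance : (A2 V₁ V₂).Additive := by unfold A2; infer_instance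

/-- the sequence `0 → G I → A₁ I → A₂ I → 0` is short exact for `I` injective -/
lemma shortExact_of_injective (I : Y.Modules) [Injective I] :
    (FunLES.sc (α V₁ V₂) (β V₁ V₂) (w V₁ V₂) I).ShortExact := by
  haveI := HZshQc.injective_restrict V₁.ι I
  have hS := HZshQc.shortExact_of_injective (k V₁ V₂)
    ((Scheme.Modules.restrictFunctor V₁.ι).obj I)
  obtain ⟨s, hs⟩ := Flasque.exists_section (k V₁ V₂)
    ((Scheme.Modules.restrictFunctor V₁.ι).obj I)
  have heq : FunLES.sc (α V₁ V₂) (β V₁ V₂) (w V₁ V₂) I =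
      (FunLES.sc (CxOX.gammaZι (k V₁ V₂)) (HZshQc.β (k V₁ V₂)) (HZshQc.w (k V₁ V₂))
        ((Scheme.Modules.restrictFunctor V₁.ι).obj I)).map (Scheme.Modules.pushforward V₁.ι) := rfl
  rw [heq]
  haveI := hS.mono_f
  exact
    { exact := hS.exact.map_of_mono_of_preservesKernel _ hS.mono_f inferInstance
      mono_f := by
        change Mono ((Scheme.Modules.pushforward V₁.ι).map _)
        infer_instance
      epi_g := by
        change Epi ((Scheme.Modules.pushforward V₁.ι).map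
          ((Scheme.Modules.restrictAdjunction (k V₁ V₂)).unit.app _))
        have h2 : (Scheme.Modules.pushforward V₁.ι).map s ≫
            (Scheme.Modules.pushforward V₁.ι).map
              ((Scheme.Modules.restrictAdjunction (k V₁ V₂)).unit.app
                ((Scheme.Modules.restrictFunctor V₁.ι).obj I)) = 𝟙 _ := by
          rw [← Functor.map_comp, hs, CategoryTheory.Functor.map_id]
        exact epi_of_epi_fac h2 }

end Functors

section Qc

variable {Y : Scheme.{u}} (V₁ V₂ : Y.Opens)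

lemma range_comp (h : V₂ ≤ V₁) :
    Set.range (k V₁ V₂ ≫ V₁.ι).base = Set.range V₂.ι.base := by
  ext x
  simp only [Scheme.Hom.comp_base, TopCat.hom_comp, ContinuousMap.coe_comp, Set.mem_range,
    Function.comp_apply]
  constructor
  · rintro ⟨y, rfl⟩
    exact ⟨⟨_, y.2⟩, rfl⟩
  · rintro ⟨y, rfl⟩
    exact ⟨⟨⟨y.1, h y.2⟩, y.2⟩, rfl⟩

lemma quasiCompact_comp [QuasiCompact V₂.ι] (h : V₂ ≤ V₁) :
    QuasiCompact (k V₁ V₂ ≫ V₁.ι) := by
  have := IsOpenImmersion.isoOfRangeEq_hom_fac (k V₁ V₂ ≫ V₁.ι) V₂.ι (range_comp V₁ V₂ h)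
  rw [← this]
  infer_instance

instance (j : (V₁ : Scheme.{u}) ⟶ Y) [IsOpenImmersion j] :
    PreservesFiniteLimits (Scheme.Modules.restrictFunctor j ⋙ 𝟭 _ ⋙ Scheme.Modules.pushforward j) :=
  comp_preservesFiniteLimits _ _


lemma hasInjRes (Z : Scheme.{u}) : HasInjectiveResolutions Z.Modules := by
  haveI := SchAdj.isGrothendieckAbelian_modules Z
  infer_instance

lemma enoughInj (Z : Scheme.{u}) : EnoughInjectives Z.Modules := by
  haveI := SchAdj.isGrothendieckAbelian_modules Z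
  infer_instance

/-- `Rᵖ j_*` of a quasi-coherent module along a quasi-compact open immersion is quasi-coherent -/
lemma isQuasicoherent_Rpush {U Z : Scheme.{u}} (j : U ⟶ Z) [IsOpenImmersion j] [QuasiCompact j]
    [HasInjectiveResolutions U.Modules]
    (N : U.Modules) (hN : N.IsQuasicoherent) (p : ℕ) :
    (((Scheme.Modules.pushforward j).rightDerived p).obj N).IsQuasicoherent := by
  haveI := HasRD.hasRpush j
  exact RpushQc.isQuasicoherent_rightDerived j
    (fun K hK => Groth.Agent.S0998.result j K hK) N hN p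

variable [HasInjectiveResolutions Y.Modules]

theorem isQuasicoherent_R_A1 [QuasiCompact V₁.ι] (F : Y.Modules) (hF : F.IsQuasicoherent)
    (p : ℕ) : (((A1 V₁).rightDerived p).obj F).IsQuasicoherent := by
  haveI := enoughInj Y
  haveI := hasInjRes (V₁ : Scheme.{u})
  obtain ⟨e⟩ := DeltaFun.nonempty_iso_rightDerived_comp
    (Scheme.Modules.restrictFunctor V₁.ι)
    (fun S hS => DeltaFun.shortExact_map_of_exact _ S hS)
    (Scheme.Modules.pushforward V₁.ι) (A1 V₁) (Iso.refl _) (by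
      intro I _ n
      haveI := HZshQc.injective_restrict V₁.ι I
      exact Functor.isZero_rightDerived_obj_injective_succ _ _ _) p
  haveI := hF
  haveI : ((Scheme.Modules.restrictFunctor V₁.ι).obj F).IsQuasicoherent :=
    Scheme.Modules.isQuasicoherent_restrictFunctor V₁.ι F
  have h1 := isQuasicoherent_Rpush V₁.ι ((Scheme.Modules.restrictFunctor V₁.ι).obj F)
    inferInstance p
  exact @QcohLimits.isQuasicoherent_of_iso _ _ _ (e.app F).symm h1


instance : PreservesFiniteLimits (A2 V₁ V₂) := by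
  unfold A2
  haveI : PreservesFiniteLimits (Scheme.Modules.restrictFunctor (k V₁ V₂) ⋙
      Scheme.Modules.pushforward (k V₁ V₂)) := comp_preservesFiniteLimits _ _
  haveI : PreservesFiniteLimits ((Scheme.Modules.restrictFunctor (k V₁ V₂) ⋙
      Scheme.Modules.pushforward (k V₁ V₂)) ⋙ Scheme.Modules.pushforward V₁.ι) :=
    comp_preservesFiniteLimits _ _
  exact comp_preservesFiniteLimits _ _

theorem isQuasicoherent_R_A2 [QuasiCompact V₂.ι] (h : V₂ ≤ V₁) (F : Y.Modules)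
    (hF : F.IsQuasicoherent) (p : ℕ) :
    (((A2 V₁ V₂).rightDerived p).obj F).IsQuasicoherent := by
  haveI := enoughInj Y
  haveI := hasInjRes (V₁ : Scheme.{u})
  haveI := hasInjRes ((W V₁ V₂ : (V₁ : Scheme.{u}).Opens) : Scheme.{u})
  haveI := quasiCompact_comp V₁ V₂ h
  haveI : PreservesFiniteLimits (Scheme.Modules.pushforward (k V₁ V₂) ⋙
      Scheme.Modules.pushforward V₁.ι) := comp_preservesFiniteLimits _ _
  haveI : PreservesFiniteLimits (Scheme.Modules.restrictFunctor V₁.ι ⋙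
      Scheme.Modules.restrictFunctor (k V₁ V₂)) := comp_preservesFiniteLimits _ _
  haveI : PreservesFiniteColimits (Scheme.Modules.restrictFunctor V₁.ι ⋙
      Scheme.Modules.restrictFunctor (k V₁ V₂)) := comp_preservesFiniteColimits _ _
  obtain ⟨e⟩ := DeltaFun.nonempty_iso_rightDerived_comp
    (Scheme.Modules.restrictFunctor V₁.ι ⋙ Scheme.Modules.restrictFunctor (k V₁ V₂))
    (fun S hS => DeltaFun.shortExact_map_of_exact _ S hS)
    (Scheme.Modules.pushforward (k V₁ V₂) ⋙ Scheme.Modules.pushforward V₁.ι) (A2 V₁ V₂)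
    (Iso.refl _) (by
      intro I _ n
      haveI := HZshQc.injective_restrict V₁.ι I
      haveI hI2 : Injective ((Scheme.Modules.restrictFunctor V₁.ι ⋙
          Scheme.Modules.restrictFunctor (k V₁ V₂)).obj I) :=
        HZshQc.injective_restrict (k V₁ V₂) ((Scheme.Modules.restrictFunctor V₁.ι).obj I)
      exact Functor.isZero_rightDerived_obj_injective_succ _ _ _) p
  let e2 := DeltaFun.rightDerivedIso (Scheme.Modules.pushforwardComp (k V₁ V₂) V₁.ι) p
  haveI := hF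
  haveI : ((Scheme.Modules.restrictFunctor V₁.ι).obj F).IsQuasicoherent :=
    Scheme.Modules.isQuasicoherent_restrictFunctor V₁.ι F
  haveI : ((Scheme.Modules.restrictFunctor (k V₁ V₂)).obj
      ((Scheme.Modules.restrictFunctor V₁.ι).obj F)).IsQuasicoherent :=
    Scheme.Modules.isQuasicoherent_restrictFunctor (k V₁ V₂) _
  have h1 := isQuasicoherent_Rpush (k V₁ V₂ ≫ V₁.ι)
    ((Scheme.Modules.restrictFunctor (k V₁ V₂)).obj
      ((Scheme.Modules.restrictFunctor V₁.ι).obj F)) inferInstance p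
  have h2 := @QcohLimits.isQuasicoherent_of_iso _ _ _ (e2.app _).symm h1
  exact @QcohLimits.isQuasicoherent_of_iso _ _ _ (e.app F).symm h2


/-- quasi-coherence of `Rⁿ(j₁_* Γ_Z j₁^*)` -/
theorem isQuasicoherent_rightDerived_GM [QuasiCompact V₁.ι] [QuasiCompact V₂.ι] (h : V₂ ≤ V₁)
    (F : Y.Modules) (hF : F.IsQuasicoherent) (n : ℕ) :
    (((GM V₁ V₂).rightDerived n).obj F).IsQuasicoherent := by
  have hS := fun (I : Y.Modules) (_ : Injective I) => shortExact_of_injective V₁ V₂ I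
  have hWS := weakSerre_qcoh Y
  cases n with
  | zero =>
    haveI := FunLES.mono₀ (α V₁ V₂) (β V₁ V₂) (w V₁ V₂) hS F
    obtain ⟨w₂, e₂⟩ := FunLES.les₂ (α V₁ V₂) (β V₁ V₂) (w V₁ V₂) hS 0 F
    exact prop_of_exact3 hWS _ _ w₂ e₂ (isQuasicoherent_R_A1 V₁ F hF 0)
      (isQuasicoherent_R_A2 V₁ V₂ h F hF 0)
  | succ n =>
    obtain ⟨w₃, e₃⟩ := FunLES.les₃ (α V₁ V₂) (β V₁ V₂) (w V₁ V₂) hS n F
    obtain ⟨w₁, e₁⟩ := FunLES.les₁ (α V₁ V₂) (β V₁ V₂) (w V₁ V₂) hS n F
    obtain ⟨w₂, e₂⟩ := FunLES.les₂ (α V₁ V₂) (β V₁ V₂) (w V₁ V₂) hS (n + 1) F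
    exact prop_of_exact5 hWS _ _ _ _ w₃ w₁ w₂ e₃ e₁ e₂
      (isQuasicoherent_R_A1 V₁ F hF n) (isQuasicoherent_R_A2 V₁ V₂ h F hF n)
      (isQuasicoherent_R_A1 V₁ F hF (n + 1)) (isQuasicoherent_R_A2 V₁ V₂ h F hF (n + 1))

end Qc

end Groth.Agent.Lead.LcQc
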