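import Mathlib
import Groth.Prelude.Def_LocCohZ
import Groth.Agent.Lead.LcQcA
import Groth.Agent.Helper4.SubSec
import Groth.Agent.Helper4.AffineDict

/-! Sections of `G F = j₁_* Γ_Z (F|_{V₁})` : `(G F)(V') ≃ {s ∈ F(V₁ ⊓ V') | s|_{V₂ ⊓ V'} = 0}` -/

set_option autoImplicit false
set_option linter.style.haveILetI false
universe u

open CategoryTheory CategoryTheory.Limits AlgebraicGeometry Opposite TopologicalSpace

namespace Groth.Agent.Lead.LcQc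

open Groth.Agent.Helper4

variable {Y : Scheme.{u}} {V₁ V₂ : Y.Opens}

lemma inf_le_img (V₁ V' : Y.Opens) : V₁ ⊓ V' ≤ V₁.ι ''ᵁ (V₁.ι ⁻¹ᵁ V') := by
  intro x hx
  exact ⟨⟨x, hx.1⟩, hx.2, rfl⟩

lemma img_le_inf (V₁ V' : Y.Opens) : V₁.ι ''ᵁ (V₁.ι ⁻¹ᵁ V') ≤ V₁ ⊓ V' := by
  rintro _ ⟨y, hy, rfl⟩
  exact ⟨y.2, hy⟩

/-- the image in `Y` of the trace of `V'` on `V₂ ∩ V₁` -/
abbrev img2 (V₁ V₂ V' : Y.Opens) : Y.Opens :=
  V₁.ι ''ᵁ ((k V₁ V₂) ''ᵁ ((k V₁ V₂) ⁻¹ᵁ (V₁.ι ⁻¹ᵁ V')))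

lemma winf_le_img2 (h : V₂ ≤ V₁) (V' : Y.Opens) : V₂ ⊓ V' ≤ img2 V₁ V₂ V' := by
  intro x hx
  exact ⟨⟨x, h hx.1⟩, ⟨⟨⟨x, h hx.1⟩, hx.1⟩, hx.2, rfl⟩, rfl⟩

lemma img2_le_winf (V₁ V₂ V' : Y.Opens) : img2 V₁ V₂ V' ≤ V₂ ⊓ V' := by
  rintro _ ⟨y, ⟨z, hz, rfl⟩, rfl⟩
  exact ⟨z.2, hz⟩

lemma img2_le_img (V₁ V₂ V' : Y.Opens) : img2 V₁ V₂ V' ≤ V₁.ι ''ᵁ (V₁.ι ⁻¹ᵁ V') :=
  Scheme.Hom.image_mono _ ((k V₁ V₂).image_preimage_le _)

/-- the sections of `G F` over `V'`, viewed in `F` -/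
noncomputable def ιM (V₁ V₂ : Y.Opens) (F : Y.Modules) (V' : Y.Opens) :
    Γ(((GM V₁ V₂).obj F), V') ⟶ Γ(F, V₁.ι ''ᵁ (V₁.ι ⁻¹ᵁ V')) :=
  ((α V₁ V₂).app F).app V'

lemma ιM_injective (F : Y.Modules) (V' : Y.Opens) : Function.Injective (ιM V₁ V₂ F V') := by
  haveI : Mono ((α V₁ V₂).app F) := by
    change Mono ((Scheme.Modules.pushforward V₁.ι).map
      (kernel.ι ((Scheme.Modules.restrictAdjunction (k V₁ V₂)).unit.app
        ((Scheme.Modules.restrictFunctor V₁.ι).obj F))))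
    infer_instance
  exact AffineDict.app_injective_of_mono ((α V₁ V₂).app F) V'

lemma exists_ιM_eq_iff (F : Y.Modules) (V' : Y.Opens) (s : Γ(F, V₁.ι ''ᵁ (V₁.ι ⁻¹ᵁ V'))) :
    (∃ x : Γ(((GM V₁ V₂).obj F), V'), ιM V₁ V₂ F V' x = s) ↔
      F.presheaf.map (homOfLE (img2_le_img V₁ V₂ V')).op s = 0 := by
  have := SubSec.exists_kernel_section_iff
    ((Scheme.Modules.restrictAdjunction (k V₁ V₂)).unit.app
      ((Scheme.Modules.restrictFunctor V₁.ι).obj F)) (V₁.ι ⁻¹ᵁ V') s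
  rw [Scheme.Modules.restrictAdjunction_unit_app_app] at this
  exact this


lemma map_map_apply (F : Y.Modules) {A B C : Y.Opens} (h1 : B ≤ A) (h2 : C ≤ B) (s : Γ(F, A)) :
    F.presheaf.map (homOfLE h2).op (F.presheaf.map (homOfLE h1).op s) =
      F.presheaf.map (homOfLE (h2.trans h1)).op s := by
  rw [← ConcreteCategory.comp_apply, ← F.presheaf.map_comp]
  rfl

lemma map_self_apply (F : Y.Modules) {A : Y.Opens} (h1 : A ≤ A) (s : Γ(F, A)) :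
    F.presheaf.map (homOfLE h1).op s = s := by
  have : (homOfLE h1).op = 𝟙 (op A) := Subsingleton.elim _ _
  rw [this, F.presheaf.map_id]
  rfl

/-- `(G F)(V') → {s ∈ F(V₁ ⊓ V') | s|_{V₂ ⊓ V'} = 0}` -/
noncomputable def secM (h : V₂ ≤ V₁) (F : Y.Modules) (V' : Y.Opens) :
    (Γ(((GM V₁ V₂).obj F), V') : Type u) →+
      LocCohZ.sectZ (X := Y.carrier) (Coh.toAb F)
        (inf_le_inf_right V' h : V₂ ⊓ V' ≤ V₁ ⊓ V') where
  toFun x := ⟨F.presheaf.map (homOfLE (inf_le_img V₁ V')).op (ιM V₁ V₂ F V' x), by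
    rw [AddMonoidHom.mem_ker]
    change F.presheaf.map (homOfLE (inf_le_inf_right V' h : V₂ ⊓ V' ≤ V₁ ⊓ V')).op
      (F.presheaf.map (homOfLE (inf_le_img V₁ V')).op (ιM V₁ V₂ F V' x)) = 0
    rw [map_map_apply]
    have h0 := (exists_ιM_eq_iff F V' (ιM V₁ V₂ F V' x)).1 ⟨x, rfl⟩
    have h1 := congrArg (F.presheaf.map (homOfLE (winf_le_img2 h V')).op) h0
    rw [map_map_apply, map_zero] at h1
    exact h1⟩
  map_zero' := by
    apply Subtype.ext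
    change F.presheaf.map _ (ιM V₁ V₂ F V' 0) = 0
    rw [map_zero, map_zero]
  map_add' a b := by
    apply Subtype.ext
    change F.presheaf.map _ (ιM V₁ V₂ F V' (a + b)) =
      F.presheaf.map _ (ιM V₁ V₂ F V' a) + F.presheaf.map _ (ιM V₁ V₂ F V' b)
    rw [map_add, map_add]
    rfl

lemma secM_apply (h : V₂ ≤ V₁) (F : Y.Modules) (V' : Y.Opens)
    (x : Γ(((GM V₁ V₂).obj F), V')) :
    (secM h F V' x).1 = F.presheaf.map (homOfLE (inf_le_img V₁ V')).op (ιM V₁ V₂ F V' x) := rfl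

lemma secM_bijective (h : V₂ ≤ V₁) (F : Y.Modules) (V' : Y.Opens) :
    Function.Bijective (secM h F V') := by
  constructor
  · intro a b hab
    apply ιM_injective F V'
    have h1 := congrArg Subtype.val hab
    rw [secM_apply, secM_apply] at h1
    have h2 := congrArg (F.presheaf.map (homOfLE (img_le_inf V₁ V')).op) h1
    rw [map_map_apply, map_map_apply, map_self_apply, map_self_apply] at h2
    exact h2
  · intro s
    have hs : F.presheaf.map (homOfLE (inf_le_inf_right V' h : V₂ ⊓ V' ≤ V₁ ⊓ V')).op s.1 = 0 :=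
      s.2
    obtain ⟨x, hx⟩ := (exists_ιM_eq_iff (V₁ := V₁) (V₂ := V₂) F V'
      (F.presheaf.map (homOfLE (img_le_inf V₁ V')).op s.1)).2 (by
        rw [map_map_apply]
        have := congrArg (F.presheaf.map (homOfLE (img2_le_winf V₁ V₂ V')).op) hs
        rw [map_map_apply, map_zero] at this
        exact this)
    refine ⟨x, Subtype.ext ?_⟩
    rw [secM_apply, hx, map_map_apply, map_self_apply]

/-- `(G F)(V') ≃ {s ∈ F(V₁ ⊓ V') | s|_{V₂ ⊓ V'} = 0}` -/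
noncomputable def secMEquiv (h : V₂ ≤ V₁) (F : Y.Modules) (V' : Y.Opens) :
    (Γ(((GM V₁ V₂).obj F), V') : Type u) ≃+
      LocCohZ.sectZ (X := Y.carrier) (Coh.toAb F)
        (inf_le_inf_right V' h : V₂ ⊓ V' ≤ V₁ ⊓ V') :=
  AddEquiv.ofBijective (secM h F V') (secM_bijective h F V')


lemma img_mono (V₁ : Y.Opens) {V' V'' : Y.Opens} (g : V'' ≤ V') :
    V₁.ι ''ᵁ (V₁.ι ⁻¹ᵁ V'') ≤ V₁.ι ''ᵁ (V₁.ι ⁻¹ᵁ V') :=
  Scheme.Hom.image_mono _ (Scheme.Hom.preimage_mono _ g)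

lemma ιM_res (F : Y.Modules) {V' V'' : Y.Opens} (g : V'' ≤ V')
    (x : Γ(((GM V₁ V₂).obj F), V')) :
    ιM V₁ V₂ F V'' (((GM V₁ V₂).obj F).presheaf.map (homOfLE g).op x) =
      F.presheaf.map (homOfLE (img_mono V₁ g)).op (ιM V₁ V₂ F V' x) := by
  have := ConcreteCategory.congr_hom
    (((α V₁ V₂).app F).mapPresheaf.naturality (homOfLE g).op) x
  exact this

lemma hom_app_res {F F' : Y.Modules} (φ : F ⟶ F') {A B : Y.Opens} (hBA : B ≤ A) (s : Γ(F, A)) :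
    φ.app B (F.presheaf.map (homOfLE hBA).op s) =
      F'.presheaf.map (homOfLE hBA).op (φ.app A s) :=
  ConcreteCategory.congr_hom (φ.mapPresheaf.naturality (homOfLE hBA).op) s

lemma secM_res (h : V₂ ≤ V₁) (F : Y.Modules) {V' V'' : Y.Opens} (g : V'' ≤ V')
    (x : Γ(((GM V₁ V₂).obj F), V')) :
    (secM h F V'' (((GM V₁ V₂).obj F).presheaf.map (homOfLE g).op x)).1 =
      F.presheaf.map (homOfLE (inf_le_inf_left V₁ g : V₁ ⊓ V'' ≤ V₁ ⊓ V')).op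
        (secM h F V' x).1 := by
  rw [secM_apply, secM_apply, ιM_res, map_map_apply, map_map_apply]

lemma ιM_naturality {F F' : Y.Modules} (φ : F ⟶ F') (V' : Y.Opens)
    (x : Γ(((GM V₁ V₂).obj F), V')) :
    ιM V₁ V₂ F' V' (((GM V₁ V₂).map φ).app V' x) =
      φ.app (V₁.ι ''ᵁ (V₁.ι ⁻¹ᵁ V')) (ιM V₁ V₂ F V' x) := by
  have h1 := (α V₁ V₂).naturality φ
  have h2 := congrArg (fun t => t.app V') h1
  exact ConcreteCategory.congr_hom h2 x

lemma secM_naturality (h : V₂ ≤ V₁) {F F' : Y.Modules} (φ : F ⟶ F') (V' : Y.Opens)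
    (x : Γ(((GM V₁ V₂).obj F), V')) :
    (secM h F' V' (((GM V₁ V₂).map φ).app V' x)).1 =
      φ.app (V₁ ⊓ V') (secM h F V' x).1 := by
  rw [secM_apply, secM_apply, ιM_naturality, hom_app_res]

end Groth.Agent.Lead.LcQc
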