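import Mathlib
import Groth.Prelude.Def_Coh
import Groth.Agent.Helper4.Flasque
import Groth.Agent.Lead.LcQcB

/-! Injective `O`-modules have flasque underlying abelian sheaves -/

set_option autoImplicit false
set_option linter.style.haveILetI false
universe u

open CategoryTheory CategoryTheory.Limits AlgebraicGeometry Opposite TopologicalSpace

namespace Groth.Agent.Lead.LcQc

open Groth.Agent.Helper4

variable {Y : Scheme.{u}}

lemma res_surjective_of_injective (I : Y.Modules) [Injective I] {U V : Y.Opens} (hVU : V ≤ U) :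
    Function.Surjective (I.presheaf.map (homOfLE hVU).op) := by
  obtain ⟨s, hs⟩ := Flasque.exists_section V.ι I
  intro t
  have h1 : V.ι ''ᵁ (V.ι ⁻¹ᵁ U) ≤ V := (img_le_inf V U).trans inf_le_left
  have h2 : V ≤ V.ι ''ᵁ (V.ι ⁻¹ᵁ U) := fun x hx => inf_le_img V U ⟨hx, hVU hx⟩
  let t' : Γ(I, V.ι ''ᵁ (V.ι ⁻¹ᵁ U)) := I.presheaf.map (homOfLE h1).op t
  refine ⟨s.app U t', ?_⟩
  have h3 : ((Scheme.Modules.restrictAdjunction V.ι).unit.app I).app U (s.app U t') = t' := by
    have := congrArg (fun φ => φ.app U) hs
    exact ConcreteCategory.congr_hom this t'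
  rw [Scheme.Modules.restrictAdjunction_unit_app_app] at h3
  have h4 := congrArg (I.presheaf.map (homOfLE h2).op) h3
  have h5 : I.presheaf.map (homOfLE h2).op t' = t :=
    (map_map_apply I h1 h2 t).trans (map_self_apply I _ t)
  rw [h5] at h4
  rw [← h4]
  exact (map_map_apply I _ h2 _).symm

instance isFlasque_toAb_of_injective (I : Y.Modules) [Injective I] :
    TopCat.Sheaf.IsFlasque (X := Y.carrier) (Coh.toAb I) where
  epi {U V} i := by
    rw [AddCommGrpCat.epi_iff_surjective]
    have : i = (homOfLE (leOfHom i.unop)).op := Subsingleton.elim _ _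
    rw [this]
    exact res_surjective_of_injective I (leOfHom i.unop)

end Groth.Agent.Lead.LcQc
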