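import Mathlib
import Groth.Agent.Helper4.HZshQc

/-! `Γ_Z` on `O`-modules is left exact -/

set_option autoImplicit false
set_option linter.style.haveILetI false
universe u

open CategoryTheory CategoryTheory.Limits AlgebraicGeometry Opposite

namespace Groth.Agent.Lead.LcQc

open Groth.Agent.Helper4

variable {U Y : Scheme.{u}} (j : U ⟶ Y) [IsOpenImmersion j]

lemma gammaZ_map_ι {A B : Y.Modules} (f : A ⟶ B) :
    (DCoh.gammaZ j).map f ≫ (CxOX.gammaZι j).app B = (CxOX.gammaZι j).app A ≫ f :=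
  (CxOX.gammaZι j).naturality f

instance mono_gammaZι (A : Y.Modules) : Mono ((CxOX.gammaZι j).app A) := by
  change Mono (kernel.ι ((Scheme.Modules.restrictAdjunction j).unit.app A))
  infer_instance

lemma gammaZι_unit (A : Y.Modules) :
    (CxOX.gammaZι j).app A ≫ (Scheme.Modules.restrictAdjunction j).unit.app A = 0 :=
  kernel.condition _

lemma lift_aux {S : ShortComplex Y.Modules} (hS : S.ShortExact) {X : Y.Modules}
    (x : X ⟶ (DCoh.gammaZ j).obj S.X₂) (hx : x ≫ (DCoh.gammaZ j).map S.g = 0) :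
    ∃ l : X ⟶ (DCoh.gammaZ j).obj S.X₁, l ≫ (DCoh.gammaZ j).map S.f = x := by
  haveI := hS.mono_f
  have hx' : (x ≫ (CxOX.gammaZι j).app S.X₂) ≫ S.g = 0 := by
    rw [Category.assoc, ← gammaZ_map_ι, ← Category.assoc, hx, zero_comp]
  let y : X ⟶ S.X₁ := hS.fIsKernel.lift (KernelFork.ofι _ hx')
  have hy : y ≫ S.f = x ≫ (CxOX.gammaZι j).app S.X₂ :=
    hS.fIsKernel.fac (KernelFork.ofι _ hx') WalkingParallelPair.zero
  haveI : Mono ((Scheme.Modules.restrictFunctor j ⋙ Scheme.Modules.pushforward j).map S.f) :=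
    inferInstance
  have hy0 : y ≫ (Scheme.Modules.restrictAdjunction j).unit.app S.X₁ = 0 := by
    rw [← cancel_mono ((Scheme.Modules.restrictFunctor j ⋙ Scheme.Modules.pushforward j).map S.f),
      Category.assoc, ← (Scheme.Modules.restrictAdjunction j).unit.naturality S.f, zero_comp]
    change y ≫ S.f ≫ _ = 0
    rw [← Category.assoc, hy, Category.assoc, gammaZι_unit, comp_zero]
  refine ⟨kernel.lift _ y hy0, ?_⟩
  rw [← cancel_mono ((CxOX.gammaZι j).app S.X₂), Category.assoc, gammaZ_map_ι, ← hy,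
    ← Category.assoc]
  congr 1
  exact kernel.lift_ι _ _ _

instance preservesFiniteLimits_gammaZ : PreservesFiniteLimits (DCoh.gammaZ j) := by
  rw [Functor.preservesFiniteLimits_iff_forall_exact_map_and_mono]
  intro S hS
  haveI := hS.mono_f
  have hmono : Mono ((DCoh.gammaZ j).map S.f) := by
    haveI : Mono ((DCoh.gammaZ j).map S.f ≫ (CxOX.gammaZι j).app S.X₂) := by
      rw [gammaZ_map_ι]
      infer_instance
    exact mono_of_mono _ ((CxOX.gammaZι j).app S.X₂)
  refine ⟨?_, hmono⟩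
  haveI : Mono (S.map (DCoh.gammaZ j)).f := hmono
  refine ShortComplex.exact_of_f_is_kernel _
    (@KernelFork.IsLimit.ofι' _ _ _ _ _ _ _ _ (S.map (DCoh.gammaZ j)).zero ?_ _)
  intro X x hx
  exact ⟨Classical.choose (lift_aux j hS x hx), Classical.choose_spec (lift_aux j hS x hx)⟩

end Groth.Agent.Lead.LcQc
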