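import Mathlib
import Groth.Prelude.Def_SuppFam
import Groth.Agent.Lead.LcQcB
import Groth.Agent.Lead.LcQcG
import Groth.Agent.Lead.LcQcF
import Groth.Agent.Helper9.HZshLCPsh
import Groth.Agent.Helper9.RpushCmp
import Groth.Agent.S6023

/-! Comparison of `Rⁿ(j₁_* Γ_Z j₁^*)` on modules with `ℋⁿ_Z` on abelian sheaves, `Z` locally closed -/

set_option autoImplicit false
set_option linter.style.haveILetI false
universe u

open CategoryTheory CategoryTheory.Limits AlgebraicGeometry Opposite TopologicalSpace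

namespace Groth.Agent.Lead.LcQc

open Groth.Agent.Helper9.HZshLCPsh Groth.Agent.Helper9.RpushCmp Groth.Agent.Helper1.DeltaCmp

variable {Y : Scheme.{u}} {V₁ V₂ : Y.Opens} (h : V₂ ≤ V₁)

/-- comparison on sections -/
noncomputable def cmpEquiv (F : Y.Modules) (V' : Y.Opens) :
    (Γ(((GM V₁ V₂).obj F), V') : Type u) ≃+
      (((SuppFam.sectSuppLC (X := Y.carrier) h).obj ((tA Y).obj F)).obj.obj (op V') : Type u) :=
  (secMEquiv h F V').trans (secEquiv (X := Y.carrier) h ((tA Y).obj F) V').symm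

lemma secEquiv_cmpEquiv (F : Y.Modules) (V' : Y.Opens) (x : Γ(((GM V₁ V₂).obj F), V')) :
    secEquiv (X := Y.carrier) h ((tA Y).obj F) V' (cmpEquiv h F V' x) = secM h F V' x :=
  (secEquiv (X := Y.carrier) h ((tA Y).obj F) V').apply_symm_apply _

lemma cmp_res (F : Y.Modules) {V' V'' : Y.Opens} (g : V'' ≤ V')
    (x : Γ(((GM V₁ V₂).obj F), V')) :
    cmpEquiv h F V'' (((GM V₁ V₂).obj F).presheaf.map (homOfLE g).op x) =
      ((LocCohZ.sectSuppF (UY (X := Y.carrier) V₂ V₁)).obj (FY V₁ ((tA Y).obj F))).obj.map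
        (homOfLE (tof_mono (X := Y.carrier) V₁ g)).op (cmpEquiv h F V' x) := by
  apply (secEquiv (X := Y.carrier) h ((tA Y).obj F) V'').injective
  apply Subtype.ext
  rw [secEquiv_res (X := Y.carrier) h ((tA Y).obj F) g, secEquiv_cmpEquiv, secEquiv_cmpEquiv]
  exact secM_res h F g x

lemma cmp_nat {F F' : Y.Modules} (φ : F ⟶ F') (V' : Y.Opens)
    (x : Γ(((GM V₁ V₂).obj F), V')) :
    cmpEquiv h F' V' (((GM V₁ V₂).map φ).app V' x) =
      ((LocCohZ.sectSuppF (UY (X := Y.carrier) V₂ V₁)).map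
        ((CohTop.restrFunctor V₁).map ((tA Y).map φ))).hom.app
        (op (Tof (X := Y.carrier) V₁ V')) (cmpEquiv h F V' x) := by
  apply (secEquiv (X := Y.carrier) h ((tA Y).obj F') V').injective
  apply Subtype.ext
  rw [secEquiv_naturality (X := Y.carrier) h ((tA Y).map φ), secEquiv_cmpEquiv, secEquiv_cmpEquiv]
  exact secM_naturality h φ V' x

/-- `(G F)_ab ≅ Γ_Z(F_ab)` as presheaves -/
noncomputable def e0app (F : Y.Modules) :
    ((tA Y).obj ((GM V₁ V₂).obj F)).obj ≅
      ((SuppFam.sectSuppLC (X := Y.carrier) h).obj ((tA Y).obj F)).obj :=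
  NatIso.ofComponents (fun V' => (cmpEquiv h F V'.unop).toAddCommGrpIso) (by
    intro V' V'' g
    apply AddCommGrpCat.hom_ext
    apply AddMonoidHom.ext
    intro (x : Γ(((GM V₁ V₂).obj F), V'.unop))
    have hg : ((Opens.map (CohCx.incl (X := Y.carrier) V₁)).map g.unop).op =
        (homOfLE (tof_mono (X := Y.carrier) V₁ (leOfHom g.unop))).op := Subsingleton.elim _ _
    have hg' : g = (homOfLE (leOfHom g.unop)).op := Subsingleton.elim _ _
    show cmpEquiv h F V''.unop (((GM V₁ V₂).obj F).presheaf.map g x) =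
      ((LocCohZ.sectSuppF (UY (X := Y.carrier) V₂ V₁)).obj (FY V₁ ((tA Y).obj F))).obj.map
        ((Opens.map (CohCx.incl (X := Y.carrier) V₁)).map g.unop).op (cmpEquiv h F V'.unop x)
    rw [hg]
    conv_lhs => rw [hg']
    exact cmp_res h F (leOfHom g.unop) x)

/-- `G ⋙ (-)_ab ≅ (-)_ab ⋙ Γ_Z` -/
noncomputable def e0 :
    GM V₁ V₂ ⋙ tA Y ≅ tA Y ⋙ SuppFam.sectSuppLC (X := Y.carrier) h :=
  NatIso.ofComponents
    (fun F => (fullyFaithfulSheafToPresheaf _ _).preimageIso (e0app h F)) (by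
    intro F F' φ
    apply (sheafToPresheaf _ _).map_injective
    simp only [Functor.map_comp, Functor.FullyFaithful.preimageIso_hom]
    ext V' : 2
    apply AddCommGrpCat.hom_ext
    apply AddMonoidHom.ext
    intro (x : Γ(((GM V₁ V₂).obj F), V'.unop))
    exact cmp_nat h φ V'.unop x)


instance preservesFiniteLimits_GM : PreservesFiniteLimits (GM V₁ V₂) := by
  unfold GM
  haveI : PreservesFiniteLimits (DCoh.gammaZ (k V₁ V₂) ⋙ Scheme.Modules.pushforward V₁.ι) :=
    comp_preservesFiniteLimits _ _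
  exact comp_preservesFiniteLimits _ _

/-- the local cohomology sheaves of the underlying abelian sheaf of an injective module vanish -/
lemma isZero_HZshLC_of_injective (I : Y.Modules) [Injective I] (n : ℕ) :
    IsZero ((SuppFam.HZshLC (X := Y.carrier) h (n + 1)).obj ((tA Y).obj I)) := by
  obtain ⟨e⟩ := Groth.Agent.Helper9.HZshLCPsh.main (X := Y.carrier) h ((tA Y).obj I) (n + 1)
  refine IsZero.of_iso ?_ e
  apply Functor.map_isZero
  apply Functor.isZero
  intro V'
  haveI : TopCat.Sheaf.IsFlasque (X := Y.carrier) ((tA Y).obj I) :=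
    isFlasque_toAb_of_injective I
  have h1 := (Groth.Agent.S6023.result (X := Y.carrier) ((tA Y).obj I)).1 _ _
    (hpL (X := Y.carrier) h V'.unop) (n + 1) (Nat.succ_pos n)
  haveI : Subsingleton ↑((SuppFam.HZpre ((tA Y).obj I) (n + 1) h).obj V') := h1
  exact AddCommGrpCat.isZero_of_subsingleton _

variable [HasInjectiveResolutions Y.Modules]

/-- `F ↦ (Rⁿ G F)_ab` -/
noncomputable abbrev T (V₁ V₂ : Y.Opens) (n : ℕ) :
    Y.Modules ⥤ Sheaf (Opens.grothendieckTopology Y) AddCommGrpCat.{u} :=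
  (GM V₁ V₂).rightDerived n ⋙ tA Y

/-- `F ↦ ℋⁿ_Z (F_ab)` -/
noncomputable abbrev T' (n : ℕ) :
    Y.Modules ⥤ Sheaf (Opens.grothendieckTopology Y) AddCommGrpCat.{u} :=
  tA Y ⋙ SuppFam.HZshLC (X := Y.carrier) h n

/-- degree zero -/
noncomputable def e₀ : T V₁ V₂ 0 ≅ T' h 0 :=
  Functor.isoWhiskerRight (GM V₁ V₂).rightDerivedZeroIsoSelf (tA Y) ≪≫ e0 h ≪≫
    Functor.isoWhiskerLeft (tA Y)
      (SuppFam.sectSuppLC (X := Y.carrier) h).rightDerivedZeroIsoSelf.symm

theorem nonempty_iso (n : ℕ) (M : Y.Modules) :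
    Nonempty ((T V₁ V₂ n).obj M ≅ (T' h n).obj M) := by
  have key : ∀ F : Y.Modules, True →
      Nonempty (Effacement (T V₁ V₂) (T' h) (fun _ => True) F) := by
    intro F _
    haveI : EnoughInjectives Y.Modules :=
      Groth.Agent.Helper9.ModCechExt.enoughInjectives_mod Y.ringCatSheaf
    let S : ShortComplex Y.Modules :=
      ShortComplex.mk (Injective.ι F) (cokernel.π (Injective.ι F)) (cokernel.condition _)
    have hS : S.ShortExact :=
      { exact := ShortComplex.exact_cokernel _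
        mono_f := by dsimp [S]; infer_instance
        epi_g := by dsimp [S]; infer_instance }
    have hI : Injective S.X₂ := by dsimp [S]; infer_instance
    haveI := hI
    exact ⟨{
      S := S
      iso := rfl
      mem := trivial
      zero := fun n => Functor.map_isZero (tA Y)
        (Functor.isZero_rightDerived_obj_injective_succ _ _ _)
      zero' := fun n => isZero_HZshLC_of_injective h S.X₂ n
      les := Groth.Agent.Helper1.SiteCoh.HasLES.comp
        (Groth.Agent.Helper1.Horseshoe.hasLES_rightDerived (GM V₁ V₂) S hS) (tA Y)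
      les' := Groth.Agent.Helper1.Horseshoe.hasLES_rightDerived
        (SuppFam.sectSuppLC (X := Y.carrier) h) (S.map (tA Y)) (hS.map_of_exact (tA Y)) }⟩
  exact Groth.Agent.Helper1.DeltaCmp.nonempty_iso (fun _ => True) (e₀ h) key n M trivial

end Groth.Agent.Lead.LcQc
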