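import Mathlib
import Groth.Prelude.Def_DCoh2
import Groth.Agent.Helper4.HZshQc
import Groth.Agent.Helper1.BaseChart9
import Groth.Agent.Helper1.ExtRes3
import Groth.Agent.Helper1.BasisHom
import Groth.Agent.Lead.OmegaSecD
import Groth.Agent.S0010

/-! Vanishing of local cohomology sheaves above the number of local equations (S7252). -/

set_option autoImplicit false
universe u

open CategoryTheory CategoryTheory.Limits AlgebraicGeometry Opposite TopologicalSpace

namespace Groth.Agent.Lead.LcVan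

variable {X : Scheme.{u}}

/-- a module is zero if it restricts to zero on an open cover -/
theorem isZero_of_cover (M : X.Modules)
    (h : ∀ x : X, ∃ W : X.Opens, x ∈ W ∧ IsZero (M.restrict W.ι)) : IsZero M := by
  rw [IsZero.iff_id_eq_zero]
  apply Scheme.Modules.hom_ext
  intro W
  apply AddCommGrpCat.hom_ext
  apply AddMonoidHom.ext
  intro m
  choose U hxU hz using h
  apply Groth.Agent.Helper1.BasisHom.section_ext_of_cover M W (fun k : W => U k.1 ⊓ W)
    (fun k => inf_le_right) (fun x hx => Opens.mem_iSup.mpr ⟨⟨x, hx⟩, hxU x, hx⟩)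
  intro k
  have h1 : Subsingleton Γ(M, (U k.1).ι ''ᵁ ((U k.1).ι ⁻¹ᵁ W)) :=
    Groth.Agent.Lead.OmegaSecD.subsingleton_sections_of_isZero _ (hz k.1) ((U k.1).ι ⁻¹ᵁ W)
  have h2 : (U k.1).ι ''ᵁ ((U k.1).ι ⁻¹ᵁ W) = U k.1 ⊓ W := by
    rw [Scheme.Hom.image_preimage_eq_opensRange_inf, Scheme.Opens.opensRange_ι]
  rw [h2] at h1
  exact Subsingleton.elim _ _

end Groth.Agent.Lead.LcVan
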