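import Mathlib
import Groth.Prelude.Def_DCoh2
import Groth.Agent.Helper4.HZshQc
import Groth.Agent.Helper1.BaseChart9
import Groth.Agent.Helper1.ExtRes3
import Groth.Agent.Helper1.BasisHom
import Groth.Agent.Lead.OmegaSecD
import Groth.Agent.S0010

set_option autoImplicit false
universe u

open CategoryTheory CategoryTheory.Limits AlgebraicGeometry Opposite TopologicalSpace
open Groth.Agent.Helper1.BaseChart

namespace Groth.Agent.Lead.LcVan

variable {X : Scheme.{u}}

/-- affine opens inside an affine open have affine intersection -/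
theorem isAffineOpen_inf_of_le {W A B : X.Opens} (hW : IsAffineOpen W) (hA : IsAffineOpen A)
    (hB : IsAffineOpen B) (hAW : A ≤ W) (hBW : B ≤ W) : IsAffineOpen (A ⊓ B) := by
  haveI : IsAffine (W : Scheme.{u}) := hW
  have hr : ∀ C : X.Opens, C ≤ W → C ≤ W.ι.opensRange := by
    intro C hC
    rwa [Scheme.Opens.opensRange_ι]
  have hA' : IsAffineOpen (W.ι ⁻¹ᵁ A) := hA.preimage_of_isOpenImmersion W.ι (hr A hAW)
  have hB' : IsAffineOpen (W.ι ⁻¹ᵁ B) := hB.preimage_of_isOpenImmersion W.ι (hr B hBW)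
  have h := (hA'.inf hB').image_of_isOpenImmersion W.ι
  rw [← Scheme.Hom.preimage_inf, Scheme.Hom.image_preimage_eq_opensRange_inf,
    Scheme.Opens.opensRange_ι] at h
  have : W ⊓ (A ⊓ B) = A ⊓ B := inf_eq_right.mpr (inf_le_left.trans hAW)
  rwa [this] at h

/-- the key vanishing: over an affine open where the closed complement of `U` is cut out by the
finite set `fs` of functions, the cohomology of a quasi-coherent module on `U ∩ W` vanishes in
degrees `≥ card fs` -/
theorem subsingleton_HH_of_equations (U W : X.Opens) (hW : IsAffineOpen W) (fs : Finset Γ(X, W))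
    (hfs : X.zeroLocus (U := W) (↑fs : Set Γ(X, W)) ∩ (W : Set X) = (U : Set X)ᶜ ∩ (W : Set X))
    (N : (U : Scheme.{u}).Modules) [N.IsQuasicoherent] (n : ℕ) (hn : fs.card ≤ n) :
    Subsingleton (Coh.HH (XV U.ι W) (FV U.ι W N) n) := by
  let T : (U : Scheme.{u}).Opens := U.ι ⁻¹ᵁ W
  let g : (T : Scheme.{u}) ⟶ X := T.ι ≫ U.ι
  have hgW : ∀ t : (T : Scheme.{u}), g.base t ∈ W := by
    intro t
    exact t.2
  have hgU : ∀ t : (T : Scheme.{u}), g.base t ∈ U := by
    intro t
    exact (T.ι.base t).2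
  have hrange : g.opensRange = U ⊓ W := by
    ext x
    constructor
    · rintro ⟨t, rfl⟩
      exact ⟨hgU t, hgW t⟩
    · rintro ⟨hxU, hxW⟩
      exact ⟨⟨⟨x, hxU⟩, hxW⟩, rfl⟩
  have hbU : ∀ f ∈ fs, X.basicOpen f ≤ U ⊓ W := by
    intro f hf x hx
    have hxW : x ∈ W := X.basicOpen_le f hx
    refine ⟨?_, hxW⟩
    by_contra hxU
    have h1 : x ∈ (U : Set X)ᶜ ∩ (W : Set X) := ⟨hxU, hxW⟩
    rw [← hfs] at h1
    exact (X.mem_zeroLocus_iff _ x).1 h1.1 f hf hx
  let e := fs.equivFin
  let D : Fin fs.card → (T : Scheme.{u}).Opens := fun i => g ⁻¹ᵁ X.basicOpen (e.symm i).1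
  have hD : ∀ i, IsAffineOpen (D i) := by
    intro i
    refine (hW.basicOpen (e.symm i).1).preimage_of_isOpenImmersion g ?_
    rw [hrange]
    exact hbU _ (e.symm i).2
  have hcov : ⨆ i, D i = ⊤ := by
    rw [eq_top_iff]
    intro t _
    have hx : g.base t ∉ X.zeroLocus (U := W) (↑fs : Set Γ(X, W)) := by
      intro h
      have h1 : g.base t ∈ (U : Set X)ᶜ ∩ (W : Set X) := by
        rw [← hfs]
        exact ⟨h, hgW t⟩
      exact h1.1 (hgU t)
    rw [X.mem_zeroLocus_iff] at hx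
    push_neg at hx
    obtain ⟨f, hf, hxf⟩ := hx
    refine Opens.mem_iSup.mpr ⟨e ⟨f, hf⟩, ?_⟩
    show g.base t ∈ X.basicOpen (e.symm (e ⟨f, hf⟩)).1
    rw [Equiv.symm_apply_apply]
    exact hxf
  have hd : ∀ V₁ V₂ : (T : Scheme.{u}).Opens, IsAffineOpen V₁ → IsAffineOpen V₂ →
      IsAffineOpen (V₁ ⊓ V₂) := by
    intro V₁ V₂ h₁ h₂
    have hle : ∀ V : (T : Scheme.{u}).Opens, g ''ᵁ V ≤ W := by
      intro V
      have := g.image_le_opensRange V
      rw [hrange] at this
      exact this.trans inf_le_right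
    have h3 := isAffineOpen_inf_of_le hW (h₁.image_of_isOpenImmersion g)
      (h₂.image_of_isOpenImmersion g) (hle V₁) (hle V₂)
    have h4 := h3.preimage_of_isOpenImmersion g
      (inf_le_left.trans (g.image_le_opensRange V₁))
    rwa [Scheme.Hom.preimage_inf, Scheme.Hom.preimage_image_eq, Scheme.Hom.preimage_image_eq]
      at h4
  haveI : Coh.IsQCoh (FV U.ι W N) := inferInstance
  exact Groth.Agent.S0010.result (XV U.ι W) fs.card D hD hcov hd (FV U.ι W N) n hn

end Groth.Agent.Lead.LcVan
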