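import Mathlib
import Groth.Prelude.Def_DCoh2
import Groth.Agent.Helper4.HZshQc
import Groth.Agent.Helper1.BaseChart9
import Groth.Agent.Helper1.ExtRes3
import Groth.Agent.Helper1.BasisHom
import Groth.Agent.Lead.OmegaSecD
import Groth.Agent.S0010
import Groth.Agent.Lead.LcVan
import Groth.Agent.Lead.LcVan2

set_option autoImplicit false
universe u

open CategoryTheory CategoryTheory.Limits AlgebraicGeometry Opposite TopologicalSpace
open Groth.Agent.Helper1.BaseChart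

namespace Groth.Agent.Lead.LcVan

variable {X : Scheme.{u}}

/-- refinement of the local data to affine opens -/
theorem exists_affine_equations (U : X.Opens) (c : ℕ)
    (hT : ∀ x : X, ∃ (V : X.Opens) (fs : Finset Γ(X, V)), x ∈ V ∧ fs.card ≤ c ∧
      X.zeroLocus (U := V) (↑fs : Set Γ(X, V)) ∩ (V : Set ↥X) = (U : Set ↥X)ᶜ ∩ (V : Set ↥X))
    (x : X) : ∃ (W : X.Opens) (fs : Finset Γ(X, W)), IsAffineOpen W ∧ x ∈ W ∧ fs.card ≤ c ∧
      X.zeroLocus (U := W) (↑fs : Set Γ(X, W)) ∩ (W : Set ↥X) = (U : Set ↥X)ᶜ ∩ (W : Set ↥X) := by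
  classical
  obtain ⟨V, fs, hxV, hc, hz⟩ := hT x
  obtain ⟨W, hW, hxW, hWV⟩ := exists_isAffineOpen_mem_and_subset (x := x) (U := V) hxV
  let r : Γ(X, V) → Γ(X, W) := (X.presheaf.map (homOfLE hWV).op).hom
  refine ⟨W, fs.image r, hW, hxW, le_trans Finset.card_image_le hc, ?_⟩
  ext y
  constructor
  · rintro ⟨hy, hyW⟩
    refine ⟨?_, hyW⟩
    have hyV : y ∈ V := hWV hyW
    have h1 : y ∈ X.zeroLocus (U := V) (↑fs : Set Γ(X, V)) ∩ (V : Set ↥X) := by
      refine ⟨?_, hyV⟩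
      rw [X.mem_zeroLocus_iff] at hy ⊢
      intro f hf hyf
      refine hy (r f) (by simp only [Finset.coe_image]; exact ⟨f, hf, rfl⟩) ?_
      show y ∈ X.basicOpen (X.presheaf.map (homOfLE hWV).op f)
      rw [Scheme.basicOpen_res]
      exact ⟨hyW, hyf⟩
    rw [hz] at h1
    exact h1.1
  · rintro ⟨hyU, hyW⟩
    refine ⟨?_, hyW⟩
    have hyV : y ∈ V := hWV hyW
    have h1 : y ∈ X.zeroLocus (U := V) (↑fs : Set Γ(X, V)) ∩ (V : Set ↥X) := by
      rw [hz]
      exact ⟨hyU, hyV⟩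
    have h2 := (X.mem_zeroLocus_iff _ y).1 h1.1
    rw [X.mem_zeroLocus_iff]
    intro g hg hyg
    simp only [Finset.coe_image] at hg
    obtain ⟨f, hf, rfl⟩ := hg
    have : y ∈ X.basicOpen (X.presheaf.map (homOfLE hWV).op f) := hyg
    rw [Scheme.basicOpen_res] at this
    exact h2 f hf this.2

/-- `U ∩ W` is compact when the complement of `U` in the affine open `W` is cut out by finitely many
functions -/
theorem isCompact_inf (U W : X.Opens) (hW : IsAffineOpen W) (fs : Finset Γ(X, W))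
    (hfs : X.zeroLocus (U := W) (↑fs : Set Γ(X, W)) ∩ (W : Set X) = (U : Set X)ᶜ ∩ (W : Set X)) :
    IsCompact ((U ⊓ W : X.Opens) : Set X) := by
  have h : ((U ⊓ W : X.Opens) : Set X) = ⋃ f ∈ fs, (X.basicOpen f : Set X) := by
    ext y
    simp only [Opens.coe_inf, Set.mem_inter_iff, SetLike.mem_coe, Set.mem_iUnion, exists_prop]
    constructor
    · rintro ⟨hyU, hyW⟩
      have hy : y ∉ X.zeroLocus (U := W) (↑fs : Set Γ(X, W)) := by
        intro h
        have h1 : y ∈ (U : Set X)ᶜ ∩ (W : Set X) := by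
          rw [← hfs]
          exact ⟨h, hyW⟩
        exact h1.1 hyU
      rw [X.mem_zeroLocus_iff] at hy
      push Not at hy
      obtain ⟨f, hf, hyf⟩ := hy
      exact ⟨f, hf, hyf⟩
    · rintro ⟨f, hf, hyf⟩
      have hyW : y ∈ W := X.basicOpen_le f hyf
      refine ⟨?_, hyW⟩
      by_contra hyU
      have h1 : y ∈ (U : Set X)ᶜ ∩ (W : Set X) := ⟨hyU, hyW⟩
      rw [← hfs] at h1
      exact (X.mem_zeroLocus_iff _ y).1 h1.1 f hf hyf
  rw [h]
  exact fs.isCompact_biUnion (fun f _ => (hW.basicOpen f).isCompact)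

/-- the open immersion of `U` is quasi-compact -/
theorem quasiCompact_ι (U : X.Opens) (c : ℕ)
    (hT : ∀ x : X, ∃ (V : X.Opens) (fs : Finset Γ(X, V)), x ∈ V ∧ fs.card ≤ c ∧
      X.zeroLocus (U := V) (↑fs : Set Γ(X, V)) ∩ (V : Set ↥X) = (U : Set ↥X)ᶜ ∩ (V : Set ↥X)) :
    QuasiCompact U.ι := by
  choose W fs hW hxW hc hz using exists_affine_equations U c hT
  rw [HasAffineProperty.iff_of_iSup_eq_top (P := @QuasiCompact)
    (fun x : X => (⟨W x, hW x⟩ : X.affineOpens))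
    (by
      rw [eq_top_iff]
      intro x _
      exact Opens.mem_iSup.mpr ⟨x, hxW x⟩)]
  intro x
  show CompactSpace ↥(U.ι ⁻¹ᵁ W x)
  refine isCompact_iff_compactSpace.1 ?_
  show IsCompact ((U.ι ⁻¹ᵁ W x : (U : Scheme.{u}).Opens) : Set (U : Scheme.{u}))
  have h1 := isCompact_inf U (W x) (hW x) (fs x) (hz x)
  have h2 : ((U.ι ⁻¹ᵁ W x : (U : Scheme.{u}).Opens) : Set (U : Scheme.{u})) =
      U.ι.base ⁻¹' ((U ⊓ W x : X.Opens) : Set X) := by
    ext y
    simp only [Opens.coe_inf, Set.mem_preimage, Set.mem_inter_iff, SetLike.mem_coe]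
    constructor
    · intro h
      exact ⟨y.2, h⟩
    · intro h
      exact h.2
  rw [h2]
  refine (U.ι.isOpenEmbedding.isInducing.isCompact_preimage_iff ?_).2 h1
  rintro y ⟨hyU, -⟩
  exact ⟨⟨y, hyU⟩, rfl⟩

end Groth.Agent.Lead.LcVan
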