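import Mathlib
import Groth.Prelude.Def_DCoh2
import Groth.Agent.Helper4.HZshQc
import Groth.Agent.Helper1.BaseChart9
import Groth.Agent.Helper1.ExtRes3
import Groth.Agent.Lead.LcVan
import Groth.Agent.Lead.LcVan2
import Groth.Agent.Lead.LcVan3

set_option autoImplicit false
universe u

open CategoryTheory CategoryTheory.Limits AlgebraicGeometry Opposite TopologicalSpace
open Groth.Agent.Helper1.BaseChart

namespace Groth.Agent.Lead.LcVan

variable {X : Scheme.{u}}

theorem main (U : X.Opens) [HasInjectiveResolutions X.Modules]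
    (c : ℕ) (hT : ∀ x : X, ∃ (V : X.Opens) (fs : Finset Γ(X, V)), x ∈ V ∧ fs.card ≤ c ∧
      X.zeroLocus (U := V) (↑fs : Set Γ(X, V)) ∩ (V : Set ↥X) = (U : Set ↥X)ᶜ ∩ (V : Set ↥X))
    (F : X.Modules) (hF : Coh.IsQCoh F) (i : ℕ) (hi : c < i) :
    IsZero (((DCoh.gammaZ U.ι).rightDerived i).obj F) := by
  haveI : HasInjectiveResolutions (U : Scheme.{u}).Modules :=
    Groth.Agent.Helper1.ExtRes.hasInjectiveResolutions_mod (U : Scheme.{u})
  haveI : QuasiCompact U.ι := quasiCompact_ι U c hT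
  haveI : F.IsQuasicoherent := hF
  haveI hN : ((Scheme.Modules.restrictFunctor U.ι).obj F).IsQuasicoherent :=
    Scheme.Modules.isQuasicoherent_restrictFunctor U.ι F
  match i, hi with
  | 0, hi => exact absurd hi (Nat.not_lt_zero c)
  | 1, hi =>
    have hc : c = 0 := by omega
    subst hc
    have hempty : IsEmpty (U : Scheme.{u}) := by
      refine ⟨fun y => ?_⟩
      obtain ⟨V, fs, hxV, hc, hz⟩ := hT y.1
      have hfs : fs = ∅ := Finset.card_eq_zero.1 (Nat.le_zero.1 hc)
      subst hfs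
      have h1 : y.1 ∈ X.zeroLocus (U := V) (↑(∅ : Finset Γ(X, V)) : Set Γ(X, V)) ∩ (V : Set ↥X) := by
        refine ⟨?_, hxV⟩
        rw [Finset.coe_empty, X.zeroLocus_empty_eq_univ]
        trivial
      rw [hz] at h1
      exact h1.1 y.2
    obtain ⟨e⟩ := Groth.Agent.Helper4.HZshQc.nonempty_iso_one U.ι F
    refine IsZero.of_iso ?_ e
    have hz : IsZero ((Scheme.Modules.restrictFunctor U.ι).obj F) :=
      isZero_of_cover _ (fun y => (hempty.false y).elim)
    have hz2 : IsZero ((Scheme.Modules.restrictFunctor U.ι ⋙ Scheme.Modules.pushforward U.ι).obj F) :=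
      (Scheme.Modules.pushforward U.ι).map_isZero hz
    exact IsZero.of_epi (cokernel.π _) hz2
  | k + 2, hi =>
    obtain ⟨e⟩ := Groth.Agent.Helper4.HZshQc.nonempty_iso_succ U.ι k F
    refine IsZero.of_iso ?_ e
    apply isZero_of_cover
    intro x
    obtain ⟨W, fs, hW, hxW, hc, hz⟩ := exists_affine_equations U c hT x
    refine ⟨W, hxW, ?_⟩
    haveI : IsAffine (W : Scheme.{u}) := hW
    haveI : Coh.IsQCoh ((Scheme.Modules.restrictFunctor U.ι).obj F) := hN
    exact isZero_Rpush_restrict U.ι W ((Scheme.Modules.restrictFunctor U.ι).obj F) (k + 1)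
      (subsingleton_HH_of_equations U W hW fs hz _ (k + 1) (by omega))

end Groth.Agent.Lead.LcVan
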