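import Mathlib
import Groth.Prelude.Def_Lef
import Groth.Agent.Lead.LefConnA
import Groth.Agent.Helper4.FinLocFree6

/-!
# Lefschetz condition and connectedness (S2946): main argument on a scheme `W`
-/

set_option autoImplicit false
universe u
open CategoryTheory CategoryTheory.Limits AlgebraicGeometry TopologicalSpace Opposite

namespace Groth.Agent.Lead.LefConn

open Groth.Agent.Helper1.IdealMod (fn ofFn)
open Groth.Agent.Lead.IdealModDict (ofSection ofSection_app)
open Groth.Agent.Lead.LiftPow (res app_res res_res res_self)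

section Ind2
variable {Z : Scheme.{u}}

theorem IsInd.restrict {T T' A A' B B' : Z.Opens} (hT : T' ≤ T) (hAA : A' ≤ A) (hBB : B' ≤ B)
    (hA' : A' ≤ T') (hB' : B' ≤ T') {hA : A ≤ T} {hB : B ≤ T} {e : Γ(Z, T)}
    (h : IsInd T A B hA hB e) : IsInd T' A' B' hA' hB' (res hT e) := by
  constructor
  · rw [res_res, ← res_res hAA hA, h.1, map_one]
  · rw [res_res, ← res_res hBB hB, h.2, map_zero]

theorem isInd_of_eq_bot_right {T A B : Z.Opens} (hA : A ≤ T) (hB : B ≤ T) (hB0 : B = ⊥) :
    IsInd T A B hA hB 1 := by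
  subst hB0
  exact ⟨map_one _, Subsingleton.elim _ _⟩

theorem isInd_of_eq_bot_left {T A B : Z.Opens} (hA : A ≤ T) (hB : B ≤ T) (hA0 : A = ⊥) :
    IsInd T A B hA hB 0 := by
  subst hA0
  exact ⟨Subsingleton.elim _ _, map_zero _⟩

end Ind2

variable {W : Scheme.{u}} (J : W.IdealSheafData)

theorem range_ι (n : ℕ) : Set.range (J ^ (n + 1)).subschemeι = (J.support : Set W) := by
  rw [Scheme.IdealSheafData.range_subschemeι]
  rfl

theorem toSubscheme_app (I : W.IdealSheafData) (T : W.Opens) (s : Γ(W, T)) :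
    (ClSub.toSubscheme I).app T (ofFn s) = (ofFn ((I.subschemeι.app T).hom s) :
      Γ(Coh.structureModule I.subscheme, I.subschemeι ⁻¹ᵁ T)) := rfl

theorem quotMap_app {I I' : W.IdealSheafData} (h : I ≤ I') (T : W.Opens)
    (s : Γ(I.subscheme, I.subschemeι ⁻¹ᵁ T)) :
    (Lef.quotMap h).app T (ofFn s : Γ(Coh.structureModule I.subscheme, I.subschemeι ⁻¹ᵁ T)) =
      (ofFn (res (show I'.subschemeι ⁻¹ᵁ T ≤
          (Scheme.IdealSheafData.inclusion h) ⁻¹ᵁ (I.subschemeι ⁻¹ᵁ T) by
            rw [← Scheme.IdealSheafData.inclusion_subschemeι h]; exact le_rfl)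
        (((Scheme.IdealSheafData.inclusion h).app (I.subschemeι ⁻¹ᵁ T)).hom s)) :
        Γ(Coh.structureModule I'.subscheme, I'.subschemeι ⁻¹ᵁ T)) := by
  rfl

variable (hb : Lef.HomToFormalBijective J (Coh.structureModule W))

include hb in
theorem lef_inj (s s' : Γ(W, ⊤))
    (h : ∀ n : ℕ, ((J ^ (n + 1)).subschemeι.app ⊤).hom s = ((J ^ (n + 1)).subschemeι.app ⊤).hom s') :
    s = s' := by
  have h1 := hb.1 (ofSection (Coh.structureModule W) (ofFn s))
    (ofSection (Coh.structureModule W) (ofFn s')) ?_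
  · have h2 := congrArg (sec (Coh.structureModule W)) h1
    rw [sec_ofSection, sec_ofSection] at h2
    exact h2
  · intro n
    apply hom_ext_of_sec
    rw [sec_comp, sec_comp, sec_ofSection, sec_ofSection, toSubscheme_app, toSubscheme_app, h n]

include hb in
theorem lef_surj (e : ∀ n : ℕ, Γ((J ^ (n + 1)).subscheme, (J ^ (n + 1)).subschemeι ⁻¹ᵁ ⊤))
    (he : ∀ n : ℕ, (Lef.quotMap (Lef.pow_succ_le J n)).app ⊤
      (ofFn (e (n + 1)) : Γ(Coh.structureModule (J ^ (n + 1 + 1)).subscheme,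
        (J ^ (n + 1 + 1)).subschemeι ⁻¹ᵁ ⊤)) =
      (ofFn (e n) : Γ(Coh.structureModule (J ^ (n + 1)).subscheme,
        (J ^ (n + 1)).subschemeι ⁻¹ᵁ ⊤))) :
    ∃ s : Γ(W, ⊤), ∀ n : ℕ, ((J ^ (n + 1)).subschemeι.app ⊤).hom s = e n := by
  let y : ∀ n : ℕ, Coh.structureModule W ⟶ ClSub.quotMod (J ^ (n + 1)) := fun n =>
    ofSection (ClSub.quotMod (J ^ (n + 1)))
      (ofFn (e n) : Γ(Coh.structureModule (J ^ (n + 1)).subscheme,
        (J ^ (n + 1)).subschemeι ⁻¹ᵁ ⊤))
  have hy : Lef.IsFormalHom J (Coh.structureModule W) y := by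
    intro n
    apply hom_ext_of_sec
    rw [sec_comp, sec_ofSection, sec_ofSection]
    exact he n
  obtain ⟨φ, hφ⟩ := hb.2 y hy
  refine ⟨fn (sec (Coh.structureModule W) φ), fun n => ?_⟩
  have h1 := congrArg (sec (ClSub.quotMod (J ^ (n + 1)))) (hφ n)
  rw [sec_comp, sec_ofSection] at h1
  exact h1

include hb in
/-- a connected closed subscheme forces the ambient scheme to be preconnected -/
theorem preconnectedSpace_of_support (hY : _root_.IsPreconnected (J.support : Set W)) :
    PreconnectedSpace W := by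
  rw [preconnectedSpace_iff_clopen]
  intro C hC
  let A : W.Opens := ⟨C, hC.isOpen⟩
  let B : W.Opens := ⟨Cᶜ, hC.isClosed.isOpen_compl⟩
  have hdisj : A ⊓ B = ⊥ := by
    ext x
    simp only [Opens.coe_inf, Opens.coe_bot, Set.mem_inter_iff, Set.mem_empty_iff_false, iff_false]
    rintro ⟨h1, h2⟩
    exact h2 h1
  have hcov : (⊤ : W.Opens) ≤ A ⊔ B := by
    intro x _
    by_cases hx : x ∈ C
    · exact Or.inl hx
    · exact Or.inr hx
  obtain ⟨e, he⟩ := exists_isInd ⊤ A B le_top le_top hcov hdisj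
  have hpull : ∀ n : ℕ, IsInd ((J ^ (n + 1)).subschemeι ⁻¹ᵁ ⊤) ((J ^ (n + 1)).subschemeι ⁻¹ᵁ A)
      ((J ^ (n + 1)).subschemeι ⁻¹ᵁ B) _ _ (((J ^ (n + 1)).subschemeι.app ⊤).hom e) :=
    fun n => he.pullback _
  have hcovn : ∀ n : ℕ, (J ^ (n + 1)).subschemeι ⁻¹ᵁ ⊤ ≤
      (J ^ (n + 1)).subschemeι ⁻¹ᵁ A ⊔ (J ^ (n + 1)).subschemeι ⁻¹ᵁ B := by
    intro n z _
    rcases hcov (Set.mem_univ ((J ^ (n + 1)).subschemeι z)) with h | h
    · exact Or.inl h
    · exact Or.inr h
  have hrange : ∀ (n : ℕ) (z : (J ^ (n + 1)).subscheme),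
      (J ^ (n + 1)).subschemeι z ∈ (J.support : Set W) := by
    intro n z
    rw [← range_ι J n]
    exact ⟨z, rfl⟩
  rcases hY.subset_or_subset hC.isOpen hC.isClosed.isOpen_compl disjoint_compl_right
    (by rw [Set.union_compl_self]; exact Set.subset_univ _) with hYA | hYB
  · right
    have h1 : e = 1 := by
      apply lef_inj J hb
      intro n
      rw [map_one]
      refine (hpull n).unique (hcovn n) (isInd_of_eq_bot_right _ _ ?_)
      ext z
      simp only [Opens.coe_bot, Set.mem_empty_iff_false, iff_false]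
      intro hz
      exact hz (hYA (hrange n z))
    have h2 : (1 : Γ(W, B)) = 0 := by
      have := he.2
      rwa [h1, map_one] at this
    by_contra hne
    obtain ⟨x, hx⟩ : ∃ x, x ∉ C := by
      by_contra hcon
      push Not at hcon
      exact hne (Set.eq_univ_of_forall hcon)
    exact one_ne_zero_of_mem (V := B) x hx h2
  · left
    have h1 : e = 0 := by
      apply lef_inj J hb
      intro n
      rw [map_zero]
      refine (hpull n).unique (hcovn n) (isInd_of_eq_bot_left _ _ ?_)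
      ext z
      simp only [Opens.coe_bot, Set.mem_empty_iff_false, iff_false]
      intro hz
      exact hYB (hrange n z) hz
    have h2 : (1 : Γ(W, A)) = 0 := by
      have := he.1
      rw [h1, map_zero] at this
      exact this.symm
    by_contra hne
    obtain ⟨x, hx⟩ := Set.nonempty_iff_ne_empty.mpr hne
    exact one_ne_zero_of_mem (V := A) x hx h2

include hb in
theorem nonempty_support_of_nonempty [Nonempty W] : (J.support : Set W).Nonempty := by
  by_contra hemp
  rw [Set.not_nonempty_iff_eq_empty] at hemp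
  have hE : ∀ n : ℕ, IsEmpty (J ^ (n + 1)).subscheme := by
    intro n
    refine ⟨fun z => ?_⟩
    have : (J ^ (n + 1)).subschemeι z ∈ (J.support : Set W) := by
      rw [← range_ι J n]
      exact ⟨z, rfl⟩
    rw [hemp] at this
    exact this
  have h1 : (1 : Γ(W, ⊤)) = 0 := by
    apply lef_inj J hb
    intro n
    haveI := hE n
    have h2 : ((J ^ (n + 1)).subschemeι ⁻¹ᵁ (⊤ : W.Opens)) = ⊥ := by
      ext z
      exact (IsEmpty.false z).elim
    haveI : Subsingleton Γ((J ^ (n + 1)).subscheme, (J ^ (n + 1)).subschemeι ⁻¹ᵁ (⊤ : W.Opens)) := by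
      rw [h2]
      infer_instance
    exact Subsingleton.elim _ _
  obtain ⟨x⟩ := ‹Nonempty W›
  exact one_ne_zero_of_mem (V := (⊤ : W.Opens)) x trivial h1

end Groth.Agent.Lead.LefConn
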