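import Mathlib
import Groth.Prelude.Def_Lef
import Groth.Agent.Lead.LefConnB

/-!
# Lefschetz condition and connectedness (S2946): the converse and the main theorem
-/

set_option autoImplicit false
universe u
open CategoryTheory CategoryTheory.Limits AlgebraicGeometry TopologicalSpace Opposite

namespace Groth.Agent.Lead.LefConn

open Groth.Agent.Helper1.IdealMod (fn ofFn)
open Groth.Agent.Lead.IdealModDict (ofSection ofSection_app)
open Groth.Agent.Lead.LiftPow (res app_res res_res res_self)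

variable {W : Scheme.{u}} (J : W.IdealSheafData)
variable (hb : Lef.HomToFormalBijective J (Coh.structureModule W))

theorem compl_basicOpen (s : Γ(W, ⊤)) (hs : s * (1 - s) = 0) :
    ((W.basicOpen s : W.Opens) : Set W)ᶜ = ((W.basicOpen (1 - s) : W.Opens) : Set W) := by
  ext x
  simp only [Set.mem_compl_iff, SetLike.mem_coe]
  rw [Scheme.mem_basicOpen_top, Scheme.mem_basicOpen_top, map_sub, map_one]
  constructor
  · intro h
    exact IsLocalRing.isUnit_one_sub_self_of_mem_nonunits _ h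
  · intro h1 h2
    have h3 : IsUnit (W.presheaf.Γgerm x (s * (1 - s))) := by
      rw [map_mul, map_sub, map_one]
      exact h2.mul h1
    rw [hs, map_zero] at h3
    exact not_isUnit_zero h3

include hb in
theorem isPreconnected_support [PreconnectedSpace W] :
    _root_.IsPreconnected (J.support : Set W) := by
  rw [isPreconnected_closed_iff]
  rintro Z₁ Z₂ hZ₁ hZ₂ hsub ⟨y₁, hy₁Y, hy₁⟩ ⟨y₂, hy₂Y, hy₂⟩
  by_contra hemp
  rw [Set.not_nonempty_iff_eq_empty] at hemp
  let A : W.Opens := ⟨Z₂ᶜ, hZ₂.isOpen_compl⟩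
  let B : W.Opens := ⟨Z₁ᶜ, hZ₁.isOpen_compl⟩
  have hrange : ∀ (n : ℕ) (z : (J ^ (n + 1)).subscheme),
      (J ^ (n + 1)).subschemeι z ∈ (J.support : Set W) := by
    intro n z
    rw [← range_ι J n]
    exact ⟨z, rfl⟩
  have hdisjn : ∀ n : ℕ,
      (J ^ (n + 1)).subschemeι ⁻¹ᵁ A ⊓ (J ^ (n + 1)).subschemeι ⁻¹ᵁ B = ⊥ := by
    intro n
    ext z
    simp only [Opens.coe_inf, Opens.coe_bot, Set.mem_inter_iff, Set.mem_empty_iff_false, iff_false]
    rintro ⟨h1, h2⟩
    rcases hsub (hrange n z) with h | h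
    · exact h2 h
    · exact h1 h
  have hcovn : ∀ n : ℕ, (J ^ (n + 1)).subschemeι ⁻¹ᵁ ⊤ ≤
      (J ^ (n + 1)).subschemeι ⁻¹ᵁ A ⊔ (J ^ (n + 1)).subschemeι ⁻¹ᵁ B := by
    intro n z _
    by_cases hz : (J ^ (n + 1)).subschemeι z ∈ Z₂
    · refine Or.inr ?_
      intro hz1
      have : (J ^ (n + 1)).subschemeι z ∈ (J.support : Set W) ∩ (Z₁ ∩ Z₂) :=
        ⟨hrange n z, hz1, hz⟩
      rw [hemp] at this
      exact this
    · exact Or.inl hz
  have hex : ∀ n : ℕ, ∃ e : Γ((J ^ (n + 1)).subscheme, (J ^ (n + 1)).subschemeι ⁻¹ᵁ ⊤),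
      IsInd ((J ^ (n + 1)).subschemeι ⁻¹ᵁ ⊤) ((J ^ (n + 1)).subschemeι ⁻¹ᵁ A)
        ((J ^ (n + 1)).subschemeι ⁻¹ᵁ B) ((J ^ (n + 1)).subschemeι.preimage_mono le_top)
        ((J ^ (n + 1)).subschemeι.preimage_mono le_top) e :=
    fun n => exists_isInd _ _ _ _ _ (hcovn n) (hdisjn n)
  choose e he using hex
  have hcompat : ∀ n : ℕ, (Lef.quotMap (Lef.pow_succ_le J n)).app ⊤
      (ofFn (e (n + 1)) : Γ(Coh.structureModule (J ^ (n + 1 + 1)).subscheme,
        (J ^ (n + 1 + 1)).subschemeι ⁻¹ᵁ ⊤)) =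
      (ofFn (e n) : Γ(Coh.structureModule (J ^ (n + 1)).subscheme,
        (J ^ (n + 1)).subschemeι ⁻¹ᵁ ⊤)) := by
    intro n
    rw [quotMap_app]
    have hincl : ∀ z : (J ^ (n + 1)).subscheme,
        (J ^ (n + 1 + 1)).subschemeι
          ((Scheme.IdealSheafData.inclusion (Lef.pow_succ_le J n)) z) =
          (J ^ (n + 1)).subschemeι z := by
      intro z
      rw [← Scheme.Hom.comp_apply, Scheme.IdealSheafData.inclusion_subschemeι]
    have h1 := (he (n + 1)).pullback (Scheme.IdealSheafData.inclusion (Lef.pow_succ_le J n))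
    have h2 := h1.restrict (T' := (J ^ (n + 1)).subschemeι ⁻¹ᵁ ⊤)
      (A' := (J ^ (n + 1)).subschemeι ⁻¹ᵁ A) (B' := (J ^ (n + 1)).subschemeι ⁻¹ᵁ B)
      (show (J ^ (n + 1)).subschemeι ⁻¹ᵁ ⊤ ≤
          (Scheme.IdealSheafData.inclusion (Lef.pow_succ_le J n)) ⁻¹ᵁ
            ((J ^ (n + 1 + 1)).subschemeι ⁻¹ᵁ ⊤) from fun z _ => trivial)
      (fun z hz => by
        change (J ^ (n + 1 + 1)).subschemeι _ ∈ A
        rw [hincl z]
        exact hz)
      (fun z hz => by
        change (J ^ (n + 1 + 1)).subschemeι _ ∈ B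
        rw [hincl z]
        exact hz)
      ((J ^ (n + 1)).subschemeι.preimage_mono le_top)
      ((J ^ (n + 1)).subschemeι.preimage_mono le_top)
    exact h2.unique (hcovn n) (he n)
  obtain ⟨s, hs⟩ := lef_surj J hb e hcompat
  have hidem : s * (1 - s) = 0 := by
    apply lef_inj J hb
    intro n
    rw [map_mul, map_sub, map_one, hs n, map_zero]
    exact (he n).mul_one_sub (hcovn n)
  have hclopen : IsClopen ((W.basicOpen s : W.Opens) : Set W) := by
    refine ⟨?_, (W.basicOpen s).isOpen⟩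
    rw [← isOpen_compl_iff, compl_basicOpen s hidem]
    exact (W.basicOpen (1 - s)).isOpen
  -- the preimage of the basic open
  have hpre : (J ^ (0 + 1)).subschemeι ⁻¹ᵁ W.basicOpen s =
      (J ^ (0 + 1)).subscheme.basicOpen (e 0) := by
    rw [Scheme.preimage_basicOpen, hs 0]
  obtain ⟨z₁, hz₁⟩ : ∃ z : (J ^ (0 + 1)).subscheme, (J ^ (0 + 1)).subschemeι z = y₁ := by
    have : y₁ ∈ Set.range (J ^ (0 + 1)).subschemeι := by rw [range_ι J 0]; exact hy₁Y
    exact this
  obtain ⟨z₂, hz₂⟩ : ∃ z : (J ^ (0 + 1)).subscheme, (J ^ (0 + 1)).subschemeι z = y₂ := by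
    have : y₂ ∈ Set.range (J ^ (0 + 1)).subschemeι := by rw [range_ι J 0]; exact hy₂Y
    exact this
  have hy₁s : y₁ ∈ W.basicOpen s := by
    have hz₁A : z₁ ∈ (J ^ (0 + 1)).subschemeι ⁻¹ᵁ A := by
      change (J ^ (0 + 1)).subschemeι z₁ ∈ Z₂ᶜ
      rw [hz₁]
      intro h
      have : y₁ ∈ (J.support : Set W) ∩ (Z₁ ∩ Z₂) := ⟨hy₁Y, hy₁, h⟩
      rw [hemp] at this
      exact this
    have h1 := (J ^ (0 + 1)).subscheme.basicOpen_res (e 0)
      (homOfLE ((J ^ (0 + 1)).subschemeι.preimage_mono (le_top : A ≤ ⊤))).op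
    have h2 : (J ^ (0 + 1)).subscheme.presheaf.map
        (homOfLE ((J ^ (0 + 1)).subschemeι.preimage_mono (le_top : A ≤ ⊤))).op (e 0) = 1 :=
      (he 0).1
    rw [h2, Scheme.basicOpen_of_isUnit _ isUnit_one] at h1
    have h3 : z₁ ∈ (J ^ (0 + 1)).subscheme.basicOpen (e 0) := by
      have : z₁ ∈ (J ^ (0 + 1)).subschemeι ⁻¹ᵁ A ⊓ (J ^ (0 + 1)).subscheme.basicOpen (e 0) := by
        rw [← h1]
        exact hz₁A
      exact this.2
    rw [← hpre] at h3
    rw [← hz₁]
    exact h3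
  have hy₂s : y₂ ∉ W.basicOpen s := by
    intro hy
    have hz₂B : z₂ ∈ (J ^ (0 + 1)).subschemeι ⁻¹ᵁ B := by
      change (J ^ (0 + 1)).subschemeι z₂ ∈ Z₁ᶜ
      rw [hz₂]
      intro h
      have : y₂ ∈ (J.support : Set W) ∩ (Z₁ ∩ Z₂) := ⟨hy₂Y, h, hy₂⟩
      rw [hemp] at this
      exact this
    have h1 := (J ^ (0 + 1)).subscheme.basicOpen_res (e 0)
      (homOfLE ((J ^ (0 + 1)).subschemeι.preimage_mono (le_top : B ≤ ⊤))).op
    have h2 : (J ^ (0 + 1)).subscheme.presheaf.map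
        (homOfLE ((J ^ (0 + 1)).subschemeι.preimage_mono (le_top : B ≤ ⊤))).op (e 0) = 0 :=
      (he 0).2
    rw [h2, Scheme.basicOpen_zero] at h1
    have h3 : z₂ ∈ (J ^ (0 + 1)).subscheme.basicOpen (e 0) := by
      rw [← hpre]
      change (J ^ (0 + 1)).subschemeι z₂ ∈ W.basicOpen s
      rw [hz₂]
      exact hy
    have : z₂ ∈ (⊥ : (J ^ (0 + 1)).subscheme.Opens) := by
      rw [h1]
      exact ⟨hz₂B, h3⟩
    exact this
  rcases isClopen_iff.mp hclopen with h0 | h1
  · have : y₁ ∈ ((W.basicOpen s : W.Opens) : Set W) := hy₁s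
    rw [h0] at this
    exact this
  · apply hy₂s
    have : y₂ ∈ ((W.basicOpen s : W.Opens) : Set W) := by rw [h1]; trivial
    exact this

/-- **S2946** -/
theorem main (X : Scheme.{u}) [IsLocallyNoetherian X] (𝓘 : X.IdealSheafData)
    (h : Lef.LefCond X 𝓘) (U : X.Opens) (hU : (𝓘.support : Set X) ⊆ (U : Set X)) :
    ConnectedSpace (𝓘.support : Set X) ↔ ConnectedSpace U := by
  have hb := h U hU (Coh.structureModule (U : Scheme.{u}))
    Groth.Agent.Helper4.FinLocFree6.isFinLocFree_unit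
  set J := 𝓘.comap U.ι with hJ
  have hsupp : (J.support : Set (U : Scheme.{u})) = U.ι ⁻¹' (𝓘.support : Set X) := by
    rw [hJ, Scheme.IdealSheafData.support_comap]
    rfl
  have himg : U.ι '' (J.support : Set (U : Scheme.{u})) = (𝓘.support : Set X) := by
    rw [hsupp, Set.image_preimage_eq_inter_range, Scheme.Opens.range_ι]
    exact Set.inter_eq_left.mpr hU
  have hpre : _root_.IsPreconnected (J.support : Set (U : Scheme.{u})) ↔
      _root_.IsPreconnected (𝓘.support : Set X) := by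
    rw [← himg]
    exact (U.ι.isOpenEmbedding.isInducing.isPreconnected_image).symm
  have hne : (J.support : Set (U : Scheme.{u})).Nonempty ↔ (𝓘.support : Set X).Nonempty := by
    rw [← himg, Set.image_nonempty]
  constructor
  · intro hY
    have hYc : _root_.IsConnected (𝓘.support : Set X) := isConnected_iff_connectedSpace.mpr hY
    haveI : PreconnectedSpace (U : Scheme.{u}) :=
      preconnectedSpace_of_support J hb (hpre.mpr hYc.2)
    obtain ⟨y, -⟩ := hne.mpr hYc.1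
    exact (show ConnectedSpace (U : Scheme.{u}) from
      { toPreconnectedSpace := ‹_›, toNonempty := ⟨y⟩ })
  · intro hUc
    haveI : ConnectedSpace (U : Scheme.{u}) := hUc
    exact isConnected_iff_connectedSpace.mp
      ⟨hne.mp (nonempty_support_of_nonempty J hb), hpre.mp (isPreconnected_support J hb)⟩

end Groth.Agent.Lead.LefConn
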