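import Mathlib

set_option autoImplicit false
open CategoryTheory CategoryTheory.Limits AlgebraicGeometry TopologicalSpace
universe u

namespace Groth.Agent.Lead.LfpNhd

/-- The prime ideal of sections over `U` vanishing at `y`. -/
noncomputable def vanIdeal (Y : Scheme.{u}) (U : Y.Opens) (y : Y) (hy : y ∈ U) : Ideal Γ(Y, U) :=
  (IsLocalRing.maximalIdeal (Y.presheaf.stalk y)).comap (Y.presheaf.germ U y hy).hom

lemma mem_vanIdeal_iff {Y : Scheme.{u}} {U : Y.Opens} {y : Y} {hy : y ∈ U} (s : Γ(Y, U)) :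
    s ∈ vanIdeal Y U y hy ↔ y ∉ Y.basicOpen s := by
  rw [vanIdeal, Ideal.mem_comap, IsLocalRing.mem_maximalIdeal, mem_nonunits_iff,
    Scheme.mem_basicOpen Y s y hy]

instance {Y : Scheme.{u}} {U : Y.Opens} {y : Y} {hy : y ∈ U} : (vanIdeal Y U y hy).IsPrime := by
  unfold vanIdeal
  infer_instance

lemma appLE_mem_vanIdeal_iff {Y Y' : Scheme.{u}} (h : Y ⟶ Y') (U' : Y'.Opens) (U : Y.Opens)
    (e : U ≤ h ⁻¹ᵁ U') (y : Y) (hy : y ∈ U) (s' : Γ(Y', U')) :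
    h.appLE U' U e s' ∈ vanIdeal Y U y hy ↔ s' ∈ vanIdeal Y' U' (h y) (e hy) := by
  rw [mem_vanIdeal_iff, mem_vanIdeal_iff, Scheme.basicOpen_appLE]
  constructor
  · intro h1 h2
    exact h1 ⟨hy, h2⟩
  · intro h1 h2
    exact h1 h2.2

/-- A point of an affine scheme is determined by its vanishing ideal. -/
lemma eq_of_vanIdeal_eq {Y : Scheme.{u}} [IsAffine Y] (y y' : Y)
    (h : vanIdeal Y ⊤ y trivial = vanIdeal Y ⊤ y' trivial) : y = y' := by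
  have hinj : Function.Injective Y.toSpecΓ := by
    have : IsIso Y.toSpecΓ := inferInstance
    exact (Scheme.Hom.homeomorph Y.toSpecΓ).injective
  apply hinj
  apply PrimeSpectrum.ext
  ext r
  have key : ∀ z : Y, r ∈ (Y.toSpecΓ z).asIdeal ↔ r ∈ vanIdeal Y ⊤ z trivial := by
    intro z
    rw [mem_vanIdeal_iff, ← Scheme.toSpecΓ_preimage_basicOpen]
    change _ ↔ ¬ (Y.toSpecΓ z ∈ PrimeSpectrum.basicOpen r)
    exact (not_not).symm
  rw [key, key, h]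

lemma fromSpec_mem_basicOpen_iff {P : Scheme.{u}} {Pi : P.Opens} (hPi : IsAffineOpen Pi)
    (𝔭 : PrimeSpectrum Γ(P, Pi)) (s : Γ(P, Pi)) :
    hPi.fromSpec 𝔭 ∈ P.basicOpen s ↔ s ∉ 𝔭.asIdeal := by
  have := hPi.fromSpec_preimage_basicOpen s
  have h2 : (hPi.fromSpec 𝔭 ∈ P.basicOpen s) ↔ 𝔭 ∈ (hPi.fromSpec ⁻¹ᵁ P.basicOpen s) := Iff.rfl
  rw [h2, this]
  rfl

/-- Lemma A: the algebraic relation witnessing that a closed set misses a fibre. -/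
lemma exists_section_relation {P Y : Scheme.{u}} [IsAffine Y] (p2 : P ⟶ Y) (Pi : P.Opens)
    (hPi : IsAffineOpen Pi) (t : Y) (Zc : Set P) (hZc : IsClosed Zc) (hZt : ∀ z ∈ Zc, p2 z ≠ t) :
    ∃ (g : Γ(Y, ⊤)) (x : Γ(P, Pi)), g ∉ vanIdeal Y ⊤ t trivial ∧
      (∀ z ∈ Zc, z ∉ P.basicOpen x) ∧
      p2.appLE ⊤ Pi le_top g - x ∈
        Ideal.map (p2.appLE ⊤ Pi le_top).hom (vanIdeal Y ⊤ t trivial) := by
  set σ : Γ(Y, ⊤) →+* Γ(P, Pi) := (p2.appLE ⊤ Pi le_top).hom with hσ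
  set q := vanIdeal Y ⊤ t trivial with hq
  let J : Ideal Γ(P, Pi) := ⨅ z : {z : P // z ∈ Zc ∧ z ∈ Pi}, vanIdeal P Pi z.1 z.2.2
  have memJ : ∀ x : Γ(P, Pi), x ∈ J ↔ ∀ z ∈ Zc, z ∉ P.basicOpen x := by
    intro x
    simp only [J, Ideal.mem_iInf, mem_vanIdeal_iff]
    constructor
    · intro h z hz hzx
      exact h ⟨z, hz, P.basicOpen_le x hzx⟩ hzx
    · intro h z
      exact h z.1 z.2.1
  let K : Ideal Γ(P, Pi) := J ⊔ Ideal.map σ q
  let M : Submonoid Γ(P, Pi) := q.primeCompl.map σ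
  by_contra hcon
  push_neg at hcon
  have hdisj : Disjoint (K : Set Γ(P, Pi)) (M : Set Γ(P, Pi)) := by
    rw [Set.disjoint_left]
    intro r hrK hrM
    obtain ⟨g, hg, rfl⟩ := hrM
    obtain ⟨x, hx, y, hy, hxy⟩ := Submodule.mem_sup.mp hrK
    refine hcon g x hg ((memJ x).mp hx) ?_
    have : σ g - x = y := by rw [← hxy]; ring
    change σ g - x ∈ _
    rw [this]; exact hy
  obtain ⟨𝔭, h𝔭, hK𝔭, h𝔭M⟩ := Ideal.exists_le_prime_disjoint K M hdisj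
  let zs : P := hPi.fromSpec ⟨𝔭, h𝔭⟩
  have hzsPi : zs ∈ Pi := by
    have : zs ∈ Set.range hPi.fromSpec := ⟨_, rfl⟩
    rw [hPi.range_fromSpec] at this
    exact this
  have hbo : ∀ s : Γ(P, Pi), zs ∈ P.basicOpen s ↔ s ∉ 𝔭 :=
    fun s => fromSpec_mem_basicOpen_iff hPi ⟨𝔭, h𝔭⟩ s
  have hzsZ : zs ∈ Zc := by
    by_contra hnot
    let Vo : P.Opens := ⟨Zcᶜ, hZc.isOpen_compl⟩
    obtain ⟨s, hs1, hs2⟩ := hPi.exists_basicOpen_le (V := Vo) ⟨zs, hnot⟩ hzsPi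
    have hsJ : s ∈ J := by
      rw [memJ]
      intro z hz hzs
      exact hs1 hzs hz
    have : s ∈ 𝔭 := hK𝔭 (Ideal.mem_sup_left hsJ)
    exact (hbo s).mp hs2 this
  refine hZt zs hzsZ (eq_of_vanIdeal_eq _ _ ?_)
  ext b
  have h1 : b ∈ vanIdeal Y ⊤ (p2 zs) trivial ↔ σ b ∈ 𝔭 := by
    rw [← appLE_mem_vanIdeal_iff p2 ⊤ Pi le_top zs hzsPi b, mem_vanIdeal_iff, hbo, not_not]
  rw [h1]
  constructor
  · intro h
    by_contra hbq
    exact Set.disjoint_left.mp h𝔭M h ⟨b, hbq, rfl⟩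
  · intro h
    exact hK𝔭 (Ideal.mem_sup_right (Ideal.mem_map_of_mem σ h))

/-- In a pushout square of commutative rings, the two legs generate the pushout. -/
lemma closure_eq_top_of_isPushout {A B C R : CommRingCat.{u}} {a : A ⟶ B} {b : A ⟶ C}
    {ρ : B ⟶ R} {σ : C ⟶ R} (H : IsPushout a b ρ σ) :
    Subring.closure (Set.range ρ.hom ∪ Set.range σ.hom) = ⊤ := by
  set R0 := Subring.closure (Set.range ρ.hom ∪ Set.range σ.hom) with hR0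
  let ρ0 : B ⟶ CommRingCat.of R0 := CommRingCat.ofHom
    (ρ.hom.codRestrict R0 (fun x => Subring.subset_closure (Or.inl ⟨x, rfl⟩)))
  let σ0 : C ⟶ CommRingCat.of R0 := CommRingCat.ofHom
    (σ.hom.codRestrict R0 (fun x => Subring.subset_closure (Or.inr ⟨x, rfl⟩)))
  let incl : CommRingCat.of R0 ⟶ R := CommRingCat.ofHom R0.subtype
  have hρ : ρ0 ≫ incl = ρ := by ext x; rfl
  have hσ : σ0 ≫ incl = σ := by ext x; rfl
  have w : a ≫ ρ0 = b ≫ σ0 := by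
    ext x
    exact congr($(H.w) x)
  let v : R ⟶ CommRingCat.of R0 := H.desc ρ0 σ0 w
  have hv : v ≫ incl = 𝟙 R := by
    apply H.hom_ext
    · rw [← Category.assoc, H.inl_desc, hρ, Category.comp_id]
    · rw [← Category.assoc, H.inr_desc, hσ, Category.comp_id]
  rw [eq_top_iff]
  intro x _
  have : incl (v x) = x := by
    have := congr($(hv) x)
    simpa using this
  rw [← this]
  exact (v x).2

lemma resLE_appTop_topIso {X Y : Scheme.{u}} (f : X ⟶ Y) (U : Y.Opens) (V : X.Opens)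
    (e : V ≤ f ⁻¹ᵁ U) :
    (f.resLE U V e).appTop ≫ V.topIso.hom = U.topIso.hom ≫ f.appLE U V e := by
  have := (arrowResLEAppIso f U V e).hom.w
  exact this.symm

/-- Lemma B: the affine open `p1⁻¹ U` of a fibre product over an affine `Y` is affine, and its ring of
sections is generated by the sections of `U` and of `Y`. -/
lemma generation {P X Y S : Scheme.{u}} {p1 : P ⟶ X} {p2 : P ⟶ Y} {f : X ⟶ S} {h : Y ⟶ S}
    (H : IsPullback p1 p2 f h) [IsAffine Y] (U : X.Opens) (hU : IsAffineOpen U) (W : S.Opens)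
    (hW : IsAffineOpen W) (hUW : U ≤ f ⁻¹ᵁ W) (hYW : (⊤ : Y.Opens) ≤ h ⁻¹ᵁ W) :
    IsAffineOpen (p1 ⁻¹ᵁ U) ∧
    Subring.closure (Set.range (p1.appLE U (p1 ⁻¹ᵁ U) le_rfl).hom ∪
      Set.range (p2.appLE ⊤ (p1 ⁻¹ᵁ U) le_top).hom) = ⊤ := by
  have HP := Scheme.Hom.isPullback_resLE H (US := W) (UT := ⊤) (UX := U) hYW hUW
    (UY := p1 ⁻¹ᵁ U) (by simp)
  haveI : IsAffine ↑U := hU
  haveI : IsAffine ↑W := hW
  haveI : IsAffine ↑(⊤ : Y.Opens) := isAffineOpen_top Y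
  have hPi : IsAffine ↑(p1 ⁻¹ᵁ U) := IsAffine.of_isPullback HP
  refine ⟨hPi, ?_⟩
  have HPO := isPushout_appTop_of_isPullback HP
  have hgen := closure_eq_top_of_isPushout HPO
  refine (Subring.eq_top_iff' _).mpr (fun x => ?_)
  have hx : (p1 ⁻¹ᵁ U).topIso.inv.hom x ∈ Subring.closure _ := hgen ▸ Subring.mem_top _
  have hx2 : (p1 ⁻¹ᵁ U).topIso.hom.hom ((p1 ⁻¹ᵁ U).topIso.inv.hom x) ∈
      (Subring.closure _).map (p1 ⁻¹ᵁ U).topIso.hom.hom := Subring.mem_map.mpr ⟨_, hx, rfl⟩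
  have hxx : (p1 ⁻¹ᵁ U).topIso.hom.hom ((p1 ⁻¹ᵁ U).topIso.inv.hom x) = x := by
    have := congr($((p1 ⁻¹ᵁ U).topIso.inv_hom_id) x)
    simpa using this
  rw [hxx, RingHom.map_closure] at hx2
  have hsub : ((p1 ⁻¹ᵁ U).topIso.hom.hom '' (Set.range (p1.resLE U (p1 ⁻¹ᵁ U) le_rfl).appTop.hom ∪
      Set.range (p2.resLE ⊤ (p1 ⁻¹ᵁ U) le_top).appTop.hom)) ⊆
      (Set.range (p1.appLE U (p1 ⁻¹ᵁ U) le_rfl).hom ∪ Set.range (p2.appLE ⊤ (p1 ⁻¹ᵁ U) le_top).hom) := by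
    rintro _ ⟨y, (⟨z, rfl⟩ | ⟨z, rfl⟩), rfl⟩
    · left
      refine ⟨U.topIso.hom.hom z, ?_⟩
      have := congr($(resLE_appTop_topIso p1 U (p1 ⁻¹ᵁ U) le_rfl) z)
      simpa using this.symm
    · right
      refine ⟨(⊤ : Y.Opens).topIso.hom.hom z, ?_⟩
      have := congr($(resLE_appTop_topIso p2 ⊤ (p1 ⁻¹ᵁ U) le_top) z)
      simpa using this.symm
  exact Subring.closure_mono hsub hx2

section Algebra

variable {C B R : Type u} [CommRing C] [CommRing B] [CommRing R] (ρ : C →+* R) (σ : B →+* R)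

/-- "Primed" data lifting `(ρ, σ)`. -/
structure LiftData where
  B' : Type u
  R' : Type u
  [instB : CommRing B']
  [instR : CommRing R']
  ρ' : C →+* R'
  σ' : B' →+* R'
  μ : R' →+* R
  ψ : B' →+* B
  hρ : μ.comp ρ' = ρ
  hσ : μ.comp σ' = σ.comp ψ

attribute [instance] LiftData.instB LiftData.instR

variable {ρ σ}

lemma exists_finset_lift_elem (hgen : Subring.closure (Set.range ρ ∪ Set.range σ) = ⊤) (r : R) :
    ∃ F : Finset B, ∀ L : LiftData ρ σ, (↑F : Set B) ⊆ Set.range L.ψ → ∃ r' : L.R', L.μ r' = r := by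
  classical
  have hr : r ∈ Subring.closure (Set.range ρ ∪ Set.range σ) := hgen ▸ Subring.mem_top r
  induction hr using Subring.closure_induction with
  | mem x hx =>
    rcases hx with ⟨c, rfl⟩ | ⟨b, rfl⟩
    · exact ⟨∅, fun L _ => ⟨L.ρ' c, by rw [← RingHom.comp_apply, L.hρ]⟩⟩
    · refine ⟨{b}, fun L hL => ?_⟩
      obtain ⟨b', hb'⟩ := hL (by simp : b ∈ ((({b} : Finset B)) : Set B))
      exact ⟨L.σ' b', by rw [← RingHom.comp_apply, L.hσ, RingHom.comp_apply, hb']⟩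
  | zero => exact ⟨∅, fun L _ => ⟨0, map_zero _⟩⟩
  | one => exact ⟨∅, fun L _ => ⟨1, map_one _⟩⟩
  | add x y _ _ hx hy =>
    obtain ⟨F1, h1⟩ := hx
    obtain ⟨F2, h2⟩ := hy
    refine ⟨F1 ∪ F2, fun L hL => ?_⟩
    obtain ⟨x', hx'⟩ := h1 L (fun b hb => hL (by simp [Finset.mem_coe.mp hb]))
    obtain ⟨y', hy'⟩ := h2 L (fun b hb => hL (by simp [Finset.mem_coe.mp hb]))
    exact ⟨x' + y', by rw [map_add, hx', hy']⟩
  | neg x _ hx =>
    obtain ⟨F1, h1⟩ := hx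
    refine ⟨F1, fun L hL => ?_⟩
    obtain ⟨x', hx'⟩ := h1 L hL
    exact ⟨-x', by rw [map_neg, hx']⟩
  | mul x y _ _ hx hy =>
    obtain ⟨F1, h1⟩ := hx
    obtain ⟨F2, h2⟩ := hy
    refine ⟨F1 ∪ F2, fun L hL => ?_⟩
    obtain ⟨x', hx'⟩ := h1 L (fun b hb => hL (by simp [Finset.mem_coe.mp hb]))
    obtain ⟨y', hy'⟩ := h2 L (fun b hb => hL (by simp [Finset.mem_coe.mp hb]))
    exact ⟨x' * y', by rw [map_mul, hx', hy']⟩

lemma exists_finset_lift_mem_map (hgen : Subring.closure (Set.range ρ ∪ Set.range σ) = ⊤)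
    (q : Ideal B) (y : R) (hy : y ∈ Ideal.map σ q) :
    ∃ F : Finset B, ∀ L : LiftData ρ σ, (↑F : Set B) ⊆ Set.range L.ψ →
      ∃ y' : L.R', y' ∈ Ideal.map L.σ' (q.comap L.ψ) ∧ L.μ y' = y := by
  classical
  unfold Ideal.map at hy
  induction hy using Submodule.span_induction with
  | mem x hx =>
    obtain ⟨b, hb, rfl⟩ := hx
    refine ⟨{b}, fun L hL => ?_⟩
    obtain ⟨b', hb'⟩ := hL (by simp : b ∈ ((({b} : Finset B)) : Set B))
    refine ⟨L.σ' b', Ideal.mem_map_of_mem _ ?_, ?_⟩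
    · rw [Ideal.mem_comap, hb']; exact hb
    · rw [← RingHom.comp_apply, L.hσ, RingHom.comp_apply, hb']
  | zero => exact ⟨∅, fun L _ => ⟨0, Ideal.zero_mem _, map_zero _⟩⟩
  | add x y _ _ hx hy =>
    obtain ⟨F1, h1⟩ := hx
    obtain ⟨F2, h2⟩ := hy
    refine ⟨F1 ∪ F2, fun L hL => ?_⟩
    obtain ⟨x', hx'1, hx'⟩ := h1 L (fun b hb => hL (by simp [Finset.mem_coe.mp hb]))
    obtain ⟨y', hy'1, hy'⟩ := h2 L (fun b hb => hL (by simp [Finset.mem_coe.mp hb]))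
    exact ⟨x' + y', Ideal.add_mem _ hx'1 hy'1, by rw [map_add, hx', hy']⟩
  | smul r x _ hx =>
    obtain ⟨F1, h1⟩ := hx
    obtain ⟨F2, h2⟩ := exists_finset_lift_elem hgen r
    refine ⟨F1 ∪ F2, fun L hL => ?_⟩
    obtain ⟨x', hx'1, hx'⟩ := h1 L (fun b hb => hL (by simp [Finset.mem_coe.mp hb]))
    obtain ⟨r', hr'⟩ := h2 L (fun b hb => hL (by simp [Finset.mem_coe.mp hb]))
    exact ⟨r' * x', Ideal.mul_mem_left _ _ hx'1, by rw [map_mul, hx', hr', smul_eq_mul]⟩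

/-- Lemma E: lifting the relation `σ g - x ∈ q R` to primed data. -/
lemma exists_finset_lift_relation (hgen : Subring.closure (Set.range ρ ∪ Set.range σ) = ⊤)
    (q : Ideal B) (g : B) (x : R) (hy : σ g - x ∈ Ideal.map σ q) :
    ∃ F : Finset B, ∀ L : LiftData ρ σ, (↑F : Set B) ⊆ Set.range L.ψ →
      ∃ (g' : L.B') (x' : L.R'), L.ψ g' = g ∧ L.μ x' = x ∧
        L.σ' g' - x' ∈ Ideal.map L.σ' (q.comap L.ψ) := by
  classical
  obtain ⟨F1, h1⟩ := exists_finset_lift_mem_map hgen q _ hy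
  refine ⟨insert g F1, fun L hL => ?_⟩
  obtain ⟨g', hg'⟩ := hL (by simp : g ∈ ((insert g F1 : Finset B) : Set B))
  obtain ⟨y', hy'1, hy'⟩ := h1 L (fun b hb => hL (by simp [Finset.mem_coe.mp hb]))
  refine ⟨g', L.σ' g' - y', hg', ?_, ?_⟩
  · rw [map_sub, hy', ← RingHom.comp_apply, L.hσ, RingHom.comp_apply, hg']; ring
  · rw [sub_sub_cancel]; exact hy'1

end Algebra

lemma vanIdeal_congr {Y : Scheme.{u}} {U : Y.Opens} {y y' : Y} (h : y = y') (hy : y ∈ U)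
    (hy' : y' ∈ U) : vanIdeal Y U y hy = vanIdeal Y U y' hy' := by
  subst h; rfl

lemma appTop_mem_vanIdeal_iff {Y Y' : Scheme.{u}} (a : Y ⟶ Y') (y : Y) (s : Γ(Y', ⊤)) :
    a.appTop s ∈ vanIdeal Y ⊤ y trivial ↔ s ∈ vanIdeal Y' ⊤ (a y) trivial := by
  rw [mem_vanIdeal_iff, mem_vanIdeal_iff, ← Scheme.preimage_basicOpen_top]
  rfl

lemma appLE_eq_of_eq {X Y : Scheme.{u}} {f g : X ⟶ Y} (h : f = g) (U : Y.Opens) (V : X.Opens)
    (e : V ≤ f ⁻¹ᵁ U) : f.appLE U V e = g.appLE U V (h ▸ e) := by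
  subst h; rfl

/-- Lemma M: the main topological step. -/
lemma avoid_fibre {P P' X Y T' : Scheme.{u}} (p1 : P ⟶ X) (p2 : P ⟶ Y) (p1' : P' ⟶ X)
    (p2' : P' ⟶ T') (m : P ⟶ P') (a : Y ⟶ T') (hm1 : m ≫ p1' = p1) (U : X.Opens) (t : Y)
    (Zc : Set P) (g' : Γ(T', ⊤)) (x' : Γ(P', p1' ⁻¹ᵁ U))
    (hg : a.appTop g' ∉ vanIdeal Y ⊤ t trivial)
    (hvan : ∀ z ∈ Zc, z ∉ P.basicOpen (m.appLE (p1' ⁻¹ᵁ U) (p1 ⁻¹ᵁ U)
      (by rw [← Scheme.Hom.comp_preimage, hm1]) x'))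
    (hrel : p2'.appLE ⊤ (p1' ⁻¹ᵁ U) le_top g' - x' ∈
      Ideal.map (p2'.appLE ⊤ (p1' ⁻¹ᵁ U) le_top).hom ((vanIdeal Y ⊤ t trivial).comap a.appTop.hom)) :
    ∀ z' ∈ closure (m '' Zc), p1' z' ∈ U → p2' z' ≠ a t := by
  intro z' hz' hz'U heq
  have hz'Pi : z' ∈ p1' ⁻¹ᵁ U := hz'U
  have hcomap : (vanIdeal Y ⊤ t trivial).comap a.appTop.hom = vanIdeal T' ⊤ (a t) trivial := by
    ext s
    rw [Ideal.mem_comap]
    exact appTop_mem_vanIdeal_iff a t s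
  rw [hcomap] at hrel
  have hmap_le : Ideal.map (p2'.appLE ⊤ (p1' ⁻¹ᵁ U) le_top).hom (vanIdeal T' ⊤ (a t) trivial) ≤
      vanIdeal P' (p1' ⁻¹ᵁ U) z' hz'Pi := by
    rw [Ideal.map_le_iff_le_comap]
    intro s hs
    rw [Ideal.mem_comap]
    refine (appLE_mem_vanIdeal_iff p2' ⊤ (p1' ⁻¹ᵁ U) le_top z' hz'Pi s).mpr ?_
    rw [vanIdeal_congr (U := ⊤) heq _ trivial]
    exact hs
  have hg'z : p2'.appLE ⊤ (p1' ⁻¹ᵁ U) le_top g' ∉ vanIdeal P' (p1' ⁻¹ᵁ U) z' hz'Pi := by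
    intro hcon
    have h1 := (appLE_mem_vanIdeal_iff p2' ⊤ (p1' ⁻¹ᵁ U) le_top z' hz'Pi g').mp hcon
    rw [vanIdeal_congr (U := ⊤) heq _ trivial, ← appTop_mem_vanIdeal_iff] at h1
    exact hg h1
  have hx'z : x' ∉ vanIdeal P' (p1' ⁻¹ᵁ U) z' hz'Pi := by
    intro hx'
    apply hg'z
    have := Ideal.add_mem _ (hmap_le hrel) hx'
    simpa using this
  have hz'bo : z' ∈ P'.basicOpen x' := by
    rw [mem_vanIdeal_iff, not_not] at hx'z
    exact hx'z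
  obtain ⟨_, hzO, ⟨z, hzZ, rfl⟩⟩ :=
    mem_closure_iff.mp hz' (P'.basicOpen x') (P'.basicOpen x').isOpen hz'bo
  refine hvan z hzZ ?_
  rw [Scheme.basicOpen_appLE]
  refine ⟨?_, hzO⟩
  have h1 : m z ∈ p1' ⁻¹ᵁ U := P'.basicOpen_le x' hzO
  change p1 z ∈ U
  rw [← hm1]
  exact h1

/-- Per-index statement: a finite set of sections of `Y` controls the avoidance of the fibre on the
part of the fibre product lying over the affine open `U`. -/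
lemma exists_finset_avoid {P X Y S : Scheme.{u}} {p1 : P ⟶ X} {p2 : P ⟶ Y} {f : X ⟶ S} {h : Y ⟶ S}
    (H : IsPullback p1 p2 f h) [IsAffine Y] (U : X.Opens) (hU : IsAffineOpen U) (W : S.Opens)
    (hW : IsAffineOpen W) (hUW : U ≤ f ⁻¹ᵁ W) (hYW : (⊤ : Y.Opens) ≤ h ⁻¹ᵁ W)
    (t : Y) (Zc : Set P) (hZc : IsClosed Zc) (hZt : ∀ z ∈ Zc, p2 z ≠ t) :
    ∃ F : Finset Γ(Y, ⊤), ∀ (T' P' : Scheme.{u}) (p1' : P' ⟶ X) (p2' : P' ⟶ T') (m : P ⟶ P')
      (a : Y ⟶ T') (_ : m ≫ p1' = p1) (_ : m ≫ p2' = p2 ≫ a),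
      (↑F : Set Γ(Y, ⊤)) ⊆ Set.range a.appTop.hom →
      ∀ z' ∈ closure (m '' Zc), p1' z' ∈ U → p2' z' ≠ a t := by
  obtain ⟨hPi, hgen⟩ := generation H U hU W hW hUW hYW
  obtain ⟨g, x, hg, hx, hrel⟩ := exists_section_relation p2 (p1 ⁻¹ᵁ U) hPi t Zc hZc hZt
  obtain ⟨F, hF⟩ := exists_finset_lift_relation hgen (vanIdeal Y ⊤ t trivial) g x hrel
  refine ⟨F, ?_⟩
  intro T' P' p1' p2' m a hm1 hm2 hFa
  have e : p1 ⁻¹ᵁ U ≤ m ⁻¹ᵁ (p1' ⁻¹ᵁ U) := by rw [← Scheme.Hom.comp_preimage, hm1]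
  let L : LiftData (p1.appLE U (p1 ⁻¹ᵁ U) le_rfl).hom (p2.appLE ⊤ (p1 ⁻¹ᵁ U) le_top).hom :=
    { B' := Γ(T', ⊤)
      R' := Γ(P', p1' ⁻¹ᵁ U)
      ρ' := (p1'.appLE U (p1' ⁻¹ᵁ U) le_rfl).hom
      σ' := (p2'.appLE ⊤ (p1' ⁻¹ᵁ U) le_top).hom
      μ := (m.appLE (p1' ⁻¹ᵁ U) (p1 ⁻¹ᵁ U) e).hom
      ψ := a.appTop.hom
      hρ := by
        rw [← CommRingCat.hom_comp, Scheme.Hom.appLE_comp_appLE, appLE_eq_of_eq hm1]
      hσ := by
        rw [← CommRingCat.hom_comp, ← CommRingCat.hom_comp, Scheme.Hom.appLE_comp_appLE,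
          appLE_eq_of_eq hm2, Scheme.Hom.comp_appLE]
        rfl }
  obtain ⟨g', x', hg', hx', hrel'⟩ := hF L hFa
  refine avoid_fibre p1 p2 p1' p2' m a hm1 U t Zc g' x' ?_ ?_ hrel'
  · change L.ψ g' ∉ _
    rw [hg']; exact hg
  · intro z hz
    have := hx z hz
    rw [← hx'] at this
    exact this

lemma toSpecΓ_SpecMap_appLE_fromSpec {Y S : Scheme.{u}} [IsAffine Y] (h : Y ⟶ S) (W : S.Opens)
    (hW : IsAffineOpen W) (hYW : (⊤ : Y.Opens) ≤ h ⁻¹ᵁ W) :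
    Y.toSpecΓ ≫ Spec.map (h.appLE W ⊤ hYW) ≫ hW.fromSpec = h := by
  rw [IsAffineOpen.SpecMap_appLE_fromSpec h hW (isAffineOpen_top Y) hYW, IsAffineOpen.fromSpec_top,
    ← Scheme.isoSpec_hom, Iso.hom_inv_id_assoc]

/-- Construction of the finitely presented affine `T'` through which `h` factors, with prescribed
finitely many sections in the image. -/
lemma exists_lfp_factor {Y S : Scheme.{u}} [IsAffine Y] (h : Y ⟶ S) (W : S.Opens)
    (hW : IsAffineOpen W) (hYW : (⊤ : Y.Opens) ≤ h ⁻¹ᵁ W) (F : Finset Γ(Y, ⊤)) :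
    ∃ (T' : Scheme.{u}) (b : T' ⟶ S) (a : Y ⟶ T'), IsAffine T' ∧ LocallyOfFinitePresentation b ∧
      a ≫ b = h ∧ (↑F : Set Γ(Y, ⊤)) ⊆ Set.range a.appTop.hom := by
  classical
  let φ : Γ(S, W) →+* Γ(Y, ⊤) := (h.appLE W ⊤ hYW).hom
  let ψ₀ : MvPolynomial (↥F) Γ(S, W) →+* Γ(Y, ⊤) := MvPolynomial.eval₂Hom φ (fun β => β.1)
  let cC : Γ(S, W) ⟶ CommRingCat.of (MvPolynomial (↥F) Γ(S, W)) :=
    CommRingCat.ofHom (MvPolynomial.C : Γ(S, W) →+* MvPolynomial (↥F) Γ(S, W))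
  have hcomp2 : cC ≫ CommRingCat.ofHom ψ₀ = h.appLE W ⊤ hYW := by
    ext x
    simp [cC, ψ₀, φ]
  have hSpec : Spec.map (CommRingCat.ofHom ψ₀) ≫ Spec.map cC = Spec.map (h.appLE W ⊤ hYW) := by
    rw [← Spec.map_comp, hcomp2]
  refine ⟨Spec (CommRingCat.of (MvPolynomial (↥F) Γ(S, W))), Spec.map cC ≫ hW.fromSpec,
    Y.toSpecΓ ≫ Spec.map (CommRingCat.ofHom ψ₀), inferInstance, ?_, ?_, ?_⟩
  · haveI : LocallyOfFinitePresentation (Spec.map cC) := by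
      rw [HasRingHomProperty.Spec_iff (P := @LocallyOfFinitePresentation)]
      have : Algebra.FinitePresentation Γ(S, W) (MvPolynomial (↥F) Γ(S, W)) := inferInstance
      exact RingHom.finitePresentation_algebraMap.mpr this
    infer_instance
  · rw [Category.assoc, reassoc_of% hSpec]
    exact toSpecΓ_SpecMap_appLE_fromSpec h W hW hYW
  · intro β hβ
    refine ⟨(Scheme.ΓSpecIso (CommRingCat.of (MvPolynomial (↥F) Γ(S, W)))).inv
      (MvPolynomial.X ⟨β, hβ⟩), ?_⟩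
    have h1 : (Scheme.ΓSpecIso (CommRingCat.of (MvPolynomial (↥F) Γ(S, W)))).inv ≫
        (Y.toSpecΓ ≫ Spec.map (CommRingCat.ofHom ψ₀)).appTop = CommRingCat.ofHom ψ₀ := by
      simp only [Scheme.Hom.comp_appTop, Scheme.toSpecΓ_appTop]
      rw [← Scheme.ΓSpecIso_inv_naturality_assoc, Iso.inv_hom_id, Category.comp_id]
    have := congr($(h1) (MvPolynomial.X ⟨β, hβ⟩))
    simpa [ψ₀] using this

theorem main {X S T : Scheme.{u}} (f : X ⟶ S) [QuasiCompact f] (g : T ⟶ S) (t : T)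
    (Z : Set ↥(pullback f g)) (hZ : IsClosed Z) (hZt : ∀ z ∈ Z, (pullback.snd f g).base z ≠ t) :
    ∃ (V : T.Opens) (ht : t ∈ V) (T' : Scheme.{u}) (b : T' ⟶ S) (a : (V : Scheme.{u}) ⟶ T')
      (n : pullback f (V.ι ≫ g) ⟶ pullback f g) (m : pullback f (V.ι ≫ g) ⟶ pullback f b)
      (Z' : Set ↥(pullback f b)),
      IsAffineOpen V ∧ IsAffine T' ∧ LocallyOfFinitePresentation b ∧ a ≫ b = V.ι ≫ g ∧
      n ≫ pullback.fst f g = pullback.fst f (V.ι ≫ g) ∧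
      n ≫ pullback.snd f g = pullback.snd f (V.ι ≫ g) ≫ V.ι ∧
      m ≫ pullback.fst f b = pullback.fst f (V.ι ≫ g) ∧
      m ≫ pullback.snd f b = pullback.snd f (V.ι ≫ g) ≫ a ∧
      IsClosed Z' ∧ (∀ z' ∈ Z', (pullback.snd f b).base z' ≠ a.base ⟨t, ht⟩) ∧
      ∀ z : ↥(pullback f (V.ι ≫ g)), n.base z ∈ Z → m.base z ∈ Z' := by
  classical
  obtain ⟨_, ⟨(W : S.Opens), (hW : IsAffineOpen W), rfl⟩, hgtW, -⟩ :=
    S.isBasis_affineOpens.exists_subset_of_mem_open (Set.mem_univ (g t)) isOpen_univ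
  obtain ⟨_, ⟨(V : T.Opens), (hV : IsAffineOpen V), rfl⟩, htV, hVW⟩ :=
    T.isBasis_affineOpens.exists_subset_of_mem_open (show t ∈ (g ⁻¹ᵁ W : Set T) from hgtW)
      (g ⁻¹ᵁ W).isOpen
  haveI : IsAffine (V : Scheme.{u}) := hV
  have hYW : (⊤ : (V : Scheme.{u}).Opens) ≤ (V.ι ≫ g) ⁻¹ᵁ W := by
    intro y _
    exact hVW y.2
  have H := IsPullback.of_hasPullback f (V.ι ≫ g)
  let n : pullback f (V.ι ≫ g) ⟶ pullback f g :=
    pullback.lift (pullback.fst f (V.ι ≫ g)) (pullback.snd f (V.ι ≫ g) ≫ V.ι)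
      (by rw [Category.assoc]; exact pullback.condition)
  have hn1 : n ≫ pullback.fst f g = pullback.fst f (V.ι ≫ g) := pullback.lift_fst _ _ _
  have hn2 : n ≫ pullback.snd f g = pullback.snd f (V.ι ≫ g) ≫ V.ι := pullback.lift_snd _ _ _
  let tY : (V : Scheme.{u}) := ⟨t, htV⟩
  let Zc : Set ↥(pullback f (V.ι ≫ g)) := n ⁻¹' Z
  have hZc : IsClosed Zc := hZ.preimage n.continuous
  have hZct : ∀ z ∈ Zc, pullback.snd f (V.ι ≫ g) z ≠ tY := by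
    intro z hz heq
    apply hZt (n z) hz
    have h1 : (pullback.snd f g) (n z) = V.ι (pullback.snd f (V.ι ≫ g) z) := by
      rw [← Scheme.Hom.comp_apply, hn2, Scheme.Hom.comp_apply]
    rw [h1, heq]
    rfl
  have hcomp : IsCompact (f ⁻¹ᵁ W : Set X) := f.isCompact_preimage hW.isCompact
  obtain ⟨s, hs, hsU⟩ := isCompact_and_isOpen_iff_finite_and_eq_biUnion_affineOpens.mp
    ⟨hcomp, (f ⁻¹ᵁ W).isOpen⟩
  haveI := hs.fintype
  have hUW : ∀ i : s, (i.1 : X.Opens) ≤ f ⁻¹ᵁ W := by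
    intro i x hx
    have : x ∈ ⋃ i ∈ s, (i : Set X) := Set.mem_biUnion i.2 hx
    rw [← hsU] at this
    exact this
  choose F hF using fun i : s =>
    exists_finset_avoid H i.1.1 i.1.2 W hW (hUW i) hYW tY Zc hZc hZct
  obtain ⟨T', b, a, hT', hlfp, hab, hrange⟩ :=
    exists_lfp_factor (V.ι ≫ g) W hW hYW (Finset.univ.biUnion F)
  let m : pullback f (V.ι ≫ g) ⟶ pullback f b :=
    pullback.lift (pullback.fst f (V.ι ≫ g)) (pullback.snd f (V.ι ≫ g) ≫ a)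
      (by rw [Category.assoc, hab]; exact pullback.condition)
  have hm1 : m ≫ pullback.fst f b = pullback.fst f (V.ι ≫ g) := pullback.lift_fst _ _ _
  have hm2 : m ≫ pullback.snd f b = pullback.snd f (V.ι ≫ g) ≫ a := pullback.lift_snd _ _ _
  refine ⟨V, htV, T', b, a, n, m, closure (m '' Zc), hV, hT', hlfp, hab, hn1, hn2, hm1,
    hm2, isClosed_closure, ?_, ?_⟩
  · intro z' hz' heq
    have hz'W : pullback.fst f b z' ∈ f ⁻¹ᵁ W := by
      change f (pullback.fst f b z') ∈ W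
      rw [← Scheme.Hom.comp_apply, pullback.condition, Scheme.Hom.comp_apply, heq,
        ← Scheme.Hom.comp_apply, hab]
      exact hgtW
    have : pullback.fst f b z' ∈ ⋃ i ∈ s, (i : Set X) := by
      rw [← hsU]; exact hz'W
    obtain ⟨i, hi, hzi⟩ := Set.mem_iUnion₂.mp this
    refine hF ⟨i, hi⟩ _ _ (pullback.fst f b) (pullback.snd f b) m a hm1 hm2 ?_ z' hz' hzi heq
    intro β hβ
    exact hrange (Finset.mem_coe.mpr (Finset.mem_biUnion.mpr ⟨⟨i, hi⟩, Finset.mem_univ _, hβ⟩))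
  · intro z hz
    exact subset_closure ⟨z, hz, rfl⟩

end Groth.Agent.Lead.LfpNhd
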