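import Mathlib

set_option autoImplicit false
set_option linter.style.haveILetI false
universe u
open TensorProduct

namespace Groth.Agent.Lead.LftDescA

variable {k B C : Type u} [Field k] [CommRing B] [CommRing C] [Algebra k B] [Algebra k C]

/-- the inclusion `B₀ ⊗ C → B ⊗ C` -/
noncomputable def incl (B₀ : Subalgebra k B) : B₀ ⊗[k] C →ₐ[k] B ⊗[k] C :=
  Algebra.TensorProduct.map B₀.val (AlgHom.id k C)

theorem incl_tmul (B₀ : Subalgebra k B) (β : B₀) (c : C) :
    incl (C := C) B₀ (β ⊗ₜ c) = (β : B) ⊗ₜ c := rfl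

theorem incl_injective (B₀ : Subalgebra k B) : Function.Injective (incl (C := C) B₀) := by
  have h : Function.Injective (B₀.val.toLinearMap.rTensor C) :=
    Module.Flat.rTensor_preserves_injective_linearMap _ Subtype.val_injective
  intro x y hxy
  apply h
  have hx : ∀ z : B₀ ⊗[k] C, B₀.val.toLinearMap.rTensor C z = incl B₀ z := by
    intro z
    induction z with
    | zero => simp
    | tmul a c => rfl
    | add a b ha hb => rw [map_add, map_add, ha, hb]
  rw [hx, hx, hxy]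

/-- finitely many elements of `B ⊗ C` come from a finitely generated subalgebra -/
theorem exists_fg_range (F : Finset (B ⊗[k] C)) :
    ∃ B₀ : Subalgebra k B, B₀.FG ∧ ∀ x ∈ F, x ∈ (incl (C := C) B₀).range := by
  classical
  induction F using Finset.induction_on with
  | empty => exact ⟨⊥, Subalgebra.fg_bot, fun x hx => by simp at hx⟩
  | insert a F _ ih =>
    obtain ⟨B₁, hB₁, h1⟩ := ih
    obtain ⟨S, hS⟩ := TensorProduct.exists_finset a
    let B₂ : Subalgebra k B := Algebra.adjoin k ((S.image fun j => j.1 : Finset B) : Set B)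
    have hB₂ : B₂.FG := Subalgebra.fg_adjoin_finset _
    refine ⟨B₁ ⊔ B₂, hB₁.sup hB₂, ?_⟩
    have hmono : ∀ (B' : Subalgebra k B) (hle : B' ≤ B₁ ⊔ B₂) (x : B ⊗[k] C),
        x ∈ (incl (C := C) B').range → x ∈ (incl (C := C) (B₁ ⊔ B₂)).range := by
      rintro B' hle _ ⟨y, rfl⟩
      induction y with
      | zero => simp
      | tmul β c => exact ⟨(⟨β.1, hle β.2⟩ : ↥(B₁ ⊔ B₂)) ⊗ₜ c, rfl⟩
      | add y y' hy hy' => rw [map_add]; exact add_mem hy hy'
    intro x hx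
    rcases Finset.mem_insert.mp hx with rfl | hx
    · rw [hS]
      refine Subalgebra.sum_mem _ fun j hj => ?_
      have hj1 : j.1 ∈ B₂ := Algebra.subset_adjoin (Finset.mem_coe.mpr (Finset.mem_image_of_mem _ hj))
      exact ⟨(⟨j.1, le_sup_right (a := B₁) hj1⟩ : ↥(B₁ ⊔ B₂)) ⊗ₜ j.2, rfl⟩
    · exact hmono B₁ le_sup_left x (h1 x hx)

section Coord
variable (B₀ : Subalgebra k B) {ι : Type u} (b : Module.Basis ι k C)

theorem repr_incl (x : B₀ ⊗[k] C) (i : ι) :
    (Algebra.TensorProduct.basis B b).repr (incl B₀ x) i =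
      ((Algebra.TensorProduct.basis B₀ b).repr x i : B) := by
  induction x with
  | zero => simp
  | tmul β c =>
    rw [incl_tmul, Algebra.TensorProduct.basis_repr_tmul, Algebra.TensorProduct.basis_repr_tmul]
    simp only [Finsupp.smul_apply, Finsupp.mapRange_apply, smul_eq_mul]
    rfl
  | add x y hx hy =>
    rw [map_add, map_add, map_add, Finsupp.add_apply, Finsupp.add_apply, hx, hy]
    rfl

theorem repr_mul_left (b' : B) (y : B ⊗[k] C) (i : ι) :
    (Algebra.TensorProduct.basis B b).repr ((b' ⊗ₜ[k] (1 : C)) * y) i =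
      b' * (Algebra.TensorProduct.basis B b).repr y i := by
  have : (b' ⊗ₜ[k] (1 : C)) * y = b' • y := by
    rw [Algebra.smul_def]
    rfl
  rw [this, map_smul, Finsupp.smul_apply, smul_eq_mul]

end Coord


section Main

/-- every element of the localisation is `w / h ^ n` with `w` coming from `B₀ ⊗ C` -/
theorem exists_num (h : B ⊗[k] C)
    (hft : ((algebraMap (B ⊗[k] C) (Localization.Away h)).comp
      (Algebra.TensorProduct.includeRight : C →ₐ[k] B ⊗[k] C).toRingHom).FiniteType) :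
    ∃ B₀ : Subalgebra k B, B₀.FG ∧ h ∈ (incl (C := C) B₀).range ∧
      ∀ b : B, ∃ N : ℕ, h ^ N * (b ⊗ₜ[k] (1 : C)) ∈ (incl (C := C) B₀).range := by
  classical
  set L := Localization.Away h with hL
  set φ : C →+* L := (algebraMap (B ⊗[k] C) L).comp
    (Algebra.TensorProduct.includeRight : C →ₐ[k] B ⊗[k] C).toRingHom with hφ
  letI : Algebra C L := φ.toAlgebra
  have hft' : Algebra.FiniteType C L := hft
  obtain ⟨s, hs⟩ := hft'.out
  -- numerators
  have hsurj : ∀ y : L, ∃ (n : ℕ) (a : B ⊗[k] C),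
      y * algebraMap (B ⊗[k] C) L h ^ n = algebraMap (B ⊗[k] C) L a :=
    fun y => IsLocalization.Away.surj h y
  choose nn zz hzz using hsurj
  obtain ⟨B₀, hB₀, hF⟩ := exists_fg_range (C := C) (insert h (s.image zz))
  have hh : h ∈ (incl (C := C) B₀).range := hF h (Finset.mem_insert_self _ _)
  refine ⟨B₀, hB₀, hh, ?_⟩
  -- the subalgebra of good elements
  let R₀ := (incl (C := C) B₀).range
  let L₀ : Subalgebra C L :=
    { carrier := {x | ∃ (n : ℕ) (w : B ⊗[k] C), w ∈ R₀ ∧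
        x * algebraMap (B ⊗[k] C) L h ^ n = algebraMap (B ⊗[k] C) L w}
      mul_mem' := by
        rintro x₁ x₂ ⟨n₁, w₁, hw₁, e₁⟩ ⟨n₂, w₂, hw₂, e₂⟩
        refine ⟨n₁ + n₂, w₁ * w₂, mul_mem hw₁ hw₂, ?_⟩
        rw [map_mul, ← e₁, ← e₂, pow_add]
        ring
      add_mem' := by
        rintro x₁ x₂ ⟨n₁, w₁, hw₁, e₁⟩ ⟨n₂, w₂, hw₂, e₂⟩
        refine ⟨n₁ + n₂, w₁ * h ^ n₂ + w₂ * h ^ n₁,
          add_mem (mul_mem hw₁ (pow_mem hh _)) (mul_mem hw₂ (pow_mem hh _)), ?_⟩
        rw [map_add, map_mul, map_mul, map_pow, map_pow, ← e₁, ← e₂, pow_add]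
        ring
      algebraMap_mem' := by
        intro c
        refine ⟨0, (1 : B) ⊗ₜ[k] c, ⟨(1 : B₀) ⊗ₜ[k] c, rfl⟩, ?_⟩
        rw [pow_zero, mul_one]
        rfl }
  have hsL : (s : Set L) ⊆ L₀ := by
    intro y hy
    exact ⟨nn y, zz y, hF _ (Finset.mem_insert_of_mem (Finset.mem_image_of_mem _ hy)), hzz y⟩
  have htop : L₀ = ⊤ := by
    rw [eq_top_iff, ← hs]
    exact Algebra.adjoin_le hsL
  intro b
  have hb : algebraMap (B ⊗[k] C) L (b ⊗ₜ[k] (1 : C)) ∈ L₀ := htop ▸ Algebra.mem_top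
  obtain ⟨n, w, hw, e⟩ := hb
  rw [← map_pow, ← map_mul] at e
  obtain ⟨⟨_, m, rfl⟩, hm⟩ := (IsLocalization.eq_iff_exists (Submonoid.powers h) L).mp e
  refine ⟨m + n, ?_⟩
  have : h ^ (m + n) * (b ⊗ₜ[k] (1 : C)) = h ^ m * w := by
    rw [← hm, pow_add]
    ring
  rw [this]
  exact mul_mem (pow_mem hh _) hw


/-- pointwise descent of finite type along an arbitrary base extension over a field -/
theorem main (h : B ⊗[k] C)
    (hft : ((algebraMap (B ⊗[k] C) (Localization.Away h)).comp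
      (Algebra.TensorProduct.includeRight : C →ₐ[k] B ⊗[k] C).toRingHom).FiniteType)
    (Q : Ideal (B ⊗[k] C)) [Q.IsPrime] (hQ : h ∉ Q) :
    ∃ f : B, (f ⊗ₜ[k] (1 : C)) ∉ Q ∧ Algebra.FiniteType k (Localization.Away f) := by
  classical
  obtain ⟨B₀, hB₀, ⟨h₀, hh₀'⟩, hnum⟩ := exists_num h hft
  have hh₀ : incl (C := C) B₀ h₀ = h := hh₀'
  let b := Module.Free.chooseBasis k C
  let 𝔟 := Algebra.TensorProduct.basis B b
  let 𝔟₀ := Algebra.TensorProduct.basis B₀ b
  -- conductor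
  have hcond : ∀ (x : B) (Q₀ : Ideal (B₀ ⊗[k] C)) [Q₀.IsPrime], h₀ ∉ Q₀ →
      ∃ β : B₀, (β ⊗ₜ[k] (1 : C)) ∉ Q₀ ∧ ∃ g : B₀, (β : B) * x = g := by
    intro x Q₀ _ hQ₀
    obtain ⟨N, w₀, hw₀'⟩ := hnum x
    have hw₀ : incl (C := C) B₀ w₀ = h ^ N * (x ⊗ₜ[k] (1 : C)) := hw₀'
    have hcoord : ∀ i, (𝔟₀.repr (h₀ ^ N) i : B) * x = (𝔟₀.repr w₀ i : B) := by
      intro i
      have h1 : 𝔟.repr (h ^ N * (x ⊗ₜ[k] (1 : C))) i = x * (𝔟₀.repr (h₀ ^ N) i : B) := by
        rw [mul_comm, repr_mul_left, ← hh₀, ← map_pow, repr_incl]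
      have h2 : 𝔟.repr (h ^ N * (x ⊗ₜ[k] (1 : C))) i = (𝔟₀.repr w₀ i : B) := by
        rw [← hw₀, repr_incl]
      rw [mul_comm, ← h1, h2]
    by_contra hcon
    push Not at hcon
    have hall : ∀ i, ((𝔟₀.repr (h₀ ^ N) i) ⊗ₜ[k] (1 : C)) ∈ Q₀ := by
      intro i
      by_contra hi
      exact hcon _ hi _ (hcoord i)
    have hpow : h₀ ^ N ∈ Q₀ := by
      rw [← 𝔟₀.linearCombination_repr (h₀ ^ N), Finsupp.linearCombination_apply]
      refine Ideal.sum_mem _ fun i _ => ?_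
      beta_reduce
      have : (𝔟₀.repr (h₀ ^ N)) i • 𝔟₀ i =
          ((𝔟₀.repr (h₀ ^ N) i) ⊗ₜ[k] (1 : C)) * 𝔟₀ i := by
        rw [Algebra.smul_def]
        rfl
      rw [this]
      exact Ideal.mul_mem_right _ _ (hall i)
    exact hQ₀ (Ideal.IsPrime.mem_of_pow_mem inferInstance _ hpow)
  -- the open image
  let pr : PrimeSpectrum (B₀ ⊗[k] C) → PrimeSpectrum B₀ :=
    PrimeSpectrum.comap (algebraMap B₀ (B₀ ⊗[k] C))
  have hopen : IsOpen (pr '' (PrimeSpectrum.basicOpen h₀ : Set (PrimeSpectrum (B₀ ⊗[k] C)))) :=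
    PrimeSpectrum.isOpenMap_comap_algebraMap_tensorProduct_of_field _
      (PrimeSpectrum.basicOpen h₀).isOpen
  let Q₁ : PrimeSpectrum (B₀ ⊗[k] C) := ⟨Q.comap (incl (C := C) B₀), inferInstance⟩
  have hQ₁ : Q₁ ∈ (PrimeSpectrum.basicOpen h₀ : Set (PrimeSpectrum (B₀ ⊗[k] C))) := by
    change h₀ ∉ Q.comap (incl (C := C) B₀)
    rw [Ideal.mem_comap, hh₀]
    exact hQ
  obtain ⟨_, ⟨_, ⟨f₀, rfl⟩, rfl⟩, hqf, hsub⟩ :=
    PrimeSpectrum.isBasis_basic_opens.exists_subset_of_mem_open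
      (Set.mem_image_of_mem pr hQ₁) hopen
  -- `f₀ ^ N * x ∈ B₀` for all `x`
  have hrad : ∀ x : B, ∃ (N : ℕ) (g : B₀), ((f₀ : B)) ^ N * x = g := by
    intro x
    let J : Ideal B₀ :=
      { carrier := {β | ∃ g : B₀, (β : B) * x = g}
        add_mem' := by
          rintro β₁ β₂ ⟨g₁, e₁⟩ ⟨g₂, e₂⟩
          exact ⟨g₁ + g₂, by push_cast; rw [add_mul, e₁, e₂]⟩
        zero_mem' := ⟨0, by simp⟩
        smul_mem' := by
          rintro c β ⟨g, e⟩
          exact ⟨c * g, by rw [smul_eq_mul]; push_cast; rw [mul_assoc, e]⟩ }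
    have hf₀ : f₀ ∈ J.radical := by
      rw [Ideal.radical_eq_sInf, Ideal.mem_sInf]
      rintro P ⟨hJP, hP⟩
      by_contra hfP
      have hmem : (⟨P, hP⟩ : PrimeSpectrum B₀) ∈
          (PrimeSpectrum.basicOpen f₀ : Set (PrimeSpectrum B₀)) := hfP
      obtain ⟨Q₀, hQ₀, hQ₀P⟩ := hsub hmem
      obtain ⟨β, hβ, g, hg⟩ := hcond x Q₀.asIdeal hQ₀
      have hβP : β ∈ P := hJP ⟨g, hg⟩
      apply hβ
      have : β ∈ (pr Q₀).asIdeal := by rw [hQ₀P]; exact hβP
      exact this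
    obtain ⟨N, g, hg⟩ := hf₀
    exact ⟨N, g, by rw [← hg]; push_cast; rfl⟩
  refine ⟨B₀.val.toRingHom f₀, ?_, ?_⟩
  · intro hmem
    apply hqf
    change f₀ ∈ (pr Q₁).asIdeal
    exact hmem
  · -- finite type
    haveI : Algebra.FiniteType k B₀ := ⟨B₀.fg_top.mpr hB₀⟩
    have hψ : Function.Surjective (Localization.awayMap B₀.val.toRingHom f₀) := by
      refine (Localization.awayMap_surjective_iff (f := B₀.val.toRingHom) (r := f₀)).mpr ?_
      intro a
      obtain ⟨N, g, hg⟩ := hrad a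
      exact ⟨g, N, hg.symm⟩
    have h1 : (algebraMap k (Localization.Away f₀)).FiniteType :=
      RingHom.finiteType_algebraMap.mpr
        (Algebra.FiniteType.trans (inferInstance : Algebra.FiniteType k B₀)
          (IsLocalization.finiteType_of_monoid_fg (Submonoid.powers f₀) _))
    have h2 : ((Localization.awayMap B₀.val.toRingHom f₀).comp
        (algebraMap k (Localization.Away f₀))).FiniteType :=
      (RingHom.FiniteType.of_surjective _ hψ).comp h1
    have h3 : (Localization.awayMap B₀.val.toRingHom f₀).comp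
        (algebraMap k (Localization.Away f₀)) =
        algebraMap k (Localization.Away (B₀.val.toRingHom f₀)) := by
      ext c
      change (Localization.awayMap B₀.val.toRingHom f₀)
        (algebraMap B₀ _ (algebraMap k B₀ c)) = algebraMap B _ (algebraMap k B c)
      exact IsLocalization.map_eq _ _
    rw [h3] at h2
    exact RingHom.finiteType_algebraMap.mp h2

end Main

end Groth.Agent.Lead.LftDescA
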