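import Mathlib
import Groth.Agent.Lead.LftDescA

set_option autoImplicit false
set_option linter.style.haveILetI false
universe u
open CategoryTheory CategoryTheory.Limits AlgebraicGeometry TensorProduct

namespace Groth.Agent.Lead.LftDescB

section SpecCase
variable (k B C : Type u) [Field k] [CommRing B] [CommRing C] [Algebra k B] [Algebra k C]

/-- Lemma D', `Spec` version -/
theorem spec_case
    (V' : (pullback (Spec.map (CommRingCat.ofHom (algebraMap k B)))
      (Spec.map (CommRingCat.ofHom (algebraMap k C)))).Opens)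
    (hV' : LocallyOfFiniteType (V'.ι ≫ pullback.snd _ _))
    (x' : ↥(pullback (Spec.map (CommRingCat.ofHom (algebraMap k B)))
      (Spec.map (CommRingCat.ofHom (algebraMap k C))))) (hx' : x' ∈ V') :
    ∃ f : B, pullback.fst (Spec.map (CommRingCat.ofHom (algebraMap k B)))
        (Spec.map (CommRingCat.ofHom (algebraMap k C))) x' ∈ PrimeSpectrum.basicOpen f ∧
      Algebra.FiniteType k (Localization.Away f) := by
  let e := pullbackSpecIso k B C
  let D := B ⊗[k] C
  let V₁ : (Spec (.of D)).Opens := e.inv ⁻¹ᵁ V'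
  let x₁ : ↥(Spec (.of D)) := e.hom x'
  have hx₁ : x₁ ∈ V₁ := by
    change e.inv (e.hom x') ∈ V'
    rw [← Scheme.Hom.comp_apply, e.hom_inv_id]
    exact hx'
  obtain ⟨_, ⟨_, ⟨h, rfl⟩, rfl⟩, hxh, hsub⟩ :=
    PrimeSpectrum.isBasis_basic_opens.exists_subset_of_mem_open hx₁ V₁.isOpen
  -- the open immersion `Spec D_h ⟶ P`
  let ρ : Spec (.of (Localization.Away h)) ⟶ Spec (.of D) :=
    Spec.map (CommRingCat.ofHom (algebraMap D (Localization.Away h)))
  haveI : IsOpenImmersion ρ := IsOpenImmersion.of_isLocalization h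
  have hρ : Set.range ρ ⊆ (V₁ : Set ↥(Spec (.of D))) := by
    rintro _ ⟨z, rfl⟩
    apply hsub
    have := PrimeSpectrum.localization_away_comap_range (Localization.Away h) h
    have hz : ρ z ∈ Set.range (PrimeSpectrum.comap (algebraMap D (Localization.Away h))) := ⟨z, rfl⟩
    rw [this] at hz
    exact hz
  have hρ' : Set.range (ρ ≫ e.inv) ⊆ Set.range V'.ι := by
    rintro _ ⟨z, rfl⟩
    rw [Scheme.Opens.range_ι]
    exact hρ ⟨z, rfl⟩
  let lam := IsOpenImmersion.lift V'.ι (ρ ≫ e.inv) hρ'
  have hlam : lam ≫ V'.ι = ρ ≫ e.inv := IsOpenImmersion.lift_fac _ _ _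
  haveI : IsOpenImmersion lam := by
    have : IsOpenImmersion (lam ≫ V'.ι) := by rw [hlam]; infer_instance
    exact IsOpenImmersion.of_comp lam V'.ι
  have hlft : LocallyOfFiniteType (lam ≫ V'.ι ≫ pullback.snd _ _) := inferInstance
  have hcomp : lam ≫ V'.ι ≫ pullback.snd _ _ =
      Spec.map (CommRingCat.ofHom ((algebraMap D (Localization.Away h)).comp
        (Algebra.TensorProduct.includeRight : C →ₐ[k] B ⊗[k] C).toRingHom)) := by
    rw [← Category.assoc, hlam, Category.assoc, pullbackSpecIso_inv_snd, ← Spec.map_comp]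
    rfl
  rw [hcomp, HasRingHomProperty.Spec_iff (P := @LocallyOfFiniteType)] at hlft
  haveI : x₁.asIdeal.IsPrime := x₁.isPrime
  obtain ⟨f, hf, hft⟩ := LftDescA.main h hlft x₁.asIdeal hxh
  refine ⟨f, ?_, hft⟩
  have hfst : pullback.fst (Spec.map (CommRingCat.ofHom (algebraMap k B)))
      (Spec.map (CommRingCat.ofHom (algebraMap k C))) x' =
      Spec.map (CommRingCat.ofHom (Algebra.TensorProduct.includeLeftRingHom :
        B →+* B ⊗[k] C)) x₁ := by
    change _ = (e.hom ≫ Spec.map (CommRingCat.ofHom Algebra.TensorProduct.includeLeftRingHom)) x'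
    rw [pullbackSpecIso_hom_fst]
  rw [hfst]
  exact hf

end SpecCase


section General
variable (k : Type u) [Field k]

/-- Lemma D: pointwise descent of "locally of finite type" along a base extension over a field -/
theorem general_case {X : Scheme.{u}} (p : X ⟶ Spec (CommRingCat.of k))
    (C : Type u) [CommRing C] [Algebra k C]
    (V' : (pullback p (Spec.map (CommRingCat.ofHom (algebraMap k C)))).Opens)
    (hV' : LocallyOfFiniteType (V'.ι ≫ pullback.snd _ _))
    (x' : ↥(pullback p (Spec.map (CommRingCat.ofHom (algebraMap k C))))) (hx' : x' ∈ V') :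
    ∃ V : X.Opens, pullback.fst p (Spec.map (CommRingCat.ofHom (algebraMap k C))) x' ∈ V ∧
      LocallyOfFiniteType (V.ι ≫ p) := by
  let t := Spec.map (CommRingCat.ofHom (algebraMap k C))
  let x := pullback.fst p t x'
  have hx : x = pullback.fst p t x' := rfl
  haveI := hV'
  obtain ⟨_, ⟨V₀, hV₀, rfl⟩, hxV₀, -⟩ :=
    X.isBasis_affineOpens.exists_subset_of_mem_open (Set.mem_univ x) isOpen_univ
  let B : Type u := Γ(X, V₀)
  let j : Spec (CommRingCat.of B) ⟶ X := hV₀.fromSpec
  haveI : IsOpenImmersion j := inferInstanceAs (IsOpenImmersion hV₀.fromSpec)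
  let φ : CommRingCat.of k ⟶ CommRingCat.of B := Spec.preimage (j ≫ p)
  have hφ : Spec.map φ = j ≫ p := Spec.map_preimage _
  letI : Algebra k B := φ.hom.toAlgebra
  have hφ' : Spec.map (CommRingCat.ofHom (algebraMap k B)) = j ≫ p := hφ
  let ι' : pullback (Spec.map (CommRingCat.ofHom (algebraMap k B))) t ⟶ pullback p t :=
    pullback.map _ _ _ _ j (𝟙 _) (𝟙 _) (by rw [Category.comp_id, hφ']) (by simp)
  have hι'fst : ι' ≫ pullback.fst p t = pullback.fst _ _ ≫ j := pullback.lift_fst _ _ _
  have hι'snd : ι' ≫ pullback.snd p t = pullback.snd _ _ := by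
    have := pullback.lift_snd (f := p) (g := t) (pullback.fst _ _ ≫ j)
      (pullback.snd (Spec.map (CommRingCat.ofHom (algebraMap k B))) t ≫ 𝟙 _)
      (by rw [Category.comp_id, Category.assoc, ← hφ', pullback.condition])
    exact this.trans (Category.comp_id _)
  have hrange : x' ∈ Set.range ι' := by
    rw [Scheme.Pullback.range_map]
    refine ⟨?_, ?_⟩
    · change x ∈ Set.range j
      rw [IsAffineOpen.range_fromSpec]
      exact hxV₀
    · simp
  obtain ⟨x'', hx''⟩ := hrange
  let V'' := ι' ⁻¹ᵁ V'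
  have hxV'' : x'' ∈ V'' := by
    change ι' x'' ∈ V'
    rw [hx'']
    exact hx'
  have hV'' : LocallyOfFiniteType (V''.ι ≫ pullback.snd _ _) := by
    have h1 : V''.ι ≫ pullback.snd (Spec.map (CommRingCat.ofHom (algebraMap k B))) t =
        (ι' ∣_ V') ≫ V'.ι ≫ pullback.snd p t := by
      rw [← Category.assoc, morphismRestrict_ι, Category.assoc, hι'snd]
    rw [h1]
    infer_instance
  obtain ⟨f, hf, hft⟩ := spec_case k B C V'' hV'' x'' hxV''
  let γ : Spec (CommRingCat.of (Localization.Away f)) ⟶ X :=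
    Spec.map (CommRingCat.ofHom (algebraMap B (Localization.Away f))) ≫ j
  haveI : IsOpenImmersion (Spec.map (CommRingCat.ofHom (algebraMap B (Localization.Away f)))) :=
    IsOpenImmersion.of_isLocalization f
  haveI : IsOpenImmersion γ := inferInstance
  refine ⟨γ.opensRange, ?_, ?_⟩
  · have h1 : x = j (pullback.fst (Spec.map (CommRingCat.ofHom (algebraMap k B))) t x'') := by
      rw [hx, ← hx'', ← Scheme.Hom.comp_apply, hι'fst, Scheme.Hom.comp_apply]
    have h2 := PrimeSpectrum.localization_away_comap_range (Localization.Away f) f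
    have h3 : pullback.fst (Spec.map (CommRingCat.ofHom (algebraMap k B))) t x'' ∈
        Set.range (PrimeSpectrum.comap (algebraMap B (Localization.Away f))) := by
      rw [h2]
      exact hf
    obtain ⟨z, hz⟩ := h3
    refine ⟨z, ?_⟩
    change _ = x
    rw [h1, ← hz]
    rfl
  · have h1 : γ.isoOpensRange.hom ≫ γ.opensRange.ι ≫ p =
        Spec.map (CommRingCat.ofHom (algebraMap k (Localization.Away f))) := by
      rw [← Category.assoc, Scheme.Hom.isoOpensRange_hom_ι, Category.assoc, ← hφ',
        ← Spec.map_comp, ← CommRingCat.ofHom_comp, ← IsScalarTower.algebraMap_eq]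
    have h2 : LocallyOfFiniteType (γ.isoOpensRange.hom ≫ γ.opensRange.ι ≫ p) := by
      rw [h1, HasRingHomProperty.Spec_iff (P := @LocallyOfFiniteType)]
      exact RingHom.finiteType_algebraMap.mpr hft
    exact (MorphismProperty.cancel_left_of_respectsIso @LocallyOfFiniteType _ _).mp h2

end General

end Groth.Agent.Lead.LftDescB
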