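import Mathlib

set_option autoImplicit false
set_option linter.style.haveILetI false
universe u
open Cardinal MvPolynomial

namespace Groth.Agent.Lead.TrdegA

section F1
variable {k K k' L : Type u} [Field k] [Field K] [Field k'] [Field L]

/-- `L` generated as a field by the images of `K` and `k'` (over a common `k`) has
`trdeg_{k'} L ≤ trdeg_k K`. -/
theorem trdeg_le_of_generated
    (a : k →+* K) (b : k →+* k') (c : K →+* L) (d : k' →+* L) (hcomm : c.comp a = d.comp b)
    (hgen : Subfield.closure (Set.range c ∪ Set.range d) = ⊤) :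
    @Algebra.trdeg k' L _ _ d.toAlgebra ≤ @Algebra.trdeg k K _ _ a.toAlgebra := by
  letI := a.toAlgebra
  letI := d.toAlgebra
  obtain ⟨s, hs⟩ := exists_isTranscendenceBasis k K
  rw [← hs.cardinalMk_eq_trdeg]
  let S : Set L := c '' s
  let R₀ := Algebra.adjoin k' S
  -- every element of `L` is algebraic over `R₀`
  have hc : ∀ z : K, IsAlgebraic R₀ (c z) := by
    intro z
    have hz : IsAlgebraic (Algebra.adjoin k (Set.range ((↑) : s → K))) z :=
      hs.isAlgebraic.isAlgebraic z
    -- the map adjoin k s → R₀
    have hmem : ∀ y ∈ Algebra.adjoin k (Set.range ((↑) : s → K)), c y ∈ R₀ := by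
      intro y hy
      induction hy using Algebra.adjoin_induction with
      | mem y hy =>
        obtain ⟨⟨y, hys⟩, rfl⟩ := hy
        exact Algebra.subset_adjoin ⟨y, hys, rfl⟩
      | algebraMap r =>
        have : c (algebraMap k K r) = algebraMap k' L (b r) := by
          change c (a r) = d (b r)
          exact congrArg (fun φ : k →+* L => φ r) hcomm
        rw [this]
        exact Subalgebra.algebraMap_mem _ _
      | add y y' _ _ h1 h2 => rw [map_add]; exact add_mem h1 h2
      | mul y y' _ _ h1 h2 => rw [map_mul]; exact mul_mem h1 h2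
    let f : Algebra.adjoin k (Set.range ((↑) : s → K)) →+* R₀ :=
      { toFun := fun y => ⟨c y, hmem y y.2⟩
        map_one' := by ext; simp
        map_mul' := fun _ _ => by ext; simp
        map_zero' := by ext; simp
        map_add' := fun _ _ => by ext; simp }
    have hf : Function.Injective f := by
      intro y y' h
      have : c y = c y' := congrArg Subtype.val h
      exact Subtype.ext (c.injective this)
    exact hz.ringHom_of_comp_eq f c hf (by ext y; rfl)
  have hd : ∀ z : k', IsAlgebraic R₀ (d z) := by
    intro z
    have : d z = algebraMap R₀ L (algebraMap k' R₀ z) := rfl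
    rw [this]
    exact isAlgebraic_algebraMap _
  let M : Subfield L :=
    { carrier := {z | IsAlgebraic R₀ z}
      mul_mem' := fun h1 h2 => h1.mul h2
      one_mem' := isAlgebraic_one
      add_mem' := fun h1 h2 => h1.add h2
      zero_mem' := isAlgebraic_zero
      neg_mem' := fun h1 => h1.neg
      inv_mem' := fun _ h1 => h1.inv }
  have hM : Subfield.closure (Set.range c ∪ Set.range d) ≤ M := by
    rw [Subfield.closure_le]
    rintro z (⟨y, rfl⟩ | ⟨y, rfl⟩)
    · exact hc y
    · exact hd y
  haveI : Algebra.IsAlgebraic R₀ L := ⟨fun z => hM (hgen ▸ Subfield.mem_top z)⟩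
  calc Algebra.trdeg k' L ≤ #S := Algebra.IsAlgebraic.trdeg_le_cardinalMk k' S
    _ ≤ #s := Cardinal.mk_image_le

end F1

section F2
variable {k K k' : Type u} [Field k] [Field K] [Field k']

/-- a field containing `K` and `k'` over `k` in which a transcendence basis of `K/k` stays
algebraically independent over `k'` -/
theorem exists_compositum (a : k →+* K) (b : k →+* k') :
    ∃ (Ω : Type u) (_ : Field Ω) (α : K →+* Ω) (β : k' →+* Ω), α.comp a = β.comp b ∧
      ∃ (ι : Type u) (x : ι → K),
        (letI := a.toAlgebra; IsTranscendenceBasis k x) ∧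
        (letI := β.toAlgebra; AlgebraicIndependent k' (fun i => α (x i))) := by
  letI := a.toAlgebra
  obtain ⟨s, hs⟩ := exists_isTranscendenceBasis k K
  let ι : Type u := ↥s
  let x : ι → K := (↑)
  have hx : AlgebraicIndependent k x := hs.1
  let F₀ := IntermediateField.adjoin k (Set.range x)
  haveI : Algebra.IsAlgebraic F₀ K := hs.isAlgebraic_field
  let P := MvPolynomial ι k
  let P' := MvPolynomial ι k'
  let g : P →+* FractionRing P' := (algebraMap P' (FractionRing P')).comp (MvPolynomial.map b)
  have hg : Function.Injective g :=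
    (IsFractionRing.injective P' (FractionRing P')).comp (MvPolynomial.map_injective b b.injective)
  let φ₁ : FractionRing P →+* FractionRing P' := IsFractionRing.lift hg
  let Ω := AlgebraicClosure (FractionRing P')
  let φ : F₀ →+* Ω := ((algebraMap (FractionRing P') Ω).comp φ₁).comp
    (hx.aevalEquivField.symm : F₀ →+* FractionRing P)
  letI : Algebra F₀ Ω := φ.toAlgebra
  let α' : K →ₐ[F₀] Ω := IsAlgClosed.lift
  have hβ : (algebraMap k' Ω).toAlgebra = (inferInstance : Algebra k' Ω) :=
    Algebra.algebra_ext _ _ (fun _ => rfl)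
  refine ⟨Ω, inferInstance, α'.toRingHom, algebraMap k' Ω, ?_, ι, x, hs, ?_⟩
  · ext z
    change α' (algebraMap F₀ K (algebraMap k F₀ z)) = algebraMap k' Ω (b z)
    rw [α'.commutes]
    change algebraMap (FractionRing P') Ω (φ₁ (hx.aevalEquivField.symm (algebraMap k F₀ z))) = _
    rw [AlgEquiv.commutes]
    have h1 : algebraMap k (FractionRing P) z = algebraMap P (FractionRing P) (C z) := by
      rw [IsScalarTower.algebraMap_apply k P (FractionRing P)]
      rfl
    rw [h1]
    change algebraMap (FractionRing P') Ω (IsFractionRing.lift hg (algebraMap P _ (C z))) = _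
    rw [IsFractionRing.lift_algebraMap]
    change algebraMap (FractionRing P') Ω (algebraMap P' _ (MvPolynomial.map b (C z))) = _
    rw [MvPolynomial.map_C, ← IsScalarTower.algebraMap_apply,
      IsScalarTower.algebraMap_apply k' P' Ω]
    rfl
  · rw [hβ]
    have h2 : ∀ i : ι, α'.toRingHom (x i) = algebraMap P' Ω (X i) := by
      intro i
      have hmem : x i ∈ F₀ := IntermediateField.subset_adjoin _ _ ⟨i, rfl⟩
      change α' (algebraMap F₀ K ⟨x i, hmem⟩) = _
      rw [α'.commutes]
      change algebraMap (FractionRing P') Ω (φ₁ (hx.aevalEquivField.symm ⟨x i, hmem⟩)) = _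
      have h3 : hx.aevalEquivField.symm ⟨x i, hmem⟩ = algebraMap P (FractionRing P) (X i) := by
        rw [AlgEquiv.symm_apply_eq]
        apply Subtype.ext
        rw [AlgebraicIndependent.aevalEquivField_algebraMap_apply_coe]
        simp
      rw [h3]
      change algebraMap (FractionRing P') Ω (IsFractionRing.lift hg (algebraMap P _ (X i))) = _
      rw [IsFractionRing.lift_algebraMap]
      change algebraMap (FractionRing P') Ω (algebraMap P' _ (MvPolynomial.map b (X i))) = _
      rw [MvPolynomial.map_X, ← IsScalarTower.algebraMap_apply]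
    have h4 : (fun i => α'.toRingHom (x i)) = (IsScalarTower.toAlgHom k' P' Ω) ∘ X := by
      funext i
      rw [h2 i]
      rfl
    rw [h4]
    apply (MvPolynomial.algebraicIndependent_X ι k').map'
    change Function.Injective (algebraMap P' Ω)
    rw [IsScalarTower.algebraMap_eq P' (FractionRing P') Ω]
    exact (algebraMap (FractionRing P') Ω).injective.comp
      (IsFractionRing.injective P' (FractionRing P'))

/-- consequence: any field `L` between (receiving `K`, `k'` and mapping to `Ω` compatibly) has
`trdeg_k K ≤ trdeg_{k'} L` -/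
theorem le_trdeg_of_factor {Ω L ι : Type u} [Field Ω] [Field L]
    (a : k →+* K) (α : K →+* Ω) (β : k' →+* Ω) (x : ι → K)
    (hx : letI := a.toAlgebra; IsTranscendenceBasis k x)
    (hind : letI := β.toAlgebra; AlgebraicIndependent k' (fun i => α (x i)))
    (c : K →+* L) (d : k' →+* L) (γ : L →+* Ω) (hc : γ.comp c = α) (hd : γ.comp d = β) :
    @Algebra.trdeg k K _ _ a.toAlgebra ≤ @Algebra.trdeg k' L _ _ d.toAlgebra := by
  letI := a.toAlgebra
  letI := d.toAlgebra
  letI := β.toAlgebra
  rw [← hx.cardinalMk_eq_trdeg]
  let γ' : L →ₐ[k'] Ω :=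
    { γ with
      commutes' := fun r => by
        change γ (d r) = β r
        rw [← hd]; rfl }
  have h1 : AlgebraicIndependent k' (fun i => c (x i)) := by
    apply AlgebraicIndependent.of_comp γ'
    have : (γ' ∘ fun i => c (x i)) = fun i => α (x i) := by
      funext i
      change γ (c (x i)) = α (x i)
      rw [← hc]; rfl
    rw [this]
    exact hind
  exact h1.cardinalMk_le_trdeg

end F2

end Groth.Agent.Lead.TrdegA
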