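import Mathlib
import Groth.Agent.Lead.LftDescB
import Groth.Agent.Lead.TrdegA

set_option autoImplicit false
set_option linter.style.haveILetI false
universe u v
open CategoryTheory MonoidalCategory CartesianMonoidalCategory MonObj GrpObj Limits AlgebraicGeometry

namespace Groth.Agent.Lead.LftDescC

section Transl
variable {C : Type u} [Category.{v} C] [CartesianMonoidalCategory C]

/-- left translation by a `T`-valued point, as an endomorphism of `G ⊗ T` over `T`
(after Helper5.GrpDense1) -/
def transl (G T : C) [GrpObj G] (x₀ : T ⟶ G) : G ⊗ T ⟶ G ⊗ T :=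
  lift ((snd G T ≫ x₀) * fst G T) (snd G T)

theorem transl_fst (G T : C) [GrpObj G] (x₀ : T ⟶ G) :
    transl G T x₀ ≫ fst G T = (snd G T ≫ x₀) * fst G T := lift_fst _ _

theorem transl_snd (G T : C) [GrpObj G] (x₀ : T ⟶ G) :
    transl G T x₀ ≫ snd G T = snd G T := lift_snd _ _

theorem transl_comp (G T : C) [GrpObj G] (x₀ y₀ : T ⟶ G) :
    transl G T x₀ ≫ transl G T y₀ = transl G T (y₀ * x₀) := by
  apply CartesianMonoidalCategory.hom_ext
  · rw [Category.assoc, transl_fst, MonObj.comp_mul, ← Category.assoc, transl_snd, transl_fst,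
      transl_fst, MonObj.comp_mul, _root_.mul_assoc]
  · rw [Category.assoc, transl_snd, transl_snd, transl_snd]

theorem transl_one (G T : C) [GrpObj G] : transl G T (1 : T ⟶ G) = 𝟙 _ := by
  apply CartesianMonoidalCategory.hom_ext
  · rw [transl_fst, MonObj.comp_one, _root_.one_mul, Category.id_comp]
  · rw [transl_snd, Category.id_comp]

instance isIso_transl (G T : C) [GrpObj G] (x₀ : T ⟶ G) : IsIso (transl G T x₀) :=
  ⟨transl G T x₀⁻¹, by rw [transl_comp, inv_mul_cancel, transl_one],
    by rw [transl_comp, mul_inv_cancel, transl_one]⟩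

theorem section_transl (G T : C) [GrpObj G] (x₀ w₀ : T ⟶ G) :
    lift w₀ (𝟙 T) ≫ transl G T (x₀ * w₀⁻¹) = lift x₀ (𝟙 T) := by
  apply CartesianMonoidalCategory.hom_ext
  · rw [Category.assoc, transl_fst, MonObj.comp_mul, ← Category.assoc, lift_snd, Category.id_comp,
      lift_fst, lift_fst, inv_mul_cancel_right]
  · rw [Category.assoc, transl_snd, lift_snd, lift_snd]

end Transl


section Field

/-- field case of S5340 -/
theorem lft_field (k : Type u) [Field k] (G : Over (Spec (CommRingCat.of k))) [GrpObj G]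
    (W : G.left.Opens) (hW : (W : Set G.left).Nonempty) [LocallyOfFiniteType (W.ι ≫ G.hom)] :
    LocallyOfFiniteType G.hom := by
  suffices H : ∀ g : G.left, ∃ V : G.left.Opens, g ∈ V ∧ LocallyOfFiniteType (V.ι ≫ G.hom) by
    choose V hgV hV using H
    have hcov : ⨆ g, V g = ⊤ := by
      rw [eq_top_iff]
      intro g _
      exact TopologicalSpace.Opens.mem_iSup.mpr ⟨g, hgV g⟩
    exact (IsZariskiLocalAtSource.iff_of_openCover (P := @LocallyOfFiniteType)
      (Scheme.openCoverOfIsOpenCover G.left V (by simpa [TopologicalSpace.IsOpenCover] using hcov))).mpr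
        (fun g => hV g)
  intro g
  obtain ⟨w, hw⟩ := hW
  let θg : CommRingCat.of k ⟶ G.left.residueField g :=
    Spec.preimage (G.left.fromSpecResidueField g ≫ G.hom)
  let θw : CommRingCat.of k ⟶ G.left.residueField w :=
    Spec.preimage (G.left.fromSpecResidueField w ≫ G.hom)
  have hθg : Spec.map θg = G.left.fromSpecResidueField g ≫ G.hom := Spec.map_preimage _
  have hθw : Spec.map θw = G.left.fromSpecResidueField w ≫ G.hom := Spec.map_preimage _
  obtain ⟨Ω, _, α, β, hαβ, -⟩ := TrdegA.exists_compositum θg.hom θw.hom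
  letI : Algebra k Ω := (α.comp θg.hom).toAlgebra
  have hT : CommRingCat.ofHom (algebraMap k Ω) = θg ≫ CommRingCat.ofHom α := rfl
  have hT' : CommRingCat.ofHom (algebraMap k Ω) = θw ≫ CommRingCat.ofHom β := by
    rw [hT]
    ext z
    exact congrArg (fun φ => φ z) hαβ
  let T : Over (Spec (CommRingCat.of k)) :=
    Over.mk (Spec.map (CommRingCat.ofHom (algebraMap k Ω)))
  let x₀ : T ⟶ G := Over.homMk (Spec.map (CommRingCat.ofHom α) ≫ G.left.fromSpecResidueField g)
    (by
      change (Spec.map (CommRingCat.ofHom α) ≫ G.left.fromSpecResidueField g) ≫ G.hom =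
        Spec.map (CommRingCat.ofHom (algebraMap k Ω))
      rw [Category.assoc, ← hθg, ← Spec.map_comp]
      exact congrArg Spec.map hT.symm)
  let w₀ : T ⟶ G := Over.homMk (Spec.map (CommRingCat.ofHom β) ≫ G.left.fromSpecResidueField w)
    (by
      change (Spec.map (CommRingCat.ofHom β) ≫ G.left.fromSpecResidueField w) ≫ G.hom =
        Spec.map (CommRingCat.ofHom (algebraMap k Ω))
      rw [Category.assoc, ← hθw, ← Spec.map_comp]
      exact congrArg Spec.map hT'.symm)
  let pt : T.left := IsLocalRing.closedPoint Ω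
  have hx₀ : x₀.left pt = g := by
    change (Spec.map (CommRingCat.ofHom α) ≫ G.left.fromSpecResidueField g) pt = g
    rw [Scheme.Hom.comp_apply, Scheme.fromSpecResidueField_apply]
  have hw₀ : w₀.left pt = w := by
    change (Spec.map (CommRingCat.ofHom β) ≫ G.left.fromSpecResidueField w) pt = w
    rw [Scheme.Hom.comp_apply, Scheme.fromSpecResidueField_apply]
  let τ : G ⊗ T ⟶ G ⊗ T := transl G T (x₀ * w₀⁻¹)
  have hτsnd : inv τ ≫ snd G T = snd G T := by
    rw [IsIso.inv_comp_eq, transl_snd]
  have hsec : lift x₀ (𝟙 T) ≫ inv τ = lift w₀ (𝟙 T) := by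
    rw [IsIso.comp_inv_eq, section_transl]
  let Wt : (G ⊗ T).left.Opens := (fst G T).left ⁻¹ᵁ W
  let V' : (G ⊗ T).left.Opens := (inv τ).left ⁻¹ᵁ Wt
  let gt : (G ⊗ T).left := (lift x₀ (𝟙 T)).left pt
  have hgt : gt ∈ V' := by
    have e1 : (inv τ).left ((lift x₀ (𝟙 T)).left pt) = (lift w₀ (𝟙 T)).left pt := by
      rw [← Scheme.Hom.comp_apply, ← Over.comp_left, hsec]
    change (fst G T).left ((inv τ).left ((lift x₀ (𝟙 T)).left pt)) ∈ W
    rw [e1, ← Scheme.Hom.comp_apply, ← Over.comp_left, lift_fst, hw₀]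
    exact hw
  have hgt' : (fst G T).left gt = g := by
    change (fst G T).left ((lift x₀ (𝟙 T)).left pt) = g
    rw [← Scheme.Hom.comp_apply, ← Over.comp_left, lift_fst, hx₀]
  -- finite type
  have hWt : LocallyOfFiniteType (Wt.ι ≫ (snd G T).left) := by
    have sq1 : IsPullback ((fst G T).left ∣_ W) Wt.ι W.ι (fst G T).left :=
      isPullback_morphismRestrict _ _
    have sq2 : IsPullback (fst G T).left (snd G T).left G.hom T.hom :=
      IsPullback.of_hasPullback G.hom T.hom
    exact MorphismProperty.of_isPullback (P := @LocallyOfFiniteType) (sq1.paste_vert sq2)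
      inferInstance
  have hV' : LocallyOfFiniteType (V'.ι ≫ (snd G T).left) := by
    have h1 : V'.ι ≫ (snd G T).left = ((inv τ).left ∣_ Wt) ≫ Wt.ι ≫ (snd G T).left := by
      rw [← Category.assoc, morphismRestrict_ι, Category.assoc, ← Over.comp_left, hτsnd]
    rw [h1]
    haveI := hWt
    haveI : IsIso (inv τ).left := inferInstanceAs (IsIso ((Over.forget _).map (inv τ)))
    haveI : IsIso ((inv τ).left ∣_ Wt) := inferInstance
    infer_instance
  obtain ⟨V, hV1, hV2⟩ := LftDescB.general_case k G.hom Ω V' hV' gt hgt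
  exact ⟨V, hgt' ▸ hV1, hV2⟩

end Field

end Groth.Agent.Lead.LftDescC
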