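import Mathlib
import Groth.Prelude.Def_Red
import Groth.Agent.Lead.LftDescC
import Groth.Agent.S2305

set_option autoImplicit false
set_option linter.style.haveILetI false
universe u
open CategoryTheory MonoidalCategory CartesianMonoidalCategory MonObj GrpObj Limits AlgebraicGeometry

namespace Groth.Agent.Lead.LftDescD

variable (A : Type u) [CommRing A] [IsArtinianRing A] [IsLocalRing A]

/-- the closed point of `Spec A` -/
noncomputable abbrev cl : Spec (CommRingCat.of (IsLocalRing.ResidueField A)) ⟶ Spec (CommRingCat.of A) :=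
  Spec.map (CommRingCat.ofHom (IsLocalRing.residue A))

instance : IsClosedImmersion (cl A) :=
  IsClosedImmersion.spec_of_surjective _ IsLocalRing.residue_surjective

instance : Surjective (cl A) := by
  refine ⟨fun x => ?_⟩
  refine ⟨IsLocalRing.closedPoint _, ?_⟩
  have hx : x.asIdeal = IsLocalRing.maximalIdeal A := by
    haveI : x.asIdeal.IsMaximal := Ideal.IsPrime.isMaximal' x.isPrime
    exact IsLocalRing.eq_maximalIdeal inferInstance
  apply PrimeSpectrum.ext
  rw [hx]
  change Ideal.comap (IsLocalRing.residue A) (IsLocalRing.maximalIdeal _) = _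
  ext a
  simp

/-- S5340 without quasi-compactness -/
theorem lft_artinian (G : Over (Spec (CommRingCat.of A))) [GrpObj G]
    (W : G.left.Opens) (hW : (W : Set G.left).Nonempty) [LocallyOfFiniteType (W.ι ≫ G.hom)] :
    LocallyOfFiniteType G.hom := by
  let i := cl A
  let Gk := Red.bc i G
  let Wk : Gk.left.Opens := (pullback.fst G.hom i) ⁻¹ᵁ W
  have hWk : (Wk : Set Gk.left).Nonempty := by
    obtain ⟨w, hw⟩ := hW
    obtain ⟨z, hz⟩ := (pullback.fst G.hom i).surjective w
    exact ⟨z, by change pullback.fst G.hom i z ∈ W; rw [hz]; exact hw⟩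
  haveI : LocallyOfFiniteType (Wk.ι ≫ Gk.hom) := by
    have sq1 : IsPullback ((pullback.fst G.hom i) ∣_ W) Wk.ι W.ι (pullback.fst G.hom i) :=
      isPullback_morphismRestrict _ _
    have sq2 : IsPullback (pullback.fst G.hom i) (pullback.snd G.hom i) G.hom i :=
      IsPullback.of_hasPullback G.hom i
    exact MorphismProperty.of_isPullback (P := @LocallyOfFiniteType) (sq1.paste_vert sq2)
      inferInstance
  have h1 : LocallyOfFiniteType Gk.hom :=
    LftDescC.lft_field (IsLocalRing.ResidueField A) Gk Wk hWk
  haveI : LocallyOfFiniteType (pullback.snd G.hom i) := h1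
  exact Groth.Agent.S2305.aux G.hom i

end Groth.Agent.Lead.LftDescD
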