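import Mathlib
import Groth.Agent.Lead.LftDescD
import Groth.Agent.Helper5.FibGrp13

set_option autoImplicit false
set_option linter.style.haveILetI false
universe u
open CategoryTheory MonoidalCategory CartesianMonoidalCategory MonObj GrpObj Limits AlgebraicGeometry

namespace Groth.Agent.Lead.LftDescE

/-- S5339 -/
theorem s5339 (A : Type u) [CommRing A] [IsArtinianRing A] [IsLocalRing A]
    (G : Over (Spec (CommRingCat.of A))) [GrpObj G] [Flat G.hom]
    (W : G.left.Opens) (hW : (W : Set G.left).Nonempty) :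
    (LocallyQuasiFinite (W.ι ≫ G.hom) → LocallyOfFiniteType (W.ι ≫ G.hom) →
      LocallyQuasiFinite G.hom ∧ LocallyOfFiniteType G.hom) ∧
    (FormallyUnramified (W.ι ≫ G.hom) → LocallyOfFinitePresentation (W.ι ≫ G.hom) →
      FormallyUnramified G.hom ∧ LocallyOfFinitePresentation G.hom) ∧
    (Smooth (W.ι ≫ G.hom) → Smooth G.hom) ∧ (Etale (W.ι ≫ G.hom) → Etale G.hom) := by
  have hu : (toUnit G).left = G.hom := rfl
  have main : LocallyOfFiniteType (W.ι ≫ G.hom) →
      LocallyOfFiniteType G.hom ∧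
      ((LocallyQuasiFinite (W.ι ≫ G.hom) → LocallyQuasiFinite G.hom) ∧
      (FormallyUnramified (W.ι ≫ G.hom) → LocallyOfFinitePresentation (W.ι ≫ G.hom) →
        FormallyUnramified G.hom ∧ LocallyOfFinitePresentation G.hom) ∧
      (Smooth (W.ι ≫ G.hom) → Smooth G.hom) ∧ (Etale (W.ι ≫ G.hom) → Etale G.hom)) := by
    intro hlft
    haveI := hlft
    haveI hG : LocallyOfFiniteType G.hom := LftDescD.lft_artinian A G W hW
    refine ⟨hG, ?_⟩
    have h := Groth.Agent.Helper5.FibGrp.s5337 A G (𝟙_ _) (toUnit G) W hW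
    rw [hu] at h
    exact h
  refine ⟨fun h1 h2 => ⟨(main h2).2.1 h1, (main h2).1⟩, fun h1 h2 => ?_, fun h => ?_, fun h => ?_⟩
  · haveI := h2
    exact (main inferInstance).2.2.1 h1 h2
  · haveI := h
    exact (main inferInstance).2.2.2.1 h
  · haveI := h
    exact (main inferInstance).2.2.2.2 h

end Groth.Agent.Lead.LftDescE
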