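import Groth.Agent.S4811
import Groth.Agent.Helper4.PullAmple
import Groth.Agent.Helper4.FinLocFree6
import Groth.Agent.Helper4.QAffSec
import Groth.Agent.Helper4.GenLoc

set_option autoImplicit false
universe u
open CategoryTheory CategoryTheory.Limits AlgebraicGeometry Opposite TopologicalSpace

namespace Groth.Agent.Lead.LimAmp

open Groth.Agent.Helper4.PullUnit Groth.Agent.Helper4.PullSec Groth.Agent.Helper4.PullTensor
  Groth.Agent.Helper4.PullAmple Groth.Agent.Helper4.AmpleIso Groth.Agent.Helper4.TensorInv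

section basic
variable {X : Scheme.{u}}

/-- genLocus is insensitive to automorphisms of the source -/
theorem genLocus_iso_comp {M : X.Modules} (α : Coh.structureModule X ≅ Coh.structureModule X)
    (u : Coh.structureModule X ⟶ M) :
    CohB1.genLocus M (α.hom ≫ u) = CohB1.genLocus M u := by
  unfold CohB1.genLocus
  congr 1
  ext U
  simp only [Set.mem_setOf_eq, Functor.map_comp]
  exact isIso_comp_left_iff _ _

theorem genLocus_eq_of_comm {M M' : X.Modules}
    (α : Coh.structureModule X ≅ Coh.structureModule X)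
    (β : M ≅ M') (u : Coh.structureModule X ⟶ M) (u' : Coh.structureModule X ⟶ M')
    (h : u ≫ β.hom = α.hom ≫ u') : CohB1.genLocus M u = CohB1.genLocus M' u' := by
  rw [← genLocus_comp_iso β u, h, genLocus_iso_comp]

end basic

section limit
variable {I : Type u} [SmallCategory I] [IsCofiltered I]
  (D : I ⥤ Scheme.{u}) (c : Cone D) (hc : IsLimit c)
  [∀ (i j : I) (f : i ⟶ j), IsAffineHom (D.map f)] (i₀ : I)
  (L₀ : (D.obj i₀).Modules) (hL₀ : PicF.IsInvertible L₀)

include hc hL₀ in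
theorem exists_stage_section [CompactSpace (D.obj i₀)] [QuasiSeparatedSpace (D.obj i₀)] (n : ℕ)
    (s : Coh.structureModule c.pt ⟶
      CohB1.tensorPow ((Scheme.Modules.pullback (c.π.app i₀)).obj L₀) n) :
    ∃ (j : I) (φ : j ⟶ i₀) (t : Coh.structureModule (D.obj j) ⟶
        CohB1.tensorPow ((Scheme.Modules.pullback (D.map φ)).obj L₀) n),
      (c.π.app j) ⁻¹ᵁ CohB1.genLocus _ t = CohB1.genLocus _ s := by
  haveI : Coh.IsQCoh (Coh.structureModule (D.obj i₀)) :=
    Groth.Agent.Helper4.QAffSec.isQuasicoherent_of_isInvertible _ isInvertible_structureModule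
  haveI : Coh.IsQCoh (CohB1.tensorPow L₀ n) :=
    Groth.Agent.Helper4.QAffSec.isQuasicoherent_of_isInvertible _ (isInvertible_tensorPow hL₀ n)
  obtain ⟨j, φ, hj, e⟩ := Groth.Agent.S4811.result D c hc i₀ (Coh.structureModule (D.obj i₀))
    (CohB1.tensorPow L₀ n) Groth.Agent.Helper4.FinLocFree6.isFinitePresentation_unit
    ((pullbackUnitIso (c.π.app i₀)).hom ≫ s ≫ (pullPowIso (c.π.app i₀) hL₀ n).inv)
  refine ⟨j, φ, (pullbackUnitIso (D.map φ)).inv ≫ hj ≫ (pullPowIso (D.map φ) hL₀ n).hom, ?_⟩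
  have hinv : PicF.IsInvertible
      (CohB1.tensorPow ((Scheme.Modules.pullback (D.map φ)).obj L₀) n) :=
    isInvertible_tensorPow (isInvertible_pullback (D.map φ) hL₀) n
  rw [← genLocus_pullSec (c.π.app j) hinv]
  symm
  generalize hAF : ((Scheme.Modules.pullbackComp (c.π.app j) (D.map φ) ≪≫
    Scheme.Modules.pullbackCongr (c.w φ)).app (Coh.structureModule (D.obj i₀))) = AF at e
  generalize hAG : ((Scheme.Modules.pullbackComp (c.π.app j) (D.map φ) ≪≫
    Scheme.Modules.pullbackCongr (c.w φ)).app (CohB1.tensorPow L₀ n)) = AG at e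
  have e' : AF.inv ≫ (Scheme.Modules.pullback (c.π.app j)).map hj =
      (pullbackUnitIso (c.π.app i₀)).hom ≫ s ≫ (pullPowIso (c.π.app i₀) hL₀ n).inv ≫ AG.inv := by
    rw [← cancel_mono AG.hom]
    simpa [Category.assoc] using e
  refine genLocus_eq_of_comm
    ((pullbackUnitIso (c.π.app i₀)).symm ≪≫ AF.symm ≪≫
      (Scheme.Modules.pullback (c.π.app j)).mapIso (pullbackUnitIso (D.map φ)) ≪≫
        pullbackUnitIso (c.π.app j))
    ((pullPowIso (c.π.app i₀) hL₀ n).symm ≪≫ AG.symm ≪≫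
      (Scheme.Modules.pullback (c.π.app j)).mapIso (pullPowIso (D.map φ) hL₀ n)) _ _ ?_
  unfold pullSec
  simp only [Iso.trans_hom, Iso.symm_hom, Functor.mapIso_hom, Category.assoc, Functor.map_comp,
    Iso.hom_inv_id_assoc, Iso.map_hom_inv_id_assoc]
  rw [reassoc_of% e']
  simp

end limit

section tower
variable {I : Type u} [SmallCategory I] [IsCofiltered I]
  (D : I ⥤ Scheme.{u}) (c : Cone D) (hc : IsLimit c)
  [∀ (i j : I) (f : i ⟶ j), IsAffineHom (D.map f)] (i₀ : I)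
  (L₀ : (D.obj i₀).Modules) (hL₀ : PicF.IsInvertible L₀)

/-- the pullback of `L₀` to the stage `j` -/
noncomputable abbrev Lj (j : Over i₀) : (D.obj j.left).Modules :=
  (Scheme.Modules.pullback (D.map j.hom)).obj L₀

noncomputable def trIso {j j' : Over i₀} (g : j' ⟶ j) :
    (Scheme.Modules.pullback (D.map g.left)).obj (Lj D i₀ L₀ j) ≅ Lj D i₀ L₀ j' :=
  (Scheme.Modules.pullbackComp (D.map g.left) (D.map j.hom)).app L₀ ≪≫
    (Scheme.Modules.pullbackCongr (by rw [← D.map_comp, Over.w g])).app L₀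

include hL₀ in
theorem exists_transport {j j' : Over i₀} (g : j' ⟶ j) (n : ℕ)
    (t : Coh.structureModule (D.obj j.left) ⟶ CohB1.tensorPow (Lj D i₀ L₀ j) n) :
    ∃ t' : Coh.structureModule (D.obj j'.left) ⟶ CohB1.tensorPow (Lj D i₀ L₀ j') n,
      CohB1.genLocus _ t' = (D.map g.left) ⁻¹ᵁ CohB1.genLocus _ t := by
  have hj : PicF.IsInvertible (Lj D i₀ L₀ j) := isInvertible_pullback (D.map j.hom) hL₀
  refine ⟨pullPowSec (D.map g.left) hj n t ≫ (tensorPowIso (trIso D i₀ L₀ g) n).hom, ?_⟩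
  rw [genLocus_comp_iso, genLocus_pullPowSec]

include hc in
theorem exists_affine_stage [∀ i, QuasiSeparatedSpace (D.obj i)] (j : Over i₀)
    (U : (D.obj j.left).Opens) (hUc : IsCompact (U : Set (D.obj j.left)))
    (hU : IsAffineOpen ((c.π.app j.left) ⁻¹ᵁ U)) :
    ∃ (j' : Over i₀) (g : j' ⟶ j), IsAffineOpen ((D.map g.left) ⁻¹ᵁ U) := by
  have h1 (k : Over j.left) : CompactSpace ((opensDiagram D j.left U).obj k) :=
    isCompact_iff_compactSpace.mp (QuasiCompact.isCompact_preimage _ U.2 hUc)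
  have h2 (k : Over j.left) : QuasiSeparatedSpace ((opensDiagram D j.left U).obj k) :=
    (isQuasiSeparated_iff_quasiSeparatedSpace _ (D.map _ ⁻¹ᵁ _).2).mp
      (.of_quasiSeparatedSpace _)
  have : IsAffine (opensCone D c j.left U).pt := hU
  obtain ⟨k, hk⟩ := Scheme.exists_isAffine_of_isLimit _ _ (isLimitOpensCone D c hc j.left U)
  exact ⟨Over.mk (k.hom ≫ j.hom), Over.homMk k.hom rfl, hk⟩

include hc hL₀ in
theorem exists_isAmple_stage [∀ i, CompactSpace (D.obj i)] [∀ i, QuasiSeparatedSpace (D.obj i)]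
    (h : CohB1.IsAmple ((Scheme.Modules.pullback (c.π.app i₀)).obj L₀)) :
    ∃ j : Over i₀, CohB1.IsAmple (Lj D i₀ L₀ j) := by
  classical
  obtain ⟨hinv, hcomp, hcov⟩ := h
  haveI hcomp' : CompactSpace ↥c.pt := hcomp
  have hcov' : ∀ x : c.pt, ∃ (n : ℕ) (s : Coh.structureModule c.pt ⟶
      CohB1.tensorPow ((Scheme.Modules.pullback (c.π.app i₀)).obj L₀) (n + 1)),
      x ∈ CohB1.genLocus _ s ∧ IsAffineOpen (CohB1.genLocus _ s) := hcov
  choose n s hx ha using hcov'
  obtain ⟨F, hF⟩ := isCompact_univ.elim_finite_subcover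
    (fun x : c.pt => ((CohB1.genLocus _ (s x) : c.pt.Opens) : Set c.pt))
    (fun x => (CohB1.genLocus _ (s x)).2) (fun x _ => Set.mem_iUnion.mpr ⟨x, hx x⟩)
  have step1 : ∀ x : c.pt, ∃ (j : Over i₀) (t : Coh.structureModule (D.obj j.left) ⟶
      CohB1.tensorPow (Lj D i₀ L₀ j) (n x + 1)),
      IsAffineOpen (CohB1.genLocus _ t) ∧
        (c.π.app j.left) ⁻¹ᵁ CohB1.genLocus _ t = CohB1.genLocus _ (s x) := by
    intro x
    obtain ⟨j₁, φ₁, t₁, e₁⟩ := exists_stage_section D c hc i₀ L₀ hL₀ (n x + 1) (s x)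
    have hinv₁ : PicF.IsInvertible
        (CohB1.tensorPow ((Scheme.Modules.pullback (D.map φ₁)).obj L₀) (n x + 1)) :=
      isInvertible_tensorPow (isInvertible_pullback (D.map φ₁) hL₀) _
    have hcpt : IsCompact ((CohB1.genLocus _ t₁ : (D.obj j₁).Opens) : Set (D.obj j₁)) := by
      haveI := Groth.Agent.Helper4.GenLoc.isAffineHom_genLocus_ι _ hinv₁ t₁
      have h3 := QuasiCompact.isCompact_preimage (f := (CohB1.genLocus _ t₁).ι)
        (U := Set.univ) isOpen_univ isCompact_univ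
      have h4 := h3.image (CohB1.genLocus _ t₁).ι.continuous
      rw [Set.preimage_univ, Set.image_univ, Scheme.Opens.range_ι] at h4
      exact h4
    obtain ⟨j₂, g, hg⟩ := exists_affine_stage D c hc i₀ (Over.mk φ₁) (CohB1.genLocus _ t₁) hcpt
      (by show IsAffineOpen ((c.π.app j₁) ⁻¹ᵁ _); rw [e₁]; exact ha x)
    obtain ⟨t₂, e₂⟩ := exists_transport D i₀ L₀ hL₀ g (n x + 1) t₁
    refine ⟨j₂, t₂, by rw [e₂]; exact hg, ?_⟩
    rw [e₂, ← Scheme.Hom.comp_preimage, c.w]
    exact e₁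
  choose jx tx hax hex using step1
  obtain ⟨j, hj⟩ := IsCofiltered.inf_objs_exists (F.image jx)
  let g : ∀ x : {x // x ∈ F}, j ⟶ jx x.1 :=
    fun x => (hj (Finset.mem_image_of_mem _ x.2)).some
  let U : (D.obj j.left).Opens :=
    ⨆ x : {x // x ∈ F}, (D.map (g x).left) ⁻¹ᵁ CohB1.genLocus _ (tx x.1)
  have hU : (c.π.app j.left) ⁻¹ᵁ U = ⊤ := by
    rw [eq_top_iff]
    intro y _
    have hy := hF (Set.mem_univ y)
    simp only [Set.mem_iUnion] at hy
    obtain ⟨x, hxF, hyx⟩ := hy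
    rw [Scheme.Hom.preimage_iSup]
    refine TopologicalSpace.Opens.mem_iSup.mpr ⟨⟨x, hxF⟩, ?_⟩
    rw [← Scheme.Hom.comp_preimage, c.w, hex]
    exact hyx
  obtain ⟨k, f, hf⟩ := exists_map_eq_top D c hc U hU
  let j' : Over i₀ := Over.mk (f ≫ j.hom)
  let g' : j' ⟶ j := Over.homMk f rfl
  have step2 : ∀ x : {x // x ∈ F}, ∃ t' : Coh.structureModule (D.obj j'.left) ⟶
      CohB1.tensorPow (Lj D i₀ L₀ j') (n x.1 + 1),
      CohB1.genLocus _ t' = (D.map f) ⁻¹ᵁ ((D.map (g x).left) ⁻¹ᵁ CohB1.genLocus _ (tx x.1)) := by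
    intro x
    obtain ⟨t', e'⟩ := exists_transport D i₀ L₀ hL₀ (g' ≫ g x) (n x.1 + 1) (tx x.1)
    refine ⟨t', ?_⟩
    rw [e', ← Scheme.Hom.comp_preimage, ← D.map_comp]
    rfl
  choose t' ht' using step2
  refine ⟨j', isInvertible_pullback _ hL₀, inferInstance, fun y => ?_⟩
  have hy : y ∈ (D.map f) ⁻¹ᵁ U := by rw [hf]; trivial
  rw [Scheme.Hom.preimage_iSup] at hy
  obtain ⟨x, hyx⟩ := TopologicalSpace.Opens.mem_iSup.mp hy
  refine ⟨n x.1, t' x, by rw [ht']; exact hyx, ?_⟩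
  rw [ht']
  exact ((hax x.1).preimage (D.map (g x).left)).preimage (D.map f)

end tower

end Groth.Agent.Lead.LimAmp
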