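import Groth.Agent.Lead.LimAmpA
import Groth.Agent.Lead.LimHom

set_option autoImplicit false
universe u
open CategoryTheory CategoryTheory.Limits AlgebraicGeometry Opposite TopologicalSpace

namespace Groth.Agent.Lead.LimAmp

open Groth.Agent.Helper4.PullUnit Groth.Agent.Helper4.PullSec Groth.Agent.Helper4.PullTensor
  Groth.Agent.Helper4.PullAmple Groth.Agent.Helper4.AmpleIso Groth.Agent.Helper4.TensorInv
  Groth.Agent.Lead.LimPullback Groth.Agent.Lead.LimHom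

section transfer

/-- transfer of ampleness along an affine morphism commuting with maps to a common base -/
theorem isAmple_transfer {A B T₀ : Scheme.{u}} (u : A ⟶ B) [IsAffineHom u] (qA : A ⟶ T₀)
    (qB : B ⟶ T₀) (huq : u ≫ qB = qA) (M₀ : T₀.Modules)
    (h : CohB1.IsAmple ((Scheme.Modules.pullback qB).obj M₀)) :
    CohB1.IsAmple ((Scheme.Modules.pullback qA).obj M₀) :=
  isAmple_of_iso ((Scheme.Modules.pullbackComp u qB).app M₀ ≪≫
    (Scheme.Modules.pullbackCongr huq).app M₀) (isAmple_pullback_of_isAffineHom u h)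

/-- the induced map between two base changes of `h₀` along `σ = τ ≫ σ'` is a base change of `τ` -/
theorem exists_affine_lift {T T' T₀ S₀ S' S'' : Scheme.{u}} {h₀ : T₀ ⟶ S₀} {σ : S' ⟶ S₀}
    {σ' : S'' ⟶ S₀} {q : T ⟶ T₀} {p : T ⟶ S'} {q' : T' ⟶ T₀} {p' : T' ⟶ S''}
    (hT : IsPullback q p h₀ σ) (hT' : IsPullback q' p' h₀ σ') (τ : S' ⟶ S'') [IsAffineHom τ]
    (hτ : τ ≫ σ' = σ) : ∃ u : T ⟶ T', IsAffineHom u ∧ u ≫ q' = q := by
  have hw : q ≫ h₀ = (p ≫ τ) ≫ σ' := by rw [Category.assoc, hτ, hT.w]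
  refine ⟨hT'.lift q (p ≫ τ) hw, ?_, hT'.lift_fst _ _ _⟩
  have hsq : IsPullback (hT'.lift q (p ≫ τ) hw) p p' τ := by
    refine IsPullback.of_right ?_ (hT'.lift_snd _ _ _) hT'
    rw [hT'.lift_fst, hτ]
    exact hT
  exact MorphismProperty.of_isPullback (P := @IsAffineHom) hsq.flip inferInstance

theorem isAmple_of_squares {T T' T₀ S₀ S' S'' : Scheme.{u}} {h₀ : T₀ ⟶ S₀} {σ : S' ⟶ S₀}
    {σ' : S'' ⟶ S₀} {q : T ⟶ T₀} {p : T ⟶ S'} {q' : T' ⟶ T₀} {p' : T' ⟶ S''}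
    (hT : IsPullback q p h₀ σ) (hT' : IsPullback q' p' h₀ σ') (τ : S' ⟶ S'') [IsAffineHom τ]
    (hτ : τ ≫ σ' = σ) (M₀ : T₀.Modules)
    (h : CohB1.IsAmple ((Scheme.Modules.pullback q').obj M₀)) :
    CohB1.IsAmple ((Scheme.Modules.pullback q).obj M₀) := by
  obtain ⟨u, hu, huq⟩ := exists_affine_lift hT hT' τ hτ
  exact isAmple_transfer u q q' huq M₀ h

end transfer

section K
variable {I : Type u} [SmallCategory I] [IsCofiltered I]
  (D : I ⥤ Scheme.{u}) (c : Cone D) (hc : IsLimit c)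
  [∀ (i j : I) (f : i ⟶ j), IsAffineHom (D.map f)] (i₀ : I)
  {T₀ : Scheme.{u}} [CompactSpace T₀] [QuasiSeparatedSpace T₀] (h₀ : T₀ ⟶ D.obj i₀)
  (M₀ : T₀.Modules) (hM₀ : PicF.IsInvertible M₀)

include hc hM₀ in
set_option backward.isDefEq.respectTransparency false in
/-- absolute ampleness descends from the limit of base changes to a stage (and all later ones) -/
theorem exists_stage_isAmple_baseChange {T : Scheme.{u}} (q : T ⟶ T₀) (p : T ⟶ c.pt)
    (hT : IsPullback q p h₀ (c.π.app i₀))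
    (h : CohB1.IsAmple ((Scheme.Modules.pullback q).obj M₀)) :
    ∃ j : Over i₀, ∀ (j' : Over i₀) (_ : j' ⟶ j) (T' : Scheme.{u}) (q' : T' ⟶ T₀)
      (p' : T' ⟶ D.obj j'.left), IsPullback q' p' h₀ (D.map j'.hom) →
        CohB1.IsAmple ((Scheme.Modules.pullback q').obj M₀) := by
  haveI hA : ∀ {i j : I} (f : i ⟶ j), IsAffineHom (D.map f) := fun f => inferInstance
  haveI : ∀ (a b : Over i₀) (f : a ⟶ b), IsAffineHom ((pbDiag D i₀ h₀).map f) :=
    fun a b f => isAffineHom_pbDiag_map i₀ h₀ f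
  haveI : ∀ a : Over i₀, CompactSpace ((pbDiag D i₀ h₀).obj a) :=
    fun a => compactSpace_pbDiag D i₀ h₀ a
  haveI : ∀ a : Over i₀, QuasiSeparatedSpace ((pbDiag D i₀ h₀).obj a) :=
    fun a => quasiSeparatedSpace_pbDiag D i₀ h₀ a
  -- ampleness on the canonical limit
  have hcan : IsPullback (pullback.snd (c.π.app i₀) h₀) (pullback.fst (c.π.app i₀) h₀) h₀
      (c.π.app i₀) := (IsPullback.of_hasPullback _ _).flip
  have h1 : CohB1.IsAmple ((Scheme.Modules.pullback (pullback.snd (c.π.app i₀) h₀)).obj M₀) :=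
    isAmple_of_squares hcan hT (𝟙 _) (Category.id_comp _) M₀ h
  let ι₀ : Over i₀ := Over.mk (𝟙 i₀)
  let M₀' : ((pbDiag D i₀ h₀).obj ι₀).Modules :=
    (Scheme.Modules.pullback (pullback.snd (D.map ι₀.hom) h₀)).obj M₀
  have hM₀' : PicF.IsInvertible M₀' := isInvertible_pullback _ hM₀
  have hπ : (pbCone D c i₀ h₀).π.app ι₀ ≫ pullback.snd (D.map ι₀.hom) h₀ =
      pullback.snd (c.π.app i₀) h₀ := by simp [pbCone]
  have h2 : CohB1.IsAmple ((Scheme.Modules.pullback ((pbCone D c i₀ h₀).π.app ι₀)).obj M₀') :=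
    isAmple_of_iso ((Scheme.Modules.pullbackComp _ _).app M₀ ≪≫
      (Scheme.Modules.pullbackCongr hπ).app M₀).symm h1
  obtain ⟨J, hJ⟩ := exists_isAmple_stage (pbDiag D i₀ h₀) (pbCone D c i₀ h₀)
    (pbConeIsLimit i₀ h₀ hc) ι₀ M₀' hM₀' h2
  have hJ' : (pbDiag D i₀ h₀).map J.hom ≫ pullback.snd (D.map ι₀.hom) h₀ =
      pullback.snd (D.map J.left.hom) h₀ := by simp [pbDiag]
  have h3 : CohB1.IsAmple
      ((Scheme.Modules.pullback (pullback.snd (D.map J.left.hom) h₀)).obj M₀) :=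
    isAmple_of_iso ((Scheme.Modules.pullbackComp _ _).app M₀ ≪≫
      (Scheme.Modules.pullbackCongr hJ').app M₀) hJ
  refine ⟨J.left, fun j' g T' q' p' hT' => ?_⟩
  have hcanJ : IsPullback (pullback.snd (D.map J.left.hom) h₀) (pullback.fst (D.map J.left.hom) h₀)
      h₀ (D.map J.left.hom) := (IsPullback.of_hasPullback _ _).flip
  exact isAmple_of_squares hT' hcanJ (D.map g.left) (by rw [← D.map_comp, Over.w g]) M₀ h3

end K

end Groth.Agent.Lead.LimAmp
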