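import Groth.Agent.Lead.LimAmpB
import Groth.Agent.S4380
import Groth.Agent.S4381

set_option autoImplicit false
universe u
open CategoryTheory CategoryTheory.Limits AlgebraicGeometry Opposite TopologicalSpace

namespace Groth.Agent.Lead.LimAmp

open Groth.Agent.Helper4.PullUnit Groth.Agent.Helper4.PullSec Groth.Agent.Helper4.PullTensor
  Groth.Agent.Helper4.PullAmple Groth.Agent.Helper4.AmpleIso Groth.Agent.Helper4.TensorInv
  Groth.Agent.Lead.LimPullback Groth.Agent.Lead.LimHom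

section restr

theorem restrict_square {X' X₀ S' S₀ : Scheme.{u}} {k₀ : X₀ ⟶ S₀} {σ : S' ⟶ S₀} {qX : X' ⟶ X₀}
    {pS : X' ⟶ S'} (hbig : IsPullback qX pS k₀ σ) (T₀ : X₀.Opens) :
    IsPullback (qX ∣_ T₀) ((qX ⁻¹ᵁ T₀).ι ≫ pS) (T₀.ι ≫ k₀) σ :=
  (isPullback_morphismRestrict qX T₀).paste_vert hbig

theorem isAmple_restrict_iff {X X₀ Y Y₀ : Scheme.{u}} (f₀ : X₀ ⟶ Y₀) (f : X ⟶ Y) (qX : X ⟶ X₀)
    (qY : Y ⟶ Y₀) (w : qX ≫ f₀ = f ≫ qY) (L₀ : X₀.Modules) (V : Y₀.Opens) :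
    CohB1.IsAmple (((Scheme.Modules.pullback qX).obj L₀).restrict (f ⁻¹ᵁ (qY ⁻¹ᵁ V)).ι) ↔
      CohB1.IsAmple ((Scheme.Modules.pullback (qX ∣_ (f₀ ⁻¹ᵁ V))).obj
        (L₀.restrict (f₀ ⁻¹ᵁ V).ι)) := by
  have e : f ⁻¹ᵁ (qY ⁻¹ᵁ V) = qX ⁻¹ᵁ (f₀ ⁻¹ᵁ V) := by
    rw [← Scheme.Hom.comp_preimage, ← Scheme.Hom.comp_preimage, w]
  rw [e]
  exact isAmple_iff_of_iso (resPullIso qX (f₀ ⁻¹ᵁ V) L₀)

theorem qcqs_preimage {X₀ Y₀ S₀ : Scheme.{u}} (f₀ : X₀ ⟶ Y₀) (g₀ : Y₀ ⟶ S₀) [QuasiSeparated g₀]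
    [QuasiCompact (f₀ ≫ g₀)] [QuasiSeparated (f₀ ≫ g₀)] (V : Y₀.affineOpens) :
    CompactSpace (f₀ ⁻¹ᵁ V.1).toScheme ∧ QuasiSeparatedSpace (f₀ ⁻¹ᵁ V.1).toScheme := by
  haveI : QuasiCompact f₀ := QuasiCompact.of_comp f₀ g₀
  haveI : QuasiSeparated f₀ := QuasiSeparated.of_comp f₀ g₀
  haveI : IsAffine V.1.toScheme := V.2
  refine ⟨isCompact_iff_compactSpace.mp
    (QuasiCompact.isCompact_preimage (f := f₀) _ V.1.2 V.2.isCompact), ?_⟩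
  exact quasiSeparatedSpace_of_quasiSeparated (f₀ ∣_ V.1)

end restr

section main
variable {I : Type u} [SmallCategory I] [IsCofiltered I]
  (D : I ⥤ Scheme.{u}) (c : Cone D) (hc : IsLimit c)
  [∀ (i j : I) (f : i ⟶ j), IsAffineHom (D.map f)] (i₀ : I)
  {X₀ Y₀ : Scheme.{u}} (f₀ : X₀ ⟶ Y₀) (g₀ : Y₀ ⟶ D.obj i₀)
  [QuasiCompact g₀] [QuasiSeparated g₀] [QuasiCompact (f₀ ≫ g₀)] [QuasiSeparated (f₀ ≫ g₀)]
  (L₀ : X₀.Modules) (hL₀ : PicF.IsInvertible L₀)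

include hc hL₀ in
/-- the local step of the forward direction -/
theorem exists_stage_local {X Y : Scheme.{u}} (f : X ⟶ Y) (g : Y ⟶ c.pt) (qY : Y ⟶ Y₀)
    (qX : X ⟶ X₀) (hY : IsPullback qY g g₀ (c.π.app i₀)) (hX : IsPullback qX f f₀ qY)
    (hRA : RelAmple.IsRelAmple f ((Scheme.Modules.pullback qX).obj L₀)) (V : Y₀.affineOpens) :
    ∃ j : Over i₀, ∀ (j' : Over i₀) (_ : j' ⟶ j) (Xj Yj : Scheme.{u}) (fj : Xj ⟶ Yj)
      (gj : Yj ⟶ D.obj j'.left) (pY : Yj ⟶ Y₀) (pX : Xj ⟶ X₀),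
      IsPullback pY gj g₀ (D.map j'.hom) → IsPullback pX fj f₀ pY →
        CohB1.IsAmple (((Scheme.Modules.pullback pX).obj L₀).restrict
          (fj ⁻¹ᵁ (pY ⁻¹ᵁ V.1)).ι) := by
  obtain ⟨hcpt, hqs⟩ := qcqs_preimage f₀ g₀ V
  haveI := hcpt
  haveI := hqs
  haveI : IsAffineHom (c.π.app i₀) := isAffineHom_π_app D c hc i₀
  haveI : IsAffineHom qY := MorphismProperty.of_isPullback (P := @IsAffineHom) hY.flip inferInstance
  have hlim := restrict_square (hX.paste_vert hY) (f₀ ⁻¹ᵁ V.1)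
  have hamp : CohB1.IsAmple ((Scheme.Modules.pullback (qX ∣_ (f₀ ⁻¹ᵁ V.1))).obj
      (L₀.restrict (f₀ ⁻¹ᵁ V.1).ι)) :=
    (isAmple_restrict_iff f₀ f qX qY hX.w L₀ V.1).mp (hRA.2 ⟨qY ⁻¹ᵁ V.1, V.2.preimage qY⟩)
  obtain ⟨j, hj⟩ := exists_stage_isAmple_baseChange D c hc i₀ ((f₀ ⁻¹ᵁ V.1).ι ≫ f₀ ≫ g₀)
    (L₀.restrict (f₀ ⁻¹ᵁ V.1).ι) (Groth.Agent.Helper4.QAffSec.isInvertible_restrict _ hL₀)
    _ _ hlim hamp
  refine ⟨j, fun j' gg Xj Yj fj gj pY pX hYj hXj => ?_⟩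
  rw [isAmple_restrict_iff f₀ fj pX pY hXj.w L₀ V.1]
  exact hj j' gg _ _ _ (restrict_square (hXj.paste_vert hYj) (f₀ ⁻¹ᵁ V.1))

include hc hL₀ in
theorem isRelAmple_iff_eventually [CompactSpace (D.obj i₀)] {X Y : Scheme.{u}} (f : X ⟶ Y)
    (g : Y ⟶ c.pt) (qY : Y ⟶ Y₀) (qX : X ⟶ X₀)
    (hY : IsPullback qY g g₀ (c.π.app i₀)) (hX : IsPullback qX f f₀ qY) :
    RelAmple.IsRelAmple f ((Scheme.Modules.pullback qX).obj L₀) ↔
      ∃ (j : I) (φ : j ⟶ i₀) (Xj Yj : Scheme.{u}) (fj : Xj ⟶ Yj) (gj : Yj ⟶ D.obj j)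
        (pY : Yj ⟶ Y₀) (pX : Xj ⟶ X₀), IsPullback pY gj g₀ (D.map φ) ∧ IsPullback pX fj f₀ pY ∧
          RelAmple.IsRelAmple fj ((Scheme.Modules.pullback pX).obj L₀) := by
  classical
  haveI : QuasiCompact f₀ := QuasiCompact.of_comp f₀ g₀
  haveI : IsAffineHom (c.π.app i₀) := isAffineHom_π_app D c hc i₀
  constructor
  · intro hRA
    haveI : CompactSpace Y₀ := QuasiCompact.compactSpace_of_compactSpace g₀
    obtain ⟨Fs, hFs⟩ := isCompact_univ.elim_finite_subcover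
      (fun V : Y₀.affineOpens => ((V.1 : Y₀.Opens) : Set Y₀)) (fun V => V.1.2) (fun y _ => by
        obtain ⟨V, hV, hyV, -⟩ := exists_isAffineOpen_mem_and_subset (x := y)
          (U := (⊤ : Y₀.Opens)) trivial
        exact Set.mem_iUnion.mpr ⟨⟨V, hV⟩, hyV⟩)
    choose jV hjV using exists_stage_local D c hc i₀ f₀ g₀ L₀ hL₀ f g qY qX hY hX hRA
    obtain ⟨j, hj⟩ := IsCofiltered.inf_objs_exists (Fs.image jV)
    have gV : ∀ V ∈ Fs, j ⟶ jV V := fun V hV => (hj (Finset.mem_image_of_mem _ hV)).some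
    refine ⟨j.left, j.hom, pullback f₀ (pullback.fst g₀ (D.map j.hom)), pullback g₀ (D.map j.hom),
      pullback.snd _ _, pullback.snd _ _, pullback.fst _ _, pullback.fst _ _,
      IsPullback.of_hasPullback _ _, IsPullback.of_hasPullback _ _, ?_⟩
    haveI : IsAffineHom (pullback.fst g₀ (D.map j.hom)) :=
      MorphismProperty.of_isPullback (P := @IsAffineHom)
        (IsPullback.of_hasPullback g₀ (D.map j.hom)).flip inferInstance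
    have hU : ⨆ V : {V // V ∈ Fs}, (pullback.fst g₀ (D.map j.hom)) ⁻¹ᵁ V.1.1 = ⊤ := by
      rw [eq_top_iff]
      intro y _
      have hy := hFs (Set.mem_univ ((pullback.fst g₀ (D.map j.hom)) y))
      simp only [Set.mem_iUnion] at hy
      obtain ⟨V, hV, hyV⟩ := hy
      exact TopologicalSpace.Opens.mem_iSup.mpr ⟨⟨V, hV⟩, hyV⟩
    refine (Groth.Agent.S4380.result (pullback.snd f₀ (pullback.fst g₀ (D.map j.hom))) _
      (fun V : {V // V ∈ Fs} => (pullback.fst g₀ (D.map j.hom)) ⁻¹ᵁ V.1.1) hU).mpr fun V => ?_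
    haveI : IsAffine ((pullback.fst g₀ (D.map j.hom)) ⁻¹ᵁ V.1.1).toScheme :=
      V.1.2.preimage (pullback.fst g₀ (D.map j.hom))
    refine (Groth.Agent.S4381.result _ _).mpr ?_
    exact hjV V.1 j (gV V.1 V.2) _ _ _ _ _ _ (IsPullback.of_hasPullback _ _)
      (IsPullback.of_hasPullback _ _)
  · rintro ⟨j, φ, Xj, Yj, fj, gj, pY, pX, hYj, hXj, hRAj⟩
    haveI : QuasiCompact f := MorphismProperty.of_isPullback (P := @QuasiCompact) hX inferInstance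
    haveI : IsAffineHom qY :=
      MorphismProperty.of_isPullback (P := @IsAffineHom) hY.flip inferInstance
    haveI : IsAffineHom pY :=
      MorphismProperty.of_isPullback (P := @IsAffineHom) hYj.flip inferInstance
    haveI : IsAffineHom (c.π.app j) := isAffineHom_π_app D c hc j
    have hU : ⨆ V : Y₀.affineOpens, qY ⁻¹ᵁ V.1 = ⊤ := by
      rw [eq_top_iff]
      intro y _
      obtain ⟨V, hV, hyV, -⟩ := exists_isAffineOpen_mem_and_subset (x := qY y)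
        (U := (⊤ : Y₀.Opens)) trivial
      exact TopologicalSpace.Opens.mem_iSup.mpr ⟨⟨V, hV⟩, hyV⟩
    refine (Groth.Agent.S4380.result f _ (fun V : Y₀.affineOpens => qY ⁻¹ᵁ V.1) hU).mpr
      fun V => ?_
    haveI : IsAffine (qY ⁻¹ᵁ V.1).toScheme := V.2.preimage qY
    refine (Groth.Agent.S4381.result _ _).mpr ?_
    rw [isAmple_restrict_iff f₀ f qX qY hX.w L₀ V.1]
    have h1 := (isAmple_restrict_iff f₀ fj pX pY hXj.w L₀ V.1).mp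
      (hRAj.2 ⟨pY ⁻¹ᵁ V.1, V.2.preimage pY⟩)
    exact isAmple_of_squares (restrict_square (hX.paste_vert hY) (f₀ ⁻¹ᵁ V.1))
      (restrict_square (hXj.paste_vert hYj) (f₀ ⁻¹ᵁ V.1)) (c.π.app j) (c.w φ) _ h1

end main

end Groth.Agent.Lead.LimAmp
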