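import Groth.Agent.Lead.LimAmpC
import Groth.Agent.Helper4.CounitGG
import Groth.Agent.Helper4.GGSec

set_option autoImplicit false
universe u
open CategoryTheory CategoryTheory.Limits AlgebraicGeometry Opposite TopologicalSpace

namespace Groth.Agent.Lead.LimAmp

open Groth.Agent.Helper4.PullUnit Groth.Agent.Helper4.PullSec Groth.Agent.Helper4.PullTensor
  Groth.Agent.Helper4.PullAmple Groth.Agent.Helper4.AmpleIso Groth.Agent.Helper4.TensorInv
  Groth.Agent.Lead.LimPullback Groth.Agent.Lead.LimHom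
  Groth.Agent.Helper4.CounitEpi Groth.Agent.Helper4.CounitGG Groth.Agent.Helper4.GGSec
  Groth.Agent.Helper4.GenLocIso

section gg
variable {X : Scheme.{u}}

theorem isGloballyGenerated_of_cover (L : X.Modules) {ι : Type u}
    (t : ι → (Coh.structureModule X ⟶ L)) (hcov : ∀ x : X, ∃ i, x ∈ CohB1.genLocus L (t i)) :
    Curv2.IsGloballyGenerated L := by
  let σ : ι → L.sections := fun i => L.unitHomEquiv (t i)
  let p : (SheafOfModules.free ι : X.Modules) ⟶ L := L.freeHomEquiv.symm σ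
  have hp : ∀ i, SheafOfModules.ιFree i ≫ p = t i := fun i => by
    rw [← SheafOfModules.unitHomEquiv_symm_freeHomEquiv_apply]
    simp [p, σ]
  refine ⟨ι, p, ?_⟩
  suffices key : ∀ (Q : X.Modules) (g : L ⟶ Q), p ≫ g = 0 → g = 0 from
    Preadditive.epi_of_cancel_zero _ (fun {Q} g hg => key Q g hg)
  intro Q g hg
  refine eq_zero_of_restrict_map_eq_zero L Q g (fun i => CohB1.genLocus L (t i)) hcov fun i => ?_
  have h1 : t i ≫ g = 0 := by
    have h2 := congrArg (fun φ => φ ≫ g) (hp i)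
    have h3 : SheafOfModules.ιFree i ≫ (p ≫ g) = 0 := hg ▸ comp_zero
    exact h2.symm.trans ((Category.assoc _ _ _).trans h3)
  haveI := isIso_restrict_genLocus L (t i)
  rw [← cancel_epi ((Scheme.Modules.restrictFunctor (CohB1.genLocus L (t i)).ι).map (t i)),
    ← Functor.map_comp, h1]
  simp

theorem gg_transfer {A B T₀ : Scheme.{u}} (u : A ⟶ B) (qA : A ⟶ T₀)
    (qB : B ⟶ T₀) (huq : u ≫ qB = qA) (M₀ : T₀.Modules)
    (h : Curv2.IsGloballyGenerated ((Scheme.Modules.pullback qB).obj M₀)) :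
    Curv2.IsGloballyGenerated ((Scheme.Modules.pullback qA).obj M₀) :=
  isGloballyGenerated_of_iso ((Scheme.Modules.pullbackComp u qB).app M₀ ≪≫
    (Scheme.Modules.pullbackCongr huq).app M₀) (isGloballyGenerated_pullback u h)

theorem gg_of_squares {T T' T₀ S₀ S' S'' : Scheme.{u}} {h₀ : T₀ ⟶ S₀} {σ : S' ⟶ S₀}
    {σ' : S'' ⟶ S₀} {q : T ⟶ T₀} {p : T ⟶ S'} {q' : T' ⟶ T₀} {p' : T' ⟶ S''}
    (hT : IsPullback q p h₀ σ) (hT' : IsPullback q' p' h₀ σ') (τ : S' ⟶ S'')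
    (hτ : τ ≫ σ' = σ) (M₀ : T₀.Modules)
    (h : Curv2.IsGloballyGenerated ((Scheme.Modules.pullback q').obj M₀)) :
    Curv2.IsGloballyGenerated ((Scheme.Modules.pullback q).obj M₀) := by
  have hw : q ≫ h₀ = (p ≫ τ) ≫ σ' := by rw [Category.assoc, hτ, hT.w]
  exact gg_transfer (hT'.lift q (p ≫ τ) hw) q q' (hT'.lift_fst _ _ _) M₀ h

theorem gg_restrict_iff {X X₀ Y Y₀ : Scheme.{u}} (f₀ : X₀ ⟶ Y₀) (f : X ⟶ Y) (qX : X ⟶ X₀)
    (qY : Y ⟶ Y₀) (w : qX ≫ f₀ = f ≫ qY) (L₀ : X₀.Modules) (V : Y₀.Opens) :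
    Curv2.IsGloballyGenerated
        (((Scheme.Modules.pullback qX).obj L₀).restrict (f ⁻¹ᵁ (qY ⁻¹ᵁ V)).ι) ↔
      Curv2.IsGloballyGenerated ((Scheme.Modules.pullback (qX ∣_ (f₀ ⁻¹ᵁ V))).obj
        (L₀.restrict (f₀ ⁻¹ᵁ V).ι)) := by
  have e : f ⁻¹ᵁ (qY ⁻¹ᵁ V) = qX ⁻¹ᵁ (f₀ ⁻¹ᵁ V) := by
    rw [← Scheme.Hom.comp_preimage, ← Scheme.Hom.comp_preimage, w]
  rw [e]
  exact ⟨isGloballyGenerated_of_iso (resPullIso qX (f₀ ⁻¹ᵁ V) L₀),
    isGloballyGenerated_of_iso (resPullIso qX (f₀ ⁻¹ᵁ V) L₀).symm⟩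

end gg

section limit2
variable {I : Type u} [SmallCategory I] [IsCofiltered I]
  (D : I ⥤ Scheme.{u}) (c : Cone D) (hc : IsLimit c)
  [∀ (i j : I) (f : i ⟶ j), IsAffineHom (D.map f)] (i₀ : I)
  (N₀ : (D.obj i₀).Modules) (hN₀ : PicF.IsInvertible N₀)

include hc hN₀ in
theorem exists_stage_section' [CompactSpace (D.obj i₀)] [QuasiSeparatedSpace (D.obj i₀)]
    (s : Coh.structureModule c.pt ⟶ (Scheme.Modules.pullback (c.π.app i₀)).obj N₀) :
    ∃ (j : I) (φ : j ⟶ i₀) (t : Coh.structureModule (D.obj j) ⟶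
        (Scheme.Modules.pullback (D.map φ)).obj N₀),
      (c.π.app j) ⁻¹ᵁ CohB1.genLocus _ t = CohB1.genLocus _ s := by
  haveI : Coh.IsQCoh (Coh.structureModule (D.obj i₀)) :=
    Groth.Agent.Helper4.QAffSec.isQuasicoherent_of_isInvertible _ isInvertible_structureModule
  haveI : Coh.IsQCoh N₀ :=
    Groth.Agent.Helper4.QAffSec.isQuasicoherent_of_isInvertible _ hN₀
  obtain ⟨j, φ, hj, e⟩ := Groth.Agent.S4811.result D c hc i₀ (Coh.structureModule (D.obj i₀))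
    N₀ Groth.Agent.Helper4.FinLocFree6.isFinitePresentation_unit
    ((pullbackUnitIso (c.π.app i₀)).hom ≫ s)
  refine ⟨j, φ, (pullbackUnitIso (D.map φ)).inv ≫ hj, ?_⟩
  rw [← genLocus_pullSec (c.π.app j) (isInvertible_pullback (D.map φ) hN₀)]
  symm
  generalize hAF : ((Scheme.Modules.pullbackComp (c.π.app j) (D.map φ) ≪≫
    Scheme.Modules.pullbackCongr (c.w φ)).app (Coh.structureModule (D.obj i₀))) = AF at e
  generalize hAG : ((Scheme.Modules.pullbackComp (c.π.app j) (D.map φ) ≪≫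
    Scheme.Modules.pullbackCongr (c.w φ)).app N₀) = AG at e
  have e' : AF.inv ≫ (Scheme.Modules.pullback (c.π.app j)).map hj =
      (pullbackUnitIso (c.π.app i₀)).hom ≫ s ≫ AG.inv := by
    rw [← cancel_mono AG.hom]
    simpa [Category.assoc] using e
  refine genLocus_eq_of_comm
    ((pullbackUnitIso (c.π.app i₀)).symm ≪≫ AF.symm ≪≫
      (Scheme.Modules.pullback (c.π.app j)).mapIso (pullbackUnitIso (D.map φ)) ≪≫
        pullbackUnitIso (c.π.app j)) AG.symm _ _ ?_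
  unfold pullSec
  simp only [Iso.trans_hom, Iso.symm_hom, Functor.mapIso_hom, Category.assoc, Functor.map_comp,
    Iso.hom_inv_id_assoc, Iso.map_hom_inv_id_assoc]
  rw [e']
  simp

include hN₀ in
theorem exists_transport' {j j' : Over i₀} (g : j' ⟶ j)
    (t : Coh.structureModule (D.obj j.left) ⟶ Lj D i₀ N₀ j) :
    ∃ t' : Coh.structureModule (D.obj j'.left) ⟶ Lj D i₀ N₀ j',
      CohB1.genLocus _ t' = (D.map g.left) ⁻¹ᵁ CohB1.genLocus _ t := by
  refine ⟨pullSec (D.map g.left) t ≫ (trIso D i₀ N₀ g).hom, ?_⟩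
  rw [genLocus_comp_iso, genLocus_pullSec _ (isInvertible_pullback (D.map j.hom) hN₀)]

include hc hN₀ in
theorem exists_gg_stage [∀ i, CompactSpace (D.obj i)] [∀ i, QuasiSeparatedSpace (D.obj i)]
    (h : Curv2.IsGloballyGenerated ((Scheme.Modules.pullback (c.π.app i₀)).obj N₀)) :
    ∃ j : Over i₀, Curv2.IsGloballyGenerated (Lj D i₀ N₀ j) := by
  classical
  haveI : CompactSpace c.pt := Scheme.compactSpace_of_isLimit D c hc
  have hinv := isInvertible_pullback (c.π.app i₀) hN₀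
  have h0 : ∀ x : c.pt, ∃ t : Coh.structureModule c.pt ⟶
      (Scheme.Modules.pullback (c.π.app i₀)).obj N₀, x ∈ CohB1.genLocus _ t :=
    fun x => exists_mem_genLocus_of_isGloballyGenerated _ hinv h x
  choose s hs using h0
  obtain ⟨F, hF⟩ := isCompact_univ.elim_finite_subcover
    (fun x : c.pt => ((CohB1.genLocus _ (s x) : c.pt.Opens) : Set c.pt))
    (fun x => (CohB1.genLocus _ (s x)).2) (fun x _ => Set.mem_iUnion.mpr ⟨x, hs x⟩)
  have h1 : ∀ x : c.pt, ∃ (j : Over i₀) (t : Coh.structureModule (D.obj j.left) ⟶ Lj D i₀ N₀ j),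
      (c.π.app j.left) ⁻¹ᵁ CohB1.genLocus _ t = CohB1.genLocus _ (s x) := by
    intro x
    obtain ⟨j, φ, t, e⟩ := exists_stage_section' D c hc i₀ N₀ hN₀ (s x)
    exact ⟨Over.mk φ, t, e⟩
  choose jx tx hex using h1
  obtain ⟨j, hj⟩ := IsCofiltered.inf_objs_exists (F.image jx)
  let g : ∀ x : {x // x ∈ F}, j ⟶ jx x.1 :=
    fun x => (hj (Finset.mem_image_of_mem _ x.2)).some
  let U : (D.obj j.left).Opens :=
    ⨆ x : {x // x ∈ F}, (D.map (g x).left) ⁻¹ᵁ CohB1.genLocus _ (tx x.1)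
  have hU : (c.π.app j.left) ⁻¹ᵁ U = ⊤ := by
    rw [eq_top_iff]
    intro y _
    have hy := hF (Set.mem_univ y)
    simp only [Set.mem_iUnion] at hy
    obtain ⟨x, hxF, hyx⟩ := hy
    rw [Scheme.Hom.preimage_iSup]
    refine TopologicalSpace.Opens.mem_iSup.mpr ⟨⟨x, hxF⟩, ?_⟩
    rw [← Scheme.Hom.comp_preimage, c.w, hex]
    exact hyx
  obtain ⟨k, f, hf⟩ := exists_map_eq_top D c hc U hU
  let j' : Over i₀ := Over.mk (f ≫ j.hom)
  let g' : j' ⟶ j := Over.homMk f rfl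
  have step2 : ∀ x : {x // x ∈ F}, ∃ t' : Coh.structureModule (D.obj j'.left) ⟶ Lj D i₀ N₀ j',
      CohB1.genLocus _ t' = (D.map f) ⁻¹ᵁ ((D.map (g x).left) ⁻¹ᵁ CohB1.genLocus _ (tx x.1)) := by
    intro x
    obtain ⟨t', e'⟩ := exists_transport' D i₀ N₀ hN₀ (g' ≫ g x) (tx x.1)
    refine ⟨t', ?_⟩
    rw [e', ← Scheme.Hom.comp_preimage, ← D.map_comp]
    rfl
  choose t' ht' using step2
  refine ⟨j', isGloballyGenerated_of_cover _ t' fun y => ?_⟩
  have hy : y ∈ (D.map f) ⁻¹ᵁ U := by rw [hf]; trivial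
  rw [Scheme.Hom.preimage_iSup] at hy
  obtain ⟨x, hyx⟩ := TopologicalSpace.Opens.mem_iSup.mp hy
  exact ⟨x, by rw [ht']; exact hyx⟩

end limit2

end Groth.Agent.Lead.LimAmp
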