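import Groth.Agent.Lead.LimAmpD

set_option autoImplicit false
universe u
open CategoryTheory CategoryTheory.Limits AlgebraicGeometry Opposite TopologicalSpace

namespace Groth.Agent.Lead.LimAmp

open Groth.Agent.Helper4.PullUnit Groth.Agent.Helper4.PullSec Groth.Agent.Helper4.PullTensor
  Groth.Agent.Helper4.PullAmple Groth.Agent.Helper4.AmpleIso Groth.Agent.Helper4.TensorInv
  Groth.Agent.Lead.LimPullback Groth.Agent.Lead.LimHom
  Groth.Agent.Helper4.CounitEpi Groth.Agent.Helper4.CounitGG Groth.Agent.Helper4.GGSec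
  Groth.Agent.Helper4.GenLocIso

section K
variable {I : Type u} [SmallCategory I] [IsCofiltered I]
  (D : I ⥤ Scheme.{u}) (c : Cone D) (hc : IsLimit c)
  [∀ (i j : I) (f : i ⟶ j), IsAffineHom (D.map f)] (i₀ : I)
  {T₀ : Scheme.{u}} [CompactSpace T₀] [QuasiSeparatedSpace T₀] (h₀ : T₀ ⟶ D.obj i₀)
  (M₀ : T₀.Modules) (hM₀ : PicF.IsInvertible M₀)

include hc hM₀ in
set_option backward.isDefEq.respectTransparency false in
/-- global generation descends from the limit of base changes to a stage (and all later ones) -/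
theorem exists_stage_gg_baseChange {T : Scheme.{u}} (q : T ⟶ T₀) (p : T ⟶ c.pt)
    (hT : IsPullback q p h₀ (c.π.app i₀))
    (h : Curv2.IsGloballyGenerated ((Scheme.Modules.pullback q).obj M₀)) :
    ∃ j : Over i₀, ∀ (j' : Over i₀) (_ : j' ⟶ j) (T' : Scheme.{u}) (q' : T' ⟶ T₀)
      (p' : T' ⟶ D.obj j'.left), IsPullback q' p' h₀ (D.map j'.hom) →
        Curv2.IsGloballyGenerated ((Scheme.Modules.pullback q').obj M₀) := by
  haveI hA : ∀ {i j : I} (f : i ⟶ j), IsAffineHom (D.map f) := fun f => inferInstance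
  haveI : ∀ (a b : Over i₀) (f : a ⟶ b), IsAffineHom ((pbDiag D i₀ h₀).map f) :=
    fun a b f => isAffineHom_pbDiag_map i₀ h₀ f
  haveI : ∀ a : Over i₀, CompactSpace ((pbDiag D i₀ h₀).obj a) :=
    fun a => compactSpace_pbDiag D i₀ h₀ a
  haveI : ∀ a : Over i₀, QuasiSeparatedSpace ((pbDiag D i₀ h₀).obj a) :=
    fun a => quasiSeparatedSpace_pbDiag D i₀ h₀ a
  have hcan : IsPullback (pullback.snd (c.π.app i₀) h₀) (pullback.fst (c.π.app i₀) h₀) h₀
      (c.π.app i₀) := (IsPullback.of_hasPullback _ _).flip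
  have h1 : Curv2.IsGloballyGenerated
      ((Scheme.Modules.pullback (pullback.snd (c.π.app i₀) h₀)).obj M₀) :=
    gg_of_squares hcan hT (𝟙 _) (Category.id_comp _) M₀ h
  let ι₀ : Over i₀ := Over.mk (𝟙 i₀)
  let M₀' : ((pbDiag D i₀ h₀).obj ι₀).Modules :=
    (Scheme.Modules.pullback (pullback.snd (D.map ι₀.hom) h₀)).obj M₀
  have hM₀' : PicF.IsInvertible M₀' := isInvertible_pullback _ hM₀
  have hπ : (pbCone D c i₀ h₀).π.app ι₀ ≫ pullback.snd (D.map ι₀.hom) h₀ =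
      pullback.snd (c.π.app i₀) h₀ := by simp [pbCone]
  have h2 : Curv2.IsGloballyGenerated
      ((Scheme.Modules.pullback ((pbCone D c i₀ h₀).π.app ι₀)).obj M₀') :=
    isGloballyGenerated_of_iso ((Scheme.Modules.pullbackComp _ _).app M₀ ≪≫
      (Scheme.Modules.pullbackCongr hπ).app M₀).symm h1
  obtain ⟨J, hJ⟩ := exists_gg_stage (pbDiag D i₀ h₀) (pbCone D c i₀ h₀)
    (pbConeIsLimit i₀ h₀ hc) ι₀ M₀' hM₀' h2
  have hJ' : (pbDiag D i₀ h₀).map J.hom ≫ pullback.snd (D.map ι₀.hom) h₀ =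
      pullback.snd (D.map J.left.hom) h₀ := by simp [pbDiag]
  have h3 : Curv2.IsGloballyGenerated
      ((Scheme.Modules.pullback (pullback.snd (D.map J.left.hom) h₀)).obj M₀) :=
    isGloballyGenerated_of_iso ((Scheme.Modules.pullbackComp _ _).app M₀ ≪≫
      (Scheme.Modules.pullbackCongr hJ').app M₀) hJ
  refine ⟨J.left, fun j' g T' q' p' hT' => ?_⟩
  have hcanJ : IsPullback (pullback.snd (D.map J.left.hom) h₀) (pullback.fst (D.map J.left.hom) h₀)
      h₀ (D.map J.left.hom) := (IsPullback.of_hasPullback _ _).flip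
  exact gg_of_squares hT' hcanJ (D.map g.left) (by rw [← D.map_comp, Over.w g]) M₀ h3

end K

section main
variable {I : Type u} [SmallCategory I] [IsCofiltered I]
  (D : I ⥤ Scheme.{u}) (c : Cone D) (hc : IsLimit c)
  [∀ (i j : I) (f : i ⟶ j), IsAffineHom (D.map f)] (i₀ : I)
  {X₀ Y₀ : Scheme.{u}} (f₀ : X₀ ⟶ Y₀) (g₀ : Y₀ ⟶ D.obj i₀)
  [QuasiCompact g₀] [QuasiSeparated g₀] [QuasiCompact (f₀ ≫ g₀)] [QuasiSeparated (f₀ ≫ g₀)]
  (L₀ : X₀.Modules) (hL₀ : PicF.IsInvertible L₀)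

include hc hL₀ in
theorem exists_stage_counit_epi [CompactSpace (D.obj i₀)] {X Y : Scheme.{u}} (f : X ⟶ Y)
    (g : Y ⟶ c.pt) (qY : Y ⟶ Y₀) (qX : X ⟶ X₀)
    (hY : IsPullback qY g g₀ (c.π.app i₀)) (hX : IsPullback qX f f₀ qY)
    (hgen : Epi ((Scheme.Modules.pullbackPushforwardAdjunction f).counit.app
      ((Scheme.Modules.pullback qX).obj L₀))) :
    ∃ (j : I) (φ : j ⟶ i₀), ∀ (k : I) (ψ : k ⟶ j) (Xk Yk : Scheme.{u}) (fk : Xk ⟶ Yk)
      (gk : Yk ⟶ D.obj k) (pY : Yk ⟶ Y₀) (pX : Xk ⟶ X₀),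
      IsPullback pY gk g₀ (D.map (ψ ≫ φ)) → IsPullback pX fk f₀ pY →
        Epi ((Scheme.Modules.pullbackPushforwardAdjunction fk).counit.app
          ((Scheme.Modules.pullback pX).obj L₀)) := by
  classical
  haveI : QuasiCompact f₀ := QuasiCompact.of_comp f₀ g₀
  haveI : QuasiSeparated f₀ := QuasiSeparated.of_comp f₀ g₀
  haveI : QuasiCompact f := MorphismProperty.of_isPullback (P := @QuasiCompact) hX inferInstance
  haveI : QuasiSeparated f :=
    MorphismProperty.of_isPullback (P := @QuasiSeparated) hX inferInstance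
  haveI : IsAffineHom (c.π.app i₀) := isAffineHom_π_app D c hc i₀
  haveI : IsAffineHom qY :=
    MorphismProperty.of_isPullback (P := @IsAffineHom) hY.flip inferInstance
  haveI : ((Scheme.Modules.pullback qX).obj L₀).IsQuasicoherent :=
    Groth.Agent.Helper4.QAffSec.isQuasicoherent_of_isInvertible _ (isInvertible_pullback qX hL₀)
  have hloc : ∀ V : Y₀.affineOpens, ∃ j : Over i₀, ∀ (j' : Over i₀) (_ : j' ⟶ j)
      (Xj Yj : Scheme.{u}) (fj : Xj ⟶ Yj) (gj : Yj ⟶ D.obj j'.left) (pY : Yj ⟶ Y₀)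
      (pX : Xj ⟶ X₀), IsPullback pY gj g₀ (D.map j'.hom) → IsPullback pX fj f₀ pY →
        Curv2.IsGloballyGenerated (((Scheme.Modules.pullback pX).obj L₀).restrict
          (fj ⁻¹ᵁ (pY ⁻¹ᵁ V.1)).ι) := by
    intro V
    obtain ⟨hcpt, hqs⟩ := qcqs_preimage f₀ g₀ V
    haveI := hcpt
    haveI := hqs
    have hlim := restrict_square (hX.paste_vert hY) (f₀ ⁻¹ᵁ V.1)
    have hgg : Curv2.IsGloballyGenerated ((Scheme.Modules.pullback (qX ∣_ (f₀ ⁻¹ᵁ V.1))).obj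
        (L₀.restrict (f₀ ⁻¹ᵁ V.1).ι)) :=
      (gg_restrict_iff f₀ f qX qY hX.w L₀ V.1).mp
        (isGloballyGenerated_restrict_of_epi_counit f _ hgen (qY ⁻¹ᵁ V.1) (V.2.preimage qY))
    obtain ⟨j, hj⟩ := exists_stage_gg_baseChange D c hc i₀ ((f₀ ⁻¹ᵁ V.1).ι ≫ f₀ ≫ g₀)
      (L₀.restrict (f₀ ⁻¹ᵁ V.1).ι) (Groth.Agent.Helper4.QAffSec.isInvertible_restrict _ hL₀)
      _ _ hlim hgg
    refine ⟨j, fun j' gg Xj Yj fj gj pY pX hYj hXj => ?_⟩
    rw [gg_restrict_iff f₀ fj pX pY hXj.w L₀ V.1]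
    exact hj j' gg _ _ _ (restrict_square (hXj.paste_vert hYj) (f₀ ⁻¹ᵁ V.1))
  haveI : CompactSpace Y₀ := QuasiCompact.compactSpace_of_compactSpace g₀
  obtain ⟨Fs, hFs⟩ := isCompact_univ.elim_finite_subcover
    (fun V : Y₀.affineOpens => ((V.1 : Y₀.Opens) : Set Y₀)) (fun V => V.1.2) (fun y _ => by
      obtain ⟨V, hV, hyV, -⟩ := exists_isAffineOpen_mem_and_subset (x := y)
        (U := (⊤ : Y₀.Opens)) trivial
      exact Set.mem_iUnion.mpr ⟨⟨V, hV⟩, hyV⟩)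
  choose jV hjV using hloc
  obtain ⟨j, hj⟩ := IsCofiltered.inf_objs_exists (Fs.image jV)
  have gV : ∀ V ∈ Fs, j ⟶ jV V := fun V hV => (hj (Finset.mem_image_of_mem _ hV)).some
  refine ⟨j.left, j.hom, fun k ψ Xk Yk fk gk pY pX hYk hXk => ?_⟩
  let j' : Over i₀ := Over.mk (ψ ≫ j.hom)
  let gg : j' ⟶ j := Over.homMk ψ rfl
  refine epi_counit_of_cover fk _ (fun V : {V // V ∈ Fs} => pY ⁻¹ᵁ V.1.1) (fun x => ?_)
    (fun V => ?_)
  · have hy := hFs (Set.mem_univ (pY (fk x)))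
    simp only [Set.mem_iUnion] at hy
    obtain ⟨V, hV, hyV⟩ := hy
    exact ⟨⟨V, hV⟩, hyV⟩
  · exact hjV V.1 j' (gg ≫ gV V.1 V.2) Xk Yk fk gk pY pX hYk hXk

end main

end Groth.Agent.Lead.LimAmp
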