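import Groth.Agent.Lead.LimCons
import Groth.Agent.Lead.LimFlat
open CategoryTheory Limits AlgebraicGeometry Topology

namespace Groth.Agent.Lead.LimClosure
open Groth.Agent.Lead.LimPullback Groth.Agent.Lead.ProConsLib
universe u

section Basic
variable {X Y : Scheme.{u}}

theorem pro_inter {E₁ E₂ : Set X} (h₁ : ProCons.IsProConstructible E₁)
    (h₂ : ProCons.IsProConstructible E₂) : ProCons.IsProConstructible (E₁ ∩ E₂) := by
  rw [pro_iff_pieces] at h₁ h₂ ⊢
  intro x hx
  by_cases h : x ∈ E₁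
  · exact (h₂ x fun h' ↦ hx ⟨h, h'⟩).mono (Set.compl_subset_compl.mpr Set.inter_subset_right)
  · exact (h₁ x h).mono (Set.compl_subset_compl.mpr Set.inter_subset_left)

/-- for a flat morphism, the closure of the preimage of a pro-constructible set is the preimage of
its closure -/
theorem closure_preimage_of_flat (f : X ⟶ Y) [Flat f] {Z : Set Y}
    (hZ : ProCons.IsProConstructible Z) : closure (f ⁻¹' Z) = f ⁻¹' closure Z := by
  apply Set.Subset.antisymm
  · exact closure_minimal (Set.preimage_mono subset_closure) (isClosed_closure.preimage f.continuous)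
  · intro x hx
    obtain ⟨z, hz, hzx⟩ := exists_specializes_of_mem_closure hZ hx
    obtain ⟨x', hx', rfl⟩ := (Flat.generalizingMap f) hzx
    exact hx'.mem_closed isClosed_closure (subset_closure hz)

/-- a pro-constructible subset of a quasi-compact scheme is the image of an affine scheme -/
theorem exists_affine_range_eq' [CompactSpace X] {E : Set X} (hE : ProCons.IsProConstructible E) :
    ∃ (X' : Scheme.{u}) (f : X' ⟶ X), IsAffine X' ∧ Set.range f.base = E := by
  classical
  let 𝒰 : X.OpenCover := X.affineCover.finiteSubcover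
  haveI : ∀ k, IsAffine (𝒰.X k) := fun k => by dsimp only [𝒰]; infer_instance
  let g : ∀ k : 𝒰.I₀, Spec Γ(𝒰.X k, ⊤) ⟶ X := fun k => (𝒰.X k).isoSpec.inv ≫ 𝒰.f k
  have key : ∀ k : 𝒰.I₀, ∃ (B : CommRingCat.{u}) (φ : Γ(𝒰.X k, ⊤) ⟶ B),
      Set.range (Spec.map φ).base = (g k).base ⁻¹' E := fun k =>
    exists_Spec_map_range_eq _ (Groth.Agent.Helper7.PC.pro_preimage (g k) E hE)
  choose B φ hφ using key
  refine ⟨∐ (fun k => Spec (B k)), Sigma.desc (fun k => Spec.map (φ k) ≫ g k), inferInstance, ?_⟩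
  apply Set.Subset.antisymm
  · rintro _ ⟨z, rfl⟩
    obtain ⟨k, b, rfl⟩ := (sigmaOpenCover (fun k => Spec (B k))).exists_eq z
    have hb : (Spec.map (φ k)).base b ∈ (g k).base ⁻¹' E := by
      rw [← hφ k]; exact ⟨b, rfl⟩
    have : (Sigma.desc (fun k => Spec.map (φ k) ≫ g k)).base
        ((Sigma.ι (fun k => Spec (B k)) k).base b) = (g k).base ((Spec.map (φ k)).base b) := by
      rw [← Scheme.Hom.comp_apply, ← Scheme.Hom.comp_apply, Sigma.ι_desc]
    change (Sigma.desc (fun k => Spec.map (φ k) ≫ g k)).base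
        ((Sigma.ι (fun k => Spec (B k)) k).base b) ∈ E
    rw [this]
    exact hb
  · intro y hy
    obtain ⟨k, z, rfl⟩ := 𝒰.exists_eq y
    let w : Spec Γ(𝒰.X k, ⊤) := (𝒰.X k).isoSpec.hom.base z
    have hw : (g k).base w = (𝒰.f k).base z := by
      change ((𝒰.X k).isoSpec.inv ≫ 𝒰.f k).base ((𝒰.X k).isoSpec.hom.base z) = _
      rw [← Scheme.Hom.comp_apply, Iso.hom_inv_id_assoc]
    have hwE : w ∈ (g k).base ⁻¹' E := by
      change (g k).base w ∈ E
      rw [hw]; exact hy
    rw [← hφ k] at hwE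
    obtain ⟨b, hb⟩ := hwE
    refine ⟨(Sigma.ι (fun k => Spec (B k)) k).base b, ?_⟩
    rw [← Scheme.Hom.comp_apply, Sigma.ι_desc, Scheme.Hom.comp_apply, hb, hw]

end Basic

section Lim
variable {I : Type u} [SmallCategory I] [IsCofiltered I] {D : I ⥤ Scheme.{u}} {c : Cone D}
  (hc : IsLimit c) [∀ {i j : I} (f : i ⟶ j), IsAffineHom (D.map f)] (i : I)

include hc in
set_option backward.isDefEq.respectTransparency false in
/-- A pro-constructible subset of a quasi-compact stage whose preimage in the limit is empty has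
empty preimage in some stage. -/
theorem exists_preimage_eq_empty' [CompactSpace (D.obj i)]
    (E : Set (D.obj i)) (hE : ProCons.IsProConstructible E)
    (h : (c.π.app i).base ⁻¹' E = ∅) :
    ∃ (j : I) (φ : j ⟶ i), (D.map φ).base ⁻¹' E = ∅ := by
  obtain ⟨T, g, hT, hg⟩ := exists_affine_range_eq' hE
  by_contra hcon
  push Not at hcon
  have key : ∀ (j : I) (φ : j ⟶ i), Nonempty ↑(pullback (D.map φ) g) := by
    intro j φ
    obtain ⟨y, hy⟩ := (hcon j φ)
    have hy' : (D.map φ).base y ∈ Set.range g.base := by rw [hg]; exact hy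
    obtain ⟨t, ht⟩ := hy'
    obtain ⟨z, -, -⟩ := Scheme.Pullback.exists_preimage_pullback y t ht.symm
    exact ⟨z⟩
  obtain ⟨z⟩ := nonempty_pullback hc i g key
  have hz : (c.π.app i).base ((pullback.fst (c.π.app i) g).base z) ∈ E := by
    rw [← hg]
    refine ⟨(pullback.snd (c.π.app i) g).base z, ?_⟩
    rw [← Scheme.Hom.comp_apply, ← Scheme.Hom.comp_apply, pullback.condition]
  have : (pullback.fst (c.π.app i) g).base z ∈ (c.π.app i).base ⁻¹' E := hz
  rw [h] at this
  exact this

include hc in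
/-- flat limit: containment in the closure of a preimage is detected at a stage -/
theorem preimage_subset_closure_iff [CompactSpace (D.obj i)]
    (hfl : ∀ (i j : I) (φ : i ⟶ j), Flat (D.map φ))
    (Z' Z'' : Set (D.obj i)) (hZ' : ProCons.IsProConstructible Z')
    (hZ'' : ProCons.IsProConstructible Z'') (hcl : IsConstructible (closure Z')) :
    (⇑(c.π.app i) ⁻¹' Z'' : Set c.pt) ⊆ closure (⇑(c.π.app i) ⁻¹' Z' : Set c.pt) ↔
      ∃ (j : I) (φ : j ⟶ i), ⇑(D.map φ) ⁻¹' Z'' ⊆ closure (⇑(D.map φ) ⁻¹' Z') := by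
  have hπ : Flat (c.π.app i) := LimFlat.flat_π D c hc i fun j φ ↦ hfl _ _ φ
  have hφ : ∀ {j : I} (φ : j ⟶ i), Flat (D.map φ) := fun φ ↦ hfl _ _ φ
  rw [closure_preimage_of_flat (c.π.app i) hZ']
  constructor
  · intro h
    have hE : ProCons.IsProConstructible (Z'' ∩ (closure Z')ᶜ) :=
      pro_inter hZ'' (pro_of_isLocallyConstructible hcl.compl.isLocallyConstructible)
    obtain ⟨j, φ, hj⟩ := exists_preimage_eq_empty' hc i _ hE (by
      ext s
      simp only [Set.mem_preimage, Set.mem_inter_iff, Set.mem_compl_iff, Set.mem_empty_iff_false,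
        iff_false, not_and, not_not]
      exact fun hs ↦ h hs)
    refine ⟨j, φ, ?_⟩
    rw [closure_preimage_of_flat (D.map φ) hZ']
    intro t ht
    by_contra hcon
    have : t ∈ (D.map φ).base ⁻¹' (Z'' ∩ (closure Z')ᶜ) := ⟨ht, hcon⟩
    rw [hj] at this
    exact this
  · rintro ⟨j, φ, h⟩
    rw [closure_preimage_of_flat (D.map φ) hZ'] at h
    intro s hs
    have h1 : (D.map φ) ((c.π.app j) s) = (c.π.app i) s := by
      rw [← Scheme.Hom.comp_apply, c.w]
    have h2 : (c.π.app j) s ∈ ⇑(D.map φ) ⁻¹' Z'' := by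
      change (D.map φ) ((c.π.app j) s) ∈ Z''
      rw [h1]; exact hs
    have h3 := h h2
    change (D.map φ) ((c.π.app j) s) ∈ closure Z' at h3
    rw [h1] at h3
    exact h3

end Lim

end Groth.Agent.Lead.LimClosure
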