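import Groth.Agent.Lead.LimClosure
import Groth.Agent.Lead.LimRed
open CategoryTheory Limits AlgebraicGeometry Topology

namespace Groth.Agent.Lead.LimDominant
open Groth.Agent.Lead.LimPullback Groth.Agent.Lead.ProConsLib Groth.Agent.Lead.LimFrame
  Groth.Agent.Lead.LimHom
universe u

variable {I : Type u} [SmallCategory I] [IsCofiltered I] {D : I ⥤ Scheme.{u}} {c : Cone D}
  (hc : IsLimit c) [∀ {i j : I} (f : i ⟶ j), IsAffineHom (D.map f)] (i₀ : I)
  {X₀ Y₀ : Scheme.{u}} (f₀ : X₀ ⟶ Y₀) (g₀ : Y₀ ⟶ D.obj i₀)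

omit [IsCofiltered I] [∀ {i j : I} (f : i ⟶ j), IsAffineHom (D.map f)] in
set_option backward.isDefEq.respectTransparency false in
/-- transition maps of the pulled-back diagram are base changes of the transition maps -/
theorem isPullback_pbDiag_map {j k : Over i₀} (φ : j ⟶ k) :
    IsPullback (pullback.fst (D.map j.hom) g₀) ((pbDiag D i₀ g₀).map φ) (D.map φ.left)
      (pullback.fst (D.map k.hom) g₀) := by
  have hbot : IsPullback (pullback.fst (D.map k.hom) g₀) (pullback.snd (D.map k.hom) g₀)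
      (D.map k.hom) g₀ := IsPullback.of_hasPullback _ _
  have hbig : IsPullback (pullback.fst (D.map j.hom) g₀)
      ((pbDiag D i₀ g₀).map φ ≫ pullback.snd (D.map k.hom) g₀)
      (D.map φ.left ≫ D.map k.hom) g₀ := by
    have e1 : (pbDiag D i₀ g₀).map φ ≫ pullback.snd (D.map k.hom) g₀ =
        pullback.snd (D.map j.hom) g₀ := by simp [pbDiag]
    have e2 : D.map φ.left ≫ D.map k.hom = D.map j.hom := by
      rw [← D.map_comp, Over.w]
    rw [e1, e2]
    exact IsPullback.of_hasPullback _ _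
  exact IsPullback.of_bot hbig (by simp [pbDiag]) hbot

omit [IsCofiltered I] [∀ {i j : I} (f : i ⟶ j), IsAffineHom (D.map f)] in
theorem flat_pbDiag_map (hfl : ∀ (i j : I) (φ : i ⟶ j), Flat (D.map φ)) {j k : Over i₀}
    (φ : j ⟶ k) : Flat ((pbDiag D i₀ g₀).map φ) :=
  MorphismProperty.of_isPullback (isPullback_pbDiag_map i₀ g₀ φ) (hfl _ _ φ.left)

omit [IsCofiltered I] [∀ {i j : I} (f : i ⟶ j), IsAffineHom (D.map f)] in
theorem isDominant_iff_univ_subset {X Y : Scheme.{u}} (f : X ⟶ Y) :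
    IsDominant f ↔ (Set.univ : Set Y) ⊆ closure (Set.range f) := by
  rw [isDominant_iff, denseRange_iff_closure_range, Set.univ_subset_iff]

omit [IsCofiltered I] [∀ {i j : I} (f : i ⟶ j), IsAffineHom (D.map f)] in
theorem preimage_preimage_eq {A B C : Scheme.{u}} (a : A ⟶ B) (b : B ⟶ C) (ab : A ⟶ C)
    (h : a ≫ b = ab) (S : Set C) : ⇑a ⁻¹' (⇑b ⁻¹' S) = ⇑ab ⁻¹' S := by
  subst h
  ext x
  simp only [Set.mem_preimage, Scheme.Hom.comp_apply]

include hc in
set_option backward.isDefEq.respectTransparency false in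
theorem isDominant_iff_eventually [CompactSpace (D.obj i₀)]
    (hfl : ∀ (i j : I) (φ : i ⟶ j), Flat (D.map φ))
    [QuasiCompact (f₀ ≫ g₀)] [QuasiCompact g₀] [QuasiSeparated g₀]
    (hcl : IsConstructible (closure (Set.range ⇑f₀))) :
    IsDominant (limMap D c i₀ f₀ g₀) ↔ ∃ j : Over i₀, IsDominant (stageMap D i₀ f₀ g₀ j) := by
  have hA : ∀ {j k : Over i₀} (f : j ⟶ k), IsAffineHom ((pbDiag D i₀ g₀).map f) :=
    fun f ↦ isAffineHom_pbDiag_map i₀ g₀ f
  have hY₀ : CompactSpace Y₀ := QuasiCompact.compactSpace_of_compactSpace g₀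
  have hf₀ : QuasiCompact f₀ := QuasiCompact.of_comp f₀ g₀
  let i' : Over i₀ := Over.mk (𝟙 i₀)
  have hcpt : CompactSpace ((pbDiag D i₀ g₀).obj i') := compactSpace_pbDiag D i₀ g₀ i'
  let q : (pbDiag D i₀ g₀).obj i' ⟶ Y₀ := pullback.snd (D.map (𝟙 i₀)) g₀
  have hq : IsIso q := by
    have : IsIso (D.map (𝟙 i₀)) := by rw [D.map_id]; infer_instance
    infer_instance
  let Z' : Set ((pbDiag D i₀ g₀).obj i') := q ⁻¹' Set.range f₀
  have hR : ProCons.IsProConstructible (Set.range f₀) := by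
    have := pro_image f₀ (pro_univ)
    rwa [Set.image_univ] at this
  have hZ' : ProCons.IsProConstructible Z' := Groth.Agent.Helper7.PC.pro_preimage q _ hR
  have hclZ : IsConstructible (closure Z') := by
    have h1 : closure Z' = q.homeomorph ⁻¹' closure (Set.range f₀) :=
      (q.homeomorph.preimage_closure _).symm
    rw [h1]
    exact hcl.preimage_of_isOpenEmbedding q.homeomorph.isOpenEmbedding
  have key := LimClosure.preimage_subset_closure_iff (pbConeIsLimit i₀ g₀ hc) i'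
    (fun j k φ ↦ flat_pbDiag_map i₀ g₀ hfl φ) Z' Set.univ hZ' pro_univ hclZ
  have hlim : ⇑((pbCone D c i₀ g₀).π.app i') ⁻¹' Z' = Set.range (limMap D c i₀ f₀ g₀) := by
    rw [Scheme.Pullback.range_snd]
    exact preimage_preimage_eq _ q _ (by simp [pbCone, q, i']) _
  have hst : ∀ (j : Over i₀) (φ : j ⟶ i'),
      ⇑((pbDiag D i₀ g₀).map φ) ⁻¹' Z' = Set.range (stageMap D i₀ f₀ g₀ j) := by
    intro j φ
    rw [Scheme.Pullback.range_snd]
    exact preimage_preimage_eq _ q _ (by simp [pbDiag, q, i']) _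
  rw [isDominant_iff_univ_subset, ← hlim]
  rw [Set.preimage_univ] at key
  rw [key]
  constructor
  · rintro ⟨j, φ, h⟩
    refine ⟨j, ?_⟩
    rw [isDominant_iff_univ_subset, ← hst j φ]
    simpa using h
  · rintro ⟨j, h⟩
    refine ⟨j, Over.homMk j.hom (by simp [i']), ?_⟩
    rw [isDominant_iff_univ_subset, ← hst j (Over.homMk j.hom (by simp [i']))] at h
    simpa using h

end Groth.Agent.Lead.LimDominant
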