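import Mathlib

/-!
# Cofiltered limits of schemes whose transition maps are topological embeddings
-/

set_option autoImplicit false
universe u
open CategoryTheory AlgebraicGeometry Limits

namespace Groth.Agent.Lead.LimEmb

variable {I : Type u} [SmallCategory I] [IsCofiltered I]
    (D : I ⥤ Scheme.{u}) (c : Cone D) (hc : IsLimit c)

include hc in
/-- If all transition maps are inducing, so are the projections from the limit. -/
lemma isInducing_π [∀ {i j : I} (f : i ⟶ j), IsAffineHom (D.map f)]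
    (he : ∀ (i j : I) (φ : i ⟶ j), Topology.IsInducing ⇑(D.map φ)) (j : I) :
    Topology.IsInducing ⇑(c.π.app j) := by
  refine ⟨le_antisymm (c.π.app j).continuous.le_induced ?_⟩
  have hB := isBasis_preimage_isAffineOpen D c hc
  rw [TopologicalSpace.Opens.IsBasis] at hB
  refine le_trans ?_ hB.eq_generateFrom.ge
  apply le_generateFrom
  rintro _ ⟨_, ⟨l, V, hV, rfl⟩, rfl⟩
  let m := IsCofiltered.min l j
  let a : m ⟶ l := IsCofiltered.minToLeft l j
  let b : m ⟶ j := IsCofiltered.minToRight l j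
  obtain ⟨V', hV', h⟩ := (he m j b).isOpen_iff.mp ((D.map a ⁻¹ᵁ V).2)
  refine isOpen_induced_iff.mpr ⟨V', hV', ?_⟩
  ext s
  have h1 : (c.π.app j) s = (D.map b) ((c.π.app m) s) := by
    rw [← Scheme.Hom.comp_apply, c.w b]
  have h2 : (c.π.app l) s = (D.map a) ((c.π.app m) s) := by
    rw [← Scheme.Hom.comp_apply, c.w a]
  have h3 : (c.π.app m) s ∈ ⇑(D.map b) ⁻¹' V' ↔ (c.π.app m) s ∈ (D.map a ⁻¹ᵁ V : Set _) := by
    rw [h]
    rfl
  change (c.π.app j) s ∈ V' ↔ (c.π.app l) s ∈ V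
  rw [h1, h2]
  exact h3

include hc in
/-- If the transition maps are inducing and some stage is a Noetherian space, then the
projections from the limit are eventually dominant. -/
lemma exists_denseRange_π [∀ {i j : I} (f : i ⟶ j), IsAffineHom (D.map f)]
    (he : ∀ (i j : I) (φ : i ⟶ j), Topology.IsInducing ⇑(D.map φ)) (k : I)
    [TopologicalSpace.NoetherianSpace (D.obj k)] :
    ∃ (j₀ : I) (_ : j₀ ⟶ k), ∀ (j : I) (_ : j ⟶ j₀), DenseRange ⇑(c.π.app j) := by
  let V : (D.obj k).Opens := ⟨(closure (Set.range ⇑(c.π.app k)))ᶜ, isClosed_closure.isOpen_compl⟩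
  obtain ⟨j₀, f₀, h0⟩ := exists_map_preimage_le_map_preimage D c hc (U := V) (V := ⊥)
    (TopologicalSpace.NoetherianSpace.isCompact _)
    (by
      intro s hs
      exact (hs (subset_closure ⟨s, rfl⟩)).elim)
  refine ⟨j₀, f₀, fun j ψ y ↦ ?_⟩
  have hφ := he j k (ψ ≫ f₀)
  rw [hφ.closure_eq_preimage_closure_image]
  change (D.map (ψ ≫ f₀)) y ∈ closure (⇑(D.map (ψ ≫ f₀)) '' Set.range ⇑(c.π.app j))
  have h1 : ⇑(D.map (ψ ≫ f₀)) '' Set.range ⇑(c.π.app j) = Set.range ⇑(c.π.app k) := by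
    rw [← Set.range_comp]
    congr 1
    ext s
    change (D.map (ψ ≫ f₀)) ((c.π.app j) s) = _
    rw [← Scheme.Hom.comp_apply, c.w]
  rw [h1]
  by_contra hy
  have h2 : (D.map ψ) y ∈ D.map f₀ ⁻¹ᵁ V := by
    change (D.map f₀) ((D.map ψ) y) ∈ (closure (Set.range ⇑(c.π.app k)))ᶜ
    rw [← Scheme.Hom.comp_apply, ← D.map_comp]
    exact hy
  exact h0 h2

end Groth.Agent.Lead.LimEmb
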