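import Groth.Agent.Lead.LimCISys
open CategoryTheory Limits AlgebraicGeometry TopologicalSpace

namespace Groth.Agent.Lead.LimImmCl
open Groth.Agent.Lead.LimCISys
open Set.Notation
universe u

/-- topological: `W ⊆ coborder s` then `W ↓∩ s` is closed in `W`. -/
theorem isClosed_preimage_val_of_subset_coborder {X : Type*} [TopologicalSpace X] {s W : Set X}
    (hW : W ⊆ coborder s) : IsClosed (W ↓∩ s) := by
  rw [isClosed_preimage_val]
  rintro x ⟨hxW, hxc⟩
  have h1 : x ∈ closure s := closure_mono Set.inter_subset_right hxc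
  have : x ∈ coborder s ∩ closure s := ⟨hW hxW, h1⟩
  rwa [coborder_inter_closure] at this

theorem isClosedImmersion_of_le_coborderRange {X S : Scheme.{u}} (f : X ⟶ S) [IsImmersion f]
    (W : S.Opens) (hW : W ≤ f.coborderRange) (g : X ⟶ W) (hg : g ≫ W.ι = f) :
    IsClosedImmersion g := by
  have : IsPreimmersion (g ≫ W.ι) := by rw [hg]; infer_instance
  have : IsPreimmersion g := .of_comp g W.ι
  refine .of_isPreimmersion _ ?_
  have hfx : ∀ x, f x = (g x).1 := fun x ↦ by
    rw [← hg]; rfl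
  have : Set.range g = (W : Set S) ↓∩ Set.range f := by
    ext w
    constructor
    · rintro ⟨x, rfl⟩
      exact ⟨x, hfx x⟩
    · rintro ⟨x, hx⟩
      exact ⟨x, Subtype.ext ((hfx x).symm.trans hx)⟩
  rw [this]
  exact isClosed_preimage_val_of_subset_coborder hW

set_option backward.isDefEq.respectTransparency false in
theorem main {I : Type u} [SmallCategory I] [IsCofiltered I] (S : Scheme.{u})
    [QuasiSeparatedSpace S]
    (D : I ⥤ Scheme.{u}) (t : D ⟶ (Functor.const I).obj S) (c : Cone D) (hc : IsLimit c)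
    [∀ (i j : I) (a : i ⟶ j), IsClosedImmersion (D.map a)]
    [∀ i, CompactSpace (D.obj i)] [∀ i, QuasiSeparatedSpace (D.obj i)]
    [∀ i, LocallyOfFiniteType (t.app i)] (i₀ : I)
    [IsImmersion (c.π.app i₀ ≫ t.app i₀)] :
    ∃ i₁ : I, ∀ (i : I) (_ : i ⟶ i₁), IsImmersion (t.app i) := by
  classical
  have hA : ∀ {i j : I} (a : i ⟶ j), IsAffineHom (D.map a) := fun a ↦ inferInstance
  have hnat : ∀ {i j : I} (φ : i ⟶ j), D.map φ ≫ t.app j = t.app i := by
    intro i j φ
    simpa using t.naturality φ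
  set f : c.pt ⟶ S := c.π.app i₀ ≫ t.app i₀ with hf
  have hfimm : IsImmersion f := ‹_›
  have hcpt : CompactSpace c.pt := Scheme.compactSpace_of_isLimit D c hc
  have hK : IsCompact (Set.range f) := isCompact_range f.continuous
  obtain ⟨W, hWc, hKW, hWU⟩ : ∃ W : S.Opens, IsCompact (W : Set S) ∧ Set.range f ⊆ W ∧
      W ≤ f.coborderRange := by
    refine hK.induction_on (p := fun s ↦ ∃ W : S.Opens, IsCompact (W : Set S) ∧ s ⊆ W ∧
      W ≤ f.coborderRange) ⟨⊥, by simp, by simp, bot_le⟩ ?_ ?_ ?_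
    · rintro s s' hss' ⟨W, h1, h2, h3⟩
      exact ⟨W, h1, hss'.trans h2, h3⟩
    · rintro s s' ⟨W, h1, h2, h3⟩ ⟨W', h1', h2', h3'⟩
      refine ⟨W ⊔ W', by simpa using h1.union h1', ?_, sup_le h3 h3'⟩
      rw [Opens.coe_sup]
      exact Set.union_subset_union h2 h2'
    · intro y hy
      have hyU : y ∈ f.coborderRange := subset_coborder hy
      obtain ⟨_, ⟨V, hV, rfl⟩, hyV, hVU⟩ :=
        S.isBasis_affineOpens.exists_subset_of_mem_open hyU f.coborderRange.2
      exact ⟨V, mem_nhdsWithin_of_mem_nhds (V.2.mem_nhds hyV), V, IsAffineOpen.isCompact hV,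
        subset_rfl, hVU⟩
  let V₀ : (D.obj i₀).Opens := t.app i₀ ⁻¹ᵁ W
  have hV₀ : c.π.app i₀ ⁻¹ᵁ V₀ = ⊤ := by
    rw [← Scheme.Hom.comp_preimage, eq_top_iff]
    intro x _
    exact hKW ⟨x, rfl⟩
  obtain ⟨j₁, φ₁, hj₁⟩ := exists_map_eq_top D c hc V₀ hV₀
  have hrange : ∀ j : Over j₁, Set.range (t.app j.left) ⊆ Set.range W.ι := by
    intro j
    rw [Scheme.Opens.range_ι]
    rintro _ ⟨x, rfl⟩
    have h1 : (D.map j.hom) x ∈ D.map φ₁ ⁻¹ᵁ V₀ := by rw [hj₁]; trivial
    have h2 : t.app j.left = D.map j.hom ≫ D.map φ₁ ≫ t.app i₀ := by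
      rw [hnat, hnat]
    rw [h2]
    exact h1
  let D₁ : Over j₁ ⥤ Scheme.{u} := Over.forget j₁ ⋙ D
  let t₁ : D₁ ⟶ (Functor.const (Over j₁)).obj (W : Scheme.{u}) :=
    { app := fun j ↦ IsOpenImmersion.lift W.ι (t.app j.left) (hrange j)
      naturality := fun j k a ↦ by
        rw [← cancel_mono W.ι]
        simp only [Functor.const_obj_obj, Functor.const_obj_map, Category.assoc,
          IsOpenImmersion.lift_fac, Category.id_comp]
        exact hnat a.left }
  have ht₁ : ∀ j, t₁.app j ≫ W.ι = t.app j.left := fun j ↦ IsOpenImmersion.lift_fac _ _ _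
  let c₁ : Cone D₁ := c.whisker (Over.forget j₁)
  have hc₁ : IsLimit c₁ := (Functor.Initial.isLimitWhiskerEquiv (Over.forget j₁) c).symm hc
  let js : Over j₁ := Over.mk (𝟙 j₁)
  let D' := overDiag D₁ t₁
  let c' := overCone D₁ t₁ c₁ js
  have hc' : IsLimit c' := overConeIsLimit D₁ t₁ c₁ hc₁ js
  have : CompactSpace (W : Scheme.{u}) := isCompact_iff_compactSpace.mp hWc
  have : QuasiSeparatedSpace (W : Scheme.{u}) :=
    (isQuasiSeparated_iff_quasiSeparatedSpace _ W.2).mp (.of_quasiSeparatedSpace _)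
  have h1 : ∀ {i j : Over j₁} (a : i ⟶ j), IsClosedImmersion (D'.map a).left := fun a ↦ by
    change IsClosedImmersion (D.map a.left); infer_instance
  have h2 : ∀ i, CompactSpace (D'.obj i).left := fun i ↦ by
    change CompactSpace (D.obj i.left); infer_instance
  have h3 : ∀ i, QuasiSeparatedSpace (D'.obj i).left := fun i ↦ by
    change QuasiSeparatedSpace (D.obj i.left); infer_instance
  have h4 : ∀ i, LocallyOfFiniteType (D'.obj i).hom := fun i ↦ by
    change LocallyOfFiniteType (t₁.app i)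
    have : LocallyOfFiniteType (t₁.app i ≫ W.ι) := by rw [ht₁]; infer_instance
    exact locallyOfFiniteType_of_comp (t₁.app i) W.ι
  have h5 : IsClosedImmersion c'.pt.hom := by
    change IsClosedImmersion (c.π.app j₁ ≫ t₁.app js)
    refine isClosedImmersion_of_le_coborderRange f W hWU _ ?_
    rw [Category.assoc, ht₁]
    exact π_comp_t D t c j₁ i₀
  obtain ⟨j₀, hj₀⟩ := isClosedImmersion_eventually D' c' hc'
  refine ⟨j₀.left, fun i ψ ↦ ?_⟩
  let ji : Over j₁ := Over.mk (ψ ≫ j₀.hom)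
  have hci : IsClosedImmersion (t₁.app ji) := hj₀ ji (Over.homMk ψ rfl)
  have : t.app i = t₁.app ji ≫ W.ι := (ht₁ ji).symm
  rw [this]
  infer_instance

end Groth.Agent.Lead.LimImmCl
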