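import Groth.Agent.Lead.LimIso
import Groth.Agent.Lead.LimRed
open CategoryTheory Limits AlgebraicGeometry

namespace Groth.Agent.Lead.LimIso2
open Groth.Agent.Lead.LimFrame Groth.Agent.Lead.LimPullback Groth.Agent.Lead.LimBC
  Groth.Agent.Lead.LimHom Groth.Agent.Lead.LimIso Groth.Agent.Lead.LimRed
universe u
variable {I : Type u} [SmallCategory I] [IsCofiltered I] {D : I ⥤ Scheme.{u}} {c : Cone D}
  (hc : IsLimit c) [∀ {i j : I} (f : i ⟶ j), IsAffineHom (D.map f)] (i₀ : I)
  {X₀ Y₀ : Scheme.{u}} (g₀ : Y₀ ⟶ D.obj i₀) (f₀ : X₀ ⟶ Y₀)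

include hc in
set_option backward.isDefEq.respectTransparency false in
/-- isomorphism descent with `Y₀` only of finite type over the stage -/
theorem isIso_descends' [CompactSpace X₀] [CompactSpace Y₀] [QuasiSeparatedSpace Y₀]
    [LocallyOfFiniteType g₀] [LocallyOfFinitePresentation (f₀ ≫ g₀)]
    (h : IsIso (LimFrame.limMap D c i₀ f₀ g₀)) :
    ∃ j : Over i₀, IsIso (stageMap D i₀ f₀ g₀ j) := by
  have h1 : IsIso (bcMap (c.π.app i₀) f₀ g₀) :=
    (prop_bcMap_iff (c.π.app i₀) f₀ g₀ (MorphismProperty.isomorphisms Scheme.{u})).mpr h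
  obtain ⟨j, hj⟩ := isIso_bcMap_descends hc i₀ g₀ f₀ h1
  exact ⟨j, (prop_bcMap_iff (D.map j.hom) f₀ g₀ (MorphismProperty.isomorphisms Scheme.{u})).mp hj⟩

include hc in
set_option backward.isDefEq.respectTransparency false in
/-- isomorphism descent: `Y₀` compact, of finite type and quasi-separated over the stage, `X₀` of
finite presentation over the stage; no hypothesis on the stage. -/
theorem isIso_descends_of_compact [CompactSpace Y₀]
    [LocallyOfFiniteType g₀] [QuasiSeparated g₀]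
    [LocallyOfFinitePresentation (f₀ ≫ g₀)] [QuasiCompact (f₀ ≫ g₀)]
    (h : IsIso (LimFrame.limMap D c i₀ f₀ g₀)) :
    ∃ j : Over i₀, IsIso (stageMap D i₀ f₀ g₀ j) := by
  have hf₀c : QuasiCompact f₀ := QuasiCompact.of_comp f₀ g₀
  refine cover_reduction i₀ g₀ f₀ (MorphismProperty.isomorphisms Scheme.{u}) ?_ h
  intro V v _ _ hV
  have h1 : QuasiCompact (pullback.snd f₀ v) := inferInstance
  have h3 : CompactSpace ↥(pullback f₀ v) :=
    QuasiCompact.compactSpace_of_compactSpace (pullback.snd f₀ v)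
  have h5 : LocallyOfFinitePresentation (pullback.snd f₀ v ≫ v ≫ g₀) := by
    have e : pullback.snd f₀ v ≫ v ≫ g₀ = pullback.fst f₀ v ≫ f₀ ≫ g₀ := by
      rw [← Category.assoc, ← pullback.condition, Category.assoc]
    rw [e]
    infer_instance
  exact isIso_descends' hc i₀ (v ≫ g₀) (pullback.snd f₀ v) hV

end Groth.Agent.Lead.LimIso2
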