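import Groth.Agent.Lead.LimIsoDesc
import Groth.Agent.Lead.LimRed
open CategoryTheory Limits AlgebraicGeometry

namespace Groth.Agent.Lead.LimModel
open Groth.Agent.Lead.LimFrame Groth.Agent.Lead.LimPullback Groth.Agent.Lead.LimBC
  Groth.Agent.Lead.LimHom Groth.Agent.Lead.LimRed Groth.Agent.Lead.LimIsoDesc
universe u

/-- the base `Spec ℤ` in universe `u` -/
noncomputable abbrev SZ : Scheme.{u} := Spec (CommRingCat.of (ULift.{u} ℤ))

/-- the structure map to `Spec ℤ` -/
noncomputable abbrev toSZ (T : Scheme.{u}) : T ⟶ SZ.{u} := specULiftZIsTerminal.from T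

/-- `P` admits models of finite presentation over `ℤ` for morphisms of affine schemes -/
def HasNoethModel (P : MorphismProperty Scheme.{u}) : Prop :=
  ∀ {X Y : Scheme.{u}} [IsAffine X] [IsAffine Y] (f : X ⟶ Y), P f →
    ∃ (T W : Scheme.{u}) (w : W ⟶ T) (a : Y ⟶ T) (b : X ⟶ W), IsAffine T ∧ IsAffine W ∧
      LocallyOfFinitePresentation (toSZ T) ∧ LocallyOfFinitePresentation w ∧ P w ∧
        IsPullback b f w a

variable {I : Type u} [SmallCategory I] [IsCofiltered I] {D : I ⥤ Scheme.{u}} {c : Cone D}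
  (hc : IsLimit c) [∀ {i j : I} (f : i ⟶ j), IsAffineHom (D.map f)] (i₀ : I)
  {X₀ Y₀ : Scheme.{u}} (g₀ : Y₀ ⟶ D.obj i₀) (f₀ : X₀ ⟶ Y₀)

/-- the structure transformation to `Spec ℤ` -/
noncomputable def tSZ : pbDiag D i₀ g₀ ⟶ (Functor.const (Over i₀)).obj SZ.{u} where
  app j := toSZ _
  naturality j k f := specULiftZIsTerminal.hom_ext _ _

include hc in
set_option backward.isDefEq.respectTransparency false in
/-- descent for properties admitting noetherian models, affine case -/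
theorem descends_of_isAffine (P : MorphismProperty Scheme.{u}) [P.IsStableUnderBaseChange]
    (hP : HasNoethModel P) [IsAffine X₀] [IsAffine Y₀] [LocallyOfFinitePresentation f₀]
    (h : P (LimFrame.limMap D c i₀ f₀ g₀)) : ∃ j : Over i₀, P (stageMap D i₀ f₀ g₀ j) := by
  have hπ : IsAffineHom (c.π.app i₀) := isAffineHom_π_app D c hc i₀
  have hA : ∀ {j k : Over i₀} (f : j ⟶ k), IsAffineHom ((pbDiag D i₀ g₀).map f) :=
    fun f ↦ isAffineHom_pbDiag_map i₀ g₀ f
  have hYj : ∀ j : Over i₀, IsAffine ((pbDiag D i₀ g₀).obj j) := fun j ↦ by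
    have := isAffineHom_snd D i₀ g₀ j
    exact isAffine_of_isAffineHom (pullback.snd (D.map j.hom) g₀)
  have hYinf : IsAffine (pullback (c.π.app i₀) g₀) :=
    isAffine_of_isAffineHom (pullback.snd (c.π.app i₀) g₀)
  have hXinf : IsAffine (pullback f₀ (pullback.snd (c.π.app i₀) g₀)) := inferInstance
  obtain ⟨T, W, w, a, b, hT, hW, hTfp, hwfp, hPw, hpb⟩ := hP _ h
  -- factor `a` through a stage
  obtain ⟨j₁, aj, haj, -⟩ := Scheme.exists_π_app_comp_eq_of_locallyOfFinitePresentation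
    (pbDiag D i₀ g₀) (tSZ i₀ g₀) (toSZ T) (pbCone D c i₀ g₀) (pbConeIsLimit i₀ g₀ hc) a
    (by ext j; exact specULiftZIsTerminal.hom_ext _ _)
  have hYj₁ : IsAffine (pullback (D.map j₁.hom) g₀) := hYj j₁
  have hWj : IsAffine (pullback aj w) := inferInstance
  have hPwj : P (pullback.fst aj w) := P.pullback_fst _ _ hPw
  -- `X_∞` as a base change of the model
  have H2 : IsPullback (pullback.lift (LimFrame.limMap D c i₀ f₀ g₀ ≫ (pbCone D c i₀ g₀).π.app j₁) b
      (by rw [Category.assoc, haj, hpb.w])) (LimFrame.limMap D c i₀ f₀ g₀) (pullback.fst aj w)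
      ((pbCone D c i₀ g₀).π.app j₁) := by
    refine IsPullback.of_right ?_ (pullback.lift_fst _ _ _) (IsPullback.of_hasPullback aj w).flip
    rw [pullback.lift_snd, haj]
    exact hpb
  -- `X_∞` as a base change of the stage map
  have H1 : IsPullback (pullback.lift (pullback.fst f₀ (pullback.snd (c.π.app i₀) g₀))
      (LimFrame.limMap D c i₀ f₀ g₀ ≫ (pbCone D c i₀ g₀).π.app j₁)
      (by rw [Category.assoc, pbCone_π_snd, pullback.condition]))
      (LimFrame.limMap D c i₀ f₀ g₀) (stageMap D i₀ f₀ g₀ j₁)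
      ((pbCone D c i₀ g₀).π.app j₁) := by
    refine IsPullback.of_right ?_ (pullback.lift_snd _ _ _)
      (IsPullback.of_hasPullback f₀ (pullback.snd (D.map j₁.hom) g₀))
    rw [pullback.lift_fst, pbCone_π_snd]
    exact IsPullback.of_hasPullback f₀ (pullback.snd (c.π.app i₀) g₀)
  let e := H1.flip.isoPullback.symm ≪≫ H2.flip.isoPullback
  have he : e.hom ≫ pullback.fst ((pbCone D c i₀ g₀).π.app j₁) (pullback.fst aj w) =
      pullback.fst ((pbCone D c i₀ g₀).π.app j₁) (stageMap D i₀ f₀ g₀ j₁) := by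
    simp only [e, Iso.trans_hom, Iso.symm_hom, Category.assoc]
    rw [H2.flip.isoPullback_hom_fst, H1.flip.isoPullback_inv_fst]
  have hXj₁ : IsAffine (pullback f₀ (pullback.snd (D.map j₁.hom) g₀)) := inferInstance
  obtain ⟨k, ek, hek, -⟩ := exists_iso_descend (pbConeIsLimit i₀ g₀ hc) j₁
    (stageMap D i₀ f₀ g₀ j₁) (pullback.fst aj w) e he
  refine ⟨k.left, ?_⟩
  have h3 : P (pullback.fst ((pbDiag D i₀ g₀).map k.hom) (pullback.fst aj w)) :=
    P.pullback_fst _ _ hPwj
  have h4 : P (pullback.fst ((pbDiag D i₀ g₀).map k.hom) (stageMap D i₀ f₀ g₀ j₁)) := by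
    rw [← hek]
    exact (P.cancel_left_of_respectsIso _ _).mpr h3
  have h5 : P (pullback.snd (stageMap D i₀ f₀ g₀ j₁) ((pbDiag D i₀ g₀).map k.hom)) := by
    rw [← pullbackSymmetry_hom_comp_fst (stageMap D i₀ f₀ g₀ j₁) ((pbDiag D i₀ g₀).map k.hom)]
    exact (P.cancel_left_of_respectsIso _ _).mpr h4
  have h6 := (prop_snd_snd_iff P f₀ (pullback.snd (D.map j₁.hom) g₀)
    ((pbDiag D i₀ g₀).map k.hom)).mp h5
  exact prop_snd_of_fac P f₀ _ _ (𝟙 _) (by simp) h6

end Groth.Agent.Lead.LimModel
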