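import Groth.Agent.Lead.LimSmooth
open CategoryTheory Limits AlgebraicGeometry

namespace Groth.Agent.Lead.LimNhd
open Groth.Agent.Lead.LimFrame Groth.Agent.Lead.LimPullback Groth.Agent.Lead.LimBC
  Groth.Agent.Lead.LimHom Groth.Agent.Lead.LimRed Groth.Agent.Lead.LimModel Groth.Agent.Lead.LimSrc
  Groth.Agent.Lead.LimSmooth Groth.Agent.Lead.LimIsoDesc
universe u
variable {I : Type u} [SmallCategory I] [IsCofiltered I] {D : I ⥤ Scheme.{u}} {c : Cone D}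
  (hc : IsLimit c) [∀ {i j : I} (f : i ⟶ j), IsAffineHom (D.map f)] (i₀ : I)
  {X₀ Y₀ : Scheme.{u}} (g₀ : Y₀ ⟶ D.obj i₀) (f₀ : X₀ ⟶ Y₀)

include hc in
/-- model-agnostic descent -/
theorem exists_stage (P : MorphismProperty Scheme.{u}) [P.IsStableUnderBaseChange]
    [P.IsMultiplicative] [IsZariskiLocalAtSource P] (hP : HasNoethModel P)
    [CompactSpace X₀] [LocallyOfFinitePresentation f₀]
    {X Y : Scheme.{u}} {f : X ⟶ Y} {g : Y ⟶ c.pt} {qY : Y ⟶ Y₀} {qX : X ⟶ X₀}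
    (hY : IsPullback qY g g₀ (c.π.app i₀)) (hX : IsPullback qX f f₀ qY) (hf : P f) :
    ∃ (j : I) (φ : j ⟶ i₀) (Xj Yj : Scheme.{u}) (fj : Xj ⟶ Yj) (gj : Yj ⟶ D.obj j)
      (pY : Yj ⟶ Y₀) (pX : Xj ⟶ X₀), IsPullback pY gj g₀ (D.map φ) ∧ IsPullback pX fj f₀ pY ∧
        P fj := by
  obtain ⟨j, hj⟩ := descends_of_compact hc i₀ g₀ f₀ P hP ((lim_in i₀ g₀ f₀ P hY hX).mp hf)
  exact frame_out P j hj

omit [IsCofiltered I] [∀ {i j : I} (f : i ⟶ j), IsAffineHom (D.map f)] in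
/-- from a stage to the limit -/
theorem nhd_of_stage (P : MorphismProperty Scheme.{u}) [P.IsStableUnderBaseChange]
    {X Y : Scheme.{u}} {f : X ⟶ Y} {g : Y ⟶ c.pt} {qY : Y ⟶ Y₀} {qX : X ⟶ X₀}
    (hY : IsPullback qY g g₀ (c.π.app i₀)) (hX : IsPullback qX f f₀ qY) (x : X)
    {j : I} (φ : j ⟶ i₀) {Xj Yj : Scheme.{u}} {fj : Xj ⟶ Yj} {gj : Yj ⟶ D.obj j}
    {pY : Yj ⟶ Y₀} {pX : Xj ⟶ X₀} (rX : X ⟶ Xj) (hYj : IsPullback pY gj g₀ (D.map φ))
    (hXj : IsPullback pX fj f₀ pY) (h1 : rX ≫ pX = qX)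
    (h2 : rX ≫ fj ≫ gj = f ≫ g ≫ c.π.app j) (V : Xj.Opens) (hxV : rX.base x ∈ V)
    (hV : P (V.ι ≫ fj)) : ∃ U : X.Opens, x ∈ U ∧ P (U.ι ≫ f) := by
  have hw : c.π.app j ≫ D.map φ = c.π.app i₀ := c.w φ
  let rY : Y ⟶ Yj := hYj.lift qY (g ≫ c.π.app j) (by rw [hY.w, Category.assoc, hw])
  have hr : rX ≫ fj = f ≫ rY := by
    apply hYj.hom_ext
    · rw [Category.assoc, ← hXj.w, reassoc_of% h1, hX.w, Category.assoc, hYj.lift_fst]
    · rw [Category.assoc, h2, Category.assoc, hYj.lift_snd]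
  have hpb : IsPullback rX f fj rY := by
    refine IsPullback.of_right ?_ hr hXj
    rw [h1, hYj.lift_fst]
    exact hX
  have hpb' : IsPullback (rX ∣_ V) ((rX ⁻¹ᵁ V).ι ≫ f) (V.ι ≫ fj) rY :=
    (isPullback_morphismRestrict rX V).paste_vert hpb
  exact ⟨rX ⁻¹ᵁ V, hxV, P.of_isPullback hpb' hV⟩


include hc in
set_option backward.isDefEq.respectTransparency false in
/-- from the limit to a stage -/
theorem stage_of_nhd (P : MorphismProperty Scheme.{u}) [P.IsStableUnderBaseChange]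
    [P.IsMultiplicative] [IsZariskiLocalAtSource P] (hP : HasNoethModel P)
    [LocallyOfFinitePresentation f₀]
    {X Y : Scheme.{u}} {f : X ⟶ Y} {g : Y ⟶ c.pt} {qY : Y ⟶ Y₀} {qX : X ⟶ X₀}
    (hY : IsPullback qY g g₀ (c.π.app i₀)) (hX : IsPullback qX f f₀ qY) (x : X)
    (U : X.Opens) (hxU : x ∈ U) (hU : P (U.ι ≫ f)) :
    ∃ (j : I) (φ : j ⟶ i₀) (Xj Yj : Scheme.{u}) (fj : Xj ⟶ Yj) (gj : Yj ⟶ D.obj j) (pY : Yj ⟶ Y₀)
      (pX : Xj ⟶ X₀) (rX : X ⟶ Xj), IsPullback pY gj g₀ (D.map φ) ∧ IsPullback pX fj f₀ pY ∧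
        rX ≫ pX = qX ∧ rX ≫ fj ≫ gj = f ≫ g ≫ c.π.app j ∧
          ∃ V : Xj.Opens, rX.base x ∈ V ∧ P (V.ι ≫ fj) := by
  -- `X` as a limit of the system of stages
  have hXY : IsPullback (f ≫ g) qX (c.π.app i₀) (f₀ ≫ g₀) := (hX.paste_vert hY).flip
  let e := hXY.isoPullback
  have he1 : e.hom ≫ pullback.fst (c.π.app i₀) (f₀ ≫ g₀) = f ≫ g := hXY.isoPullback_hom_fst
  have he2 : e.hom ≫ pullback.snd (c.π.app i₀) (f₀ ≫ g₀) = qX := hXY.isoPullback_hom_snd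
  let cX := (pbCone D c i₀ (f₀ ≫ g₀)).extend e.hom
  have hcX : IsLimit cX := IsLimit.extendIso (s := pbCone D c i₀ (f₀ ≫ g₀)) e.hom (pbConeIsLimit i₀ (f₀ ≫ g₀) hc)
  have hA : ∀ {j k : Over i₀} (f : j ⟶ k), IsAffineHom ((pbDiag D i₀ (f₀ ≫ g₀)).map f) :=
    fun f ↦ isAffineHom_pbDiag_map i₀ (f₀ ≫ g₀) f
  obtain ⟨_, ⟨j, W, hW, rfl⟩, hxW, hWU⟩ := TopologicalSpace.Opens.isBasis_iff_nbhd.mp
    (isBasis_preimage_isAffineOpen (pbDiag D i₀ (f₀ ≫ g₀)) cX hcX) hxU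
  let ρ : X ⟶ pullback (D.map j.hom) (f₀ ≫ g₀) := cX.π.app j
  have hρ1 : ρ ≫ pullback.fst (D.map j.hom) (f₀ ≫ g₀) = f ≫ g ≫ c.π.app j.left := by
    simp only [ρ, cX, Cone.extend_π, NatTrans.comp_app,
      Functor.const_map_app, Category.assoc]
    rw [pbCone_π_fst, reassoc_of% he1]
  have hρ2 : ρ ≫ pullback.snd (D.map j.hom) (f₀ ≫ g₀) = qX := by
    simp only [ρ, cX, Cone.extend_π, NatTrans.comp_app,
      Functor.const_map_app, Category.assoc]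
    rw [pbCone_π_snd, he2]
  -- the stage map
  let Φ : pullback (D.map j.hom) (f₀ ≫ g₀) ⟶ pullback (D.map j.hom) g₀ :=
    pullback.lift (pullback.fst _ _) (pullback.snd _ _ ≫ f₀)
      (by rw [pullback.condition, Category.assoc])
  have hΦ : IsPullback (pullback.snd (D.map j.hom) (f₀ ≫ g₀)) Φ f₀
      (pullback.snd (D.map j.hom) g₀) := by
    refine (IsPullback.of_right ?_ (pullback.lift_snd _ _ _)
      (IsPullback.of_hasPullback (D.map j.hom) g₀)).flip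
    rw [pullback.lift_fst]
    exact IsPullback.of_hasPullback (D.map j.hom) (f₀ ≫ g₀)
  let rY : Y ⟶ pullback (D.map j.hom) g₀ :=
    pullback.lift (g ≫ c.π.app j.left) qY (by rw [Category.assoc, c.w, hY.w])
  have hY' : IsPullback rY g (pullback.fst (D.map j.hom) g₀) (c.π.app j.left) := by
    refine IsPullback.of_right ?_ (pullback.lift_fst _ _ _)
      (IsPullback.of_hasPullback (D.map j.hom) g₀).flip
    rw [pullback.lift_snd, c.w]
    exact hY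
  have hρΦ : ρ ≫ Φ = f ≫ rY := by
    apply pullback.hom_ext
    · simp only [Category.assoc, Φ, rY, pullback.lift_fst, hρ1]
    · simp only [Category.assoc, Φ, rY, pullback.lift_snd, reassoc_of% hρ2, hX.w]
  have hX' : IsPullback ρ f Φ rY := by
    refine IsPullback.of_right ?_ hρΦ hΦ
    rw [hρ2, pullback.lift_snd]
    exact hX
  -- the frame of `W`
  have hXW : IsPullback (ρ ∣_ W) ((ρ ⁻¹ᵁ W).ι ≫ f) (W.ι ≫ Φ) rY :=
    (isPullback_morphismRestrict ρ W).paste_vert hX'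
  have hPW : P ((ρ ⁻¹ᵁ W).ι ≫ f) := by
    rw [← X.homOfLE_ι hWU, Category.assoc]
    exact IsZariskiLocalAtSource.comp hU _
  have hWc : CompactSpace ↥(W : Scheme.{u}) := isCompact_iff_compactSpace.mp hW.isCompact
  have hΦfp : LocallyOfFinitePresentation Φ :=
    MorphismProperty.of_isPullback (P := @LocallyOfFinitePresentation) hΦ inferInstance
  obtain ⟨k, ψ, Xk', Yk', fk', gk', pY', pX', hYk', hXk', hPk'⟩ :=
    exists_stage hc j.left (pullback.fst (D.map j.hom) g₀) (W.ι ≫ Φ) P hP hY' hXW hPW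
  -- output
  let rY' : Y ⟶ Yk' := hYk'.lift rY (g ≫ c.π.app k) (by
    rw [pullback.lift_fst, Category.assoc, c.w])
  let rX : X ⟶ pullback Φ pY' := pullback.lift ρ (f ≫ rY') (by
    rw [hρΦ, Category.assoc, hYk'.lift_fst])
  refine ⟨k, ψ ≫ j.hom, pullback Φ pY', Yk', pullback.snd Φ pY', gk',
    pY' ≫ pullback.snd (D.map j.hom) g₀,
    pullback.fst Φ pY' ≫ pullback.snd (D.map j.hom) (f₀ ≫ g₀), rX, ?_, ?_, ?_, ?_,
    pullback.fst Φ pY' ⁻¹ᵁ W, ?_, ?_⟩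
  · rw [D.map_comp]
    exact hYk'.paste_horiz (IsPullback.of_hasPullback (D.map j.hom) g₀).flip
  · exact (IsPullback.of_hasPullback Φ pY').paste_horiz hΦ
  · rw [pullback.lift_fst_assoc, hρ2]
  · rw [pullback.lift_snd_assoc, Category.assoc, hYk'.lift_snd]
  · change (rX ≫ pullback.fst Φ pY').base x ∈ W
    rw [pullback.lift_fst]
    exact hxW
  · have hV' : IsPullback (pullback.fst Φ pY' ∣_ W)
        ((pullback.fst Φ pY' ⁻¹ᵁ W).ι ≫ pullback.snd Φ pY') (W.ι ≫ Φ) pY' :=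
      (isPullback_morphismRestrict (pullback.fst Φ pY') W).paste_vert
        (IsPullback.of_hasPullback Φ pY')
    rw [← hV'.isoIsPullback_hom_snd _ _ hXk']
    exact (P.cancel_left_of_respectsIso _ _).mpr hPk'

end Groth.Agent.Lead.LimNhd
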