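import Groth.Agent.Lead.LimDim
import Groth.Agent.Helper5.RelDimDesc
import Groth.Agent.S9355
open CategoryTheory Limits AlgebraicGeometry Topology

namespace Groth.Agent.Lead.LimRelDim
open Groth.Agent.Lead.LimFrame Groth.Agent.Lead.LimPullback Groth.Agent.Lead.LimBC
  Groth.Agent.Lead.LimHom Groth.Agent.Lead.LimIso Groth.Agent.Helper5.VarDim
universe u

lemma localDim_nonneg {X : Type*} [TopologicalSpace X] (x : X) : 0 ≤ FlatMor.localDim X x := by
  unfold FlatMor.localDim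
  refine le_iInf fun U ↦ ?_
  haveI : Nonempty (TopologicalSpace.IrreducibleCloseds (U.1 : Set X)) :=
    ⟨⟨closure {⟨x, U.2⟩}, isIrreducible_singleton.closure, isClosed_closure⟩⟩
  exact Order.krullDim_nonneg

lemma fibreDimAt_nonneg {X Y : Scheme.{u}} (f : X ⟶ Y) (x : X) : 0 ≤ FlatMor.fibreDimAt f x :=
  localDim_nonneg _

/-- if all local fibre dimensions are `d`, all components of all fibres have dimension `d` -/
theorem hasRelDim_of_fibreDimAt {X Y : Scheme.{u}} (f : X ⟶ Y) [LocallyOfFiniteType f] (d : ℕ)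
    (h : ∀ x, FlatMor.fibreDimAt f x = (d : WithBot ℕ∞)) : Cyc.HasRelDim f d := by
  intro y T hT
  haveI : LocallyOfFiniteType (f.fiberToSpecResidueField y) :=
    inferInstanceAs (LocallyOfFiniteType (Limits.pullback.snd f (Y.fromSpecResidueField y)))
  obtain ⟨ζ, hζ1, hζ2⟩ := exists_generic_component (Y.residueField y)
    (f.fiberToSpecResidueField y) T hT
  let x : X := f.fiberι y ζ
  have hx : f x = y := by
    have : x ∈ Set.range (f.fiberι y) := ⟨ζ, rfl⟩
    rwa [Scheme.Hom.range_fiberι] at this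
  rw [← hζ2, localDim_fiber_eq_fibreDimAt f y ζ x rfl hx]
  exact h x

lemma eq_succ_iff (a : WithBot ℕ∞) (e : ℕ) :
    a = ((e + 1 : ℕ) : WithBot ℕ∞) ↔ a ≤ ((e + 1 : ℕ) : WithBot ℕ∞) ∧ ¬ a ≤ (e : WithBot ℕ∞) := by
  constructor
  · rintro rfl
    refine ⟨le_rfl, ?_⟩
    intro h
    have : (e + 1 : ℕ) ≤ e := by exact_mod_cast h
    omega
  · rintro ⟨h1, h2⟩
    induction a with
    | bot => exact absurd bot_le h2
    | coe b =>
      induction b with
      | top =>
        exfalso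
        have : (⊤ : ℕ∞) ≤ ((e + 1 : ℕ) : ℕ∞) := by exact_mod_cast h1
        simp at this
      | coe n =>
        have h1' : n ≤ e + 1 := by exact_mod_cast h1
        have h2' : ¬ n ≤ e := by
          intro h; apply h2; exact_mod_cast h
        have : n = e + 1 := by omega
        subst this
        rfl

theorem isConstructible_setOf_fibreDimAt_eq {X Y : Scheme.{u}} (f : X ⟶ Y)
    [LocallyOfFinitePresentation f] (d : ℕ) :
    IsConstructible {x : X | FlatMor.fibreDimAt f x = (d : WithBot ℕ∞)} := by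
  have hU : ∀ n : ℕ, IsConstructible {x : X | FlatMor.fibreDimAt f x ≤ n} := fun n ↦
    (Groth.Agent.S9355.result f n).isConstructible (Groth.Agent.S0402.result f n)
  cases d with
  | zero =>
    convert hU 0 using 2
    ext x
    constructor
    · intro h; rw [h]
    · intro h; exact le_antisymm h (fibreDimAt_nonneg f x)
  | succ e =>
    have := (hU (e + 1)).sdiff (hU e)
    convert this using 1
    ext x
    exact eq_succ_iff _ e

/-- locally of finite type with all local fibre dimensions equal to `d` -/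
def relDimEq (d : ℕ) : MorphismProperty Scheme.{u} :=
  fun _ _ f => LocallyOfFiniteType f ∧ ∀ x, FlatMor.fibreDimAt f x = (d : WithBot ℕ∞)

instance (d : ℕ) : (relDimEq.{u} d).IsStableUnderBaseChange where
  of_isPullback {X Y Y' S f g f' g'} sq hg := by
    obtain ⟨h1, h2⟩ := hg
    haveI := h1
    refine ⟨MorphismProperty.of_isPullback sq h1, fun x ↦ ?_⟩
    rw [(Groth.Agent.S9358.result g f f' g' sq d).1 x]
    exact h2 _

variable {I : Type u} [SmallCategory I] [IsCofiltered I] {D : I ⥤ Scheme.{u}} {c : Cone D}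
  (hc : IsLimit c) [∀ {i j : I} (f : i ⟶ j), IsAffineHom (D.map f)] (i₀ : I)
  {X₀ Y₀ : Scheme.{u}} (g₀ : Y₀ ⟶ D.obj i₀) (f₀ : X₀ ⟶ Y₀)

include hc in
set_option backward.isDefEq.respectTransparency false in
theorem relDim_descends [CompactSpace X₀] [QuasiSeparatedSpace X₀] [CompactSpace Y₀]
    [QuasiSeparatedSpace Y₀] [LocallyOfFinitePresentation f₀] (d : ℕ)
    (h : ∀ x, FlatMor.fibreDimAt (LimFrame.limMap D c i₀ f₀ g₀) x = (d : WithBot ℕ∞)) :
    ∃ j : Over i₀, ∀ x, FlatMor.fibreDimAt (stageMap D i₀ f₀ g₀ j) x = (d : WithBot ℕ∞) := by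
  let q := pullback.snd (c.π.app i₀) g₀
  let F := LimFrame.limMap D c i₀ f₀ g₀
  let pr := pullback.fst f₀ q
  let E : Set X₀ := {x | FlatMor.fibreDimAt f₀ x = (d : WithBot ℕ∞)}
  have hE : IsConstructible Eᶜ := (isConstructible_setOf_fibreDimAt_eq f₀ d).compl
  have h1 : ∀ x : ↥(pullback f₀ q), pr.base x ∈ E := by
    intro x
    show FlatMor.fibreDimAt f₀ (pr.base x) = d
    rw [← (Groth.Agent.S9358.result f₀ q pr F (IsPullback.of_hasPullback f₀ q) d).1 x]
    exact h x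
  have hemp : (pullback.snd (c.π.app i₀) (f₀ ≫ g₀)).base ⁻¹' Eᶜ = ∅ := by
    rw [Set.eq_empty_iff_forall_notMem]
    intro z hz
    apply hz
    have := h1 ((bcIso (c.π.app i₀) f₀ g₀).hom.base z)
    rwa [← Scheme.Hom.comp_apply, bcIso_hom_fst] at this
  obtain ⟨j, hj⟩ := LimSurj.exists_preimage_eq_empty hc i₀ (f₀ ≫ g₀) Eᶜ hE hemp
  refine ⟨j, fun x => ?_⟩
  rw [(Groth.Agent.S9358.result f₀ (pullback.snd (D.map j.hom) g₀)
    (pullback.fst f₀ (pullback.snd (D.map j.hom) g₀)) (stageMap D i₀ f₀ g₀ j)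
    (IsPullback.of_hasPullback _ _) d).1 x]
  by_contra hx
  have : (bcIso (D.map j.hom) f₀ g₀).inv.base x ∈
      (pullback.snd (D.map j.hom) (f₀ ≫ g₀)).base ⁻¹' Eᶜ := by
    change (pullback.snd (D.map j.hom) (f₀ ≫ g₀)).base ((bcIso (D.map j.hom) f₀ g₀).inv.base x) ∈ Eᶜ
    rw [← Scheme.Hom.comp_apply, ← bcIso_hom_fst, Iso.inv_hom_id_assoc]
    exact hx
  rw [hj] at this
  exact this

include hc in
theorem main [CompactSpace X₀] [QuasiSeparatedSpace X₀] [CompactSpace Y₀]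
    [QuasiSeparatedSpace Y₀] [LocallyOfFinitePresentation f₀] (d : ℕ)
    {X Y : Scheme.{u}} (f : X ⟶ Y) (g : Y ⟶ c.pt) (qY : Y ⟶ Y₀) (qX : X ⟶ X₀)
    (hY : IsPullback qY g g₀ (c.π.app i₀)) (hX : IsPullback qX f f₀ qY)
    (hd : Cyc.HasRelDim f d) :
    ∃ (i : I) (φ : i ⟶ i₀) (Xi Yi : Scheme.{u}) (fi : Xi ⟶ Yi) (gi : Yi ⟶ D.obj i) (pY : Yi ⟶ Y₀)
      (pX : Xi ⟶ X₀), IsPullback pY gi g₀ (D.map φ) ∧ IsPullback pX fi f₀ pY ∧
        Cyc.HasRelDim fi d := by
  have hflft : LocallyOfFiniteType f := MorphismProperty.of_isPullback hX inferInstance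
  have h1 := Groth.Agent.Lead.LimFrame.frame_in (P := relDimEq d) hY hX
    ⟨hflft, Groth.Agent.Helper5.RelDimDesc.fibreDimAt_of_hasRelDim f d hd⟩
  obtain ⟨j, hj⟩ := relDim_descends hc i₀ g₀ f₀ d h1.2
  exact Groth.Agent.Lead.LimFrame.frame_out (P := fun _ _ f => Cyc.HasRelDim f d) j
    (hasRelDim_of_fibreDimAt _ d hj)

end Groth.Agent.Lead.LimRelDim
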