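import Groth.Agent.Lead.ZarProj
import Groth.Agent.Lead.BCMap5
import Groth.Agent.Lead.StalkPull
import Groth.Agent.Helper1.SY5
import Groth.Agent.S0585

/-!
# Local projectivity of quasi-coherent modules is Zariski local
-/

set_option autoImplicit false
set_option linter.style.haveILetI false
universe u
open CategoryTheory AlgebraicGeometry Opposite TopologicalSpace TensorProduct

namespace Groth.Agent.Lead.LocProj
open Groth.Agent.Helper1.SY

/-- projectivity passes to a base change -/
theorem projective_of_isBaseChange {R S M N : Type*} [CommRing R] [CommRing S] [Algebra R S]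
    [AddCommGroup M] [Module R M] [AddCommGroup N] [Module R N] [Module S N]
    [IsScalarTower R S N] {g : M →ₗ[R] N} (hg : IsBaseChange S g) [Module.Projective R M] :
    Module.Projective S N :=
  Module.Projective.of_equiv hg.equiv

theorem exists_comap_eq {R A : Type*} [CommRing R] [CommRing A] [Algebra R A] (f : R)
    [IsLocalization.Away f A] (p : PrimeSpectrum R) (hf : f ∉ p.asIdeal) :
    ∃ q : PrimeSpectrum A, PrimeSpectrum.comap (algebraMap R A) q = p := by
  have h : p ∈ Set.range (PrimeSpectrum.comap (algebraMap R A)) := by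
    rw [PrimeSpectrum.localization_away_comap_range A f]
    exact hf
  exact h

variable {X : Scheme.{u}} (F : X.Modules)

theorem isBaseChange_resLin [F.IsQuasicoherent] {U : X.Opens} (hU : IsAffineOpen U)
    (f : Γ(X, U)) :
    letI : Module Γ(X, U) Γ(F, X.basicOpen f) :=
      Module.compHom _ (algebraMap Γ(X, U) Γ(X, X.basicOpen f))
    haveI : IsScalarTower Γ(X, U) Γ(X, X.basicOpen f) Γ(F, X.basicOpen f) :=
      IsScalarTower.of_compHom _ _ _
    IsBaseChange Γ(X, X.basicOpen f) (resLin F (X.basicOpen_le f)) := by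
  letI : Module Γ(X, U) Γ(F, X.basicOpen f) :=
    Module.compHom _ (algebraMap Γ(X, U) Γ(X, X.basicOpen f))
  haveI : IsScalarTower Γ(X, U) Γ(X, X.basicOpen f) Γ(F, X.basicOpen f) :=
    IsScalarTower.of_compHom _ _ _
  haveI := isLocalizedModule_resLin F hU f
  haveI : IsLocalization.Away f Γ(X, X.basicOpen f) := hU.isLocalization_basicOpen f
  exact IsLocalizedModule.isBaseChange (Submonoid.powers f) Γ(X, X.basicOpen f)
    (resLin F (X.basicOpen_le f))

/-- the property -/
def P (W : X.affineOpens) : Prop := Module.Projective Γ(X, W.1) Γ(F, W.1)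

theorem P_basicOpen [F.IsQuasicoherent] (U : X.affineOpens) (f : Γ(X, U)) (h : P F U) :
    P F (X.affineBasicOpen f) := by
  letI : Module Γ(X, U.1) Γ(F, X.basicOpen f) :=
    Module.compHom _ (algebraMap Γ(X, U.1) Γ(X, X.basicOpen f))
  haveI : IsScalarTower Γ(X, U.1) Γ(X, X.basicOpen f) Γ(F, X.basicOpen f) :=
    IsScalarTower.of_compHom _ _ _
  haveI : Module.Projective Γ(X, U.1) Γ(F, U.1) := h
  show Module.Projective Γ(X, X.basicOpen f) Γ(F, X.basicOpen f)
  exact projective_of_isBaseChange (isBaseChange_resLin F U.2 f)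

theorem P_openCover [F.IsQuasicoherent] (U : X.affineOpens) (s : Finset Γ(X, U))
    (hs : Ideal.span (s : Set Γ(X, U)) = ⊤) (h : ∀ f : s, P F (X.affineBasicOpen f.1)) :
    P F U := by
  classical
  letI : ∀ i : s, Module Γ(X, U.1) Γ(F, X.basicOpen i.1) := fun i =>
    Module.compHom _ (algebraMap Γ(X, U.1) Γ(X, X.basicOpen i.1))
  haveI : ∀ i : s, IsScalarTower Γ(X, U.1) Γ(X, X.basicOpen i.1) Γ(F, X.basicOpen i.1) :=
    fun i => IsScalarTower.of_compHom _ _ _
  refine ZarProj.projective_of_cover (ι := s) (fun i : s => Γ(X, X.basicOpen i.1))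
    Γ(X, U.1) Γ(F, U.1) (fun i : s => Γ(F, X.basicOpen i.1))
    (fun i => resLin F (X.basicOpen_le i.1)) (fun i => isBaseChange_resLin F U.2 i.1)
    (fun i => h i) (fun i => ?_) (fun p => ?_) (fun S _ _ _ hS => ?_)
  · haveI : IsLocalization.Away i.1 Γ(X, X.basicOpen i.1) := U.2.isLocalization_basicOpen i.1
    exact IsLocalization.flat _ (Submonoid.powers i.1)
  · have : ∃ f ∈ s, f ∉ p.asIdeal := by
      by_contra hcon
      push Not at hcon
      have : Ideal.span (s : Set Γ(X, U)) ≤ p.asIdeal := Ideal.span_le.mpr fun x hx => hcon x hx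
      rw [hs] at this
      exact p.isPrime.ne_top (top_le_iff.mp this)
    obtain ⟨f, hfs, hfp⟩ := this
    haveI : IsLocalization.Away f Γ(X, X.basicOpen f) := U.2.isLocalization_basicOpen f
    obtain ⟨q, hq⟩ := exists_comap_eq (A := Γ(X, X.basicOpen f)) f p hfp
    exact ⟨⟨f, hfs⟩, q, hq⟩
  · haveI := hS
    exact Groth.Agent.S0585.result Γ(X, U.1) S Γ(F, U.1)

theorem projective_of_cover [F.IsQuasicoherent] {I : Type*} (U : I → X.Opens)
    (hcov : (⨆ i, U i) = ⊤) (hU : ∀ i, IsAffineOpen (U i))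
    (hP : ∀ i, Module.Projective Γ(X, U i) Γ(F, U i)) (V : X.Opens) (hV : IsAffineOpen V) :
    Module.Projective Γ(X, V) Γ(F, V) := by
  refine of_affine_open_cover (P := P F) (fun i => ⟨U i, hU i⟩) hcov ⟨V, hV⟩
    (P_basicOpen F) (P_openCover F) hP

theorem projective_pullback {X Y : Scheme.{u}} (f : X ⟶ Y) (G : Y.Modules) [G.IsQuasicoherent]
    (hG : ∀ V : Y.Opens, IsAffineOpen V → Module.Projective Γ(Y, V) Γ(G, V))
    (U : X.Opens) (hU : IsAffineOpen U) :
    Module.Projective Γ(X, U) Γ((Scheme.Modules.pullback f).obj G, U) := by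
  haveI := StalkPull.isQuasicoherent_pullbackObj f G
  let I := {V : X.Opens // IsAffineOpen V ∧ ∃ W : Y.Opens, IsAffineOpen W ∧ V ≤ f ⁻¹ᵁ W}
  refine projective_of_cover ((Scheme.Modules.pullback f).obj G) (I := I) (fun i => i.1) ?_
    (fun i => i.2.1) (fun i => ?_) U hU
  · rw [eq_top_iff]
    intro x _
    obtain ⟨_, ⟨W, hW : IsAffineOpen W, rfl⟩, hxW, -⟩ :=
      Y.isBasis_affineOpens.exists_subset_of_mem_open (Set.mem_univ (f x)) isOpen_univ
    obtain ⟨_, ⟨V, hV : IsAffineOpen V, rfl⟩, hxV, hVW⟩ :=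
      X.isBasis_affineOpens.exists_subset_of_mem_open
        (show x ∈ ((f ⁻¹ᵁ W : X.Opens) : Set X) from hxW) (f ⁻¹ᵁ W).isOpen
    exact Opens.mem_iSup.mpr ⟨⟨V, hV, W, hW, hVW⟩, hxV⟩
  · obtain ⟨V, hV, W, hW, e⟩ := i
    letI := (f.appLE W V e).hom.toAlgebra
    letI : Module Γ(Y, W) Γ((Scheme.Modules.pullback f).obj G, V) :=
      Module.compHom _ (f.appLE W V e).hom
    haveI : IsScalarTower Γ(Y, W) Γ(X, V) Γ((Scheme.Modules.pullback f).obj G, V) :=
      IsScalarTower.of_compHom _ _ _
    obtain ⟨ρ, -, hb⟩ := BCMap.exists_isBaseChange_pbSec f G hW hV e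
    haveI := hG W hW
    exact projective_of_isBaseChange hb

end Groth.Agent.Lead.LocProj
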