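import Mathlib
import Groth.Prelude.Def_Conn
import Groth.Prelude.Def_LogDiff
import Groth.Prelude.Def_W4swconnpcurvhiggsLogLam

set_option autoImplicit false
set_option linter.unusedSectionVars false
set_option linter.style.haveILetI false
universe v u

namespace Groth.Agent.Lead.LogConnA

open TensorProduct

section Free

variable {B E F : Type u} [CommRing B] [AddCommGroup E] [Module B E] [AddCommGroup F] [Module B F]
  {κ : Type*} [Fintype κ]

/-- coordinate of `E ⊗ F` along a basis vector of `F` -/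
noncomputable def coordT (b : Module.Basis κ B F) (s : κ) : E ⊗[B] F →ₗ[B] E :=
  (TensorProduct.rid B E).toLinearMap ∘ₗ TensorProduct.map LinearMap.id (b.coord s)

lemma coordT_tmul (b : Module.Basis κ B F) (s : κ) (e : E) (f : F) :
    coordT b s (e ⊗ₜ[B] f) = (b.coord s f) • e := by
  simp [coordT]

lemma expand (b : Module.Basis κ B F) (x : E ⊗[B] F) :
    x = ∑ s, (coordT b s x) ⊗ₜ[B] b s := by
  induction x using TensorProduct.induction_on with
  | zero => simp
  | tmul e f =>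
    simp only [coordT_tmul]
    conv_lhs => rw [← b.sum_repr f]
    rw [tmul_sum]
    refine Finset.sum_congr rfl fun s _ => ?_
    rw [tmul_smul, smul_tmul']
    rfl
  | add x y hx hy =>
    conv_lhs => rw [hx, hy]
    rw [← Finset.sum_add_distrib]
    refine Finset.sum_congr rfl fun s _ => ?_
    rw [map_add, add_tmul]

end Free


section Setting

variable {A : Type v} {B L E : Type u} [CommRing A] [CommRing B]
    [Algebra A B] [AddCommGroup L] [Module B L] [Module A L] [IsScalarTower A B L]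
    [AddCommGroup E] [Module B E] [Module A E] [IsScalarTower A B E]
    {n : ℕ} (ω : Module.Basis (Fin n) B L) (nabla : E →ₗ[A] E ⊗[B] L)

lemma comp_eq (i : Fin n) (e : E) : LogConn.comp nabla ω i e = coordT ω i (nabla e) := rfl

lemma nabla_expand (e : E) : nabla e = ∑ i, (LogConn.comp nabla ω i e) ⊗ₜ[B] ω i :=
  expand ω (nabla e)

lemma comp_leibniz (δ : Derivation A B L) (lam : B) (hc : Conn.IsLamConn δ lam nabla)
    (i : Fin n) (b : B) (e : E) :
    LogConn.comp nabla ω i (b • e) =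
      b • LogConn.comp nabla ω i e + (lam * ω.coord i (δ b)) • e := by
  rw [comp_eq, comp_eq, hc b e, map_add, map_smul, map_smul, coordT_tmul, smul_smul]

/-- the `i`-th logarithmic partial derivative -/
noncomputable def pd (δ : Derivation A B L) (i : Fin n) (b : B) : B := ω.coord i (δ b)

lemma pd_mul (δ : Derivation A B L) (i : Fin n) (b c : B) :
    pd ω δ i (b * c) = b * pd ω δ i c + c * pd ω δ i b := by
  unfold pd
  rw [Derivation.leibniz, map_add, map_smul, map_smul, smul_eq_mul, smul_eq_mul]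

lemma pd_one (δ : Derivation A B L) (i : Fin n) : pd ω δ i 1 = 0 := by
  unfold pd
  rw [Derivation.map_one_eq_zero, map_zero]

lemma pd_t (δ : Derivation A B L) (t : Fin n → B) (hδ : ∀ j, δ (t j) = t j • ω j) (i j : Fin n) :
    pd ω δ i (t j) = if i = j then t j else 0 := by
  unfold pd
  rw [hδ, map_smul, Module.Basis.coord_apply, Module.Basis.repr_self, Finsupp.single_apply, smul_eq_mul]
  split_ifs with h1 h2 h2
  · simp
  · exact absurd h1.symm h2
  · exact absurd h2.symm h1
  · simp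

lemma pd_prod (δ : Derivation A B L) (t : Fin n → B) (hδ : ∀ j, δ (t j) = t j • ω j) (i : Fin n)
    (S : Finset (Fin n)) (hi : i ∉ S) : pd ω δ i (∏ j ∈ S, t j) = 0 := by
  classical
  induction S using Finset.induction_on with
  | empty => simpa using pd_one ω δ i
  | insert a S ha ih =>
    rw [Finset.prod_insert ha, pd_mul, ih (fun h => hi (Finset.mem_insert_of_mem h)), pd_t ω δ t hδ,
      if_neg (fun h : i = a => hi (h ▸ Finset.mem_insert_self a S))]
    simp

lemma mem_piece (t : Fin n → B) (K J : Finset (Fin n)) (hJ : J ⊆ K) (e : E) :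
    (∏ i ∈ K \ J, t i) • LogConn.compProd nabla ω J e ∈ LogConn.piece nabla ω t K := by
  unfold LogConn.piece
  refine Submodule.mem_iSup_of_mem J (Submodule.mem_iSup_of_mem (Finset.mem_powerset.mpr hJ) ?_)
  exact ⟨e, rfl⟩

lemma piece_le (t : Fin n → B) (K : Finset (Fin n)) (N : Submodule A E)
    (h : ∀ J, J ⊆ K → ∀ e : E, (∏ i ∈ K \ J, t i) • LogConn.compProd nabla ω J e ∈ N) :
    LogConn.piece nabla ω t K ≤ N := by
  unfold LogConn.piece
  refine iSup₂_le fun J hJ => ?_
  rintro _ ⟨e, rfl⟩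
  exact h J (Finset.mem_powerset.mp hJ) e

lemma compProd_insert (hcomm : ∀ a b : Fin n,
      LogConn.comp nabla ω a ∘ₗ LogConn.comp nabla ω b = LogConn.comp nabla ω b ∘ₗ LogConn.comp nabla ω a)
    (i : Fin n) (J : Finset (Fin n)) (hi : i ∉ J) :
    LogConn.compProd nabla ω (insert i J) = LogConn.comp nabla ω i ∘ₗ LogConn.compProd nabla ω J := by
  classical
  unfold LogConn.compProd
  haveI : LeftCommutative (fun (i : Fin n) (φ : E →ₗ[A] E) => LogConn.comp nabla ω i ∘ₗ φ) :=
    ⟨fun a b φ => by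
      show LogConn.comp nabla ω a ∘ₗ (LogConn.comp nabla ω b ∘ₗ φ) =
        LogConn.comp nabla ω b ∘ₗ (LogConn.comp nabla ω a ∘ₗ φ)
      rw [← LinearMap.comp_assoc, ← LinearMap.comp_assoc, hcomm a b]⟩
  have hperm : ((insert i J).sort (· ≤ ·)).Perm (i :: J.sort (· ≤ ·)) := by
    apply List.perm_of_nodup_nodup_toFinset_eq (Finset.sort_nodup _ _)
    · rw [List.nodup_cons]
      exact ⟨by simpa using hi, Finset.sort_nodup _ _⟩
    · rw [List.toFinset_cons, Finset.sort_toFinset, Finset.sort_toFinset]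
  rw [hperm.foldr_eq]
  rfl

end Setting


section Wedge

open exteriorPower Set.powersetCard

variable {B L : Type u} [CommRing B] [AddCommGroup L] [Module B L]

/-- `x ∧ (v₁ ∧ ⋯ ∧ v_p) = x ∧ v₁ ∧ ⋯ ∧ v_p` -/
lemma wedge_ιMulti (p : ℕ) (x : L) (v : Fin p → L) :
    Conn.wedge p ((oneEquiv B L).symm x) (ιMulti B p v) = ιMulti B (p + 1) (Fin.cons x v) := by
  apply Subtype.ext
  rw [Conn.wedge_apply_coe, oneEquiv_symm_apply, ιMulti_apply_coe, ιMulti_apply_coe, ιMulti_apply_coe,
    ExteriorAlgebra.ιMulti_succ_apply, ExteriorAlgebra.ιMulti_succ_apply,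
    ExteriorAlgebra.ιMulti_zero_apply, mul_one]
  congr 1

variable {n : ℕ} (ω : Module.Basis (Fin n) B L)

/-- coordinates of `ω_i ∧ ω_K` are integers, and vanish unless `K' = K ∪ {i}`, `i ∉ K`. -/
lemma wedge_coord (p : ℕ) (i : Fin n) (K : Set.powersetCard (Fin n) p)
    (K' : Set.powersetCard (Fin n) (p + 1)) :
    ∃ m : ℤ, (ω.exteriorPower (p + 1)).coord K'
        (Conn.wedge p ((oneEquiv B L).symm (ω i)) (ω.exteriorPower p K)) = (m : B) ∧
      (m ≠ 0 → i ∉ (K : Finset (Fin n)) ∧ (K' : Finset (Fin n)) = insert i (K : Finset (Fin n))) := by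
  classical
  set idx : Fin (p + 1) → Fin n := Fin.cons i (ofFinEmbEquiv.symm K) with hidx
  set Mz : Matrix (Fin (p + 1)) (Fin (p + 1)) ℤ :=
    Matrix.of fun a b => if idx a = ofFinEmbEquiv.symm K' b then 1 else 0 with hMz
  have hcoord : (ω.exteriorPower (p + 1)).coord K'
        (Conn.wedge p ((oneEquiv B L).symm (ω i)) (ω.exteriorPower p K)) = ((Mz.det : ℤ) : B) := by
    rw [basis_apply, ιMulti_family, wedge_ιMulti, basis_coord, ιMultiDual_apply_ιMulti]
    have : ((Mz.det : ℤ) : B) = (Int.castRingHom B) Mz.det := rfl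
    rw [this, RingHom.map_det]
    congr 1
    ext a b
    simp only [Matrix.of_apply, RingHom.mapMatrix_apply, Matrix.map_apply, hMz, eq_intCast]
    have hw : (Fin.cons (ω i) (ω ∘ (ofFinEmbEquiv.symm K)) : Fin (p + 1) → L) a = ω (idx a) := by
      refine Fin.cases ?_ (fun a' => ?_) a
      · simp [hidx]
      · simp [hidx]
    rw [hw, Module.Basis.coord_apply, Module.Basis.repr_self, Finsupp.single_apply]
    split_ifs <;> simp
  refine ⟨Mz.det, hcoord, ?_⟩
  intro hm
  have hidx_mem : ∀ a, idx a ∈ insert i (K : Finset (Fin n)) := by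
    intro a
    refine Fin.cases ?_ (fun a' => ?_) a
    · simp [hidx]
    · have : (ofFinEmbEquiv.symm K) a' ∈ (K : Finset (Fin n)) := by
        rw [mem_coe_iff, ← mem_range_ofFinEmbEquiv_symm_iff_mem]
        exact ⟨a', rfl⟩
      simp only [hidx, Fin.cons_succ]
      exact Finset.mem_insert_of_mem this
  constructor
  · intro hiK
    apply hm
    rw [mem_coe_iff, ← mem_range_ofFinEmbEquiv_symm_iff_mem] at hiK
    obtain ⟨a', ha'⟩ := hiK
    apply Matrix.det_zero_of_row_eq (i := 0) (j := a'.succ) (Fin.succ_ne_zero a').symm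
    ext b
    simp only [hMz, Matrix.of_apply, hidx, Fin.cons_zero, Fin.cons_succ, ha']
  · by_contra hne
    apply hm
    have hsub : ¬ ((K' : Finset (Fin n)) ⊆ insert i (K : Finset (Fin n))) := by
      intro hsub
      apply hne
      apply Finset.eq_of_subset_of_card_le hsub
      rw [card_eq]
      exact (Finset.card_insert_le _ _).trans (by rw [card_eq])
    rw [Finset.not_subset] at hsub
    obtain ⟨k', hk', hk'2⟩ := hsub
    rw [mem_coe_iff, ← mem_range_ofFinEmbEquiv_symm_iff_mem] at hk'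
    obtain ⟨b, hb⟩ := hk'
    apply Matrix.det_eq_zero_of_column_eq_zero b
    intro a
    simp only [hMz, Matrix.of_apply]
    rw [if_neg]
    intro h
    apply hk'2
    rw [← hb, ← h]
    exact hidx_mem a

end Wedge


section Main

open exteriorPower Set.powersetCard

variable {A : Type v} {B L E : Type u} [CommRing A] [CommRing B]
    [Algebra A B] [AddCommGroup L] [Module B L] [Module A L] [IsScalarTower A B L]
    [AddCommGroup E] [Module B E] [Module A E] [IsScalarTower A B E]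
    {n : ℕ} (ω : Module.Basis (Fin n) B L) (nabla : E →ₗ[A] E ⊗[B] L)

lemma comp_mem_piece (δ : Derivation A B L) (lam : B) (hc : Conn.IsLamConn δ lam nabla)
    (t : Fin n → B) (hδ : ∀ j, δ (t j) = t j • ω j)
    (hcomm : ∀ a b : Fin n,
      LogConn.comp nabla ω a ∘ₗ LogConn.comp nabla ω b = LogConn.comp nabla ω b ∘ₗ LogConn.comp nabla ω a)
    (i : Fin n) (K : Finset (Fin n)) (hi : i ∉ K) (x : E) (hx : x ∈ LogConn.piece nabla ω t K) :
    LogConn.comp nabla ω i x ∈ LogConn.piece nabla ω t (insert i K) := by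
  classical
  have hle : LogConn.piece nabla ω t K ≤
      (LogConn.piece nabla ω t (insert i K)).comap (LogConn.comp nabla ω i) := by
    apply piece_le
    intro J hJ e
    rw [Submodule.mem_comap, comp_leibniz ω nabla δ lam hc]
    have h0 : ω.coord i (δ (∏ j ∈ K \ J, t j)) = 0 :=
      pd_prod ω δ t hδ i (K \ J) (fun h => hi (Finset.mem_sdiff.mp h).1)
    rw [h0, mul_zero, zero_smul, add_zero]
    have h1 : LogConn.comp nabla ω i (LogConn.compProd nabla ω J e) =
        LogConn.compProd nabla ω (insert i J) e := by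
      rw [compProd_insert ω nabla hcomm i J (fun h => hi (hJ h))]
      rfl
    have h2 : K \ J = insert i K \ insert i J := by
      ext k
      simp only [Finset.mem_sdiff, Finset.mem_insert]
      constructor
      · rintro ⟨hk, hkJ⟩
        refine ⟨Or.inr hk, ?_⟩
        rintro (rfl | h)
        · exact hi hk
        · exact hkJ h
      · rintro ⟨hk, hkJ⟩
        rcases hk with rfl | hk
        · exact absurd (Or.inl rfl) hkJ
        · exact ⟨hk, fun h => hkJ (Or.inr h)⟩
    rw [h1, h2]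
    exact mem_piece ω nabla t _ _ (Finset.insert_subset_insert i hJ) e
  exact hle hx

/-- `d ω_K = 0` -/
lemma d_basis_eq_zero {Ω : Type u} [AddCommGroup Ω] [Module B Ω] [Module A Ω] [IsScalarTower A B Ω] (δ0 : Derivation A B Ω)
    (ι : Ω →ₗ[B] L) (d : ∀ p : ℕ, ↥(⋀[B]^p L) →ₗ[A] ↥(⋀[B]^(p + 1) L))
    (hd : LogDiff.IsLogRule δ0 ι (⇑ω) d) (p : ℕ) (K : Set.powersetCard (Fin n) p) :
    d p (ω.exteriorPower p K) = 0 := by
  rw [basis_apply, ιMulti_family]
  have h := hd p 1 (ω ∘ (ofFinEmbEquiv.symm K)) (fun k => Or.inr ⟨_, rfl⟩)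
  rw [one_smul] at h
  rw [h]
  apply AlternatingMap.map_coord_zero _ 0
  rw [Fin.cons_zero, Derivation.map_one_eq_zero, map_zero]

/-- `d (ω_j) = 0` for the one-form -/
lemma d_one_eq_zero {Ω : Type u} [AddCommGroup Ω] [Module B Ω] [Module A Ω] [IsScalarTower A B Ω] (δ0 : Derivation A B Ω)
    (ι : Ω →ₗ[B] L) (d : ∀ p : ℕ, ↥(⋀[B]^p L) →ₗ[A] ↥(⋀[B]^(p + 1) L))
    (hd : LogDiff.IsLogRule δ0 ι (⇑ω) d) (j : Fin n) :
    d 1 ((oneEquiv B L).symm (ω j)) = 0 := by
  rw [oneEquiv_symm_apply]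
  have h := hd 1 1 (fun _ => ω j) (fun k => Or.inr ⟨_, rfl⟩)
  rw [one_smul] at h
  rw [h]
  apply AlternatingMap.map_coord_zero _ 0
  rw [Fin.cons_zero, Derivation.map_one_eq_zero, map_zero]

/-- the value of `∇^p` on `e ⊗ η` when `d η = 0` -/
lemma nablas_tmul_closed (lam : B) (d : ∀ p : ℕ, ↥(⋀[B]^p L) →ₗ[A] ↥(⋀[B]^(p + 1) L))
    (nablas : ∀ p : ℕ, E ⊗[B] ↥(⋀[B]^p L) →ₗ[A] E ⊗[B] ↥(⋀[B]^(p + 1) L))
    (hrule : Conn.IsCxRule nabla (fun p => lam • d p) nablas) (p : ℕ) (e : E) (η : ↥(⋀[B]^p L))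
    (hη : d p η = 0) :
    nablas p (e ⊗ₜ[B] η) =
      ∑ i, (LogConn.comp nabla ω i e) ⊗ₜ[B] Conn.wedge p ((oneEquiv B L).symm (ω i)) η := by
  rw [hrule p e η]
  have h1 : (lam • d p) η = 0 := by
    rw [LinearMap.smul_apply, hη, smul_zero]
  rw [h1, tmul_zero, add_zero]
  conv_lhs => rw [nabla_expand ω nabla e]
  rw [map_sum, map_sum, LinearMap.sum_apply]
  refine Finset.sum_congr rfl fun i _ => ?_
  rw [Conn.toOne_tmul, Conn.twedge_tmul]


lemma sum_delta (X : Fin n → Fin n → E) (a b : Fin n) :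
    ∑ j, ∑ i, (((if i = a then (1:B) else 0) * (if j = b then 1 else 0)) • X i j) = X a b := by
  rw [Finset.sum_eq_single b, Finset.sum_eq_single a]
  · simp
  · intro i _ hi
    simp [hi]
  · simp
  · intro j _ hj
    simp [hj]
  · simp

/-- the components of an integrable `∇` commute -/
lemma comp_comm {Ω : Type u} [AddCommGroup Ω] [Module B Ω] [Module A Ω] [IsScalarTower A B Ω]
    (δ0 : Derivation A B Ω) (ι : Ω →ₗ[B] L) (lam : B)
    (d : ∀ p : ℕ, ↥(⋀[B]^p L) →ₗ[A] ↥(⋀[B]^(p + 1) L))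
    (hd : LogDiff.IsLogRule δ0 ι (⇑ω) d)
    (nablas : ∀ p : ℕ, E ⊗[B] ↥(⋀[B]^p L) →ₗ[A] E ⊗[B] ↥(⋀[B]^(p + 1) L))
    (hint : Conn.IsIntegrable nabla (fun p => lam • d p) nablas) (a b : Fin n) :
    LogConn.comp nabla ω a ∘ₗ LogConn.comp nabla ω b =
      LogConn.comp nabla ω b ∘ₗ LogConn.comp nabla ω a := by
  ext m
  have h0 := hint.2 m
  rw [nabla_expand ω nabla m, map_sum, map_sum] at h0
  have h1 : ∀ j, nablas 1 (Conn.toOne ((LogConn.comp nabla ω j m) ⊗ₜ[B] ω j)) =
      ∑ i, (LogConn.comp nabla ω i (LogConn.comp nabla ω j m)) ⊗ₜ[B]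
        ιMulti B 2 (Fin.cons (ω i) (fun _ => ω j)) := by
    intro j
    rw [Conn.toOne_tmul, nablas_tmul_closed ω nabla lam d nablas hint.1 1 _ _
      (d_one_eq_zero ω δ0 ι d hd j)]
    refine Finset.sum_congr rfl fun i _ => ?_
    congr 1
    conv_lhs => rw [oneEquiv_symm_apply B L (ω j)]
    exact wedge_ιMulti 1 (ω i) (fun _ => ω j)
  simp only [h1] at h0
  -- apply the functional
  set ψ : Module.Dual B ↥(⋀[B]^2 L) :=
    pairingDual B L 2 (ιMulti B 2 ![ω.coord a, ω.coord b]) with hψ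
  have hψv : ∀ i j, ψ (ιMulti B 2 (Fin.cons (ω i) (fun _ => ω j))) =
      (if i = a then (1:B) else 0) * (if j = b then 1 else 0) -
      (if i = b then (1:B) else 0) * (if j = a then 1 else 0) := by
    intro i j
    rw [hψ, pairingDual_ιMulti_ιMulti, Matrix.det_fin_two]
    simp only [Matrix.of_apply, Matrix.cons_val_zero, Matrix.cons_val_one, Fin.cons_zero,
      Module.Basis.coord_apply, Module.Basis.repr_self, Finsupp.single_apply]
    have e1 : (Fin.cons (ω i) (fun _ => ω j) : Fin 2 → L) 1 = ω j := rfl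
    rw [e1]
    simp only [Module.Basis.repr_self, Finsupp.single_apply]
  have h2 := congrArg ((TensorProduct.rid B E).toLinearMap ∘ₗ TensorProduct.map LinearMap.id ψ) h0
  simp only [map_sum, map_zero, LinearMap.coe_comp, Function.comp_apply, TensorProduct.map_tmul,
    LinearMap.id_coe, id_eq, LinearEquiv.coe_coe, TensorProduct.rid_tmul, hψv, sub_smul,
    Finset.sum_sub_distrib] at h2
  rw [sum_delta, sum_delta] at h2
  rw [LinearMap.comp_apply, LinearMap.comp_apply]
  exact sub_eq_zero.mp h2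

/-- **S16797**. -/
theorem main_nablas_mem_layer
    (lam : B) (t : Fin n → B) (bΩ : Module.Basis (Fin n) B (KaehlerDifferential A B))
    (hbΩ : ∀ i, bΩ i = KaehlerDifferential.D A B (t i))
    (ι : KaehlerDifferential A B →ₗ[B] L)
    (hι : ∀ i, ι (KaehlerDifferential.D A B (t i)) = t i • ω i)
    (hc : Conn.IsLamConn (ι.compDer (KaehlerDifferential.D A B)) lam nabla)
    (d : ∀ p : ℕ, ↥(⋀[B]^p L) →ₗ[A] ↥(⋀[B]^(p + 1) L))
    (hd : LogDiff.IsLogRule (KaehlerDifferential.D A B) ι (⇑ω) d)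
    (nablas : ∀ p : ℕ, E ⊗[B] ↥(⋀[B]^p L) →ₗ[A] E ⊗[B] ↥(⋀[B]^(p + 1) L))
    (hint : Conn.IsIntegrable nabla (fun p => lam • d p) nablas)
    (p : ℕ) (x : E ⊗[B] ↥(⋀[B]^p L)) (hx : x ∈ LogConn.layer nabla ω t p) :
    nablas p x ∈ LogConn.layer nabla ω t (p + 1) := by
  classical
  have hcomm := comp_comm ω nabla (KaehlerDifferential.D A B) ι lam d hd nablas hint
  have hδ : ∀ j, (ι.compDer (KaehlerDifferential.D A B)) (t j) = t j • ω j := fun j => hι j
  have hxK : ∀ K : Set.powersetCard (Fin n) p,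
      coordT (ω.exteriorPower p) K x ∈ LogConn.piece nabla ω t (K : Finset (Fin n)) := by
    intro K
    have := (Submodule.mem_iInf _).mp hx K
    exact this
  rw [expand (ω.exteriorPower p) x, map_sum]
  refine Submodule.sum_mem _ fun K _ => ?_
  rw [nablas_tmul_closed ω nabla lam d nablas hint.1 p _ _
    (d_basis_eq_zero ω (KaehlerDifferential.D A B) ι d hd p K)]
  refine Submodule.sum_mem _ fun i _ => ?_
  unfold LogConn.layer
  rw [Submodule.mem_iInf]
  intro K'
  rw [Submodule.mem_comap]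
  show coordT (ω.exteriorPower (p + 1)) K' _ ∈ _
  rw [coordT_tmul]
  obtain ⟨m, hm, hm2⟩ := wedge_coord ω p i K K'
  rw [hm, Int.cast_smul_eq_zsmul]
  by_cases hm0 : m = 0
  · rw [hm0, zero_smul]
    exact Submodule.zero_mem _
  · obtain ⟨hiK, hK'⟩ := hm2 hm0
    rw [hK']
    exact Submodule.smul_of_tower_mem _ m
      (comp_mem_piece ω nabla _ lam hc t hδ hcomm i _ hiK _ (hxK K))

end Main

end Groth.Agent.Lead.LogConnA
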