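import Mathlib
import Groth.Agent.Lead.LogConnA

set_option autoImplicit false
set_option linter.unusedSectionVars false
set_option linter.style.haveILetI false
universe v u

namespace Groth.Agent.Lead.LogConnB

open TensorProduct Groth.Agent.Lead.LogConnA

section Pieces

variable {A : Type v} {B L E : Type u} [CommRing A] [CommRing B]
    [Algebra A B] [AddCommGroup L] [Module B L] [Module A L] [IsScalarTower A B L]
    [AddCommGroup E] [Module B E] [Module A E] [IsScalarTower A B E]
    {n : ℕ} (ω : Module.Basis (Fin n) B L) (nabla : E →ₗ[A] E ⊗[B] L)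

/-- M3: `t_{K∖J} • E_J ⊆ E_K` for `J ⊆ K`. -/
lemma prod_smul_mem_piece (t : Fin n → B) (K J : Finset (Fin n)) (hJ : J ⊆ K) (x : E)
    (hx : x ∈ LogConn.piece nabla ω t J) :
    (∏ i ∈ K \ J, t i) • x ∈ LogConn.piece nabla ω t K := by
  classical
  have hle : LogConn.piece nabla ω t J ≤
      (LogConn.piece nabla ω t K).comap
        ((LinearMap.lsmul B E (∏ i ∈ K \ J, t i)).restrictScalars A) := by
    apply piece_le
    intro J' hJ' e
    rw [Submodule.mem_comap]
    show (∏ i ∈ K \ J, t i) • ((∏ i ∈ J \ J', t i) • LogConn.compProd nabla ω J' e) ∈ _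
    rw [smul_smul, ← Finset.prod_union
      (Finset.disjoint_of_subset_right Finset.sdiff_subset Finset.sdiff_disjoint),
      Finset.sdiff_union_sdiff_cancel hJ hJ']
    exact mem_piece ω nabla t K J' (hJ'.trans hJ) e
  exact hle hx

/-- `t_j • E_K ⊆ E_{K ∪ j}` for `j ∉ K` -/
lemma t_smul_mem_piece_of_notMem (t : Fin n → B) (K : Finset (Fin n)) (j : Fin n) (hj : j ∉ K) (x : E)
    (hx : x ∈ LogConn.piece nabla ω t K) :
    t j • x ∈ LogConn.piece nabla ω t (insert j K) := by
  classical
  have := prod_smul_mem_piece ω nabla t (insert j K) K (Finset.subset_insert j K) x hx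
  rwa [Finset.insert_sdiff_of_notMem _ hj, Finset.sdiff_self, Finset.insert_empty,
    Finset.prod_singleton] at this

/-- `∇_i E_K ⊆ E_{K ∪ i}` as soon as `∇_{J ∪ i} = ∇_i ∇_J` for all `J ⊆ K` -/
lemma comp_mem_piece_gen (δ : Derivation A B L) (lam : B) (hc : Conn.IsLamConn δ lam nabla)
    (t : Fin n → B) (hδ : ∀ j, δ (t j) = t j • ω j)
    (i : Fin n) (K : Finset (Fin n)) (hi : i ∉ K)
    (hins : ∀ J, J ⊆ K → LogConn.compProd nabla ω (insert i J) =
      LogConn.comp nabla ω i ∘ₗ LogConn.compProd nabla ω J)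
    (x : E) (hx : x ∈ LogConn.piece nabla ω t K) :
    LogConn.comp nabla ω i x ∈ LogConn.piece nabla ω t (insert i K) := by
  classical
  have hle : LogConn.piece nabla ω t K ≤
      (LogConn.piece nabla ω t (insert i K)).comap (LogConn.comp nabla ω i) := by
    apply piece_le
    intro J hJ e
    rw [Submodule.mem_comap, comp_leibniz ω nabla δ lam hc]
    have h0 : ω.coord i (δ (∏ j ∈ K \ J, t j)) = 0 :=
      pd_prod ω δ t hδ i (K \ J) (fun h => hi (Finset.mem_sdiff.mp h).1)
    rw [h0, mul_zero, zero_smul, add_zero]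
    have h1 : LogConn.comp nabla ω i (LogConn.compProd nabla ω J e) =
        LogConn.compProd nabla ω (insert i J) e := by
      rw [hins J hJ]
      rfl
    have h2 : K \ J = insert i K \ insert i J := by
      ext k
      simp only [Finset.mem_sdiff, Finset.mem_insert]
      constructor
      · rintro ⟨hk, hkJ⟩
        refine ⟨Or.inr hk, ?_⟩
        rintro (rfl | h)
        · exact hi hk
        · exact hkJ h
      · rintro ⟨hk, hkJ⟩
        rcases hk with rfl | hk
        · exact absurd (Or.inl rfl) hkJ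
        · exact ⟨hk, fun h => hkJ (Or.inr h)⟩
    rw [h1, h2]
    exact mem_piece ω nabla t _ _ (Finset.insert_subset_insert i hJ) e
  exact hle hx

/-- `∇_{J ∪ a} = ∇_a ∇_J` when `a` is smaller than all elements of `J` (no commutation needed) -/
lemma compProd_insert_min (a : Fin n) (J : Finset (Fin n)) (ha : ∀ x ∈ J, a < x) :
    LogConn.compProd nabla ω (insert a J) =
      LogConn.comp nabla ω a ∘ₗ LogConn.compProd nabla ω J := by
  classical
  unfold LogConn.compProd
  rw [Finset.sort_insert (· ≤ ·) (fun b hb => (ha b hb).le) (fun h => lt_irrefl a (ha a h))]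
  rfl

/-- the logarithmic derivative `∂_i b` lies in `t_i B` -/
lemma pd_eq (t : Fin n → B) (bΩ : Module.Basis (Fin n) B (KaehlerDifferential A B))
    (hbΩ : ∀ i, bΩ i = KaehlerDifferential.D A B (t i))
    (ι : KaehlerDifferential A B →ₗ[B] L)
    (hι : ∀ i, ι (KaehlerDifferential.D A B (t i)) = t i • ω i) (i : Fin n)
    (x : KaehlerDifferential A B) :
    ω.coord i (ι x) = t i * bΩ.repr x i := by
  classical
  conv_lhs => rw [← bΩ.sum_repr x]
  simp only [map_sum, map_smul, hbΩ, hι, Module.Basis.coord_apply, Module.Basis.repr_self,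
    Finsupp.single_apply, smul_eq_mul]
  rw [Finset.sum_eq_single i]
  · simp [mul_comm]
  · intro m _ hm
    simp [hm]
  · simp

/-- `b • ∇_J e ∈ E_J` -/
lemma smul_compProd_mem (lam : B) (t : Fin n → B)
    (bΩ : Module.Basis (Fin n) B (KaehlerDifferential A B))
    (hbΩ : ∀ i, bΩ i = KaehlerDifferential.D A B (t i))
    (ι : KaehlerDifferential A B →ₗ[B] L)
    (hι : ∀ i, ι (KaehlerDifferential.D A B (t i)) = t i • ω i)
    (hc : Conn.IsLamConn (ι.compDer (KaehlerDifferential.D A B)) lam nabla)
    (J : Finset (Fin n)) : ∀ (b : B) (e : E),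
    b • LogConn.compProd nabla ω J e ∈ LogConn.piece nabla ω t J := by
  classical
  induction J using Finset.induction_on_min with
  | empty =>
    intro b e
    have := mem_piece ω nabla t ∅ ∅ (Finset.Subset.refl _) (b • e)
    simpa [LogConn.compProd] using this
  | insert a J ha ih =>
    intro b e
    have haJ : a ∉ J := fun h => lt_irrefl a (ha a h)
    rw [compProd_insert_min ω nabla a J ha, LinearMap.comp_apply]
    set y := LogConn.compProd nabla ω J e with hy
    have hleib := comp_leibniz ω nabla (ι.compDer (KaehlerDifferential.D A B)) lam hc a b y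
    have hpd : ω.coord a ((ι.compDer (KaehlerDifferential.D A B)) b) =
        t a * bΩ.repr (KaehlerDifferential.D A B b) a :=
      pd_eq ω t bΩ hbΩ ι hι a _
    have hrew : b • LogConn.comp nabla ω a y =
        LogConn.comp nabla ω a (b • y) -
          t a • ((lam * bΩ.repr (KaehlerDifferential.D A B b) a) • y) := by
      rw [hleib, hpd, smul_smul]
      have : t a * (lam * bΩ.repr (KaehlerDifferential.D A B b) a) =
          lam * (t a * bΩ.repr (KaehlerDifferential.D A B b) a) := by ring
      rw [this]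
      abel
    rw [hrew]
    refine Submodule.sub_mem _ ?_ ?_
    · refine comp_mem_piece_gen ω nabla _ lam hc t (fun j => hι j) a J haJ ?_ _ (ih b e)
      intro J' hJ'
      exact compProd_insert_min ω nabla a J' (fun x hx => ha x (hJ' hx))
    · exact t_smul_mem_piece_of_notMem ω nabla t J a haJ _ (ih _ e)

/-- the pieces are `B`-submodules -/
lemma piece_smul_mem (lam : B) (t : Fin n → B)
    (bΩ : Module.Basis (Fin n) B (KaehlerDifferential A B))
    (hbΩ : ∀ i, bΩ i = KaehlerDifferential.D A B (t i))
    (ι : KaehlerDifferential A B →ₗ[B] L)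
    (hι : ∀ i, ι (KaehlerDifferential.D A B (t i)) = t i • ω i)
    (hc : Conn.IsLamConn (ι.compDer (KaehlerDifferential.D A B)) lam nabla)
    (K : Finset (Fin n)) (b : B) (x : E) (hx : x ∈ LogConn.piece nabla ω t K) :
    b • x ∈ LogConn.piece nabla ω t K := by
  classical
  have hle : LogConn.piece nabla ω t K ≤
      (LogConn.piece nabla ω t K).comap ((LinearMap.lsmul B E b).restrictScalars A) := by
    apply piece_le
    intro J hJ e
    rw [Submodule.mem_comap]
    show b • ((∏ i ∈ K \ J, t i) • LogConn.compProd nabla ω J e) ∈ _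
    rw [smul_comm]
    exact prod_smul_mem_piece ω nabla t K J hJ _
      (smul_compProd_mem ω nabla lam t bΩ hbΩ ι hι hc J b e)
  exact hle hx

end Pieces


section Gens

open exteriorPower Set.powersetCard

variable {A : Type v} {B L E : Type u} [CommRing A] [CommRing B]
    [Algebra A B] [AddCommGroup L] [Module B L] [Module A L] [IsScalarTower A B L]
    [AddCommGroup E] [Module B E] [Module A E] [IsScalarTower A B E]
    {n : ℕ} (ω : Module.Basis (Fin n) B L) (nabla : E →ₗ[A] E ⊗[B] L)

/-- product over the enumeration of `K` -/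
lemma prod_emb (t : Fin n → B) (p : ℕ) (K : Set.powersetCard (Fin n) p) (I : Finset (Fin n)) :
    ∏ b : Fin p, (if ofFinEmbEquiv.symm K b ∈ I then (1:B) else t (ofFinEmbEquiv.symm K b)) =
      ∏ k ∈ (K : Finset (Fin n)) \ I, t k := by
  classical
  have h1 : ∏ b : Fin p, (if ofFinEmbEquiv.symm K b ∈ I then (1:B) else t (ofFinEmbEquiv.symm K b)) =
      ∏ k ∈ (K : Finset (Fin n)), (if k ∈ I then (1:B) else t k) := by
    conv_rhs => rw [← Finset.map_orderEmbOfFin_univ (K : Finset (Fin n)) K.prop, Finset.prod_map]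
    rfl
  rw [h1, ← Finset.filter_notMem_eq_sdiff, Finset.prod_filter]
  refine Finset.prod_congr rfl fun k _ => ?_
  by_cases hk : k ∈ I <;> simp [hk]

/-- a generator lies in the layer -/
lemma gen_mem_layer (lam : B) (t : Fin n → B)
    (bΩ : Module.Basis (Fin n) B (KaehlerDifferential A B))
    (hbΩ : ∀ i, bΩ i = KaehlerDifferential.D A B (t i))
    (ι : KaehlerDifferential A B →ₗ[B] L)
    (hι : ∀ i, ι (KaehlerDifferential.D A B (t i)) = t i • ω i)
    (hc : Conn.IsLamConn (ι.compDer (KaehlerDifferential.D A B)) lam nabla)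
    (p : ℕ) (I : Finset (Fin n)) (hI : I.card ≤ p) (e : E) (v : Fin p → L)
    (hv1 : ∀ (k : Fin p) (hk : k.val < I.card), v k = ω (I.orderEmbOfFin rfl ⟨k.val, hk⟩))
    (hv2 : ∀ k : Fin p, I.card ≤ k.val → v k ∈ LinearMap.range ι)
    (K : Set.powersetCard (Fin n) p) :
    coordT (ω.exteriorPower p) K (LogConn.compProd nabla ω I e ⊗ₜ[B] ιMulti B p v) ∈
      LogConn.piece nabla ω t (K : Finset (Fin n)) := by
  classical
  rw [coordT_tmul, basis_coord, ιMultiDual_apply_ιMulti]
  set embK := ofFinEmbEquiv.symm K with hembK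
  have hembK_mem : ∀ b, embK b ∈ (K : Finset (Fin n)) := by
    intro b
    rw [mem_coe_iff, ← mem_range_ofFinEmbEquiv_symm_iff_mem]
    exact ⟨b, rfl⟩
  by_cases hIK : I ⊆ (K : Finset (Fin n))
  · -- factor the determinant
    let u : Fin p → B := fun b => if embK b ∈ I then 1 else t (embK b)
    let A' : Matrix (Fin p) (Fin p) B := Matrix.of fun a b =>
      if embK b ∈ I then ω.coord (embK b) (v a)
      else (if h : I.card ≤ a.val then bΩ.repr (Classical.choose (hv2 a h)) (embK b) else 0)
    have hM : (Matrix.of fun a b => ω.coord (embK b) (v a)) = Matrix.of fun a b => u b * A' a b := by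
      ext a b
      simp only [Matrix.of_apply, u, A']
      by_cases hb : embK b ∈ I
      · simp [hb]
      · rw [if_neg hb, if_neg hb]
        by_cases ha : I.card ≤ a.val
        · rw [dif_pos ha]
          have hη := Classical.choose_spec (hv2 a ha)
          rw [← pd_eq ω t bΩ hbΩ ι hι, hη]
        · rw [dif_neg ha, mul_zero, hv1 a (not_le.mp ha), Module.Basis.coord_apply,
            Module.Basis.repr_self, Finsupp.single_apply, if_neg]
          intro h
          apply hb
          rw [← h]
          exact Finset.orderEmbOfFin_mem _ _ _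
    rw [hM, Matrix.det_mul_row, prod_emb t p K I, mul_comm, mul_smul]
    exact piece_smul_mem ω nabla lam t bΩ hbΩ ι hι hc _ _ _ (mem_piece ω nabla t _ I hIK e)
  · -- a zero row
    rw [Finset.not_subset] at hIK
    obtain ⟨i, hiI, hiK⟩ := hIK
    have hi' : i ∈ Set.range (I.orderEmbOfFin rfl) := by
      rw [Finset.range_orderEmbOfFin]
      exact hiI
    obtain ⟨a0, ha0⟩ := hi'
    have ha0p : a0.val < p := lt_of_lt_of_le a0.isLt hI
    rw [Matrix.det_eq_zero_of_row_eq_zero ⟨a0.val, ha0p⟩, zero_smul]
    · exact Submodule.zero_mem _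
    · intro b
      rw [Matrix.of_apply, hv1 ⟨a0.val, ha0p⟩ a0.isLt, Module.Basis.coord_apply,
        Module.Basis.repr_self, Finsupp.single_apply, if_neg]
      intro h
      apply hiK
      have : I.orderEmbOfFin rfl ⟨a0.val, a0.isLt⟩ = i := ha0
      rw [← this, h]
      exact hembK_mem b


/-- an injective enumeration of `K` differs from the increasing one by a permutation -/
lemma exists_perm (p : ℕ) (K : Set.powersetCard (Fin n) p) (idx : Fin p → Fin n)
    (hinj : Function.Injective idx) (hmem : ∀ a, idx a ∈ (K : Finset (Fin n))) :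
    ∃ σ : Equiv.Perm (Fin p), ∀ a, idx a = ofFinEmbEquiv.symm K (σ a) := by
  have h : ∀ a, ∃ b, ofFinEmbEquiv.symm K b = idx a := fun a =>
    (mem_range_ofFinEmbEquiv_symm_iff_mem K (idx a)).mpr (mem_coe_iff.mp (hmem a))
  choose f hf using h
  have hfinj : Function.Injective f := by
    intro a a' haa
    apply hinj
    rw [← hf a, ← hf a', haa]
  exact ⟨Equiv.ofBijective f (Finite.injective_iff_bijective.mp hfinj), fun a => (hf a).symm⟩

/-- `t_{K∖J} ∇_J e ⊗ ω_K` is, up to sign, a generator -/
lemma piece_tmul_mem_span (t : Fin n → B)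
    (ι : KaehlerDifferential A B →ₗ[B] L)
    (hι : ∀ i, ι (KaehlerDifferential.D A B (t i)) = t i • ω i)
    (p : ℕ) (K : Set.powersetCard (Fin n) p) (J : Finset (Fin n)) (hJ : J ⊆ (K : Finset (Fin n)))
    (e : E) :
    ((∏ i ∈ (K : Finset (Fin n)) \ J, t i) • LogConn.compProd nabla ω J e) ⊗ₜ[B]
        (ω.exteriorPower p K) ∈ Submodule.span B (LogConn.gens nabla ω ι p) := by
  classical
  have hKc : (K : Finset (Fin n)).card = p := K.prop
  have hlp : J.card ≤ p := hKc ▸ Finset.card_le_card hJ
  set S := (K : Finset (Fin n)) \ J with hS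
  have hSc : S.card = p - J.card := by
    rw [hS, Finset.card_sdiff_of_subset hJ, hKc]
  let idx : Fin p → Fin n := fun a =>
    if h : a.val < J.card then J.orderEmbOfFin rfl ⟨a.val, h⟩
    else S.orderEmbOfFin rfl ⟨a.val - J.card, by rw [hSc]; omega⟩
  have hidx_lt : ∀ a : Fin p, a.val < J.card → idx a ∈ J := by
    intro a h
    simp only [idx, dif_pos h]
    exact Finset.orderEmbOfFin_mem _ _ _
  have hidx_ge : ∀ a : Fin p, ¬ a.val < J.card → idx a ∈ S := by
    intro a h
    simp only [idx, dif_neg h]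
    exact Finset.orderEmbOfFin_mem _ _ _
  have hidx_iff : ∀ a : Fin p, idx a ∈ J ↔ a.val < J.card := by
    intro a
    constructor
    · intro h
      by_contra hcon
      exact (Finset.mem_sdiff.mp (hidx_ge a hcon)).2 h
    · exact hidx_lt a
  have hidx_mem : ∀ a, idx a ∈ (K : Finset (Fin n)) := by
    intro a
    by_cases h : a.val < J.card
    · exact hJ (hidx_lt a h)
    · exact (Finset.mem_sdiff.mp (hidx_ge a h)).1
  have hidx_inj : Function.Injective idx := by
    intro a a' haa
    by_cases h : a.val < J.card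
    · have h' : a'.val < J.card := (hidx_iff a').mp (haa ▸ hidx_lt a h)
      simp only [idx, dif_pos h, dif_pos h'] at haa
      have := (J.orderEmbOfFin rfl).injective haa
      exact Fin.ext (by simpa using congrArg Fin.val this)
    · have h' : ¬ a'.val < J.card := fun h' => h ((hidx_iff a).mp (haa ▸ hidx_lt a' h'))
      simp only [idx, dif_neg h, dif_neg h'] at haa
      have := (S.orderEmbOfFin rfl).injective haa
      have h2 : a.val - J.card = a'.val - J.card := by simpa using congrArg Fin.val this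
      exact Fin.ext (by omega)
  obtain ⟨σ, hσ⟩ := exists_perm p K idx hidx_inj hidx_mem
  let v : Fin p → L := fun a =>
    if a.val < J.card then ω (idx a) else ι (KaehlerDifferential.D A B (t (idx a)))
  have hgen : LogConn.compProd nabla ω J e ⊗ₜ[B] ιMulti B p v ∈ LogConn.gens nabla ω ι p := by
    refine ⟨J, hlp, e, v, ?_, ?_, rfl⟩
    · intro k hk
      simp only [v, if_pos hk, idx, dif_pos hk]
    · intro k hk
      simp only [v, if_neg (not_lt.mpr hk)]
      exact ⟨_, rfl⟩
  -- compute `ιMulti v`
  let c : Fin p → B := fun a => if idx a ∈ J then 1 else t (idx a)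
  have hv : v = fun a => c a • (ω ∘ ofFinEmbEquiv.symm K ∘ σ) a := by
    funext a
    simp only [v, c, Function.comp_apply, ← hσ a]
    by_cases h : a.val < J.card
    · rw [if_pos h, if_pos ((hidx_iff a).mpr h), one_smul]
    · rw [if_neg h, if_neg (fun h' => h ((hidx_iff a).mp h')), hι]
  have hprod : ∏ a, c a = ∏ i ∈ S, t i := by
    have h1 : ∏ a, c a = ∏ a, (fun b => if ofFinEmbEquiv.symm K b ∈ J then (1:B)
        else t (ofFinEmbEquiv.symm K b)) (σ a) := by
      refine Finset.prod_congr rfl fun a _ => ?_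
      simp only [c, hσ a]
    rw [h1]
    exact (Equiv.prod_comp σ (fun b => if ofFinEmbEquiv.symm K b ∈ J then (1:B)
        else t (ofFinEmbEquiv.symm K b))).trans (prod_emb t p K J)
  have hιv : ιMulti B p v =
      (Equiv.Perm.sign σ) • ((∏ i ∈ S, t i) • (ω.exteriorPower p K)) := by
    have h3 : (ιMulti B p) (fun a => c a • (ω ∘ ofFinEmbEquiv.symm K ∘ σ) a) =
        (∏ a, c a) • (ιMulti B p) (ω ∘ ofFinEmbEquiv.symm K ∘ σ) :=
      (ιMulti B p).toMultilinearMap.map_smul_univ c (ω ∘ ofFinEmbEquiv.symm K ∘ σ)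
    have h4 : (ιMulti B p) ((ω ∘ ofFinEmbEquiv.symm K) ∘ σ) =
        Equiv.Perm.sign σ • (ιMulti B p) (ω ∘ ofFinEmbEquiv.symm K) :=
      AlternatingMap.map_perm (ιMulti B p) (ω ∘ ofFinEmbEquiv.symm K) σ
    have h2 : (ω ∘ ofFinEmbEquiv.symm K ∘ σ) = ((ω ∘ ofFinEmbEquiv.symm K) ∘ σ) := rfl
    rw [hv, h3, hprod, h2, h4, basis_apply, ιMulti_family, smul_comm]
  have hfinal : ((∏ i ∈ S, t i) • LogConn.compProd nabla ω J e) ⊗ₜ[B] (ω.exteriorPower p K) =
      (Equiv.Perm.sign σ) • (LogConn.compProd nabla ω J e ⊗ₜ[B] ιMulti B p v) := by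
    rw [hιv]
    rcases Int.units_eq_one_or (Equiv.Perm.sign σ) with h | h
    · rw [h, one_smul, one_smul, tmul_smul, smul_tmul']
    · rw [h]
      simp only [Units.neg_smul, one_smul, tmul_neg, neg_neg]
      rw [tmul_smul, smul_tmul']
  rw [hfinal]
  rcases Int.units_eq_one_or (Equiv.Perm.sign σ) with h | h
  · rw [h, one_smul]
    exact Submodule.subset_span hgen
  · rw [h]
    simp only [Units.neg_smul, one_smul]
    exact Submodule.neg_mem _ (Submodule.subset_span hgen)

/-- **S16796**. -/
theorem main_span_gens (lam : B) (t : Fin n → B)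
    (bΩ : Module.Basis (Fin n) B (KaehlerDifferential A B))
    (hbΩ : ∀ i, bΩ i = KaehlerDifferential.D A B (t i))
    (ι : KaehlerDifferential A B →ₗ[B] L)
    (hι : ∀ i, ι (KaehlerDifferential.D A B (t i)) = t i • ω i)
    (hc : Conn.IsLamConn (ι.compDer (KaehlerDifferential.D A B)) lam nabla)
    (p : ℕ) :
    (Submodule.span B (LogConn.gens nabla ω ι p)).restrictScalars A = LogConn.layer nabla ω t p := by
  classical
  have hlayer : ∀ x : E ⊗[B] ↥(⋀[B]^p L), x ∈ LogConn.layer nabla ω t p ↔
      ∀ K : Set.powersetCard (Fin n) p,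
        coordT (ω.exteriorPower p) K x ∈ LogConn.piece nabla ω t (K : Finset (Fin n)) := by
    intro x
    unfold LogConn.layer
    rw [Submodule.mem_iInf]
    exact Iff.rfl
  ext x
  rw [Submodule.restrictScalars_mem]
  constructor
  · intro hx
    rw [hlayer]
    intro K
    induction hx using Submodule.span_induction with
    | mem y hy =>
      obtain ⟨I, hI, e, v, hv1, hv2, rfl⟩ := hy
      exact gen_mem_layer ω nabla lam t bΩ hbΩ ι hι hc p I hI e v hv1 hv2 K
    | zero => rw [map_zero]; exact Submodule.zero_mem _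
    | add y z _ _ hy hz => rw [map_add]; exact Submodule.add_mem _ hy hz
    | smul b y _ hy =>
      rw [map_smul]
      exact piece_smul_mem ω nabla lam t bΩ hbΩ ι hι hc _ b _ hy
  · intro hx
    rw [hlayer] at hx
    rw [expand (ω.exteriorPower p) x]
    refine Submodule.sum_mem _ fun K _ => ?_
    have hle : LogConn.piece nabla ω t (K : Finset (Fin n)) ≤
        ((Submodule.span B (LogConn.gens nabla ω ι p)).restrictScalars A).comap
          (((TensorProduct.mk B E ↥(⋀[B]^p L)).flip (ω.exteriorPower p K)).restrictScalars A) := by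
      apply piece_le
      intro J hJ e
      rw [Submodule.mem_comap, Submodule.restrictScalars_mem]
      exact piece_tmul_mem_span ω nabla t ι hι p K J hJ e
    exact hle (hx K)

end Gens

end Groth.Agent.Lead.LogConnB
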