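import Mathlib
import Groth.Agent.Lead.LogConnB

set_option autoImplicit false
set_option linter.unusedSectionVars false
set_option linter.style.haveILetI false
universe v u

namespace Groth.Agent.Lead.LogConnC

open TensorProduct Groth.Agent.Lead.LogConnA Groth.Agent.Lead.LogConnB

section Comm

open exteriorPower Set.powersetCard

variable {A : Type v} {B L E : Type u} [CommRing A] [CommRing B]
    [Algebra A B] [AddCommGroup L] [Module B L] [Module A L] [IsScalarTower A B L]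
    [AddCommGroup E] [Module B E] [Module A E] [IsScalarTower A B E]
    {n : ℕ} (ω : Module.Basis (Fin n) B L) (nabla : E →ₗ[A] E ⊗[B] L)

/-- the components of an integrable `∇` commute (version with `d ω_j = 0` as hypothesis) -/
lemma comp_comm' (lam : B)
    (d : ∀ p : ℕ, ↥(⋀[B]^p L) →ₗ[A] ↥(⋀[B]^(p + 1) L))
    (hd1 : ∀ j, d 1 ((oneEquiv B L).symm (ω j)) = 0)
    (nablas : ∀ p : ℕ, E ⊗[B] ↥(⋀[B]^p L) →ₗ[A] E ⊗[B] ↥(⋀[B]^(p + 1) L))
    (hint : Conn.IsIntegrable nabla (fun p => lam • d p) nablas) (a b : Fin n) :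
    LogConn.comp nabla ω a ∘ₗ LogConn.comp nabla ω b =
      LogConn.comp nabla ω b ∘ₗ LogConn.comp nabla ω a := by
  ext m
  have h0 := hint.2 m
  rw [nabla_expand ω nabla m, map_sum, map_sum] at h0
  have h1 : ∀ j, nablas 1 (Conn.toOne ((LogConn.comp nabla ω j m) ⊗ₜ[B] ω j)) =
      ∑ i, (LogConn.comp nabla ω i (LogConn.comp nabla ω j m)) ⊗ₜ[B]
        ιMulti B 2 (Fin.cons (ω i) (fun _ => ω j)) := by
    intro j
    rw [Conn.toOne_tmul, nablas_tmul_closed ω nabla lam d nablas hint.1 1 _ _ (hd1 j)]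
    refine Finset.sum_congr rfl fun i _ => ?_
    congr 1
    conv_lhs => rw [oneEquiv_symm_apply B L (ω j)]
    exact wedge_ιMulti 1 (ω i) (fun _ => ω j)
  simp only [h1] at h0
  set ψ : Module.Dual B ↥(⋀[B]^2 L) :=
    pairingDual B L 2 (ιMulti B 2 ![ω.coord a, ω.coord b]) with hψ
  have hψv : ∀ i j, ψ (ιMulti B 2 (Fin.cons (ω i) (fun _ => ω j))) =
      (if i = a then (1:B) else 0) * (if j = b then 1 else 0) -
      (if i = b then (1:B) else 0) * (if j = a then 1 else 0) := by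
    intro i j
    rw [hψ, pairingDual_ιMulti_ιMulti, Matrix.det_fin_two]
    simp only [Matrix.of_apply, Matrix.cons_val_zero, Matrix.cons_val_one, Fin.cons_zero,
      Module.Basis.coord_apply, Module.Basis.repr_self, Finsupp.single_apply]
    have e1 : (Fin.cons (ω i) (fun _ => ω j) : Fin 2 → L) 1 = ω j := rfl
    rw [e1]
    simp only [Module.Basis.repr_self, Finsupp.single_apply]
  have h2 := congrArg ((TensorProduct.rid B E).toLinearMap ∘ₗ TensorProduct.map LinearMap.id ψ) h0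
  simp only [map_sum, map_zero, LinearMap.coe_comp, Function.comp_apply, TensorProduct.map_tmul,
    LinearMap.id_coe, id_eq, LinearEquiv.coe_coe, TensorProduct.rid_tmul, hψv, sub_smul,
    Finset.sum_sub_distrib] at h2
  rw [sum_delta, sum_delta] at h2
  rw [LinearMap.comp_apply, LinearMap.comp_apply]
  exact sub_eq_zero.mp h2

/-- `D(u⁻¹) = -u⁻² D u` -/
lemma D_inv {Ω : Type u} [AddCommGroup Ω] [Module B Ω] [Module A Ω] [IsScalarTower A B Ω]
    (δ0 : Derivation A B Ω) (w : Bˣ) :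
    δ0 ((w⁻¹ : Bˣ) : B) = -(((w⁻¹ : Bˣ) : B) * ((w⁻¹ : Bˣ) : B)) • δ0 (w : B) := by
  have h1 : δ0 ((w : B) * ((w⁻¹ : Bˣ) : B)) = 0 := by
    rw [Units.mul_inv, Derivation.map_one_eq_zero]
  rw [Derivation.leibniz] at h1
  have h2 : ((w⁻¹ : Bˣ) : B) • ((w : B) • δ0 ((w⁻¹ : Bˣ) : B) + ((w⁻¹ : Bˣ) : B) • δ0 (w : B)) = 0 := by
    rw [h1, smul_zero]
  rw [smul_add, smul_smul, Units.inv_mul, one_smul, smul_smul] at h2
  rw [neg_smul]
  exact eq_neg_of_add_eq_zero_left h2

/-- `d(ω_j + u⁻¹ ι(du)) = 0` -/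
lemma d_one_prime_eq_zero {Ω : Type u} [AddCommGroup Ω] [Module B Ω] [Module A Ω] [IsScalarTower A B Ω]
    (δ0 : Derivation A B Ω)
    (ι : Ω →ₗ[B] L) (d : ∀ p : ℕ, ↥(⋀[B]^p L) →ₗ[A] ↥(⋀[B]^(p + 1) L))
    (hd : LogDiff.IsLogRule δ0 ι (⇑ω) d) (j : Fin n) (w : Bˣ) :
    d 1 ((oneEquiv B L).symm (ω j + ((w⁻¹ : Bˣ) : B) • ι (δ0 (w : B)))) = 0 := by
  rw [map_add, map_add, d_one_eq_zero ω δ0 ι d hd j, zero_add, map_smul, oneEquiv_symm_apply]
  have h := hd 1 ((w⁻¹ : Bˣ) : B) (fun _ => ι (δ0 (w : B))) (fun k => Or.inl ⟨_, rfl⟩)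
  rw [h, D_inv δ0 w, map_smul]
  have h2 := wedge_ιMulti (B := B) 1
    ((-(((w⁻¹ : Bˣ) : B) * ((w⁻¹ : Bˣ) : B))) • ι (δ0 (w : B))) (fun _ => ι (δ0 (w : B)))
  rw [← h2, map_smul, map_smul, LinearMap.smul_apply, wedge_ιMulti]
  have h3 : ιMulti B 2 (Fin.cons (ι (δ0 (w : B))) (fun _ => ι (δ0 (w : B)))) = 0 :=
    AlternatingMap.map_eq_zero_of_eq _ _ (i := 0) (j := 1) rfl (by decide)
  rw [h3, smul_zero]

end Comm


section Stab

variable {A : Type v} {B L E : Type u} [CommRing A] [CommRing B]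
    [Algebra A B] [AddCommGroup L] [Module B L] [Module A L] [IsScalarTower A B L]
    [AddCommGroup E] [Module B E] [Module A E] [IsScalarTower A B E]
    {n : ℕ} (ω : Module.Basis (Fin n) B L) (nabla : E →ₗ[A] E ⊗[B] L)

/-- `∂_a (∏_S t) = [a ∈ S] ∏_S t` -/
lemma pd_prod' (δ : Derivation A B L) (t : Fin n → B) (hδ : ∀ j, δ (t j) = t j • ω j) (a : Fin n)
    (S : Finset (Fin n)) :
    pd ω δ a (∏ j ∈ S, t j) = (if a ∈ S then 1 else 0) * ∏ j ∈ S, t j := by
  classical
  by_cases ha : a ∈ S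
  · rw [if_pos ha, one_mul, ← Finset.mul_prod_erase S t ha, pd_mul,
      pd_prod ω δ t hδ a (S.erase a) (Finset.notMem_erase a S), mul_zero, zero_add,
      pd_t ω δ t hδ, if_pos rfl, mul_comm]
  · rw [if_neg ha, zero_mul, pd_prod ω δ t hδ a S ha]

/-- a single component commutes with an ordered composite -/
lemma comp_compProd_comm (hcomm : ∀ a b : Fin n,
      LogConn.comp nabla ω a ∘ₗ LogConn.comp nabla ω b = LogConn.comp nabla ω b ∘ₗ LogConn.comp nabla ω a)
    (a : Fin n) (J : Finset (Fin n)) :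
    LogConn.comp nabla ω a ∘ₗ LogConn.compProd nabla ω J =
      LogConn.compProd nabla ω J ∘ₗ LogConn.comp nabla ω a := by
  unfold LogConn.compProd
  induction (J.sort (· ≤ ·)) with
  | nil => simp
  | cons i l ih =>
    simp only [List.foldr_cons]
    rw [← LinearMap.comp_assoc, hcomm a i, LinearMap.comp_assoc, ih, LinearMap.comp_assoc]

variable (lam : B) (t : Fin n → B)
    (bΩ : Module.Basis (Fin n) B (KaehlerDifferential A B))
    (hbΩ : ∀ i, bΩ i = KaehlerDifferential.D A B (t i))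
    (ι : KaehlerDifferential A B →ₗ[B] L)
    (hι : ∀ i, ι (KaehlerDifferential.D A B (t i)) = t i • ω i)
    (hc : Conn.IsLamConn (ι.compDer (KaehlerDifferential.D A B)) lam nabla)
    (hcomm : ∀ a b : Fin n,
      LogConn.comp nabla ω a ∘ₗ LogConn.comp nabla ω b = LogConn.comp nabla ω b ∘ₗ LogConn.comp nabla ω a)

include hbΩ hι hc hcomm in
/-- every piece is stable under every component of `∇` -/
lemma comp_mem_piece_self (a : Fin n) (K : Finset (Fin n)) (x : E)
    (hx : x ∈ LogConn.piece nabla ω t K) :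
    LogConn.comp nabla ω a x ∈ LogConn.piece nabla ω t K := by
  classical
  have hle : LogConn.piece nabla ω t K ≤
      (LogConn.piece nabla ω t K).comap (LogConn.comp nabla ω a) := by
    apply piece_le
    intro J hJ e
    rw [Submodule.mem_comap, comp_leibniz ω nabla _ lam hc]
    refine Submodule.add_mem _ ?_ ?_
    · have : LogConn.comp nabla ω a (LogConn.compProd nabla ω J e) =
          LogConn.compProd nabla ω J (LogConn.comp nabla ω a e) := by
        have := LinearMap.congr_fun (comp_compProd_comm ω nabla hcomm a J) e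
        simpa using this
      rw [this]
      exact mem_piece ω nabla t K J hJ _
    · have h1 := pd_prod' ω (ι.compDer (KaehlerDifferential.D A B)) t (fun j => hι j) a (K \ J)
      unfold pd at h1
      rw [h1, ← mul_assoc, mul_smul]
      exact piece_smul_mem ω nabla lam t bΩ hbΩ ι hι hc K _ _ (mem_piece ω nabla t K J hJ e)
  exact hle hx

include hbΩ hι hc in
/-- `t_j • E_K ⊆ E_{K ∪ j}` -/
lemma t_smul_mem_piece (K : Finset (Fin n)) (j : Fin n) (x : E)
    (hx : x ∈ LogConn.piece nabla ω t K) :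
    t j • x ∈ LogConn.piece nabla ω t (insert j K) := by
  classical
  by_cases hj : j ∈ K
  · rw [Finset.insert_eq_of_mem hj]
    exact piece_smul_mem ω nabla lam t bΩ hbΩ ι hι hc K _ _ hx
  · exact t_smul_mem_piece_of_notMem ω nabla t K j hj x hx

include hbΩ hι hc hcomm in
/-- `∇_i E_K ⊆ E_{K ∪ i}` -/
lemma comp_mem_piece_insert (i : Fin n) (K : Finset (Fin n)) (x : E)
    (hx : x ∈ LogConn.piece nabla ω t K) :
    LogConn.comp nabla ω i x ∈ LogConn.piece nabla ω t (insert i K) := by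
  classical
  by_cases hi : i ∈ K
  · rw [Finset.insert_eq_of_mem hi]
    exact comp_mem_piece_self ω nabla lam t bΩ hbΩ ι hι hc hcomm i K x hx
  · exact comp_mem_piece ω nabla _ lam hc t (fun j => hι j) hcomm i K hi x hx

include hbΩ hι hc hcomm in
/-- Claim C: `(c * t_{K∖J}) • ∇_J e ∈ E_K` for arbitrary `J`, `K`. -/
lemma smul_compProd_mem_piece (J : Finset (Fin n)) :
    ∀ (K : Finset (Fin n)) (c : B) (e : E),
      (c * ∏ i ∈ K \ J, t i) • LogConn.compProd nabla ω J e ∈ LogConn.piece nabla ω t K := by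
  classical
  induction J using Finset.induction_on with
  | empty =>
    intro K c e
    rw [mul_smul]
    exact piece_smul_mem ω nabla lam t bΩ hbΩ ι hι hc K _ _
      (mem_piece ω nabla t K ∅ (Finset.empty_subset _) e)
  | insert a J haJ ih =>
    intro K c e
    rw [compProd_insert ω nabla hcomm a J haJ, LinearMap.comp_apply]
    set y := LogConn.compProd nabla ω J e with hy
    set b := c * ∏ i ∈ K \ insert a J, t i with hb
    have hleib := comp_leibniz ω nabla (ι.compDer (KaehlerDifferential.D A B)) lam hc a b y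
    have hrew : b • LogConn.comp nabla ω a y =
        LogConn.comp nabla ω a (b • y) -
          (lam * ω.coord a ((ι.compDer (KaehlerDifferential.D A B)) b)) • y := by
      rw [hleib]
      abel
    rw [hrew]
    -- the derivative of `b`
    have hpdc : ω.coord a ((ι.compDer (KaehlerDifferential.D A B)) c) =
        t a * bΩ.repr (KaehlerDifferential.D A B c) a := pd_eq ω t bΩ hbΩ ι hι a _
    have hpdb : ω.coord a ((ι.compDer (KaehlerDifferential.D A B)) b) =
        (t a * bΩ.repr (KaehlerDifferential.D A B c) a) * ∏ i ∈ K \ insert a J, t i := by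
      have h1 := pd_mul ω (ι.compDer (KaehlerDifferential.D A B)) a c (∏ i ∈ K \ insert a J, t i)
      have h2 := pd_prod ω (ι.compDer (KaehlerDifferential.D A B)) t (fun j => hι j) a
        (K \ insert a J) (fun h => (Finset.mem_sdiff.mp h).2 (Finset.mem_insert_self a J))
      unfold pd at h1 h2
      rw [hb, h1, h2, mul_zero, zero_add, hpdc, mul_comm]
    by_cases haK : a ∈ K
    · -- `a ∈ K`
      have hsd : K \ J = insert a (K \ insert a J) := by
        ext k
        simp only [Finset.mem_sdiff, Finset.mem_insert]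
        constructor
        · rintro ⟨hk, hkJ⟩
          by_cases hka : k = a
          · exact Or.inl hka
          · exact Or.inr ⟨hk, fun h => h.elim hka hkJ⟩
        · rintro (rfl | ⟨hk, hkJ⟩)
          · exact ⟨haK, haJ⟩
          · exact ⟨hk, fun h => hkJ (Or.inr h)⟩
      have hnot : a ∉ K \ insert a J := fun h =>
        (Finset.mem_sdiff.mp h).2 (Finset.mem_insert_self a J)
      have hprod : ∏ i ∈ K \ J, t i = t a * ∏ i ∈ K \ insert a J, t i := by
        rw [hsd, Finset.prod_insert hnot]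
      refine Submodule.sub_mem _ ?_ ?_
      · -- `b • y ∈ E_{K.erase a}` and apply `∇_a`
        have hK0 : K.erase a \ J = K \ insert a J := by
          ext k
          simp only [Finset.mem_sdiff, Finset.mem_erase, Finset.mem_insert]
          constructor
          · rintro ⟨⟨hka, hk⟩, hkJ⟩
            exact ⟨hk, fun h => h.elim hka hkJ⟩
          · rintro ⟨hk, hkJ⟩
            exact ⟨⟨fun h => hkJ (Or.inl h), hk⟩, fun h => hkJ (Or.inr h)⟩
        have h1 : b • y ∈ LogConn.piece nabla ω t (K.erase a) := by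
          have := ih (K.erase a) c e
          rwa [hK0] at this
        have h2 := comp_mem_piece_insert ω nabla lam t bΩ hbΩ ι hι hc hcomm a (K.erase a) _ h1
        rwa [Finset.insert_erase haK] at h2
      · rw [hpdb]
        have : lam * (t a * bΩ.repr (KaehlerDifferential.D A B c) a *
            ∏ i ∈ K \ insert a J, t i) =
            (lam * bΩ.repr (KaehlerDifferential.D A B c) a) * ∏ i ∈ K \ J, t i := by
          rw [hprod]
          ring
        rw [this]
        exact ih K _ e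
    · -- `a ∉ K`
      have hsd : K \ insert a J = K \ J := by
        ext k
        simp only [Finset.mem_sdiff, Finset.mem_insert]
        constructor
        · rintro ⟨hk, hkJ⟩
          exact ⟨hk, fun h => hkJ (Or.inr h)⟩
        · rintro ⟨hk, hkJ⟩
          exact ⟨hk, fun h => h.elim (fun h' => haK (h' ▸ hk)) hkJ⟩
      refine Submodule.sub_mem _ ?_ ?_
      · have h1 : b • y ∈ LogConn.piece nabla ω t K := by
          have := ih K c e
          rwa [← hsd] at this
        exact comp_mem_piece_self ω nabla lam t bΩ hbΩ ι hι hc hcomm a K _ h1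
      · rw [hpdb, hsd]
        have : lam * (t a * bΩ.repr (KaehlerDifferential.D A B c) a * ∏ i ∈ K \ J, t i) =
            (lam * t a * bΩ.repr (KaehlerDifferential.D A B c) a) * ∏ i ∈ K \ J, t i := by
          ring
        rw [this]
        exact ih K _ e

include hbΩ hι hc hcomm in
/-- Step 8: `t_{K∖K'} • E_{K'} ⊆ E_K`. -/
lemma prod_sdiff_smul_mem_piece (K K' : Finset (Fin n)) (c : B) (x : E)
    (hx : x ∈ LogConn.piece nabla ω t K') :
    (c * ∏ i ∈ K \ K', t i) • x ∈ LogConn.piece nabla ω t K := by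
  classical
  have hle : LogConn.piece nabla ω t K' ≤
      (LogConn.piece nabla ω t K).comap
        ((LinearMap.lsmul B E (c * ∏ i ∈ K \ K', t i)).restrictScalars A) := by
    apply piece_le
    intro J hJ e
    rw [Submodule.mem_comap]
    show (c * ∏ i ∈ K \ K', t i) • ((∏ i ∈ K' \ J, t i) • LogConn.compProd nabla ω J e) ∈ _
    rw [smul_smul]
    have hdisj : Disjoint (K \ K') (K' \ J) :=
      Finset.disjoint_of_subset_right Finset.sdiff_subset Finset.sdiff_disjoint
    have hsub : K \ J ⊆ (K \ K') ∪ (K' \ J) := by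
      intro k hk
      rw [Finset.mem_sdiff] at hk
      by_cases hkK' : k ∈ K'
      · exact Finset.mem_union_right _ (Finset.mem_sdiff.mpr ⟨hkK', hk.2⟩)
      · exact Finset.mem_union_left _ (Finset.mem_sdiff.mpr ⟨hk.1, hkK'⟩)
    have hprod : (c * ∏ i ∈ K \ K', t i) * ∏ i ∈ K' \ J, t i =
        (c * ∏ i ∈ ((K \ K') ∪ (K' \ J)) \ (K \ J), t i) * ∏ i ∈ K \ J, t i := by
      rw [mul_assoc, ← Finset.prod_union hdisj, mul_assoc, Finset.prod_sdiff hsub]
    rw [hprod]
    exact smul_compProd_mem_piece ω nabla lam t bΩ hbΩ ι hι hc hcomm J K _ e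
  exact hle hx

end Stab


section Two

open exteriorPower Set.powersetCard

variable {A : Type v} {B L E : Type u} [CommRing A] [CommRing B]
    [Algebra A B] [AddCommGroup L] [Module B L] [Module A L] [IsScalarTower A B L]
    [AddCommGroup E] [Module B E] [Module A E] [IsScalarTower A B E]
    {n : ℕ} (ω₁ ω₂ : Module.Basis (Fin n) B L) (nabla : E →ₗ[A] E ⊗[B] L)
    (lam : B) (t₁ t₂ : Fin n → B)
    (bΩ₁ bΩ₂ : Module.Basis (Fin n) B (KaehlerDifferential A B))
    (hbΩ₁ : ∀ i, bΩ₁ i = KaehlerDifferential.D A B (t₁ i))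
    (hbΩ₂ : ∀ i, bΩ₂ i = KaehlerDifferential.D A B (t₂ i))
    (ι : KaehlerDifferential A B →ₗ[B] L)
    (hι₁ : ∀ i, ι (KaehlerDifferential.D A B (t₁ i)) = t₁ i • ω₁ i)
    (hι₂ : ∀ i, ι (KaehlerDifferential.D A B (t₂ i)) = t₂ i • ω₂ i)
    (hc : Conn.IsLamConn (ι.compDer (KaehlerDifferential.D A B)) lam nabla)
    (hcomm : ∀ a b : Fin n, LogConn.comp nabla ω₁ a ∘ₗ LogConn.comp nabla ω₁ b =
      LogConn.comp nabla ω₁ b ∘ₗ LogConn.comp nabla ω₁ a)
    (w : Fin n → Bˣ) (ht : ∀ i, t₂ i = (w i : B) * t₁ i)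
    (hω : ∀ i, ω₂ i = ω₁ i + ((w i)⁻¹ : Bˣ).val • ι (KaehlerDifferential.D A B (w i : B)))

/-- the second system of components in terms of the first -/
lemma comp_two_eq (i : Fin n) (e : E) :
    LogConn.comp nabla ω₂ i e = ∑ a, (ω₂.coord i (ω₁ a)) • LogConn.comp nabla ω₁ a e := by
  rw [comp_eq ω₂ nabla i e]
  conv_lhs => rw [nabla_expand ω₁ nabla e]
  rw [map_sum]
  refine Finset.sum_congr rfl fun a _ => ?_
  rw [coordT_tmul]

include hbΩ₂ hι₂ ht hω in
/-- the change of basis matrix is `1` modulo `t_i` in row `i` -/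
lemma Q_eq (i a : Fin n) :
    ω₂.coord i (ω₁ a) = (if a = i then 1 else 0) -
      t₁ i * ((w i : B) * ((w a)⁻¹ : Bˣ).val *
        bΩ₂.repr (KaehlerDifferential.D A B (w a : B)) i) := by
  have h1 : ω₁ a = ω₂ a - ((w a)⁻¹ : Bˣ).val • ι (KaehlerDifferential.D A B (w a : B)) := by
    rw [hω a]
    abel
  rw [h1, map_sub, map_smul, pd_eq ω₂ t₂ bΩ₂ hbΩ₂ ι hι₂, Module.Basis.coord_apply,
    Module.Basis.repr_self, Finsupp.single_apply, ht i, smul_eq_mul]
  ring

include hbΩ₁ hbΩ₂ hι₁ hι₂ hc hcomm ht hω in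
/-- `∇'_i E_K ⊆ E_{K ∪ i}` (unprimed pieces) -/
lemma comp_two_mem_piece (i : Fin n) (K : Finset (Fin n)) (x : E)
    (hx : x ∈ LogConn.piece nabla ω₁ t₁ K) :
    LogConn.comp nabla ω₂ i x ∈ LogConn.piece nabla ω₁ t₁ (insert i K) := by
  classical
  rw [comp_two_eq ω₁ ω₂ nabla i x]
  refine Submodule.sum_mem _ fun a _ => ?_
  rw [Q_eq ω₁ ω₂ t₁ t₂ bΩ₂ hbΩ₂ ι hι₂ w ht hω i a, sub_smul]
  refine Submodule.sub_mem _ ?_ ?_
  · by_cases hai : a = i
    · rw [if_pos hai, one_smul, hai]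
      exact comp_mem_piece_insert ω₁ nabla lam t₁ bΩ₁ hbΩ₁ ι hι₁ hc hcomm i K x hx
    · rw [if_neg hai, zero_smul]
      exact Submodule.zero_mem _
  · rw [mul_smul]
    apply t_smul_mem_piece ω₁ nabla lam t₁ bΩ₁ hbΩ₁ ι hι₁ hc K i
    apply piece_smul_mem ω₁ nabla lam t₁ bΩ₁ hbΩ₁ ι hι₁ hc K
    exact comp_mem_piece_self ω₁ nabla lam t₁ bΩ₁ hbΩ₁ ι hι₁ hc hcomm a K x hx

include hbΩ₁ hbΩ₂ hι₁ hι₂ hc hcomm ht hω in
/-- ordered composites of the second system land in the unprimed pieces -/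
lemma foldr_two_mem_piece (l : List (Fin n)) (e : E) :
    (l.foldr (fun i φ => LogConn.comp nabla ω₂ i ∘ₗ φ) LinearMap.id) e ∈
      LogConn.piece nabla ω₁ t₁ l.toFinset := by
  classical
  induction l with
  | nil =>
    have := mem_piece ω₁ nabla t₁ ∅ ∅ (Finset.Subset.refl _) e
    simpa [LogConn.compProd] using this
  | cons i l ih =>
    rw [List.foldr_cons, List.toFinset_cons, LinearMap.comp_apply]
    exact comp_two_mem_piece ω₁ ω₂ nabla lam t₁ t₂ bΩ₁ bΩ₂ hbΩ₁ hbΩ₂ ι hι₁ hι₂ hc hcomm w ht hω i _ _ ih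

include hbΩ₁ hbΩ₂ hι₁ hι₂ hc hcomm ht hω in
/-- Step 7: `E'_K ⊆ E_K` -/
lemma piece_two_le (K : Finset (Fin n)) :
    LogConn.piece nabla ω₂ t₂ K ≤ LogConn.piece nabla ω₁ t₁ K := by
  classical
  apply piece_le
  intro J hJ e
  have h1 : LogConn.compProd nabla ω₂ J e ∈ LogConn.piece nabla ω₁ t₁ J := by
    have := foldr_two_mem_piece ω₁ ω₂ nabla lam t₁ t₂ bΩ₁ bΩ₂ hbΩ₁ hbΩ₂ ι hι₁ hι₂ hc hcomm w ht hω
      (J.sort (· ≤ ·)) e
    rwa [Finset.sort_toFinset] at this
  have h2 : ∏ i ∈ K \ J, t₂ i = (∏ i ∈ K \ J, (w i : B)) * ∏ i ∈ K \ J, t₁ i := by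
    rw [← Finset.prod_mul_distrib]
    exact Finset.prod_congr rfl fun i _ => ht i
  rw [h2]
  exact prod_sdiff_smul_mem_piece ω₁ nabla lam t₁ bΩ₁ hbΩ₁ ι hι₁ hc hcomm K J _ _ h1

include hbΩ₁ hι₁ hω in
/-- Step 9: the `(K', K)` minor of the change of basis is divisible by `t_{K∖K'}` -/
lemma minor_dvd (p : ℕ) (K K' : Set.powersetCard (Fin n) p) :
    ∃ c : B, (ω₁.exteriorPower p).coord K (ω₂.exteriorPower p K') =
      c * ∏ i ∈ (K : Finset (Fin n)) \ (K' : Finset (Fin n)), t₁ i := by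
  classical
  rw [basis_apply, ιMulti_family, basis_coord, ιMultiDual_apply_ιMulti]
  set embK := ofFinEmbEquiv.symm K with hembK
  set embK' := ofFinEmbEquiv.symm K' with hembK'
  have hembK'_mem : ∀ a, embK' a ∈ (K' : Finset (Fin n)) := by
    intro a
    rw [mem_coe_iff, ← mem_range_ofFinEmbEquiv_symm_iff_mem]
    exact ⟨a, rfl⟩
  let u : Fin p → B := fun b => if embK b ∈ (K' : Finset (Fin n)) then 1 else t₁ (embK b)
  let A' : Matrix (Fin p) (Fin p) B := Matrix.of fun a b =>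
    if embK b ∈ (K' : Finset (Fin n)) then ω₁.coord (embK b) ((ω₂ ∘ embK') a)
    else ((w (embK' a))⁻¹ : Bˣ).val *
      bΩ₁.repr (KaehlerDifferential.D A B (w (embK' a) : B)) (embK b)
  have hM : (Matrix.of fun a b => ω₁.coord (embK b) ((ω₂ ∘ embK') a)) =
      Matrix.of fun a b => u b * A' a b := by
    ext a b
    simp only [Matrix.of_apply, u, A']
    by_cases hb : embK b ∈ (K' : Finset (Fin n))
    · simp [hb]
    · rw [if_neg hb, if_neg hb, Function.comp_apply, hω, map_add, map_smul,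
        pd_eq ω₁ t₁ bΩ₁ hbΩ₁ ι hι₁, Module.Basis.coord_apply, Module.Basis.repr_self,
        Finsupp.single_apply, if_neg, smul_eq_mul]
      · ring
      · intro h
        apply hb
        rw [← h]
        exact hembK'_mem a
  rw [hM, Matrix.det_mul_row, prod_emb t₁ p K (K' : Finset (Fin n))]
  exact ⟨A'.det, mul_comm _ _⟩

include hbΩ₁ hbΩ₂ hι₁ hι₂ hc hcomm ht hω in
/-- Step 10: the layer of the second system is contained in the layer of the first -/
theorem layer_two_le (p : ℕ) :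
    LogConn.layer nabla ω₂ t₂ p ≤ LogConn.layer nabla ω₁ t₁ p := by
  classical
  intro x hx
  have hlayer : ∀ (ω : Module.Basis (Fin n) B L) (t : Fin n → B) (x : E ⊗[B] ↥(⋀[B]^p L)),
      x ∈ LogConn.layer nabla ω t p ↔
      ∀ K : Set.powersetCard (Fin n) p,
        coordT (ω.exteriorPower p) K x ∈ LogConn.piece nabla ω t (K : Finset (Fin n)) := by
    intro ω t x
    unfold LogConn.layer
    rw [Submodule.mem_iInf]
    exact Iff.rfl
  rw [hlayer] at hx ⊢
  intro K
  rw [expand (ω₂.exteriorPower p) x, map_sum]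
  refine Submodule.sum_mem _ fun K' _ => ?_
  rw [coordT_tmul]
  obtain ⟨c, hc'⟩ := minor_dvd ω₁ ω₂ t₁ bΩ₁ hbΩ₁ ι hι₁ w hω p K K'
  rw [hc']
  apply prod_sdiff_smul_mem_piece ω₁ nabla lam t₁ bΩ₁ hbΩ₁ ι hι₁ hc hcomm
  exact piece_two_le ω₁ ω₂ nabla lam t₁ t₂ bΩ₁ bΩ₂ hbΩ₁ hbΩ₂ ι hι₁ hι₂ hc hcomm w ht hω _ (hx K')

end Two


section Final

open exteriorPower Set.powersetCard

variable {A : Type v} {B L E : Type u} [CommRing A] [CommRing B]
    [Algebra A B] [AddCommGroup L] [Module B L] [Module A L] [IsScalarTower A B L]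
    [AddCommGroup E] [Module B E] [Module A E] [IsScalarTower A B E]

/-- **S16798**. -/
theorem main_layer_eq
    (lam : B) {n : ℕ} (t : Fin n → B) (bΩ : Module.Basis (Fin n) B (KaehlerDifferential A B))
    (hbΩ : ∀ i, bΩ i = KaehlerDifferential.D A B (t i))
    (ω : Module.Basis (Fin n) B L) (ι : KaehlerDifferential A B →ₗ[B] L)
    (hι : ∀ i, ι (KaehlerDifferential.D A B (t i)) = t i • ω i)
    (nabla : E →ₗ[A] E ⊗[B] L)
    (hc : Conn.IsLamConn (ι.compDer (KaehlerDifferential.D A B)) lam nabla)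
    (d : ∀ p : ℕ, ↥(⋀[B]^p L) →ₗ[A] ↥(⋀[B]^(p + 1) L))
    (hd : LogDiff.IsLogRule (KaehlerDifferential.D A B) ι (⇑ω) d)
    (nablas : ∀ p : ℕ, E ⊗[B] ↥(⋀[B]^p L) →ₗ[A] E ⊗[B] ↥(⋀[B]^(p + 1) L))
    (hint : Conn.IsIntegrable nabla (fun p => lam • d p) nablas)
    (u : Fin n → Bˣ) (bΩ' : Module.Basis (Fin n) B (KaehlerDifferential A B))
    (hbΩ' : ∀ i, bΩ' i = KaehlerDifferential.D A B ((u i : B) * t i))
    (ω' : Module.Basis (Fin n) B L)
    (hω' : ∀ i, ω' i = ω i + ((u i)⁻¹ : Bˣ).val • ι (KaehlerDifferential.D A B (u i : B)))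
    (p : ℕ) :
    LogConn.layer nabla ω t p = LogConn.layer nabla ω' (fun i => (u i : B) * t i) p := by
  have hι' : ∀ i, ι (KaehlerDifferential.D A B ((u i : B) * t i)) = ((u i : B) * t i) • ω' i := by
    intro i
    rw [Derivation.leibniz, map_add, map_smul, map_smul, hι, hω', smul_add, smul_smul, smul_smul]
    have : (u i : B) * t i * ((u i)⁻¹ : Bˣ).val = t i := by
      rw [mul_comm (u i : B) (t i), mul_assoc, Units.mul_inv, mul_one]
    rw [this]
  have hcomm := comp_comm ω nabla (KaehlerDifferential.D A B) ι lam d hd nablas hint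
  have hcomm' := comp_comm' ω' nabla lam d
    (fun j => by
      rw [hω' j]
      exact d_one_prime_eq_zero ω (KaehlerDifferential.D A B) ι d hd j (u j)) nablas hint
  apply le_antisymm
  · -- `layer ≤ layer'` : swap the roles
    refine layer_two_le ω' ω nabla lam (fun i => (u i : B) * t i) t bΩ' bΩ hbΩ' hbΩ ι hι' hι hc hcomm'
      (fun i => (u i)⁻¹) ?_ ?_ p
    · intro i
      rw [← mul_assoc, Units.inv_mul, one_mul]
    · intro i
      rw [hω' i, inv_inv, D_inv (KaehlerDifferential.D A B) (u i), map_smul, smul_smul]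
      have : (u i : B) * -(((u i)⁻¹ : Bˣ).val * ((u i)⁻¹ : Bˣ).val) = -((u i)⁻¹ : Bˣ).val := by
        rw [mul_neg, ← mul_assoc, Units.mul_inv, one_mul]
      rw [this, neg_smul]
      abel
  · exact layer_two_le ω ω' nabla lam t (fun i => (u i : B) * t i) bΩ bΩ' hbΩ hbΩ' ι hι hι' hc hcomm
      u (fun i => rfl) hω' p

end Final

end Groth.Agent.Lead.LogConnC
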