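import Groth.Agent.Lead.MateH

set_option autoImplicit false
open CategoryTheory

namespace Groth.Agent.Lead.MateH

universe v₁ v₂ v₃ v₄ u₁ u₂ u₃ u₄

section Counit
variable {MX : Type u₁} {MY : Type u₂} {MX' : Type u₃} {MY' : Type u₄}
  [Category.{v₁} MX] [Category.{v₂} MY] [Category.{v₃} MX'] [Category.{v₄} MY']
  {Lf : MY ⥤ MX} {Rf : MX ⥤ MY} (af : Lf ⊣ Rf)
  {Lf' : MY' ⥤ MX'} {Rf' : MX' ⥤ MY'} (af' : Lf' ⊣ Rf')
  {Lg : MY ⥤ MY'} {Rg : MY' ⥤ MY} (ag : Lg ⊣ Rg)
  {Lg' : MX ⥤ MX'} {Rg' : MX' ⥤ MX} (ag' : Lg' ⊣ Rg')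
  (c : Rg' ⋙ Rf ≅ Rf' ⋙ Rg)

/-- the isomorphism of left adjoints conjugate to `c` -/
noncomputable def conjL : Lf ⋙ Lg' ≅ Lg ⋙ Lf' :=
  (conjugateIsoEquiv (ag.comp af') (af.comp ag')).symm c.symm

theorem conjugateEquiv_conjL_hom :
    conjugateEquiv (ag.comp af') (af.comp ag') (conjL af af' ag ag' c).hom = c.inv := by
  have h1 : conjugateIsoEquiv (ag.comp af') (af.comp ag') (conjL af af' ag ag' c) = c.symm :=
    Equiv.apply_symm_apply _ _
  exact congrArg Iso.hom h1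

/-- the pullback of the counit of `f` along `g'` in terms of the base change map and the counit
of `f'` -/
theorem map_counit_eq (L : MX) :
    Lg'.map (af.counit.app L) =
      (conjL af af' ag ag' c).hom.app (Rf.obj L) ≫
        Lf'.map ((ag.homEquiv _ _).symm (Rf.map (ag'.unit.app L) ≫ c.hom.app (Lg'.obj L))) ≫
        af'.counit.app (Lg'.obj L) := by
  apply ((af.comp ag').homEquiv _ _).injective
  rw [homEquiv_conj (ag.comp af') (af.comp ag') (conjL af af' ag ag' c).hom,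
    conjugateEquiv_conjL_hom, Adjunction.comp_homEquiv, Adjunction.comp_homEquiv]
  change af.homEquiv _ _ (ag'.homEquiv _ _ (Lg'.map (af.counit.app L))) =
    ag.homEquiv _ _ (af'.homEquiv _ _ (Lf'.map ((ag.homEquiv _ _).symm
      (Rf.map (ag'.unit.app L) ≫ c.hom.app (Lg'.obj L))) ≫ af'.counit.app (Lg'.obj L))) ≫
      c.inv.app (Lg'.obj L)
  rw [Adjunction.homEquiv_naturality_left af']
  have e1 : af'.homEquiv _ _ (af'.counit.app (Lg'.obj L)) = 𝟙 _ := by
    simp [Adjunction.homEquiv_unit]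
  have e2 : ag'.homEquiv _ _ (Lg'.map (af.counit.app L)) = af.counit.app L ≫ ag'.unit.app L := by
    rw [Adjunction.homEquiv_unit]
    exact (ag'.unit.naturality _).symm
  have e3 : af.homEquiv _ _ (af.counit.app L ≫ ag'.unit.app L) = Rf.map (ag'.unit.app L) := by
    rw [Adjunction.homEquiv_naturality_right]
    simp [Adjunction.homEquiv_unit]
  refine ((congrArg (af.homEquiv _ _) e2).trans e3).trans ?_
  have e4 : (ag.homEquiv _ _).symm (Rf.map (ag'.unit.app L) ≫ c.hom.app (Lg'.obj L)) ≫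
      af'.homEquiv _ _ (af'.counit.app (Lg'.obj L)) =
      (ag.homEquiv _ _).symm (Rf.map (ag'.unit.app L) ≫ c.hom.app (Lg'.obj L)) :=
    (congrArg (fun t => (ag.homEquiv _ _).symm (Rf.map (ag'.unit.app L) ≫
      c.hom.app (Lg'.obj L)) ≫ t) e1).trans (Category.comp_id _)
  have e5 := congrArg (fun t => ag.homEquiv _ _ t ≫ c.inv.app (Lg'.obj L)) e4
  refine Eq.trans ?_ e5.symm
  change _ = ag.homEquiv _ _ ((ag.homEquiv _ _).symm
    (Rf.map (ag'.unit.app L) ≫ c.hom.app (Lg'.obj L))) ≫ c.inv.app (Lg'.obj L)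
  rw [Equiv.apply_symm_apply, Category.assoc, Iso.hom_inv_id_app]
  exact (Category.comp_id _).symm

end Counit
end Groth.Agent.Lead.MateH
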