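import Mathlib

set_option autoImplicit false
open CategoryTheory

namespace Groth.Agent.Lead.MateH

universe v₁ v₂ v₃ v₄ v₅ v₆ u₁ u₂ u₃ u₄ u₅ u₆

section K
variable {C : Type u₁} {D : Type u₂} [Category.{v₁} C] [Category.{v₂} D]
  {L₁ L₂ : C ⥤ D} {R₁ R₂ : D ⥤ C} (adj₁ : L₁ ⊣ R₁) (adj₂ : L₂ ⊣ R₂)

theorem homEquiv_conj (α : L₂ ⟶ L₁) {N : C} {P : D} (s : L₁.obj N ⟶ P) :
    adj₂.homEquiv N P (α.app N ≫ s) =
      adj₁.homEquiv N P s ≫ (conjugateEquiv adj₁ adj₂ α).app P := by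
  rw [Adjunction.homEquiv_unit, Adjunction.homEquiv_unit, Category.assoc,
    (conjugateEquiv adj₁ adj₂ α).naturality, ← Category.assoc, unit_conjugateEquiv,
    Category.assoc, Functor.map_comp]

end K

section Main
variable {MX : Type u₁} {MY : Type u₂} {MZ : Type u₃} {MU : Type u₄} {MV : Type u₅} {MW : Type u₆}
  [Category.{v₁} MX] [Category.{v₂} MY] [Category.{v₃} MZ] [Category.{v₄} MU] [Category.{v₅} MV]
  [Category.{v₆} MW]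
  {Lf : MY ⥤ MX} {Rf : MX ⥤ MY} (af : Lf ⊣ Rf)
  {Lg : MZ ⥤ MY} {Rg : MY ⥤ MZ} (ag : Lg ⊣ Rg)
  {Lfg : MZ ⥤ MX} {Rfg : MX ⥤ MZ} (afg : Lfg ⊣ Rfg)
  {Lφ : MV ⥤ MU} {Rφ : MU ⥤ MV} (aφ : Lφ ⊣ Rφ)
  {Lψ : MW ⥤ MV} {Rψ : MV ⥤ MW} (aψ : Lψ ⊣ Rψ)
  {Lφψ : MW ⥤ MU} {Rφψ : MU ⥤ MW} (aφψ : Lφψ ⊣ Rφψ)
  (Rξ : MX ⥤ MU) (Rη : MY ⥤ MV) (Rζ : MZ ⥤ MW)
  (pcfg : Lg ⋙ Lf ≅ Lfg) (pffg : Rf ⋙ Rg ≅ Rfg)
  (hfg : conjugateEquiv (ag.comp af) afg pcfg.inv = pffg.hom)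
  (pcφψ : Lψ ⋙ Lφ ≅ Lφψ) (pfφψ : Rφ ⋙ Rψ ≅ Rφψ)
  (hφψ : conjugateEquiv (aψ.comp aφ) aφψ pcφψ.inv = pfφψ.hom)
  (c₁ : Rf ⋙ Rη ⟶ Rξ ⋙ Rφ) (c₂ : Rg ⋙ Rζ ⟶ Rη ⋙ Rψ) (c₁₂ : Rfg ⋙ Rζ ⟶ Rξ ⋙ Rφψ)
  (hc : ∀ Q : MX, Rζ.map (pffg.hom.app Q) ≫ c₁₂.app Q ≫ pfφψ.inv.app (Rξ.obj Q) =
    c₂.app (Rf.obj Q) ≫ Rψ.map (c₁.app Q))

include hfg hφψ hc in
theorem mate_hcomp (L : MZ) :
    pcφψ.hom.app (Rζ.obj L) ≫
        (aφψ.homEquiv _ _).symm (Rζ.map (afg.unit.app L) ≫ c₁₂.app (Lfg.obj L)) =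
      Lφ.map ((aψ.homEquiv _ _).symm (Rζ.map (ag.unit.app L) ≫ c₂.app (Lg.obj L))) ≫
        (aφ.homEquiv _ _).symm (Rη.map (af.unit.app (Lg.obj L)) ≫ c₁.app (Lf.obj (Lg.obj L))) ≫
        Rξ.map (pcfg.hom.app L) := by
  apply (aφ.homEquiv _ _).injective
  apply (aψ.homEquiv _ _).injective
  -- right-hand side
  have hR : aψ.homEquiv _ _ (aφ.homEquiv _ _
      (Lφ.map ((aψ.homEquiv _ _).symm (Rζ.map (ag.unit.app L) ≫ c₂.app (Lg.obj L))) ≫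
        (aφ.homEquiv _ _).symm (Rη.map (af.unit.app (Lg.obj L)) ≫ c₁.app (Lf.obj (Lg.obj L))) ≫
        Rξ.map (pcfg.hom.app L))) =
      Rζ.map (ag.unit.app L) ≫ c₂.app (Lg.obj L) ≫
        Rψ.map (Rη.map (af.unit.app (Lg.obj L)) ≫ c₁.app (Lf.obj (Lg.obj L)) ≫
          Rφ.map (Rξ.map (pcfg.hom.app L))) := by
    rw [Adjunction.homEquiv_naturality_left, Adjunction.homEquiv_naturality_right,
      Equiv.apply_symm_apply, Adjunction.homEquiv_naturality_right, Equiv.apply_symm_apply]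
    simp only [Category.assoc]
  -- left-hand side
  have hL : aψ.homEquiv _ _ (aφ.homEquiv _ _ (pcφψ.hom.app (Rζ.obj L) ≫
        (aφψ.homEquiv _ _).symm (Rζ.map (afg.unit.app L) ≫ c₁₂.app (Lfg.obj L)))) =
      (Rζ.map (afg.unit.app L) ≫ c₁₂.app (Lfg.obj L)) ≫ pfφψ.inv.app _ := by
    have h1 := homEquiv_conj (aψ.comp aφ) aφψ pcφψ.inv
      (pcφψ.hom.app (Rζ.obj L) ≫
        (aφψ.homEquiv _ _).symm (Rζ.map (afg.unit.app L) ≫ c₁₂.app (Lfg.obj L)))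
    rw [hφψ, Iso.inv_hom_id_app_assoc, Equiv.apply_symm_apply, Adjunction.comp_homEquiv] at h1
    exact (Iso.eq_comp_inv (pfφψ.app _)).mpr h1.symm
  refine hL.trans ?_
  refine Eq.trans ?_ hR.symm
  -- unit of the composite
  have hu : afg.unit.app L = ag.unit.app L ≫ Rg.map (af.unit.app (Lg.obj L)) ≫
      pffg.hom.app (Lf.obj (Lg.obj L)) ≫ Rfg.map (pcfg.hom.app L) := by
    have h2 := unit_conjugateEquiv (ag.comp af) afg pcfg.inv L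
    rw [hfg, Adjunction.comp_unit_app] at h2
    have h3 : afg.unit.app L = (afg.unit.app L ≫ Rfg.map (pcfg.inv.app L)) ≫
        Rfg.map (pcfg.hom.app L) := by
      rw [Category.assoc, ← Functor.map_comp, Iso.inv_hom_id_app, CategoryTheory.Functor.map_id]
      exact (Category.comp_id _).symm
    rw [h3, ← h2]
    simp only [Category.assoc]
    rfl
  rw [hu]
  have n1 := c₁₂.naturality (pcfg.hom.app L)
  have n2 := pfφψ.inv.naturality (Rξ.map (pcfg.hom.app L))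
  have n3 := c₂.naturality (af.unit.app (Lg.obj L))
  have hcQ := hc (Lf.obj (Lg.obj L))
  simp only [Functor.comp_map, Functor.comp_obj] at n1 n2 n3
  simp only [Functor.map_comp, Category.assoc]
  rw [reassoc_of% n1, n2, ← reassoc_of% n3, reassoc_of% hcQ]

end Main
end Groth.Agent.Lead.MateH
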