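import Mathlib
import Groth.Prelude.Def_MeroDiv
import Groth.Prelude.Def_Pic
import Groth.Agent.Lead.MeroN
import Groth.Agent.Helper4.AssMono

/-!
# An invertible submodule of `K_X` has a regular meromorphic section; `L ≅ O_X(D)` iff `L` has one
-/

set_option autoImplicit false
set_option linter.style.haveILetI false
set_option linter.unusedSectionVars false

universe u

open CategoryTheory CategoryTheory.Limits AlgebraicGeometry TopologicalSpace Opposite IsLocalRing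

namespace Groth.Agent.Lead.MeroO

open Mero Groth.Agent.Lead.MeroB Groth.Agent.Lead.MeroD Groth.Agent.Lead.MeroE
  Groth.Agent.Lead.MeroL Groth.Agent.Lead.MeroM Groth.Agent.Lead.MeroN

variable {X : Scheme.{u}} (L : X.Modules) (ψ : L ⟶ kmod X)

theorem res_self {U : X.Opens} (f : Γ(kmod X, U)) :
    (kmod X).presheaf.map (homOfLE (le_refl U)).op f = f := by
  apply kmod_ext
  intro y
  rfl

theorem exists_basis_unit [Mono ψ] (hL : PicF.IsInvertible L) (x : X) :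
    ∃ (U : X.Opens) (_ : x ∈ U) (e₀ : Γ(L, U)), IsLocalBasis L U e₀ ∧ IsUnit (ψ.app U e₀) := by
  obtain ⟨U, hx, f, hr⟩ := local_of_isInvertible L ψ hL x
  have h1 : (f : Γ(kmod X, U)) ∈ Set.range ⇑(ψ.app U) := by
    rw [hr U le_rfl]
    exact ⟨1, by rw [map_one, one_mul, res_self]⟩
  obtain ⟨e₀, he₀⟩ := h1
  refine ⟨U, hx, e₀, ?_, by rw [he₀]; exact f.isUnit⟩
  have key : ∀ (V : X.Opens) (hV : V ≤ U) (r : Γ(X, V)),
      ψ.app V (r • L.presheaf.map (homOfLE hV).op e₀) =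
        toK X V r * (kmod X).presheaf.map (homOfLE hV).op (f : Γ(kmod X, U)) := by
    intro V hV r
    rw [Scheme.Modules.Hom.app_smul, app_res, he₀, smul_eq_toK_mul]
  intro V hV m
  have h2 : ψ.app V m ∈ Set.range ⇑(ψ.app V) := ⟨m, rfl⟩
  rw [hr V hV] at h2
  obtain ⟨r, hr'⟩ := h2
  refine ⟨r, ?_, ?_⟩
  · apply app_injective_of_mono ψ V
    rw [key V hV r]
    exact hr'
  · intro r' hr''
    apply toK_injective V
    have h3 : toK X V r' * (kmod X).presheaf.map (homOfLE hV).op (f : Γ(kmod X, U)) =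
        toK X V r * (kmod X).presheaf.map (homOfLE hV).op (f : Γ(kmod X, U)) := by
      rw [← key V hV r', ← hr'', hr']
    exact (isUnit_res (homOfLE hV) f).mul_left_injective h3

/-- `σ` is dual to `ψ` at `z` -/
def IsDual (z : X) (σ : MStalk L z) : Prop :=
  ∀ (V : X.Opens) (hz : z ∈ V) (m : Γ(L, V)),
    (show Γ(kmod X, V) from ψ.app V m).1 ⟨z, hz⟩ • σ =
      LocalizedModule.mk (L.presheaf.germ V z hz m) 1

variable {L ψ}

theorem isDual_of_basis {U : X.Opens} {e₀ : Γ(L, U)} (he₀ : IsLocalBasis L U e₀)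
    (fi : Γ(kmod X, U)) (hfi : ψ.app U e₀ * fi = 1) (z : X) (hz : z ∈ U) :
    IsDual L ψ z (fi.1 ⟨z, hz⟩ • (LocalizedModule.mk (L.presheaf.germ U z hz e₀) 1 : MStalk L z)) := by
  intro V hzV m
  have hzN : z ∈ V ⊓ U := ⟨hzV, hz⟩
  obtain ⟨r, hr, -⟩ := he₀ (V ⊓ U) inf_le_right
    (L.presheaf.map (homOfLE (inf_le_left : V ⊓ U ≤ V)).op m)
  have h1 : (show Γ(kmod X, V) from ψ.app V m).1 ⟨z, hzV⟩ =
      (show Γ(kmod X, V ⊓ U) from ψ.app (V ⊓ U)
        (L.presheaf.map (homOfLE (inf_le_left : V ⊓ U ≤ V)).op m)).1 ⟨z, hzN⟩ := by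
    rw [app_res]
    rfl
  have h2 : (show Γ(kmod X, V ⊓ U) from ψ.app (V ⊓ U)
        (L.presheaf.map (homOfLE (inf_le_left : V ⊓ U ≤ V)).op m)).1 ⟨z, hzN⟩ =
      algebraMap _ (KStalk X z) (X.presheaf.germ (V ⊓ U) z hzN r) *
        (show Γ(kmod X, U) from ψ.app U e₀).1 ⟨z, hz⟩ := by
    rw [hr, Scheme.Modules.Hom.app_smul, app_res, smul_eq_toK_mul]
    rfl
  have h3 : (show Γ(kmod X, U) from ψ.app U e₀).1 ⟨z, hz⟩ * fi.1 ⟨z, hz⟩ = 1 :=
    congrArg (fun t : Γ(kmod X, U) => t.1 ⟨z, hz⟩) hfi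
  rw [h1, h2, ← mul_smul, mul_assoc, h3, mul_one, algebraMap_smul_mk,
    ← TopCat.Presheaf.germ_res_apply L.presheaf (homOfLE (inf_le_left : V ⊓ U ≤ V)) z hzN m, hr,
    Mero.germ_smul, TopCat.Presheaf.germ_res_apply]

theorem isDual_unique {U : X.Opens} {e₀ : Γ(L, U)}
    (fi : Γ(kmod X, U)) (hfi : ψ.app U e₀ * fi = 1) (z : X) (hz : z ∈ U) (σ σ' : MStalk L z)
    (h : IsDual L ψ z σ) (h' : IsDual L ψ z σ') : σ = σ' := by
  have h1 := h U hz e₀
  have h2 := h' U hz e₀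
  have h3 : (show Γ(kmod X, U) from ψ.app U e₀).1 ⟨z, hz⟩ * fi.1 ⟨z, hz⟩ = 1 :=
    congrArg (fun t : Γ(kmod X, U) => t.1 ⟨z, hz⟩) hfi
  have h4 : ∀ τ : MStalk L z, τ = fi.1 ⟨z, hz⟩ •
      ((show Γ(kmod X, U) from ψ.app U e₀).1 ⟨z, hz⟩ • τ) := by
    intro τ
    rw [← mul_smul, mul_comm, h3, one_smul]
  rw [h4 σ, h4 σ', h1, h2]

/-- an invertible module embedded in `K_X` has a regular meromorphic section -/
theorem hasRegularMero_of_mono [Mono ψ] (hL : PicF.IsInvertible L) : HasRegularMero L := by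
  -- local data
  have hloc : ∀ x : X, ∃ (U : X.Opens) (_ : x ∈ U) (e₀ : Γ(L, U)) (fi : Γ(kmod X, U)),
      IsLocalBasis L U e₀ ∧ ψ.app U e₀ * fi = 1 := by
    intro x
    obtain ⟨U, hx, e₀, he₀, hu⟩ := exists_basis_unit L ψ hL x
    obtain ⟨fi, hfi⟩ := hu.exists_right_inv
    exact ⟨U, hx, e₀, fi, he₀, hfi⟩
  have hex : ∀ z : X, ∃ σ : MStalk L z, IsDual L ψ z σ := by
    intro z
    obtain ⟨U, hz, e₀, fi, he₀, hfi⟩ := hloc z
    exact ⟨_, isDual_of_basis he₀ fi hfi z hz⟩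
  choose σ hσ using hex
  have hval : ∀ (U : X.Opens) (e₀ : Γ(L, U)) (fi : Γ(kmod X, U)), IsLocalBasis L U e₀ →
      ψ.app U e₀ * fi = 1 → ∀ (z : X) (hz : z ∈ U), σ z = fi.1 ⟨z, hz⟩ •
        (LocalizedModule.mk (L.presheaf.germ U z hz e₀) 1 : MStalk L z) := by
    intro U e₀ fi he₀ hfi z hz
    exact isDual_unique fi hfi z hz _ _ (hσ z) (isDual_of_basis he₀ fi hfi z hz)
  have hpred : (mLoc L).pred (fun z : (⊤ : X.Opens) => σ z.1) := by
    intro x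
    obtain ⟨U, hx, e₀, fi, he₀, hfi⟩ := hloc x.1
    obtain ⟨V, hxV, hVU, a, b, hb, hab⟩ := exists_frac fi ⟨x.1, hx⟩
    refine ⟨V, hxV, homOfLE le_top, a • L.presheaf.map (homOfLE hVU).op e₀, ⟨b, hb⟩, fun z => ?_⟩
    change σ z.1 = _
    rw [hval U e₀ fi he₀ hfi z.1 (hVU z.2)]
    have h1 : fi.1 ⟨z.1, hVU z.2⟩ = LocalizedModule.mk (X.presheaf.germ V z.1 z.2 a)
        (regGerm z ⟨b, hb⟩) := by
      apply (IsLocalization.map_units (KStalk X z.1) (regGerm z ⟨b, hb⟩)).mul_left_injective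
      change _ * algebraMap _ (KStalk X z.1) (X.presheaf.germ V z.1 z.2 b) =
        _ * algebraMap _ (KStalk X z.1) (X.presheaf.germ V z.1 z.2 b)
      rw [hab z]
      exact (mk_mul_algebraMap z.1 _ (regGerm z ⟨b, hb⟩)).symm
    rw [h1, mk_smul_mk', mul_one, Mero.germ_smul, TopCat.Presheaf.germ_res_apply]
  refine ⟨⟨fun z => σ z.1, hpred⟩, fun x q hq => ?_⟩
  obtain ⟨U, hx, e₀, fi, he₀, hfi⟩ := hloc x
  change q • σ x = 0 at hq
  rw [hval U e₀ fi he₀ hfi x hx, ← mul_smul] at hq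
  have h1 := (he₀.germ x hx).loc_eq_zero (regStalk_le_nonZeroDivisors x) _ hq
  have h3 : (show Γ(kmod X, U) from ψ.app U e₀).1 ⟨x, hx⟩ * fi.1 ⟨x, hx⟩ = 1 :=
    congrArg (fun t : Γ(kmod X, U) => t.1 ⟨x, hx⟩) hfi
  calc q = q * ((show Γ(kmod X, U) from ψ.app U e₀).1 ⟨x, hx⟩ * fi.1 ⟨x, hx⟩) := by
        rw [h3, mul_one]
    _ = (q * fi.1 ⟨x, hx⟩) * (show Γ(kmod X, U) from ψ.app U e₀).1 ⟨x, hx⟩ := by ring
    _ = 0 := by rw [h1, zero_mul]

theorem mono_divModι (D : Mero.Divisor X) : Mono (divModι D) := by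
  apply Groth.Agent.Helper4.AssMono.mono_of_app_injective
  intro V a b hab
  apply Subtype.ext
  have := congrArg (fun t : Γ(kmod X, V) => t.1) hab
  exact this

theorem s5087 (X : Scheme.{u}) (L : X.Modules) (hL : PicF.IsInvertible L) :
    (∃ D : Mero.Divisor X, Nonempty (L ≅ Mero.divMod D)) ↔ Mero.HasRegularMero L := by
  constructor
  · rintro ⟨D, ⟨e⟩⟩
    haveI := mono_divModι D
    haveI : Mono (e.hom ≫ divModι D) := mono_comp _ _
    exact hasRegularMero_of_mono (ψ := e.hom ≫ divModι D) hL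
  · rintro ⟨s, hs⟩
    exact exists_iso_divMod hL hs

end Groth.Agent.Lead.MeroO
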