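import Mathlib
import Groth.Prelude.Def_MeroDiv
import Groth.Prelude.Def_Pic
import Groth.Agent.Lead.MeroO
import Groth.Agent.Lead.MeroP2
import Groth.Agent.Lead.MeroH
import Groth.Agent.Lead.WeakAss

/-!
# Dividing by a section which generates an invertible module at the associated points
-/

set_option autoImplicit false
set_option linter.style.haveILetI false
set_option linter.unusedSectionVars false

universe u

open CategoryTheory CategoryTheory.Limits AlgebraicGeometry TopologicalSpace Opposite IsLocalRing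

namespace Groth.Agent.Lead.MeroAB

open Mero Groth.Agent.Lead.MeroB Groth.Agent.Lead.MeroD Groth.Agent.Lead.MeroE
  Groth.Agent.Lead.MeroH Groth.Agent.Lead.MeroM Groth.Agent.Lead.MeroN Groth.Agent.Lead.MeroP
  Groth.Agent.Lead.WeakAss

variable {X : Scheme.{u}}

/-- `V` contains the weakly associated points of the structure sheaf -/
def ContainsAss (V : X.Opens) : Prop :=
  ∀ x : X, Curv2.IsWeakAssPoint (Coh.structureModule X) x → x ∈ V

/-- an open containing the weakly associated points is schematically dense -/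
theorem injective_res {V : X.Opens} (hT : ContainsAss V) (U : X.Opens) :
    Function.Injective (X.presheaf.map (homOfLE (inf_le_left : U ⊓ V ≤ U)).op) := by
  rw [injective_iff_map_eq_zero]
  intro a ha
  apply section_ext'
  intro y hy
  rw [map_zero]
  obtain ⟨N, hN, hyN, hNU⟩ : ∃ N : X.Opens, IsAffineOpen N ∧ y ∈ N ∧ N ≤ U := by
    obtain ⟨N, h1, h2, h3⟩ := Opens.isBasis_iff_nbhd.mp X.isBasis_affineOpens hy
    exact ⟨N, h1, h2, h3⟩
  obtain ⟨a', ha'_def⟩ : ∃ a', a' = X.presheaf.map (homOfLE hNU).op a := ⟨_, rfl⟩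
  have ha'0 : a' = 0 := by
    by_contra hne
    set I : Ideal Γ(X, N) := LinearMap.ker (LinearMap.toSpanSingleton Γ(X, N) Γ(X, N) a') with hI
    have hItop : I ≠ ⊤ := by
      intro htop
      apply hne
      have : (1 : Γ(X, N)) ∈ I := by rw [htop]; trivial
      rw [hI, LinearMap.mem_ker, LinearMap.toSpanSingleton_apply, one_smul] at this
      exact this
    obtain ⟨M, hM, hIM⟩ := Ideal.exists_le_maximal I hItop
    obtain ⟨p, hp, hpM⟩ := Ideal.exists_minimalPrimes_le hIM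
    have hpp : p.IsPrime := hp.1.1
    obtain ⟨ξ, hξ_def⟩ : ∃ ξ : X, ξ = hN.fromSpec ⟨p, hpp⟩ := ⟨_, rfl⟩
    have hξN : ξ ∈ N := by rw [hξ_def]; exact WeakAss.fromSpec_mem hN _
    have hpid : hN.primeIdealOf ⟨ξ, hξN⟩ = ⟨p, hpp⟩ := by
      subst hξ_def
      exact WeakAss.primeIdealOf_fromSpec hN ⟨p, hpp⟩ hξN
    have hw : Curv2.IsWeakAssPoint (Coh.structureModule X) ξ := by
      apply isWeakAssPoint_of_mem_minimalPrimes hN ξ hξN a'
      rw [hpid]
      exact hp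
    have hξV : ξ ∈ V := hT ξ hw
    have h1 : X.presheaf.germ N ξ hξN a' = 0 := by
      rw [ha'_def, TopCat.Presheaf.germ_res_apply,
        ← TopCat.Presheaf.germ_res_apply X.presheaf (homOfLE (inf_le_left : U ⊓ V ≤ U)) ξ
          ⟨hNU hξN, hξV⟩ a, ha, map_zero]
    rw [MeroP.germ_eq_zero_iff hN ⟨ξ, hξN⟩, hpid] at h1
    obtain ⟨c, hc, hca⟩ := h1
    apply hc
    apply hp.1.2
    rw [hI, LinearMap.mem_ker, LinearMap.toSpanSingleton_apply, smul_eq_mul]
    exact hca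
  rw [← TopCat.Presheaf.germ_res_apply X.presheaf (homOfLE hNU) y hyN a, ← ha'_def, ha'0, map_zero]

/-- the form of density used by `s5086` -/
theorem injective_res' {V : X.Opens} (hT : ContainsAss V) (N W : X.Opens) (hW : W ≤ N) :
    Function.Injective (X.presheaf.map (homOfLE (inf_le_left : W ⊓ (N ⊓ V) ≤ W)).op) := by
  rw [injective_iff_map_eq_zero]
  intro a ha
  apply injective_res hT W
  rw [map_zero]
  have hle : W ⊓ V ≤ W ⊓ (N ⊓ V) := fun z hz => ⟨hz.1, hW hz.1, hz.2⟩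
  have h1 : X.presheaf.map (homOfLE (inf_le_left : W ⊓ V ≤ W)).op a =
      X.presheaf.map (homOfLE hle).op
        (X.presheaf.map (homOfLE (inf_le_left : W ⊓ (N ⊓ V) ≤ W)).op a) := by
    rw [← ConcreteCategory.comp_apply, ← Functor.map_comp]
    rfl
  rw [h1, ha, map_zero]

section Div

variable [IsLocallyNoetherian X] {L : X.Modules} (hL : PicF.IsInvertible L) {V : X.Opens}
  (hT : ContainsAss V) (m₀ : Γ(L, V))
  (hb : ∀ (z : X) (hz : z ∈ V), IsBasisElt (X.presheaf.stalk z) (L.presheaf.germ V z hz m₀))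

/-- `t` is the quotient `m / m₀` on `U ∩ V` -/
def Rel (U : X.Opens) (m : Γ(L, U)) (t : Γ(kmod X, U)) : Prop :=
  ∀ (z : X) (hzU : z ∈ U) (hzV : z ∈ V),
    t.1 ⟨z, hzU⟩ • (LocalizedModule.mk (L.presheaf.germ V z hzV m₀) 1 : MStalk L z) =
      LocalizedModule.mk (L.presheaf.germ U z hzU m) 1

include hT hb in
theorem eq_of_forall {U : X.Opens} (t t' : Γ(kmod X, U))
    (h : ∀ (z : X) (hzU : z ∈ U) (hzV : z ∈ V),
      t.1 ⟨z, hzU⟩ • (LocalizedModule.mk (L.presheaf.germ V z hzV m₀) 1 : MStalk L z) =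
      t'.1 ⟨z, hzU⟩ • (LocalizedModule.mk (L.presheaf.germ V z hzV m₀) 1 : MStalk L z)) :
    t = t' := by
  apply eq_of_eq_on_dense (fun W' _ => injective_res hT W') t t'
  intro z hzV
  exact (hb z.1 hzV).loc_injective (regStalk_le_nonZeroDivisors z.1) _ _ (h z.1 z.2 hzV)

include hT hb in
theorem rel_unique {U : X.Opens} {m : Γ(L, U)} {t t' : Γ(kmod X, U)} (h : Rel m₀ U m t)
    (h' : Rel m₀ U m t') : t = t' :=
  eq_of_forall hT m₀ hb t t' (fun z hzU hzV => (h z hzU hzV).trans (h' z hzU hzV).symm)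

include hL hT hb in
theorem rel_exists_local (U : X.Opens) (m : Γ(L, U)) (y : X) (hy : y ∈ U) :
    ∃ (N : X.Opens) (_ : y ∈ N) (hNU : N ≤ U) (t : Γ(kmod X, N)),
      ∀ (z : X) (hzN : z ∈ N) (hzV : z ∈ V),
        t.1 ⟨z, hzN⟩ • (LocalizedModule.mk (L.presheaf.germ V z hzV m₀) 1 : MStalk L z) =
          LocalizedModule.mk (L.presheaf.germ U z (hNU hzN) m) 1 := by
  obtain ⟨N₀, hyN₀, e₀, he₀⟩ := exists_isLocalBasis L hL y
  obtain ⟨N, hN_def⟩ : ∃ N : X.Opens, N = N₀ ⊓ U := ⟨_, rfl⟩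
  have hNN₀ : N ≤ N₀ := by rw [hN_def]; exact inf_le_left
  have hNU : N ≤ U := by rw [hN_def]; exact inf_le_right
  have hyN : y ∈ N := by rw [hN_def]; exact ⟨hyN₀, hy⟩
  obtain ⟨e, he_def⟩ : ∃ e, e = L.presheaf.map (homOfLE hNN₀).op e₀ := ⟨_, rfl⟩
  have he : IsLocalBasis L N e := by rw [he_def]; exact he₀.res hNN₀
  have e0 : L.presheaf.map (homOfLE (le_refl N)).op e = e := by
    change L.presheaf.map (𝟙 _) e = e
    rw [L.presheaf.map_id]; rfl
  obtain ⟨r, hr, -⟩ := he N le_rfl (L.presheaf.map (homOfLE hNU).op m)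
  rw [e0] at hr
  obtain ⟨c, hc, -⟩ := he (N ⊓ V) inf_le_left
    (L.presheaf.map (homOfLE (inf_le_right : N ⊓ V ≤ V)).op m₀)
  -- `c` is a unit
  have hcgerm : ∀ (z : X) (hz : z ∈ N ⊓ V), L.presheaf.germ V z hz.2 m₀ =
      X.presheaf.germ (N ⊓ V) z hz c • L.presheaf.germ N z hz.1 e := by
    intro z hz
    rw [← TopCat.Presheaf.germ_res_apply L.presheaf (homOfLE (inf_le_right : N ⊓ V ≤ V)) z hz m₀,
      hc, Mero.germ_smul, TopCat.Presheaf.germ_res_apply]
  have hcu : IsUnit c := by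
    apply X.toRingedSpace.isUnit_of_isUnit_germ (N ⊓ V)
    intro z hz
    obtain ⟨u, hu⟩ := IsBasisElt.exists_unit (he.germ z hz.1) (hb z hz.2)
    have h1 : (X.presheaf.germ (N ⊓ V) z hz c - (u : X.presheaf.stalk z)) •
        L.presheaf.germ N z hz.1 e = 0 := by
      rw [sub_smul, ← hcgerm z hz, hu, sub_self]
    have h2 := (he.germ z hz.1).2 _ h1
    have h3 : X.presheaf.germ (N ⊓ V) z hz c = (u : X.presheaf.stalk z) := sub_eq_zero.mp h2
    change IsUnit (X.presheaf.germ (N ⊓ V) z hz c)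
    rw [h3]
    exact u.isUnit
  obtain ⟨c', hcc'⟩ := hcu.exists_left_inv
  obtain ⟨ct, hct⟩ := s5086 X (Or.inl inferInstance) N (N ⊓ V) inf_le_left
    (fun W hW => injective_res' hT N W hW) c'
  refine ⟨N, hyN, hNU, toK X N r * ct, ?_⟩
  intro z hzN hzV
  have hval : (toK X N r * ct).1 ⟨z, hzN⟩ =
      algebraMap _ (KStalk X z) (X.presheaf.germ N z hzN r) * ct.1 ⟨z, hzN⟩ := rfl
  have hctval : ct.1 ⟨z, hzN⟩ =
      algebraMap _ (KStalk X z) (X.presheaf.germ (N ⊓ V) z ⟨hzN, hzV⟩ c') := by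
    have := congrArg (fun τ : Γ(kmod X, N ⊓ V) => τ.1 ⟨z, ⟨hzN, hzV⟩⟩) hct
    exact this
  rw [hval, hctval, ← map_mul, algebraMap_smul_mk, hcgerm z ⟨hzN, hzV⟩, ← mul_smul, mul_assoc,
    ← map_mul, hcc', map_one, mul_one,
    ← TopCat.Presheaf.germ_res_apply L.presheaf (homOfLE hNU) z hzN m, hr, Mero.germ_smul]

include hL hT hb in
theorem rel_exists (U : X.Opens) (m : Γ(L, U)) : ∃ t : Γ(kmod X, U), Rel m₀ U m t := by
  choose N hyN hNU τ hτ using fun y : U => rel_exists_local hL hT m₀ hb U m y.1 y.2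
  have hcompat : TopCat.Presheaf.IsCompatible (kmod X).presheaf N τ := by
    intro i j
    apply eq_of_forall hT m₀ hb
    intro z hz hzV
    exact (hτ i z hz.1 hzV).trans (hτ j z hz.2 hzV).symm
  have hcover : U ≤ iSup N := by
    intro y hy
    exact Opens.mem_iSup.mpr ⟨⟨y, hy⟩, hyN ⟨y, hy⟩⟩
  obtain ⟨t, ht, -⟩ := TopCat.Sheaf.existsUnique_gluing'
    (⟨(kmod X).presheaf, (kmod X).isSheaf⟩ : TopCat.Sheaf Ab X) N U
    (fun i => homOfLE (hNU i)) hcover τ hcompat
  refine ⟨t, ?_⟩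
  intro z hzU hzV
  have h1 := ht ⟨z, hzU⟩
  have h2 : t.1 ⟨z, hzU⟩ = (τ ⟨z, hzU⟩).1 ⟨z, hyN ⟨z, hzU⟩⟩ :=
    congrArg (fun σ : Γ(kmod X, N ⟨z, hzU⟩) => σ.1 ⟨z, hyN ⟨z, hzU⟩⟩) h1
  rw [h2]
  exact hτ ⟨z, hzU⟩ z (hyN ⟨z, hzU⟩) hzV

end Div

section Psi

variable [IsLocallyNoetherian X] {L : X.Modules} (hL : PicF.IsInvertible L) {V : X.Opens}
  (hT : ContainsAss V) (m₀ : Γ(L, V))
  (hb : ∀ (z : X) (hz : z ∈ V), IsBasisElt (X.presheaf.stalk z) (L.presheaf.germ V z hz m₀))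

/-- the quotient `m / m₀` as a meromorphic function -/
noncomputable def quot (U : X.Opens) (m : Γ(L, U)) : Γ(kmod X, U) :=
  Classical.choose (rel_exists hL hT m₀ hb U m)

theorem rel_quot (U : X.Opens) (m : Γ(L, U)) : Rel m₀ U m (quot hL hT m₀ hb U m) :=
  Classical.choose_spec (rel_exists hL hT m₀ hb U m)

theorem mk_add (z : X) (μ μ' : L.presheaf.stalk z) :
    (LocalizedModule.mk (μ + μ') 1 : MStalk L z) =
      LocalizedModule.mk μ 1 + LocalizedModule.mk μ' 1 := by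
  rw [LocalizedModule.mk_add_mk]
  exact mk_congr (by simp only [one_smul]) (by rw [one_mul])

theorem quot_add (U : X.Opens) (m m' : Γ(L, U)) :
    quot hL hT m₀ hb U (m + m') = quot hL hT m₀ hb U m + quot hL hT m₀ hb U m' := by
  apply rel_unique hT m₀ hb (rel_quot hL hT m₀ hb U (m + m'))
  intro z hzU hzV
  have h1 := rel_quot hL hT m₀ hb U m z hzU hzV
  have h2 := rel_quot hL hT m₀ hb U m' z hzU hzV
  have hval : (quot hL hT m₀ hb U m + quot hL hT m₀ hb U m').1 ⟨z, hzU⟩ =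
      (quot hL hT m₀ hb U m).1 ⟨z, hzU⟩ + (quot hL hT m₀ hb U m').1 ⟨z, hzU⟩ := rfl
  rw [hval, add_smul, h1, h2, map_add, mk_add]

theorem quot_zero (U : X.Opens) : quot hL hT m₀ hb U 0 = 0 := by
  apply rel_unique hT m₀ hb (rel_quot hL hT m₀ hb U 0)
  intro z hzU hzV
  have hval : (0 : Γ(kmod X, U)).1 ⟨z, hzU⟩ = 0 := rfl
  rw [hval, zero_smul, map_zero, LocalizedModule.zero_mk]

theorem quot_smul (U : X.Opens) (r : Γ(X, U)) (m : Γ(L, U)) :
    quot hL hT m₀ hb U (r • m) = r • quot hL hT m₀ hb U m := by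
  apply rel_unique hT m₀ hb (rel_quot hL hT m₀ hb U (r • m))
  intro z hzU hzV
  have h1 := rel_quot hL hT m₀ hb U m z hzU hzV
  have hval : (r • quot hL hT m₀ hb U m).1 ⟨z, hzU⟩ =
      X.presheaf.germ U z hzU r • (quot hL hT m₀ hb U m).1 ⟨z, hzU⟩ := rfl
  rw [hval, smul_assoc, h1, Mero.germ_smul, LocalizedModule.smul'_mk]

theorem quot_res {U U' : X.Opens} (i : U' ⟶ U) (m : Γ(L, U)) :
    quot hL hT m₀ hb U' (L.presheaf.map i.op m) =
      (kmod X).presheaf.map i.op (quot hL hT m₀ hb U m) := by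
  apply rel_unique hT m₀ hb (rel_quot hL hT m₀ hb U' _)
  intro z hzU' hzV
  have h1 := rel_quot hL hT m₀ hb U m z (i.le hzU') hzV
  have hval : (show Γ(kmod X, U') from (kmod X).presheaf.map i.op (quot hL hT m₀ hb U m)).1
      ⟨z, hzU'⟩ = (quot hL hT m₀ hb U m).1 ⟨z, i.le hzU'⟩ := rfl
  rw [hval, h1, TopCat.Presheaf.germ_res_apply]

/-- the quotient map on sections -/
noncomputable def psiFun (U : X.Opens) : Γ(L, U) →+ Γ(kmod X, U) where
  toFun m := quot hL hT m₀ hb U m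
  map_zero' := quot_zero hL hT m₀ hb U
  map_add' m m' := quot_add hL hT m₀ hb U m m'

/-- division by `m₀`, a morphism `L ⟶ K_X` -/
noncomputable def psi : L ⟶ kmod X :=
  ⟨PresheafOfModules.homMk (M₁ := L.val) (M₂ := (kmod X).val)
    { app := fun U => AddCommGrpCat.ofHom (psiFun hL hT m₀ hb U.unop)
      naturality := fun {U U'} i => by
        ext m
        exact quot_res hL hT m₀ hb i.unop m }
    (fun U r m => quot_smul hL hT m₀ hb U.unop r m)⟩

theorem psi_app (U : X.Opens) (m : Γ(L, U)) :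
    (psi hL hT m₀ hb).app U m = quot hL hT m₀ hb U m := rfl

theorem mono_psi : Mono (psi hL hT m₀ hb) := by
  apply Groth.Agent.Helper4.AssMono.mono_of_app_injective
  intro U
  rw [injective_iff_map_eq_zero]
  intro m hm
  rw [psi_app] at hm
  have hrel := rel_quot hL hT m₀ hb U m
  rw [hm] at hrel
  -- germs of `m` vanish on `U ∩ V`
  have hgerm : ∀ (z : X) (hzU : z ∈ U) (hzV : z ∈ V), L.presheaf.germ U z hzU m = 0 := by
    intro z hzU hzV
    have h1 := hrel z hzU hzV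
    have hval : (0 : Γ(kmod X, U)).1 ⟨z, hzU⟩ = 0 := rfl
    rw [hval, zero_smul] at h1
    obtain ⟨N, hzN, e, he⟩ := exists_isLocalBasis L hL z
    exact (he.germ z hzN).mk_eq_zero (regStalk_le_nonZeroDivisors z) _ h1.symm
  apply section_ext_germ
  intro y hy
  rw [map_zero]
  obtain ⟨N₀, hyN₀, e₀, he₀⟩ := exists_isLocalBasis L hL y
  obtain ⟨N, hN_def⟩ : ∃ N : X.Opens, N = N₀ ⊓ U := ⟨_, rfl⟩
  have hNN₀ : N ≤ N₀ := by rw [hN_def]; exact inf_le_left
  have hNU : N ≤ U := by rw [hN_def]; exact inf_le_right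
  have hyN : y ∈ N := by rw [hN_def]; exact ⟨hyN₀, hy⟩
  obtain ⟨e, he_def⟩ : ∃ e, e = L.presheaf.map (homOfLE hNN₀).op e₀ := ⟨_, rfl⟩
  have he : IsLocalBasis L N e := by rw [he_def]; exact he₀.res hNN₀
  have e0 : L.presheaf.map (homOfLE (le_refl N)).op e = e := by
    change L.presheaf.map (𝟙 _) e = e
    rw [L.presheaf.map_id]; rfl
  obtain ⟨r, hr, -⟩ := he N le_rfl (L.presheaf.map (homOfLE hNU).op m)
  rw [e0] at hr
  have hr0 : r = 0 := by
    apply injective_res hT N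
    rw [map_zero]
    apply section_ext'
    intro z hz
    rw [map_zero, TopCat.Presheaf.germ_res_apply]
    apply (he.germ z hz.1).2
    rw [← Mero.germ_smul, ← hr, TopCat.Presheaf.germ_res_apply]
    exact hgerm z (hNU hz.1) hz.2
  rw [← TopCat.Presheaf.germ_res_apply L.presheaf (homOfLE hNU) y hyN m, hr, hr0, zero_smul,
    map_zero]

include hL hT hb in
theorem hasRegularMero : HasRegularMero L := by
  haveI := mono_psi hL hT m₀ hb
  exact Groth.Agent.Lead.MeroO.hasRegularMero_of_mono (ψ := psi hL hT m₀ hb) hL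

end Psi

end Groth.Agent.Lead.MeroAB
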