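import Mathlib
import Groth.Prelude.Def_MeroDiv
import Groth.Prelude.Def_Pic
import Groth.Agent.Lead.MeroAB1
import Groth.Agent.Helper4.QAffSec

/-!
# A section of an invertible module generating it at the associated points
-/

set_option autoImplicit false
set_option linter.style.haveILetI false
set_option linter.unusedSectionVars false

universe u

open CategoryTheory CategoryTheory.Limits AlgebraicGeometry TopologicalSpace Opposite IsLocalRing

namespace Groth.Agent.Lead.MeroAB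

open Mero Groth.Agent.Lead.MeroB Groth.Agent.Lead.MeroD Groth.Agent.Lead.MeroE
  Groth.Agent.Lead.MeroH Groth.Agent.Lead.MeroM Groth.Agent.Lead.MeroN Groth.Agent.Lead.MeroP
  Groth.Agent.Lead.WeakAss

variable {X : Scheme.{u}}

/-- weakly associated points of a locally Noetherian scheme give associated primes -/
theorem primeIdealOf_mem_associatedPrimes [IsLocallyNoetherian X] {W : X.Opens}
    (hW : IsAffineOpen W) (x : X) (hx : x ∈ W)
    (hw : Curv2.IsWeakAssPoint (Coh.structureModule X) x) :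
    (hW.primeIdealOf ⟨x, hx⟩).asIdeal ∈ associatedPrimes Γ(X, W) Γ(X, W) := by
  haveI : IsNoetherianRing Γ(X, W) := IsLocallyNoetherian.component_noetherian ⟨W, hW⟩
  letI := X.presheaf.algebra_section_stalk ⟨x, hx⟩
  haveI := hW.isLocalization_stalk ⟨x, hx⟩
  rw [isWeakAssPoint_iff] at hw
  obtain ⟨m, hm⟩ := hw
  have hass : maximalIdeal (X.presheaf.stalk x) ∈
      associatedPrimes (X.presheaf.stalk x) (X.presheaf.stalk x) := by
    refine ⟨inferInstance, m, ?_⟩
    rw [← hm]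
    congr 1
    ext r
    rw [Submodule.mem_colon_singleton, Submodule.mem_bot, LinearMap.mem_ker,
      LinearMap.toSpanSingleton_apply]
  have h1 := Module.associatedPrimes.comap_mem_associatedPrimes_of_mem_associatedPrimes_of_isLocalizedModule_of_fg
    (hW.primeIdealOf ⟨x, hx⟩).asIdeal.primeCompl
    (Algebra.linearMap Γ(X, W) (X.presheaf.stalk x)) (maximalIdeal (X.presheaf.stalk x)) hass
    ((isNoetherianRing_iff_ideal_fg _).mp inferInstance _)
  have h2 := IsLocalization.AtPrime.under_maximalIdeal (X.presheaf.stalk x)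
    (hW.primeIdealOf ⟨x, hx⟩).asIdeal
  rw [Ideal.under_def] at h2
  rw [h2] at h1
  exact h1

section Gen

variable {L : X.Modules} (hL : PicF.IsInvertible L) {W : X.Opens} (hW : IsAffineOpen W)

include hL hW in
/-- at every point of an affine open, some section over it generates the stalk -/
theorem exists_section_basis (z : X) (hz : z ∈ W) :
    ∃ μ : Γ(L, W), IsBasisElt (X.presheaf.stalk z) (L.presheaf.germ W z hz μ) := by
  haveI : L.IsQuasicoherent := Groth.Agent.Helper4.QAffSec.isQuasicoherent_of_isInvertible L hL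
  obtain ⟨N, hzN, e, he⟩ := exists_isLocalBasis L hL z
  obtain ⟨g, hgN, hzg⟩ := hW.exists_basicOpen_le (V := N) ⟨z, hzN⟩ hz
  obtain ⟨e', he'_def⟩ : ∃ e', e' = L.presheaf.map (homOfLE hgN).op e := ⟨_, rfl⟩
  obtain ⟨n, μ, hμ⟩ := Groth.Agent.Helper4.StalkDict.exists_pow_smul_eq_res hW L g e'
  refine ⟨μ, ?_⟩
  have hgu : IsUnit (X.presheaf.germ W z hz g) := (X.mem_basicOpen g z hz).mp hzg
  have h1 : L.presheaf.germ W z hz μ =
      (X.presheaf.germ W z hz g) ^ n • L.presheaf.germ N z hzN e := by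
    rw [← TopCat.Presheaf.germ_res_apply L.presheaf (homOfLE (X.basicOpen_le g)) z hzg μ, ← hμ,
      Mero.germ_smul, TopCat.Presheaf.germ_res_apply, map_pow, he'_def,
      TopCat.Presheaf.germ_res_apply]
  rw [h1]
  obtain ⟨u, hu⟩ := hgu.pow n
  rw [← hu]
  exact (he.germ z hzN).smul_unit u

/-- the locus where a section generates -/
def genSet (μ : Γ(L, W)) : Set X :=
  {z | ∃ hz : z ∈ W, IsBasisElt (X.presheaf.stalk z) (L.presheaf.germ W z hz μ)}

include hL in
theorem isOpen_genSet (μ : Γ(L, W)) : IsOpen (genSet μ) := by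
  rw [isOpen_iff_forall_mem_open]
  rintro z ⟨hz, hzb⟩
  obtain ⟨N₀, hzN₀, e₀, he₀⟩ := exists_isLocalBasis L hL z
  obtain ⟨N, hN_def⟩ : ∃ N : X.Opens, N = N₀ ⊓ W := ⟨_, rfl⟩
  have hNN₀ : N ≤ N₀ := by rw [hN_def]; exact inf_le_left
  have hNW : N ≤ W := by rw [hN_def]; exact inf_le_right
  have hzN : z ∈ N := by rw [hN_def]; exact ⟨hzN₀, hz⟩
  obtain ⟨e, he_def⟩ : ∃ e, e = L.presheaf.map (homOfLE hNN₀).op e₀ := ⟨_, rfl⟩
  have he : IsLocalBasis L N e := by rw [he_def]; exact he₀.res hNN₀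
  have e0 : L.presheaf.map (homOfLE (le_refl N)).op e = e := by
    change L.presheaf.map (𝟙 _) e = e
    rw [L.presheaf.map_id]; rfl
  obtain ⟨c, hc, -⟩ := he N le_rfl (L.presheaf.map (homOfLE hNW).op μ)
  rw [e0] at hc
  have hgerm : ∀ (w : X) (hw : w ∈ N), L.presheaf.germ W w (hNW hw) μ =
      X.presheaf.germ N w hw c • L.presheaf.germ N w hw e := by
    intro w hw
    rw [← TopCat.Presheaf.germ_res_apply L.presheaf (homOfLE hNW) w hw μ, hc, Mero.germ_smul]
  refine ⟨(X.basicOpen c : Set X), ?_, (X.basicOpen c).isOpen, ?_⟩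
  · intro w hw
    have hwN : w ∈ N := X.basicOpen_le c hw
    refine ⟨hNW hwN, ?_⟩
    rw [hgerm w hwN]
    obtain ⟨u, hu⟩ := (X.mem_basicOpen c w hwN).mp hw
    rw [← hu]
    exact (he.germ w hwN).smul_unit u
  · change z ∈ X.basicOpen c
    rw [X.mem_basicOpen c z hzN]
    obtain ⟨u, hu⟩ := IsBasisElt.exists_unit (he.germ z hzN) hzb
    have h1 : (X.presheaf.germ N z hzN c - (u : X.presheaf.stalk z)) •
        L.presheaf.germ N z hzN e = 0 := by
      rw [sub_smul, ← hgerm z hzN, hu, sub_self]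
    have h2 := (he.germ z hzN).2 _ h1
    rw [sub_eq_zero.mp h2]
    exact u.isUnit

end Gen

theorem isUnit_add_of_mem_maximalIdeal {R : Type*} [CommRing R] [IsLocalRing R] {u κ : R}
    (hu : IsUnit u) (hκ : κ ∈ maximalIdeal R) : IsUnit (u + κ) := by
  by_contra h
  have h1 : u + κ ∈ maximalIdeal R := (IsLocalRing.mem_maximalIdeal _).mpr h
  have h2 : u ∈ maximalIdeal R := by
    have := (maximalIdeal R).sub_mem h1 hκ
    rwa [add_sub_cancel_right] at this
  exact (IsLocalRing.mem_maximalIdeal _).mp h2 hu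

section Comb

variable {L : X.Modules} (hL : PicF.IsInvertible L) {W : X.Opens} (hW : IsAffineOpen W)

include hL in
/-- a section generating at finitely many pairwise incomparable points of an affine open -/
theorem exists_section_gen (Q : Finset (Ideal Γ(X, W))) (hQp : ∀ q ∈ Q, q.IsPrime)
    (hQinc : ∀ q ∈ Q, ∀ q' ∈ Q, q ≤ q' → q = q') :
    ∃ μ : Γ(L, W), ∀ (q : Ideal Γ(X, W)) (hq : q ∈ Q),
      hW.fromSpec ⟨q, hQp q hq⟩ ∈ genSet μ := by
  classical
  have hμ : ∀ q : Ideal Γ(X, W), ∃ μq : Γ(L, W), ∀ hq : q ∈ Q,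
      IsBasisElt (X.presheaf.stalk (hW.fromSpec ⟨q, hQp q hq⟩))
        (L.presheaf.germ W (hW.fromSpec ⟨q, hQp q hq⟩) (WeakAss.fromSpec_mem hW _) μq) := by
    intro q
    by_cases hq : q ∈ Q
    · obtain ⟨μq, h⟩ := exists_section_basis hL hW (hW.fromSpec ⟨q, hQp q hq⟩)
        (WeakAss.fromSpec_mem hW _)
      exact ⟨μq, fun _ => h⟩
    · exact ⟨0, fun h => (hq h).elim⟩
  choose μq hμq using hμ
  have hF : ∀ q q' : Ideal Γ(X, W), ∃ f : Γ(X, W), q ∈ Q → q' ∈ Q → q' ≠ q → f ∈ q' ∧ f ∉ q := by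
    intro q q'
    by_cases h : q ∈ Q ∧ q' ∈ Q ∧ q' ≠ q
    · obtain ⟨hq, hq', hne⟩ := h
      have : ¬ q' ≤ q := fun hle => hne (hQinc q' hq' q hq hle)
      obtain ⟨f, hfq', hfq⟩ := SetLike.not_le_iff_exists.mp this
      exact ⟨f, fun _ _ _ => ⟨hfq', hfq⟩⟩
    · exact ⟨0, fun h1 h2 h3 => (h ⟨h1, h2, h3⟩).elim⟩
  choose F hF using hF
  set a : Ideal Γ(X, W) → Γ(X, W) := fun q => ∏ q' ∈ Q.erase q, F q q' with ha
  have ha_notin : ∀ q ∈ Q, a q ∉ q := by
    intro q hq h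
    haveI := hQp q hq
    obtain ⟨q', hq', hmem⟩ := Ideal.IsPrime.prod_mem_iff.mp h
    obtain ⟨hne, hq'Q⟩ := Finset.mem_erase.mp hq'
    exact (hF q q' hq hq'Q hne).2 hmem
  have ha_in : ∀ q ∈ Q, ∀ q' ∈ Q, q' ≠ q → a q ∈ q' := by
    intro q hq q' hq' hne
    have hq'E : q' ∈ Q.erase q := Finset.mem_erase.mpr ⟨hne, hq'⟩
    rw [ha]
    dsimp only
    rw [← Finset.mul_prod_erase _ _ hq'E]
    exact Ideal.mul_mem_right _ _ (hF q q' hq hq' hne).1
  refine ⟨∑ q ∈ Q, a q • μq q, ?_⟩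
  intro q hq
  obtain ⟨z, hz_def⟩ : ∃ z : X, z = hW.fromSpec ⟨q, hQp q hq⟩ := ⟨_, rfl⟩
  have hzW : z ∈ W := by rw [hz_def]; exact WeakAss.fromSpec_mem hW _
  have hpid : hW.primeIdealOf ⟨z, hzW⟩ = ⟨q, hQp q hq⟩ := by
    subst hz_def
    exact WeakAss.primeIdealOf_fromSpec hW _ hzW
  have hε : IsBasisElt (X.presheaf.stalk z) (L.presheaf.germ W z hzW (μq q)) := by
    subst hz_def
    exact hμq q hq
  rw [← hz_def]
  refine ⟨hzW, ?_⟩
  -- decompose the germ of the sum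
  rw [← Finset.add_sum_erase Q _ hq, map_add, Mero.germ_smul]
  have hrest : ∃ κ ∈ maximalIdeal (X.presheaf.stalk z),
      L.presheaf.germ W z hzW (∑ q' ∈ Q.erase q, a q' • μq q') =
        κ • L.presheaf.germ W z hzW (μq q) := by
    rw [map_sum]
    apply Finset.sum_induction _ (fun ν => ∃ κ ∈ maximalIdeal (X.presheaf.stalk z),
      ν = κ • L.presheaf.germ W z hzW (μq q))
    · rintro ν ν' ⟨κ, hκ, rfl⟩ ⟨κ', hκ', rfl⟩
      exact ⟨κ + κ', (maximalIdeal _).add_mem hκ hκ', (add_smul _ _ _).symm⟩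
    · exact ⟨0, (maximalIdeal _).zero_mem, (zero_smul _ _).symm⟩
    · intro q' hq'
      obtain ⟨hne, hq'Q⟩ := Finset.mem_erase.mp hq'
      obtain ⟨ρ, hρ⟩ := hε.1 (L.presheaf.germ W z hzW (μq q'))
      have hmem : X.presheaf.germ W z hzW (a q') ∈ maximalIdeal (X.presheaf.stalk z) := by
        rw [IsLocalRing.mem_maximalIdeal, mem_nonunits_iff, isUnit_germ_iff hW ⟨z, hzW⟩, hpid]
        exact fun h => h (ha_in q' hq'Q q hq (Ne.symm hne))
      refine ⟨X.presheaf.germ W z hzW (a q') * ρ, Ideal.mul_mem_right _ _ hmem, ?_⟩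
      rw [Mero.germ_smul, hρ, mul_smul]
  obtain ⟨κ, hκ, hκeq⟩ := hrest
  rw [hκeq, ← add_smul]
  have hau : IsUnit (X.presheaf.germ W z hzW (a q)) := by
    rw [isUnit_germ_iff hW ⟨z, hzW⟩, hpid]
    exact ha_notin q hq
  obtain ⟨u, hu⟩ := isUnit_add_of_mem_maximalIdeal hau hκ
  rw [← hu]
  exact hε.smul_unit u

include hL hW in
theorem exists_gen_section [IsLocallyNoetherian X]
    (hT : ∀ x : X, Curv2.IsWeakAssPoint (Coh.structureModule X) x → x ∈ W) :
    ∃ (V : X.Opens) (m₀ : Γ(L, V)), ContainsAss V ∧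
      ∀ (z : X) (hz : z ∈ V), IsBasisElt (X.presheaf.stalk z) (L.presheaf.germ V z hz m₀) := by
  classical
  haveI : IsNoetherianRing Γ(X, W) := IsLocallyNoetherian.component_noetherian ⟨W, hW⟩
  have hfin := associatedPrimes.finite Γ(X, W) Γ(X, W)
  have hfinQ : {q : Ideal Γ(X, W) | Maximal (· ∈ associatedPrimes Γ(X, W) Γ(X, W)) q}.Finite :=
    hfin.subset (fun q hq => hq.1)
  have hQmem : ∀ q, q ∈ hfinQ.toFinset ↔ Maximal (· ∈ associatedPrimes Γ(X, W) Γ(X, W)) q :=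
    fun q => Set.Finite.mem_toFinset hfinQ
  have hQp : ∀ q ∈ hfinQ.toFinset, q.IsPrime := fun q hq => ((hQmem q).mp hq).1.isPrime
  have hQinc : ∀ q ∈ hfinQ.toFinset, ∀ q' ∈ hfinQ.toFinset, q ≤ q' → q = q' := by
    intro q hq q' hq' hle
    exact ((hQmem q).mp hq).eq_of_le ((hQmem q').mp hq').1 hle
  obtain ⟨μ, hμ⟩ := exists_section_gen hL hW hfinQ.toFinset hQp hQinc
  have hVW : (⟨genSet μ, isOpen_genSet hL μ⟩ : X.Opens) ≤ W := fun z hz => hz.1
  refine ⟨⟨genSet μ, isOpen_genSet hL μ⟩, L.presheaf.map (homOfLE hVW).op μ, ?_, ?_⟩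
  · intro x hx
    have hxW := hT x hx
    have hass := primeIdealOf_mem_associatedPrimes hW x hxW hx
    obtain ⟨q, hle, hmax⟩ := hfin.exists_le_maximal hass
    have hqQ : q ∈ hfinQ.toFinset := (hQmem q).mpr hmax
    have hz := hμ q hqQ
    have hspec : hW.primeIdealOf ⟨x, hxW⟩ ⤳ (⟨q, hQp q hqQ⟩ : PrimeSpectrum Γ(X, W)) :=
      (PrimeSpectrum.le_iff_specializes _ _).mp hle
    have h2 : hW.fromSpec (hW.primeIdealOf ⟨x, hxW⟩) ⤳ hW.fromSpec ⟨q, hQp q hqQ⟩ :=
      hspec.map hW.fromSpec.continuous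
    rw [hW.fromSpec_primeIdealOf ⟨x, hxW⟩] at h2
    exact h2.mem_open (isOpen_genSet hL μ) hz
  · intro z hz
    rw [TopCat.Presheaf.germ_res_apply]
    exact hz.2

end Comb

theorem s5088 (X : Scheme.{u}) [IsLocallyNoetherian X]
    (hX : ∃ W : X.Opens, IsAffineOpen W ∧ ∀ x : ↥X,
      IsAssociatedPrime (IsLocalRing.maximalIdeal ↑(X.presheaf.stalk x))
        ↑(X.presheaf.stalk x) → x ∈ W)
    (L : X.Modules) (hL : PicF.IsInvertible L) :
    ∃ D : Mero.Divisor X, Nonempty (L ≅ Mero.divMod D) := by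
  obtain ⟨W, hW, hWT⟩ := hX
  have hT : ∀ x : X, Curv2.IsWeakAssPoint (Coh.structureModule X) x → x ∈ W := by
    intro x hx
    apply hWT x
    rw [isWeakAssPoint_iff] at hx
    obtain ⟨m, hm⟩ := hx
    refine ⟨inferInstance, m, ?_⟩
    rw [← hm]
    congr 1
    ext r
    rw [Submodule.mem_colon_singleton, Submodule.mem_bot, LinearMap.mem_ker,
      LinearMap.toSpanSingleton_apply]
  obtain ⟨V, m₀, hV, hb⟩ := exists_gen_section hL hW hT
  obtain ⟨s, hs⟩ := hasRegularMero hL hV m₀ hb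
  exact exists_iso_divMod hL hs

end Groth.Agent.Lead.MeroAB
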