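import Mathlib
import Groth.Prelude.Def_MeroDiv
import Groth.Prelude.Def_CAlg
import Groth.Agent.Lead.MeroE
import Groth.Agent.Helper2.Depth

/-!
# Divisors on the spectrum of a Noetherian local ring of depth zero
-/

set_option autoImplicit false
set_option linter.style.haveILetI false
set_option linter.unusedSectionVars false

universe u

open CategoryTheory CategoryTheory.Limits AlgebraicGeometry TopologicalSpace Opposite IsLocalRing

namespace Groth.Agent.Lead.MeroG

open Mero Groth.Agent.Lead.MeroB Groth.Agent.Lead.MeroD Groth.Agent.Lead.MeroE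

theorem isUnit_of_mem_nonZeroDivisors_of_depth_zero (A : Type u) [CommRing A] [IsNoetherianRing A]
    [IsLocalRing A] (h : LocCoh.depth A A = 0) (a : A) (ha : a ∈ nonZeroDivisors A) : IsUnit a := by
  by_contra hu
  rw [Groth.Agent.Helper2.Depth.depth_eq_zero_iff] at h
  exact h a ((mem_maximalIdeal a).mpr hu)
    ((isRegular_iff_mem_nonZeroDivisors.mpr ha).left.isSMulRegular)

theorem isUnit_section_of_depth_zero (A : Type u) [CommRing A] [IsNoetherianRing A]
    [IsLocalRing A] (h : LocCoh.depth A A = 0) (a : Γ(Spec (CommRingCat.of A), ⊤))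
    (ha : a ∈ regSub (Spec (CommRingCat.of A)) ⊤) : IsUnit a := by
  rw [regSub_eq_nonZeroDivisors (isAffineOpen_top _)] at ha
  let e : Γ(Spec (CommRingCat.of A), ⊤) ≃+* A :=
    (Scheme.ΓSpecIso (CommRingCat.of A)).commRingCatIsoToRingEquiv
  have h1 : e a ∈ nonZeroDivisors A := by
    rw [mem_nonZeroDivisors_iff]
    constructor
    · intro x hx
      have : a * e.symm x = 0 := by
        apply e.injective
        rw [map_mul, e.apply_symm_apply, hx, map_zero]
      have := (mem_nonZeroDivisors_iff.mp ha).1 _ this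
      rw [← e.apply_symm_apply x, this, map_zero]
    · intro x hx
      have : e.symm x * a = 0 := by
        apply e.injective
        rw [map_mul, e.apply_symm_apply, hx, map_zero]
      have := (mem_nonZeroDivisors_iff.mp ha).2 _ this
      rw [← e.apply_symm_apply x, this, map_zero]
  have h2 := isUnit_of_mem_nonZeroDivisors_of_depth_zero A h _ h1
  have h3 := h2.map e.symm
  rwa [e.symm_apply_apply] at h3

theorem s5082 (A : Type u) [CommRing A] [IsNoetherianRing A] [IsLocalRing A] :
    (∀ D : Mero.Divisor (Spec (CommRingCat.of A)), D = 1) ↔ LocCoh.depth A A = 0 := by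
  constructor
  · intro hall
    rw [Groth.Agent.Helper2.Depth.depth_eq_zero_iff]
    intro x hx hreg
    let S := Spec (CommRingCat.of A)
    let e : Γ(S, ⊤) ≃+* A := (Scheme.ΓSpecIso (CommRingCat.of A)).commRingCatIsoToRingEquiv
    let b : Γ(S, ⊤) := (Scheme.ΓSpecIso (CommRingCat.of A)).inv x
    have hxN : x ∈ nonZeroDivisors A := by
      rw [← isRegular_iff_mem_nonZeroDivisors]
      have hl : IsLeftRegular x := isLeftRegular_iff.mpr hreg
      exact isLeftRegular_iff_isRegular.mp hl
    have hbN : b ∈ nonZeroDivisors Γ(S, ⊤) := by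
      rw [← MulEquivClass.map_nonZeroDivisors e.symm]
      exact Submonoid.mem_map_of_mem _ hxN
    have hbreg : b ∈ regSub S ⊤ := by
      rw [regSub_eq_nonZeroDivisors (isAffineOpen_top _)]; exact hbN
    have hu := isUnit_toK b hbreg
    have hD := hall (Mero.div hu.unit)
    let x₀ : S := closedPoint A
    have h1 := congrArg (fun D : Divisor S => D.1 x₀) hD
    have h1' : (QuotientGroup.mk (Units.map (evalK S ⊤ ⟨x₀, trivial⟩).toMonoidHom hu.unit) :
        Germ S x₀) = 1 := h1
    replace h1 := h1'
    rw [QuotientGroup.eq_one_iff] at h1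
    obtain ⟨v, hv⟩ := h1
    have h2 := congrArg (fun z : (KStalk S x₀)ˣ => (z : KStalk S x₀)) hv
    have h3 : (v : S.presheaf.stalk x₀) = S.presheaf.germ ⊤ x₀ trivial b :=
      algebraMap_KStalk_injective _ h2
    have h4 : x₀ ∈ S.basicOpen b :=
      (Scheme.mem_basicOpen S b x₀ (Opens.mem_top x₀)).mpr (h3 ▸ v.isUnit)
    rw [basicOpen_eq_of_affine] at h4
    exact h4 hx
  · intro h D
    apply Subtype.ext
    funext y
    let x₀ : Spec (CommRingCat.of A) := closedPoint A
    obtain ⟨V, hV, ⟨R⟩⟩ := exists_localRep D x₀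
    obtain rfl : V = ⊤ := (closedPoint_mem_iff V).mp hV
    have hua := isUnit_section_of_depth_zero A h R.a R.ha
    have hub := isUnit_section_of_depth_zero A h R.b R.hb
    have hy : y ∈ (⊤ : (Spec (CommRingCat.of A)).Opens) := trivial
    have hua' := hua.map ((Spec (CommRingCat.of A)).presheaf.germ ⊤ y hy).hom
    have hub' := hub.map ((Spec (CommRingCat.of A)).presheaf.germ ⊤ y hy).hom
    refine (R.eq_one_iff ⟨y, hy⟩).mpr ⟨?_, ?_⟩
    · obtain ⟨c, hc⟩ := hub'.dvd (a := (Spec (CommRingCat.of A)).presheaf.germ ⊤ y hy R.a)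
      exact ⟨c, hc⟩
    · obtain ⟨c, hc⟩ := hua'.dvd (a := (Spec (CommRingCat.of A)).presheaf.germ ⊤ y hy R.b)
      exact ⟨c, hc⟩

end Groth.Agent.Lead.MeroG
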