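import Mathlib
import Groth.Prelude.Def_MeroDiv
import Groth.Agent.Lead.MeroJ

/-!
# Effective divisors meeting every component of an absolute curve (S10893)
-/

set_option autoImplicit false
set_option linter.style.haveILetI false
set_option linter.unusedSectionVars false

universe u

open CategoryTheory CategoryTheory.Limits AlgebraicGeometry TopologicalSpace Opposite IsLocalRing

namespace Groth.Agent.Lead.MeroK

open Mero Groth.Agent.Lead.MeroB Groth.Agent.Lead.MeroC Groth.Agent.Lead.MeroD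
  Groth.Agent.Lead.MeroE Groth.Agent.Lead.MeroI Groth.Agent.Lead.WeakAss Groth.Agent.Lead.MeroJ

variable {C : Scheme.{u}}

/-- in a ring with finite spectrum, minimal primes are open points -/
theorem isOpen_singleton_of_finite {A : Type*} [CommRing A] (hfin : Finite (PrimeSpectrum A))
    (q : PrimeSpectrum A) (hq : q.asIdeal ∈ minimalPrimes A) : IsOpen ({q} : Set (PrimeSpectrum A)) := by
  have hcl : IsClosed (⋃ p ∈ ({q}ᶜ : Set (PrimeSpectrum A)), PrimeSpectrum.zeroLocus (p.asIdeal : Set A)) :=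
    Set.Finite.isClosed_biUnion (Set.toFinite _) (fun p _ => PrimeSpectrum.isClosed_zeroLocus _)
  have : ({q} : Set (PrimeSpectrum A)) =
      (⋃ p ∈ ({q}ᶜ : Set (PrimeSpectrum A)), PrimeSpectrum.zeroLocus (p.asIdeal : Set A))ᶜ := by
    ext r
    simp only [Set.mem_singleton_iff, Set.mem_compl_iff, Set.mem_iUnion, exists_prop, not_exists,
      not_and, PrimeSpectrum.mem_zeroLocus, SetLike.coe_subset_coe]
    constructor
    · rintro rfl p hp hpr
      have : r.asIdeal ≤ p.asIdeal := hq.2 ⟨p.isPrime, bot_le⟩ hpr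
      exact hp (PrimeSpectrum.ext (le_antisymm hpr this))
    · intro h
      by_contra hne
      exact h r hne le_rfl
  rw [this]
  exact hcl.isOpen_compl

/-- on a nonempty affine open of an absolute curve without open points, some maximal ideal is
not an associated prime -/
theorem exists_isMaximal_not_mem_associatedPrimes [IsNoetherian C] (hC : AbsCurve C)
    (hpt : ∀ x : C, ¬ IsOpen ({x} : Set C)) {W : C.Opens} (hW : IsAffineOpen W)
    (hne : (W : Set C).Nonempty) :
    ∃ m : Ideal Γ(C, W), m.IsMaximal ∧ m ∉ associatedPrimes Γ(C, W) Γ(C, W) := by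
  haveI : IsNoetherianRing Γ(C, W) := IsLocallyNoetherian.component_noetherian ⟨W, hW⟩
  by_contra H
  push Not at H
  -- every prime is minimal or associated
  have hall : ∀ p : PrimeSpectrum Γ(C, W), p.asIdeal ∈ minimalPrimes Γ(C, W) ∪
      associatedPrimes Γ(C, W) Γ(C, W) := by
    intro p
    have hxW : hW.fromSpec p ∈ W := fromSpec_mem hW p
    have hp : hW.primeIdealOf ⟨hW.fromSpec p, hxW⟩ = p := primeIdealOf_fromSpec hW p hxW
    by_cases hcl : IsClosed ({hW.fromSpec p} : Set C)
    · right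
      have := hW.primeIdealOf_isMaximal_of_isClosed ⟨hW.fromSpec p, hxW⟩ hcl
      rw [hp] at this
      exact H _ this
    · left
      haveI := krullDimLE_zero_of_not_isClosed hC _ hcl
      letI := TopCat.Presheaf.algebra_section_stalk C.presheaf (⟨hW.fromSpec p, hxW⟩ : W)
      haveI := hW.isLocalization_stalk ⟨hW.fromSpec p, hxW⟩
      rw [hp] at this
      have hmin : maximalIdeal (C.presheaf.stalk (hW.fromSpec p)) ∈
          minimalPrimes (C.presheaf.stalk (hW.fromSpec p)) :=
        Ideal.mem_minimalPrimes_of_krullDimLE_zero _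
      have h := IsLocalization.minimalPrimes_map p.asIdeal.primeCompl
        (C.presheaf.stalk (hW.fromSpec p)) (⊥ : Ideal Γ(C, W))
      rw [Ideal.map_bot] at h
      change maximalIdeal (C.presheaf.stalk (hW.fromSpec p)) ∈
        (⊥ : Ideal (C.presheaf.stalk (hW.fromSpec p))).minimalPrimes at hmin
      rw [h, Set.mem_preimage, IsLocalization.AtPrime.under_maximalIdeal
        (C.presheaf.stalk (hW.fromSpec p)) p.asIdeal] at hmin
      exact hmin
  have hfinset : ((minimalPrimes Γ(C, W)) ∪ associatedPrimes Γ(C, W) Γ(C, W)).Finite :=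
    (Ideal.finite_minimalPrimes_of_isNoetherianRing Γ(C, W) ⊥).union
      (associatedPrimes.finite Γ(C, W) Γ(C, W))
  have hfin : Finite (PrimeSpectrum Γ(C, W)) := by
    have : (Set.univ : Set (PrimeSpectrum Γ(C, W))).Finite := by
      refine (Set.Finite.preimage (f := fun p : PrimeSpectrum Γ(C, W) => p.asIdeal) ?_
        hfinset).subset (fun p _ => hall p)
      intro p _ q _ hpq
      exact PrimeSpectrum.ext hpq
    exact Set.finite_univ_iff.mp this
  obtain ⟨y, hy⟩ := hne
  obtain ⟨q, hq, _⟩ := Ideal.exists_minimalPrimes_le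
    (bot_le : (⊥ : Ideal Γ(C, W)) ≤ (hW.primeIdealOf ⟨y, hy⟩).asIdeal)
  let qq : PrimeSpectrum Γ(C, W) := ⟨q, hq.1.1⟩
  have hopen := isOpen_singleton_of_finite hfin qq hq
  have h2 := hW.fromSpec.isOpenEmbedding.isOpenMap _ hopen
  apply hpt (hW.fromSpec qq)
  convert h2 using 1
  exact Set.image_singleton.symm

/-- a point of a nonempty affine open with a regular non-invertible germ -/
theorem exists_regStalk_not_isUnit [IsNoetherian C] (hC : AbsCurve C)
    (hpt : ∀ x : C, ¬ IsOpen ({x} : Set C)) {W : C.Opens} (hW : IsAffineOpen W)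
    (hne : (W : Set C).Nonempty) :
    ∃ x : C, x ∈ W ∧ ∃ t : regStalk C x, ¬ IsUnit (t : C.presheaf.stalk x) := by
  haveI : IsNoetherianRing Γ(C, W) := IsLocallyNoetherian.component_noetherian ⟨W, hW⟩
  obtain ⟨m, hm, hmass⟩ := exists_isMaximal_not_mem_associatedPrimes hC hpt hW hne
  have hI : ¬ ((m : Set Γ(C, W)) ⊆ ⋃ p ∈ associatedPrimes Γ(C, W) Γ(C, W), p) := by
    rw [Ideal.subset_union_prime_finite (associatedPrimes.finite Γ(C, W) Γ(C, W)) ⊥ ⊥
      (fun p hp _ _ => IsAssociatedPrime.isPrime hp)]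
    rintro ⟨p, hp, hmp⟩
    have hpprime : p.IsPrime := IsAssociatedPrime.isPrime hp
    have : m = p := hm.eq_of_le hpprime.ne_top hmp
    exact hmass (this ▸ hp)
  obtain ⟨t, htm, ht⟩ := Set.not_subset.mp hI
  rw [biUnion_associatedPrimes_eq_compl_nonZeroDivisors] at ht
  have ht' : t ∈ nonZeroDivisors Γ(C, W) := Set.notMem_compl_iff.mp ht
  have hreg : t ∈ regSub C W := by rw [regSub_eq_nonZeroDivisors hW]; exact ht'
  let mm : PrimeSpectrum Γ(C, W) := ⟨m, hm.isPrime⟩
  have hxW : hW.fromSpec mm ∈ W := fromSpec_mem hW mm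
  refine ⟨hW.fromSpec mm, hxW, ⟨C.presheaf.germ W _ hxW t,
    germ_mem_regStalk (⟨hW.fromSpec mm, hxW⟩ : W) hreg⟩, ?_⟩
  intro hu
  have h1 := (Scheme.mem_basicOpen C t _ hxW).mpr hu
  have h2 := (mem_basicOpen_iff_notMem hW ⟨_, hxW⟩ t).mp h1
  rw [primeIdealOf_fromSpec hW mm hxW] at h2
  exact h2 htm

/-- the class of a regular germ is trivial only if the germ is a unit -/
theorem isUnit_of_mk_eq_one (x : C) (t : regStalk C x)
    (h : (QuotientGroup.mk (IsLocalization.map_units (KStalk C x) t).unit : Germ C x) = 1) :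
    IsUnit (t : C.presheaf.stalk x) := by
  rw [QuotientGroup.eq_one_iff] at h
  obtain ⟨v, hv⟩ := h
  have h1 : algebraMap _ (KStalk C x) (v : C.presheaf.stalk x) =
      algebraMap _ (KStalk C x) (t : C.presheaf.stalk x) :=
    congrArg (fun z : (KStalk C x)ˣ => (z : KStalk C x)) hv
  have h2 := algebraMap_KStalk_injective x h1
  rw [← h2]
  exact v.isUnit

theorem s10893 [IsNoetherian C] (hC : AbsCurve C)
    (hpt : ∀ x : C, ¬ IsOpen ({x} : Set C)) (U : C.Opens) (hU : Dense (U : Set C)) :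
    ∃ D : Mero.Divisor C, Mero.IsEffective D ∧ Mero.supp D ⊆ (U : Set C) ∧
      ∀ Z ∈ irreducibleComponents (C : Type u), (Mero.supp D ∩ Z).Nonempty := by
  classical
  have key : ∀ Z ∈ irreducibleComponents (C : Type u), ∃ x : C, x ∈ Z ∧ x ∈ U ∧
      ∃ t : regStalk C x, ¬ IsUnit (t : C.presheaf.stalk x) := by
    intro Z hZ
    obtain ⟨o, ho, hone, hoZ⟩ :=
      NoetherianSpace.exists_isOpen_nonempty_subset_irreducibleComponent Z hZ
    obtain ⟨y, hyo, hyU⟩ := hU.inter_open_nonempty o ho hone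
    let O : C.Opens := ⟨o, ho⟩ ⊓ U
    have hyO : y ∈ O := ⟨hyo, hyU⟩
    obtain ⟨W, hW, hyW, hWO⟩ := Opens.isBasis_iff_nbhd.mp C.isBasis_affineOpens hyO
    obtain ⟨x, hxW, t, ht⟩ := exists_regStalk_not_isUnit hC hpt hW ⟨y, hyW⟩
    exact ⟨x, hoZ (hWO hxW).1, (hWO hxW).2, t, ht⟩
  choose xZ hxZ hxU htZ using key
  set P : Set C := Set.range (fun Z : irreducibleComponents (C : Type u) => xZ Z.1 Z.2) with hP_def
  have hPfin : P.Finite := by
    haveI : Finite (irreducibleComponents (C : Type u)) :=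
      NoetherianSpace.finite_irreducibleComponents.to_subtype
    exact Set.finite_range _
  have hP : ∀ x ∈ P, ∃ t : regStalk C x, ¬ IsUnit (t : C.presheaf.stalk x) := by
    rintro _ ⟨Z, rfl⟩
    exact htZ Z.1 Z.2
  let g : ∀ x : C, Germ C x := fun x =>
    if h : x ∈ P then QuotientGroup.mk
      (IsLocalization.map_units (KStalk C x) (Classical.choose (hP x h))).unit else 1
  have hg0 : ∀ x, x ∉ P → g x = 1 := fun x hx => dif_neg hx
  have hg1 : ∀ x (h : x ∈ P), g x = QuotientGroup.mk
      (IsLocalization.map_units (KStalk C x) (Classical.choose (hP x h))).unit :=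
    fun x h => dif_pos h
  have hg : g ∈ divisorGroup C := (mem_divisorGroup_iff hC g).mpr
    ⟨hPfin.subset (fun x hx => by
      by_contra hn
      exact hx (hg0 x hn)), fun x hx => germ_eq_one_of_not_isClosed hC x hx _⟩
  have hone : ∀ x : C, (1 : Germ C x) =
      QuotientGroup.mk (IsLocalization.map_units (KStalk C x) (1 : regStalk C x)).unit := by
    intro x
    rw [← QuotientGroup.mk_one]
    congr 1
    apply Units.ext
    change (1 : KStalk C x) = algebraMap _ (KStalk C x) ((1 : regStalk C x) : C.presheaf.stalk x)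
    rw [Submonoid.coe_one, map_one]
  have hsupp : ∀ x, x ∈ P → x ∈ supp (⟨g, hg⟩ : Divisor C) := by
    intro x hx h1
    have h2 : g x = 1 := h1
    rw [hg1 x hx] at h2
    exact Classical.choose_spec (hP x hx) (isUnit_of_mk_eq_one x _ h2)
  refine ⟨⟨g, hg⟩, ?_, ?_, ?_⟩
  · intro x
    by_cases hx : x ∈ P
    · exact ⟨_, hg1 x hx⟩
    · exact ⟨1, (hg0 x hx).trans (hone x)⟩
  · intro x hx
    have hxP : x ∈ P := by
      by_contra hn
      exact hx (hg0 x hn)
    obtain ⟨Z, rfl⟩ := hxP
    exact hxU Z.1 Z.2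
  · intro Z hZ
    exact ⟨xZ Z hZ, hsupp _ ⟨⟨Z, hZ⟩, rfl⟩, hxZ Z hZ⟩

end Groth.Agent.Lead.MeroK
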