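import Mathlib
import Groth.Prelude.Def_MeroDiv
import Groth.Prelude.Def_Pic
import Groth.Agent.Lead.MeroP2

/-!
# Meromorphic sections are determined at the generic points
-/

set_option autoImplicit false
set_option linter.style.haveILetI false
set_option linter.unusedSectionVars false

universe u

open CategoryTheory CategoryTheory.Limits AlgebraicGeometry TopologicalSpace Opposite IsLocalRing

namespace Groth.Agent.Lead.MeroP

open Mero Groth.Agent.Lead.MeroB Groth.Agent.Lead.MeroD Groth.Agent.Lead.MeroE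
  Groth.Agent.Lead.MeroI Groth.Agent.Lead.MeroM Groth.Agent.Lead.MeroN Groth.Agent.Lead.WeakAss

variable {X : Scheme.{u}}


/-- equality of two fractions with respect to a basis, at a point -/
theorem germ_cross_eq {L : X.Modules} {V : X.Opens} {e : Γ(L, V)} (he : IsLocalBasis L V e)
    (ξ : X) (hξ : ξ ∈ V) (ρ ρ' : X.presheaf.stalk ξ) (β β' : regStalk X ξ)
    (h : (LocalizedModule.mk (ρ • L.presheaf.germ V ξ hξ e) β : MStalk L ξ) =
      LocalizedModule.mk (ρ' • L.presheaf.germ V ξ hξ e) β') :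
    (β' : X.presheaf.stalk ξ) * ρ = (β : X.presheaf.stalk ξ) * ρ' := by
  rw [LocalizedModule.mk_eq] at h
  obtain ⟨u, hu⟩ := h
  simp only [Submonoid.smul_def, smul_smul] at hu
  have h4 : ((u : X.presheaf.stalk ξ) * ((β' : X.presheaf.stalk ξ) * ρ -
      (β : X.presheaf.stalk ξ) * ρ')) • L.presheaf.germ V ξ hξ e = 0 := by
    rw [mul_sub, sub_smul, sub_eq_zero]
    exact hu
  have h5 := (he.germ ξ hξ).2 _ h4
  have h6 := (mul_left_mem_nonZeroDivisors_eq_zero_iff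
    (regStalk_le_nonZeroDivisors ξ u.2)).mp h5
  exact sub_eq_zero.mp h6

/-- a meromorphic section of an invertible module is determined by its values at the generic
points -/
theorem merSection_ext (ha : WeakAssGeneric X)
    (hb : ∀ U : X.Opens, IsCompact (U : Set ↥X) → (irreducibleComponents ↥(U : Scheme.{u})).Finite)
    (L : X.Modules) (hL : PicF.IsInvertible L) {W : X.Opens} (t t' : Γ(merMod L, W))
    (h : ∀ z : W, IsGen z.1 → t.1 z = t'.1 z) : t = t' := by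
  apply Subtype.ext
  funext y
  obtain ⟨V₁, hy₁, i₁, m₁, b₁, h₁⟩ := t.2 y
  obtain ⟨V₂, hy₂, i₂, m₂, b₂, h₂⟩ := t'.2 y
  obtain ⟨U₃, hy₃, e₃, he₃⟩ := exists_isLocalBasis L hL y.1
  obtain ⟨V, hV, hyV, hVle⟩ := Opens.isBasis_iff_nbhd.mp X.isBasis_affineOpens
    (show y.1 ∈ V₁ ⊓ V₂ ⊓ U₃ from ⟨⟨hy₁, hy₂⟩, hy₃⟩)
  have hVV₁ : V ≤ V₁ := hVle.trans (inf_le_left.trans inf_le_left)
  have hVV₂ : V ≤ V₂ := hVle.trans (inf_le_left.trans inf_le_right)
  have hVU₃ : V ≤ U₃ := hVle.trans inf_le_right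
  have hVW : V ≤ W := hVV₁.trans i₁.le
  obtain ⟨e, he_def⟩ : ∃ e, e = L.presheaf.map (homOfLE hVU₃).op e₃ := ⟨_, rfl⟩
  have he : IsLocalBasis L V e := by rw [he_def]; exact he₃.res hVU₃
  have e0 : L.presheaf.map (homOfLE (le_refl V)).op e = e := by
    change L.presheaf.map (𝟙 _) e = e
    rw [L.presheaf.map_id]; rfl
  obtain ⟨r, hr, -⟩ := he V le_rfl (L.presheaf.map (homOfLE hVV₁).op m₁)
  obtain ⟨r', hr', -⟩ := he V le_rfl (L.presheaf.map (homOfLE hVV₂).op m₂)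
  rw [e0] at hr hr'
  obtain ⟨c₁, hc₁_def⟩ : ∃ c₁, c₁ = X.presheaf.map (homOfLE hVV₁).op b₁.1 := ⟨_, rfl⟩
  obtain ⟨c₂, hc₂_def⟩ : ∃ c₂, c₂ = X.presheaf.map (homOfLE hVV₂).op b₂.1 := ⟨_, rfl⟩
  -- values on `V`
  have hval : ∀ (z : X) (hz : z ∈ V), t.1 ⟨z, hVW hz⟩ =
      LocalizedModule.mk (X.presheaf.germ V z hz r • L.presheaf.germ V z hz e)
        (regGerm ⟨z, hVV₁ hz⟩ b₁) := by
    intro z hz
    have := h₁ ⟨z, hVV₁ hz⟩
    refine this.trans (mk_congr ?_ rfl)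
    rw [← Mero.germ_smul, ← hr, TopCat.Presheaf.germ_res_apply]
  have hval' : ∀ (z : X) (hz : z ∈ V), t'.1 ⟨z, hVW hz⟩ =
      LocalizedModule.mk (X.presheaf.germ V z hz r' • L.presheaf.germ V z hz e)
        (regGerm ⟨z, hVV₂ hz⟩ b₂) := by
    intro z hz
    have := h₂ ⟨z, hVV₂ hz⟩
    refine this.trans (mk_congr ?_ rfl)
    rw [← Mero.germ_smul, ← hr', TopCat.Presheaf.germ_res_apply]
  have hd : c₂ * r - c₁ * r' = 0 := by
    apply eq_zero_of_forall_minimalPrimes (finite_minimalPrimes hb hV)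
      (mem_nonZeroDivisors_of_forall_minimalPrimes ha hV)
    intro p hp
    obtain ⟨ξ, hξ_def⟩ : ∃ ξ : X, ξ = hV.fromSpec ⟨p, hp.1.1⟩ := ⟨_, rfl⟩
    have hξV : ξ ∈ V := by rw [hξ_def]; exact fromSpec_mem hV _
    have hgen : IsGen ξ := by rw [hξ_def]; exact isGen_fromSpec hV p hp
    have hpξ : hV.primeIdealOf ⟨ξ, hξV⟩ = ⟨p, hp.1.1⟩ := by
      subst hξ_def
      exact primeIdealOf_fromSpec hV ⟨p, hp.1.1⟩ hξV
    have h3 : t.1 ⟨ξ, hVW hξV⟩ = t'.1 ⟨ξ, hVW hξV⟩ := h ⟨ξ, hVW hξV⟩ hgen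
    rw [hval ξ hξV, hval' ξ hξV] at h3
    have h4 := germ_cross_eq he ξ hξV _ _ _ _ h3
    have e1 : X.presheaf.germ V ξ hξV c₁ = X.presheaf.germ V₁ ξ (hVV₁ hξV) b₁.1 := by
      rw [hc₁_def, TopCat.Presheaf.germ_res_apply]
    have e2 : X.presheaf.germ V ξ hξV c₂ = X.presheaf.germ V₂ ξ (hVV₂ hξV) b₂.1 := by
      rw [hc₂_def, TopCat.Presheaf.germ_res_apply]
    have h6 : X.presheaf.germ V ξ hξV (c₂ * r - c₁ * r') = 0 := by
      rw [map_sub, map_mul, map_mul, e1, e2, sub_eq_zero]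
      exact h4
    rw [germ_eq_zero_iff hV ⟨ξ, hξV⟩, hpξ] at h6
    exact h6
  have h7 := hval y.1 hyV
  have h8 := hval' y.1 hyV
  change t.1 ⟨y.1, hVW hyV⟩ = t'.1 ⟨y.1, hVW hyV⟩
  rw [h7, h8, LocalizedModule.mk_eq]
  refine ⟨1, ?_⟩
  have e1 : X.presheaf.germ V y.1 hyV c₁ = X.presheaf.germ V₁ y.1 (hVV₁ hyV) b₁.1 := by
    rw [hc₁_def, TopCat.Presheaf.germ_res_apply]
  have e2 : X.presheaf.germ V y.1 hyV c₂ = X.presheaf.germ V₂ y.1 (hVV₂ hyV) b₂.1 := by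
    rw [hc₂_def, TopCat.Presheaf.germ_res_apply]
  have h9 := congrArg (X.presheaf.germ V y.1 hyV) (sub_eq_zero.mp hd)
  rw [map_mul, map_mul, e1, e2] at h9
  simp only [one_smul, Submonoid.smul_def, smul_smul]
  rw [h9]


end Groth.Agent.Lead.MeroP
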