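import Mathlib
import Groth.Prelude.Def_MeroDiv
import Groth.Prelude.Def_Pic
import Groth.Agent.Lead.MeroP3

/-!
# Regular meromorphic sections when `K_X` is determined at the generic points
-/

set_option autoImplicit false
set_option linter.style.haveILetI false
set_option linter.unusedSectionVars false

universe u

open CategoryTheory CategoryTheory.Limits AlgebraicGeometry TopologicalSpace Opposite IsLocalRing

namespace Groth.Agent.Lead.MeroP

open Mero Groth.Agent.Lead.MeroB Groth.Agent.Lead.MeroD Groth.Agent.Lead.MeroE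
  Groth.Agent.Lead.MeroI Groth.Agent.Lead.MeroM Groth.Agent.Lead.MeroN Groth.Agent.Lead.WeakAss

variable {X : Scheme.{u}}

/-- the meromorphic section `m / b` -/
noncomputable def fracSec (L : X.Modules) {V : X.Opens} (m : Γ(L, V)) (b : regSub X V) : Γ(merMod L, V) :=
  ⟨fun z => LocalizedModule.mk (L.presheaf.germ V z.1 z.2 m) (regGerm z b),
    fun z => ⟨V, z.2, 𝟙 _, m, b, fun _ => rfl⟩⟩

theorem fracSec_val (L : X.Modules) {V : X.Opens} (m : Γ(L, V)) (b : regSub X V) (z : V) :
    (fracSec L m b).1 z = LocalizedModule.mk (L.presheaf.germ V z.1 z.2 m) (regGerm z b) := rfl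

/-- Theorem R: if the weakly associated points are generic and quasi-compact opens have finitely
many irreducible components, every invertible module has a regular meromorphic section -/
theorem hasRegularMero_of_generic (ha : WeakAssGeneric X)
    (hb : ∀ U : X.Opens, IsCompact (U : Set ↥X) → (irreducibleComponents ↥(U : Scheme.{u})).Finite)
    (L : X.Modules) (hL : PicF.IsInvertible L) : HasRegularMero L := by
  have hε : ∀ z : X, ∃ ε : L.presheaf.stalk z, IsBasisElt (X.presheaf.stalk z) ε := by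
    intro z
    obtain ⟨U, hz, e, he⟩ := exists_isLocalBasis L hL z
    exact ⟨_, he.germ z hz⟩
  choose ε hε using hε
  choose V hxV e he a b hab using exists_local_section ha hb L hL ε hε
  -- the local sections
  let τ : ∀ x : X, Γ(merMod L, V x) := fun x => fracSec L ((a x).1 • e x) (b x)
  have hτgen : ∀ (x z : X) (hz : z ∈ V x), IsGen z →
      (τ x).1 ⟨z, hz⟩ = LocalizedModule.mk (ε z) 1 := by
    intro x z hz hg
    change LocalizedModule.mk (L.presheaf.germ (V x) z hz ((a x).1 • e x)) (regGerm ⟨z, hz⟩ (b x)) = _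
    rw [Mero.germ_smul, hab x z hz hg]
    exact LocalizedModule.mk_cancel (regGerm ⟨z, hz⟩ (b x)) (ε z)
  have hkey : ∀ (x z : X) (hz : z ∈ V x), (τ z).1 ⟨z, hxV z⟩ = (τ x).1 ⟨z, hz⟩ := by
    intro x z hz
    have h1 : (merMod L).presheaf.map (homOfLE (inf_le_right : V x ⊓ V z ≤ V z)).op (τ z) =
        (merMod L).presheaf.map (homOfLE (inf_le_left : V x ⊓ V z ≤ V x)).op (τ x) := by
      apply merSection_ext ha hb L hL
      intro w hw
      change (τ z).1 ⟨w.1, w.2.2⟩ = (τ x).1 ⟨w.1, w.2.1⟩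
      rw [hτgen z w.1 w.2.2 hw, hτgen x w.1 w.2.1 hw]
    have h2 := congrArg (fun t : Γ(merMod L, V x ⊓ V z) => t.1 ⟨z, ⟨hz, hxV z⟩⟩) h1
    exact h2
  have hpred : (mLoc L).pred (fun z : (⊤ : X.Opens) => (τ z.1).1 ⟨z.1, hxV z.1⟩) := by
    intro x
    refine ⟨V x.1, hxV x.1, homOfLE le_top, (a x.1).1 • e x.1, b x.1, fun z => ?_⟩
    exact hkey x.1 z.1 z.2
  refine ⟨⟨fun z => (τ z.1).1 ⟨z.1, hxV z.1⟩, hpred⟩, fun x q hq => ?_⟩
  change q • (τ x).1 ⟨x, hxV x⟩ = 0 at hq
  have h1 : (τ x).1 ⟨x, hxV x⟩ =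
      ((Units.map (evalK X (V x) ⟨x, hxV x⟩).toMonoidHom (Groth.Agent.Lead.MeroJ.unitOf (a x) (b x)) :
        (KStalk X x)ˣ) : KStalk X x) •
      (LocalizedModule.mk (L.presheaf.germ (V x) x (hxV x) (e x)) 1 : MStalk L x) := by
    rw [unitOf_val, mk_smul_mk', mul_one, ← Mero.germ_smul]
    rfl
  rw [h1, ← mul_smul] at hq
  have h2 := ((he x).germ x (hxV x)).loc_eq_zero (regStalk_le_nonZeroDivisors x) _ hq
  exact (Units.mul_left_eq_zero _).mp h2


end Groth.Agent.Lead.MeroP
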