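import Mathlib
import Groth.Prelude.Def_MeroDiv
import Groth.Prelude.Def_Pic
import Groth.Agent.Lead.MeroP4
import Groth.Agent.Lead.MeroO
import Groth.Agent.Helper4.AssDict

/-!
# Existence of regular meromorphic sections: reduced case and locally Noetherian case without
embedded points
-/

set_option autoImplicit false
set_option linter.style.haveILetI false
set_option linter.unusedSectionVars false

universe u

open CategoryTheory CategoryTheory.Limits AlgebraicGeometry TopologicalSpace Opposite IsLocalRing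

namespace Groth.Agent.Lead.MeroQ

open Mero Groth.Agent.Lead.MeroB Groth.Agent.Lead.MeroD Groth.Agent.Lead.MeroE
  Groth.Agent.Lead.MeroI Groth.Agent.Lead.MeroM Groth.Agent.Lead.MeroN Groth.Agent.Lead.WeakAss
  Groth.Agent.Lead.MeroP Groth.Agent.Lead.MeroO

variable {X : Scheme.{u}}

/-- a point whose local ring has zero maximal ideal has no proper generization -/
theorem isGen_of_maximalIdeal_eq_bot (x : X)
    (h : IsLocalRing.maximalIdeal (X.presheaf.stalk x) = ⊥) : IsGen x := by
  obtain ⟨V, hV, hxV, -⟩ := Opens.isBasis_iff_nbhd.mp X.isBasis_affineOpens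
    (show x ∈ (⊤ : X.Opens) from trivial)
  have hmin : (hV.primeIdealOf ⟨x, hxV⟩).asIdeal ∈ minimalPrimes Γ(X, V) := by
    obtain ⟨q, hq, hqp⟩ := Ideal.exists_minimalPrimes_le
      (bot_le : (⊥ : Ideal Γ(X, V)) ≤ (hV.primeIdealOf ⟨x, hxV⟩).asIdeal)
    have hqprime : q.IsPrime := hq.1.1
    have hle : (hV.primeIdealOf ⟨x, hxV⟩).asIdeal ≤ q := by
      intro f hf
      have h1 : X.presheaf.germ V x hxV f ∈ IsLocalRing.maximalIdeal (X.presheaf.stalk x) := by
        rw [IsLocalRing.mem_maximalIdeal, mem_nonunits_iff, isUnit_germ_iff hV ⟨x, hxV⟩]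
        exact fun hn => hn hf
      rw [h, Ideal.mem_bot, germ_eq_zero_iff hV ⟨x, hxV⟩] at h1
      obtain ⟨c, hc, hcf⟩ := h1
      have h2 : c * f ∈ q := by rw [hcf]; exact q.zero_mem
      rcases hqprime.mem_or_mem h2 with h3 | h3
      · exact (hc (hqp h3)).elim
      · exact h3
    rw [le_antisymm hle hqp]
    exact hq
  have h1 := isGen_fromSpec hV _ hmin
  have h2 : hV.fromSpec ⟨(hV.primeIdealOf ⟨x, hxV⟩).asIdeal, hmin.1.1⟩ = x :=
    hV.fromSpec_primeIdealOf ⟨x, hxV⟩
  rw [h2] at h1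
  exact h1

/-- on a reduced scheme the weakly associated points of the structure sheaf are generic -/
theorem weakAssGeneric_of_isReduced [IsReduced X] : WeakAssGeneric X := by
  intro x hx
  rw [isWeakAssPoint_iff] at hx
  obtain ⟨m, hm⟩ := hx
  apply isGen_of_maximalIdeal_eq_bot
  have hann : ∀ t ∈ IsLocalRing.maximalIdeal (X.presheaf.stalk x), t * m = 0 := by
    intro t ht
    rw [← hm] at ht
    obtain ⟨n, hn⟩ := ht
    rw [LinearMap.mem_ker, LinearMap.toSpanSingleton_apply, smul_eq_mul] at hn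
    have h1 : (t * m) ^ (n + 1) = 0 := by
      rw [mul_pow, pow_succ t n, pow_succ m n]
      calc t ^ n * t * (m ^ n * m) = (t ^ n * m) * (t * m ^ n) := by ring
        _ = 0 := by rw [hn, zero_mul]
    exact IsReduced.eq_zero _ ⟨n + 1, h1⟩
  have hm0 : m ≠ 0 := by
    intro h0
    have : (1 : X.presheaf.stalk x) ∈ IsLocalRing.maximalIdeal (X.presheaf.stalk x) := by
      rw [← hm]
      apply Ideal.le_radical
      rw [LinearMap.mem_ker, LinearMap.toSpanSingleton_apply, h0, smul_zero]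
    exact (Ideal.ne_top_iff_one _).mp (IsLocalRing.maximalIdeal.isMaximal _).ne_top this
  have hmu : IsUnit m := by
    by_contra hnu
    have h1 : m ∈ IsLocalRing.maximalIdeal (X.presheaf.stalk x) :=
      (IsLocalRing.mem_maximalIdeal m).mpr hnu
    have h2 := hann m h1
    exact hm0 (IsReduced.eq_zero _ ⟨2, by rw [pow_two]; exact h2⟩)
  rw [eq_bot_iff]
  intro t ht
  rw [Ideal.mem_bot]
  exact hmu.mul_left_eq_zero.mp (hann t ht)

theorem s8866 (X : Scheme.{u}) [IsReduced X]
    (hfin : ∀ U : X.Opens, IsCompact (U : Set ↥X) → (irreducibleComponents ↥(U : Scheme.{u})).Finite)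
    (L : X.Modules) (hL : PicF.IsInvertible L) : Mero.HasRegularMero L :=
  hasRegularMero_of_generic weakAssGeneric_of_isReduced hfin L hL

/-- quasi-compact opens of a locally Noetherian scheme have finitely many irreducible
components -/
theorem finite_irreducibleComponents_of_isLocallyNoetherian [IsLocallyNoetherian X] (U : X.Opens)
    (hU : IsCompact (U : Set ↥X)) : (irreducibleComponents ↥(U : Scheme.{u})).Finite := by
  haveI : CompactSpace ↥(U : Scheme.{u}) := isCompact_iff_compactSpace.mp hU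
  haveI : IsNoetherian (U : Scheme.{u}) := {}
  exact NoetherianSpace.finite_irreducibleComponents

/-- no embedded points: associated points are generic -/
theorem weakAssGeneric_of_noEmbedded
    (hne : ∀ x : ↥X, Curv2.IsAssPoint (Coh.structureModule X) x →
      ∀ y : ↥X, Curv2.IsAssPoint (Coh.structureModule X) y → y ⤳ x → y = x) :
    WeakAssGeneric X := by
  intro x hx y hy
  have hxa : Curv2.IsAssPoint (Coh.structureModule X) x :=
    (Groth.Agent.Helper4.AssDict.isAssPoint_iff_isWeakAssPoint _ x).mpr hx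
  obtain ⟨V, hV, hxV, -⟩ := Opens.isBasis_iff_nbhd.mp X.isBasis_affineOpens
    (show x ∈ (⊤ : X.Opens) from trivial)
  have hyV : y ∈ V := hy.mem_open V.isOpen hxV
  obtain ⟨q, hq, hqp⟩ := Ideal.exists_minimalPrimes_le
    (bot_le : (⊥ : Ideal Γ(X, V)) ≤ (hV.primeIdealOf ⟨y, hyV⟩).asIdeal)
  have hqprime : q.IsPrime := hq.1.1
  let qq : PrimeSpectrum Γ(X, V) := ⟨q, hqprime⟩
  have hspec : qq ⤳ hV.primeIdealOf ⟨y, hyV⟩ := (PrimeSpectrum.le_iff_specializes _ _).mp hqp
  have h2 : hV.fromSpec qq ⤳ hV.fromSpec (hV.primeIdealOf ⟨y, hyV⟩) :=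
    hspec.map hV.fromSpec.continuous
  rw [hV.fromSpec_primeIdealOf ⟨y, hyV⟩] at h2
  have hηV : hV.fromSpec qq ∈ V := fromSpec_mem hV qq
  have hηw : Curv2.IsWeakAssPoint (Coh.structureModule X) (hV.fromSpec qq) := by
    apply isWeakAssPoint_of_mem_minimalPrimes hV _ hηV 1
    rw [primeIdealOf_fromSpec hV qq hηV]
    have : (LinearMap.ker (LinearMap.toSpanSingleton Γ(X, V) Γ(X, V) 1) : Ideal Γ(X, V)) = ⊥ := by
      ext r
      rw [LinearMap.mem_ker, LinearMap.toSpanSingleton_apply, smul_eq_mul, mul_one, Ideal.mem_bot]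
    rw [this]
    exact hq
  have hηa : Curv2.IsAssPoint (Coh.structureModule X) (hV.fromSpec qq) :=
    (Groth.Agent.Helper4.AssDict.isAssPoint_iff_isWeakAssPoint _ _).mpr hηw
  have h3 : hV.fromSpec qq = x := hne x hxa _ hηa (h2.trans hy)
  rw [h3] at h2
  exact (hy.antisymm h2).eq

theorem s8867 (X : Scheme.{u}) [IsLocallyNoetherian X]
    (hne : ∀ x : ↥X, Curv2.IsAssPoint (Coh.structureModule X) x →
      ∀ y : ↥X, Curv2.IsAssPoint (Coh.structureModule X) y → y ⤳ x → y = x)
    (L : X.Modules) (hL : PicF.IsInvertible L) : Mero.HasRegularMero L :=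
  hasRegularMero_of_generic (weakAssGeneric_of_noEmbedded hne)
    finite_irreducibleComponents_of_isLocallyNoetherian L hL

/-- locally finite irreducible components: quasi-compact opens have finitely many -/
theorem finite_irreducibleComponents_of_locallyFinite
    (hX : ∀ x : ↥X, ∃ W : X.Opens, x ∈ W ∧
      {Z : Set ↥X | Z ∈ irreducibleComponents ↥X ∧ (Z ∩ (W : Set ↥X)).Nonempty}.Finite)
    (U : X.Opens) (hU : IsCompact (U : Set ↥X)) :
    (irreducibleComponents ↥(U : Scheme.{u})).Finite := by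
  choose W hxW hWfin using hX
  obtain ⟨t, ht⟩ := hU.elim_finite_subcover (fun x : X => (W x : Set X))
    (fun x => (W x).isOpen) (fun x _ => Set.mem_iUnion.mpr ⟨x, hxW x⟩)
  have hfin : {Z : Set ↥X | Z ∈ irreducibleComponents ↥X ∧ (Z ∩ (U : Set ↥X)).Nonempty}.Finite := by
    refine (Set.Finite.biUnion t.finite_toSet (fun x _ => hWfin x)).subset ?_
    rintro Z ⟨hZ, z, hzZ, hzU⟩
    obtain ⟨x, hx, hzx⟩ := Set.mem_iUnion₂.mp (ht hzU)
    exact Set.mem_iUnion₂.mpr ⟨x, hx, hZ, z, hzZ, hzx⟩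
  have hf : Topology.IsOpenEmbedding (U.ι : ↥(U : Scheme.{u}) → X) := U.ι.isOpenEmbedding
  apply Groth.Agent.Lead.MeroH.finite_irreducibleComponents_of_isOpenEmbedding hf
  have : Set.range (U.ι : ↥(U : Scheme.{u}) → X) = (U : Set X) := Scheme.Opens.range_ι U
  rw [this]
  exact hfin

theorem s5089 (X : Scheme.{u}) [IsReduced X]
    (hX : ∀ x : ↥X, ∃ W : X.Opens, x ∈ W ∧
      {Z : Set ↥X | Z ∈ irreducibleComponents ↥X ∧ (Z ∩ (W : Set ↥X)).Nonempty}.Finite)
    (L : X.Modules) (hL : PicF.IsInvertible L) :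
    ∃ D : Mero.Divisor X, Nonempty (L ≅ Mero.divMod D) := by
  obtain ⟨s, hs⟩ := s8866 X (finite_irreducibleComponents_of_locallyFinite hX) L hL
  exact exists_iso_divMod hL hs

end Groth.Agent.Lead.MeroQ
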