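import Mathlib
import Groth.Prelude.Def_MeroDiv
import Groth.Prelude.Def_Pic
import Groth.Agent.Lead.MeroN
import Groth.Agent.Lead.MeroI

/-!
# The ideal of denominators of a regular meromorphic section is quasi-coherent
-/

set_option autoImplicit false
set_option linter.style.haveILetI false
set_option linter.unusedSectionVars false

universe u

open CategoryTheory CategoryTheory.Limits AlgebraicGeometry TopologicalSpace Opposite IsLocalRing

namespace Groth.Agent.Lead.MeroR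

open Mero Groth.Agent.Lead.MeroB Groth.Agent.Lead.MeroD Groth.Agent.Lead.MeroE
  Groth.Agent.Lead.MeroM Groth.Agent.Lead.MeroN

variable {X : Scheme.{u}} {L : X.Modules}

/-- an invertible module injects into its module of meromorphic sections, stalkwise -/
theorem mk_injective (hL : PicF.IsInvertible L) (y : X) (μ μ' : L.presheaf.stalk y)
    (h : (LocalizedModule.mk μ 1 : MStalk L y) = LocalizedModule.mk μ' 1) : μ = μ' := by
  obtain ⟨U, hy, e, he⟩ := exists_isLocalBasis L hL y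
  have hε := he.germ y hy
  rw [← sub_eq_zero]
  apply hε.mk_eq_zero (regStalk_le_nonZeroDivisors y)
  have h1 : ∀ ν : L.presheaf.stalk y, (LocalizedModule.mk ν 1 : MStalk L y) =
      LocalizedModule.mkLinearMap (regStalk X y) (L.presheaf.stalk y) ν := fun ν => rfl
  rw [h1, map_sub, ← h1, ← h1, h, sub_self]

variable (s : Γ(merMod L, ⊤))

/-- `f • s = m` on `U` -/
def IsDenom (U : X.Opens) (f : Γ(X, U)) (m : Γ(L, U)) : Prop :=
  ∀ x : U, X.presheaf.germ U x.1 x.2 f • s.1 ⟨x.1, Opens.mem_top x.1⟩ =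
    (LocalizedModule.mk (L.presheaf.germ U x.1 x.2 m) 1 : MStalk L x.1)

theorem mem_denomIdeal_iff (U : X.Opens) (f : Γ(X, U)) :
    f ∈ denomIdeal L s U ↔ ∃ m : Γ(L, U), IsDenom s U f m := Iff.rfl

variable {s}

theorem IsDenom.res {U V : X.Opens} {f : Γ(X, U)} {m : Γ(L, U)} (h : IsDenom s U f m)
    (hVU : V ≤ U) :
    IsDenom s V (X.presheaf.map (homOfLE hVU).op f) (L.presheaf.map (homOfLE hVU).op m) := by
  intro x
  rw [TopCat.Presheaf.germ_res_apply, TopCat.Presheaf.germ_res_apply]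
  exact h ⟨x.1, hVU x.2⟩

theorem IsDenom.smul {U : X.Opens} {f : Γ(X, U)} {m : Γ(L, U)} (h : IsDenom s U f m)
    (c : Γ(X, U)) : IsDenom s U (c * f) (c • m) := by
  intro x
  rw [map_mul, mul_smul, h x, Mero.germ_smul, LocalizedModule.smul'_mk]

/-- local version of the extension lemma -/
theorem exists_local_denom (hL : PicF.IsInvertible L) {U : X.Opens} (g f : Γ(X, U))
    (m'' : Γ(L, X.basicOpen g))
    (hm : IsDenom s (X.basicOpen g) (X.presheaf.map (homOfLE (X.basicOpen_le g)).op f) m'')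
    (x : X) (hx : x ∈ U) :
    ∃ (V : X.Opens) (_ : x ∈ V) (hVU : V ≤ U) (n : ℕ) (m : Γ(L, V)),
      IsDenom s V (X.presheaf.map (homOfLE hVU).op (g ^ n * f)) m := by
  obtain ⟨V₁, hx₁, i₁, m₁, b₁, h₁⟩ := s.2 ⟨x, Opens.mem_top x⟩
  obtain ⟨U₂, hx₂, e₂, he₂⟩ := exists_isLocalBasis L hL x
  obtain ⟨V, hV, hxV, hVle⟩ := Opens.isBasis_iff_nbhd.mp X.isBasis_affineOpens
    (show x ∈ V₁ ⊓ U₂ ⊓ U from ⟨⟨hx₁, hx₂⟩, hx⟩)
  have hVV₁ : V ≤ V₁ := hVle.trans (inf_le_left.trans inf_le_left)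
  have hVU₂ : V ≤ U₂ := hVle.trans (inf_le_left.trans inf_le_right)
  have hVU : V ≤ U := hVle.trans inf_le_right
  obtain ⟨e, he_def⟩ : ∃ e, e = L.presheaf.map (homOfLE hVU₂).op e₂ := ⟨_, rfl⟩
  have he : IsLocalBasis L V e := by rw [he_def]; exact he₂.res hVU₂
  have e0 : L.presheaf.map (homOfLE (le_refl V)).op e = e := by
    change L.presheaf.map (𝟙 _) e = e
    rw [L.presheaf.map_id]; rfl
  obtain ⟨a, ha, -⟩ := he V le_rfl (L.presheaf.map (homOfLE hVV₁).op m₁)
  rw [e0] at ha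
  have hsv : ∀ (z : X) (hz : z ∈ V), s.1 ⟨z, Opens.mem_top z⟩ =
      LocalizedModule.mk (X.presheaf.germ V z hz a • L.presheaf.germ V z hz e)
        (regGerm ⟨z, hVV₁ hz⟩ b₁) := by
    intro z hz
    have := h₁ ⟨z, hVV₁ hz⟩
    refine this.trans (mk_congr ?_ rfl)
    rw [← Mero.germ_smul, ← ha, TopCat.Presheaf.germ_res_apply]
  obtain ⟨gV, hgV_def⟩ : ∃ gV, gV = X.presheaf.map (homOfLE hVU).op g := ⟨_, rfl⟩
  obtain ⟨fV, hfV_def⟩ : ∃ fV, fV = X.presheaf.map (homOfLE hVU).op f := ⟨_, rfl⟩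
  obtain ⟨b, hb_def⟩ : ∃ b, b = X.presheaf.map (homOfLE hVV₁).op b₁.1 := ⟨_, rfl⟩
  have hWV : X.basicOpen gV ≤ V := X.basicOpen_le gV
  have hWg : X.basicOpen gV ≤ X.basicOpen g := by
    rw [hgV_def, Scheme.basicOpen_res]; exact inf_le_right
  obtain ⟨c, hc, -⟩ := he (X.basicOpen gV) hWV (L.presheaf.map (homOfLE hWg).op m'')
  -- the relation on `W`
  have hrel : X.presheaf.map (homOfLE hWV).op (fV * a) =
      X.presheaf.map (homOfLE hWV).op b * c := by
    apply section_ext'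
    intro z hz
    have hzV : z ∈ V := hWV hz
    have h2 := hm ⟨z, hWg hz⟩
    simp only at h2
    rw [TopCat.Presheaf.germ_res_apply, hsv z hzV, LocalizedModule.smul'_mk,
      ← TopCat.Presheaf.germ_res_apply L.presheaf (homOfLE hWg) z hz m'', hc, Mero.germ_smul,
      TopCat.Presheaf.germ_res_apply, LocalizedModule.mk_eq] at h2
    obtain ⟨u, hu⟩ := h2
    simp only [one_smul, Submonoid.smul_def, smul_smul] at hu
    have h3 : ((u : X.presheaf.stalk z) * (X.presheaf.germ U z (hVU hzV) f *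
        X.presheaf.germ V z hzV a - X.presheaf.germ V₁ z (hVV₁ hzV) b₁.1 *
          X.presheaf.germ (X.basicOpen gV) z hz c)) • L.presheaf.germ V z hzV e = 0 := by
      rw [mul_sub, sub_smul, sub_eq_zero]
      exact hu
    have h4 := (he.germ z hzV).2 _ h3
    have h5 := (mul_left_mem_nonZeroDivisors_eq_zero_iff
      (regStalk_le_nonZeroDivisors z u.2)).mp h4
    have e1 : X.presheaf.germ (X.basicOpen gV) z hz (X.presheaf.map (homOfLE hWV).op (fV * a)) =
        X.presheaf.germ U z (hVU hzV) f * X.presheaf.germ V z hzV a := by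
      rw [TopCat.Presheaf.germ_res_apply, map_mul, hfV_def, TopCat.Presheaf.germ_res_apply]
    have e2 : X.presheaf.germ (X.basicOpen gV) z hz (X.presheaf.map (homOfLE hWV).op b * c) =
        X.presheaf.germ V₁ z (hVV₁ hzV) b₁.1 * X.presheaf.germ (X.basicOpen gV) z hz c := by
      rw [map_mul, TopCat.Presheaf.germ_res_apply, hb_def, TopCat.Presheaf.germ_res_apply]
    rw [e1, e2]
    exact sub_eq_zero.mp h5
  haveI := hV.isLocalization_basicOpen gV
  obtain ⟨k, c', hc'⟩ := IsLocalization.Away.surj gV c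
  have hc'' : c * X.presheaf.map (homOfLE hWV).op gV ^ k = X.presheaf.map (homOfLE hWV).op c' := hc'
  have h6 : algebraMap Γ(X, V) Γ(X, X.basicOpen gV) (fV * a * gV ^ k) =
      algebraMap Γ(X, V) Γ(X, X.basicOpen gV) (b * c') := by
    change X.presheaf.map (homOfLE hWV).op (fV * a * gV ^ k) =
      X.presheaf.map (homOfLE hWV).op (b * c')
    rw [map_mul, hrel, map_pow, map_mul, ← hc'']
    ring
  obtain ⟨⟨t, k', rfl⟩, ht⟩ := IsLocalization.exists_of_eq (M := Submonoid.powers gV) h6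
  simp only at ht
  refine ⟨V, hxV, hVU, k + k', (gV ^ k' * c') • e, ?_⟩
  intro z
  have hz := z.2
  rw [hsv z.1 hz, LocalizedModule.smul'_mk, LocalizedModule.mk_eq]
  refine ⟨1, ?_⟩
  have h7 := congrArg (X.presheaf.germ V z.1 hz) ht
  simp only [map_mul, map_pow] at h7
  have h8 : X.presheaf.germ V z.1 hz (X.presheaf.map (homOfLE hVU).op (g ^ (k + k') * f)) =
      X.presheaf.germ V z.1 hz gV ^ (k + k') * X.presheaf.germ V z.1 hz fV := by
    rw [map_mul, map_mul, map_pow, map_pow, ← hgV_def, ← hfV_def]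
  have h9 : X.presheaf.germ V z.1 hz b = X.presheaf.germ V₁ z.1 (hVV₁ hz) b₁.1 := by
    rw [hb_def, TopCat.Presheaf.germ_res_apply]
  rw [h8, Mero.germ_smul, map_mul, map_pow]
  simp only [one_smul, Submonoid.smul_def, smul_smul]
  congr 1
  rw [← h9]
  calc X.presheaf.germ V z.1 hz gV ^ (k + k') * X.presheaf.germ V z.1 hz fV *
        X.presheaf.germ V z.1 hz a
      = X.presheaf.germ V z.1 hz gV ^ k' * (X.presheaf.germ V z.1 hz fV *
        X.presheaf.germ V z.1 hz a * X.presheaf.germ V z.1 hz gV ^ k) := by ring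
    _ = X.presheaf.germ V z.1 hz gV ^ k' * (X.presheaf.germ V z.1 hz b *
        X.presheaf.germ V z.1 hz c') := h7
    _ = _ := by ring

/-- extension lemma: a denominator on `D(g)` gives, after multiplying by a power of `g`, a
denominator on the affine open `U` -/
theorem exists_denom (hL : PicF.IsInvertible L) {U : X.Opens} (hU : IsAffineOpen U)
    (g f : Γ(X, U)) (m'' : Γ(L, X.basicOpen g))
    (hm : IsDenom s (X.basicOpen g) (X.presheaf.map (homOfLE (X.basicOpen_le g)).op f) m'') :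
    ∃ (N : ℕ) (m : Γ(L, U)), IsDenom s U (g ^ N * f) m := by
  classical
  choose V hxV hVU n mV hmV using fun x : U => exists_local_denom hL g f m'' hm x.1 x.2
  obtain ⟨t, ht⟩ := hU.isCompact.elim_finite_subcover (fun x : U => (V x : Set X))
    (fun x => (V x).isOpen) (fun y hy => Set.mem_iUnion.mpr ⟨⟨y, hy⟩, hxV ⟨y, hy⟩⟩)
  have hcov : ∀ y : U, ∃ x : U, x ∈ t ∧ y.1 ∈ V x := by
    intro y
    obtain ⟨x, hx, hyx⟩ := Set.mem_iUnion₂.mp (ht y.2)
    exact ⟨x, hx, hyx⟩
  choose ξ hξt hξV using hcov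
  obtain ⟨N, hN_def⟩ : ∃ N, N = t.sup n := ⟨_, rfl⟩
  have hnN : ∀ x ∈ t, n x ≤ N := fun x hx => by rw [hN_def]; exact Finset.le_sup hx
  -- adjusted local sections
  have hadj : ∀ x ∈ t, IsDenom s (V x) (X.presheaf.map (homOfLE (hVU x)).op (g ^ N * f))
      (X.presheaf.map (homOfLE (hVU x)).op g ^ (N - n x) • mV x) := by
    intro x hx
    have h1 := (hmV x).smul (X.presheaf.map (homOfLE (hVU x)).op g ^ (N - n x))
    have h2 : X.presheaf.map (homOfLE (hVU x)).op g ^ (N - n x) *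
        X.presheaf.map (homOfLE (hVU x)).op (g ^ n x * f) =
        X.presheaf.map (homOfLE (hVU x)).op (g ^ N * f) := by
      rw [map_mul, map_mul, map_pow, map_pow, ← mul_assoc, ← pow_add,
        Nat.sub_add_cancel (hnN x hx)]
    rw [h2] at h1
    exact h1
  let sf : ∀ y : U, Γ(L, V (ξ y)) := fun y =>
    X.presheaf.map (homOfLE (hVU (ξ y))).op g ^ (N - n (ξ y)) • mV (ξ y)
  have hsf : ∀ y : U, IsDenom s (V (ξ y)) (X.presheaf.map (homOfLE (hVU (ξ y))).op (g ^ N * f))
      (sf y) := fun y => hadj (ξ y) (hξt y)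
  have hcompat : TopCat.Presheaf.IsCompatible L.presheaf (fun y : U => V (ξ y)) sf := by
    intro i j
    apply section_ext_germ
    intro z hz
    rw [TopCat.Presheaf.germ_res_apply, TopCat.Presheaf.germ_res_apply]
    apply mk_injective hL
    rw [← hsf i ⟨z, hz.1⟩, ← hsf j ⟨z, hz.2⟩, TopCat.Presheaf.germ_res_apply,
      TopCat.Presheaf.germ_res_apply]
  have hcover : U ≤ iSup (fun y : U => V (ξ y)) := by
    intro y hy
    exact Opens.mem_iSup.mpr ⟨⟨y, hy⟩, hξV ⟨y, hy⟩⟩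
  obtain ⟨m, hmg, -⟩ := TopCat.Sheaf.existsUnique_gluing'
    (⟨L.presheaf, L.isSheaf⟩ : TopCat.Sheaf Ab X) (fun y : U => V (ξ y)) U
    (fun y => homOfLE (hVU (ξ y))) hcover sf hcompat
  refine ⟨N, m, fun z => ?_⟩
  have h1 := hsf z ⟨z.1, hξV z⟩
  simp only at h1
  rw [TopCat.Presheaf.germ_res_apply] at h1
  rw [h1]
  congr 1
  rw [← hmg z]
  exact TopCat.Presheaf.germ_res_apply L.presheaf (homOfLE (hVU (ξ z))) z.1 (hξV z) m

/-- the quasi-coherent ideal sheaf of denominators -/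
noncomputable def denomSheaf (hL : PicF.IsInvertible L) (s : Γ(merMod L, ⊤)) :
    X.IdealSheafData where
  ideal U := denomIdeal L s U.1
  map_ideal_basicOpen U g := by
    apply le_antisymm
    · rw [Ideal.map_le_iff_le_comap]
      rintro f ⟨m, hm⟩
      exact ⟨_, IsDenom.res hm (X.basicOpen_le g)⟩
    · intro f' hf'mem
      have hf'mem' : ∃ m' : Γ(L, X.basicOpen g), IsDenom s (X.basicOpen g) f' m' := hf'mem
      obtain ⟨m', hm'⟩ := hf'mem'
      haveI := U.2.isLocalization_basicOpen g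
      obtain ⟨k, f, hf⟩ := IsLocalization.Away.surj g f'
      have hf' : f' * X.presheaf.map (homOfLE (X.basicOpen_le g)).op g ^ k =
        X.presheaf.map (homOfLE (X.basicOpen_le g)).op f := hf
      have h1 : IsDenom s (X.basicOpen g) (X.presheaf.map (homOfLE (X.basicOpen_le g)).op f)
          (X.presheaf.map (homOfLE (X.basicOpen_le g)).op g ^ k • m') := by
        have := IsDenom.smul hm' (X.presheaf.map (homOfLE (X.basicOpen_le g)).op g ^ k)
        rw [mul_comm, hf'] at this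
        exact this
      obtain ⟨N, m, hm⟩ := exists_denom hL U.2 g f _ h1
      have h2 : g ^ N * f ∈ denomIdeal L s U.1 := ⟨m, hm⟩
      have h3 := Ideal.mem_map_of_mem (X.presheaf.map (homOfLE (X.basicOpen_le g)).op).hom h2
      have h4 : (X.presheaf.map (homOfLE (X.basicOpen_le g)).op).hom (g ^ N * f) =
          X.presheaf.map (homOfLE (X.basicOpen_le g)).op g ^ (N + k) * f' := by
        change X.presheaf.map (homOfLE (X.basicOpen_le g)).op (g ^ N * f) = _
        rw [map_mul, map_pow, ← hf', pow_add]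
        ring
      rw [h4] at h3
      have hu : IsUnit (X.presheaf.map (homOfLE (X.basicOpen_le g)).op g ^ (N + k)) := by
        apply IsUnit.pow
        exact IsLocalization.map_units Γ(X, X.basicOpen g)
          (⟨g, Submonoid.mem_powers g⟩ : Submonoid.powers g)
      exact (Ideal.unit_mul_mem_iff_mem _ hu).mp h3

theorem ideal_denomSheaf (hL : PicF.IsInvertible L) (s : Γ(merMod L, ⊤)) (U : X.affineOpens) :
    (denomSheaf hL s).ideal U = denomIdeal L s U.1 := rfl

theorem interior_support_eq_empty (hL : PicF.IsInvertible L) (hs : IsRegularMero L s) :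
    interior ((denomSheaf hL s).support : Set X) = ∅ := by
  rw [Set.eq_empty_iff_forall_notMem]
  intro x hx
  rw [mem_interior] at hx
  obtain ⟨O, hOsub, hOopen, hxO⟩ := hx
  obtain ⟨V₀, hxV₀, ⟨F⟩⟩ := exists_localForm hL hs x
  obtain ⟨V, hV, hxV, hVle⟩ := Opens.isBasis_iff_nbhd.mp X.isBasis_affineOpens
    (show x ∈ V₀ ⊓ (⟨O, hOopen⟩ : X.Opens) from ⟨hxV₀, hxO⟩)
  have hVV₀ : V ≤ V₀ := hVle.trans inf_le_left
  obtain ⟨b, hb_def⟩ : ∃ b, b = X.presheaf.map (homOfLE hVV₀).op F.b.1 := ⟨_, rfl⟩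
  have hbmem : b ∈ denomIdeal L s V := by
    refine ⟨L.presheaf.map (homOfLE hVV₀).op (F.r.1 • F.e), fun z => ?_⟩
    have h1 := F.hs ⟨z.1, hVV₀ z.2⟩
    have h2 : s.1 ⟨z.1, Opens.mem_top z.1⟩ = LocalizedModule.mk
        (X.presheaf.germ V₀ z.1 (hVV₀ z.2) F.r.1 • L.presheaf.germ V₀ z.1 (hVV₀ z.2) F.e)
        (regGerm ⟨z.1, hVV₀ z.2⟩ F.b) := h1
    rw [h2, LocalizedModule.smul'_mk, TopCat.Presheaf.germ_res_apply, Mero.germ_smul, hb_def,
      TopCat.Presheaf.germ_res_apply]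
    exact LocalizedModule.mk_cancel (regGerm ⟨z.1, hVV₀ z.2⟩ F.b) _
  have hnu : ∀ z : X, z ∈ V → z ∉ X.basicOpen b := by
    intro z hz
    have h1 : z ∈ (denomSheaf hL s).support := hOsub (hVle hz).2
    have h2 := (Scheme.IdealSheafData.mem_support_iff_of_mem (U := ⟨V, hV⟩) hz).mp h1
    rw [Scheme.mem_zeroLocus_iff] at h2
    exact h2 b hbmem
  have hnil : b ∈ nilradical Γ(X, V) := by
    rw [nilradical_eq_sInf, Ideal.mem_sInf]
    intro p hp
    have hp' : p.IsPrime := hp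
    let pp : PrimeSpectrum Γ(X, V) := ⟨p, hp'⟩
    have hzV : hV.fromSpec pp ∈ V := Groth.Agent.Lead.WeakAss.fromSpec_mem hV pp
    have h1 := hnu _ hzV
    rw [Groth.Agent.Lead.MeroI.mem_basicOpen_iff_notMem hV ⟨_, hzV⟩ b, not_not,
      Groth.Agent.Lead.WeakAss.primeIdealOf_fromSpec hV pp hzV] at h1
    exact h1
  have hreg : b ∈ nonZeroDivisors Γ(X, V) := by
    rw [← regSub_eq_nonZeroDivisors hV, hb_def]
    exact regSub_res _ F.b.2
  obtain ⟨n, hn⟩ := hnil
  have h0 : (0 : Γ(X, V)) ∈ nonZeroDivisors Γ(X, V) := by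
    rw [← hn]; exact pow_mem hreg n
  have h1 : (1 : Γ(X, V)) = 0 := by
    have := (mem_nonZeroDivisors_iff_right.mp h0) 1 (mul_zero _)
    exact this
  have h2 := congrArg (X.presheaf.germ V x hxV) h1
  rw [map_one, map_zero] at h2
  exact one_ne_zero h2

theorem s8903 (X : Scheme.{u}) (L : X.Modules) (hL : PicF.IsInvertible L)
    (s : Γ(Mero.merMod L, ⊤)) (hs : Mero.IsRegularMero L s) :
    ∃ I : X.IdealSheafData, (∀ U : X.affineOpens, I.ideal U = Mero.denomIdeal L s U.1) ∧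
      interior (I.support : Set ↥X) = ∅ :=
  ⟨denomSheaf hL s, fun _ => rfl, interior_support_eq_empty hL hs⟩

end Groth.Agent.Lead.MeroR
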