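import Mathlib
import Groth.Prelude.Def_MeroDiv
import Groth.Prelude.Def_Pic
import Groth.Prelude.Def_PicF2
import Groth.Prelude.Def_SecTwist
import Groth.Agent.Lead.MeroW

/-!
# `Z(s₁ ⊗ s₂) = Z(s₁) + Z(s₂)` on an integral scheme
-/

set_option autoImplicit false
set_option linter.style.haveILetI false
set_option linter.unusedSectionVars false

universe u

open CategoryTheory CategoryTheory.Limits AlgebraicGeometry TopologicalSpace Opposite IsLocalRing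
  TensorProduct

namespace Groth.Agent.Lead.MeroX

open Mero Groth.Agent.Lead.MeroB Groth.Agent.Lead.MeroD Groth.Agent.Lead.MeroE
  Groth.Agent.Lead.MeroM Groth.Agent.Lead.MeroN Groth.Agent.Lead.MeroS Groth.Agent.Lead.MeroT
  Groth.Agent.Lead.MeroU Groth.Agent.Lead.MeroV Groth.Agent.Lead.MeroW Groth.Agent.Lead.LocLift
  Groth.Agent.Helper4.TensorLift Groth.Agent.Helper4.TensorAssoc Groth.Agent.Helper4.TensorInv

variable {X : Scheme.{u}}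

/-- restriction of the local description of a divisor of an ideal to a smaller affine open -/
theorem isDivOfIdeal_res {D : Divisor X} {I : X.IdealSheafData} (U₁ : X.affineOpens)
    (f₁ : Γ(X, U₁.1)) (hf₁ : f₁ ∈ regSub X U₁.1) (hI : I.ideal U₁ = Ideal.span {f₁})
    (hD : ∀ y : (U₁ : X.Opens), D.1 y.1 = QuotientGroup.mk
      (IsLocalization.map_units (KStalk X y.1) (regGerm y ⟨f₁, hf₁⟩)).unit)
    (U : X.affineOpens) (hU : U.1 ≤ U₁.1) :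
    ∃ (f : Γ(X, U.1)) (hf : f ∈ regSub X U.1), I.ideal U = Ideal.span {f} ∧
      ∀ y : (U : X.Opens), D.1 y.1 = QuotientGroup.mk
        (IsLocalization.map_units (KStalk X y.1) (regGerm y ⟨f, hf⟩)).unit := by
  refine ⟨X.presheaf.map (homOfLE hU).op f₁, regSub_res (homOfLE hU) hf₁, ?_, ?_⟩
  · have h1 := I.map_ideal (U := U) (V := U₁) hU
    rw [← h1, hI, Ideal.map_span, Set.image_singleton]
    rfl
  · intro y
    rw [hD ⟨y.1, hU y.2⟩]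
    congr 1
    apply Units.ext
    rw [IsUnit.unit_spec, IsUnit.unit_spec]
    change algebraMap _ (KStalk X y.1) (X.presheaf.germ U₁.1 y.1 (hU y.2) f₁) =
      algebraMap _ (KStalk X y.1) (X.presheaf.germ U.1 y.1 y.2 (X.presheaf.map (homOfLE hU).op f₁))
    rw [TopCat.Presheaf.germ_res_apply]

theorem s19459 [IsIntegral X]
    (L₁ L₂ : X.Modules) (hL₁ : PicF.IsInvertible L₁) (hL₂ : PicF.IsInvertible L₂)
    (s₁ : Coh.structureModule X ⟶ L₁) (s₂ : Coh.structureModule X ⟶ L₂) (hs₁ : s₁ ≠ 0) (hs₂ : s₂ ≠ 0)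
    (D₁ D₂ : Mero.Divisor X) (hD₁ : Mero.IsDivOfIdeal D₁ (PicF2.zeroScheme L₁ s₁))
    (hD₂ : Mero.IsDivOfIdeal D₂ (PicF2.zeroScheme L₂ s₂)) :
    Mero.IsDivOfIdeal (D₁ * D₂)
      (PicF2.zeroScheme (CohB1.tensorMod L₁ L₂) (SecTwist.tmulHom s₁ s₂)) := by
  have hL := isInvertible_tensorMod hL₁ hL₂
  have hreg₁ := isRegSec_of_isIntegral hL₁ hs₁
  have hreg₂ := isRegSec_of_isIntegral hL₂ hs₂
  -- local data
  have hloc : ∀ x : X, ∃ (U : X.affineOpens) (_ : x ∈ U.1) (f₁ f₂ : Γ(X, U.1))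
      (hf₁ : f₁ ∈ regSub X U.1) (hf₂ : f₂ ∈ regSub X U.1) (r₁ r₂ : Γ(X, U.1))
      (e : Γ(CohB1.tensorMod L₁ L₂, U.1)),
      IsLocalBasis (CohB1.tensorMod L₁ L₂) U.1 e ∧
      sec (CohB1.tensorMod L₁ L₂) (SecTwist.tmulHom s₁ s₂) U.1 = (r₁ * r₂) • e ∧
      Ideal.span {r₁} = Ideal.span {f₁} ∧ Ideal.span {r₂} = Ideal.span {f₂} ∧
      r₁ ∈ regSub X U.1 ∧ r₂ ∈ regSub X U.1 ∧
      (∀ y : (U : X.Opens), D₁.1 y.1 = QuotientGroup.mk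
        (IsLocalization.map_units (KStalk X y.1) (regGerm y ⟨f₁, hf₁⟩)).unit) ∧
      (∀ y : (U : X.Opens), D₂.1 y.1 = QuotientGroup.mk
        (IsLocalization.map_units (KStalk X y.1) (regGerm y ⟨f₂, hf₂⟩)).unit) := by
    intro x
    obtain ⟨U₁, hxU₁, g₁, hg₁, hI₁, hD₁'⟩ := hD₁ x
    obtain ⟨U₂, hxU₂, g₂, hg₂, hI₂, hD₂'⟩ := hD₂ x
    obtain ⟨V₁, hxV₁, e₁, he₁⟩ := exists_isLocalBasis L₁ hL₁ x
    obtain ⟨V₂, hxV₂, e₂, he₂⟩ := exists_isLocalBasis L₂ hL₂ x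
    obtain ⟨T, hxT, hT⟩ := hL₂ x
    have hxW : x ∈ U₁.1 ⊓ U₂.1 ⊓ V₁ ⊓ V₂ ⊓ T := ⟨⟨⟨⟨hxU₁, hxU₂⟩, hxV₁⟩, hxV₂⟩, hxT⟩
    obtain ⟨U, hUaff, hxU, hUle⟩ : ∃ U : X.Opens, IsAffineOpen U ∧ x ∈ U ∧
        U ≤ U₁.1 ⊓ U₂.1 ⊓ V₁ ⊓ V₂ ⊓ T := by
      obtain ⟨U, h1, h2, h3⟩ := Opens.isBasis_iff_nbhd.mp X.isBasis_affineOpens hxW
      exact ⟨U, h1, h2, h3⟩
    have hUU₁ : U ≤ U₁.1 := fun z hz => (hUle hz).1.1.1.1
    have hUU₂ : U ≤ U₂.1 := fun z hz => (hUle hz).1.1.1.2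
    have hUV₁ : U ≤ V₁ := fun z hz => (hUle hz).1.1.2
    have hUV₂ : U ≤ V₂ := fun z hz => (hUle hz).1.2
    have hUT : U ≤ T := fun z hz => (hUle hz).2
    obtain ⟨ε⟩ : IsTrivAlong L₂ U.ι := IsTrivAlong.of_le hUT hT
    obtain ⟨f₁, hf₁, hIf₁, hDf₁⟩ := isDivOfIdeal_res U₁ g₁ hg₁ hI₁ hD₁' ⟨U, hUaff⟩ hUU₁
    obtain ⟨f₂, hf₂, hIf₂, hDf₂⟩ := isDivOfIdeal_res U₂ g₂ hg₂ hI₂ hD₂' ⟨U, hUaff⟩ hUU₂
    obtain ⟨ε₁, hε₁_def⟩ : ∃ ε₁, ε₁ = L₁.presheaf.map (homOfLE hUV₁).op e₁ := ⟨_, rfl⟩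
    obtain ⟨ε₂, hε₂_def⟩ : ∃ ε₂, ε₂ = L₂.presheaf.map (homOfLE hUV₂).op e₂ := ⟨_, rfl⟩
    have hε₁ : IsLocalBasis L₁ U ε₁ := by rw [hε₁_def]; exact he₁.res hUV₁
    have hε₂ : IsLocalBasis L₂ U ε₂ := by rw [hε₂_def]; exact he₂.res hUV₂
    obtain ⟨r₁, hr₁, hsec₁⟩ := exists_coeff hL₁ hs₁ U ε₁ hε₁
    obtain ⟨r₂, hr₂, hsec₂⟩ := exists_coeff hL₂ hs₂ U ε₂ hε₂
    have hJ₁ := ideal_zeroScheme_eq hL₁ hreg₁ ⟨U, hUaff⟩ ε₁ hε₁ r₁ hsec₁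
    have hJ₂ := ideal_zeroScheme_eq hL₂ hreg₂ ⟨U, hUaff⟩ ε₂ hε₂ r₂ hsec₂
    refine ⟨⟨U, hUaff⟩, hxU, f₁, f₂, hf₁, hf₂, r₁, r₂, SecTwist.tmul L₁ L₂ U ε₁ ε₂,
      isLocalBasis_tmul L₁ L₂ U ε ε₁ ε₂ hε₁ hε₂, ?_, hJ₁.symm.trans hIf₁, hJ₂.symm.trans hIf₂,
      hr₁, hr₂, hDf₁, hDf₂⟩
    have h1 : sec (CohB1.tensorMod L₁ L₂) (SecTwist.tmulHom s₁ s₂) U =
        SecTwist.tmul L₁ L₂ U (sec L₁ s₁ U) (sec L₂ s₂ U) := SecTwist.val_tmulHom s₁ s₂ U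
    rw [h1, hsec₁, hsec₂, tmul_smul_left, tmul_smul_right, smul_smul]
    rfl
  -- the product section is nonzero
  have hs : SecTwist.tmulHom s₁ s₂ ≠ 0 := by
    intro h0
    obtain ⟨x⟩ : Nonempty X := inferInstance
    obtain ⟨U, hxU, f₁, f₂, hf₁, hf₂, r₁, r₂, e, he, hsec, -, -, hr₁, hr₂, -, -⟩ := hloc x
    have h1 : sec (CohB1.tensorMod L₁ L₂) (SecTwist.tmulHom s₁ s₂) U.1 = 0 := by
      rw [← sec_res _ _ (homOfLE (le_top : U.1 ≤ ⊤)), sec_top_eq, h0]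
      change (CohB1.tensorMod L₁ L₂).presheaf.map _ 0 = 0
      rw [map_zero]
    rw [hsec] at h1
    obtain ⟨r₀, -, hu⟩ := he U.1 le_rfl 0
    have e0 : (CohB1.tensorMod L₁ L₂).presheaf.map (homOfLE (le_refl U.1)).op e = e := by
      change (CohB1.tensorMod L₁ L₂).presheaf.map (𝟙 _) e = e
      rw [(CohB1.tensorMod L₁ L₂).presheaf.map_id]; rfl
    have hA : (0 : Γ(CohB1.tensorMod L₁ L₂, U.1)) = (r₁ * r₂) •
        (CohB1.tensorMod L₁ L₂).presheaf.map (homOfLE (le_refl U.1)).op e := by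
      rw [e0]; exact h1.symm
    have hB : (0 : Γ(CohB1.tensorMod L₁ L₂, U.1)) = (0 : Γ(X, U.1)) •
        (CohB1.tensorMod L₁ L₂).presheaf.map (homOfLE (le_refl U.1)).op e :=
      (zero_smul _ _).symm
    have h2 : r₁ * r₂ = 0 := (hu _ hA).trans (hu 0 hB).symm
    have h3 := mul_mem hr₁ hr₂ ⟨x, hxU⟩
    rw [h2] at h3
    change X.presheaf.germ U.1 x hxU 0 ∈ _ at h3
    rw [map_zero] at h3
    exact zero_notMem_nonZeroDivisors h3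
  have hreg := isRegSec_of_isIntegral hL hs
  intro x
  obtain ⟨U, hxU, f₁, f₂, hf₁, hf₂, r₁, r₂, e, he, hsec, hI₁, hI₂, hr₁, hr₂, hDf₁, hDf₂⟩ := hloc x
  refine ⟨U, hxU, f₁ * f₂, mul_mem hf₁ hf₂, ?_, ?_⟩
  · rw [ideal_zeroScheme_eq hL hreg U e he (r₁ * r₂) hsec,
      ← Ideal.span_singleton_mul_span_singleton, hI₁, hI₂, Ideal.span_singleton_mul_span_singleton]
  · intro y
    change D₁.1 y.1 * D₂.1 y.1 = _
    rw [hDf₁ y, hDf₂ y, ← QuotientGroup.mk_mul]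
    congr 1
    apply Units.ext
    rw [Units.val_mul, IsUnit.unit_spec, IsUnit.unit_spec, IsUnit.unit_spec, ← map_mul]
    congr 1
    exact (map_mul (X.presheaf.germ U.1 y.1 y.2).hom f₁ f₂).symm

end Groth.Agent.Lead.MeroX
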