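import Mathlib
import Groth.Prelude.Def_MeroDiv
import Groth.Prelude.Def_CurvBase
import Groth.Agent.S8863
import Groth.Agent.Helper4.AssMono
import Groth.Agent.Lead.MeroL
import Groth.Agent.Lead.MeroM

/-!
# Torsion-free modules: `F ⟶ K_X(F)` is a monomorphism iff `Ass(F) ⊆ Ass(O_X)`
-/

set_option autoImplicit false
set_option linter.style.haveILetI false
set_option linter.unusedSectionVars false

universe u

open CategoryTheory CategoryTheory.Limits AlgebraicGeometry TopologicalSpace Opposite IsLocalRing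

namespace Groth.Agent.Lead.MeroZ

open Mero Groth.Agent.Lead.MeroM

variable {X : Scheme.{u}} (F : X.Modules)

/-- stalkwise torsion-freeness -/
def TorsFree (F : X.Modules) : Prop :=
  ∀ (x : X) (s : regStalk X x) (μ : F.presheaf.stalk x),
    (s : X.presheaf.stalk x) • μ = 0 → μ = 0

theorem toMer_app_val (U : X.Opens) (m : Γ(F, U)) (z : U) :
    (show Γ(merMod F, U) from (toMer F).app U m).1 z =
      LocalizedModule.mk (F.presheaf.germ U z.1 z.2 m) 1 := rfl

variable {F}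

theorem mono_of_torsFree (h : TorsFree F) : Mono (toMer F) := by
  apply Groth.Agent.Helper4.AssMono.mono_of_app_injective
  intro U
  rw [injective_iff_map_eq_zero]
  intro m hm
  apply section_ext_germ
  intro z hz
  rw [map_zero]
  have h1 := congrArg (fun t : Γ(merMod F, U) => t.1 ⟨z, hz⟩) hm
  have h2 : (LocalizedModule.mk (F.presheaf.germ U z hz m) 1 : MStalk F z) = 0 := h1
  rw [← LocalizedModule.zero_mk (1 : regStalk X z), LocalizedModule.mk_eq] at h2
  obtain ⟨c, hc⟩ := h2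
  rw [one_smul, one_smul, smul_zero] at hc
  exact h z c _ hc

theorem torsFree_of_mono (h : Mono (toMer F)) : TorsFree F := by
  intro x s μ hsμ
  obtain ⟨g, V, hxV, f, hf, hfg⟩ := s
  obtain ⟨V', hxV', m, rfl⟩ := TopCat.Presheaf.exists_germ_eq F.presheaf μ
  have hxW : x ∈ V ⊓ V' := ⟨hxV, hxV'⟩
  obtain ⟨f₁, hf₁_def⟩ : ∃ f₁, f₁ = X.presheaf.map (homOfLE (inf_le_left : V ⊓ V' ≤ V)).op f :=
    ⟨_, rfl⟩
  obtain ⟨m₁, hm₁_def⟩ : ∃ m₁, m₁ = F.presheaf.map (homOfLE (inf_le_right : V ⊓ V' ≤ V')).op m :=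
    ⟨_, rfl⟩
  have hf₁ : f₁ ∈ regSub X (V ⊓ V') := by rw [hf₁_def]; exact regSub_res _ hf
  have h1 : F.presheaf.germ (V ⊓ V') x hxW (f₁ • m₁) = F.presheaf.germ (V ⊓ V') x hxW 0 := by
    rw [Mero.germ_smul, hf₁_def, hm₁_def, TopCat.Presheaf.germ_res_apply,
      TopCat.Presheaf.germ_res_apply, map_zero, hfg]
    exact hsμ
  obtain ⟨W, hxW', i₁, i₂, h2⟩ := TopCat.Presheaf.germ_eq F.presheaf x hxW hxW _ _ h1
  rw [map_zero] at h2
  obtain ⟨f₂, hf₂_def⟩ : ∃ f₂, f₂ = X.presheaf.map i₁.op f₁ := ⟨_, rfl⟩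
  obtain ⟨m₂, hm₂_def⟩ : ∃ m₂, m₂ = F.presheaf.map i₁.op m₁ := ⟨_, rfl⟩
  have hf₂ : f₂ ∈ regSub X W := by rw [hf₂_def]; exact regSub_res _ hf₁
  have h3 : f₂ • m₂ = 0 := by
    rw [hf₂_def, hm₂_def, ← Scheme.Modules.map_smul]
    exact h2
  have h4 : (toMer F).app W m₂ = 0 := by
    apply Subtype.ext
    funext z
    change (LocalizedModule.mk (F.presheaf.germ W z.1 z.2 m₂) 1 : MStalk F z.1) = 0
    rw [← LocalizedModule.mk_cancel (regGerm z ⟨f₂, hf₂⟩)]
    have h5 : (regGerm z ⟨f₂, hf₂⟩ : X.presheaf.stalk z.1) • F.presheaf.germ W z.1 z.2 m₂ = 0 := by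
      change X.presheaf.germ W z.1 z.2 f₂ • F.presheaf.germ W z.1 z.2 m₂ = 0
      rw [← Mero.germ_smul, h3, map_zero]
    have h6 : (regGerm z ⟨f₂, hf₂⟩) • F.presheaf.germ W z.1 z.2 m₂ = 0 := h5
    rw [h6, LocalizedModule.zero_mk]
  have h7 : m₂ = 0 := by
    apply Groth.Agent.Lead.MeroL.app_injective_of_mono (toMer F) W
    rw [h4, map_zero]
  rw [← TopCat.Presheaf.germ_res_apply F.presheaf (homOfLE (inf_le_right : V ⊓ V' ≤ V')) x hxW m,
    ← hm₁_def, ← TopCat.Presheaf.germ_res_apply F.presheaf i₁ x hxW' m₁, ← hm₂_def, h7, map_zero]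

/-- a maximal ideal of a Noetherian ring which is not associated contains a nonzerodivisor -/
theorem exists_nonZeroDivisor_mem {A : Type*} [CommRing A] [IsNoetherianRing A] (I : Ideal A)
    [hI : I.IsMaximal] (h : ¬ IsAssociatedPrime I A) : ∃ a ∈ I, a ∈ nonZeroDivisors A := by
  by_contra hcon
  push Not at hcon
  apply h
  have fin := associatedPrimes.finite A A
  have hsub : (I : Set A) ⊆ ⋃ p ∈ associatedPrimes A A, (p : Set A) := by
    rw [biUnion_associatedPrimes_eq_compl_nonZeroDivisors]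
    intro a ha hna
    exact hcon a ha hna
  obtain ⟨P, hP, hIP⟩ := (I.subset_union_prime_finite fin (f := id) 0 0
    fun _ h _ _ ↦ h.isPrime).1 hsub
  have hPI : I = P := hI.eq_of_le hP.isPrime.ne_top hIP
  rw [hPI]
  exact hP

theorem s5084 [IsLocallyNoetherian X] (hF : Coh.IsQCoh F) :
    Mono (Mero.toMer F) ↔
      ∀ x : ↥X, Curv2.IsAssPoint F x →
        IsAssociatedPrime (IsLocalRing.maximalIdeal ↑(X.presheaf.stalk x))
          ↑(X.presheaf.stalk x) := by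
  haveI : F.IsQuasicoherent := hF
  constructor
  · intro hmono x hx
    have htf := torsFree_of_mono hmono
    by_contra hna
    obtain ⟨a, ham, hareg⟩ := exists_nonZeroDivisor_mem (maximalIdeal (X.presheaf.stalk x)) hna
    obtain ⟨hprime, μ, hμ⟩ := hx
    rw [hμ, Ideal.mem_radical_iff] at ham
    obtain ⟨n, hn⟩ := ham
    rw [Submodule.mem_colon_singleton, Submodule.mem_bot] at hn
    have hreg : a ^ n ∈ regStalk X x := by
      rw [Groth.Agent.S8863.result X x]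
      exact pow_mem hareg n
    have hμ0 : μ = 0 := htf x ⟨a ^ n, hreg⟩ μ hn
    apply hprime.ne_top
    rw [hμ, hμ0, Ideal.radical_eq_top]
    rw [eq_top_iff]
    intro r _
    rw [Submodule.mem_colon_singleton, smul_zero]
    exact Submodule.zero_mem _
  · intro h
    apply mono_of_torsFree
    intro x s μ hsμ
    by_contra hμ0
    obtain ⟨g, V, hxV, f, hf, hfg⟩ := s
    obtain ⟨V', hxV', m, rfl⟩ := TopCat.Presheaf.exists_germ_eq F.presheaf μ
    have hxW : x ∈ V ⊓ V' := ⟨hxV, hxV'⟩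
    obtain ⟨f₁, hf₁_def⟩ : ∃ f₁, f₁ = X.presheaf.map (homOfLE (inf_le_left : V ⊓ V' ≤ V)).op f :=
      ⟨_, rfl⟩
    obtain ⟨m₁, hm₁_def⟩ : ∃ m₁, m₁ = F.presheaf.map (homOfLE (inf_le_right : V ⊓ V' ≤ V')).op m :=
      ⟨_, rfl⟩
    have hf₁ : f₁ ∈ regSub X (V ⊓ V') := by rw [hf₁_def]; exact regSub_res _ hf
    have h1 : F.presheaf.germ (V ⊓ V') x hxW (f₁ • m₁) = F.presheaf.germ (V ⊓ V') x hxW 0 := by
      rw [Mero.germ_smul, hf₁_def, hm₁_def, TopCat.Presheaf.germ_res_apply,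
        TopCat.Presheaf.germ_res_apply, map_zero, hfg]
      exact hsμ
    obtain ⟨W₀, hxW₀, i₁, i₂, h2⟩ := TopCat.Presheaf.germ_eq F.presheaf x hxW hxW _ _ h1
    rw [map_zero] at h2
    obtain ⟨W, hWaff, hxW', hWW₀⟩ : ∃ W : X.Opens, IsAffineOpen W ∧ x ∈ W ∧ W ≤ W₀ := by
      obtain ⟨W, h1, h2, h3⟩ := Opens.isBasis_iff_nbhd.mp X.isBasis_affineOpens hxW₀
      exact ⟨W, h1, h2, h3⟩
    have hWle : W ≤ V ⊓ V' := hWW₀.trans i₁.le
    obtain ⟨f₂, hf₂_def⟩ : ∃ f₂, f₂ = X.presheaf.map (homOfLE hWle).op f₁ := ⟨_, rfl⟩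
    obtain ⟨m₂, hm₂_def⟩ : ∃ m₂, m₂ = F.presheaf.map (homOfLE hWle).op m₁ := ⟨_, rfl⟩
    have hf₂ : f₂ ∈ regSub X W := by rw [hf₂_def]; exact regSub_res _ hf₁
    have h3 : f₂ • m₂ = 0 := by
      rw [hf₂_def, hm₂_def, ← Scheme.Modules.map_smul]
      have h4 : F.presheaf.map (homOfLE hWle).op (f₁ • m₁) =
          F.presheaf.map (homOfLE hWW₀).op (F.presheaf.map i₁.op (f₁ • m₁)) := by
        rw [← ConcreteCategory.comp_apply, ← Functor.map_comp]
        rfl
      rw [h4, h2, map_zero]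
    have hm₂ : m₂ ≠ 0 := by
      intro h0
      apply hμ0
      rw [← TopCat.Presheaf.germ_res_apply F.presheaf (homOfLE (inf_le_right : V ⊓ V' ≤ V')) x hxW m,
        ← hm₁_def, ← TopCat.Presheaf.germ_res_apply F.presheaf (homOfLE hWle) x hxW' m₁,
        ← hm₂_def, h0, map_zero]
    obtain ⟨y, hyW, hyass, hymin⟩ :=
      Groth.Agent.Helper4.AssDict.exists_isAssPoint_of_ne_zero hWaff F m₂ hm₂
    have hfp : f₂ ∈ (hWaff.primeIdealOf ⟨y, hyW⟩).asIdeal := by
      apply hymin.1.2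
      rw [Submodule.mem_colon_singleton, Submodule.mem_bot]
      exact h3
    have hnu : ¬ IsUnit (X.presheaf.germ W y hyW f₂) := by
      rw [← X.mem_basicOpen f₂ y hyW,
        Groth.Agent.Helper4.StalkDict.mem_basicOpen_iff_notMem_primeIdealOf hWaff y hyW f₂]
      exact fun h => h hfp
    have hmem : X.presheaf.germ W y hyW f₂ ∈ maximalIdeal (X.presheaf.stalk y) :=
      (IsLocalRing.mem_maximalIdeal _).mpr hnu
    obtain ⟨hprime, c, hc⟩ := h y hyass
    rw [hc, Ideal.mem_radical_iff] at hmem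
    obtain ⟨n, hn⟩ := hmem
    rw [Submodule.mem_colon_singleton, Submodule.mem_bot, smul_eq_mul] at hn
    have hreg : X.presheaf.germ W y hyW f₂ ^ n ∈ nonZeroDivisors (X.presheaf.stalk y) :=
      pow_mem (hf₂ ⟨y, hyW⟩) n
    have hc0 : c = 0 := (mul_left_mem_nonZeroDivisors_eq_zero_iff hreg).mp hn
    apply hprime.ne_top
    rw [hc, hc0, Ideal.radical_eq_top]
    rw [eq_top_iff]
    intro r _
    rw [Submodule.mem_colon_singleton, smul_zero]
    exact Submodule.zero_mem _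

end Groth.Agent.Lead.MeroZ
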