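import Mathlib
import Groth.Agent.Helper8.TildeBC
open CategoryTheory Limits AlgebraicGeometry

namespace Groth.Agent.Lead.ModDict
universe u
open Scheme.Modules Groth.Agent.Helper8.TildeBC

/-- a natural isomorphism gives isomorphisms of arrows -/
def arrowIsoOfNatIso {C D : Type*} [Category C] [Category D] {A B : C ⥤ D} (Θ : A ≅ B)
    {F G : C} (δ : F ⟶ G) : Arrow.mk (A.map δ) ≅ Arrow.mk (B.map δ) :=
  Arrow.isoMk (Θ.app F) (Θ.app G) (by simp)

section square
variable {X Y : Scheme.{u}} (f : X ⟶ Y) {U : Y.Opens} (hU : IsAffineOpen U) {V : X.Opens}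
  (hV : IsAffineOpen V) (e : V ≤ f ⁻¹ᵁ U)

/-- restriction to an affine open, as modules on the spectrum -/
noncomputable abbrev resF : Y.Modules ⥤ (Spec Γ(Y, U)).Modules := restrictFunctor hU.fromSpec

/-- sections over an affine open as a functor to modules -/
noncomputable abbrev secF : Y.Modules ⥤ ModuleCat Γ(Y, U) :=
  resF hU ⋙ moduleSpecΓFunctor (R := Γ(Y, U))

/-- base change of the two restriction-to-affine functors -/
noncomputable def Θ : pullback f ⋙ resF hV ≅
    resF hU ⋙ pullback (Spec.map (f.appLE U V e)) :=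
  Functor.isoWhiskerLeft (pullback f) (restrictFunctorIsoPullback hV.fromSpec) ≪≫
    pullbackComp hV.fromSpec f ≪≫
    pullbackCongr (IsAffineOpen.SpecMap_appLE_fromSpec f hU hV e).symm ≪≫
    (pullbackComp (Spec.map (f.appLE U V e)) hU.fromSpec).symm ≪≫
    Functor.isoWhiskerRight (restrictFunctorIsoPullback hU.fromSpec).symm
      (pullback (Spec.map (f.appLE U V e)))

end square

end Groth.Agent.Lead.ModDict
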