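import Mathlib
open CategoryTheory Limits

namespace Groth.Agent.Lead.ModDict
universe u

section abstract
variable {C E : Type*} [Category C] [Abelian C] [Category E] [Abelian E] (P : C ⥤ E)
  [P.Additive] [PreservesFiniteColimits P]

/-- a right exact functor which preserves the monomorphisms `kernel.ι g` and `image.ι g`
preserves the kernel of `g` -/
noncomputable def isLimitMapKernelFork {G H : C} (g : G ⟶ H)
    (h1 : Mono (P.map (kernel.ι g))) (h2 : Mono (P.map (Abelian.image.ι g))) :
    IsLimit (KernelFork.ofι (P.map (kernel.ι g))
      (by rw [← P.map_comp, kernel.condition, P.map_zero]) : KernelFork (P.map g)) := by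
  have hz : kernel.ι g ≫ Abelian.factorThruImage g = 0 := by
    rw [← cancel_mono (Abelian.image.ι g), Category.assoc, Abelian.image.fac, kernel.condition,
      zero_comp]
  let S : ShortComplex C := ShortComplex.mk (kernel.ι g) (Abelian.factorThruImage g) hz
  have hS : S.Exact := S.exact_of_f_is_kernel
    (isKernelOfComp (Abelian.image.ι g) g (kernelIsKernel g) hz (Abelian.image.fac g))
  have hS' : (S.map P).Exact :=
    hS.map_of_epi_of_preservesCokernel P (inferInstanceAs (Epi (Abelian.factorThruImage g)))
      inferInstance
  haveI : Mono (S.map P).f := h1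
  haveI : Mono (P.map (Abelian.image.ι g)) := h2
  have hk := hS'.fIsKernel
  have e : P.map g = P.map (Abelian.factorThruImage g) ≫ P.map (Abelian.image.ι g) := by
    rw [← P.map_comp, Abelian.image.fac g]
  exact isKernelCompMono hk (P.map (Abelian.image.ι g)) (hg := h2) e

/-- exactness of the image of a pair of composable morphisms under a right exact functor
preserving the kernel of the second morphism -/
theorem exact_map_iff {F G H : C} (f : F ⟶ G) (g : G ⟶ H)
    (hK : IsLimit (KernelFork.ofι (P.map (kernel.ι g))
      (by rw [← P.map_comp, kernel.condition, P.map_zero]) : KernelFork (P.map g))) :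
    (∃ w : P.map f ≫ P.map g = 0, (ShortComplex.mk _ _ w).Exact) ↔
      P.map (f ≫ g) = 0 ∧ P.map (kernel.ι g ≫ cokernel.π f) = 0 := by
  have hC : IsColimit ((CokernelCofork.ofπ (cokernel.π f) (cokernel.condition f)).map P) :=
    CokernelCofork.mapIsColimit _ (cokernelIsCokernel f) P
  constructor
  · rintro ⟨w, hw⟩
    refine ⟨by rw [P.map_comp, w], ?_⟩
    have := (ShortComplex.exact_iff_of_forks (S := ShortComplex.mk _ _ w) hK hC).mp hw
    rw [P.map_comp]
    exact this
  · rintro ⟨h1, h2⟩
    have w : P.map f ≫ P.map g = 0 := by rw [← P.map_comp, h1]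
    refine ⟨w, (ShortComplex.exact_iff_of_forks (S := ShortComplex.mk _ _ w) hK hC).mpr ?_⟩
    rw [P.map_comp] at h2
    exact h2

end abstract

end Groth.Agent.Lead.ModDict
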