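import Groth.Agent.Lead.ModDict14
import Groth.Agent.Lead.ModDict15
open CategoryTheory Limits AlgebraicGeometry TensorProduct

namespace Groth.Agent.Lead.ModDict
universe u
open Scheme.Modules

section flat
variable {X Y : Scheme.{u}} (f : X ⟶ Y) [Flat f] [IsAffineHom f]
  {F G H : Y.Modules} [F.IsQuasicoherent] [G.IsQuasicoherent] [H.IsQuasicoherent]

theorem mono_pullback_of_mono_of_flat (δ : F ⟶ G) [Mono δ] :
    Mono ((Scheme.Modules.pullback f).map δ) := by
  rw [mono_pullback_iff_of_flat]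
  have : 𝟙 (kernel δ) = 0 := (isZero_kernel_of_mono δ).eq_of_src _ _
  rw [this, Functor.map_zero]

/-- pullback along a flat affine morphism preserves kernels of morphisms of quasi-coherent
modules -/
noncomputable def isLimitPullbackKernelFork (g : G ⟶ H) :
    IsLimit (KernelFork.ofι ((Scheme.Modules.pullback f).map (kernel.ι g))
      (by rw [← Functor.map_comp, kernel.condition, Functor.map_zero]) :
        KernelFork ((Scheme.Modules.pullback f).map g)) := by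
  haveI : (kernel g).IsQuasicoherent := Groth.Agent.Helper4.QcohLimits.isQuasicoherent_kernel g
  haveI : (Abelian.image g).IsQuasicoherent :=
    Groth.Agent.Helper4.QcohLimits.isQuasicoherent_image g
  exact isLimitMapKernelFork (Scheme.Modules.pullback f) g
    (mono_pullback_of_mono_of_flat f (kernel.ι g))
    (mono_pullback_of_mono_of_flat f (Abelian.image.ι g))

theorem exact_pullback_iff_of_flat (f₀ : F ⟶ G) (g₀ : G ⟶ H) :
    (∃ w : (Scheme.Modules.pullback f).map f₀ ≫ (Scheme.Modules.pullback f).map g₀ = 0,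
        (ShortComplex.mk _ _ w).Exact) ↔
      (Scheme.Modules.pullback f).map (Limits.image.ι f₀ ≫ g₀) = 0 ∧
        (Scheme.Modules.pullback f).map (kernel.ι g₀ ≫ cokernel.π f₀) = 0 := by
  rw [exact_map_iff (Scheme.Modules.pullback f) f₀ g₀ (isLimitPullbackKernelFork f g₀)]
  have e : (Scheme.Modules.pullback f).map (f₀ ≫ g₀) =
      (Scheme.Modules.pullback f).map (factorThruImage f₀) ≫
        (Scheme.Modules.pullback f).map (Limits.image.ι f₀ ≫ g₀) := by
    rw [← Functor.map_comp, ← Category.assoc, image.fac]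
  haveI : Epi ((Scheme.Modules.pullback f).map (factorThruImage f₀)) := inferInstance
  rw [e]
  constructor
  · rintro ⟨h1, h2⟩
    exact ⟨(cancel_epi _).mp (h1.trans comp_zero.symm), h2⟩
  · rintro ⟨h1, h2⟩
    exact ⟨by rw [h1, comp_zero], h2⟩

end flat

section limit
variable {I : Type u} [SmallCategory I] [IsCofiltered I] (D : I ⥤ Scheme.{u}) (c : Cone D)
  (hc : IsLimit c) [∀ {i j : I} (f : i ⟶ j), IsAffineHom (D.map f)] (i₀ : I)

omit [IsCofiltered I] [∀ {i j : I} (f : i ⟶ j), IsAffineHom (D.map f)] in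
theorem map_eq_zero_of_map_eq_zero {F G : (D.obj i₀).Modules} (δ : F ⟶ G) {j j' : I}
    (φ : j ⟶ i₀) (ψ : j' ⟶ j) (h : (Scheme.Modules.pullback (D.map φ)).map δ = 0) :
    (Scheme.Modules.pullback (D.map (ψ ≫ φ))).map δ = 0 := by
  have Φ : Scheme.Modules.pullback (D.map φ) ⋙ Scheme.Modules.pullback (D.map ψ) ≅
      Scheme.Modules.pullback (D.map (ψ ≫ φ)) :=
    pullbackComp (D.map ψ) (D.map φ) ≪≫ pullbackCongr (D.map_comp ψ φ).symm
  have := map_eq_of_natIso Φ (x := δ) (y := 0) (by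
    change (Scheme.Modules.pullback (D.map ψ)).map ((Scheme.Modules.pullback (D.map φ)).map δ)
      = (Scheme.Modules.pullback (D.map ψ)).map ((Scheme.Modules.pullback (D.map φ)).map 0)
    rw [h, Functor.map_zero, Functor.map_zero, Functor.map_zero])
  rw [this, Functor.map_zero]

include hc in
theorem eq_zero_and_iff_eventually [CompactSpace (D.obj i₀)]
    {F₁ G₁ F₂ G₂ : (D.obj i₀).Modules} [F₁.IsQuasicoherent] [G₁.IsQuasicoherent]
    [F₂.IsQuasicoherent] [G₂.IsQuasicoherent]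
    (hF₁ : SheafOfModules.IsFiniteType (R := (D.obj i₀).ringCatSheaf) F₁)
    (hF₂ : SheafOfModules.IsFiniteType (R := (D.obj i₀).ringCatSheaf) F₂)
    (δ₁ : F₁ ⟶ G₁) (δ₂ : F₂ ⟶ G₂) :
    ((Scheme.Modules.pullback (c.π.app i₀)).map δ₁ = 0 ∧
      (Scheme.Modules.pullback (c.π.app i₀)).map δ₂ = 0) ↔
      ∃ (j : I) (φ : j ⟶ i₀), (Scheme.Modules.pullback (D.map φ)).map δ₁ = 0 ∧
        (Scheme.Modules.pullback (D.map φ)).map δ₂ = 0 := by
  have e1 := map_eq_iff_eventually D c hc i₀ hF₁ δ₁ 0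
  have e2 := map_eq_iff_eventually D c hc i₀ hF₂ δ₂ 0
  simp only [Functor.map_zero] at e1 e2
  rw [e1, e2]
  constructor
  · rintro ⟨⟨j₁, φ₁, h₁⟩, ⟨j₂, φ₂, h₂⟩⟩
    obtain ⟨j, ψ₁, ψ₂, hψ⟩ := IsCofiltered.cospan φ₁ φ₂
    refine ⟨j, ψ₁ ≫ φ₁, map_eq_zero_of_map_eq_zero D i₀ δ₁ φ₁ ψ₁ h₁, ?_⟩
    rw [hψ]
    exact map_eq_zero_of_map_eq_zero D i₀ δ₂ φ₂ ψ₂ h₂
  · rintro ⟨j, φ, h₁, h₂⟩
    exact ⟨⟨j, φ, h₁⟩, ⟨j, φ, h₂⟩⟩

variable (hfl : ∀ {i j : I} (φ : i ⟶ j), Flat (D.map φ))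
  {F G H : (D.obj i₀).Modules} [F.IsQuasicoherent] [G.IsQuasicoherent] [H.IsQuasicoherent]
  (f₀ : F ⟶ G) (g₀ : G ⟶ H)
  (hIm : SheafOfModules.IsFiniteType (R := (D.obj i₀).ringCatSheaf) (Limits.image f₀))
  (hKer : SheafOfModules.IsFiniteType (R := (D.obj i₀).ringCatSheaf) (kernel g₀))

include hc hfl hIm hKer in
theorem exact_iff_eventually_of_flat [CompactSpace (D.obj i₀)] :
    (∃ w : (Scheme.Modules.pullback (c.π.app i₀)).map f₀ ≫
        (Scheme.Modules.pullback (c.π.app i₀)).map g₀ = 0, (ShortComplex.mk _ _ w).Exact) ↔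
      ∃ (j : I) (φ : j ⟶ i₀) (w : (Scheme.Modules.pullback (D.map φ)).map f₀ ≫
        (Scheme.Modules.pullback (D.map φ)).map g₀ = 0), (ShortComplex.mk _ _ w).Exact := by
  haveI : (kernel g₀).IsQuasicoherent := Groth.Agent.Helper4.QcohLimits.isQuasicoherent_kernel g₀
  haveI : (cokernel f₀).IsQuasicoherent :=
    Groth.Agent.Helper4.QcohLimits.isQuasicoherent_cokernel f₀
  haveI : (Abelian.image f₀).IsQuasicoherent :=
    Groth.Agent.Helper4.QcohLimits.isQuasicoherent_image f₀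
  haveI : (Limits.image f₀).IsQuasicoherent :=
    Groth.Agent.Helper4.QcohLimits.isQuasicoherent_of_iso (Abelian.imageIsoImage f₀)
  haveI := isAffineHom_π_app D c hc i₀
  haveI : Flat (c.π.app i₀) := Groth.Agent.Lead.LimFlat.flat_π D c hc i₀ (fun j φ => hfl φ)
  rw [exact_pullback_iff_of_flat, eq_zero_and_iff_eventually D c hc i₀ (F₁ := Limits.image f₀)
    (G₁ := H) (F₂ := kernel g₀) (G₂ := cokernel f₀) hIm hKer]
  constructor
  · rintro ⟨j, φ, h⟩
    haveI := hfl φ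
    obtain ⟨w, hw⟩ := (exact_pullback_iff_of_flat (D.map φ) f₀ g₀).mpr h
    exact ⟨j, φ, w, hw⟩
  · rintro ⟨j, φ, w, hw⟩
    haveI := hfl φ
    exact ⟨j, φ, (exact_pullback_iff_of_flat (D.map φ) f₀ g₀).mp ⟨w, hw⟩⟩

end limit

end Groth.Agent.Lead.ModDict
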