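import Mathlib
import Groth.Prelude.Def_Formal2
import Groth.Agent.Helper1.FormA

/-!
# `0 → F/fF → F/f^{n+1}F → F/f^nF → 0` when `f` is a nonzerodivisor on `F`
-/

set_option autoImplicit false
set_option linter.style.haveILetI false

namespace Groth.Agent.Lead.ModPowSE

open CategoryTheory CategoryTheory.Limits AlgebraicGeometry Opposite
open Groth.Agent.Helper1.Form

universe u v u₁

section abstract

variable {C : Type u₁} [Category.{v} C] [Abelian C]

/-- Abstract diagram chase: `f g : M ⟶ M`, `h = f ≫ g`, `g` mono; `q₁, q', q''` cokernels of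
`f, h, g`. Then `coker f → coker h → coker g → 0` is short exact. -/
theorem abstract_se {M Q₁ Q' Q'' : C} (f g h : M ⟶ M) (hh : h = f ≫ g) [Mono g]
    (q₁ : M ⟶ Q₁) (q' : M ⟶ Q') (q'' : M ⟶ Q'') [Epi q₁] [Epi q'] [Epi q'']
    (w₁ : f ≫ q₁ = 0)
    (w' : h ≫ q' = 0) (w'' : g ≫ q'' = 0)
    (e' : (ShortComplex.mk h q' w').Exact) (e'' : (ShortComplex.mk g q'' w'').Exact)
    (t : Q' ⟶ Q'') (ht : q' ≫ t = q'')
    (i : Q₁ ⟶ Q') (hi : q₁ ≫ i = g ≫ q') :
    Mono i ∧ ∃ w : i ≫ t = 0, (ShortComplex.mk i t w).ShortExact := by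
  have w : i ≫ t = 0 := by
    rw [← cancel_epi q₁, comp_zero, ← Category.assoc, hi, Category.assoc, ht, w'']
  have hmono : Mono i := by
    rw [Preadditive.mono_iff_cancel_zero]
    intro T x hx
    obtain ⟨T', π, hπ, y, hy⟩ := surjective_up_to_refinements_of_epi q₁ x
    have h1 : (y ≫ g) ≫ q' = 0 := by
      rw [Category.assoc, ← hi, ← Category.assoc, ← hy, Category.assoc, hx, comp_zero]
    obtain ⟨T'', π', hπ', z, hz⟩ := e'.exact_up_to_refinements (y ≫ g) h1
    have h2 : π' ≫ y = z ≫ f := by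
      rw [← cancel_mono g]
      dsimp at hz
      rw [Category.assoc, Category.assoc, ← hh]
      rw [← Category.assoc] at hz
      simpa [Category.assoc] using hz
    have h3 : (π' ≫ π) ≫ x = 0 := by
      rw [Category.assoc, hy, ← Category.assoc, h2, Category.assoc, w₁, comp_zero]
    haveI : Epi (π' ≫ π) := epi_comp _ _
    rw [← cancel_epi (π' ≫ π), h3, comp_zero]
  refine ⟨hmono, w, ?_⟩
  have hex : (ShortComplex.mk i t w).Exact := by
    rw [ShortComplex.exact_iff_exact_up_to_refinements]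
    intro T x hx
    dsimp at x hx ⊢
    obtain ⟨T', π, hπ, y, hy⟩ := surjective_up_to_refinements_of_epi q' x
    have h1 : y ≫ q'' = 0 := by
      rw [← ht, ← Category.assoc, ← hy, Category.assoc, hx, comp_zero]
    obtain ⟨T'', π', hπ', z, hz⟩ := e''.exact_up_to_refinements y h1
    dsimp at z hz
    refine ⟨T'', π' ≫ π, epi_comp _ _, z ≫ q₁, ?_⟩
    rw [Category.assoc, hy, ← Category.assoc, hz, Category.assoc, Category.assoc, hi]
  haveI : Epi t := by
    haveI : Epi (q' ≫ t) := by rw [ht]; infer_instance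
    exact epi_of_epi q' t
  exact ShortComplex.ShortExact.mk' hex hmono inferInstance

end abstract

variable {A : Type u} [CommRing A] {X : Scheme.{u}} [X.Over (Spec (CommRingCat.of A))]

lemma kills_span_singleton_pow_iff (a : A) (k : ℕ) {M N : X.Modules} (t : M ⟶ N) :
    Kills (Ideal.span ({a} : Set A) ^ k) t ↔ Formal.smulMod A M (a ^ k) ≫ t = 0 := by
  constructor
  · intro h
    exact h (a ^ k) (Ideal.pow_mem_pow (Ideal.mem_span_singleton_self a) k)
  · intro h b hb
    rw [Ideal.span_singleton_pow, Ideal.mem_span_singleton'] at hb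
    obtain ⟨c, rfl⟩ := hb
    rw [← smulMod_comp_eq_smul, smulMod_mul, Category.assoc, h, comp_zero]

lemma smulMod_modPowπ_zero (a : A) (k : ℕ) (M : X.Modules) :
    Formal.smulMod A M (a ^ k) ≫ Formal.modPowπ (Ideal.span ({a} : Set A)) k M = 0 :=
  (kills_span_singleton_pow_iff a k _).1 (isQuot_modPowπ (Ideal.span ({a} : Set A)) k M).kills

lemma exact_smulMod_modPowπ (a : A) (k : ℕ) (M : X.Modules) :
    (ShortComplex.mk _ _ (smulMod_modPowπ_zero a k M)).Exact := by
  have hq := isQuot_modPowπ (Ideal.span ({a} : Set A)) k M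
  apply ShortComplex.exact_of_g_is_cokernel
  exact CokernelCofork.IsColimit.ofπ _ _
    (fun {Z} t ht => hq.desc t ((kills_span_singleton_pow_iff a k t).2 ht))
    (fun t ht => hq.fac_desc t _)
    (fun t ht m hm => hq.hom_ext (by rw [hq.fac_desc]; exact hm))

lemma mono_smulMod_pow (a : A) (M : X.Modules) (h : Mono (Formal.smulMod A M a)) (k : ℕ) :
    Mono (Formal.smulMod A M (a ^ k)) := by
  induction k with
  | zero => rw [pow_zero, smulMod_one]; infer_instance
  | succ k ih => rw [pow_succ, smulMod_mul]; exact mono_comp _ _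

theorem main8821 (f : A) (F : X.Modules) (hF : Mono (Formal.smulMod A F f)) (n : ℕ) :
    ∃ i : Formal.modPow (Ideal.span ({f} : Set A)) 1 F ⟶
        Formal.modPow (Ideal.span ({f} : Set A)) (n + 1) F,
      Mono i ∧ Formal2.modPowLE (Ideal.span ({f} : Set A)) (Nat.le_add_left 1 n) F ≫ i =
        Formal.smulMod A (Formal.modPow (Ideal.span ({f} : Set A)) (n + 1) F) (f ^ n) ∧
      ∃ w : i ≫ Formal.modPowTrans (Ideal.span ({f} : Set A)) n F = 0,
        (ShortComplex.mk i (Formal.modPowTrans (Ideal.span ({f} : Set A)) n F) w).ShortExact := by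
  have hq1 := isQuot_modPowπ (Ideal.span ({f} : Set A)) 1 F
  have hq' := isQuot_modPowπ (Ideal.span ({f} : Set A)) (n + 1) F
  have hq'' := isQuot_modPowπ (Ideal.span ({f} : Set A)) n F
  haveI : Mono (Formal.smulMod A F (f ^ n)) := mono_smulMod_pow f F hF n
  haveI := hq1.epi
  haveI := hq'.epi
  haveI := hq''.epi
  have hk : Kills (Ideal.span ({f} : Set A) ^ 1)
      (Formal.smulMod A F (f ^ n) ≫ Formal.modPowπ (Ideal.span ({f} : Set A)) (n + 1) F) := by
    rw [kills_span_singleton_pow_iff, pow_one, ← Category.assoc, ← smulMod_mul, ← pow_succ']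
    exact smulMod_modPowπ_zero f (n + 1) F
  have hi : Formal.modPowπ (Ideal.span ({f} : Set A)) 1 F ≫ hq1.desc _ hk =
      Formal.smulMod A F (f ^ n) ≫ Formal.modPowπ (Ideal.span ({f} : Set A)) (n + 1) F :=
    hq1.fac_desc _ hk
  have w1 : Formal.smulMod A F f ≫ Formal.modPowπ (Ideal.span ({f} : Set A)) 1 F = 0 := by
    have := smulMod_modPowπ_zero f 1 F
    rwa [pow_one] at this
  obtain ⟨hm, w, hse⟩ := abstract_se (Formal.smulMod A F f) (Formal.smulMod A F (f ^ n))
    (Formal.smulMod A F (f ^ (n + 1))) (by rw [pow_succ', smulMod_mul])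
    (Formal.modPowπ (Ideal.span ({f} : Set A)) 1 F)
    (Formal.modPowπ (Ideal.span ({f} : Set A)) (n + 1) F)
    (Formal.modPowπ (Ideal.span ({f} : Set A)) n F) w1
    (smulMod_modPowπ_zero f (n + 1) F) (smulMod_modPowπ_zero f n F)
    (exact_smulMod_modPowπ f (n + 1) F) (exact_smulMod_modPowπ f n F)
    (Formal.modPowTrans (Ideal.span ({f} : Set A)) n F)
    (Formal.modPowπ_trans (Ideal.span ({f} : Set A)) n F) (hq1.desc _ hk) hi
  refine ⟨hq1.desc _ hk, hm, ?_, w, hse⟩
  rw [← cancel_epi (Formal.modPowπ (Ideal.span ({f} : Set A)) (n + 1) F), ← Category.assoc,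
    Formal2.modPowπ_modPowLE, hi, smulMod_comp]

end Groth.Agent.Lead.ModPowSE
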