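import Mathlib
import Groth.Prelude.Def_ModSt
import Groth.Agent.S1391
import Groth.Agent.Lead.LimPres

set_option autoImplicit false
set_option linter.style.haveILetI false
universe u
open CategoryTheory CategoryTheory.Limits AlgebraicGeometry Opposite

namespace Groth.Agent.Lead.ModStFib
open ModSt

variable {X S : Scheme.{u}} {f : X ⟶ S}

/-- heq of a transported section -/
theorem heq_congr_app {Y Z : Scheme.{u}} {t t' : Y ⟶ Z} (e : t = t') (E : Y.Modules) (U : Z.Opens)
    (s : Γ(E, t ⁻¹ᵁ U)) :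
    HEq (((Scheme.Modules.pushforwardCongr e).hom.app E).app U s) s := by
  subst e
  simp
  rfl

/-- the pulled back object -/
noncomputable def pb (A : Obj f) {V : Over S} (g : V ⟶ A.base) : Obj f where
  base := V
  XT := pullback A.q g.left
  p := pullback.fst A.q g.left ≫ A.p
  q := pullback.snd A.q g.left
  isPullback := by
    have h := (IsPullback.of_hasPullback A.q g.left).paste_horiz A.isPullback
    rwa [Over.w g] at h
  E := (Scheme.Modules.pullback (pullback.fst A.q g.left)).obj A.E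

theorem isCart_unit {Y Z : Scheme.{u}} (h : Y ⟶ Z) (N : Z.Modules) :
    IsCart h ((Scheme.Modules.pullbackPushforwardAdjunction h).unit.app N) := by
  intro M'
  have heq : (fun v : (Scheme.Modules.pullback h).obj N ⟶ M' =>
      (Scheme.Modules.pullbackPushforwardAdjunction h).unit.app N ≫
        (Scheme.Modules.pushforward h).map v) =
      ((Scheme.Modules.pullbackPushforwardAdjunction h).homEquiv N M') := by
    funext v
    rw [Adjunction.homEquiv_unit]
  rw [heq]
  exact Equiv.bijective _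

/-- the cartesian lift -/
noncomputable def pbHom (A : Obj f) {V : Over S} (g : V ⟶ A.base) : pb A g ⟶ A where
  base := g
  top := pullback.fst A.q g.left
  w_p := rfl
  w_q := pullback.condition
  c := (Scheme.Modules.pullbackPushforwardAdjunction (pullback.fst A.q g.left)).unit.app A.E
  cart := isCart_unit _ _

theorem isCohObj_pb (A : Obj f) (hA : IsCohObj A) {V : Over S} (g : V ⟶ A.base) :
    IsCohObj (pb A g) := by
  obtain ⟨hfl, hfp⟩ := hA
  haveI : SheafOfModules.IsFinitePresentation (R := A.XT.ringCatSheaf) A.E := hfp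
  haveI : A.E.IsQuasicoherent := inferInstance
  refine ⟨?_, ?_⟩
  · intro x'
    exact Groth.Agent.S1391.result A.q (pullback.snd A.q g.left) (pullback.fst A.q g.left) g.left
      (IsPullback.of_hasPullback A.q g.left) A.E inferInstance x' (hfl _)
  · exact Groth.Agent.Lead.LimPres.isFP_pullback (pullback.fst A.q g.left) A.E hfp


/-- the lifted top map -/
noncomputable def liftTop {x y z : Obj f} (φ : y ⟶ x) (ψ : z ⟶ x) (g : z.base ⟶ y.base)
    (hg : g ≫ φ.base = ψ.base) : z.XT ⟶ y.XT :=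
  (Obj.Hom.isPullback_top φ).lift ψ.top (z.q ≫ g.left) (by
    rw [ψ.w_q, ← hg]; simp)

theorem liftTop_top {x y z : Obj f} (φ : y ⟶ x) (ψ : z ⟶ x) (g : z.base ⟶ y.base)
    (hg : g ≫ φ.base = ψ.base) : liftTop φ ψ g hg ≫ φ.top = ψ.top :=
  (Obj.Hom.isPullback_top φ).lift_fst _ _ _

theorem liftTop_q {x y z : Obj f} (φ : y ⟶ x) (ψ : z ⟶ x) (g : z.base ⟶ y.base)
    (hg : g ≫ φ.base = ψ.base) : liftTop φ ψ g hg ≫ y.q = z.q ≫ g.left :=
  (Obj.Hom.isPullback_top φ).lift_snd _ _ _

/-- the target of the comparison map to be lifted -/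
noncomputable def liftTarget {x y z : Obj f} (φ : y ⟶ x) (ψ : z ⟶ x) (t : z.XT ⟶ y.XT)
    (ht : t ≫ φ.top = ψ.top) :
    x.E ⟶ (Scheme.Modules.pushforward φ.top).obj ((Scheme.Modules.pushforward t).obj z.E) :=
  ψ.c ≫ (Scheme.Modules.pushforwardCongr ht.symm).hom.app z.E ≫
    (Scheme.Modules.pushforwardComp t φ.top).inv.app z.E

/-- the lifted comparison map -/
noncomputable def liftC {x y z : Obj f} (φ : y ⟶ x) (ψ : z ⟶ x) (t : z.XT ⟶ y.XT)
    (ht : t ≫ φ.top = ψ.top) : y.E ⟶ (Scheme.Modules.pushforward t).obj z.E :=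
  ((φ.cart ((Scheme.Modules.pushforward t).obj z.E)).surjective (liftTarget φ ψ t ht)).choose

theorem liftC_spec {x y z : Obj f} (φ : y ⟶ x) (ψ : z ⟶ x) (t : z.XT ⟶ y.XT)
    (ht : t ≫ φ.top = ψ.top) :
    φ.c ≫ (Scheme.Modules.pushforward φ.top).map (liftC φ ψ t ht) = liftTarget φ ψ t ht :=
  ((φ.cart ((Scheme.Modules.pushforward t).obj z.E)).surjective (liftTarget φ ψ t ht)).choose_spec

/-- two-out-of-three for cartesian comparison maps -/
theorem isCart_of_comp {Y Z W : Scheme.{u}} {h₁ : Y ⟶ Z} {h₂ : Z ⟶ W} {P : W.Modules}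
    {N : Z.Modules} {M : Y.Modules}
    {c₁ : N ⟶ (Scheme.Modules.pushforward h₁).obj M} {c₂ : P ⟶ (Scheme.Modules.pushforward h₂).obj N}
    (hc₂ : IsCart h₂ c₂)
    (h : ∀ M' : Y.Modules, Function.Bijective (fun v : M ⟶ M' =>
      c₂ ≫ (Scheme.Modules.pushforward h₂).map (c₁ ≫ (Scheme.Modules.pushforward h₁).map v))) :
    IsCart h₁ c₁ := by
  intro M'
  have h2 := hc₂ ((Scheme.Modules.pushforward h₁).obj M')
  have : (fun v : M ⟶ M' =>
      c₂ ≫ (Scheme.Modules.pushforward h₂).map (c₁ ≫ (Scheme.Modules.pushforward h₁).map v)) =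
      (fun w : N ⟶ (Scheme.Modules.pushforward h₁).obj M' => c₂ ≫ (Scheme.Modules.pushforward h₂).map w) ∘
        (fun v : M ⟶ M' => c₁ ≫ (Scheme.Modules.pushforward h₁).map v) := rfl
  have h3 := h M'
  rw [this] at h3
  exact (Function.Bijective.of_comp_iff' h2 _).mp h3


theorem isCart_liftC {x y z : Obj f} (φ : y ⟶ x) (ψ : z ⟶ x) (t : z.XT ⟶ y.XT)
    (ht : t ≫ φ.top = ψ.top) : IsCart t (liftC φ ψ t ht) := by
  apply isCart_of_comp φ.cart
  intro M'
  let i : (Scheme.Modules.pushforward ψ.top).obj M' ≅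
      (Scheme.Modules.pushforward φ.top).obj ((Scheme.Modules.pushforward t).obj M') :=
    (Scheme.Modules.pushforwardCongr ht.symm).app M' ≪≫
      ((Scheme.Modules.pushforwardComp t φ.top).app M').symm
  have heq : (fun v : z.E ⟶ M' => φ.c ≫ (Scheme.Modules.pushforward φ.top).map
      (liftC φ ψ t ht ≫ (Scheme.Modules.pushforward t).map v)) =
      (i.homToEquiv) ∘ (fun v : z.E ⟶ M' => ψ.c ≫ (Scheme.Modules.pushforward ψ.top).map v) := by
    funext v
    simp only [Functor.map_comp, Function.comp_apply, Iso.homToEquiv_apply]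
    rw [← Category.assoc φ.c, liftC_spec, liftTarget]
    simp only [Category.assoc, i, Iso.trans_hom, Iso.app_hom, Iso.symm_hom, Iso.app_inv]
    have n1 := (Scheme.Modules.pushforwardComp t φ.top).inv.naturality v
    have n2 := (Scheme.Modules.pushforwardCongr ht.symm).hom.naturality v
    simp only [Functor.comp_map] at n1
    rw [← n1, ← Category.assoc ((Scheme.Modules.pushforwardCongr ht.symm).hom.app z.E),
      ← n2]
    simp only [Category.assoc]
  rw [heq]
  exact (Equiv.bijective _).comp (ψ.cart M')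

/-- the lifted morphism -/
noncomputable def lift {x y z : Obj f} (φ : y ⟶ x) (ψ : z ⟶ x) (g : z.base ⟶ y.base)
    (hg : g ≫ φ.base = ψ.base) : z ⟶ y where
  base := g
  top := liftTop φ ψ g hg
  w_p := by rw [← φ.w_p, ← Category.assoc, liftTop_top, ψ.w_p]
  w_q := liftTop_q φ ψ g hg
  c := liftC φ ψ _ (liftTop_top φ ψ g hg)
  cart := isCart_liftC φ ψ _ (liftTop_top φ ψ g hg)

theorem liftTarget_app {x y z : Obj f} (φ : y ⟶ x) (ψ : z ⟶ x) (t : z.XT ⟶ y.XT)
    (ht : t ≫ φ.top = ψ.top) (U : x.XT.Opens) (s : Γ(x.E, U)) :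
    HEq ((liftTarget φ ψ t ht).app U s) (ψ.c.app U s) := by
  have : (liftTarget φ ψ t ht).app U s =
      ((Scheme.Modules.pushforwardCongr ht.symm).hom.app z.E).app U (ψ.c.app U s) := rfl
  rw [this]
  exact heq_congr_app ht.symm z.E U (ψ.c.app U s)

theorem lift_comp {x y z : Obj f} (φ : y ⟶ x) (ψ : z ⟶ x) (g : z.base ⟶ y.base)
    (hg : g ≫ φ.base = ψ.base) : lift φ ψ g hg ≫ φ = ψ := by
  refine Obj.Hom.ext' hg (liftTop_top φ ψ g hg) (fun U s => ?_)
  have h1 : (lift φ ψ g hg ≫ φ).c.app U s =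
      (liftTarget φ ψ _ (liftTop_top φ ψ g hg)).app U s := by
    have := congrArg (fun m => m.app U s) (liftC_spec φ ψ _ (liftTop_top φ ψ g hg))
    exact this
  rw [h1]
  exact liftTarget_app φ ψ _ _ U s

theorem lift_unique {x y z : Obj f} (φ : y ⟶ x) (ψ : z ⟶ x) (g : z.base ⟶ y.base)
    (hg : g ≫ φ.base = ψ.base) (χ : z ⟶ y) (hb : χ.base = g) (hχ : χ ≫ φ = ψ) :
    χ = lift φ ψ g hg := by
  have ht : χ.top = liftTop φ ψ g hg := by
    apply (Obj.Hom.isPullback_top φ).hom_ext
    · rw [liftTop_top]; exact congrArg Obj.Hom.top hχ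
    · rw [liftTop_q, χ.w_q, hb]
  have hsec : ∀ (U : x.XT.Opens) (s : Γ(x.E, U)), HEq ((χ ≫ φ).c.app U s) (ψ.c.app U s) := by
    intro U s; rw [hχ]
  obtain ⟨b', t', wp', wq', c', cart'⟩ := χ
  dsimp only at hb ht
  subst hb
  subst ht
  have hcc : c' = liftC φ ψ _ (liftTop_top φ ψ b' hg) := by
    apply (φ.cart _).injective
    dsimp only
    rw [liftC_spec]
    apply Scheme.Modules.hom_ext
    intro U
    ext s
    apply eq_of_heq
    refine HEq.trans ?_ (liftTarget_app φ ψ _ (liftTop_top φ ψ b' hg) U s).symm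
    exact hsec U s
  subst hcc
  rfl

theorem isStronglyCartesian_forget {y x : Obj f} (φ : y ⟶ x) :
    (Obj.forget f).IsStronglyCartesian ((Obj.forget f).map φ) φ where
  universal_property' {z} g ψ _ := by
    have hg : g ≫ φ.base = ψ.base := by
      have := IsHomLift.fac' (Obj.forget f) (g ≫ (Obj.forget f).map φ) ψ
      simp only [eqToHom_refl, Category.comp_id, Category.id_comp] at this
      exact this.symm
    refine ⟨lift φ ψ g hg, ⟨?_, lift_comp φ ψ g hg⟩, ?_⟩
    · show (Obj.forget f).IsHomLift ((Obj.forget f).map (lift φ ψ g hg)) (lift φ ψ g hg)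
      infer_instance
    · rintro χ ⟨h1, h2⟩
      have hb : χ.base = g := by
        have := IsHomLift.fac' (Obj.forget f) g χ
        simp only [eqToHom_refl, Category.comp_id, Category.id_comp] at this
        exact this
      exact lift_unique φ ψ g hg χ hb h2

theorem isFibGrpd_coh (f : X ⟶ S) : FibCat.IsFibGrpd (ModSt.Coh f).p where
  exists_lift {x V} g := by
    let y : (ModSt.Coh f).obj := ⟨pb x.obj g, isCohObj_pb x.obj x.property g⟩
    let φ : y ⟶ x := ObjectProperty.homMk (pbHom x.obj g)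
    refine ⟨y, φ, ?_⟩
    show (ModSt.Coh f).p.IsHomLift ((ModSt.Coh f).p.map φ) φ
    infer_instance
  isStronglyCartesian {y x} φ := by
    refine { toIsHomLift := inferInstance, universal_property' := ?_ }
    intro z g ψ hψ
    have hψ' : (Obj.forget f).IsHomLift (g ≫ (Obj.forget f).map φ.hom) ψ.hom := by
      have := IsHomLift.fac' (ModSt.Coh f).p (g ≫ (ModSt.Coh f).p.map φ) ψ
      exact IsHomLift.of_fac' _ _ _ rfl rfl this
    obtain ⟨χ₀, ⟨h1, h2⟩, huniq⟩ :=
      (isStronglyCartesian_forget φ.hom).universal_property' g ψ.hom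
    refine ⟨ObjectProperty.homMk χ₀, ⟨?_, ?_⟩, ?_⟩
    · have := IsHomLift.fac' (Obj.forget f) g χ₀
      exact IsHomLift.of_fac' _ _ _ rfl rfl this
    · apply InducedCategory.hom_ext
      exact h2
    · rintro χ ⟨k1, k2⟩
      apply InducedCategory.hom_ext
      apply huniq
      refine ⟨?_, congrArg InducedCategory.Hom.hom k2⟩
      have := IsHomLift.fac' (ModSt.Coh f).p g χ
      exact IsHomLift.of_fac' _ _ _ rfl rfl this

end Groth.Agent.Lead.ModStFib
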