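import Mathlib

set_option autoImplicit false
universe u
open CategoryTheory CategoryTheory.Limits AlgebraicGeometry TensorProduct

namespace Groth.Agent.Lead.MonoRes

/-- an epimorphic field extension is surjective -/
theorem surjective_of_isEpi_of_field (K L : Type*) [Field K] [Field L] [Algebra K L]
    [Algebra.IsEpi K L] : Function.Surjective (algebraMap K L) := by
  by_contra hns
  rw [Function.Surjective] at hns
  push Not at hns
  obtain ⟨a, ha⟩ := hns
  let P : Submodule K L := Submodule.span K {a}
  have h1 : (1 : L) ∉ P := by
    intro h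
    obtain ⟨c, hc⟩ := Submodule.mem_span_singleton.mp h
    have hc0 : c ≠ 0 := by
      rintro rfl
      rw [zero_smul] at hc
      exact zero_ne_one hc
    apply ha c⁻¹
    have : a = c⁻¹ • (1 : L) := by
      rw [← hc, smul_smul, inv_mul_cancel₀ hc0, one_smul]
    rw [this, Algebra.algebraMap_eq_smul_one]
  obtain ⟨f, hf1, hfP⟩ := Submodule.exists_dual_map_eq_bot_of_notMem h1 inferInstance
  have hfa : f a = 0 := by
    have : f a ∈ P.map f := ⟨a, Submodule.mem_span_singleton_self a, rfl⟩
    rw [hfP] at this
    exact (Submodule.mem_bot K).mp this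
  let ψ : L ⊗[K] L →ₗ[K] L := TensorProduct.lift ((LinearMap.lsmul K L).comp f)
  have e := (Algebra.isEpi_iff_forall_one_tmul_eq K L).mp inferInstance a
  have e' := congrArg ψ e
  simp only [ψ, TensorProduct.lift.tmul, LinearMap.comp_apply, LinearMap.lsmul_apply, hfa,
    zero_smul] at e'
  have ha0 : a = 0 := by
    rcases smul_eq_zero.mp e' with h | h
    · exact absurd h hf1
    · exact h
  apply ha 0
  rw [ha0, map_zero]

/-- a monomorphism of schemes induces isomorphisms on residue fields -/
theorem isIso_residueFieldMap_of_mono {X Y : Scheme.{u}} (f : Y ⟶ X) [Mono f] (y : Y) :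
    IsIso (f.residueFieldMap y) := by
  let φ := f.residueFieldMap y
  -- φ is an epimorphism in CommRingCat
  have hepi : Epi φ := by
    constructor
    intro T g h hgh
    have h1 : Spec.map g ≫ Y.fromSpecResidueField y = Spec.map h ≫ Y.fromSpecResidueField y := by
      rw [← cancel_mono f, Category.assoc, Category.assoc,
        ← Scheme.Hom.SpecMap_residueFieldMap_fromSpecResidueField, ← Category.assoc,
        ← Category.assoc, ← Spec.map_comp, ← Spec.map_comp, hgh]
    rw [cancel_mono] at h1
    exact Spec.map_injective h1
  algebraize [φ.hom]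
  have hepi' : Epi (CommRingCat.ofHom (algebraMap (X.residueField (f y)) (Y.residueField y))) := by
    have : CommRingCat.ofHom (algebraMap (X.residueField (f y)) (Y.residueField y)) = φ := rfl
    rw [this]; exact hepi
  have : Algebra.IsEpi (X.residueField (f y)) (Y.residueField y) :=
    CommRingCat.epi_iff_epi.mp hepi'
  have hsurj := surjective_of_isEpi_of_field (X.residueField (f y)) (Y.residueField y)
  have hinj : Function.Injective (algebraMap (X.residueField (f y)) (Y.residueField y)) :=
    (algebraMap (X.residueField (f y)) (Y.residueField y)).injective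
  have hbij : Function.Bijective φ.hom := ⟨hinj, hsurj⟩
  exact (ConcreteCategory.isIso_iff_bijective φ).mpr hbij

/-- field-valued points lift along a morphism at a point where the residue field map is an iso -/
theorem exists_lift_of_field_point {X' Y' : Scheme.{u}} (p : Y' ⟶ X') (y : Y')
    [IsIso (p.residueFieldMap y)] (K : Type u) [Field K] (t : Spec (CommRingCat.of K) ⟶ X')
    (ht : t (IsLocalRing.closedPoint K) = p y) :
    ∃ t' : Spec (CommRingCat.of K) ⟶ Y', t' ≫ p = t ∧ t' (IsLocalRing.closedPoint K) = y := by
  let φ := X'.descResidueField (Scheme.stalkClosedPointTo t)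
  let φ' : X'.residueField (p y) ⟶ CommRingCat.of K := (X'.residueFieldCongr ht.symm).hom ≫ φ
  have h1 : Spec.map φ' ≫ X'.fromSpecResidueField (p y) = t := by
    rw [Spec.map_comp, Category.assoc, Scheme.residueFieldCongr_fromSpecResidueField]
    exact Scheme.descResidueField_stalkClosedPointTo_fromSpecResidueField K X' t
  let ψ : Y'.residueField y ⟶ CommRingCat.of K := inv (p.residueFieldMap y) ≫ φ'
  refine ⟨Spec.map ψ ≫ Y'.fromSpecResidueField y, ?_, ?_⟩
  · rw [Category.assoc, ← Scheme.Hom.SpecMap_residueFieldMap_fromSpecResidueField,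
      ← Category.assoc, ← Spec.map_comp]
    simp only [ψ, IsIso.hom_inv_id_assoc]
    exact h1
  · simp

end Groth.Agent.Lead.MonoRes
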