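import Mathlib
import Groth.Agent.Lead.MulCovC

/-! SGA3 VI_B: `(x,y) ↦ f(x) f(y)` on the flat locus is an fppf covering. -/

open AlgebraicGeometry CategoryTheory CategoryTheory.Limits MonObj MonoidalCategory
  CartesianMonoidalCategory

namespace Groth.Agent.Lead.MulCov
universe u

variable {S : Scheme.{u}}

theorem flat_restrict {X Y : Scheme.{u}} (f : X ⟶ Y) (V : X.Opens)
    (hV : ∀ x : X, x ∈ V → (f.stalkMap x).hom.Flat) : Flat (V.ι ≫ f) := by
  apply Flat.of_stalkMap
  intro x
  have h2 : ((V.ι ≫ f).stalkMap x).hom =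
      (V.ι.stalkMap x).hom.comp (f.stalkMap (V.ι x)).hom := by
    rw [Scheme.Hom.stalkMap_comp]; rfl
  rw [h2]
  refine RingHom.Flat.comp (hV _ x.2) ?_
  exact RingHom.Flat.of_bijective (ConcreteCategory.bijective_of_isIso (V.ι.stalkMap x))

theorem main (G X : Over S) [GrpObj G] [LocallyOfFinitePresentation G.hom] [Flat G.hom]
    [LocallyOfFinitePresentation X.hom] (f : X ⟶ G)
    (hf : ∀ (s : S) (g : ↥(G.hom.base ⁻¹' {s})),
      closure {g} ∈ irreducibleComponents ↥(G.hom.base ⁻¹' {s}) →
      ∃ x : X.left, f.left.base x = g.1 ∧ (f.left.stalkMap x).hom.Flat)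
    (V : X.left.Opens) (hV : (V : Set X.left) = {x : X.left | (f.left.stalkMap x).hom.Flat})
    (fV : Over.mk (V.ι ≫ X.hom) ⟶ G) (hfV : fV.left = V.ι ≫ f.left) :
    Flat ((fV ⊗ₘ fV) ≫ μ[G]).left ∧ LocallyOfFinitePresentation ((fV ⊗ₘ fV) ≫ μ[G]).left ∧
      Surjective ((fV ⊗ₘ fV) ≫ μ[G]).left := by
  have hflat : Flat fV.left := by
    rw [hfV]
    refine flat_restrict f.left V fun x hx => ?_
    have : x ∈ (V : Set X.left) := hx
    rw [hV] at this
    exact this
  have hlfp : LocallyOfFinitePresentation fV.left := by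
    refine Groth.Agent.Helper2.LfpComp.locallyOfFinitePresentation_of_comp fV.left G.hom ?_
      inferInstance
    rw [Over.w fV]
    change LocallyOfFinitePresentation (V.ι ≫ X.hom)
    infer_instance
  have hd : ∀ (s : S) (g : ↥(G.hom.base ⁻¹' {s})),
      closure {g} ∈ irreducibleComponents ↥(G.hom.base ⁻¹' {s}) → g.1 ∈ Set.range fV.left := by
    intro s g hg
    obtain ⟨x, hx1, hx2⟩ := hf s g hg
    have hxV : x ∈ V := by
      have : x ∈ (V : Set X.left) := by rw [hV]; exact hx2
      exact this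
    refine ⟨⟨x, hxV⟩, ?_⟩
    rw [hfV, Scheme.Hom.comp_apply]
    exact hx1
  refine ⟨?_, ?_, surjective_mul G fV hd⟩
  · rw [Over.comp_left]
    have h1 : Flat (fV ⊗ₘ fV).left := tensorHom_left_of @Flat fV fV hflat hflat
    have h2 : Flat μ[G].left := mu_left_of G @Flat inferInstance
    infer_instance
  · rw [Over.comp_left]
    have h1 : LocallyOfFinitePresentation (fV ⊗ₘ fV).left :=
      tensorHom_left_of @LocallyOfFinitePresentation fV fV hlfp hlfp
    have h2 : LocallyOfFinitePresentation μ[G].left :=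
      mu_left_of G @LocallyOfFinitePresentation inferInstance
    infer_instance

end Groth.Agent.Lead.MulCov
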