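import Mathlib
open CategoryTheory

namespace Groth.Agent.Lead.NApxA
universe u

section Alg
variable {R B Bi C : Type*} [CommRing R] [CommRing B] [CommRing Bi] [CommRing C]
  (ρ : R →+* B) (τ : Bi →+* B) (g : R) (f : Bi) [Algebra Bi C] [IsLocalization.Away f C]

/-- the fibre product `R ×_B Bi` as a `ℤ`-subalgebra of `R × Bi` -/
def fib : Subalgebra ℤ (R × Bi) :=
  subalgebraOfSubring (RingHom.eqLocus (ρ.comp (RingHom.fst R Bi)) (τ.comp (RingHom.snd R Bi)))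

omit [CommRing C] [Algebra Bi C] in
@[simp] lemma mem_fib {x : R × Bi} : x ∈ fib ρ τ ↔ ρ x.1 = τ x.2 := by
  simp [fib, mem_subalgebraOfSubring, RingHom.eqLocus]
  rfl

/-- the ring map `A → C` for a subalgebra `A` of `R × Bi` -/
def toC (A : Subalgebra ℤ (R × Bi)) : A →+* C :=
  (algebraMap Bi C).comp ((RingHom.snd R Bi).comp A.val.toRingHom)

omit [IsLocalization.Away f C] in
@[simp] lemma toC_apply (A : Subalgebra ℤ (R × Bi)) (x : A) :
    toC (C := C) A x = algebraMap Bi C x.1.2 := rfl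

include ρ τ in
theorem isLocalization_away (hgf : ρ g = τ f)
    (hinj : ∀ r : R, ρ r = 0 → ∃ m : ℕ, g ^ m * r = 0)
    (A : Subalgebra ℤ (R × Bi)) (hA' : A ≤ fib ρ τ) (ha : (g, f) ∈ A)
    (hsurj : ∀ b : Bi, ∃ n : ℕ, ∃ x ∈ A, x.2 = f ^ n * b) :
    letI := (toC (C := C) A).toAlgebra
    IsLocalization.Away (⟨(g, f), ha⟩ : A) C := by
  letI := (toC (C := C) A).toAlgebra
  have hA : ∀ x ∈ A, ρ x.1 = τ x.2 := fun x hx ↦ (mem_fib ρ τ).mp (hA' hx)
  have hunit : IsUnit (algebraMap Bi C f) := IsLocalization.Away.algebraMap_isUnit f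
  refine ⟨?_, ?_, ?_⟩
  · rintro ⟨_, n, rfl⟩
    change IsUnit (toC (C := C) A (⟨(g, f), ha⟩ ^ n))
    rw [map_pow]
    exact (show IsUnit (toC (C := C) A ⟨(g, f), ha⟩) from hunit).pow n
  · intro z
    obtain ⟨⟨b, ⟨_, m, rfl⟩⟩, hb⟩ := IsLocalization.surj (Submonoid.powers f) z
    obtain ⟨n, x, hx, hx2⟩ := hsurj b
    refine ⟨⟨⟨x, hx⟩, ⟨_, n + m, rfl⟩⟩, ?_⟩
    change z * toC (C := C) A (⟨(g, f), ha⟩ ^ (n + m)) = toC (C := C) A ⟨x, hx⟩
    simp only [toC_apply, SubmonoidClass.coe_pow, Prod.pow_snd, map_pow] at hb ⊢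
    rw [hx2, map_mul, map_pow, ← hb, pow_add]
    ring
  · intro x y hxy
    change toC (C := C) A x = toC (C := C) A y at hxy
    simp only [toC_apply] at hxy
    obtain ⟨⟨_, m, rfl⟩, hm⟩ := (IsLocalization.eq_iff_exists (Submonoid.powers f) C).mp hxy
    have h1 : ρ (g ^ m * (x.1.1 - y.1.1)) = 0 := by
      rw [map_mul, map_pow, map_sub, hA _ x.2, hA _ y.2, hgf, ← map_pow, ← map_sub, ← map_mul,
        mul_sub, hm, sub_self, map_zero]
    obtain ⟨m', hm'⟩ := hinj _ h1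
    refine ⟨⟨_, m' + m, rfl⟩, ?_⟩
    apply Subtype.ext
    apply Prod.ext
    · have : g ^ (m' + m) * x.1.1 - g ^ (m' + m) * y.1.1 = 0 := by
        rw [← mul_sub, pow_add, mul_assoc, hm']
      simpa [sub_eq_zero] using this
    · have : f ^ (m' + m) * x.1.2 = f ^ (m' + m) * y.1.2 := by
        rw [pow_add, mul_assoc, mul_assoc, hm]
      simpa using this


include ρ τ in
theorem exists_good (hgf : ρ g = τ f)
    (hsurjρ : ∀ b : B, ∃ m : ℕ, ∃ r : R, ρ r = ρ g ^ m * b)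
    [Algebra.FiniteType ℤ C]
    (A0 : Subalgebra ℤ (R × Bi)) (hA0fg : A0.FG) (hA0 : A0 ≤ fib ρ τ) :
    ∃ A : Subalgebra ℤ (R × Bi), A.FG ∧ A0 ≤ A ∧ A ≤ fib ρ τ ∧ (g, f) ∈ A ∧
      ∀ b : Bi, ∃ n : ℕ, ∃ x ∈ A, x.2 = f ^ n * b := by
  classical
  obtain ⟨s, hs⟩ := (Algebra.FiniteType.out : (⊤ : Subalgebra ℤ C).FG)
  have key : ∀ z : C, ∃ x : R × Bi, x ∈ fib ρ τ ∧ ∃ n : ℕ, algebraMap Bi C x.2 = algebraMap Bi C f ^ n * z := by
    intro z
    obtain ⟨⟨b, ⟨_, m, rfl⟩⟩, hb⟩ := IsLocalization.surj (Submonoid.powers f) z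
    obtain ⟨N, r, hr⟩ := hsurjρ (τ b)
    refine ⟨(r, f ^ N * b), ?_, N + m, ?_⟩
    · rw [mem_fib]
      simp only
      rw [hr, hgf, map_mul, map_pow]
    · simp only [map_mul, map_pow] at hb ⊢
      rw [← hb, pow_add]
      ring
  choose X hX1 hX2 using key
  let A : Subalgebra ℤ (R × Bi) := A0 ⊔ Algebra.adjoin ℤ (insert (g, f) (s.image X) : Set (R × Bi))
  have hgA : (g, f) ∈ A :=
    (le_sup_right : _ ≤ A) (Algebra.subset_adjoin (Set.mem_insert _ _))
  have hXA : ∀ z ∈ s, X z ∈ A := fun z hz ↦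
    (le_sup_right : _ ≤ A) (Algebra.subset_adjoin (Set.mem_insert_of_mem _ (by
      simp only [Finset.coe_image, Set.mem_image, Finset.mem_coe]
      exact ⟨z, hz, rfl⟩)))
  refine ⟨A, ?_, le_sup_left, ?_, hgA, ?_⟩
  · refine hA0fg.sup ?_
    have : (insert (g, f) (s.image X) : Set (R × Bi)) = ↑(insert (g, f) (s.image X) : Finset (R × Bi)) := by
      simp
    rw [this]
    exact Subalgebra.fg_adjoin_finset _
  · refine sup_le hA0 (Algebra.adjoin_le ?_)
    rintro x (rfl | hx)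
    · simpa using hgf
    · simp only [Finset.coe_image, Set.mem_image, Finset.mem_coe] at hx
      obtain ⟨z, -, rfl⟩ := hx
      exact hX1 z
  · have hall : ∀ z : C, ∃ n : ℕ, ∃ x ∈ A, algebraMap Bi C x.2 = algebraMap Bi C f ^ n * z := by
      intro z
      have hz : z ∈ Algebra.adjoin ℤ (s : Set C) := by rw [hs]; trivial
      induction hz using Algebra.adjoin_induction with
      | mem z hz =>
        obtain ⟨n, hn⟩ := hX2 z
        exact ⟨n, X z, hXA z hz, hn⟩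
      | algebraMap k =>
        refine ⟨0, algebraMap ℤ (R × Bi) k, A.algebraMap_mem k, ?_⟩
        simp
      | add z z' _ _ h1 h2 =>
        obtain ⟨n, x, hx, e⟩ := h1
        obtain ⟨n', x', hx', e'⟩ := h2
        refine ⟨n + n', (g, f) ^ n' * x + (g, f) ^ n * x', A.add_mem (A.mul_mem (A.pow_mem hgA _) hx)
          (A.mul_mem (A.pow_mem hgA _) hx'), ?_⟩
        simp only [Prod.snd_add, Prod.snd_mul, Prod.pow_snd, map_add, map_mul, map_pow, e, e']
        ring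
      | mul z z' _ _ h1 h2 =>
        obtain ⟨n, x, hx, e⟩ := h1
        obtain ⟨n', x', hx', e'⟩ := h2
        refine ⟨n + n', x * x', A.mul_mem hx hx', ?_⟩
        simp only [Prod.snd_mul, map_mul, e, e']
        ring
    intro b
    obtain ⟨n, x, hx, e⟩ := hall (algebraMap Bi C b)
    rw [← map_pow, ← map_mul] at e
    obtain ⟨⟨_, m, rfl⟩, hm⟩ := (IsLocalization.eq_iff_exists (Submonoid.powers f) C).mp e
    refine ⟨m + n, (g, f) ^ m * x, A.mul_mem (A.pow_mem hgA _) hx, ?_⟩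
    simp only [Prod.snd_mul, Prod.pow_snd]
    rw [hm, pow_add, mul_assoc]

end Alg
end Groth.Agent.Lead.NApxA
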