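import Groth.Agent.Lead.Glue2
import Mathlib
open CategoryTheory Limits AlgebraicGeometry

namespace Groth.Agent.Lead.NApxB
universe u
open Groth.Agent.Lead.Glue2

section Cover2
variable {X U V Z : Scheme.{u}} (u : U ⟶ X) (v : V ⟶ X) [IsOpenImmersion u] [IsOpenImmersion v]
  (huv : ∀ x : X, x ∈ Set.range u ∨ x ∈ Set.range v)

include huv in
lemma hom_ext2 (m m' : X ⟶ Z) (h1 : u ≫ m = u ≫ m') (h2 : v ≫ m = v ≫ m') : m = m' := by
  refine (cover2 u v huv).hom_ext _ _ ?_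
  rintro (_ | _)
  · exact h2
  · exact h1

include huv in
lemma glue2 (gU : U ⟶ Z) (gV : V ⟶ Z)
    (compat : pullback.fst u v ≫ gU = pullback.snd u v ≫ gV) :
    ∃ g : X ⟶ Z, u ≫ g = gU ∧ v ≫ g = gV := by
  let F : ∀ j : Bool, (cover2 u v huv).X j ⟶ Z := fun j ↦
    match j with
    | true => gU
    | false => gV
  have hF : ∀ x y, pullback.fst ((cover2 u v huv).f x) ((cover2 u v huv).f y) ≫ F x =
      pullback.snd _ _ ≫ F y := by
    rintro (_ | _) (_ | _)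
    · change pullback.fst v v ≫ _ = pullback.snd v v ≫ _
      rw [fst_eq_snd_of_mono_eq]
    · change pullback.fst v u ≫ gV = pullback.snd v u ≫ gU
      rw [← pullbackSymmetry_hom_comp_snd v u, ← pullbackSymmetry_hom_comp_fst v u,
        Category.assoc, Category.assoc, compat]
    · exact compat
    · change pullback.fst u u ≫ _ = pullback.snd u u ≫ _
      rw [fst_eq_snd_of_mono_eq]
  exact ⟨(cover2 u v huv).glueMorphisms F hF, (cover2 u v huv).ι_glueMorphisms F hF true,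
    (cover2 u v huv).ι_glueMorphisms F hF false⟩

end Cover2

lemma range_snd_of_isPullback {A X Y Z : Scheme.{u}} {fst : A ⟶ X} {snd : A ⟶ Y} {f : X ⟶ Z}
    {g : Y ⟶ Z} (h : IsPullback fst snd f g) : Set.range snd = g ⁻¹' Set.range f := by
  ext y
  constructor
  · rintro ⟨o, rfl⟩
    exact ⟨fst o, by rw [← Scheme.Hom.comp_apply, h.w, Scheme.Hom.comp_apply]⟩
  · rintro ⟨x, hx⟩
    obtain ⟨o, -, ho⟩ := Scheme.exists_preimage_of_isPullback h x y hx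
    exact ⟨o, ho⟩

lemma opensRange_snd_of_isPullback {A X Y Z : Scheme.{u}} {fst : A ⟶ X} {snd : A ⟶ Y} {f : X ⟶ Z}
    {g : Y ⟶ Z} [IsOpenImmersion f] [IsOpenImmersion snd] (h : IsPullback fst snd f g) :
    snd.opensRange = g ⁻¹ᵁ f.opensRange := by
  ext y
  exact Set.ext_iff.mp (range_snd_of_isPullback h) y

section Piece
variable {I : Type*} [Category I] [IsCofiltered I]
  {D D₁ : I ⥤ Scheme.{u}} (u₁ : D₁ ⟶ D) [∀ i, IsOpenImmersion (u₁.app i)]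
  (hcart : ∀ {i j : I} (φ : i ⟶ j), IsPullback (D₁.map φ) (u₁.app i) (u₁.app j) (D.map φ))
  (c : Cone D) (c₁ : Cone D₁) (hc₁ : IsLimit c₁) (a₁ : c₁.pt ⟶ c.pt) [IsOpenImmersion a₁]
  (h₁ : ∀ i, IsPullback (c₁.π.app i) a₁ (u₁.app i) (c.π.app i))

include h₁ in
lemma opensRange_a (i : I) : a₁.opensRange = c.π.app i ⁻¹ᵁ (u₁.app i).opensRange :=
  opensRange_snd_of_isPullback (h₁ i)

include hcart in
lemma preimage_map {i j : I} (φ : i ⟶ j) :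
    D.map φ ⁻¹ᵁ (u₁.app j).opensRange = (u₁.app i).opensRange :=
  (opensRange_snd_of_isPullback (hcart φ)).symm

include hcart in
lemma preimage_indep (s : Cone D) (i j : I) :
    s.π.app i ⁻¹ᵁ (u₁.app i).opensRange = s.π.app j ⁻¹ᵁ (u₁.app j).opensRange := by
  have key : ∀ {i j : I} (φ : i ⟶ j),
      s.π.app i ⁻¹ᵁ (u₁.app i).opensRange = s.π.app j ⁻¹ᵁ (u₁.app j).opensRange := by
    intro i j φ
    rw [← preimage_map u₁ hcart φ, ← Scheme.Hom.comp_preimage, s.w]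
  rw [← key (IsCofiltered.minToLeft i j), key (IsCofiltered.minToRight i j)]

include hc₁ h₁ in
lemma piece_ext {T : Scheme.{u}} (m m' : T ⟶ c.pt) (h : ∀ i, m ≫ c.π.app i = m' ≫ c.π.app i) :
    m ⁻¹ᵁ a₁.opensRange = m' ⁻¹ᵁ a₁.opensRange ∧
      (m ⁻¹ᵁ a₁.opensRange).ι ≫ m = (m ⁻¹ᵁ a₁.opensRange).ι ≫ m' := by
  obtain ⟨i0⟩ := IsCofiltered.nonempty (C := I)
  have e : m ⁻¹ᵁ a₁.opensRange = m' ⁻¹ᵁ a₁.opensRange := by
    rw [opensRange_a u₁ c c₁ a₁ h₁ i0, ← Scheme.Hom.comp_preimage, ← Scheme.Hom.comp_preimage, h]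
  refine ⟨e, ?_⟩
  set O := m ⁻¹ᵁ a₁.opensRange with hO
  have r1 : Set.range (O.ι ≫ m) ⊆ Set.range a₁ := by
    rintro _ ⟨x, rfl⟩
    exact x.2
  have r2 : Set.range (O.ι ≫ m') ⊆ Set.range a₁ := by
    rintro _ ⟨x, rfl⟩
    have : x.1 ∈ m' ⁻¹ᵁ a₁.opensRange := e ▸ x.2
    exact this
  let n := IsOpenImmersion.lift a₁ (O.ι ≫ m) r1
  let n' := IsOpenImmersion.lift a₁ (O.ι ≫ m') r2
  have hn : n ≫ a₁ = O.ι ≫ m := IsOpenImmersion.lift_fac _ _ _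
  have hn' : n' ≫ a₁ = O.ι ≫ m' := IsOpenImmersion.lift_fac _ _ _
  have : n = n' := by
    refine hc₁.hom_ext fun i ↦ ?_
    rw [← cancel_mono (u₁.app i), Category.assoc, Category.assoc, (h₁ i).w, reassoc_of% hn,
      reassoc_of% hn', h]
  rw [← hn, ← hn', this]

include hcart hc₁ h₁ in
lemma piece_lift (s : Cone D) (i0 : I) :
    ∃ l : (s.π.app i0 ⁻¹ᵁ (u₁.app i0).opensRange).toScheme ⟶ c.pt,
      ∀ i, l ≫ c.π.app i = (s.π.app i0 ⁻¹ᵁ (u₁.app i0).opensRange).ι ≫ s.π.app i := by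
  set O := s.π.app i0 ⁻¹ᵁ (u₁.app i0).opensRange with hO
  have r : ∀ i, Set.range (O.ι ≫ s.π.app i) ⊆ Set.range (u₁.app i) := by
    rintro i _ ⟨x, rfl⟩
    have : x.1 ∈ s.π.app i ⁻¹ᵁ (u₁.app i).opensRange := by
      rw [preimage_indep u₁ hcart s i i0]
      exact x.2
    exact this
  let s₁ : Cone D₁ :=
    { pt := O.toScheme
      π :=
        { app := fun i ↦ IsOpenImmersion.lift (u₁.app i) (O.ι ≫ s.π.app i) (r i)
          naturality := by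
            intro i j φ
            rw [← cancel_mono (u₁.app j)]
            simp only [Functor.const_obj_obj, Functor.const_obj_map, Category.id_comp,
              Category.assoc, IsOpenImmersion.lift_fac]
            rw [u₁.naturality, IsOpenImmersion.lift_fac_assoc, Category.assoc, s.w] } }
  refine ⟨hc₁.lift s₁ ≫ a₁, fun i ↦ ?_⟩
  rw [Category.assoc, ← (h₁ i).w, ← Category.assoc, hc₁.fac]
  exact IsOpenImmersion.lift_fac _ _ _

end Piece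


section Main
variable {I : Type*} [Category I] [IsCofiltered I]
  {D D₁ D₂ : I ⥤ Scheme.{u}} (u₁ : D₁ ⟶ D) (u₂ : D₂ ⟶ D)
  [∀ i, IsOpenImmersion (u₁.app i)] [∀ i, IsOpenImmersion (u₂.app i)]
  (hcov : ∀ (i : I) (x : D.obj i), x ∈ Set.range (u₁.app i) ∨ x ∈ Set.range (u₂.app i))
  (hcart₁ : ∀ {i j : I} (φ : i ⟶ j), IsPullback (D₁.map φ) (u₁.app i) (u₁.app j) (D.map φ))
  (hcart₂ : ∀ {i j : I} (φ : i ⟶ j), IsPullback (D₂.map φ) (u₂.app i) (u₂.app j) (D.map φ))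
  (c : Cone D) (c₁ : Cone D₁) (c₂ : Cone D₂) (hc₁ : IsLimit c₁) (hc₂ : IsLimit c₂)
  (a₁ : c₁.pt ⟶ c.pt) (a₂ : c₂.pt ⟶ c.pt) [IsOpenImmersion a₁] [IsOpenImmersion a₂]
  (h₁ : ∀ i, IsPullback (c₁.π.app i) a₁ (u₁.app i) (c.π.app i))
  (h₂ : ∀ i, IsPullback (c₂.π.app i) a₂ (u₂.app i) (c.π.app i))

include hcov hc₁ hc₂ h₁ h₂ in
lemma joint_monic {T : Scheme.{u}} (m m' : T ⟶ c.pt)
    (h : ∀ i, m ≫ c.π.app i = m' ≫ c.π.app i) : m = m' := by
  obtain ⟨i0⟩ := IsCofiltered.nonempty (C := I)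
  obtain ⟨e1, k1⟩ := piece_ext u₁ c c₁ hc₁ a₁ h₁ m m' h
  obtain ⟨e2, k2⟩ := piece_ext u₂ c c₂ hc₂ a₂ h₂ m m' h
  refine hom_ext2 (m ⁻¹ᵁ a₁.opensRange).ι (m ⁻¹ᵁ a₂.opensRange).ι ?_ m m' k1 k2
  intro x
  rcases hcov i0 (c.π.app i0 (m x)) with hx | hx
  · left
    have : m x ∈ c.π.app i0 ⁻¹ᵁ (u₁.app i0).opensRange := hx
    rw [← opensRange_a u₁ c c₁ a₁ h₁ i0] at this
    simpa using this
  · right
    have : m x ∈ c.π.app i0 ⁻¹ᵁ (u₂.app i0).opensRange := hx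
    rw [← opensRange_a u₂ c c₂ a₂ h₂ i0] at this
    simpa using this

include hcov hcart₁ hcart₂ hc₁ hc₂ h₁ h₂ in
theorem isLimit_of_cover : Nonempty (IsLimit c) := by
  obtain ⟨i0⟩ := IsCofiltered.nonempty (C := I)
  have ex : ∀ s : Cone D, ∃ g : s.pt ⟶ c.pt, ∀ i, g ≫ c.π.app i = s.π.app i := by
    intro s
    let O₁ : s.pt.Opens := s.π.app i0 ⁻¹ᵁ (u₁.app i0).opensRange
    let O₂ : s.pt.Opens := s.π.app i0 ⁻¹ᵁ (u₂.app i0).opensRange
    obtain ⟨l₁, hl₁⟩ : ∃ l : O₁.toScheme ⟶ c.pt, ∀ i, l ≫ c.π.app i = O₁.ι ≫ s.π.app i :=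
      piece_lift u₁ hcart₁ c c₁ hc₁ a₁ h₁ s i0
    obtain ⟨l₂, hl₂⟩ : ∃ l : O₂.toScheme ⟶ c.pt, ∀ i, l ≫ c.π.app i = O₂.ι ≫ s.π.app i :=
      piece_lift u₂ hcart₂ c c₂ hc₂ a₂ h₂ s i0
    have hO : ∀ x : s.pt, x ∈ Set.range O₁.ι ∨ x ∈ Set.range O₂.ι := by
      intro x
      rcases hcov i0 (s.π.app i0 x) with hx | hx
      · left
        have : x ∈ O₁ := hx
        simpa using this
      · right
        have : x ∈ O₂ := hx
        simpa using this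
    have compat : pullback.fst O₁.ι O₂.ι ≫ l₁ = pullback.snd O₁.ι O₂.ι ≫ l₂ := by
      refine joint_monic u₁ u₂ hcov c c₁ c₂ hc₁ hc₂ a₁ a₂ h₁ h₂ _ _ fun i ↦ ?_
      rw [Category.assoc, Category.assoc, hl₁, hl₂, pullback.condition_assoc]
    obtain ⟨g, hg1, hg2⟩ := glue2 O₁.ι O₂.ι hO l₁ l₂ compat
    refine ⟨g, fun i ↦ hom_ext2 O₁.ι O₂.ι hO _ _ ?_ ?_⟩
    · rw [reassoc_of% hg1, hl₁]
    · rw [reassoc_of% hg2, hl₂]
  choose g hg using ex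
  exact ⟨{ lift := g
           fac := hg
           uniq := fun s m hm ↦ joint_monic u₁ u₂ hcov c c₁ c₂ hc₁ hc₂ a₁ a₂ h₁ h₂ _ _
             fun i ↦ by rw [hm, hg] }⟩

end Main

end Groth.Agent.Lead.NApxB
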