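import Groth.Agent.Lead.NApxB
import Mathlib
open CategoryTheory Limits AlgebraicGeometry

namespace Groth.Agent.Lead.NApxC
universe u
open Groth.Agent.Lead.Glue2 Groth.Agent.Lead.NApxB

section PushoutMap
variable {U V W U' V' W' : Scheme.{u}} (α : W ⟶ U) (β : W ⟶ V) (α' : W' ⟶ U') (β' : W' ⟶ V')
  [IsOpenImmersion α] [IsOpenImmersion β] [IsOpenImmersion α'] [IsOpenImmersion β']
  (p : U' ⟶ U) (q : V' ⟶ V) (r : W' ⟶ W)
  (sqα : IsPullback r α' α p) (sqβ : IsPullback r β' β q)

/-- the induced map on glued schemes -/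
noncomputable def pmap : pushout α' β' ⟶ pushout α β :=
  pushout.map α' β' α β p q r sqα.w.symm sqβ.w.symm

@[reassoc (attr := simp)]
lemma inl_pmap : pushout.inl α' β' ≫ pmap α β α' β' p q r sqα sqβ = p ≫ pushout.inl α β := by
  unfold pmap
  exact pushout.inl_desc _ _ _

@[reassoc (attr := simp)]
lemma inr_pmap : pushout.inr α' β' ≫ pmap α β α' β' p q r sqα sqβ = q ≫ pushout.inr α β := by
  unfold pmap
  exact pushout.inr_desc _ _ _

lemma pmap_preimage_inl :
    pmap α β α' β' p q r sqα sqβ ⁻¹ᵁ (pushout.inl α β).opensRange =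
      (pushout.inl α' β').opensRange := by
  ext y
  constructor
  · intro hy
    rcases inl_or_inr α' β' y with hy' | ⟨z, rfl⟩
    · exact hy'
    · have e1 : pmap α β α' β' p q r sqα sqβ (pushout.inr α' β' z) = pushout.inr α β (q z) := by
        rw [← Scheme.Hom.comp_apply, inr_pmap, Scheme.Hom.comp_apply]
      obtain ⟨x, hx⟩ := hy
      obtain ⟨w, -, hw2⟩ := inl_eq_inr α β (hx.trans e1)
      have : z ∈ Set.range β' := by
        rw [range_snd_of_isPullback sqβ]
        exact ⟨w, hw2⟩
      obtain ⟨w', rfl⟩ := this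
      refine ⟨α' w', ?_⟩
      rw [← Scheme.Hom.comp_apply, pushout.condition, Scheme.Hom.comp_apply]
  · rintro ⟨x, rfl⟩
    exact ⟨p x, by rw [← Scheme.Hom.comp_apply, ← inl_pmap α β α' β' p q r sqα sqβ, Scheme.Hom.comp_apply]⟩

lemma pmap_preimage_inr :
    pmap α β α' β' p q r sqα sqβ ⁻¹ᵁ (pushout.inr α β).opensRange =
      (pushout.inr α' β').opensRange := by
  ext y
  constructor
  · intro hy
    rcases inl_or_inr α' β' y with ⟨z, rfl⟩ | hy'
    · have e1 : pmap α β α' β' p q r sqα sqβ (pushout.inl α' β' z) = pushout.inl α β (p z) := by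
        rw [← Scheme.Hom.comp_apply, inl_pmap, Scheme.Hom.comp_apply]
      obtain ⟨x, hx⟩ := hy
      obtain ⟨w, hw1, -⟩ := inl_eq_inr α β (e1.symm.trans hx.symm)
      have : z ∈ Set.range α' := by
        rw [range_snd_of_isPullback sqα]
        exact ⟨w, hw1⟩
      obtain ⟨w', rfl⟩ := this
      refine ⟨β' w', ?_⟩
      rw [← Scheme.Hom.comp_apply, ← pushout.condition, Scheme.Hom.comp_apply]
    · exact hy'
  · rintro ⟨x, rfl⟩
    exact ⟨q x, by rw [← Scheme.Hom.comp_apply, ← inr_pmap α β α' β' p q r sqα sqβ, Scheme.Hom.comp_apply]⟩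

lemma isPullback_inl :
    IsPullback p (pushout.inl α' β') (pushout.inl α β) (pmap α β α' β' p q r sqα sqβ) :=
  IsOpenImmersion.isPullback _ _ _ _ (inl_pmap α β α' β' p q r sqα sqβ) (pmap_preimage_inl α β α' β' p q r sqα sqβ)

lemma isPullback_inr :
    IsPullback q (pushout.inr α' β') (pushout.inr α β) (pmap α β α' β' p q r sqα sqβ) :=
  IsOpenImmersion.isPullback _ _ _ _ (inr_pmap α β α' β' p q r sqα sqβ) (pmap_preimage_inr α β α' β' p q r sqα sqβ)

lemma isAffineHom_pmap [IsAffineHom p] [IsAffineHom q] :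
    IsAffineHom (pmap α β α' β' p q r sqα sqβ) := by
  rw [IsZariskiLocalAtTarget.iff_of_openCover (P := @IsAffineHom)
    (cover2 (pushout.inl α β) (pushout.inr α β) (inl_or_inr α β))]
  rintro (_ | _)
  · change IsAffineHom (pullback.snd (pmap α β α' β' p q r sqα sqβ) (pushout.inr α β))
    have h := (isPullback_inr α β α' β' p q r sqα sqβ).flip
    have e : h.isoPullback.hom ≫ pullback.snd _ _ = q := h.isoPullback_hom_snd
    rw [← MorphismProperty.cancel_left_of_respectsIso @IsAffineHom h.isoPullback.hom, e]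
    infer_instance
  · change IsAffineHom (pullback.snd (pmap α β α' β' p q r sqα sqβ) (pushout.inl α β))
    have h := (isPullback_inl α β α' β' p q r sqα sqβ).flip
    have e : h.isoPullback.hom ≫ pullback.snd _ _ = p := h.isoPullback_hom_snd
    rw [← MorphismProperty.cancel_left_of_respectsIso @IsAffineHom h.isoPullback.hom, e]
    infer_instance

end PushoutMap

end Groth.Agent.Lead.NApxC
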