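import Mathlib
open CategoryTheory Limits AlgebraicGeometry

namespace Groth.Agent.Lead.NApxD
universe u

section
variable {X : Scheme.{u}} {A : CommRingCat.{u}} (φ : A ⟶ Γ(X, ⊤))

/-- basic open of `Spec A` as an open of the scheme -/
abbrev D (a : A) : (Spec A).Opens := PrimeSpectrum.basicOpen a

/-- the morphism to `Spec A` induced by a ring map to global sections -/
noncomputable def toSpec : X ⟶ Spec A := X.toSpecΓ ≫ Spec.map φ

lemma toSpec_preimage_basicOpen (a : A) :
    toSpec φ ⁻¹ᵁ (PrimeSpectrum.basicOpen a) = X.basicOpen (φ a) := by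
  unfold toSpec
  rw [Scheme.Hom.comp_preimage]
  have : Spec.map φ ⁻¹ᵁ (PrimeSpectrum.basicOpen a) = PrimeSpectrum.basicOpen (φ a) := by
    ext x
    simp
  rw [this, Scheme.toSpecΓ_preimage_basicOpen]

/-- the restriction ring map `A → Γ(X, U)` -/
noncomputable def resHom (U : X.Opens) : A ⟶ Γ(X, U) := φ ≫ X.presheaf.map (homOfLE le_top).op

lemma ι_toSpec (U : X.Opens) : U.ι ≫ toSpec φ = U.toSpecΓ ≫ Spec.map (resHom φ U) := by
  unfold toSpec resHom
  rw [Spec.map_comp, ← Scheme.Opens.toSpecΓ_SpecMap_presheaf_map_top_assoc]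

variable {ι : Type*} (a : ι → A)
  (haff : ∀ k, IsAffineOpen (X.basicOpen (φ (a k))))
  (hcov : ∀ x : X, ∃ k, x ∈ X.basicOpen (φ (a k)))
  (hloc : ∀ k, @IsLocalization.Away A _ (a k) Γ(X, X.basicOpen (φ (a k))) _
    (RingHom.toAlgebra (resHom φ (X.basicOpen (φ (a k)))).hom))

include haff hloc in
lemma isOpenImmersion_ι_toSpec (k : ι) :
    IsOpenImmersion ((X.basicOpen (φ (a k))).ι ≫ toSpec φ) := by
  rw [ι_toSpec, ← (haff k).isoSpec_hom]
  letI := RingHom.toAlgebra (resHom φ (X.basicOpen (φ (a k)))).hom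
  have := hloc k
  have : IsOpenImmersion (Spec.map (resHom φ (X.basicOpen (φ (a k))))) :=
    IsOpenImmersion.of_isLocalization (R := A) (S := Γ(X, X.basicOpen (φ (a k)))) (a k)
  infer_instance

include haff hloc in
lemma range_ι_toSpec (k : ι) :
    Set.range ((X.basicOpen (φ (a k))).ι ≫ toSpec φ) =
      (D (a k) : Set (Spec A)) := by
  rw [ι_toSpec, ← (haff k).isoSpec_hom]
  letI := RingHom.toAlgebra (resHom φ (X.basicOpen (φ (a k)))).hom
  have := hloc k
  simp only [Scheme.Hom.comp_base, TopCat.hom_comp, ContinuousMap.coe_comp]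
  rw [Set.range_comp, Set.range_eq_univ.mpr (haff k).isoSpec.hom.surjective, Set.image_univ]
  exact PrimeSpectrum.localization_away_comap_range (S := Γ(X, X.basicOpen (φ (a k)))) (a k)

include haff hcov hloc in
theorem isOpenImmersion_toSpec : IsOpenImmersion (toSpec φ) := by
  refine IsOpenImmersion.of_forall_source_exists _ ?_ ?_
  · intro x y hxy
    obtain ⟨k, hk⟩ := hcov x
    have hx : x ∈ toSpec φ ⁻¹ᵁ (PrimeSpectrum.basicOpen (a k)) := by
      rw [toSpec_preimage_basicOpen]; exact hk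
    have hy : y ∈ toSpec φ ⁻¹ᵁ (PrimeSpectrum.basicOpen (a k)) := by
      change toSpec φ y ∈ (PrimeSpectrum.basicOpen (a k) : (Spec A).Opens)
      rw [← hxy]; exact hx
    rw [toSpec_preimage_basicOpen] at hy
    have := isOpenImmersion_ι_toSpec φ a haff hloc k
    have hinj := ((X.basicOpen (φ (a k))).ι ≫ toSpec φ).isOpenEmbedding.injective
    have := @hinj ⟨x, hk⟩ ⟨y, hy⟩ (by simpa using hxy)
    exact congrArg Subtype.val this
  · intro x
    obtain ⟨k, hk⟩ := hcov x
    exact ⟨_, (X.basicOpen (φ (a k))).ι, inferInstance, by simpa using hk,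
      isOpenImmersion_ι_toSpec φ a haff hloc k⟩

include haff hcov hloc in
theorem range_toSpec :
    Set.range (toSpec φ) = ⋃ k, (D (a k) : Set (Spec A)) := by
  ext y
  simp only [Set.mem_range, Set.mem_iUnion]
  constructor
  · rintro ⟨x, rfl⟩
    obtain ⟨k, hk⟩ := hcov x
    refine ⟨k, ?_⟩
    have : x ∈ toSpec φ ⁻¹ᵁ (PrimeSpectrum.basicOpen (a k)) := by
      rw [toSpec_preimage_basicOpen]; exact hk
    exact this
  · rintro ⟨k, hk⟩
    have : y ∈ Set.range ((X.basicOpen (φ (a k))).ι ≫ toSpec φ) := by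
      rw [range_ι_toSpec φ a haff hloc k]; exact hk
    obtain ⟨x, rfl⟩ := this
    exact ⟨x.1, rfl⟩

end
end Groth.Agent.Lead.NApxD
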