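import Mathlib
open CategoryTheory Limits AlgebraicGeometry

namespace Groth.Agent.Lead.NApxE
universe u

section Beta
variable {W' V : Scheme.{u}} [IsAffine V] (β : W' ⟶ V) [IsOpenImmersion β]
  (g : Γ(V, ⊤)) (hg : V.basicOpen g ≤ β.opensRange)

lemma le_preimage : W'.basicOpen (β.appTop g) ≤ β ⁻¹ᵁ V.basicOpen g := by
  rw [Scheme.preimage_basicOpen_top]

include hg in
lemma isIso_appLE : IsIso (β.appLE (V.basicOpen g) (W'.basicOpen (β.appTop g)) (le_preimage β g)) := by
  have := β.isIso_app (V.basicOpen g) hg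
  unfold Scheme.Hom.appLE
  have : IsIso (W'.presheaf.map (homOfLE (le_preimage β g)).op) := by
    have h2 : β ⁻¹ᵁ V.basicOpen g ≤ W'.basicOpen (β.appTop g) := by
      rw [Scheme.preimage_basicOpen_top]
    refine ⟨W'.presheaf.map (homOfLE h2).op, ?_, ?_⟩
    · rw [← Functor.map_comp]; exact W'.presheaf.map_id _
    · rw [← Functor.map_comp]; exact W'.presheaf.map_id _
  infer_instance

lemma appTop_res (r : Γ(V, ⊤)) :
    W'.presheaf.map (homOfLE (le_top : W'.basicOpen (β.appTop g) ≤ ⊤)).op (β.appTop r) =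
      β.appLE (V.basicOpen g) (W'.basicOpen (β.appTop g)) (le_preimage β g)
        (V.presheaf.map (homOfLE (le_top : V.basicOpen g ≤ ⊤)).op r) := by
  have e1 : β.appTop ≫ W'.presheaf.map (homOfLE (le_top : W'.basicOpen (β.appTop g) ≤ ⊤)).op =
      β.appLE ⊤ (W'.basicOpen (β.appTop g)) le_top := rfl
  rw [← CommRingCat.comp_apply, ← CommRingCat.comp_apply, Scheme.Hom.map_appLE, e1]

include hg in
theorem rho_inj (r : Γ(V, ⊤)) (h : β.appTop r = 0) : ∃ m : ℕ, g ^ m * r = 0 := by
  have := isIso_appLE β g hg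
  have h1 := appTop_res β g r
  rw [h, map_zero] at h1
  have h2 : V.presheaf.map (homOfLE (le_top : V.basicOpen g ≤ ⊤)).op r = 0 := by
    have hinj := (ConcreteCategory.bijective_of_isIso
      (β.appLE (V.basicOpen g) (W'.basicOpen (β.appTop g)) (le_preimage β g))).1
    apply hinj
    rw [← h1, map_zero]
  exact exists_pow_mul_eq_zero_of_res_basicOpen_eq_zero_of_isCompact V (U := ⊤)
    isCompact_univ r g h2

include hg in
theorem rho_surj [CompactSpace W'] (b : Γ(W', ⊤)) :
    ∃ (m : ℕ) (r : Γ(V, ⊤)), β.appTop r = β.appTop g ^ m * b := by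
  have := isIso_appLE β g hg
  set a := β.appLE (V.basicOpen g) (W'.basicOpen (β.appTop g)) (le_preimage β g) with ha
  obtain ⟨y, hy⟩ := (ConcreteCategory.bijective_of_isIso a).2
    (W'.presheaf.map (homOfLE (le_top : W'.basicOpen (β.appTop g) ≤ ⊤)).op b)
  obtain ⟨n, z, hz⟩ := exists_eq_pow_mul_of_isAffineOpen V ⊤ (isAffineOpen_top V) g y
  dsimp only [TopCat.Presheaf.restrictOpenCommRingCat_apply] at hz
  have h1 : W'.presheaf.map (homOfLE (le_top : W'.basicOpen (β.appTop g) ≤ ⊤)).op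
      (β.appTop z - β.appTop g ^ n * b) = 0 := by
    rw [map_sub, map_mul, map_pow, appTop_res β g z, appTop_res β g g, hz, map_mul, map_pow, hy,
      sub_self]
  obtain ⟨m, hm⟩ := exists_pow_mul_eq_zero_of_res_basicOpen_eq_zero_of_isCompact W' (U := ⊤)
    isCompact_univ _ (β.appTop g) h1
  refine ⟨m + n, g ^ m * z, ?_⟩
  rw [mul_sub, sub_eq_zero] at hm
  rw [map_mul, map_pow, hm, pow_add, mul_assoc]

end Beta

end Groth.Agent.Lead.NApxE
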