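import Groth.Agent.Lead.NApxA
import Groth.Agent.Lead.NApxB
import Groth.Agent.Lead.NApxD
import Groth.Agent.Lead.NApxE
import Mathlib
open CategoryTheory Limits AlgebraicGeometry

namespace Groth.Agent.Lead.NApxF
universe u
open Groth.Agent.Lead.NApxA Groth.Agent.Lead.NApxD Groth.Agent.Lead.NApxE

lemma toSpec_naturality {X Y : Scheme.{u}} {A : CommRingCat.{u}} (h : X ⟶ Y) (φ : A ⟶ Γ(Y, ⊤)) :
    h ≫ toSpec φ = toSpec (φ ≫ h.appTop) := by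
  unfold toSpec
  rw [Spec.map_comp, ← Scheme.toSpecΓ_naturality_assoc]

lemma toSpec_SpecMap {X : Scheme.{u}} {A A' : CommRingCat.{u}} (ψ : A ⟶ A') (φ : A' ⟶ Γ(X, ⊤)) :
    toSpec φ ≫ Spec.map ψ = toSpec (ψ ≫ φ) := by
  unfold toSpec
  rw [Spec.map_comp, Category.assoc]

section Level
variable {W' V Xi : Scheme.{u}} (β : W' ⟶ V) (π : W' ⟶ Xi)

/-- the fibre product ring at a level -/
abbrev P : Subalgebra ℤ (Γ(V, ⊤) × Γ(Xi, ⊤)) := fib β.appTop.hom π.appTop.hom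

variable (A : Subalgebra ℤ (Γ(V, ⊤) × Γ(Xi, ⊤)))

/-- projection to sections of the level scheme -/
def φX : CommRingCat.of A ⟶ Γ(Xi, ⊤) :=
  CommRingCat.ofHom ((RingHom.snd Γ(V, ⊤) Γ(Xi, ⊤)).comp A.val.toRingHom)

/-- projection to sections of the affine piece -/
def φV : CommRingCat.of A ⟶ Γ(V, ⊤) :=
  CommRingCat.ofHom ((RingHom.fst Γ(V, ⊤) Γ(Xi, ⊤)).comp A.val.toRingHom)

@[simp] lemma φX_apply (x : A) : φX A x = x.1.2 := rfl
@[simp] lemma φV_apply (x : A) : φV A x = x.1.1 := rfl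

/-- the map from the level scheme -/
noncomputable def γ : Xi ⟶ Spec (CommRingCat.of A) := toSpec (φX A)

/-- the map from the affine piece -/
noncomputable def δ : V ⟶ Spec (CommRingCat.of A) := toSpec (φV A)

lemma comm (hA : A ≤ P β π) : π ≫ γ A = β ≫ δ A := by
  unfold γ δ
  rw [toSpec_naturality, toSpec_naturality]
  congr 1
  ext x
  exact ((mem_fib _ _).mp (hA x.2)).symm

end Level


section Good
variable {W' V Xi : Scheme.{u}} [IsAffine V] [CompactSpace W'] (β : W' ⟶ V) [IsOpenImmersion β]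
  (π : W' ⟶ Xi) [CompactSpace Xi] [QuasiSeparatedSpace Xi]
  {K : Type*} (g : K → Γ(V, ⊤)) (f : K → Γ(Xi, ⊤))
  (hgf : ∀ k, β.appTop (g k) = π.appTop (f k))
  (hgβ : ∀ k, V.basicOpen (g k) ≤ β.opensRange)
  (hβg : ∀ y ∈ β.opensRange, ∃ k, y ∈ V.basicOpen (g k))
  (haff : ∀ k, IsAffineOpen (Xi.basicOpen (f k)))
  (hcov : ∀ x : Xi, ∃ k, x ∈ Xi.basicOpen (f k))

/-- good subalgebras of the fibre product ring -/
structure Good (A : Subalgebra ℤ (Γ(V, ⊤) × Γ(Xi, ⊤))) : Prop where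
  fg : A.FG
  le : A ≤ P β π
  mem : ∀ k, (g k, f k) ∈ A
  surj : ∀ k (b : Γ(Xi, ⊤)), ∃ n : ℕ, ∃ x ∈ A, x.2 = f k ^ n * b

variable {β π g f}

lemma Good.mono {A A' : Subalgebra ℤ (Γ(V, ⊤) × Γ(Xi, ⊤))} (h : Good β π g f A) (hAA' : A ≤ A')
    (hfg : A'.FG) (hle : A' ≤ P β π) : Good β π g f A' :=
  ⟨hfg, hle, fun k ↦ hAA' (h.mem k), fun k b ↦ by
    obtain ⟨n, x, hx, e⟩ := h.surj k b
    exact ⟨n, x, hAA' hx, e⟩⟩

/-- the distinguished elements -/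
def Good.a {A : Subalgebra ℤ (Γ(V, ⊤) × Γ(Xi, ⊤))} (h : Good β π g f A) (k : K) :
    CommRingCat.of A := ⟨(g k, f k), h.mem k⟩

include hgf hgβ in
lemma Good.isLocalization {A : Subalgebra ℤ (Γ(V, ⊤) × Γ(Xi, ⊤))} (h : Good β π g f A) (k : K) :
    @IsLocalization.Away (CommRingCat.of A) _ (h.a k) Γ(Xi, Xi.basicOpen (φX A (h.a k))) _
    (RingHom.toAlgebra (resHom (φX A) (Xi.basicOpen (φX A (h.a k)))).hom) := by
  haveI : IsLocalization.Away (f k) Γ(Xi, Xi.basicOpen (f k)) :=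
    isLocalization_basicOpen_of_qcqs (U := ⊤) isCompact_univ isQuasiSeparated_univ (f k)
  exact isLocalization_away (C := Γ(Xi, Xi.basicOpen (f k))) β.appTop.hom π.appTop.hom (g k) (f k)
    (hgf k) (rho_inj β (g k) (hgβ k)) A h.le (h.mem k) (h.surj k)

include hgf hgβ haff hcov in
lemma Good.isOpenImmersion_γ {A : Subalgebra ℤ (Γ(V, ⊤) × Γ(Xi, ⊤))} (h : Good β π g f A) :
    IsOpenImmersion (γ A) :=
  isOpenImmersion_toSpec (φX A) h.a haff hcov (h.isLocalization hgf hgβ)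

include hgf hgβ haff hcov in
lemma Good.range_γ {A : Subalgebra ℤ (Γ(V, ⊤) × Γ(Xi, ⊤))} (h : Good β π g f A) :
    Set.range (γ A) = ⋃ k, (D (h.a k) : Set (Spec (CommRingCat.of A))) :=
  range_toSpec (φX A) h.a haff hcov (h.isLocalization hgf hgβ)

lemma Good.δ_preimage {A : Subalgebra ℤ (Γ(V, ⊤) × Γ(Xi, ⊤))} (h : Good β π g f A) (k : K) :
    δ A ⁻¹ᵁ D (h.a k) = V.basicOpen (g k) :=
  toSpec_preimage_basicOpen (φV A) (h.a k)

lemma Good.γ_preimage {A : Subalgebra ℤ (Γ(V, ⊤) × Γ(Xi, ⊤))} (h : Good β π g f A) (k : K) :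
    γ A ⁻¹ᵁ D (h.a k) = Xi.basicOpen (f k) :=
  toSpec_preimage_basicOpen (φX A) (h.a k)

include hgf hgβ hβg haff hcov in
lemma Good.isPullback {A : Subalgebra ℤ (Γ(V, ⊤) × Γ(Xi, ⊤))} (h : Good β π g f A) :
    haveI := h.isOpenImmersion_γ hgf hgβ haff hcov
    IsPullback π β (γ A) (δ A) := by
  haveI := h.isOpenImmersion_γ hgf hgβ haff hcov
  refine IsOpenImmersion.isPullback _ _ _ _ (comm β π A h.le).symm ?_
  ext y
  change δ A y ∈ Set.range (γ A) ↔ y ∈ β.opensRange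
  rw [h.range_γ hgf hgβ haff hcov]
  simp only [Set.mem_iUnion]
  constructor
  · rintro ⟨k, hk⟩
    have : y ∈ δ A ⁻¹ᵁ D (h.a k) := hk
    rw [h.δ_preimage] at this
    exact hgβ k this
  · intro hy
    obtain ⟨k, hk⟩ := hβg y hy
    refine ⟨k, ?_⟩
    have : y ∈ δ A ⁻¹ᵁ D (h.a k) := by rw [h.δ_preimage]; exact hk
    exact this

lemma fg_iSup_subalgebra {S T : Type*} [CommRing S] [CommRing T] [Algebra S T] {K : Type*} [Finite K]
    (A : K → Subalgebra S T) (h : ∀ k, (A k).FG) : (⨆ k, A k).FG := by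
  classical
  cases nonempty_fintype K
  rw [← Finset.sup_univ_eq_iSup]
  exact Finset.sup_induction (p := fun B : Subalgebra S T ↦ B.FG) Subalgebra.fg_bot
    (fun _ h1 _ h2 ↦ h1.sup h2) (fun k _ ↦ h k)

include hgf hgβ in
theorem exists_good [Finite K] (hft : ∀ k, Algebra.FiniteType ℤ Γ(Xi, Xi.basicOpen (f k)))
    (A0 : Subalgebra ℤ (Γ(V, ⊤) × Γ(Xi, ⊤))) (hA0fg : A0.FG) (hA0 : A0 ≤ P β π) :
    ∃ A : Subalgebra ℤ (Γ(V, ⊤) × Γ(Xi, ⊤)), A0 ≤ A ∧ Good β π g f A := by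
  have key : ∀ k, ∃ A : Subalgebra ℤ (Γ(V, ⊤) × Γ(Xi, ⊤)), A.FG ∧ A0 ≤ A ∧ A ≤ P β π ∧
      (g k, f k) ∈ A ∧ ∀ b : Γ(Xi, ⊤), ∃ n : ℕ, ∃ x ∈ A, x.2 = f k ^ n * b := by
    intro k
    haveI : IsLocalization.Away (f k) Γ(Xi, Xi.basicOpen (f k)) :=
      isLocalization_basicOpen_of_qcqs (U := ⊤) isCompact_univ isQuasiSeparated_univ (f k)
    haveI := hft k
    exact NApxA.exists_good (C := Γ(Xi, Xi.basicOpen (f k))) β.appTop.hom π.appTop.hom (g k) (f k)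
      (hgf k) (fun b ↦ rho_surj β (g k) (hgβ k) b) A0 hA0fg hA0
  choose Ak h1 h2 h3 h4 h5 using key
  refine ⟨A0 ⊔ ⨆ k, Ak k, le_sup_left, ?_, ?_, ?_, ?_⟩
  · exact hA0fg.sup (fg_iSup_subalgebra Ak h1)
  · exact sup_le hA0 (iSup_le h3)
  · intro k
    exact (le_sup_right : _ ≤ A0 ⊔ ⨆ k, Ak k) ((le_iSup Ak k) (h4 k))
  · intro k b
    obtain ⟨n, x, hx, e⟩ := h5 k b
    exact ⟨n, x, (le_sup_right : _ ≤ A0 ⊔ ⨆ k, Ak k) ((le_iSup Ak k) hx), e⟩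

end Good


section Trans
variable {W' V Xi Xi' : Scheme.{u}} (β : W' ⟶ V) (π : W' ⟶ Xi) (π' : W' ⟶ Xi') (t : Xi' ⟶ Xi)
  (A : Subalgebra ℤ (Γ(V, ⊤) × Γ(Xi, ⊤))) (A' : Subalgebra ℤ (Γ(V, ⊤) × Γ(Xi', ⊤)))
  (hAA' : ∀ x ∈ A, (x.1, t.appTop x.2) ∈ A')

/-- the transition ring map -/
def ψ : CommRingCat.of A ⟶ CommRingCat.of A' :=
  CommRingCat.ofHom (RingHom.codRestrict
    ((RingHom.prodMap (RingHom.id _) t.appTop.hom).comp A.val.toRingHom) A'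
    (fun x ↦ hAA' x.1 x.2))

@[simp] lemma ψ_apply_coe (x : A) : (ψ t A A' hAA' x : A').1 = (x.1.1, t.appTop x.1.2) := rfl

lemma ψ_φX : ψ t A A' hAA' ≫ φX A' = φX A ≫ t.appTop := by
  ext x
  rfl

lemma ψ_φV : ψ t A A' hAA' ≫ φV A' = φV A := by
  ext x
  rfl

lemma γ_ψ : γ A' ≫ Spec.map (ψ t A A' hAA') = t ≫ γ A := by
  unfold γ
  rw [toSpec_SpecMap, toSpec_naturality, ψ_φX]

lemma δ_ψ : δ A' ≫ Spec.map (ψ t A A' hAA') = δ A := by
  unfold δ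
  rw [toSpec_SpecMap, ψ_φV]

variable [IsAffine V] [CompactSpace W'] [IsOpenImmersion β]
  [CompactSpace Xi] [QuasiSeparatedSpace Xi] [CompactSpace Xi'] [QuasiSeparatedSpace Xi']
  {K : Type*} {g : K → Γ(V, ⊤)} {f : K → Γ(Xi, ⊤)} {f' : K → Γ(Xi', ⊤)}
  (hff' : ∀ k, f' k = t.appTop (f k))
  (hgf : ∀ k, β.appTop (g k) = π.appTop (f k))
  (hgf' : ∀ k, β.appTop (g k) = π'.appTop (f' k))
  (hgβ : ∀ k, V.basicOpen (g k) ≤ β.opensRange)
  (haff : ∀ k, IsAffineOpen (Xi.basicOpen (f k)))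
  (hcov : ∀ x : Xi, ∃ k, x ∈ Xi.basicOpen (f k))
  (haff' : ∀ k, IsAffineOpen (Xi'.basicOpen (f' k)))
  (hcov' : ∀ x : Xi', ∃ k, x ∈ Xi'.basicOpen (f' k))

include hff' in
lemma ψ_a (h : Good β π g f A) (h' : Good β π' g f' A') (k : K) :
    ψ t A A' hAA' (h.a k) = h'.a k := by
  apply Subtype.ext
  change (g k, t.appTop (f k)) = (g k, f' k)
  rw [hff']

include hff' hgf hgf' hgβ haff hcov haff' hcov' in
lemma isPullback_trans (h : Good β π g f A) (h' : Good β π' g f' A') :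
    haveI := h.isOpenImmersion_γ hgf hgβ haff hcov
    haveI := h'.isOpenImmersion_γ hgf' hgβ haff' hcov'
    IsPullback t (γ A') (γ A) (Spec.map (ψ t A A' hAA')) := by
  haveI := h.isOpenImmersion_γ hgf hgβ haff hcov
  haveI := h'.isOpenImmersion_γ hgf' hgβ haff' hcov'
  refine IsOpenImmersion.isPullback _ _ _ _ (γ_ψ t A A' hAA') ?_
  ext y
  change Spec.map (ψ t A A' hAA') y ∈ Set.range (γ A) ↔ y ∈ Set.range (γ A')
  rw [h.range_γ hgf hgβ haff hcov, h'.range_γ hgf' hgβ haff' hcov']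
  simp only [Set.mem_iUnion]
  refine exists_congr fun k ↦ ?_
  rw [← ψ_a β π π' t A A' hAA' hff' h h' k]
  rfl

end Trans

end Groth.Agent.Lead.NApxF
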