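import Groth.Agent.Lead.NApxC
import Groth.Agent.Lead.NApxF
import Mathlib
open CategoryTheory Limits AlgebraicGeometry Opposite

namespace Groth.Agent.Lead.NApxG
universe u
open Groth.Agent.Lead.NApxA Groth.Agent.Lead.NApxB Groth.Agent.Lead.NApxC Groth.Agent.Lead.NApxD
  Groth.Agent.Lead.NApxE Groth.Agent.Lead.NApxF Groth.Agent.Lead.Glue2

section Defs
variable {I : Type u} [Preorder I]
  (X' : Iᵒᵖ ⥤ Scheme.{u}) (c' : Cone X')
  {V : Scheme.{u}} (β : c'.pt ⟶ V)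
  (i1 : I) {K : Type*} (g : K → Γ(V, ⊤)) (f1 : K → Γ(X'.obj (op i1), ⊤))

/-- transition maps -/
abbrev tr {i i' : I} (h : i ≤ i') : X'.obj (op i') ⟶ X'.obj (op i) := X'.map (homOfLE h).op

lemma tr_refl (i : I) : tr X' (le_refl i) = 𝟙 _ := by
  unfold tr
  rw [show (homOfLE (le_refl i)).op = 𝟙 (op i) from rfl, X'.map_id]

lemma tr_trans {i i' i'' : I} (h : i ≤ i') (h' : i' ≤ i'') :
    tr X' h' ≫ tr X' h = tr X' (h.trans h') := by
  unfold tr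
  rw [← X'.map_comp]
  rfl

lemma π_tr {i i' : I} (h : i ≤ i') : c'.π.app (op i') ≫ tr X' h = c'.π.app (op i) :=
  c'.w (homOfLE h).op

/-- the sections at level `i` -/
def fL (i : I) (hi : i1 ≤ i) (k : K) : Γ(X'.obj (op i), ⊤) := (tr X' hi).appTop (f1 k)

lemma fL_tr {i i' : I} (hi : i1 ≤ i) (h : i ≤ i') (k : K) :
    (tr X' h).appTop (fL X' i1 f1 i hi k) = fL X' i1 f1 i' (hi.trans h) k := by
  unfold fL
  rw [← CommRingCat.comp_apply, ← Scheme.Hom.comp_appTop, tr_trans]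

/-- the index set: levels together with good subalgebras -/
structure Idx where
  i : I
  hi : i1 ≤ i
  A : Subalgebra ℤ (Γ(V, ⊤) × Γ(X'.obj (op i), ⊤))
  good : Good β (c'.π.app (op i)) g (fL X' i1 f1 i hi) A
  oi : IsOpenImmersion (γ A)

instance : Preorder (Idx X' c' β i1 g f1) where
  le j j' := ∃ h : j.i ≤ j'.i, ∀ x ∈ j.A, (x.1, (tr X' h).appTop x.2) ∈ j'.A
  le_refl j := ⟨le_rfl, fun x hx ↦ by
    rw [tr_refl]
    simpa using hx⟩
  le_trans j j' j'' := fun ⟨h, H⟩ ⟨h', H'⟩ ↦ ⟨h.trans h', fun x hx ↦ by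
    have := H' _ (H x hx)
    simp only at this
    rwa [← CommRingCat.comp_apply, ← Scheme.Hom.comp_appTop, tr_trans] at this⟩

variable {X' c' β i1 g f1}

instance (j : Idx X' c' β i1 g f1) : IsOpenImmersion (γ j.A) := j.oi

lemma Idx.le_i {j j' : Idx X' c' β i1 g f1} (h : j ≤ j') : j.i ≤ j'.i := h.choose

lemma Idx.le_mem {j j' : Idx X' c' β i1 g f1} (h : j ≤ j') :
    ∀ x ∈ j.A, (x.1, (tr X' (Idx.le_i h)).appTop x.2) ∈ j'.A := h.choose_spec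

end Defs


section Sys
variable {I : Type u} [Preorder I]
  (X X' : Iᵒᵖ ⥤ Scheme.{u}) (ι : X' ⟶ X) [∀ i, IsOpenImmersion (ι.app i)]
  (c : Cone X) (c' : Cone X') (ιc : c'.pt ⟶ c.pt) [IsOpenImmersion ιc]
  (hι : ∀ i, c'.π.app i ≫ ι.app i = ιc ≫ c.π.app i)
  {V : Scheme.{u}} (β : c'.pt ⟶ V) [IsOpenImmersion β]
  (i1 : I) {K : Type*} (g : K → Γ(V, ⊤)) (f1 : K → Γ(X'.obj (op i1), ⊤))

/-- the glued scheme at an index -/
noncomputable def S (j : Idx X' c' β i1 g f1) : Scheme.{u} := pushout (ι.app (op j.i)) (γ j.A)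

/-- first chart -/
noncomputable def inlS (j : Idx X' c' β i1 g f1) : X.obj (op j.i) ⟶ S X X' ι c' β i1 g f1 j :=
  pushout.inl _ _

/-- second chart -/
noncomputable def inrS (j : Idx X' c' β i1 g f1) :
    Spec (CommRingCat.of j.A) ⟶ S X X' ι c' β i1 g f1 j :=
  pushout.inr _ _

instance (j : Idx X' c' β i1 g f1) : IsOpenImmersion (inlS X X' ι c' β i1 g f1 j) :=
  inferInstanceAs (IsOpenImmersion (pushout.inl (ι.app (op j.i)) (γ j.A)))

instance (j : Idx X' c' β i1 g f1) : IsOpenImmersion (inrS X X' ι c' β i1 g f1 j) :=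
  inferInstanceAs (IsOpenImmersion (pushout.inr (ι.app (op j.i)) (γ j.A)))

/-- the transition ring map -/
def ψJ {j j' : Idx X' c' β i1 g f1} (h : j ≤ j') :
    CommRingCat.of j.A ⟶ CommRingCat.of j'.A :=
  ψ (tr X' (Idx.le_i h)) j.A j'.A (Idx.le_mem h)

/-- transition maps of the glued system -/
noncomputable def trS {j j' : Idx X' c' β i1 g f1} (h : j ≤ j') :
    S X X' ι c' β i1 g f1 j' ⟶ S X X' ι c' β i1 g f1 j :=
  pushout.map _ _ _ _ (X.map (homOfLE (Idx.le_i h)).op) (Spec.map (ψJ X' c' β i1 g f1 h))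
    (tr X' (Idx.le_i h)) (ι.naturality _).symm (γ_ψ _ _ _ _)

@[reassoc]
lemma inlS_trS {j j' : Idx X' c' β i1 g f1} (h : j ≤ j') :
    inlS X X' ι c' β i1 g f1 j' ≫ trS X X' ι c' β i1 g f1 h =
      X.map (homOfLE (Idx.le_i h)).op ≫ inlS X X' ι c' β i1 g f1 j :=
  pushout.inl_desc _ _ _

@[reassoc]
lemma inrS_trS {j j' : Idx X' c' β i1 g f1} (h : j ≤ j') :
    inrS X X' ι c' β i1 g f1 j' ≫ trS X X' ι c' β i1 g f1 h =
      Spec.map (ψJ X' c' β i1 g f1 h) ≫ inrS X X' ι c' β i1 g f1 j :=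
  pushout.inr_desc _ _ _

lemma S_hom_ext {j : Idx X' c' β i1 g f1} {Z : Scheme.{u}} (m m' : S X X' ι c' β i1 g f1 j ⟶ Z)
    (h1 : inlS X X' ι c' β i1 g f1 j ≫ m = inlS X X' ι c' β i1 g f1 j ≫ m')
    (h2 : inrS X X' ι c' β i1 g f1 j ≫ m = inrS X X' ι c' β i1 g f1 j ≫ m') : m = m' :=
  pushout.hom_ext h1 h2

lemma ψJ_refl (j : Idx X' c' β i1 g f1) : ψJ X' c' β i1 g f1 (le_refl j) = 𝟙 _ := by
  refine CommRingCat.hom_ext (RingHom.ext fun x ↦ Subtype.ext ?_)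
  change (x.1.1, (tr X' (le_refl j.i)).appTop x.1.2) = x.1
  rw [tr_refl]
  simp

lemma ψJ_trans {j j' j'' : Idx X' c' β i1 g f1} (h : j ≤ j') (h' : j' ≤ j'') :
    ψJ X' c' β i1 g f1 h ≫ ψJ X' c' β i1 g f1 h' = ψJ X' c' β i1 g f1 (h.trans h') := by
  refine CommRingCat.hom_ext (RingHom.ext fun x ↦ Subtype.ext ?_)
  change (x.1.1, (tr X' (Idx.le_i h')).appTop ((tr X' (Idx.le_i h)).appTop x.1.2)) =
    (x.1.1, (tr X' (Idx.le_i (h.trans h'))).appTop x.1.2)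
  rw [← CommRingCat.comp_apply, ← Scheme.Hom.comp_appTop, tr_trans]

lemma trS_refl (j : Idx X' c' β i1 g f1) : trS X X' ι c' β i1 g f1 (le_refl j) = 𝟙 _ := by
  apply S_hom_ext
  · rw [inlS_trS, Category.comp_id]
    rw [show (homOfLE (Idx.le_i (le_refl j))).op = 𝟙 (op j.i) from rfl, X.map_id, Category.id_comp]
  · rw [inrS_trS, Category.comp_id, ψJ_refl, Spec.map_id, Category.id_comp]

lemma trS_trans {j j' j'' : Idx X' c' β i1 g f1} (h : j ≤ j') (h' : j' ≤ j'') :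
    trS X X' ι c' β i1 g f1 h' ≫ trS X X' ι c' β i1 g f1 h =
      trS X X' ι c' β i1 g f1 (h.trans h') := by
  apply S_hom_ext
  · rw [inlS_trS_assoc, inlS_trS, inlS_trS, ← Category.assoc, ← X.map_comp]
    rfl
  · rw [inrS_trS_assoc, inrS_trS, inrS_trS, ← Category.assoc, ← Spec.map_comp, ψJ_trans]

/-- the glued system as a functor -/
noncomputable def DS : (Idx X' c' β i1 g f1)ᵒᵖ ⥤ Scheme.{u} where
  obj j := S X X' ι c' β i1 g f1 j.unop
  map φ := trS X X' ι c' β i1 g f1 φ.unop.le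
  map_id j := trS_refl X X' ι c' β i1 g f1 j.unop
  map_comp φ φ' := (trS_trans X X' ι c' β i1 g f1 φ'.unop.le φ.unop.le).symm

/-- the projections from the glued scheme `c.pt ∪ V` -/
noncomputable def πS (j : Idx X' c' β i1 g f1) : pushout ιc β ⟶ S X X' ι c' β i1 g f1 j :=
  pushout.map ιc β (ι.app (op j.i)) (γ j.A) (c.π.app (op j.i))
    (δ j.A) (c'.π.app (op j.i)) (hι _).symm (comm β _ _ j.good.le).symm

@[reassoc]
lemma inl_πS (j : Idx X' c' β i1 g f1) :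
    pushout.inl ιc β ≫ πS X X' ι c c' ιc hι β i1 g f1 j =
      c.π.app (op j.i) ≫ inlS X X' ι c' β i1 g f1 j :=
  pushout.inl_desc _ _ _

@[reassoc]
lemma inr_πS (j : Idx X' c' β i1 g f1) :
    pushout.inr ιc β ≫ πS X X' ι c c' ιc hι β i1 g f1 j =
      δ j.A ≫ inrS X X' ι c' β i1 g f1 j :=
  pushout.inr_desc _ _ _

lemma πS_trS {j j' : Idx X' c' β i1 g f1} (h : j ≤ j') :
    πS X X' ι c c' ιc hι β i1 g f1 j' ≫ trS X X' ι c' β i1 g f1 h =
      πS X X' ι c c' ιc hι β i1 g f1 j := by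
  apply pushout.hom_ext
  · rw [inl_πS_assoc, inl_πS, inlS_trS, ← Category.assoc, c.w]
  · rw [inr_πS_assoc, inr_πS, inrS_trS, ← Category.assoc]
    unfold ψJ
    rw [δ_ψ]

/-- the cone with apex the glued scheme `c.pt ∪ V` -/
noncomputable def coneS : Cone (DS X X' ι c' β i1 g f1) where
  pt := pushout ιc β
  π :=
    { app := fun j ↦ πS X X' ι c c' ιc hι β i1 g f1 j.unop
      naturality := by
        intro j j' φ
        dsimp only [Functor.const_obj_obj, Functor.const_obj_map]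
        rw [Category.id_comp]
        exact (πS_trS X X' ι c c' ιc hι β i1 g f1 φ.unop.le).symm }

/-- the index functor -/
def αF : Idx X' c' β i1 g f1 ⥤ I :=
  Monotone.functor (f := fun j : Idx X' c' β i1 g f1 ↦ j.i) (fun _ _ h ↦ Idx.le_i h)

/-- the first chart system -/
noncomputable def D₁ : (Idx X' c' β i1 g f1)ᵒᵖ ⥤ Scheme.{u} := (αF X' c' β i1 g f1).op ⋙ X

/-- the diagram of rings -/
def ringDiag : Idx X' c' β i1 g f1 ⥤ CommRingCat.{u} where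
  obj j := CommRingCat.of j.A
  map φ := ψJ X' c' β i1 g f1 φ.le
  map_id j := ψJ_refl X' c' β i1 g f1 j
  map_comp φ φ' := (ψJ_trans X' c' β i1 g f1 φ.le φ'.le).symm

/-- the second chart system -/
noncomputable def D₂ : (Idx X' c' β i1 g f1)ᵒᵖ ⥤ Scheme.{u} :=
  (ringDiag X' c' β i1 g f1).op ⋙ Scheme.Spec

/-- the first chart -/
noncomputable def u₁ : D₁ X X' c' β i1 g f1 ⟶ DS X X' ι c' β i1 g f1 where
  app j := inlS X X' ι c' β i1 g f1 j.unop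
  naturality j j' φ := (inlS_trS X X' ι c' β i1 g f1 φ.unop.le).symm

/-- the second chart -/
noncomputable def u₂ : D₂ X' c' β i1 g f1 ⟶ DS X X' ι c' β i1 g f1 where
  app j := inrS X X' ι c' β i1 g f1 j.unop
  naturality j j' φ := (inrS_trS X X' ι c' β i1 g f1 φ.unop.le).symm

instance (j : (Idx X' c' β i1 g f1)ᵒᵖ) : IsOpenImmersion ((u₁ X X' ι c' β i1 g f1).app j) :=
  inferInstanceAs (IsOpenImmersion (inlS X X' ι c' β i1 g f1 j.unop))

instance (j : (Idx X' c' β i1 g f1)ᵒᵖ) : IsOpenImmersion ((u₂ X X' ι c' β i1 g f1).app j) :=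
  inferInstanceAs (IsOpenImmersion (inrS X X' ι c' β i1 g f1 j.unop))

/-- the cone over the second chart system with apex `V` -/
noncomputable def cone₂ : Cone (D₂ X' c' β i1 g f1) where
  pt := V
  π :=
    { app := fun j ↦ δ j.unop.A
      naturality := by
        intro j j' φ
        dsimp only [Functor.const_obj_obj, Functor.const_obj_map]
        rw [Category.id_comp]
        exact (δ_ψ (tr X' (Idx.le_i φ.unop.le)) _ _ (Idx.le_mem φ.unop.le)).symm }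

end Sys

section Main
variable {I : Type u} [Preorder I] [IsDirected I (· ≤ ·)] [Nonempty I]
  (X X' : Iᵒᵖ ⥤ Scheme.{u}) (ι : X' ⟶ X) [∀ i, IsOpenImmersion (ι.app i)]
  (hcart : ∀ {i j : Iᵒᵖ} (φ : i ⟶ j), IsPullback (X'.map φ) (ι.app i) (ι.app j) (X.map φ))
  (c : Cone X) (hc : IsLimit c) (c' : Cone X') (hc' : IsLimit c') (ιc : c'.pt ⟶ c.pt)
  [IsOpenImmersion ιc]
  (hcartc : ∀ i, IsPullback (c'.π.app i) ιc (ι.app i) (c.π.app i))
  [∀ {i j : Iᵒᵖ} (φ : i ⟶ j), IsAffineHom (X.map φ)]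
  [∀ {i j : Iᵒᵖ} (φ : i ⟶ j), IsAffineHom (X'.map φ)]
  [∀ i, CompactSpace (X.obj i)] [∀ i, CompactSpace (X'.obj i)]
  [∀ i, QuasiSeparatedSpace (X'.obj i)]
  {V : Scheme.{u}} [IsAffine V] (β : c'.pt ⟶ V) [IsOpenImmersion β] [CompactSpace c'.pt]
  (i1 : I) {K : Type*} [Finite K] (g : K → Γ(V, ⊤)) (f1 : K → Γ(X'.obj (op i1), ⊤))
  (hgf1 : ∀ k, β.appTop (g k) = (c'.π.app (op i1)).appTop (f1 k))
  (hgβ : ∀ k, V.basicOpen (g k) ≤ β.opensRange)
  (hβg : ∀ y ∈ β.opensRange, ∃ k, y ∈ V.basicOpen (g k))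
  (haff1 : ∀ k, IsAffineOpen ((X'.obj (op i1)).basicOpen (f1 k)))
  (hcov1 : ∀ x : X'.obj (op i1), ∃ k, x ∈ (X'.obj (op i1)).basicOpen (f1 k))
  (hft : ∀ (i : I) (hi : i1 ≤ i) (k : K), Algebra.FiniteType ℤ
    Γ(X'.obj (op i), (X'.obj (op i)).basicOpen (fL X' i1 f1 i hi k)))

include hgf1 in
lemma hgfL (i : I) (hi : i1 ≤ i) (k : K) :
    β.appTop (g k) = (c'.π.app (op i)).appTop (fL X' i1 f1 i hi k) := by
  unfold fL
  rw [hgf1, ← CommRingCat.comp_apply, ← Scheme.Hom.comp_appTop, π_tr]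

lemma basicOpen_fL (i : I) (hi : i1 ≤ i) (k : K) :
    (X'.obj (op i)).basicOpen (fL X' i1 f1 i hi k) =
      tr X' hi ⁻¹ᵁ (X'.obj (op i1)).basicOpen (f1 k) := by
  unfold fL
  rw [Scheme.preimage_basicOpen_top]

include haff1 in
lemma haffL (i : I) (hi : i1 ≤ i) (k : K) :
    IsAffineOpen ((X'.obj (op i)).basicOpen (fL X' i1 f1 i hi k)) := by
  rw [basicOpen_fL]
  exact (haff1 k).preimage _

include hcov1 in
lemma hcovL (i : I) (hi : i1 ≤ i) (x : X'.obj (op i)) :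
    ∃ k, x ∈ (X'.obj (op i)).basicOpen (fL X' i1 f1 i hi k) := by
  obtain ⟨k, hk⟩ := hcov1 (tr X' hi x)
  exact ⟨k, by rw [basicOpen_fL]; exact hk⟩

include hgf1 hgβ haff1 hcov1 in
/-- constructor for indices -/
def mkIdx (i : I) (hi : i1 ≤ i) (A : Subalgebra ℤ (Γ(V, ⊤) × Γ(X'.obj (op i), ⊤)))
    (hA : Good β (c'.π.app (op i)) g (fL X' i1 f1 i hi) A) : Idx X' c' β i1 g f1 :=
  ⟨i, hi, A, hA, hA.isOpenImmersion_γ (hgfL X' c' β i1 g f1 hgf1 i hi) hgβ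
    (haffL X' i1 f1 haff1 i hi) (hcovL X' i1 f1 hcov1 i hi)⟩

include hgf1 hgβ hft in
lemma exists_good_level (i : I) (hi : i1 ≤ i) (A0 : Subalgebra ℤ (Γ(V, ⊤) × Γ(X'.obj (op i), ⊤)))
    (hA0fg : A0.FG) (hA0 : A0 ≤ P β (c'.π.app (op i))) :
    ∃ A : Subalgebra ℤ (Γ(V, ⊤) × Γ(X'.obj (op i), ⊤)), A0 ≤ A ∧
      Good β (c'.π.app (op i)) g (fL X' i1 f1 i hi) A :=
  exists_good (hgfL X' c' β i1 g f1 hgf1 i hi) hgβ (hft i hi) A0 hA0fg hA0

/-- the transition ring map on the product ring -/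
def T {i i' : I} (h : i ≤ i') :
    (Γ(V, ⊤) × Γ(X'.obj (op i), ⊤)) →ₐ[ℤ] (Γ(V, ⊤) × Γ(X'.obj (op i'), ⊤)) :=
  (RingHom.prodMap (RingHom.id _) (tr X' h).appTop.hom).toIntAlgHom

omit [IsDirected I fun x1 x2 ↦ x1 ≤ x2] [Nonempty I] [∀ {i j : Iᵒᵖ} (φ : i ⟶ j), IsAffineHom (X'.map φ)]
  [∀ (i : Iᵒᵖ), CompactSpace ↥(X'.obj i)] [∀ (i : Iᵒᵖ), QuasiSeparatedSpace ↥(X'.obj i)] in
lemma T_apply {i i' : I} (h : i ≤ i') (x : Γ(V, ⊤) × Γ(X'.obj (op i), ⊤)) :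
    T X' h x = (x.1, (tr X' h).appTop x.2) := rfl

omit [IsDirected I fun x1 x2 ↦ x1 ≤ x2] [Nonempty I] [∀ {i j : Iᵒᵖ} (φ : i ⟶ j), IsAffineHom (X'.map φ)]
  [∀ (i : Iᵒᵖ), CompactSpace ↥(X'.obj i)] [∀ (i : Iᵒᵖ), QuasiSeparatedSpace ↥(X'.obj i)] in
lemma map_T_le {i i' : I} (h : i ≤ i') (A : Subalgebra ℤ (Γ(V, ⊤) × Γ(X'.obj (op i), ⊤)))
    (hA : A ≤ P β (c'.π.app (op i))) : A.map (T X' h) ≤ P β (c'.π.app (op i')) := by
  rintro _ ⟨x, hx, rfl⟩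
  change (x.1, (tr X' h).appTop x.2) ∈ _
  rw [mem_fib]
  have := (mem_fib _ _).mp (hA hx)
  simp only at this ⊢
  rw [this, ← π_tr X' c' h, Scheme.Hom.comp_appTop, CommRingCat.comp_apply]

include hgf1 hgβ haff1 hcov1 hft in
lemma exists_idx_ge (i : I) (hi : i1 ≤ i) (A0 : Subalgebra ℤ (Γ(V, ⊤) × Γ(X'.obj (op i), ⊤)))
    (hA0fg : A0.FG) (hA0 : A0 ≤ P β (c'.π.app (op i))) :
    ∃ j : Idx X' c' β i1 g f1, ∃ h : j.i = i, ∀ x ∈ A0, (x.1, (tr X' h.ge).appTop x.2) ∈ j.A := by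
  obtain ⟨A, hA0A, hA⟩ := exists_good_level X' c' β i1 g f1 hgf1 hgβ hft i hi A0 hA0fg hA0
  refine ⟨mkIdx X' c' β i1 g f1 hgf1 hgβ haff1 hcov1 i hi A hA, rfl, fun x hx ↦ ?_⟩
  change (x.1, (tr X' (le_refl i)).appTop x.2) ∈ A
  rw [tr_refl]
  simpa using hA0A hx

include hgf1 hgβ haff1 hcov1 hft in
lemma nonempty_idx : Nonempty (Idx X' c' β i1 g f1) := by
  obtain ⟨j, -, -⟩ := exists_idx_ge X' c' β i1 g f1 hgf1 hgβ haff1 hcov1 hft i1 le_rfl ⊥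
    Subalgebra.fg_bot bot_le
  exact ⟨j⟩

include hgf1 hgβ haff1 hcov1 hft in
lemma isDirected_idx : IsDirected (Idx X' c' β i1 g f1) (· ≤ ·) := by
  constructor
  intro j j'
  obtain ⟨i'', h, h'⟩ := exists_ge_ge j.i j'.i
  obtain ⟨A, hA0A, hA⟩ := exists_good_level X' c' β i1 g f1 hgf1 hgβ hft i'' (j.hi.trans h)
    (j.A.map (T X' h) ⊔ j'.A.map (T X' h')) ((j.good.fg.map _).sup (j'.good.fg.map _))
    (sup_le (map_T_le X' c' β h j.A j.good.le) (map_T_le X' c' β h' j'.A j'.good.le))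
  refine ⟨mkIdx X' c' β i1 g f1 hgf1 hgβ haff1 hcov1 i'' (j.hi.trans h) A hA, ⟨h, fun x hx ↦ ?_⟩,
    ⟨h', fun x hx ↦ ?_⟩⟩
  · exact hA0A ((le_sup_left : j.A.map (T X' h) ≤ _) ⟨x, hx, rfl⟩)
  · exact hA0A ((le_sup_right : j'.A.map (T X' h') ≤ _) ⟨x, hx, rfl⟩)

include hgf1 hgβ haff1 hcov1 in
lemma isPullback_γ_trans {j j' : Idx X' c' β i1 g f1} (h : j ≤ j') :
    IsPullback (tr X' (Idx.le_i h)) (γ j'.A) (γ j.A) (Spec.map (ψJ X' c' β i1 g f1 h)) :=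
  isPullback_trans β (c'.π.app (op j.i)) (c'.π.app (op j'.i)) (tr X' (Idx.le_i h)) j.A j'.A
    (Idx.le_mem h) (fun k ↦ (fL_tr X' i1 f1 j.hi (Idx.le_i h) k).symm)
    (hgfL X' c' β i1 g f1 hgf1 j.i j.hi) (hgfL X' c' β i1 g f1 hgf1 j'.i j'.hi) hgβ
    (haffL X' i1 f1 haff1 j.i j.hi) (hcovL X' i1 f1 hcov1 j.i j.hi)
    (haffL X' i1 f1 haff1 j'.i j'.hi) (hcovL X' i1 f1 hcov1 j'.i j'.hi) j.good j'.good

include hcart hgf1 hgβ haff1 hcov1 in
lemma isPullback_trS_inl {j j' : Idx X' c' β i1 g f1} (h : j ≤ j') :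
    IsPullback (X.map (homOfLE (Idx.le_i h)).op) (inlS X X' ι c' β i1 g f1 j')
      (inlS X X' ι c' β i1 g f1 j) (trS X X' ι c' β i1 g f1 h) :=
  isPullback_inl (ι.app (op j.i)) (γ j.A) (ι.app (op j'.i)) (γ j'.A)
    (X.map (homOfLE (Idx.le_i h)).op) (Spec.map (ψJ X' c' β i1 g f1 h)) (tr X' (Idx.le_i h))
    (hcart _) (isPullback_γ_trans X' c' β i1 g f1 hgf1 hgβ haff1 hcov1 h)

include hcart hgf1 hgβ haff1 hcov1 in
lemma isPullback_trS_inr {j j' : Idx X' c' β i1 g f1} (h : j ≤ j') :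
    IsPullback (Spec.map (ψJ X' c' β i1 g f1 h)) (inrS X X' ι c' β i1 g f1 j')
      (inrS X X' ι c' β i1 g f1 j) (trS X X' ι c' β i1 g f1 h) :=
  isPullback_inr (ι.app (op j.i)) (γ j.A) (ι.app (op j'.i)) (γ j'.A)
    (X.map (homOfLE (Idx.le_i h)).op) (Spec.map (ψJ X' c' β i1 g f1 h)) (tr X' (Idx.le_i h))
    (hcart _) (isPullback_γ_trans X' c' β i1 g f1 hgf1 hgβ haff1 hcov1 h)

include hgf1 hgβ hβg haff1 hcov1 in
lemma isPullback_γ_cone (j : Idx X' c' β i1 g f1) :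
    IsPullback (c'.π.app (op j.i)) β (γ j.A) (δ j.A) :=
  j.good.isPullback (hgfL X' c' β i1 g f1 hgf1 j.i j.hi) hgβ hβg
    (haffL X' i1 f1 haff1 j.i j.hi) (hcovL X' i1 f1 hcov1 j.i j.hi)

include hcartc hgf1 hgβ hβg haff1 hcov1 in
lemma isPullback_πS_inl (j : Idx X' c' β i1 g f1) :
    IsPullback (c.π.app (op j.i)) (pushout.inl ιc β) (inlS X X' ι c' β i1 g f1 j)
      (πS X X' ι c c' ιc (fun i ↦ (hcartc i).w) β i1 g f1 j) :=
  isPullback_inl (ι.app (op j.i)) (γ j.A) ιc β (c.π.app (op j.i)) (δ j.A) (c'.π.app (op j.i))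
    (hcartc _) (isPullback_γ_cone X' c' β i1 g f1 hgf1 hgβ hβg haff1 hcov1 j)

include hcartc hgf1 hgβ hβg haff1 hcov1 in
lemma isPullback_πS_inr (j : Idx X' c' β i1 g f1) :
    IsPullback (δ j.A) (pushout.inr ιc β) (inrS X X' ι c' β i1 g f1 j)
      (πS X X' ι c c' ιc (fun i ↦ (hcartc i).w) β i1 g f1 j) :=
  isPullback_inr (ι.app (op j.i)) (γ j.A) ιc β (c.π.app (op j.i)) (δ j.A) (c'.π.app (op j.i))
    (hcartc _) (isPullback_γ_cone X' c' β i1 g f1 hgf1 hgβ hβg haff1 hcov1 j)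

include hgf1 hgβ haff1 hcov1 hft in
lemma final_αF : (αF X' c' β i1 g f1).Final := by
  haveI := isDirected_idx X' c' β i1 g f1 hgf1 hgβ haff1 hcov1 hft
  haveI := nonempty_idx X' c' β i1 g f1 hgf1 hgβ haff1 hcov1 hft
  apply Functor.final_of_exists_of_isFiltered
  · intro i
    obtain ⟨i'', h1, h2⟩ := exists_ge_ge i i1
    obtain ⟨j, hj, -⟩ := exists_idx_ge X' c' β i1 g f1 hgf1 hgβ haff1 hcov1 hft i'' h2 ⊥
      Subalgebra.fg_bot bot_le
    exact ⟨j, ⟨homOfLE (show i ≤ j.i from hj.symm ▸ h1)⟩⟩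
  · intro d c s s'
    exact ⟨c, 𝟙 c, Subsingleton.elim _ _⟩

/-- the cocone of rings -/
def ringCocone : Cocone (ringDiag X' c' β i1 g f1) where
  pt := Γ(V, ⊤)
  ι :=
    { app := fun j ↦ φV j.A
      naturality := by
        intro j j' φ
        dsimp only [Functor.const_obj_obj, Functor.const_obj_map]
        rw [Category.comp_id]
        exact ψ_φV (tr X' (Idx.le_i φ.le)) _ _ (Idx.le_mem φ.le) }

include hc' hgf1 hgβ haff1 hcov1 hft in
/-- the ring of the affine piece is the colimit of the good subalgebras -/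
lemma ringCocone_isColimit : Nonempty (IsColimit (ringCocone X' c' β i1 g f1)) := by
  haveI := isDirected_idx X' c' β i1 g f1 hgf1 hgβ haff1 hcov1 hft
  haveI := nonempty_idx X' c' β i1 g f1 hgf1 hgβ haff1 hcov1 hft
  have : ReflectsFilteredColimits (forget CommRingCat.{u}) :=
    ⟨fun _ ↦ reflectsColimitsOfShape_of_reflectsIsomorphisms⟩
  refine ReflectsColimit.reflects (F := forget _) (Types.FilteredColimit.isColimitOf' _ _ ?_ ?_)
  · intro (r : Γ(V, ⊤))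
    obtain ⟨i, t, ht⟩ := exists_appTop_π_eq_of_isLimit X' c' hc' (β.appTop r)
    obtain ⟨i'', h1, h2⟩ := exists_ge_ge i.unop i1
    have hmem : (r, (tr X' h1).appTop t) ∈ P β (c'.π.app (op i'')) := by
      rw [mem_fib]
      simp only
      rw [← CommRingCat.comp_apply, ← Scheme.Hom.comp_appTop, π_tr]
      exact ht
    obtain ⟨j, hj, hjA⟩ := exists_idx_ge X' c' β i1 g f1 hgf1 hgβ haff1 hcov1 hft i'' h2
      (Algebra.adjoin ℤ {(r, (tr X' h1).appTop t)}) ⟨{(r, (tr X' h1).appTop t)}, by simp⟩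
      (Algebra.adjoin_le (by simpa using hmem))
    exact ⟨j, ⟨_, hjA _ (Algebra.self_mem_adjoin_singleton ℤ _)⟩, rfl⟩
  · intro j (x : j.A) (y : j.A) hxy
    have hxy' : (x : j.A).1.1 = (y : j.A).1.1 := hxy
    have h0 : (c'.π.app (op j.i)).appTop ((x : j.A).1.2 - (y : j.A).1.2) = 0 := by
      rw [map_sub, sub_eq_zero]
      have hx := (mem_fib _ _).mp (j.good.le (x : j.A).2)
      have hy := (mem_fib _ _).mp (j.good.le (y : j.A).2)
      rw [← hx, ← hy, hxy']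
    obtain ⟨i', f, hf⟩ := exists_appTop_map_eq_zero_of_isLimit X' c' hc' _ h0
    have h : j.i ≤ i'.unop := f.unop.le
    have hf' : (tr X' h).appTop (x : j.A).1.2 = (tr X' h).appTop (y : j.A).1.2 := by
      have : X'.map f = tr X' h := rfl
      rw [this, map_sub, sub_eq_zero] at hf
      exact hf
    obtain ⟨A, hA0A, hA⟩ := exists_good_level X' c' β i1 g f1 hgf1 hgβ hft i'.unop (j.hi.trans h)
      (j.A.map (T X' h)) (j.good.fg.map _) (map_T_le X' c' β h j.A j.good.le)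
    have hle : j ≤ mkIdx X' c' β i1 g f1 hgf1 hgβ haff1 hcov1 i'.unop (j.hi.trans h) A hA :=
      ⟨h, fun z hz ↦ hA0A ⟨z, hz, rfl⟩⟩
    refine ⟨_, homOfLE hle, ?_⟩
    apply Subtype.ext
    change ((x : j.A).1.1, (tr X' (Idx.le_i hle)).appTop (x : j.A).1.2) =
      ((y : j.A).1.1, (tr X' (Idx.le_i hle)).appTop (y : j.A).1.2)
    rw [hxy']
    exact congrArg _ hf'

include hc' hgf1 hgβ haff1 hcov1 hft in
lemma cone₂_isLimit : Nonempty (IsLimit (cone₂ X' c' β i1 g f1)) := by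
  obtain ⟨hcol⟩ := ringCocone_isColimit X' c' hc' β i1 g f1 hgf1 hgβ haff1 hcov1 hft
  have hl : IsLimit (Scheme.Spec.mapCone (ringCocone X' c' β i1 g f1).op) :=
    isLimitOfPreserves Scheme.Spec hcol.op
  refine ⟨IsLimit.ofIsoLimit hl (Cones.ext V.isoSpec (fun j ↦ ?_)).symm⟩
  rfl

include hc hgf1 hgβ haff1 hcov1 hft in
lemma cone₁_isLimit : Nonempty (IsLimit (c.whisker (αF X' c' β i1 g f1).op)) := by
  haveI := final_αF X' c' β i1 g f1 hgf1 hgβ haff1 hcov1 hft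
  exact ⟨(Functor.Initial.isLimitWhiskerEquiv (αF X' c' β i1 g f1).op c).symm hc⟩

include hcart hc hc' hcartc hgf1 hgβ hβg haff1 hcov1 hft in
theorem coneS_isLimit :
    Nonempty (IsLimit (coneS X X' ι c c' ιc (fun i ↦ (hcartc i).w) β i1 g f1)) := by
  haveI := isDirected_idx X' c' β i1 g f1 hgf1 hgβ haff1 hcov1 hft
  haveI := nonempty_idx X' c' β i1 g f1 hgf1 hgβ haff1 hcov1 hft
  obtain ⟨h1⟩ := cone₁_isLimit X X' c hc c' β i1 g f1 hgf1 hgβ haff1 hcov1 hft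
  obtain ⟨h2⟩ := cone₂_isLimit X' c' hc' β i1 g f1 hgf1 hgβ haff1 hcov1 hft
  let a₁ : (c.whisker (αF X' c' β i1 g f1).op).pt ⟶
      (coneS X X' ι c c' ιc (fun i ↦ (hcartc i).w) β i1 g f1).pt := pushout.inl ιc β
  let a₂ : (cone₂ X' c' β i1 g f1).pt ⟶
      (coneS X X' ι c c' ιc (fun i ↦ (hcartc i).w) β i1 g f1).pt := pushout.inr ιc β
  haveI : IsOpenImmersion a₁ := inferInstanceAs (IsOpenImmersion (pushout.inl ιc β))
  haveI : IsOpenImmersion a₂ := inferInstanceAs (IsOpenImmersion (pushout.inr ιc β))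
  refine isLimit_of_cover (u₁ X X' ι c' β i1 g f1) (u₂ X X' ι c' β i1 g f1) ?_ ?_ ?_
    (coneS X X' ι c c' ιc (fun i ↦ (hcartc i).w) β i1 g f1)
    (c.whisker (αF X' c' β i1 g f1).op) (cone₂ X' c' β i1 g f1) h1 h2 a₁ a₂ ?_ ?_
  · intro j x
    exact inl_or_inr _ _ x
  · intro j j' φ
    exact isPullback_trS_inl X X' ι hcart c' β i1 g f1 hgf1 hgβ haff1 hcov1 φ.unop.le
  · intro j j' φ
    exact isPullback_trS_inr X X' ι hcart c' β i1 g f1 hgf1 hgβ haff1 hcov1 φ.unop.le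
  · intro j
    exact isPullback_πS_inl X X' ι c c' ιc hcartc β i1 g f1 hgf1 hgβ hβg haff1 hcov1 j.unop
  · intro j
    exact isPullback_πS_inr X X' ι c c' ιc hcartc β i1 g f1 hgf1 hgβ hβg haff1 hcov1 j.unop

end Main

end Groth.Agent.Lead.NApxG
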