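import Groth.Agent.Lead.LimModel
import Mathlib
open CategoryTheory Limits AlgebraicGeometry Opposite

namespace Groth.Agent.Lead.NApxH
universe u
open Groth.Agent.Lead.LimModel

lemma lft_spec_of_finiteType (A : Type u) [CommRing A] [Algebra ℤ A]
    [hA : Algebra.FiniteType ℤ A] :
    LocallyOfFiniteType (toSZ (Spec (CommRingCat.of A))) := by
  let ψ : ULift.{u} ℤ →+* A :=
    (algebraMap ℤ A).comp (ULift.ringEquiv : ULift.{u} ℤ ≃+* ℤ).toRingHom
  have hψ : ψ.FiniteType :=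
    RingHom.FiniteType.comp (RingHom.finiteType_algebraMap.mpr hA)
      (RingHom.FiniteType.of_surjective _ (ULift.ringEquiv : ULift.{u} ℤ ≃+* ℤ).surjective)
  have e1 : toSZ (Spec (.of A)) = Spec.map (CommRingCat.ofHom ψ) :=
    specULiftZIsTerminal.hom_ext _ _
  rw [e1]
  exact (HasRingHomProperty.Spec_iff (P := @LocallyOfFiniteType)).mpr hψ

lemma finiteType_of_lft {T : Scheme.{u}} [h : LocallyOfFiniteType (toSZ T)] (U : T.Opens)
    (hU : IsAffineOpen U) : Algebra.FiniteType ℤ Γ(T, U) := by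
  have h1 : ((toSZ T).appLE ⊤ U le_top).hom.FiniteType :=
    HasRingHomProperty.appLE (P := @LocallyOfFiniteType) (toSZ T) h ⟨⊤, isAffineOpen_top _⟩ ⟨U, hU⟩
      le_top
  let θ : ℤ →+* Γ(SZ.{u}, ⊤) := algebraMap ℤ _
  have hθ : Function.Surjective θ := by
    intro x
    obtain ⟨⟨n⟩, rfl⟩ := (ConcreteCategory.bijective_of_isIso
      (Scheme.ΓSpecIso (CommRingCat.of (ULift.{u} ℤ))).inv).2 x
    refine ⟨n, ?_⟩
    have : (⟨n⟩ : ULift.{u} ℤ) = algebraMap ℤ (ULift.{u} ℤ) n := by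
      apply ULift.ext
      simp
    rw [this]
    exact (RingHom.congr_fun (Subsingleton.elim
      (((Scheme.ΓSpecIso (CommRingCat.of (ULift.{u} ℤ))).inv.hom).comp (algebraMap ℤ (ULift.{u} ℤ))) θ) n).symm
  have h2 : (((toSZ T).appLE ⊤ U le_top).hom.comp θ).FiniteType :=
    RingHom.FiniteType.comp h1 (RingHom.FiniteType.of_surjective _ hθ)
  have e : ((toSZ T).appLE ⊤ U le_top).hom.comp θ = algebraMap ℤ Γ(T, U) := Subsingleton.elim _ _
  rw [e] at h2
  exact RingHom.finiteType_algebraMap.mp h2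

end Groth.Agent.Lead.NApxH
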