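import Groth.Agent.Lead.NApxG
import Groth.Agent.Lead.NApxH
import Mathlib
open CategoryTheory Limits AlgebraicGeometry Opposite

namespace Groth.Agent.Lead.NApxI
universe u
open Groth.Agent.Lead.NApxA Groth.Agent.Lead.NApxB Groth.Agent.Lead.NApxC Groth.Agent.Lead.NApxD
  Groth.Agent.Lead.NApxE Groth.Agent.Lead.NApxF Groth.Agent.Lead.Glue2 Groth.Agent.Lead.NApxG
  Groth.Agent.Lead.NApxH Groth.Agent.Lead.LimModel

section
variable {I : Type u} [Preorder I] [IsDirected I (· ≤ ·)] [Nonempty I]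
  (X X' : Iᵒᵖ ⥤ Scheme.{u}) (ι : X' ⟶ X) [∀ i, IsOpenImmersion (ι.app i)]
  (hcart : ∀ {i j : Iᵒᵖ} (φ : i ⟶ j), IsPullback (X'.map φ) (ι.app i) (ι.app j) (X.map φ))
  (c' : Cone X')
  [∀ {i j : Iᵒᵖ} (φ : i ⟶ j), IsAffineHom (X.map φ)]
  [∀ {i j : Iᵒᵖ} (φ : i ⟶ j), IsAffineHom (X'.map φ)]
  [∀ i, CompactSpace (X.obj i)] [∀ i, CompactSpace (X'.obj i)]
  [∀ i, QuasiSeparatedSpace (X'.obj i)]
  {V : Scheme.{u}} [IsAffine V] (β : c'.pt ⟶ V) [IsOpenImmersion β] [CompactSpace c'.pt]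
  (i1 : I) {K : Type*} [Finite K] (g : K → Γ(V, ⊤)) (f1 : K → Γ(X'.obj (op i1), ⊤))
  (hgf1 : ∀ k, β.appTop (g k) = (c'.π.app (op i1)).appTop (f1 k))
  (hgβ : ∀ k, V.basicOpen (g k) ≤ β.opensRange)
  (haff1 : ∀ k, IsAffineOpen ((X'.obj (op i1)).basicOpen (f1 k)))
  (hcov1 : ∀ x : X'.obj (op i1), ∃ k, x ∈ (X'.obj (op i1)).basicOpen (f1 k))
  (hftX : ∀ i, LocallyOfFiniteType (toSZ (X.obj i)))

include hcart hgf1 hgβ haff1 hcov1 in
lemma isAffineHom_trS {j j' : Idx X' c' β i1 g f1} (h : j ≤ j') :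
    IsAffineHom (trS X X' ι c' β i1 g f1 h) :=
  isAffineHom_pmap (ι.app (op j.i)) (γ j.A) (ι.app (op j'.i)) (γ j'.A)
    (X.map (homOfLE (Idx.le_i h)).op) (Spec.map (ψJ X' c' β i1 g f1 h)) (tr X' (Idx.le_i h))
    (hcart _) (isPullback_γ_trans X' c' β i1 g f1 hgf1 hgβ haff1 hcov1 h)

lemma compactSpace_S (j : Idx X' c' β i1 g f1) : CompactSpace (S X X' ι c' β i1 g f1 j) :=
  compactSpace_of_cover2 (inlS X X' ι c' β i1 g f1 j) (inrS X X' ι c' β i1 g f1 j)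
    (inl_or_inr _ _)

include hftX in
lemma lft_S (j : Idx X' c' β i1 g f1) :
    LocallyOfFiniteType (toSZ (S X X' ι c' β i1 g f1 j)) := by
  refine prop_of_cover2 (inlS X X' ι c' β i1 g f1 j) (inrS X X' ι c' β i1 g f1 j)
    (inl_or_inr _ _) @LocallyOfFiniteType _ ?_ ?_
  · rw [show inlS X X' ι c' β i1 g f1 j ≫ toSZ _ = toSZ (X.obj (op j.i)) from
      specULiftZIsTerminal.hom_ext _ _]
    exact hftX _
  · rw [show inrS X X' ι c' β i1 g f1 j ≫ toSZ _ = toSZ (Spec (CommRingCat.of j.A)) from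
      specULiftZIsTerminal.hom_ext _ _]
    haveI : Algebra.FiniteType ℤ j.A := (Subalgebra.fg_iff_finiteType _).mp j.good.fg
    exact lft_spec_of_finiteType j.A

end
end Groth.Agent.Lead.NApxI
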