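import Groth.Agent.Lead.NApxG
import Mathlib
open CategoryTheory Limits AlgebraicGeometry Opposite TopologicalSpace

namespace Groth.Agent.Lead.NApxJ
universe u
open Groth.Agent.Lead.NApxG

section
variable {I : Type u} [Preorder I] [IsDirected I (· ≤ ·)] [Nonempty I]
  (X' : Iᵒᵖ ⥤ Scheme.{u}) (c' : Cone X') (hc' : IsLimit c')
  [∀ {i j : Iᵒᵖ} (φ : i ⟶ j), IsAffineHom (X'.map φ)]
  [∀ i, CompactSpace (X'.obj i)] [∀ i, QuasiSeparatedSpace (X'.obj i)]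
  {V : Scheme.{u}} [IsAffine V] (β : c'.pt ⟶ V) [IsOpenImmersion β]

lemma tr_preimage {i i' i'' : I} (h : i ≤ i') (h' : i' ≤ i'') (O : (X'.obj (op i)).Opens) :
    tr X' h' ⁻¹ᵁ (tr X' h ⁻¹ᵁ O) = tr X' (h.trans h') ⁻¹ᵁ O := by
  rw [← Scheme.Hom.comp_preimage, tr_trans]

lemma π_preimage {i i' : I} (h : i ≤ i') (O : (X'.obj (op i)).Opens) :
    c'.π.app (op i') ⁻¹ᵁ (tr X' h ⁻¹ᵁ O) = c'.π.app (op i) ⁻¹ᵁ O := by
  rw [← Scheme.Hom.comp_preimage, π_tr]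

include hc' in
theorem stage1 :
    ∃ (K : Type u) (_ : Finite K) (g : K → Γ(V, ⊤)) (i1 : I) (f1 : K → Γ(X'.obj (op i1), ⊤)),
      (∀ k, β.appTop (g k) = (c'.π.app (op i1)).appTop (f1 k)) ∧
      (∀ k, V.basicOpen (g k) ≤ β.opensRange) ∧
      (∀ y ∈ β.opensRange, ∃ k, y ∈ V.basicOpen (g k)) ∧
      (∀ k, IsAffineOpen ((X'.obj (op i1)).basicOpen (f1 k))) ∧
      (∀ x : X'.obj (op i1), ∃ k, x ∈ (X'.obj (op i1)).basicOpen (f1 k)) := by
  classical
  haveI : CompactSpace c'.pt := Scheme.compactSpace_of_isLimit X' c' hc'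
  -- step A
  have hcomp : IsCompact (β.opensRange : Set V) := isCompact_range β.continuous
  obtain ⟨Us, hUsB, hUsfin, hUs⟩ := (isBasis_basicOpen V).exists_finite_of_isCompact hcomp
  haveI : Finite Us := hUsfin.to_subtype
  have hg : ∀ k : Us, ∃ r : Γ(V, ⊤), V.basicOpen r = k.1 := fun k ↦ hUsB k.2
  choose g hg using hg
  have hgβ : ∀ k, V.basicOpen (g k) ≤ β.opensRange := by
    intro k
    rw [hg k, hUs]
    exact le_sSup k.2
  have hβg : ∀ y ∈ β.opensRange, ∃ k, y ∈ V.basicOpen (g k) := by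
    intro y hy
    rw [hUs] at hy
    obtain ⟨O, hO, hyO⟩ := Opens.mem_sSup.mp hy
    exact ⟨⟨O, hO⟩, by rw [hg]; exact hyO⟩
  -- step B
  have hB : ∀ k : Us, ∃ (i : Iᵒᵖ) (t : Γ(X'.obj i, ⊤)), β.appTop (g k) = (c'.π.app i).appTop t :=
    fun k ↦ exists_appTop_π_eq_of_isLimit X' c' hc' (β.appTop (g k))
  choose i0 t0 ht0 using hB
  -- step C
  let U : Us → c'.pt.Opens := fun k ↦ c'.pt.basicOpen (β.appTop (g k))
  have hUpre : ∀ k, U k = β ⁻¹ᵁ V.basicOpen (g k) := fun k ↦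
    (Scheme.preimage_basicOpen_top β (g k)).symm
  have hUaff : ∀ k, IsAffineOpen (U k) := by
    intro k
    rw [hUpre]
    exact ((isAffineOpen_top V).basicOpen (g k)).preimage_of_isOpenImmersion β (hgβ k)
  have hUcov : IsOpenCover U := by
    refine top_le_iff.mp fun x _ ↦ ?_
    obtain ⟨k, hk⟩ := hβg (β x) ⟨x, rfl⟩
    exact Opens.mem_iSup.mpr ⟨k, by rw [hUpre]; exact hk⟩
  obtain ⟨ib, Vo, hVocov, hVo⟩ :=
    Scheme.exists_isOpenCover_and_isAffine_of_finite X' c' hc' U hUcov hUaff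
  -- common index
  obtain ⟨M, hM⟩ := Finite.exists_le (fun k : Us ↦ (i0 k).unop)
  obtain ⟨ic, hic1, hic2⟩ := exists_ge_ge M ib.unop
  let tc : Us → Γ(X'.obj (op ic), ⊤) := fun k ↦
    (tr X' ((hM k).trans hic1)).appTop (t0 k)
  have htc : ∀ k, β.appTop (g k) = (c'.π.app (op ic)).appTop (tc k) := by
    intro k
    dsimp only [tc]
    rw [← CommRingCat.comp_apply, ← Scheme.Hom.comp_appTop, π_tr]
    exact ht0 k
  let Vc : Us → (X'.obj (op ic)).Opens := fun k ↦ tr X' hic2 ⁻¹ᵁ Vo k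
  have hVc : ∀ k, c'.π.app (op ic) ⁻¹ᵁ Vc k = U k := by
    intro k
    dsimp only [Vc]
    rw [π_preimage]
    exact (hVo k).2.symm
  have hbo : ∀ k, c'.π.app (op ic) ⁻¹ᵁ (X'.obj (op ic)).basicOpen (tc k) = U k := by
    intro k
    rw [Scheme.preimage_basicOpen_top, ← htc k]
    rfl
  -- step D
  have hD : ∀ k, ∃ (j : Iᵒᵖ) (f : j ⟶ op ic),
      X'.map f ⁻¹ᵁ (X'.obj (op ic)).basicOpen (tc k) = X'.map f ⁻¹ᵁ Vc k := by
    intro k
    refine exists_map_preimage_eq_map_preimage X' c' hc' ?_ ?_ ((hbo k).trans (hVc k).symm)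
    · exact isCompact_basicOpen _ isCompact_univ _
    · exact ((hVo k).1.preimage (tr X' hic2)).isCompact
  choose jD fD hfD using hD
  obtain ⟨M', hM'⟩ := Finite.exists_le (fun k : Us ↦ (jD k).unop)
  obtain ⟨i1, hi1a, hi1b⟩ := exists_ge_ge M' ic
  have key : ∀ k, (X'.obj (op i1)).basicOpen ((tr X' hi1b).appTop (tc k)) =
      tr X' hi1b ⁻¹ᵁ Vc k := by
    intro k
    rw [← Scheme.preimage_basicOpen_top]
    have h1 : ic ≤ (jD k).unop := (fD k).unop.le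
    have h2 : (jD k).unop ≤ i1 := (hM' k).trans hi1a
    have e : X'.map (fD k) = tr X' h1 := rfl
    rw [← tr_preimage X' h1 h2, ← tr_preimage X' h1 h2, ← e, hfD k]
  refine ⟨Us, inferInstance, g, i1, fun k ↦ (tr X' hi1b).appTop (tc k), ?_, hgβ, hβg, ?_, ?_⟩
  · intro k
    rw [← CommRingCat.comp_apply, ← Scheme.Hom.comp_appTop, π_tr]
    exact htc k
  · intro k
    rw [key k]
    exact ((hVo k).1.preimage (tr X' hic2)).preimage (tr X' hi1b)
  · intro x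
    have hx : tr X' hic2 (tr X' hi1b x) ∈ (⨆ k, Vo k : (X'.obj ib).Opens) := by
      rw [hVocov]; trivial
    obtain ⟨k, hk⟩ := Opens.mem_iSup.mp hx
    exact ⟨k, by rw [key k]; exact hk⟩

end
end Groth.Agent.Lead.NApxJ
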