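import Groth.Agent.Lead.NApxI
import Groth.Agent.Lead.NApxJ
import Mathlib
open CategoryTheory Limits AlgebraicGeometry Opposite TopologicalSpace

namespace Groth.Agent.Lead.NApxK
universe u
open Groth.Agent.Lead.NApxA Groth.Agent.Lead.NApxB Groth.Agent.Lead.NApxC Groth.Agent.Lead.NApxD
  Groth.Agent.Lead.NApxE Groth.Agent.Lead.NApxF Groth.Agent.Lead.Glue2 Groth.Agent.Lead.NApxG
  Groth.Agent.Lead.NApxH Groth.Agent.Lead.NApxI Groth.Agent.Lead.NApxJ Groth.Agent.Lead.LimModel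

/-- extension data: the system `(D, c)`, whose limit is an open of `Y` via `a`, extends to a system
of finite type schemes with limit `Y` -/
def HasExt {I : Type u} [Preorder I] (D : Iᵒᵖ ⥤ Scheme.{u}) (c : Cone D) {Y : Scheme.{u}}
    (a : c.pt ⟶ Y) : Prop :=
  ∃ (J : Type u) (_ : Preorder J) (_ : IsDirected J (· ≤ ·)) (_ : Nonempty J)
    (DS : Jᵒᵖ ⥤ Scheme.{u}) (cS : Cone DS) (_ : IsLimit cS) (e : cS.pt ≅ Y)
    (α : J →o I) (u : ∀ j : J, D.obj (op (α j)) ⟶ DS.obj (op j)),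
    (∀ j, IsOpenImmersion (u j)) ∧
    (∀ (j j' : Jᵒᵖ) (φ : j ⟶ j'), IsAffineHom (DS.map φ)) ∧
    (∀ j, CompactSpace (DS.obj j) ∧ LocallyOfFiniteType (toSZ (DS.obj j))) ∧
    (∀ (j j' : J) (h : j' ≤ j),
      IsPullback (D.map (homOfLE (α.mono h)).op) (u j) (u j') (DS.map (homOfLE h).op)) ∧
    (∀ j : J, IsPullback (c.π.app (op (α j))) (a ≫ e.inv) (u j) (cS.π.app (op j)))

section
variable {I : Type u} [Preorder I] [IsDirected I (· ≤ ·)] [Nonempty I]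
  (X X' : Iᵒᵖ ⥤ Scheme.{u}) (ι : X' ⟶ X) [∀ i, IsOpenImmersion (ι.app i)]
  (hcart : ∀ {i j : Iᵒᵖ} (φ : i ⟶ j), IsPullback (X'.map φ) (ι.app i) (ι.app j) (X.map φ))
  (c : Cone X) (hc : IsLimit c) (c' : Cone X') (hc' : IsLimit c') (ιc : c'.pt ⟶ c.pt)
  [IsOpenImmersion ιc]
  (hcartc : ∀ i, IsPullback (c'.π.app i) ιc (ι.app i) (c.π.app i))
  [∀ {i j : Iᵒᵖ} (φ : i ⟶ j), IsAffineHom (X.map φ)]
  [∀ {i j : Iᵒᵖ} (φ : i ⟶ j), IsAffineHom (X'.map φ)]
  [∀ i, CompactSpace (X.obj i)] [∀ i, CompactSpace (X'.obj i)]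
  [∀ i, QuasiSeparatedSpace (X'.obj i)]
  (hftX : ∀ i, LocallyOfFiniteType (toSZ (X.obj i)))
  {V : Scheme.{u}} [IsAffine V] (β : c'.pt ⟶ V) [IsOpenImmersion β]

/-- the index map as an order homomorphism -/
def αO {K : Type*} (i1 : I) (g : K → Γ(V, ⊤)) (f1 : K → Γ(X'.obj (op i1), ⊤)) :
    Idx X' c' β i1 g f1 →o I where
  toFun j := j.i
  monotone' _ _ h := Idx.le_i h

include hcart hc hc' hcartc hftX in
theorem one_step_abstract : HasExt X c (pushout.inl ιc β) := by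
  haveI : CompactSpace c'.pt := Scheme.compactSpace_of_isLimit X' c' hc'
  obtain ⟨K, hK, g, i1, f1, hgf1, hgβ, hβg, haff1, hcov1⟩ := stage1 X' c' hc' β
  have hft : ∀ (i : I) (hi : i1 ≤ i) (k : K), Algebra.FiniteType ℤ
      Γ(X'.obj (op i), (X'.obj (op i)).basicOpen (fL X' i1 f1 i hi k)) := by
    intro i hi k
    haveI : LocallyOfFiniteType (toSZ (X'.obj (op i))) := by
      rw [show toSZ (X'.obj (op i)) = ι.app (op i) ≫ toSZ (X.obj (op i)) from
        specULiftZIsTerminal.hom_ext _ _]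
      haveI := hftX (op i)
      infer_instance
    exact finiteType_of_lft _ (haffL X' i1 f1 haff1 i hi k)
  haveI := isDirected_idx X' c' β i1 g f1 hgf1 hgβ haff1 hcov1 hft
  haveI := nonempty_idx X' c' β i1 g f1 hgf1 hgβ haff1 hcov1 hft
  obtain ⟨hlim⟩ := coneS_isLimit X X' ι hcart c hc c' hc' ιc hcartc β i1 g f1 hgf1 hgβ hβg haff1
    hcov1 hft
  refine ⟨Idx X' c' β i1 g f1, inferInstance, inferInstance, inferInstance,
    DS X X' ι c' β i1 g f1, coneS X X' ι c c' ιc (fun i ↦ (hcartc i).w) β i1 g f1, hlim,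
    Iso.refl _, αO X' c' β i1 g f1, fun j ↦ inlS X X' ι c' β i1 g f1 j,
    fun j ↦ inferInstanceAs (IsOpenImmersion (inlS X X' ι c' β i1 g f1 j)), ?_, ?_, ?_, ?_⟩
  · intro j j' φ
    exact isAffineHom_trS X X' ι hcart c' β i1 g f1 hgf1 hgβ haff1 hcov1 φ.unop.le
  · intro j
    exact ⟨compactSpace_S X X' ι c' β i1 g f1 j.unop, lft_S X X' ι c' β i1 g f1 hftX j.unop⟩
  · intro j j' h
    exact isPullback_trS_inl X X' ι hcart c' β i1 g f1 hgf1 hgβ haff1 hcov1 h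
  · intro j
    have h := isPullback_πS_inl X X' ι c c' ιc hcartc β i1 g f1 hgf1 hgβ hβg haff1 hcov1 j
    have e : pushout.inl ιc β ≫ (Iso.refl (pushout ιc β)).inv = pushout.inl ιc β :=
      Category.comp_id _
    exact e ▸ h

end
end Groth.Agent.Lead.NApxK
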