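import Groth.Agent.Lead.NApxK
import Mathlib
open CategoryTheory Limits AlgebraicGeometry Opposite TopologicalSpace

namespace Groth.Agent.Lead.NApxL
universe u
open Groth.Agent.Lead.NApxK Groth.Agent.Lead.LimModel

section OpensSys
variable {I : Type u} [Preorder I] (D : Iᵒᵖ ⥤ Scheme.{u}) (i0 : I) (W0 : (D.obj (op i0)).Opens)

/-- the indices above `i0` -/
abbrev I0 : Type u := {i : I // i0 ≤ i}

instance [IsDirected I (· ≤ ·)] : IsDirected (I0 i0) (· ≤ ·) :=
  ⟨fun a b ↦ by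
    obtain ⟨k, h1, h2⟩ := exists_ge_ge a.1 b.1
    exact ⟨⟨k, a.2.trans h1⟩, h1, h2⟩⟩

instance : Nonempty (I0 i0) := ⟨⟨i0, le_rfl⟩⟩

/-- the inclusion of indices -/
def incl : I0 i0 ⥤ I := Monotone.functor (f := Subtype.val) (fun _ _ h ↦ h)

/-- the restricted system -/
def D0 : (I0 i0)ᵒᵖ ⥤ Scheme.{u} := (incl i0).op ⋙ D

/-- the pulled back opens -/
def Wo (i : I0 i0) : (D.obj (op i.1)).Opens := D.map (homOfLE i.2).op ⁻¹ᵁ W0

lemma Wo_preimage {i j : I0 i0} (h : i ≤ j) :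
    D.map (homOfLE (show i.1 ≤ j.1 from h)).op ⁻¹ᵁ Wo D i0 W0 i = Wo D i0 W0 j := by
  unfold Wo
  rw [← Scheme.Hom.comp_preimage, ← D.map_comp]
  rfl

/-- the system of opens -/
noncomputable def X' : (I0 i0)ᵒᵖ ⥤ Scheme.{u} where
  obj i := (Wo D i0 W0 i.unop).toScheme
  map {i j} φ := (D.map (homOfLE (show j.unop.1 ≤ i.unop.1 from φ.unop.le)).op).resLE
    (Wo D i0 W0 j.unop) (Wo D i0 W0 i.unop) (Wo_preimage D i0 W0 φ.unop.le).ge
  map_id i := by
    rw [← cancel_mono (Wo D i0 W0 i.unop).ι, Scheme.Hom.resLE_comp_ι, Category.id_comp]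
    rw [show (homOfLE (le_refl i.unop.1)).op = 𝟙 (op i.unop.1) from rfl, D.map_id, Category.comp_id]
  map_comp {i j k} φ ψ := by
    rw [← cancel_mono (Wo D i0 W0 k.unop).ι, Scheme.Hom.resLE_comp_ι, Category.assoc,
      Scheme.Hom.resLE_comp_ι, Scheme.Hom.resLE_comp_ι_assoc, ← D.map_comp]
    rfl

/-- the inclusion of the system of opens -/
noncomputable def ι : X' D i0 W0 ⟶ D0 D i0 where
  app i := (Wo D i0 W0 i.unop).ι
  naturality i j φ := Scheme.Hom.resLE_comp_ι _ _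

instance (i : (I0 i0)ᵒᵖ) : IsOpenImmersion ((ι D i0 W0).app i) :=
  inferInstanceAs (IsOpenImmersion (Wo D i0 W0 i.unop).ι)

lemma hcart {i j : (I0 i0)ᵒᵖ} (φ : i ⟶ j) :
    IsPullback ((X' D i0 W0).map φ) ((ι D i0 W0).app i) ((ι D i0 W0).app j) ((D0 D i0).map φ) := by
  have H : IsPullback ((D.map (homOfLE (show j.unop.1 ≤ i.unop.1 from φ.unop.le)).op).resLE
      (Wo D i0 W0 j.unop) (Wo D i0 W0 i.unop) (Wo_preimage D i0 W0 φ.unop.le).ge)
      (Wo D i0 W0 i.unop).ι (Wo D i0 W0 j.unop).ι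
      (D.map (homOfLE (show j.unop.1 ≤ i.unop.1 from φ.unop.le)).op) := by
    refine IsOpenImmersion.isPullback _ _ _ _ (Scheme.Hom.resLE_comp_ι _ _).symm ?_
    rw [Scheme.Opens.opensRange_ι, Scheme.Opens.opensRange_ι]
    exact Wo_preimage D i0 W0 φ.unop.le
  exact H

variable (c : Cone D)

/-- the restricted cone -/
def c0 : Cone (D0 D i0) := c.whisker (incl i0).op

/-- the preimage of the open in the limit -/
def W : c.pt.Opens := c.π.app (op i0) ⁻¹ᵁ W0

lemma W_eq (i : I0 i0) : c.π.app (op i.1) ⁻¹ᵁ Wo D i0 W0 i = W D i0 W0 c := by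
  unfold Wo W
  rw [← Scheme.Hom.comp_preimage, c.w]

/-- the cone of opens -/
noncomputable def c' : Cone (X' D i0 W0) where
  pt := (W D i0 W0 c).toScheme
  π :=
    { app := fun i ↦ (c.π.app (op i.unop.1)).resLE (Wo D i0 W0 i.unop) (W D i0 W0 c)
        (W_eq D i0 W0 c i.unop).ge
      naturality := by
        intro i j φ
        dsimp only [Functor.const_obj_obj, Functor.const_obj_map]
        rw [Category.id_comp]
        change (c.π.app (op j.unop.1)).resLE (Wo D i0 W0 j.unop) (W D i0 W0 c) _ =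
          (c.π.app (op i.unop.1)).resLE (Wo D i0 W0 i.unop) (W D i0 W0 c) _ ≫
          (D.map (homOfLE (show j.unop.1 ≤ i.unop.1 from φ.unop.le)).op).resLE
            (Wo D i0 W0 j.unop) (Wo D i0 W0 i.unop) _
        rw [← cancel_mono (Wo D i0 W0 j.unop).ι, Scheme.Hom.resLE_comp_ι, Category.assoc,
          Scheme.Hom.resLE_comp_ι, Scheme.Hom.resLE_comp_ι_assoc, c.w] }

lemma hcartc (i : (I0 i0)ᵒᵖ) :
    IsPullback ((c' D i0 W0 c).π.app i) (W D i0 W0 c).ι ((ι D i0 W0).app i)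
      ((c0 D i0 c).π.app i) := by
  have H : IsPullback ((c.π.app (op i.unop.1)).resLE (Wo D i0 W0 i.unop) (W D i0 W0 c)
      (W_eq D i0 W0 c i.unop).ge) (W D i0 W0 c).ι (Wo D i0 W0 i.unop).ι (c.π.app (op i.unop.1)) := by
    refine IsOpenImmersion.isPullback _ _ _ _ (Scheme.Hom.resLE_comp_ι _ _).symm ?_
    rw [Scheme.Opens.opensRange_ι, Scheme.Opens.opensRange_ι]
    exact W_eq D i0 W0 c i.unop
  exact H

end OpensSys

section Limits
variable {I : Type u} [Preorder I] [IsDirected I (· ≤ ·)] [Nonempty I]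
  (D : Iᵒᵖ ⥤ Scheme.{u}) (i0 : I) (W0 : (D.obj (op i0)).Opens) (c : Cone D) (hc : IsLimit c)

lemma final_incl : (incl (I := I) i0).Final := by
  apply Functor.final_of_exists_of_isFiltered
  · intro i
    obtain ⟨k, h1, h2⟩ := exists_ge_ge i i0
    exact ⟨⟨k, h2⟩, ⟨homOfLE h1⟩⟩
  · intro d c s s'
    exact ⟨c, 𝟙 c, Subsingleton.elim _ _⟩

include hc in
lemma c0_isLimit : Nonempty (IsLimit (c0 D i0 c)) := by
  haveI := final_incl (I := I) i0
  exact ⟨(Functor.Initial.isLimitWhiskerEquiv (incl i0).op c).symm hc⟩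

include hc in
lemma c'_isLimit : Nonempty (IsLimit (c' D i0 W0 c)) := by
  obtain ⟨h0⟩ := c0_isLimit D i0 c hc
  haveI : IsConnected (I0 i0)ᵒᵖ := IsCofiltered.isConnected _
  refine ⟨isLimitOfIsPullbackOfIsConnected (ι D i0 W0) (c' D i0 W0 c) (c0 D i0 c)
    { hom := (W D i0 W0 c).ι
      w := fun i ↦ ((hcartc D i0 W0 c i).w).symm } (fun i ↦ hcartc D i0 W0 c i) h0⟩

end Limits


section Transport
variable {I : Type u} [Preorder I] (D : Iᵒᵖ ⥤ Scheme.{u}) (c : Cone D)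

lemma HasExt.of_iso {Y Y' : Scheme.{u}} (a : c.pt ⟶ Y) (e' : Y ≅ Y') (h : HasExt D c a) :
    HasExt D c (a ≫ e'.hom) := by
  obtain ⟨J, i1, i2, i3, DS, cS, hcS, e, α, u, h1, h2, h3, h4, h5⟩ := h
  refine ⟨J, i1, i2, i3, DS, cS, hcS, e ≪≫ e', α, u, h1, h2, h3, h4, fun j ↦ ?_⟩
  have : (a ≫ e'.hom) ≫ (e ≪≫ e').inv = a ≫ e.inv := by simp
  rw [this]
  exact h5 j

lemma HasExt.of_restrict (i0 : I) {Y : Scheme.{u}} (a : c.pt ⟶ Y)
    (h : HasExt (D0 D i0) (c0 D i0 c) a) : HasExt D c a := by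
  obtain ⟨J, i1, i2, i3, DS, cS, hcS, e, α, u, h1, h2, h3, h4, h5⟩ := h
  exact ⟨J, i1, i2, i3, DS, cS, hcS, e, ⟨fun j ↦ (α j).1, fun _ _ h ↦ α.mono h⟩, u, h1, h2, h3,
    fun j j' h ↦ h4 j j' h, fun j ↦ h5 j⟩

end Transport

section PushoutIso
open Groth.Agent.Lead.Glue2
variable {Y U V W : Scheme.{u}} (a : U ⟶ Y) (b : V ⟶ Y) (α : W ⟶ U) (β : W ⟶ V)
  [IsOpenImmersion a] [IsOpenImmersion b] [IsOpenImmersion α] [IsOpenImmersion β]
  (w : α ≫ a = β ≫ b) (hab : ∀ y : Y, y ∈ Set.range a ∨ y ∈ Set.range b)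
  (hint : ∀ (x : U) (y : V), a x = b y → ∃ z : W, α z = x ∧ β z = y)

include hab hint in
lemma isIso_pushout_desc : IsIso (pushout.desc a b w) := by
  have h1 : pushout.inl α β ≫ pushout.desc a b w = a := pushout.inl_desc _ _ _
  have h2 : pushout.inr α β ≫ pushout.desc a b w = b := pushout.inr_desc _ _ _
  have hinj : Function.Injective (pushout.desc a b w) := by
    intro p q hpq
    rcases inl_or_inr α β p with ⟨x, rfl⟩ | ⟨x, rfl⟩ <;>
      rcases inl_or_inr α β q with ⟨y, rfl⟩ | ⟨y, rfl⟩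
    · rw [← Scheme.Hom.comp_apply, ← Scheme.Hom.comp_apply, h1] at hpq
      rw [a.isOpenEmbedding.injective hpq]
    · rw [← Scheme.Hom.comp_apply, ← Scheme.Hom.comp_apply, h1, h2] at hpq
      obtain ⟨z, rfl, rfl⟩ := hint x y hpq
      rw [← Scheme.Hom.comp_apply, ← Scheme.Hom.comp_apply, pushout.condition]
    · rw [← Scheme.Hom.comp_apply, ← Scheme.Hom.comp_apply, h1, h2] at hpq
      obtain ⟨z, rfl, rfl⟩ := hint y x hpq.symm
      rw [← Scheme.Hom.comp_apply, ← Scheme.Hom.comp_apply, pushout.condition]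
    · rw [← Scheme.Hom.comp_apply, ← Scheme.Hom.comp_apply, h2] at hpq
      rw [b.isOpenEmbedding.injective hpq]
  haveI : IsOpenImmersion (pushout.desc a b w) := by
    refine IsOpenImmersion.of_openCover_source _
      (cover2 (pushout.inl α β) (pushout.inr α β) (inl_or_inr α β)) hinj ?_
    rintro (_ | _)
    · change IsOpenImmersion (pushout.inr α β ≫ pushout.desc a b w)
      rw [h2]; infer_instance
    · change IsOpenImmersion (pushout.inl α β ≫ pushout.desc a b w)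
      rw [h1]; infer_instance
  refine isIso_of_isOpenImmersion_of_opensRange_eq_top _ ?_
  ext y
  refine ⟨fun _ ↦ trivial, fun _ ↦ ?_⟩
  change y ∈ Set.range (pushout.desc a b w)
  rcases hab y with ⟨x, rfl⟩ | ⟨x, rfl⟩
  · exact ⟨pushout.inl α β x, by rw [← Scheme.Hom.comp_apply, h1]⟩
  · exact ⟨pushout.inr α β x, by rw [← Scheme.Hom.comp_apply, h2]⟩

end PushoutIso


section OneStep
variable {I : Type u} [Preorder I] [IsDirected I (· ≤ ·)] [Nonempty I]
  (D : Iᵒᵖ ⥤ Scheme.{u}) [hAff : ∀ {i j : Iᵒᵖ} (φ : i ⟶ j), IsAffineHom (D.map φ)]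
  (hD : ∀ i, CompactSpace (D.obj i) ∧ LocallyOfFiniteType (toSZ (D.obj i)))
  (c : Cone D) (hc : IsLimit c)

include hD in
lemma quasiSeparatedSpace_obj (i : Iᵒᵖ) : QuasiSeparatedSpace (D.obj i) := by
  haveI := (hD i).2
  haveI : IsNoetherianRing (ULift.{u} ℤ) :=
    isNoetherianRing_of_ringEquiv ℤ (ULift.ringEquiv : ULift.{u} ℤ ≃+* ℤ).symm
  haveI : IsLocallyNoetherian (SZ.{u}) := by
    unfold SZ
    infer_instance
  haveI : IsLocallyNoetherian (D.obj i) := LocallyOfFiniteType.isLocallyNoetherian (toSZ (D.obj i))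
  infer_instance

include hD hc in
theorem one_step {Y V : Scheme.{u}} [QuasiSeparatedSpace Y] [IsAffine V]
    (a : c.pt ⟶ Y) (b : V ⟶ Y) [IsOpenImmersion a] [IsOpenImmersion b]
    (hab : ∀ y : Y, y ∈ Set.range a ∨ y ∈ Set.range b) : HasExt D c a := by
  haveI : ∀ i, CompactSpace (D.obj i) := fun i ↦ (hD i).1
  haveI : ∀ i, QuasiSeparatedSpace (D.obj i) := fun i ↦ quasiSeparatedSpace_obj D hD i
  haveI : CompactSpace c.pt := Scheme.compactSpace_of_isLimit D c hc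
  -- the intersection
  let Wc : c.pt.Opens := a ⁻¹ᵁ b.opensRange
  have hWc : IsCompact (Wc : Set c.pt) := by
    have h1 : IsCompact (Set.range a ∩ Set.range b) :=
      QuasiSeparatedSpace.inter_isCompact _ _ a.isOpenEmbedding.isOpen_range
        (isCompact_range a.continuous) b.isOpenEmbedding.isOpen_range
        (isCompact_range b.continuous)
    have h2 : (Wc : Set c.pt) = a ⁻¹' (Set.range a ∩ Set.range b) := by
      ext x
      simp [Wc]
    rw [h2]
    exact (a.isOpenEmbedding.isInducing.isCompact_preimage_iff Set.inter_subset_left).mpr h1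
  obtain ⟨i0op, W0, hW0, hW0e⟩ := exists_preimage_eq D c hc Wc hWc
  obtain ⟨i0, rfl⟩ : ∃ i0 : I, i0op = op i0 := ⟨i0op.unop, rfl⟩
  -- instances for the restricted systems
  haveI hA0 : ∀ {i j : (I0 i0)ᵒᵖ} (φ : i ⟶ j), IsAffineHom ((D0 D i0).map φ) := fun φ ↦
    inferInstanceAs (IsAffineHom (D.map _))
  haveI hA' : ∀ {i j : (I0 i0)ᵒᵖ} (φ : i ⟶ j), IsAffineHom ((X' D i0 W0).map φ) := fun φ ↦
    MorphismProperty.of_isPullback (P := @IsAffineHom) (hcart D i0 W0 φ).flip (hA0 φ)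
  haveI : ∀ i, CompactSpace ((D0 D i0).obj i) := fun i ↦
    inferInstanceAs (CompactSpace (D.obj _))
  haveI : ∀ i, CompactSpace ((X' D i0 W0).obj i) := fun i ↦
    isCompact_iff_compactSpace.mp
      (QuasiCompact.isCompact_preimage (f := D.map (homOfLE i.unop.2).op) _ W0.2 hW0)
  haveI : ∀ i, QuasiSeparatedSpace ((X' D i0 W0).obj i) := fun i ↦
    (isQuasiSeparated_iff_quasiSeparatedSpace _ (Wo D i0 W0 i.unop).2).mp
      (.of_quasiSeparatedSpace _)
  have hftX : ∀ i, LocallyOfFiniteType (toSZ ((D0 D i0).obj i)) := fun i ↦ (hD _).2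
  obtain ⟨hc0⟩ := c0_isLimit D i0 c hc
  obtain ⟨hc'⟩ := c'_isLimit D i0 W0 c hc
  -- the map to the affine piece
  have hWeq : W D i0 W0 c = Wc := hW0e
  have hr : Set.range ((W D i0 W0 c).ι ≫ a) ⊆ Set.range b := by
    rintro _ ⟨x, rfl⟩
    have : x.1 ∈ Wc := hWeq ▸ x.2
    exact this
  let β : (c' D i0 W0 c).pt ⟶ V := IsOpenImmersion.lift b ((W D i0 W0 c).ι ≫ a) hr
  have hβ : β ≫ b = (W D i0 W0 c).ι ≫ a := IsOpenImmersion.lift_fac _ _ _
  haveI : IsOpenImmersion (β ≫ b) := by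
    rw [hβ]
    exact inferInstanceAs (IsOpenImmersion ((W D i0 W0 c).ι ≫ a))
  haveI : IsOpenImmersion β := IsOpenImmersion.of_comp β b
  let ιc : (c' D i0 W0 c).pt ⟶ (c0 D i0 c).pt := (W D i0 W0 c).ι
  haveI : IsOpenImmersion ιc := inferInstanceAs (IsOpenImmersion (W D i0 W0 c).ι)
  have key : HasExt (D0 D i0) (c0 D i0 c) (pushout.inl ιc β) :=
    one_step_abstract (D0 D i0) (X' D i0 W0) (ι D i0 W0) (fun φ ↦ hcart D i0 W0 φ) (c0 D i0 c) hc0
      (c' D i0 W0 c) hc' ιc (fun i ↦ hcartc D i0 W0 c i) hftX β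
  -- the glued scheme is `Y`
  let a' : (c0 D i0 c).pt ⟶ Y := a
  haveI : IsOpenImmersion a' := inferInstanceAs (IsOpenImmersion a)
  have hw : ιc ≫ a' = β ≫ b := hβ.symm
  haveI : IsIso (pushout.desc a' b hw) := by
    refine isIso_pushout_desc a' b ιc β hw hab ?_
    intro x y hxy
    have hx : x ∈ W D i0 W0 c := by
      rw [hWeq]
      exact ⟨y, hxy.symm⟩
    refine ⟨⟨x, hx⟩, rfl, ?_⟩
    apply b.isOpenEmbedding.injective
    rw [← hxy, ← Scheme.Hom.comp_apply, hβ]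
    rfl
  have key2 := HasExt.of_iso (D0 D i0) (c0 D i0 c) (pushout.inl ιc β)
    (asIso (pushout.desc a' b hw)) key
  have e1 : pushout.inl ιc β ≫ (asIso (pushout.desc a' b hw)).hom = a' := pushout.inl_desc _ _ _
  rw [e1] at key2
  exact HasExt.of_restrict D c i0 a key2

end OneStep

end Groth.Agent.Lead.NApxL
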