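import Groth.Prelude.Def_SheafNL
import Mathlib

set_option autoImplicit false
universe u
open TensorProduct

namespace Groth.Agent.Lead.NLBaseLocA

open Algebra Algebra.Extension KaehlerDifferential MvPolynomial

theorem smul_mk {R S : Type u} [CommRing R] [CommRing S] [Algebra R S] (P : Extension.{u} R S)
    (r : P.Ring) (x : P.ker) :
    algebraMap P.Ring S r • Cotangent.mk x = Cotangent.mk (r • x) := by
  rw [algebraMap_smul, map_smul]

theorem isUnit_algebraMap {A B : Type u} (A' : Type u) [CommRing A] [CommRing A'] [CommRing B]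
    [Algebra A A'] (M : Submonoid A) [IsLocalization M A'] [Algebra A' B] [Algebra A B]
    [IsScalarTower A A' B] (m : A) (hm : m ∈ M) : IsUnit (algebraMap A B m) := by
  rw [IsScalarTower.algebraMap_apply A A' B]
  exact (IsLocalization.map_units A' (⟨m, hm⟩ : M)).map (algebraMap A' B)

section Generic
variable {R R' S : Type u} [CommRing R] [CommRing R'] [CommRing S] [Algebra R R']
  (M : Submonoid R) [IsLocalization M R'] [Algebra R' S] [Algebra R S] [IsScalarTower R R' S]
  {P : Extension.{u} R S} {P' : Extension.{u} R' S} (f : P.Hom P')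
  (hloc : @IsLocalization P.Ring _ (M.map (algebraMap R P.Ring)) P'.Ring _
    f.toRingHom.toAlgebra)

include hloc in
theorem F1 (q' : P'.Ring) : ∃ (m : R) (_ : m ∈ M) (p : P.Ring),
    f.toRingHom (algebraMap R P.Ring m) * q' = f.toRingHom p := by
  letI := f.toRingHom.toAlgebra
  obtain ⟨⟨p, ⟨_, m, hm, rfl⟩⟩, hpm⟩ := IsLocalization.surj (M.map (algebraMap R P.Ring)) q'
  exact ⟨m, hm, p, by rw [mul_comm]; exact hpm⟩

include hloc in
theorem F2 (I : Ideal P.Ring) (p : P.Ring) (hp : f.toRingHom p ∈ Ideal.map f.toRingHom I) :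
    ∃ (m : R) (_ : m ∈ M), algebraMap R P.Ring m * p ∈ I := by
  letI := f.toRingHom.toAlgebra
  have h' : algebraMap P.Ring P'.Ring p ∈ Ideal.map (algebraMap P.Ring P'.Ring) I := hp
  rw [IsLocalization.mem_map_algebraMap_iff (M.map (algebraMap R P.Ring))] at h'
  obtain ⟨⟨⟨j, hj⟩, ⟨_, m, hm, rfl⟩⟩, hjm⟩ := h'
  rw [← map_mul] at hjm
  obtain ⟨⟨_, m', hm', rfl⟩, hc⟩ :=
    IsLocalization.exists_of_eq (M := M.map (algebraMap R P.Ring)) hjm
  refine ⟨m' * m, M.mul_mem hm' hm, ?_⟩
  have : algebraMap R P.Ring (m' * m) * p =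
      algebraMap R P.Ring m' * (p * algebraMap R P.Ring m) := by rw [map_mul]; ring
  rw [this, hc]
  exact I.mul_mem_left _ hj

theorem algebraMap_f (p : P.Ring) :
    algebraMap P'.Ring S (f.toRingHom p) = algebraMap P.Ring S p :=
  f.algebraMap_toRingHom p

theorem f_mem_ker {p : P.Ring} (hp : p ∈ P.ker) : f.toAlgHom p ∈ P'.ker := by
  change algebraMap P'.Ring S (f.toRingHom p) = 0
  rw [algebraMap_f]
  exact hp

include hloc in
theorem ker_le : P'.ker ≤ Ideal.map f.toRingHom P.ker := by
  intro q' hq'
  obtain ⟨m, hm, p, hpm⟩ := F1 M f hloc q'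
  have hp : p ∈ P.ker := by
    change algebraMap P.Ring S p = 0
    rw [← algebraMap_f f, ← hpm, map_mul]
    have : algebraMap P'.Ring S q' = 0 := hq'
    rw [this, mul_zero]
  letI := f.toRingHom.toAlgebra
  have hu : IsUnit (f.toRingHom (algebraMap R P.Ring m)) :=
    IsLocalization.map_units P'.Ring
      (⟨algebraMap R P.Ring m, m, hm, rfl⟩ : M.map (algebraMap R P.Ring))
  obtain ⟨v, hv⟩ := hu.exists_left_inv
  have : q' = v * f.toRingHom p := by
    rw [← hpm, ← mul_assoc, hv, one_mul]
  rw [this]
  exact Ideal.mul_mem_left _ _ (Ideal.mem_map_of_mem _ hp)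

include hloc in
theorem cotangent_map_surjective : Function.Surjective (Extension.Cotangent.map f) := by
  intro y'
  obtain ⟨⟨p', hp'⟩, rfl⟩ := Cotangent.mk_surjective y'
  obtain ⟨m, hm, p, hpm⟩ := F1 M f hloc p'
  have hp : p ∈ P.ker := by
    change algebraMap P.Ring S p = 0
    rw [← algebraMap_f f, ← hpm, map_mul]
    have : algebraMap P'.Ring S p' = 0 := hp'
    rw [this, mul_zero]
  obtain ⟨u, hu⟩ := (isUnit_algebraMap (B := S) R' M m hm).exists_left_inv
  refine ⟨u • Cotangent.mk ⟨p, hp⟩, ?_⟩
  rw [map_smul, Cotangent.map_mk]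
  have h1 : (Cotangent.mk ⟨f.toAlgHom p, f_mem_ker f hp⟩ : P'.Cotangent) =
      algebraMap R S m • Cotangent.mk ⟨p', hp'⟩ := by
    have h2 : algebraMap R S m = algebraMap P'.Ring S
        (f.toRingHom (algebraMap R P.Ring m)) := by
      rw [algebraMap_f f, ← IsScalarTower.algebraMap_apply]
    rw [h2, smul_mk]
    congr 1
    apply Subtype.ext
    exact hpm.symm
  rw [h1, smul_smul, hu, one_smul]

include hloc in
theorem cotangent_map_injective : Function.Injective (Extension.Cotangent.map f) := by
  rw [injective_iff_map_eq_zero]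
  intro y hy
  obtain ⟨⟨p, hp⟩, rfl⟩ := Cotangent.mk_surjective y
  rw [Cotangent.map_mk, Cotangent.mk_eq_zero_iff] at hy
  have h2 : f.toRingHom p ∈ Ideal.map f.toRingHom (P.ker ^ 2) := by
    rw [Ideal.map_pow]
    exact Ideal.pow_right_mono (ker_le M f hloc) 2 hy
  obtain ⟨m, hm, hmp⟩ := F2 M f hloc _ p h2
  obtain ⟨u, hu⟩ := (isUnit_algebraMap (B := S) R' M m hm).exists_left_inv
  have h3 : algebraMap R S m • Cotangent.mk (⟨p, hp⟩ : P.ker) = 0 := by
    rw [IsScalarTower.algebraMap_apply R P.Ring S, smul_mk, Cotangent.mk_eq_zero_iff]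
    exact hmp
  have := congrArg (fun z => u • z) h3
  simp only [smul_smul, hu, one_smul, smul_zero] at this
  exact this

theorem h1_map_bijective (hb : Function.Bijective (Extension.Cotangent.map f))
    (hinj : Function.Injective (Extension.CotangentSpace.map f)) :
    Function.Bijective (Extension.H1Cotangent.map f) := by
  constructor
  · intro x y hxy
    apply Subtype.ext
    apply hb.1
    have := congrArg Subtype.val hxy
    simpa using this
  · intro y'
    obtain ⟨x, hx⟩ := hb.2 y'.1
    have hx0 : P.cotangentComplex x = 0 := by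
      apply hinj
      rw [CotangentSpace.map_cotangentComplex, hx, map_zero]
      exact y'.2
    exact ⟨⟨x, hx0⟩, Subtype.ext hx⟩

end Generic

section Poly
variable {A A' B : Type u} [CommRing A] [CommRing A'] [CommRing B]
  [Algebra A A'] (M : Submonoid A) [IsLocalization M A'] [Algebra A' B] [Algebra A B]
  [IsScalarTower A A' B]
  {ι : Type u} (G : Algebra.Generators A B ι) (G' : Algebra.Generators A' B ι)
  (h : ∀ i, G'.val i = algebraMap B B (G.val i))

/-- the same-variables hom is `MvPolynomial.map` -/
theorem toRingHom_eq (p : MvPolynomial ι A) :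
    (NLCx.sameVarsHom (S' := B) G G' h).toExtensionHom.toRingHom p =
      MvPolynomial.map (algebraMap A A') p := by
  change (NLCx.sameVarsHom (S' := B) G G' h).toAlgHom p = _
  induction p using MvPolynomial.induction_on with
  | C a =>
    simp only [Generators.Hom.toAlgHom, MvPolynomial.map_C]
    rw [MvPolynomial.aeval_C]
    rw [IsScalarTower.algebraMap_apply A A' (MvPolynomial ι A')]
    rfl
  | add p q hp hq => rw [map_add, map_add, hp, hq]
  | mul_X p i hp =>
    rw [map_mul, map_mul, hp]
    congr 1
    simp [Generators.Hom.toAlgHom, NLCx.sameVarsHom]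

theorem isLoc : @IsLocalization G.toExtension.Ring _
    (M.map (algebraMap A G.toExtension.Ring)) G'.toExtension.Ring _
    (NLCx.sameVarsHom (S' := B) G G' h).toExtensionHom.toRingHom.toAlgebra := by
  have key := MvPolynomial.isLocalization M A' (σ := ι)
  have e : ((NLCx.sameVarsHom (S' := B) G G' h).toExtensionHom.toRingHom :
      MvPolynomial ι A →+* MvPolynomial ι A') = MvPolynomial.map (algebraMap A A') :=
    RingHom.ext (toRingHom_eq G G' h)
  change @IsLocalization (MvPolynomial ι A) _ (M.map (C (σ := ι))) (MvPolynomial ι A') _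
    (RingHom.toAlgebra ((NLCx.sameVarsHom (S' := B) G G' h).toExtensionHom.toRingHom :
      MvPolynomial ι A →+* MvPolynomial ι A'))
  rw [e]
  exact key

theorem cotangentSpace_map_bijective : Function.Bijective
    (Extension.CotangentSpace.map (NLCx.sameVarsHom (S' := B) G G' h).toExtensionHom) := by
  have e : Extension.CotangentSpace.map (NLCx.sameVarsHom (S' := B) G G' h).toExtensionHom =
      (G.cotangentSpaceBasis.equiv G'.cotangentSpaceBasis (Equiv.refl ι)).toLinearMap := by
    apply G.cotangentSpaceBasis.ext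
    intro i
    rw [LinearEquiv.coe_coe, Module.Basis.equiv_apply, Equiv.refl_apply]
    apply G'.cotangentSpaceBasis.ext_elem
    intro j
    rw [Generators.repr_CotangentSpaceMap]
    simp only [NLCx.sameVarsHom, Module.Basis.repr_self]
    classical
    rw [MvPolynomial.pderiv_X, Finsupp.single_apply, Pi.single_apply]
    by_cases hij : i = j
    · subst hij; simp
    · rw [if_neg hij, if_neg hij, map_zero]
  rw [e]
  exact LinearEquiv.bijective _

include M in
theorem h1_map_sameVars_bijective : Function.Bijective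
    (Extension.H1Cotangent.map (NLCx.sameVarsHom (S' := B) G G' h).toExtensionHom) :=
  h1_map_bijective _
    ⟨cotangent_map_injective M _ (isLoc M G G' h), cotangent_map_surjective M _ (isLoc M G G' h)⟩
    (cotangentSpace_map_bijective G G' h).1

end Poly

variable (A A' B : Type u) [CommRing A] [CommRing A'] [CommRing B]
  [Algebra A A'] (M : Submonoid A) [IsLocalization M A'] [Algebra A' B] [Algebra A B]
  [IsScalarTower A A' B]

include M in
/-- **localizing the base does not change `H¹(L)`** -/
theorem h1Cotangent_map_bijective :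
    Function.Bijective (Algebra.H1Cotangent.map A A' B B) := by
  have := h1_map_sameVars_bijective M (Generators.self A B) (Generators.self A' B) (fun _ => rfl)
  rw [Algebra.H1Cotangent.map, Extension.H1Cotangent.map_eq _
    (NLCx.sameVarsHom (S' := B) (Generators.self A B) (Generators.self A' B)
      (fun _ => rfl)).toExtensionHom]
  exact this

end Groth.Agent.Lead.NLBaseLocA
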