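import Mathlib

set_option autoImplicit false
universe u
open TensorProduct

namespace Groth.Agent.Lead.NLImmA

open Algebra Algebra.Extension KaehlerDifferential

section Def
variable (A B : Type u) [CommRing A] [CommRing B] [Algebra A B]

theorem algebraMap_mem_ker (x : A) (hx : algebraMap A B x = 0) :
    algebraMap A (Generators.self A B).toExtension.Ring x ∈
      (Generators.self A B).toExtension.ker := by
  rw [Extension.ker, RingHom.mem_ker, ← IsScalarTower.algebraMap_apply, hx]

/-- the class in `H¹(L_{B/A})` of an element of the kernel of `A → B` -/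
noncomputable def kerToH1 (x : A) (hx : algebraMap A B x = 0) : H1Cotangent A B :=
  ⟨Cotangent.mk ⟨algebraMap A _ x, algebraMap_mem_ker A B x hx⟩, by
    rw [LinearMap.mem_ker, cotangentComplex_mk]
    simp⟩

theorem kerToH1_val (x : A) (hx : algebraMap A B x = 0) :
    (kerToH1 A B x hx).1 = Cotangent.mk ⟨algebraMap A _ x, algebraMap_mem_ker A B x hx⟩ := rfl

variable {A B} (I : Ideal A) (hI : ∀ x ∈ I, algebraMap A B x = 0)

/-- the `A`-linear map `I → H¹(L_{B/A})` -/
noncomputable def idealToH1 : I →ₗ[A] H1Cotangent A B where
  toFun x := kerToH1 A B x.1 (hI _ x.2)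
  map_add' x y := by
    apply Subtype.ext
    rw [kerToH1_val]
    change _ = (kerToH1 A B x.1 (hI _ x.2)).1 + (kerToH1 A B y.1 (hI _ y.2)).1
    rw [kerToH1_val, kerToH1_val, ← map_add]
    congr 1
    apply Subtype.ext
    simp
  map_smul' a x := by
    apply Subtype.ext
    rw [kerToH1_val, RingHom.id_apply, H1Cotangent.val_smul, kerToH1_val]
    have h1 : ∀ m : (Generators.self A B).toExtension.Cotangent,
        a • m = algebraMap A (Generators.self A B).toExtension.Ring a • m :=
      fun m => algebra_compatible_smul _ a m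
    rw [h1, ← map_smul]
    congr 1
    apply Subtype.ext
    simp [Algebra.smul_def]

/-- the canonical `B`-linear map `B ⊗ I → H¹(L_{B/A})` -/
noncomputable def theta : B ⊗[A] I →ₗ[B] H1Cotangent A B :=
  LinearMap.liftBaseChange B (idealToH1 I hI)

end Def

section Nat
variable (A A' B B' : Type u) [CommRing A] [CommRing A'] [CommRing B] [CommRing B']
  [Algebra A B] [Algebra A A'] [Algebra A' B'] [Algebra B B'] [Algebra A B']
  [IsScalarTower A A' B'] [IsScalarTower A B B']

theorem map_kerToH1 (x : A) (hx : algebraMap A B x = 0) :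
    H1Cotangent.map A A' B B' (kerToH1 A B x hx) =
      kerToH1 A' B' (algebraMap A A' x) (by
        rw [← IsScalarTower.algebraMap_apply, IsScalarTower.algebraMap_apply A B B', hx,
          map_zero]) := by
  apply Subtype.ext
  rw [kerToH1_val]
  change Cotangent.map _ (kerToH1 A B x hx).1 = _
  rw [kerToH1_val, Cotangent.map_mk]
  congr 1
  apply Subtype.ext
  exact Extension.Hom.toRingHom_algebraMap _ x

end Nat

end Groth.Agent.Lead.NLImmA
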