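import Groth.Agent.Lead.NLImmA
import Mathlib

set_option autoImplicit false
universe u
open TensorProduct

namespace Groth.Agent.Lead.NLImmB

open Algebra Algebra.Extension KaehlerDifferential

section Good
variable {A A' B' : Type u} [CommRing A] [CommRing A'] [CommRing B'] [Algebra A A']
  [Algebra A' B'] [Algebra A B'] [IsScalarTower A A' B']
  (hsurj : Function.Surjective (algebraMap A' B'))

variable (A) in
/-- the extension `A' → B'` of `B'` over `A` -/
@[reducible] noncomputable def Q : Extension.{u} A B' where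
  Ring := A'
  σ x := (hsurj x).choose
  algebraMap_σ x := (hsurj x).choose_spec

variable (I : Ideal A) (hI : ∀ x ∈ I, algebraMap A B' x = 0)

include hI in
theorem mem_ker (x : I) : algebraMap A A' x.1 ∈ (Q A hsurj).ker := by
  change algebraMap A A' x.1 ∈ RingHom.ker (algebraMap A' B')
  rw [RingHom.mem_ker, ← IsScalarTower.algebraMap_apply]
  exact hI _ x.2

/-- `x ↦ [x] ∈ J/J²` -/
noncomputable def etaQ : I →ₗ[A] (Q A hsurj).Cotangent where
  toFun x := Cotangent.mk ⟨algebraMap A A' x.1, mem_ker hsurj I hI x⟩
  map_add' x y := by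
    rw [← map_add]
    congr 1
    apply Subtype.ext
    exact map_add (algebraMap A A') x.1 y.1
  map_smul' a x := by
    have h1 : ∀ m : (Q A hsurj).Cotangent, a • m = algebraMap A (Q A hsurj).Ring a • m :=
      fun m => algebra_compatible_smul _ a m
    rw [RingHom.id_apply, h1, ← map_smul]
    congr 1
    apply Subtype.ext
    change algebraMap A A' (a • x.1) = algebraMap A A' a * algebraMap A A' x.1
    rw [smul_eq_mul, map_mul]

/-- `B' ⊗ I → J/J²` -/
noncomputable def thetaQ : B' ⊗[A] I →ₗ[B'] (Q A hsurj).Cotangent :=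
  LinearMap.liftBaseChange B' (etaQ hsurj I hI)

theorem thetaQ_tmul (b : B') (x : I) :
    thetaQ hsurj I hI (b ⊗ₜ x) = b • etaQ hsurj I hI x := by
  simp [thetaQ]

variable (M : Submonoid A) [IsLocalization M A']
  (hker : RingHom.ker (algebraMap A' B') = I.map (algebraMap A A'))

include M hker in
theorem thetaQ_surjective : Function.Surjective (thetaQ hsurj I hI) := by
  intro c
  obtain ⟨⟨j, hj⟩, rfl⟩ := Cotangent.mk_surjective c
  have hj' : j ∈ I.map (algebraMap A A') := hker ▸ hj
  obtain ⟨⟨x, m⟩, hx⟩ := (IsLocalization.mem_map_algebraMap_iff M A').mp hj'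
  obtain ⟨u, hu⟩ := (IsLocalization.map_units A' m).exists_left_inv
  refine ⟨algebraMap A' B' u ⊗ₜ x, ?_⟩
  rw [thetaQ_tmul, algebraMap_smul]
  change u • Cotangent.mk _ = _
  rw [← map_smul]
  congr 1
  apply Subtype.ext
  change u * algebraMap A A' x.1 = j
  have hx' : j * algebraMap A A' m.1 = algebraMap A A' x.1 := hx
  rw [← hx', mul_comm j, ← mul_assoc, hu, one_mul]

include M in
theorem isBaseChange_idealMap : IsBaseChange A' (Algebra.idealMap A' I) :=
  (isLocalizedModule_iff_isBaseChange M A' _).mp inferInstance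

/-- `J → B' ⊗ I` -/
noncomputable def gJ : I.map (algebraMap A A') →ₗ[A'] B' ⊗[A] I :=
  (isBaseChange_idealMap I M).lift (TensorProduct.mk A B' I 1)

theorem gJ_idealMap (x : I) : gJ (B' := B') I M (Algebra.idealMap A' I x) = 1 ⊗ₜ x :=
  (isBaseChange_idealMap I M).lift_eq _ x

/-- `ker → B' ⊗ I` -/
noncomputable def kappa : (Q A hsurj).ker →ₗ[A'] B' ⊗[A] I :=
  gJ I M ∘ₗ (LinearEquiv.ofEq _ _ hker).toLinearMap

theorem kappa_mul (x y : (Q A hsurj).ker) : kappa hsurj I M hker (x * y) = 0 := by
  have h1 : x * y = x.1 • y := by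
    apply Subtype.ext
    rfl
  rw [h1, map_smul, ← algebraMap_smul B' x.1, x.2, zero_smul]

/-- the left inverse of `thetaQ` -/
noncomputable def lam : (Q A hsurj).Cotangent →ₗ[A'] B' ⊗[A] I :=
  Ideal.Cotangent.lift (kappa hsurj I M hker) (kappa_mul hsurj I M hker) ∘ₗ
    (cotangentEquivCotangentKer (P := Q A hsurj)).toLinearMap

theorem lam_thetaQ (t : B' ⊗[A] I) : lam hsurj I M hker (thetaQ hsurj I hI t) = t := by
  induction t using TensorProduct.induction_on with
  | zero => simp
  | add x y hx hy => rw [map_add, map_add, hx, hy]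
  | tmul b x =>
    obtain ⟨a', rfl⟩ := hsurj b
    rw [thetaQ_tmul, algebraMap_smul, map_smul]
    have h2 : lam hsurj I M hker (etaQ hsurj I hI x) = 1 ⊗ₜ x := by
      change Ideal.Cotangent.lift (kappa hsurj I M hker) (kappa_mul hsurj I M hker)
        (Ideal.toCotangent _ ⟨algebraMap A A' x.1, mem_ker hsurj I hI x⟩) = _
      rw [Ideal.Cotangent.lift_toCotangent]
      exact gJ_idealMap I M x
    rw [h2, TensorProduct.smul_tmul', Algebra.smul_def, mul_one]

include M hker in
theorem thetaQ_bijective : Function.Bijective (thetaQ hsurj I hI) :=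
  ⟨Function.LeftInverse.injective (lam_thetaQ hsurj I hI M hker),
    thetaQ_surjective hsurj I hI M hker⟩

include M in
theorem subsingleton_cotangentSpace : Subsingleton (Q A hsurj).CotangentSpace := by
  haveI : Algebra.FormallyUnramified A A' := Algebra.FormallyUnramified.of_isLocalization M
  change Subsingleton (B' ⊗[A'] Ω[A'⁄A])
  infer_instance

/-- `B' ⊗ I → H¹(Q)` -/
noncomputable def thetaQH : B' ⊗[A] I →ₗ[B'] (Q A hsurj).H1Cotangent :=
  LinearMap.codRestrict _ (thetaQ hsurj I hI) (fun t => by
    haveI := subsingleton_cotangentSpace (A := A) hsurj M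
    rw [LinearMap.mem_ker]
    exact Subsingleton.elim _ _)

theorem thetaQH_val (t : B' ⊗[A] I) : (thetaQH hsurj I hI M t).1 = thetaQ hsurj I hI t := rfl

include hker in
theorem thetaQH_bijective : Function.Bijective (thetaQH hsurj I hI M) := by
  obtain ⟨hinj, hsur⟩ := thetaQ_bijective hsurj I hI M hker
  constructor
  · intro t t' h
    apply hinj
    rw [← thetaQH_val hsurj I hI M, ← thetaQH_val hsurj I hI M, h]
  · intro c
    obtain ⟨t, ht⟩ := hsur c.1
    exact ⟨t, Subtype.ext ht⟩

/-- the comparison of the standard presentation with `Q` -/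
noncomputable def fQ : (Generators.self A B').toExtension.Hom (Q A hsurj) where
  toRingHom := (MvPolynomial.aeval (R := A) (fun b : B' => (Q A hsurj).σ b)).toRingHom
  toRingHom_algebraMap x := by
    change MvPolynomial.aeval (R := A) (fun b : B' => (Q A hsurj).σ b) (algebraMap A _ x) = _
    rw [AlgHom.commutes]
    rfl
  algebraMap_toRingHom x := by
    change algebraMap A' B' (MvPolynomial.aeval (R := A) (fun b : B' => (Q A hsurj).σ b) x) =
      algebraMap (Generators.self A B').toExtension.Ring B' x
    have h : (IsScalarTower.toAlgHom A A' B').comp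
        (MvPolynomial.aeval (R := A) (fun b : B' => (Q A hsurj).σ b)) =
        IsScalarTower.toAlgHom A (Generators.self A B').toExtension.Ring B' := by
      apply MvPolynomial.algHom_ext
      intro b
      simp only [AlgHom.comp_apply, MvPolynomial.aeval_X, IsScalarTower.coe_toAlgHom']
      rw [(Q A hsurj).algebraMap_σ]
      exact (Generators.algebraMap_apply (Generators.self A B') (MvPolynomial.X b)).symm ▸
        (by simp [Generators.self])
    exact congrArg (fun φ => φ x) h

theorem map_fQ_idealToH1 (x : I) :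
    Extension.H1Cotangent.map (fQ (A := A) hsurj) (NLImmA.idealToH1 I hI x) =
      thetaQH hsurj I hI M (1 ⊗ₜ x) := by
  apply Subtype.ext
  rw [thetaQH_val, thetaQ_tmul, one_smul]
  change Cotangent.map (fQ (A := A) hsurj) (NLImmA.kerToH1 A B' x.1 (hI _ x.2)).1 = _
  rw [NLImmA.kerToH1_val, Cotangent.map_mk]
  change Cotangent.mk _ = Cotangent.mk _
  congr 1
  apply Subtype.ext
  exact (fQ (A := A) hsurj).toRingHom_algebraMap x.1

include M hsurj hker in
theorem theta_bijective_of_good : Function.Bijective (NLImmA.theta I hI) := by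
  haveI : Algebra.FormallySmooth A A' := Algebra.FormallySmooth.of_isLocalization M
  haveI : Algebra.FormallySmooth A (Q A hsurj).Ring := ‹_›
  haveI : Algebra.FormallySmooth A (Generators.self A B').toExtension.Ring :=
    inferInstanceAs (Algebra.FormallySmooth A (MvPolynomial B' A))
  let e := H1Cotangent.equivOfFormallySmooth (Generators.self A B').toExtension (Q A hsurj)
  have key : ∀ t, e (NLImmA.theta I hI t) = thetaQH hsurj I hI M t := by
    intro t
    rw [H1Cotangent.equivOfFormallySmooth_apply (fQ hsurj)]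
    induction t using TensorProduct.induction_on with
    | zero => simp
    | add x y hx hy => rw [map_add, map_add, map_add, hx, hy]
    | tmul b x =>
      have h1 : NLImmA.theta I hI (b ⊗ₜ x) = b • NLImmA.idealToH1 I hI x := by
        simp [NLImmA.theta]
      rw [h1, map_smul, map_fQ_idealToH1 hsurj I hI M x, ← map_smul]
      congr 1
      rw [TensorProduct.smul_tmul', smul_eq_mul, mul_one]
  have h2 : (NLImmA.theta I hI : _ → _) = e.symm ∘ thetaQH hsurj I hI M := by
    funext t
    rw [Function.comp_apply, ← key t, LinearEquiv.symm_apply_apply]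
  rw [h2]
  exact e.symm.bijective.comp (thetaQH_bijective hsurj I hI M hker)

end Good

end Groth.Agent.Lead.NLImmB
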