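import Groth.Agent.Lead.NLImmB
import Groth.Agent.Lead.BCMap8
import Mathlib

set_option autoImplicit false
universe u
open TensorProduct

namespace Groth.Agent.Lead.NLImmC

open Algebra Algebra.Extension KaehlerDifferential

section Loc
variable {A B : Type u} [CommRing A] [CommRing B] [Algebra A B] (I : Ideal A)
  (hI : ∀ x ∈ I, algebraMap A B x = 0) (r : B)

include hI in
theorem hI_loc (x : A) (hx : x ∈ I) : algebraMap A (Localization.Away r) x = 0 := by
  rw [IsScalarTower.algebraMap_apply A B (Localization.Away r), hI x hx, map_zero]

/-- `H¹(L_{B/A}) → H¹(L_{B_r/A})` is a localization -/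
theorem isLocalizedModule_map : IsLocalizedModule (Submonoid.powers r)
    (Algebra.H1Cotangent.map A A B (Localization.Away r)) := by
  rw [isLocalizedModule_iff_isBaseChange (Submonoid.powers r) (Localization.Away r),
    BCMap.isBaseChange_iff_bijective]
  have h := (tensorH1CotangentOfIsLocalization A (Localization.Away r)
    (Submonoid.powers r)).bijective
  have key : ∀ t, BCMap.bcLift (Localization.Away r)
      (Algebra.H1Cotangent.map A A B (Localization.Away r)) t =
      LinearMap.liftBaseChange (Localization.Away r)
        (Algebra.H1Cotangent.map A A B (Localization.Away r)) t := by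
    intro t
    induction t using TensorProduct.induction_on with
    | zero => simp
    | add x y hx hy => rw [map_add, map_add, hx, hy]
    | tmul b x => simp
  have h2 := tensorH1CotangentOfIsLocalization_toLinearMap A (Localization.Away r)
    (Submonoid.powers r)
  convert h using 1
  funext t
  rw [key t, ← h2]
  rfl

theorem map_idealToH1 (x : I) :
    Algebra.H1Cotangent.map A A B (Localization.Away r) (NLImmA.idealToH1 I hI x) =
      NLImmA.idealToH1 I (hI_loc I hI r) x := by
  exact NLImmA.map_kerToH1 A A B (Localization.Away r) x.1 (hI _ x.2)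

theorem map_theta (t : B ⊗[A] I) :
    Algebra.H1Cotangent.map A A B (Localization.Away r) (NLImmA.theta I hI t) =
      NLImmA.theta I (hI_loc I hI r)
        (AlgebraTensorModule.rTensor A I (Algebra.linearMap B (Localization.Away r)) t) := by
  induction t using TensorProduct.induction_on with
  | zero => simp
  | add x y hx hy => rw [map_add, map_add, map_add, map_add, hx, hy]
  | tmul b x =>
    have h1 : NLImmA.theta I hI (b ⊗ₜ x) = b • NLImmA.idealToH1 I hI x := by
      simp [NLImmA.theta]
    have h2 : NLImmA.theta I (hI_loc I hI r) (algebraMap B (Localization.Away r) b ⊗ₜ x) =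
        algebraMap B (Localization.Away r) b • NLImmA.idealToH1 I (hI_loc I hI r) x := by
      simp [NLImmA.theta]
    rw [h1, map_smul, map_idealToH1]
    change _ = NLImmA.theta I (hI_loc I hI r) (algebraMap B (Localization.Away r) b ⊗ₜ x)
    rw [h2, algebraMap_smul]

theorem localized_theta :
    haveI := isLocalizedModule_map (A := A) r
    IsLocalizedModule.map (Submonoid.powers r)
      (AlgebraTensorModule.rTensor A I (Algebra.linearMap B (Localization.Away r)))
      (Algebra.H1Cotangent.map A A B (Localization.Away r)) (NLImmA.theta I hI) =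
      (NLImmA.theta I (hI_loc I hI r)).restrictScalars B := by
  haveI := isLocalizedModule_map (A := A) r
  apply IsLocalizedModule.linearMap_ext (Submonoid.powers r)
    (AlgebraTensorModule.rTensor A I (Algebra.linearMap B (Localization.Away r)))
    (Algebra.H1Cotangent.map A A B (Localization.Away r))
  rw [IsLocalizedModule.map_comp]
  apply LinearMap.ext
  intro t
  exact map_theta I hI r t

end Loc

section Away
variable {A B : Type u} [CommRing A] [CommRing B] [Algebra A B] (I : Ideal A)
  (hI : ∀ x ∈ I, algebraMap A B x = 0) (a : A)

include hI in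
theorem theta_away_bijective
    (hs : ∀ y : B, ∃ (x : A) (n : ℕ), algebraMap A B a ^ n * y = algebraMap A B x)
    (hk : ∀ x : A, algebraMap A B x = 0 → ∃ n : ℕ, a ^ n * x ∈ I) :
    Function.Bijective (NLImmA.theta (B := Localization.Away (algebraMap A B a)) I
      (hI_loc I hI (algebraMap A B a))) := by
  let g : Localization.Away a →+* Localization.Away (algebraMap A B a) :=
    IsLocalization.Away.map (Localization.Away a) (Localization.Away (algebraMap A B a))
      (algebraMap A B) a
  have hg : ∀ x : A, g (algebraMap A (Localization.Away a) x) =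
      algebraMap B (Localization.Away (algebraMap A B a)) (algebraMap A B x) := fun x =>
    IsLocalization.map_eq _ x
  letI : Algebra (Localization.Away a) (Localization.Away (algebraMap A B a)) := g.toAlgebra
  haveI : IsScalarTower A (Localization.Away a) (Localization.Away (algebraMap A B a)) :=
    IsScalarTower.of_algebraMap_eq (fun x => by
      rw [IsScalarTower.algebraMap_apply A B (Localization.Away (algebraMap A B a))]
      exact (hg x).symm)
  have hsurj : Function.Surjective (algebraMap (Localization.Away a)
      (Localization.Away (algebraMap A B a))) := by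
    intro y'
    obtain ⟨y, ⟨_, k, rfl⟩, rfl⟩ := IsLocalization.exists_mk'_eq
      (Submonoid.powers (algebraMap A B a)) y'
    obtain ⟨x, n, hx⟩ := hs y
    refine ⟨IsLocalization.mk' (Localization.Away a) x
      (⟨a ^ (n + k), n + k, rfl⟩ : Submonoid.powers a), ?_⟩
    change g _ = _
    have h1 : g (IsLocalization.mk' (Localization.Away a) x
        (⟨a ^ (n + k), n + k, rfl⟩ : Submonoid.powers a)) =
        IsLocalization.mk' (Localization.Away (algebraMap A B a)) (algebraMap A B x)
          (⟨algebraMap A B (a ^ (n + k)), n + k, by rw [map_pow]⟩ :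
            Submonoid.powers (algebraMap A B a)) := IsLocalization.map_mk' _ _ _
    rw [h1, IsLocalization.mk'_eq_iff_eq]
    congr 1
    change algebraMap A B a ^ k * algebraMap A B x = algebraMap A B (a ^ (n + k)) * y
    rw [← hx, map_pow, pow_add]
    ring
  have hker : RingHom.ker (algebraMap (Localization.Away a)
      (Localization.Away (algebraMap A B a))) = I.map (algebraMap A (Localization.Away a)) := by
    apply le_antisymm
    · intro z hz
      obtain ⟨x, ⟨_, k, rfl⟩, rfl⟩ := IsLocalization.exists_mk'_eq (Submonoid.powers a) z
      rw [RingHom.mem_ker] at hz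
      change g _ = 0 at hz
      have h1 : g (IsLocalization.mk' (Localization.Away a) x
          (⟨a ^ k, k, rfl⟩ : Submonoid.powers a)) =
          IsLocalization.mk' (Localization.Away (algebraMap A B a)) (algebraMap A B x)
            (⟨algebraMap A B (a ^ k), k, by rw [map_pow]⟩ :
              Submonoid.powers (algebraMap A B a)) := IsLocalization.map_mk' _ _ _
      rw [h1, IsLocalization.mk'_eq_zero_iff] at hz
      obtain ⟨⟨_, j, rfl⟩, hj⟩ := hz
      have h2 : algebraMap A B (a ^ j * x) = 0 := by
        rw [map_mul, map_pow]; exact hj
      obtain ⟨n, hn⟩ := hk _ h2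
      rw [IsLocalization.mk'_mem_map_algebraMap_iff]
      refine ⟨a ^ (n + j), ⟨n + j, rfl⟩, ?_⟩
      rw [pow_add, mul_assoc]
      exact hn
    · rw [Ideal.map_le_iff_le_comap]
      intro x hx
      rw [Ideal.mem_comap, RingHom.mem_ker]
      change g _ = 0
      rw [hg, hI x hx, map_zero]
  exact NLImmB.theta_bijective_of_good hsurj I (hI_loc I hI (algebraMap A B a))
    (Submonoid.powers a) hker

include hI in
/-- the canonical map `B ⊗ I → H¹(L_{B/A})` is bijective if locally on `B` the map `A → B` is a
surjection with kernel `I` after inverting an element of `A`. -/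
theorem theta_bijective (s : Set A) (hs : Ideal.span (algebraMap A B '' s) = ⊤)
    (hsurj : ∀ a ∈ s, ∀ y : B, ∃ (x : A) (n : ℕ), algebraMap A B a ^ n * y = algebraMap A B x)
    (hker : ∀ a ∈ s, ∀ x : A, algebraMap A B x = 0 → ∃ n : ℕ, a ^ n * x ∈ I) :
    Function.Bijective (NLImmA.theta I hI) := by
  haveI : ∀ r : (algebraMap A B '' s), IsLocalizedModule.Away r.1
      (Algebra.H1Cotangent.map A A B (Localization.Away r.1)) :=
    fun r => isLocalizedModule_map r.1
  apply bijective_of_isLocalized_span (algebraMap A B '' s) hs
    (fun r => Localization.Away r.1 ⊗[A] I)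
    (fun r => AlgebraTensorModule.rTensor A I (Algebra.linearMap B (Localization.Away r.1)))
    (fun r => Algebra.H1Cotangent A (Localization.Away r.1))
    (fun r => Algebra.H1Cotangent.map A A B (Localization.Away r.1))
  rintro ⟨_, a, ha, rfl⟩
  rw [localized_theta I hI]
  exact theta_away_bijective I hI a (hsurj a ha) (hker a ha)

end Away

end Groth.Agent.Lead.NLImmC
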