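import Mathlib

set_option autoImplicit false
open TensorProduct
universe u

namespace Groth.Agent.Lead.OmegaCnE

/-- for a surjective `B → C` with kernel `I`: `1 ⊗ m = 0` in `C ⊗_B M` forces `m ∈ I M`. -/
theorem mem_smul_top_of_one_tmul_eq_zero (B C M : Type u) [CommRing B] [CommRing C] [Algebra B C]
    [AddCommGroup M] [Module B M] (h : Function.Surjective (algebraMap B C)) (m : M)
    (hm : (1 : C) ⊗ₜ[B] m = 0) :
    m ∈ (RingHom.ker (algebraMap B C)) • (⊤ : Submodule B M) := by
  let e : C ≃ₗ[B] (B ⧸ RingHom.ker (algebraMap B C)) :=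
    (Ideal.quotientKerAlgEquivOfSurjective (f := Algebra.ofId B C) h).symm.toLinearEquiv
  have h1 := congr((TensorProduct.quotTensorEquivQuotSMul M (RingHom.ker (algebraMap B C)))
    ((TensorProduct.congr e (LinearEquiv.refl B M)) $hm))
  rw [map_zero, map_zero, TensorProduct.congr_tmul] at h1
  have he : e 1 = Ideal.Quotient.mk _ 1 := by
    change (Ideal.quotientKerAlgEquivOfSurjective (f := Algebra.ofId B C) h).symm 1 = _
    rw [map_one]; rfl
  rw [he, LinearEquiv.refl_apply, TensorProduct.quotTensorEquivQuotSMul_mk_tmul, one_smul] at h1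
  exact (Submodule.Quotient.mk_eq_zero _).mp h1


section Two
variable (A B C : Type u) [CommRing A] [CommRing B] [CommRing C] [Algebra A B] [Algebra B C]
  [Algebra A C] [IsScalarTower A B C]

/-- the ideal `I² + K B` -/
noncomputable def J : Ideal B :=
  (RingHom.ker (algebraMap B C)) ^ 2 ⊔ Ideal.map (algebraMap A B) (RingHom.ker (algebraMap A C))

variable {A B C}

omit [IsScalarTower A B C] in
theorem mk_sub_eq (_hAC : Function.Surjective (algebraMap A C)) (b : B) (a a' : A)
    (ha : algebraMap A C a = algebraMap B C b) (ha' : algebraMap A C a' = algebraMap B C b) :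
    (Ideal.Quotient.mk (J A B C) (b - algebraMap A B a) : B ⧸ J A B C) =
      Ideal.Quotient.mk (J A B C) (b - algebraMap A B a') := by
  rw [Ideal.Quotient.eq]
  have h1 : b - algebraMap A B a - (b - algebraMap A B a') = algebraMap A B (a' - a) := by
    rw [map_sub]; ring
  rw [h1]
  apply Ideal.mem_sup_right
  apply Ideal.mem_map_of_mem
  rw [RingHom.mem_ker, map_sub, ha, ha', sub_self]

/-- the derivation `b ↦ [b - a]` (`a ∈ A` any lift of the image of `b` in `C`), valued in
`B ⧸ (I² + K B)`. -/
noncomputable def δ (hAC : Function.Surjective (algebraMap A C)) : Derivation A B (B ⧸ J A B C) :=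
  Derivation.mk'
    { toFun := fun b => Ideal.Quotient.mk (J A B C)
        (b - algebraMap A B (Function.surjInv hAC (algebraMap B C b)))
      map_add' := by
        intro b b'
        rw [mk_sub_eq hAC (b + b') _ (Function.surjInv hAC (algebraMap B C b) +
          Function.surjInv hAC (algebraMap B C b')) (Function.surjInv_eq hAC _)
          (by rw [map_add, map_add, Function.surjInv_eq hAC, Function.surjInv_eq hAC]),
          ← map_add]
        congr 1
        rw [map_add]; ring
      map_smul' := by
        intro a₀ b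
        rw [mk_sub_eq hAC (a₀ • b) _ (a₀ * Function.surjInv hAC (algebraMap B C b))
          (Function.surjInv_eq hAC _)
          (by rw [map_mul, Function.surjInv_eq hAC, Algebra.smul_def, map_mul,
            ← IsScalarTower.algebraMap_apply])]
        rw [RingHom.id_apply, Algebra.smul_def, Algebra.smul_def, map_mul, ← mul_sub, map_mul]
        rfl }
    (by
      intro b b'
      change Ideal.Quotient.mk (J A B C) _ = b • Ideal.Quotient.mk (J A B C) _ +
        b' • Ideal.Quotient.mk (J A B C) _
      rw [mk_sub_eq hAC (b * b') _ (Function.surjInv hAC (algebraMap B C b) *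
          Function.surjInv hAC (algebraMap B C b')) (Function.surjInv_eq hAC _)
          (by rw [map_mul, map_mul, Function.surjInv_eq hAC, Function.surjInv_eq hAC])]
      set a := Function.surjInv hAC (algebraMap B C b) with ha
      set a' := Function.surjInv hAC (algebraMap B C b') with ha'
      rw [Algebra.smul_def, Algebra.smul_def, Ideal.Quotient.algebraMap_eq, ← map_mul, ← map_mul,
        ← map_add, Ideal.Quotient.eq]
      have h1 : b * b' - algebraMap A B (a * a') - (b * (b' - algebraMap A B a') +
          b' * (b - algebraMap A B a)) =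
          - ((b - algebraMap A B a) * (b' - algebraMap A B a')) := by
        rw [map_mul]; ring
      rw [h1]
      apply Ideal.mem_sup_left
      rw [pow_two]
      apply neg_mem
      apply Ideal.mul_mem_mul
      · rw [RingHom.mem_ker, map_sub, ← IsScalarTower.algebraMap_apply, ha,
          Function.surjInv_eq hAC, sub_self]
      · rw [RingHom.mem_ker, map_sub, ← IsScalarTower.algebraMap_apply, ha',
          Function.surjInv_eq hAC, sub_self])

theorem δ_apply (hAC : Function.Surjective (algebraMap A C)) (b : B) (a : A)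
    (ha : algebraMap A C a = algebraMap B C b) :
    δ hAC b = Ideal.Quotient.mk (J A B C) (b - algebraMap A B a) :=
  mk_sub_eq hAC b _ a (Function.surjInv_eq hAC _) ha

/-- exactness of `K/K² → I/I² → C ⊗_B Ω[B/A]` at the middle, elementwise -/
theorem mem_J_of_one_tmul_D_eq_zero (hAC : Function.Surjective (algebraMap A C))
    (hBC : Function.Surjective (algebraMap B C)) (s : B)
    (hs : s ∈ RingHom.ker (algebraMap B C))
    (h0 : (1 : C) ⊗ₜ[B] KaehlerDifferential.D A B s = 0) : s ∈ J A B C := by
  have h1 := mem_smul_top_of_one_tmul_eq_zero B C _ hBC _ h0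
  have hL : ∀ ω : Ω[B⁄A], ∃ u ∈ RingHom.ker (algebraMap B C),
      (δ hAC).liftKaehlerDifferential ω = Ideal.Quotient.mk (J A B C) u := by
    intro ω
    have hω : ω ∈ Submodule.span B (Set.range (KaehlerDifferential.D A B)) := by
      rw [KaehlerDifferential.span_range_derivation]; trivial
    induction hω using Submodule.span_induction with
    | mem x hx =>
      obtain ⟨b, rfl⟩ := hx
      rw [Derivation.liftKaehlerDifferential_comp_D]
      refine ⟨b - algebraMap A B (Function.surjInv hAC (algebraMap B C b)), ?_, rfl⟩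
      rw [RingHom.mem_ker, map_sub, ← IsScalarTower.algebraMap_apply,
        Function.surjInv_eq hAC, sub_self]
    | zero => exact ⟨0, zero_mem _, by rw [map_zero, map_zero]⟩
    | add x y _ _ hx hy =>
      obtain ⟨u, hu, h⟩ := hx
      obtain ⟨v, hv, h'⟩ := hy
      exact ⟨u + v, add_mem hu hv, by rw [map_add, h, h', map_add]⟩
    | smul r x _ hx =>
      obtain ⟨u, hu, h⟩ := hx
      refine ⟨r * u, Ideal.mul_mem_left _ _ hu, ?_⟩
      rw [_root_.map_smul, h, Algebra.smul_def, Ideal.Quotient.algebraMap_eq, ← map_mul]
  have hzero : ∀ ω ∈ (RingHom.ker (algebraMap B C)) • (⊤ : Submodule B Ω[B⁄A]),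
      (δ hAC).liftKaehlerDifferential ω = 0 := by
    intro ω hω
    refine Submodule.smul_induction_on hω ?_ ?_
    · intro r hr n _
      obtain ⟨u, hu, h⟩ := hL n
      rw [_root_.map_smul, h, Algebra.smul_def, Ideal.Quotient.algebraMap_eq, ← map_mul,
        Ideal.Quotient.eq_zero_iff_mem]
      exact Ideal.mem_sup_left (by rw [pow_two]; exact Ideal.mul_mem_mul hr hu)
    · intro x y hx hy
      rw [map_add, hx, hy, add_zero]
  have h2 := hzero _ h1
  rw [Derivation.liftKaehlerDifferential_comp_D,
    δ_apply hAC s 0 (by rw [map_zero]; exact hs.symm), map_zero, sub_zero,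
    Ideal.Quotient.eq_zero_iff_mem] at h2
  exact h2

/-- injectivity of `K/K² → I/I²` for `B` formally smooth over `A`, elementwise -/
theorem mem_sq_of_formallySmooth [Algebra.FormallySmooth A B]
    (hAC : Function.Surjective (algebraMap A C)) (a : A)
    (h : algebraMap A B a ∈ (RingHom.ker (algebraMap B C)) ^ 2) :
    a ∈ (RingHom.ker (algebraMap A C)) ^ 2 := by
  let g := (Algebra.ofId A C).kerSquareLift
  have hsurj : Function.Surjective g := by
    intro c
    obtain ⟨a, rfl⟩ := hAC c
    exact ⟨Ideal.Quotient.mk _ a, AlgHom.kerSquareLift_mk _ a⟩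
  have hker2 : (RingHom.ker (g : (A ⧸ RingHom.ker (Algebra.ofId A C).toRingHom ^ 2) →+* C)) ^ 2
      = ⊥ := by
    have := AlgHom.ker_kerSquareLift (Algebra.ofId A C)
    erw [this]
    exact Ideal.cotangentIdeal_square _
  have hnil : IsNilpotent (RingHom.ker
      (g : (A ⧸ RingHom.ker (Algebra.ofId A C).toRingHom ^ 2) →+* C)) := ⟨2, hker2⟩
  let l := Algebra.FormallySmooth.liftOfSurjective (IsScalarTower.toAlgHom A B C) g hsurj hnil
  have hl : ∀ b, g (l b) = algebraMap B C b :=
    Algebra.FormallySmooth.liftOfSurjective_apply _ g hsurj hnil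
  have hI : ∀ t ∈ RingHom.ker (algebraMap B C),
      l t ∈ RingHom.ker (g : (A ⧸ RingHom.ker (Algebra.ofId A C).toRingHom ^ 2) →+* C) := by
    intro t ht
    rw [RingHom.mem_ker]
    exact (hl t).trans ht
  have hI2 : ∀ x ∈ (RingHom.ker (algebraMap B C)) ^ 2, l x = 0 := by
    intro x hx
    rw [pow_two] at hx
    refine Submodule.mul_induction_on hx ?_ ?_
    · intro t ht u hu
      have h3 := Ideal.mul_mem_mul (hI t ht) (hI u hu)
      rw [← pow_two, hker2] at h3
      rw [map_mul]
      exact h3
    · intro x y hx hy
      rw [map_add, hx, hy, add_zero]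
  have h1 := hI2 _ h
  rw [AlgHom.commutes, Ideal.Quotient.algebraMap_eq, Ideal.Quotient.eq_zero_iff_mem] at h1
  exact h1

end Two

end Groth.Agent.Lead.OmegaCnE
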