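import Groth.Agent.Lead.OmegaCnD
import Groth.Agent.Lead.OmegaCnE
import Groth.Agent.Helper1.BasisHom
import Mathlib

set_option autoImplicit false
set_option backward.isDefEq.respectTransparency false
set_option backward.isDefEq.respectTransparency.types false
open CategoryTheory CategoryTheory.Limits AlgebraicGeometry Opposite TopologicalSpace TensorProduct
universe u

namespace Groth.Agent.Lead.OmegaCnF

open Scheme.Modules OmegaSh Groth.Agent.Helper4 Groth.Agent.Lead.BCMap Groth.Agent.Helper1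

section General
variable {Z X : Scheme.{u}} (i : Z ⟶ X) [QuasiCompact i]

/-- the affine opens inside `P` cover `P` -/
theorem le_iSup_affine (P : X.Opens) :
    P ≤ ⨆ k : {U : X.affineOpens // U.1 ≤ P}, k.1.1 := by
  intro x hx
  obtain ⟨_, ⟨U, hU : IsAffineOpen U, rfl⟩, hxU, hUP⟩ :=
    X.isBasis_affineOpens.exists_subset_of_mem_open hx P.isOpen
  exact Opens.mem_iSup.2 ⟨⟨⟨U, hU⟩, hUP⟩, hxU⟩

/-- a function killed by `i♯` over an arbitrary open is a section of the ideal of `i` -/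
theorem exists_idealSect_of_app_eq_zero (P : X.Opens) (t : Γ(X, P)) (ht : i.app P t = 0) :
    ∃ s : Γ(ClSub.idealMod i.ker, P), idealSect i.ker P s = t := by
  have h0 : (ClSub.toSubscheme i.ker).app P (show Γ(Coh.structureModule X, P) from t) = 0 := by
    apply BasisHom.section_ext_of_cover _ P
      (fun k : {U : X.affineOpens // U.1 ≤ P} => k.1.1) (fun k => k.2) (le_iSup_affine P)
    intro k
    rw [map_zero, ← StalkExact.app_res]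
    have h1 : i.app k.1.1 (X.presheaf.map (homOfLE k.2).op t) = 0 := by
      have := congr($(i.naturality (homOfLE k.2).op) t)
      refine this.trans ?_
      change Z.presheaf.map _ (i.app P t) = 0
      rw [ht, map_zero]
    obtain ⟨σ, hσ⟩ := OmegaCnB.exists_idealSect i k.1.2 _ h1
    exact (SubSec.exists_kernel_section_iff (ClSub.toSubscheme i.ker) k.1.1 _).mp ⟨σ, hσ⟩
  obtain ⟨s, hs⟩ := (SubSec.exists_kernel_section_iff (ClSub.toSubscheme i.ker) P _).mpr h0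
  exact ⟨s, hs⟩

/-- sections of the ideal of `i` over an arbitrary open are killed by `i♯` -/
theorem app_idealSect_general (P : X.Opens) (s : Γ(ClSub.idealMod i.ker, P)) :
    i.app P (idealSect i.ker P s) = 0 := by
  have hcov : i ⁻¹ᵁ P ≤ ⨆ k : {U : X.affineOpens // U.1 ≤ P}, i ⁻¹ᵁ k.1.1 := by
    intro x hx
    obtain ⟨k, hk⟩ := Opens.mem_iSup.1 (le_iSup_affine P (show i x ∈ P from hx))
    exact Opens.mem_iSup.2 ⟨k, hk⟩
  have key := BasisHom.section_ext_of_cover (Coh.structureModule Z) (i ⁻¹ᵁ P)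
    (fun k : {U : X.affineOpens // U.1 ≤ P} => i ⁻¹ᵁ k.1.1)
    (fun k => i.preimage_mono k.2) hcov
    (show Γ(Coh.structureModule Z, i ⁻¹ᵁ P) from i.app P (idealSect i.ker P s)) 0 ?_
  · exact key
  · intro k
    rw [map_zero]
    have h1 := congr($(i.naturality (homOfLE k.2).op) (idealSect i.ker P s))
    have h2 : X.presheaf.map (homOfLE k.2).op (idealSect i.ker P s) =
        idealSect i.ker k.1.1 ((ClSub.idealMod i.ker).presheaf.map (homOfLE k.2).op s) :=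
      (StalkExact.app_res (ClSub.idealModι i.ker) (homOfLE k.2) s).symm
    have h3 : i.app k.1.1 (X.presheaf.map (homOfLE k.2).op (idealSect i.ker P s)) = 0 := by
      rw [h2]
      exact OmegaCnB.app_idealSect i k.1.2 _
    exact h1.symm.trans h3

/-- converse of `conormalSect_eq_zero`: a section of the ideal with vanishing class lies in
`I²` -/
theorem idealSect_mem_sq {U : X.Opens} (hU : IsAffineOpen U) (hU' : IsAffineOpen (i ⁻¹ᵁ U))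
    (hsurj : Function.Surjective (i.app U)) (σ : Γ(ClSub.idealMod i.ker, U))
    (h : conormalSect i U σ = 0) :
    idealSect i.ker U σ ∈ (RingHom.ker (i.app U).hom) ^ 2 := by
  have e : i ⁻¹ᵁ U ≤ i ⁻¹ᵁ U := le_rfl
  letI algBC := (i.appLE U (i ⁻¹ᵁ U) e).hom.toAlgebra
  have hsurj' : Function.Surjective (algebraMap Γ(X, U) Γ(Z, i ⁻¹ᵁ U)) := by
    intro t
    obtain ⟨s, hs⟩ := hsurj t
    refine ⟨s, ?_⟩
    change i.appLE U (i ⁻¹ᵁ U) e s = t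
    rw [Scheme.Hom.appLE_eq_app]
    exact hs
  have h5 : RingHom.ker (i.app U).hom = RingHom.ker (algebraMap Γ(X, U) Γ(Z, i ⁻¹ᵁ U)) := by
    change _ = RingHom.ker (i.appLE U (i ⁻¹ᵁ U) e).hom
    rw [Scheme.Hom.appLE_eq_app]
  letI : Module Γ(X, U) Γ((Scheme.Modules.pullback i).obj (ClSub.idealMod i.ker), i ⁻¹ᵁ U) :=
    Module.compHom _ (i.appLE U (i ⁻¹ᵁ U) e).hom
  haveI : IsScalarTower Γ(X, U) Γ(Z, i ⁻¹ᵁ U)
      Γ((Scheme.Modules.pullback i).obj (ClSub.idealMod i.ker), i ⁻¹ᵁ U) :=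
    IsScalarTower.of_compHom _ _ _
  obtain ⟨ρI, hρI, hbI⟩ := exists_isBaseChange_pbSec i (ClSub.idealMod i.ker) hU hU' e
  have h1 : hbI.equiv ((1 : Γ(Z, i ⁻¹ᵁ U)) ⊗ₜ[Γ(X, U)] σ) = 0 := by
    rw [IsBaseChange.equiv_tmul, one_smul, hρI, OmegaCnB.pbSec_self]
    exact h
  have h2 : (1 : Γ(Z, i ⁻¹ᵁ U)) ⊗ₜ[Γ(X, U)] σ = 0 :=
    hbI.equiv.injective (h1.trans (map_zero _).symm)
  have h3 := OmegaCnE.mem_smul_top_of_one_tmul_eq_zero _ _ _ hsurj' σ h2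
  rw [h5]
  refine Submodule.smul_induction_on h3 ?_ ?_
  · intro t ht ν _
    rw [OmegaCnC.idealSect_smul, pow_two]
    refine Ideal.mul_mem_mul ht ?_
    rw [← h5, RingHom.mem_ker]
    exact OmegaCnB.app_idealSect i hU ν
  · intro x y hx hy
    rw [map_add]
    exact add_mem hx hy

end General

/-- maps out of a double pullback are determined by their values on doubly pulled-back sections -/
theorem pullback_hom_ext₂ {X'' X' X : Scheme.{u}} (h' : X'' ⟶ X') (h : X' ⟶ X) {M : X.Modules}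
    {F : X''.Modules}
    (a b : (Scheme.Modules.pullback h').obj ((Scheme.Modules.pullback h).obj M) ⟶ F)
    (hab : ∀ (U : X.Opens) (m : Γ(M, U)),
      a.app (h' ⁻¹ᵁ (h ⁻¹ᵁ U)) (pullSect h' _ (h ⁻¹ᵁ U) (pullSect h M U m)) =
        b.app (h' ⁻¹ᵁ (h ⁻¹ᵁ U)) (pullSect h' _ (h ⁻¹ᵁ U) (pullSect h M U m))) : a = b := by
  apply ((pullbackPushforwardAdjunction h').homEquiv _ _).injective
  apply OmegaCnB.pullback_hom_ext' h
  intro U m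
  have h1 : ∀ c : (Scheme.Modules.pullback h').obj ((Scheme.Modules.pullback h).obj M) ⟶ F,
      ((pullbackPushforwardAdjunction h').homEquiv _ _ c).app (h ⁻¹ᵁ U) (pullSect h M U m) =
      c.app (h' ⁻¹ᵁ (h ⁻¹ᵁ U)) (pullSect h' _ (h ⁻¹ᵁ U) (pullSect h M U m)) := by
    intro c
    rw [Adjunction.homEquiv_unit]; rfl
  rw [h1 a, h1 b]
  exact hab U m

theorem appLE_surjective_of_eq {X Y : Scheme.{u}} (f : X ⟶ Y) (V : Y.Opens) (W : X.Opens)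
    (h : W = f ⁻¹ᵁ V) (e : W ≤ f ⁻¹ᵁ V) (hs : Function.Surjective (f.app V)) :
    Function.Surjective (f.appLE V W e) := by
  subst h
  rw [Scheme.Hom.appLE_eq_app]
  exact hs

theorem app_eq_zero_of_appLE_eq_zero {X Y : Scheme.{u}} (f : X ⟶ Y) (V : Y.Opens) (W : X.Opens)
    (h : W = f ⁻¹ᵁ V) (e : W ≤ f ⁻¹ᵁ V) (a : Γ(Y, V)) (ha : f.appLE V W e a = 0) :
    f.app V a = 0 := by
  subst h
  rwa [Scheme.Hom.appLE_eq_app] at ha

section Two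
variable {Z X Y : Scheme.{u}} (p : X ⟶ Y) (i : Z ⟶ X) [IsImmersion i] [IsImmersion (i ≫ p)]
  [QuasiCompact i] [QuasiCompact (i ≫ p)]
  {Ω : X.Modules} (d : Der p Ω) (hd : IsUniversal d)
  (ψ : (Scheme.Modules.pullback (𝟙 Z)).obj (Omega.conormal (i ≫ p)) ⟶ Omega.conormal i)
  (hψ : IsConormalMap i (i ≫ p) p (𝟙 Z) ψ)
  (φ : Omega.conormal i ⟶ (Scheme.Modules.pullback i).obj Ω) (hφ : IsConormalDiff i d φ)

omit [IsImmersion i] [IsImmersion (i ≫ p)] in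
include hψ in
/-- the value of `ψ` on the doubly pulled-back class of a section of the ideal of `i ≫ p` -/
theorem psi_pull (U' : Y.Opens) (s' : Γ(ClSub.idealMod (i ≫ p).ker, U')) :
    ∃ s : Γ(ClSub.idealMod i.ker, p ⁻¹ᵁ U'),
      idealSect i.ker (p ⁻¹ᵁ U') s = p.app U' (idealSect (i ≫ p).ker U' s') ∧
      ψ.app ((𝟙 Z) ⁻¹ᵁ ((i ≫ p) ⁻¹ᵁ U'))
        (pullSect (𝟙 Z) (Omega.conormal (i ≫ p)) ((i ≫ p) ⁻¹ᵁ U')
          (conormalSect (i ≫ p) U' s')) = conormalSect i (p ⁻¹ᵁ U') s := by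
  have ht : i.app (p ⁻¹ᵁ U') (p.app U' (idealSect (i ≫ p).ker U' s')) = 0 :=
    app_idealSect_general (i ≫ p) U' s'
  obtain ⟨s, hs⟩ := exists_idealSect_of_app_eq_zero i (p ⁻¹ᵁ U') _ ht
  refine ⟨s, hs, ?_⟩
  have h1 := hψ.2 U' s' s hs (i ⁻¹ᵁ (p ⁻¹ᵁ U')) le_rfl le_rfl
  have h2 : ∀ x : Γ(Omega.conormal i, i ⁻¹ᵁ (p ⁻¹ᵁ U')),
      (Omega.conormal i).presheaf.map (homOfLE (le_refl (i ⁻¹ᵁ (p ⁻¹ᵁ U')))).op x = x := by
    intro x
    erw [CategoryTheory.Functor.map_id]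
    rfl
  exact (h2 _).symm.trans (h1.trans (h2 _))

omit [IsImmersion i] [IsImmersion (i ≫ p)] in
include hψ in
/-- the value of `ψ` over a pair `U ≤ p⁻¹V` -/
theorem psi_affine {U : X.Opens} {V : Y.Opens} (e : U ≤ p ⁻¹ᵁ V)
    (s' : Γ(ClSub.idealMod (i ≫ p).ker, V)) :
    ∃ τ : Γ(ClSub.idealMod i.ker, U),
      idealSect i.ker U τ = p.appLE V U e (idealSect (i ≫ p).ker V s') ∧
      ψ.app (i ⁻¹ᵁ U) (pbSec (𝟙 Z) (Omega.conormal (i ≫ p)) ((i ≫ p) ⁻¹ᵁ V) (i ⁻¹ᵁ U)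
        (fun _ hy => e hy) (conormalSect (i ≫ p) V s')) = conormalSect i U τ := by
  obtain ⟨s, hs, h⟩ := psi_pull p i ψ hψ V s'
  refine ⟨(ClSub.idealMod i.ker).presheaf.map (homOfLE e).op s, ?_, ?_⟩
  · have h1 : idealSect i.ker U ((ClSub.idealMod i.ker).presheaf.map (homOfLE e).op s) =
        X.presheaf.map (homOfLE e).op (idealSect i.ker (p ⁻¹ᵁ V) s) :=
      StalkExact.app_res (ClSub.idealModι i.ker) (homOfLE e) s
    rw [h1, hs]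
    rfl
  · have h0 : i ⁻¹ᵁ U ≤ i ⁻¹ᵁ (p ⁻¹ᵁ V) := fun y hy => e hy
    rw [pbSec_apply]
    have h2 := StalkExact.app_res ψ (homOfLE h0)
      (pullSect (𝟙 Z) (Omega.conormal (i ≫ p)) ((i ≫ p) ⁻¹ᵁ V) (conormalSect (i ≫ p) V s'))
    refine h2.trans ?_
    have h3 : ψ.app (i ⁻¹ᵁ (p ⁻¹ᵁ V))
        (pullSect (𝟙 Z) (Omega.conormal (i ≫ p)) ((i ≫ p) ⁻¹ᵁ V) (conormalSect (i ≫ p) V s')) =
        conormalSect i (p ⁻¹ᵁ V) s := h
    rw [h3]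
    have h4 := pbSec_res i (ClSub.idealMod i.ker) (le_refl (i ⁻¹ᵁ (p ⁻¹ᵁ V)))
      (le_refl (i ⁻¹ᵁ U)) e h0 s
    rw [OmegaCnB.pbSec_self, OmegaCnB.pbSec_self] at h4
    exact h4.symm

omit [QuasiCompact i] [QuasiCompact (i ≫ p)] in
/-- affine opens `U ⊆ X`, `V ⊆ Y` adapted to both immersions with the same preimage in `Z` -/
theorem exists_affine_two (z : Z) (T : Z.Opens) (hz : z ∈ T) :
    ∃ (U : X.Opens) (V : Y.Opens), IsAffineOpen U ∧ IsAffineOpen V ∧ U ≤ p ⁻¹ᵁ V ∧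
      U ≤ i.coborderRange ∧ V ≤ (i ≫ p).coborderRange ∧ i ⁻¹ᵁ U = (i ≫ p) ⁻¹ᵁ V ∧
      z ∈ i ⁻¹ᵁ U ∧ i ⁻¹ᵁ U ≤ T := by
  have hzc : (i ≫ p) z ∈ (i ≫ p).coborderRange := subset_coborder ⟨z, rfl⟩
  obtain ⟨_, ⟨V₀, hV₀ : IsAffineOpen V₀, rfl⟩, hzV₀, hV₀c⟩ :=
    Y.isBasis_affineOpens.exists_subset_of_mem_open hzc (i ≫ p).coborderRange.isOpen
  obtain ⟨hZ₁, hsurj₁⟩ := OmegaCnD.affine_of_le_coborderRange (i ≫ p) hV₀ hV₀c
  obtain ⟨T', hT', hTT'⟩ := i.isEmbedding.isInducing.isOpen_iff.mp T.2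
  have hic : i z ∈ i.coborderRange := subset_coborder ⟨z, rfl⟩
  have hzT' : i z ∈ (⟨T', hT'⟩ : X.Opens) := by
    change z ∈ i ⁻¹' T'
    rw [hTT']; exact hz
  obtain ⟨_, ⟨U₀, hU₀ : IsAffineOpen U₀, rfl⟩, hzU₀, hU₀G⟩ :=
    X.isBasis_affineOpens.exists_subset_of_mem_open
      (show i z ∈ ((p ⁻¹ᵁ V₀ ⊓ i.coborderRange ⊓ ⟨T', hT'⟩ : X.Opens) : Set X) from
        ⟨⟨hzV₀, hic⟩, hzT'⟩) (p ⁻¹ᵁ V₀ ⊓ i.coborderRange ⊓ ⟨T', hT'⟩).isOpen
  have e₀ : U₀ ≤ p ⁻¹ᵁ V₀ := fun y hy => (hU₀G hy).1.1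
  have hzZ₁ : z ∈ (i ≫ p) ⁻¹ᵁ V₀ := hzV₀
  obtain ⟨c', hc'le, hzc'⟩ := hZ₁.exists_basicOpen_le ⟨z, (show z ∈ i ⁻¹ᵁ U₀ from hzU₀)⟩ hzZ₁
  obtain ⟨a, rfl⟩ := hsurj₁ c'
  have hpre : (i ≫ p) ⁻¹ᵁ (Y.basicOpen a) = Z.basicOpen ((i ≫ p).app V₀ a) :=
    Scheme.preimage_basicOpen (i ≫ p) a
  have hUeq : X.basicOpen (p.appLE V₀ U₀ e₀ a) = U₀ ⊓ p ⁻¹ᵁ (Y.basicOpen a) :=
    Scheme.basicOpen_appLE _ _ _ _ _
  refine ⟨X.basicOpen (p.appLE V₀ U₀ e₀ a), Y.basicOpen a, hU₀.basicOpen _, hV₀.basicOpen _,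
    ?_, ?_, ?_, ?_, ?_, ?_⟩
  · rw [hUeq]; exact inf_le_right
  · rw [hUeq]; exact fun y hy => (hU₀G hy.1).1.2
  · exact fun y hy => hV₀c (Y.basicOpen_le a hy)
  · rw [hUeq]
    change i ⁻¹ᵁ U₀ ⊓ (i ≫ p) ⁻¹ᵁ (Y.basicOpen a) = _
    rw [hpre]
    exact inf_eq_right.mpr hc'le
  · rw [hUeq]
    refine ⟨hzU₀, ?_⟩
    change z ∈ (i ≫ p) ⁻¹ᵁ (Y.basicOpen a)
    rw [hpre]
    exact hzc'
  · rw [hUeq]
    intro y hy
    have h1 : i y ∈ T' := (hU₀G hy.1).2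
    have h2 : y ∈ i ⁻¹' T' := h1
    rw [hTT'] at h2
    exact h2

omit [IsImmersion i] [IsImmersion (i ≫ p)] in
include hψ hφ in
theorem comp_zero : ψ ≫ φ = 0 := by
  apply pullback_hom_ext₂ (𝟙 Z) (i ≫ p) (M := ClSub.idealMod (i ≫ p).ker)
  intro U' s'
  obtain ⟨s, hs, h⟩ := psi_pull p i ψ hψ U' s'
  change φ.app _ (ψ.app ((𝟙 Z) ⁻¹ᵁ ((i ≫ p) ⁻¹ᵁ U'))
    (pullSect (𝟙 Z) (Omega.conormal (i ≫ p)) ((i ≫ p) ⁻¹ᵁ U')
      (conormalSect (i ≫ p) U' s'))) = 0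
  rw [h]
  change φ.app (i ⁻¹ᵁ (p ⁻¹ᵁ U')) (conormalSect i (p ⁻¹ᵁ U') s) = 0
  rw [hφ (p ⁻¹ᵁ U') s, hs]
  have h0 : d.app (p ⁻¹ᵁ U') (p.app U' (idealSect (i ≫ p).ker U' s')) = 0 :=
    DerA.der_app_eq_zero p d U' _
  rw [h0, map_zero]

end Two

end Groth.Agent.Lead.OmegaCnF
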