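import Groth.Agent.Lead.NLImmC
import Groth.Agent.Lead.OmegaCnF
import Groth.Agent.Lead.OmegaCnA
import Groth.Agent.Lead.BCMap5
import Groth.Agent.Lead.IdealModDict
import Groth.Prelude.Def_SheafNL
import Mathlib

set_option autoImplicit false
set_option backward.isDefEq.respectTransparency false
set_option backward.isDefEq.respectTransparency.types false
open CategoryTheory CategoryTheory.Limits AlgebraicGeometry Opposite TopologicalSpace
universe u

namespace Groth.Agent.Lead.NLImmD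

open Scheme.Modules OmegaSh Groth.Agent.Helper4 Groth.Agent.Lead.BCMap

variable {Z X : Scheme.{u}} (i : Z ⟶ X) [IsImmersion i] [QuasiCompact i]

section Chart
variable {U : Z.Opens} (hU : IsAffineOpen U) {V : X.Opens} (hV : IsAffineOpen V)
  (e : U ≤ i ⁻¹ᵁ V)

omit [IsImmersion i] [QuasiCompact i] in
theorem appLE_eq_zero (x : Γ(X, V)) (hx : i.app V x = 0) : i.appLE V U e x = 0 := by
  rw [Scheme.Hom.appLE]
  change Z.presheaf.map _ (i.app V x) = 0
  rw [hx, map_zero]

include hU hV in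
theorem exists_good_element (z : Z) (hz : z ∈ U) :
    ∃ a : Γ(X, V), z ∈ Z.basicOpen (i.appLE V U e a) ∧
      (∀ y : Γ(Z, U), ∃ (x : Γ(X, V)) (n : ℕ),
        i.appLE V U e a ^ n * y = i.appLE V U e x) ∧
      (∀ x : Γ(X, V), i.appLE V U e x = 0 → ∃ n : ℕ, i.app V (a ^ n * x) = 0) := by
  obtain ⟨W, hW, hzW, hWV, hW', hW'U, hsurj⟩ :=
    OmegaCnA.exists_affine_immersion i z U hz V (e hz)
  obtain ⟨a, haW, hza⟩ := hV.exists_basicOpen_le ⟨i z, hzW⟩ (e hz)
  have hbo : Z.basicOpen (i.appLE V U e a) = U ⊓ i ⁻¹ᵁ (X.basicOpen a) :=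
    Scheme.basicOpen_appLE i U V e a
  refine ⟨a, ?_, ?_, ?_⟩
  · rw [hbo]
    exact ⟨hz, hza⟩
  · intro y
    -- the small open `D'' = D_U(φ a)` and the ring map `Γ(X, D(a)) → Γ(Z, D'')`
    have hD''D : Z.basicOpen (i.appLE V U e a) ≤ i ⁻¹ᵁ (X.basicOpen a) := by
      rw [hbo]; exact inf_le_right
    have hD''U : Z.basicOpen (i.appLE V U e a) ≤ U := Z.basicOpen_le _
    have hDV : X.basicOpen a ≤ V := X.basicOpen_le a
    have hD''W : Z.basicOpen (i.appLE V U e a) ≤ i ⁻¹ᵁ W := hD''D.trans (i.preimage_mono haW)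
    obtain ⟨w, hw⟩ := hsurj (Z.presheaf.map (homOfLE hW'U).op y)
    -- write `w|_D = x / a^n`
    haveI := hV.isLocalization_basicOpen a
    obtain ⟨⟨x, ⟨_, n, rfl⟩⟩, hxn⟩ := IsLocalization.surj (Submonoid.powers a)
      (X.presheaf.map (homOfLE haW).op w)
    have hxn' : X.presheaf.map (homOfLE haW).op w * (X.presheaf.map (homOfLE hDV).op a) ^ n =
        X.presheaf.map (homOfLE hDV).op x := by
      rw [← map_pow]; exact hxn
    have key := congrArg (i.appLE (X.basicOpen a) (Z.basicOpen (i.appLE V U e a)) hD''D) hxn'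
    rw [map_mul, map_pow] at key
    have h1 : i.appLE (X.basicOpen a) (Z.basicOpen (i.appLE V U e a)) hD''D
        (X.presheaf.map (homOfLE haW).op w) =
        Z.presheaf.map (homOfLE hD''U).op y := by
      rw [← CommRingCat.comp_apply, Scheme.Hom.map_appLE]
      have h2 : i.appLE W (Z.basicOpen (i.appLE V U e a)) hD''W =
          i.app W ≫ Z.presheaf.map (homOfLE hD''W).op := rfl
      rw [h2, CommRingCat.comp_apply, hw, ← CommRingCat.comp_apply, ← Functor.map_comp]
      rfl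
    have h3 : ∀ t : Γ(X, V), i.appLE (X.basicOpen a) (Z.basicOpen (i.appLE V U e a)) hD''D
        (X.presheaf.map (homOfLE hDV).op t) =
        Z.presheaf.map (homOfLE hD''U).op (i.appLE V U e t) := by
      intro t
      rw [← CommRingCat.comp_apply, Scheme.Hom.map_appLE, ← CommRingCat.comp_apply,
        Scheme.Hom.appLE_map]
    rw [h1, h3, h3] at key
    have H : Z.presheaf.map (homOfLE hD''U).op
        (i.appLE V U e a ^ n * y - i.appLE V U e x) = 0 := by
      rw [map_sub, map_mul, map_pow, mul_comm, key, sub_self]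
    obtain ⟨m, hm⟩ := exists_pow_mul_eq_zero_of_res_basicOpen_eq_zero_of_isAffineOpen Z hU
      (i.appLE V U e a ^ n * y - i.appLE V U e x) (i.appLE V U e a) H
    refine ⟨a ^ m * x, m + n, ?_⟩
    rw [mul_sub, sub_eq_zero] at hm
    rw [map_mul, map_pow, pow_add, mul_assoc]
    exact hm
  · intro x hx
    have hc : IsCompact (i ⁻¹ᵁ V).1 := QuasiCompact.isCompact_preimage (f := i) V.1 V.2 hV.isCompact
    have hpre : Z.basicOpen (i.app V a) = i ⁻¹ᵁ (X.basicOpen a) :=
      (Scheme.preimage_basicOpen i a).symm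
    have hle : Z.basicOpen (i.app V a) ≤ U := by
      rw [hpre]
      exact (i.preimage_mono haW).trans hW'U
    have H : Z.presheaf.map (homOfLE (Z.basicOpen_le (i.app V a))).op (i.app V x) = 0 := by
      have h1 : Z.presheaf.map (homOfLE hle).op (i.appLE V U e x) =
          Z.presheaf.map (homOfLE (Z.basicOpen_le (i.app V a))).op (i.app V x) := by
        change Z.presheaf.map (homOfLE hle).op (Z.presheaf.map (homOfLE e).op (i.app V x)) = _
        rw [← CommRingCat.comp_apply, ← Functor.map_comp]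
        rfl
      rw [← h1, hx, map_zero]
    obtain ⟨n, hn⟩ := exists_pow_mul_eq_zero_of_res_basicOpen_eq_zero_of_isCompact Z hc
      (i.app V x) (i.app V a) H
    exact ⟨n, by rw [map_mul, map_pow]; exact hn⟩

omit [IsImmersion i] in
/-- `idealSect` as a linear map into the kernel of `i♯` -/
theorem exists_sigma :
    ∃ σ : Γ(ClSub.idealMod i.ker, V) ≃ₗ[Γ(X, V)] (RingHom.ker (i.app V).hom : Ideal Γ(X, V)),
      ∀ n, ((σ n : (RingHom.ker (i.app V).hom : Ideal Γ(X, V))) : Γ(X, V)) =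
        idealSect i.ker V n := by
  let σ₁ : Γ(ClSub.idealMod i.ker, V) →ₗ[Γ(X, V)] Γ(X, V) :=
    { toFun := idealSect i.ker V
      map_add' := map_add _
      map_smul' := fun a n => OmegaCnC.idealSect_smul i V a n }
  let σ₀ : Γ(ClSub.idealMod i.ker, V) →ₗ[Γ(X, V)]
      (RingHom.ker (i.app V).hom : Ideal Γ(X, V)) :=
    LinearMap.codRestrict _ σ₁ (fun n => by
      rw [RingHom.mem_ker]
      exact OmegaCnF.app_idealSect_general i V n)
  have hbij : Function.Bijective σ₀ := by
    constructor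
    · intro n n' h
      apply OmegaCnC.idealSect_injective i V
      exact congrArg Subtype.val h
    · rintro ⟨t, ht⟩
      rw [RingHom.mem_ker] at ht
      obtain ⟨n, hn⟩ := OmegaCnF.exists_idealSect_of_app_eq_zero i V t ht
      exact ⟨n, Subtype.ext hn⟩
  exact ⟨LinearEquiv.ofBijective σ₀ hbij, fun n => rfl⟩

include hU hV in
theorem exists_chartIso :
    letI := (i.appLE V U e).hom.toAlgebra
    ∃ Φ : Γ((Scheme.Modules.pullback i).obj (ClSub.idealMod i.ker), U) ≃+
        Algebra.H1Cotangent Γ(X, V) Γ(Z, U),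
      (∀ (b : Γ(Z, U)) (m : Γ((Scheme.Modules.pullback i).obj (ClSub.idealMod i.ker), U)),
        Φ (b • m) = b • Φ m) ∧
      ∀ n : Γ(ClSub.idealMod i.ker, V),
        Φ (pbSec i (ClSub.idealMod i.ker) V U e n) =
          NLImmA.kerToH1 Γ(X, V) Γ(Z, U) (idealSect i.ker V n)
            (appLE_eq_zero i e _ (OmegaCnF.app_idealSect_general i V n)) := by
  letI := (i.appLE V U e).hom.toAlgebra
  letI : Module Γ(X, V) Γ((Scheme.Modules.pullback i).obj (ClSub.idealMod i.ker), U) :=
    Module.compHom _ (i.appLE V U e).hom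
  haveI : IsScalarTower Γ(X, V) Γ(Z, U)
      Γ((Scheme.Modules.pullback i).obj (ClSub.idealMod i.ker), U) :=
    IsScalarTower.of_compHom _ _ _
  obtain ⟨ρ, hρ, hb⟩ := exists_isBaseChange_pbSec i (ClSub.idealMod i.ker) hV hU e
  obtain ⟨σ, hσ⟩ := exists_sigma i (V := V)
  have hI : ∀ x ∈ (RingHom.ker (i.app V).hom : Ideal Γ(X, V)),
      algebraMap Γ(X, V) Γ(Z, U) x = 0 := fun x hx => appLE_eq_zero i e x hx
  -- bijectivity of theta
  have hθ : Function.Bijective (NLImmA.theta (RingHom.ker (i.app V).hom : Ideal Γ(X, V)) hI) := by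
    let s : Set Γ(X, V) := {a | (∀ y : Γ(Z, U), ∃ (x : Γ(X, V)) (n : ℕ),
        i.appLE V U e a ^ n * y = i.appLE V U e x) ∧
      (∀ x : Γ(X, V), i.appLE V U e x = 0 → ∃ n : ℕ, i.app V (a ^ n * x) = 0)}
    apply NLImmC.theta_bijective _ hI s
    · rw [← hU.self_le_iSup_basicOpen_iff]
      intro z hz
      obtain ⟨a, hza, h1, h2⟩ := exists_good_element i hU hV e z hz
      exact Opens.mem_iSup.2 ⟨⟨i.appLE V U e a, a, ⟨h1, h2⟩, rfl⟩, hza⟩
    · intro a ha y
      exact ha.1 y
    · intro a ha x hx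
      obtain ⟨n, hn⟩ := ha.2 x hx
      exact ⟨n, hn⟩
  let ηₗ : Γ(ClSub.idealMod i.ker, V) →ₗ[Γ(X, V)] Algebra.H1Cotangent Γ(X, V) Γ(Z, U) :=
    NLImmA.idealToH1 (RingHom.ker (i.app V).hom : Ideal Γ(X, V)) hI ∘ₗ σ.toLinearMap
  have hcomp : ∀ t : TensorProduct Γ(X, V) Γ(Z, U) Γ(ClSub.idealMod i.ker, V),
      hb.lift ηₗ (hb.equiv t) =
        NLImmA.theta (RingHom.ker (i.app V).hom : Ideal Γ(X, V)) hI
          (σ.baseChange Γ(X, V) Γ(Z, U) _ _ t) := by
    intro t
    induction t using TensorProduct.induction_on with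
    | zero => simp
    | add x y hx hy => rw [map_add, map_add, map_add, map_add, hx, hy]
    | tmul b n =>
      rw [hb.equiv_tmul, LinearMap.map_smul, hb.lift_eq, LinearEquiv.baseChange_tmul]
      simp [NLImmA.theta, ηₗ]
  have hbij : Function.Bijective (hb.lift ηₗ) := by
    have h1 : (hb.lift ηₗ : _ → _) =
        (NLImmA.theta (RingHom.ker (i.app V).hom : Ideal Γ(X, V)) hI) ∘
          (σ.baseChange Γ(X, V) Γ(Z, U) _ _) ∘ hb.equiv.symm := by
      funext m
      rw [Function.comp_apply, Function.comp_apply, ← hcomp, LinearEquiv.apply_symm_apply]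
    rw [h1]
    exact hθ.comp ((LinearEquiv.bijective _).comp (LinearEquiv.bijective _))
  refine ⟨(LinearEquiv.ofBijective (hb.lift ηₗ) hbij).toAddEquiv, ?_, ?_⟩
  · intro b m
    exact LinearMap.map_smul (hb.lift ηₗ) b m
  · intro n
    change hb.lift ηₗ (pbSec i (ClSub.idealMod i.ker) V U e n) = _
    rw [← hρ, hb.lift_eq]
    have hcongr : ∀ (x x' : Γ(X, V)) (hx : algebraMap Γ(X, V) Γ(Z, U) x = 0)
        (hx' : algebraMap Γ(X, V) Γ(Z, U) x' = 0) (_ : x = x'),
        NLImmA.kerToH1 Γ(X, V) Γ(Z, U) x hx = NLImmA.kerToH1 Γ(X, V) Γ(Z, U) x' hx' := by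
      intro x x' hx hx' h
      subst h
      rfl
    exact hcongr (σ n).1 (idealSect i.ker V n) (hI _ (σ n).2)
      (appLE_eq_zero i e _ (OmegaCnF.app_idealSect_general i V n)) (hσ n)

include hU hV in
omit [IsImmersion i] [QuasiCompact i] in
/-- sections of the conormal sheaf over `U` are generated by pulled back sections of the ideal -/
theorem pbSec_induction
    (P : Γ((Scheme.Modules.pullback i).obj (ClSub.idealMod i.ker), U) → Prop) (h0 : P 0)
    (hadd : ∀ m m', P m → P m' → P (m + m'))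
    (hsmul : ∀ (b : Γ(Z, U)) m, P m → P (b • m))
    (hgen : ∀ n : Γ(ClSub.idealMod i.ker, V), P (pbSec i (ClSub.idealMod i.ker) V U e n)) :
    ∀ m, P m := by
  letI := (i.appLE V U e).hom.toAlgebra
  letI : Module Γ(X, V) Γ((Scheme.Modules.pullback i).obj (ClSub.idealMod i.ker), U) :=
    Module.compHom _ (i.appLE V U e).hom
  haveI : IsScalarTower Γ(X, V) Γ(Z, U)
      Γ((Scheme.Modules.pullback i).obj (ClSub.idealMod i.ker), U) :=
    IsScalarTower.of_compHom _ _ _
  obtain ⟨ρ, hρ, hb⟩ := exists_isBaseChange_pbSec i (ClSub.idealMod i.ker) hV hU e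
  intro m
  exact hb.inductionOn m P h0 (fun n => by rw [hρ]; exact hgen n) hsmul hadd

end Chart

end Groth.Agent.Lead.NLImmD
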