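import Groth.Agent.Lead.NLImmD
import Mathlib

set_option autoImplicit false
set_option backward.isDefEq.respectTransparency false
set_option backward.isDefEq.respectTransparency.types false
open CategoryTheory CategoryTheory.Limits AlgebraicGeometry Opposite TopologicalSpace
universe u

namespace Groth.Agent.Lead.NLImmE

open Scheme.Modules OmegaSh Groth.Agent.Helper4 Groth.Agent.Lead.BCMap

variable {Z X : Scheme.{u}} (i : Z ⟶ X) [IsImmersion i] [QuasiCompact i]

/-- the chosen identification on a chart pair -/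
noncomputable def chartIso (U : Z.affineOpens) (V : X.affineOpens)
    (e : (U : Z.Opens) ≤ i ⁻¹ᵁ (V : X.Opens)) :
    ((Omega.conormal i).val.obj (op (U : Z.Opens)) : Type u) ≃+ NLCx.ChartH1 i U V e :=
  (NLImmD.exists_chartIso i U.2 V.2 e).choose

theorem chartIso_smul (U : Z.affineOpens) (V : X.affineOpens)
    (e : (U : Z.Opens) ≤ i ⁻¹ᵁ (V : X.Opens)) (a : Γ(Z, (U : Z.Opens)))
    (m : (Omega.conormal i).val.obj (op (U : Z.Opens))) :
    chartIso i U V e (a • m) = a • chartIso i U V e m :=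
  (NLImmD.exists_chartIso i U.2 V.2 e).choose_spec.1 a m

theorem chartIso_pbSec (U : Z.affineOpens) (V : X.affineOpens)
    (e : (U : Z.Opens) ≤ i ⁻¹ᵁ (V : X.Opens)) (n : Γ(ClSub.idealMod i.ker, (V : X.Opens))) :
    letI := (i.appLE (V : X.Opens) (U : Z.Opens) e).hom.toAlgebra
    chartIso i U V e (pbSec i (ClSub.idealMod i.ker) V U e n) =
      NLImmA.kerToH1 Γ(X, (V : X.Opens)) Γ(Z, (U : Z.Opens)) (idealSect i.ker V n)
        (NLImmD.appLE_eq_zero i e _ (OmegaCnF.app_idealSect_general i V n)) :=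
  (NLImmD.exists_chartIso i U.2 V.2 e).choose_spec.2 n

section Res
variable {U U' : Z.affineOpens} {V V' : X.affineOpens}
  (e : (U : Z.Opens) ≤ i ⁻¹ᵁ (V : X.Opens)) (e' : (U' : Z.Opens) ≤ i ⁻¹ᵁ (V' : X.Opens))
  (hU : (U' : Z.Opens) ≤ (U : Z.Opens)) (hV : (V' : X.Opens) ≤ (V : X.Opens))

omit [IsImmersion i] [QuasiCompact i] in
theorem chartRes_smul (b : Γ(Z, (U : Z.Opens))) (x : NLCx.ChartH1 i U V e) :
    NLCx.chartRes e e' hU hV (b • x) =
      (Z.presheaf.map (homOfLE hU).op b) • NLCx.chartRes e e' hU hV x := by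
  letI := (i.appLE (V : X.Opens) (U : Z.Opens) e).hom.toAlgebra
  letI := (i.appLE (V' : X.Opens) (U' : Z.Opens) e').hom.toAlgebra
  letI := (i.appLE (V : X.Opens) (U' : Z.Opens) (hU.trans e)).hom.toAlgebra
  letI := (Z.presheaf.map (homOfLE hU).op).hom.toAlgebra
  letI := (X.presheaf.map (homOfLE hV).op).hom.toAlgebra
  haveI : IsScalarTower Γ(X, (V : X.Opens)) Γ(X, (V' : X.Opens)) Γ(Z, (U' : Z.Opens)) :=
    IsScalarTower.of_algebraMap_eq' (by
      change (i.appLE _ _ _).hom = (i.appLE _ _ _).hom.comp (X.presheaf.map _).hom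
      rw [← CommRingCat.hom_comp, Scheme.Hom.map_appLE])
  haveI : IsScalarTower Γ(X, (V : X.Opens)) Γ(Z, (U : Z.Opens)) Γ(Z, (U' : Z.Opens)) :=
    IsScalarTower.of_algebraMap_eq' (by
      change (i.appLE _ _ _).hom = (Z.presheaf.map _).hom.comp (i.appLE _ _ _).hom
      rw [← CommRingCat.hom_comp, Scheme.Hom.appLE_map])
  change Algebra.H1Cotangent.map Γ(X, (V : X.Opens)) Γ(X, (V' : X.Opens)) Γ(Z, (U : Z.Opens))
    Γ(Z, (U' : Z.Opens)) (b • x) = algebraMap Γ(Z, (U : Z.Opens)) Γ(Z, (U' : Z.Opens)) b •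
    Algebra.H1Cotangent.map Γ(X, (V : X.Opens)) Γ(X, (V' : X.Opens)) Γ(Z, (U : Z.Opens))
      Γ(Z, (U' : Z.Opens)) x
  rw [LinearMap.map_smul, algebraMap_smul]

omit [IsImmersion i] [QuasiCompact i] in
theorem app_res_eq_zero (x : Γ(X, (V : X.Opens))) (hx : i.app V x = 0) :
    i.app V' (X.presheaf.map (homOfLE hV).op x) = 0 := by
  have := congr($(i.naturality (homOfLE hV).op) x)
  refine this.trans ?_
  change Z.presheaf.map _ (i.app V x) = 0
  rw [hx, map_zero]

omit [IsImmersion i] [QuasiCompact i] in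
theorem chartRes_kerToH1 (x : Γ(X, (V : X.Opens))) (hx : i.app V x = 0) :
    letI := (i.appLE (V : X.Opens) (U : Z.Opens) e).hom.toAlgebra
    letI := (i.appLE (V' : X.Opens) (U' : Z.Opens) e').hom.toAlgebra
    NLCx.chartRes e e' hU hV
      (NLImmA.kerToH1 Γ(X, (V : X.Opens)) Γ(Z, (U : Z.Opens)) x (NLImmD.appLE_eq_zero i e x hx)) =
      NLImmA.kerToH1 Γ(X, (V' : X.Opens)) Γ(Z, (U' : Z.Opens))
        (X.presheaf.map (homOfLE hV).op x)
        (NLImmD.appLE_eq_zero i e' _ (app_res_eq_zero i hV x hx)) := by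
  letI := (i.appLE (V : X.Opens) (U : Z.Opens) e).hom.toAlgebra
  letI := (i.appLE (V' : X.Opens) (U' : Z.Opens) e').hom.toAlgebra
  letI := (i.appLE (V : X.Opens) (U' : Z.Opens) (hU.trans e)).hom.toAlgebra
  letI := (Z.presheaf.map (homOfLE hU).op).hom.toAlgebra
  letI := (X.presheaf.map (homOfLE hV).op).hom.toAlgebra
  haveI : IsScalarTower Γ(X, (V : X.Opens)) Γ(X, (V' : X.Opens)) Γ(Z, (U' : Z.Opens)) :=
    IsScalarTower.of_algebraMap_eq' (by
      change (i.appLE _ _ _).hom = (i.appLE _ _ _).hom.comp (X.presheaf.map _).hom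
      rw [← CommRingCat.hom_comp, Scheme.Hom.map_appLE])
  haveI : IsScalarTower Γ(X, (V : X.Opens)) Γ(Z, (U : Z.Opens)) Γ(Z, (U' : Z.Opens)) :=
    IsScalarTower.of_algebraMap_eq' (by
      change (i.appLE _ _ _).hom = (Z.presheaf.map _).hom.comp (i.appLE _ _ _).hom
      rw [← CommRingCat.hom_comp, Scheme.Hom.appLE_map])
  exact NLImmA.map_kerToH1 Γ(X, (V : X.Opens)) Γ(X, (V' : X.Opens)) Γ(Z, (U : Z.Opens))
    Γ(Z, (U' : Z.Opens)) x (NLImmD.appLE_eq_zero i e x hx)

theorem chartIso_res (m : (Omega.conormal i).val.obj (op (U : Z.Opens))) :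
    chartIso i U' V' e' ((Omega.conormal i).val.map (homOfLE hU).op m) =
      NLCx.chartRes e e' hU hV (chartIso i U V e m) := by
  revert m
  apply NLImmD.pbSec_induction i U.2 V.2 e
  · change chartIso i U' V' e' ((Omega.conormal i).presheaf.map (homOfLE hU).op 0) = _
    rw [map_zero, map_zero, map_zero, map_zero]
  · intro m m' hm hm'
    change chartIso i U' V' e' ((Omega.conormal i).presheaf.map (homOfLE hU).op (m + m')) = _
    rw [map_add, map_add, map_add, map_add]
    exact congrArg₂ (· + ·) hm hm'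
  · intro b m hm
    change chartIso i U' V' e' ((Omega.conormal i).presheaf.map (homOfLE hU).op (b • m)) = _
    rw [Scheme.Modules.map_smul]
    refine (chartIso_smul i U' V' e' _ _).trans ?_
    refine (congrArg _ hm).trans ?_
    refine Eq.trans ?_ (congrArg _ (chartIso_smul i U V e b m).symm)
    exact (chartRes_smul i e e' hU hV b _).symm
  · intro n
    have h1 := pbSec_res i (ClSub.idealMod i.ker) e e' hV hU n
    have h2 := chartIso_pbSec i U' V' e' ((ClSub.idealMod i.ker).presheaf.map (homOfLE hV).op n)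
    have h3 := chartIso_pbSec i U V e n
    have h4 : idealSect i.ker V' ((ClSub.idealMod i.ker).presheaf.map (homOfLE hV).op n) =
        X.presheaf.map (homOfLE hV).op (idealSect i.ker V n) :=
      StalkExact.app_res (ClSub.idealModι i.ker) (homOfLE hV) n
    letI := (i.appLE (V : X.Opens) (U : Z.Opens) e).hom.toAlgebra
    letI := (i.appLE (V' : X.Opens) (U' : Z.Opens) e').hom.toAlgebra
    have h5 := chartRes_kerToH1 i e e' hU hV (idealSect i.ker V n)
      (OmegaCnF.app_idealSect_general i V n)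
    have hcongr : ∀ (x x' : Γ(X, (V' : X.Opens)))
        (hx : algebraMap Γ(X, (V' : X.Opens)) Γ(Z, (U' : Z.Opens)) x = 0)
        (hx' : algebraMap Γ(X, (V' : X.Opens)) Γ(Z, (U' : Z.Opens)) x' = 0) (_ : x = x'),
        NLImmA.kerToH1 Γ(X, (V' : X.Opens)) Γ(Z, (U' : Z.Opens)) x hx =
          NLImmA.kerToH1 Γ(X, (V' : X.Opens)) Γ(Z, (U' : Z.Opens)) x' hx' := by
      intro x x' hx hx' h
      subst h
      rfl
    change chartIso i U' V' e' (((Scheme.Modules.pullback i).obj
      (ClSub.idealMod i.ker)).presheaf.map (homOfLE hU).op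
        (pbSec i (ClSub.idealMod i.ker) V U e n)) = _
    rw [← h1]
    refine h2.trans ?_
    refine Eq.trans ?_ (congrArg _ h3.symm)
    refine Eq.trans ?_ h5.symm
    exact hcongr _ _ _ _ h4

end Res

/-- the conormal sheaf is `H^{-1}(NL_{Z/X})` -/
noncomputable def h1Sheaf : NLCx.H1Sheaf i (Omega.conormal i) where
  iso := chartIso i
  map_smul := chartIso_smul i
  map_res := fun e e' hU hV m => chartIso_res i e e' hU hV m

omit [QuasiCompact i] in
theorem onCharts : NLCx.OnCharts i (fun A B _ _ _ => Subsingleton (Ω[B⁄A])) := by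
  intro U V e
  haveI : FormallyUnramified i := inferInstance
  have h := Scheme.Hom.formallyUnramified_appLE (f := i) V.2 U.2 e
  letI := (i.appLE (V : X.Opens) (U : Z.Opens) e).hom.toAlgebra
  have h' : Algebra.FormallyUnramified Γ(X, (V : X.Opens)) Γ(Z, (U : Z.Opens)) := h
  exact h'.subsingleton_kaehlerDifferential

end Groth.Agent.Lead.NLImmE
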