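import Groth.Agent.Lead.NLSqA
import Groth.Prelude.Def_SheafNL
import Mathlib

set_option autoImplicit false
universe u
open CategoryTheory AlgebraicGeometry Opposite TopologicalSpace

namespace Groth.Agent.Lead.NLShA

variable {X Y : Scheme.{u}} (f : X ⟶ Y)

section Res
variable {U U' : X.affineOpens} {V V' : Y.affineOpens}
  (e : (U : X.Opens) ≤ f ⁻¹ᵁ (V : Y.Opens)) (e' : (U' : X.Opens) ≤ f ⁻¹ᵁ (V' : Y.Opens))
  (hU : (U' : X.Opens) ≤ (U : X.Opens)) (hV : (V' : Y.Opens) ≤ (V : Y.Opens))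

theorem res_h1 : (f.appLE (V : Y.Opens) (U' : X.Opens) (hU.trans e)).hom =
    (f.appLE (V' : Y.Opens) (U' : X.Opens) e').hom.comp (Y.presheaf.map (homOfLE hV).op).hom := by
  rw [← CommRingCat.hom_comp, Scheme.Hom.map_appLE]

theorem res_h2 : (f.appLE (V : Y.Opens) (U' : X.Opens) (hU.trans e)).hom =
    (X.presheaf.map (homOfLE hU).op).hom.comp (f.appLE (V : Y.Opens) (U : X.Opens) e).hom := by
  rw [← CommRingCat.hom_comp, Scheme.Hom.appLE_map]

/-- `chartRes` as a square map -/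
theorem chartRes_eq : NLCx.chartRes e e' hU hV =
    NLSqA.sq (f.appLE (V : Y.Opens) (U : X.Opens) e).hom
      (f.appLE (V' : Y.Opens) (U' : X.Opens) e').hom
      (Y.presheaf.map (homOfLE hV).op).hom (X.presheaf.map (homOfLE hU).op).hom
      (f.appLE (V : Y.Opens) (U' : X.Opens) (hU.trans e)).hom
      (res_h1 f e e' hU hV) (res_h2 f e hU) := rfl

end Res

/-- the stalk module `H¹(L_{O_{X,x}/O_{Y,f(x)}})` -/
abbrev Nst (x : X) : Type u := NLSqA.H1 (f.stalkMap x).hom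

section Germ
variable (U : X.affineOpens) (V : Y.affineOpens) (e : (U : X.Opens) ≤ f ⁻¹ᵁ (V : Y.Opens))
  (x : X) (hx : x ∈ (U : X.Opens))

theorem germ_h1 : (f.appLE (V : Y.Opens) (U : X.Opens) e ≫ X.presheaf.germ (U : X.Opens) x hx).hom =
    (f.stalkMap x).hom.comp (Y.presheaf.germ (V : Y.Opens) (f x) (e hx)).hom := by
  rw [← CommRingCat.hom_comp, Scheme.Hom.germ_stalkMap, Scheme.Hom.appLE, Category.assoc,
    X.presheaf.germ_res]

/-- the germ map `H¹(chart) → H¹(stalk)` -/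
noncomputable def germ : NLCx.ChartH1 f U V e →+ Nst f x :=
  NLSqA.sq (f.appLE (V : Y.Opens) (U : X.Opens) e).hom (f.stalkMap x).hom
    (Y.presheaf.germ (V : Y.Opens) (f x) (e hx)).hom (X.presheaf.germ (U : X.Opens) x hx).hom
    (f.appLE (V : Y.Opens) (U : X.Opens) e ≫ X.presheaf.germ (U : X.Opens) x hx).hom
    (germ_h1 f U V e x hx) rfl

theorem germ_smul (a : Γ(X, (U : X.Opens))) (m : NLCx.ChartH1 f U V e) :
    germ f U V e x hx (a • m) = (X.presheaf.germ (U : X.Opens) x hx a) • germ f U V e x hx m :=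
  NLSqA.sq_smul _ _ _ _ _ _ _ a m

end Germ

section GermRes
variable {U U' : X.affineOpens} {V V' : Y.affineOpens}
  (e : (U : X.Opens) ≤ f ⁻¹ᵁ (V : Y.Opens)) (e' : (U' : X.Opens) ≤ f ⁻¹ᵁ (V' : Y.Opens))
  (hU : (U' : X.Opens) ≤ (U : X.Opens)) (hV : (V' : Y.Opens) ≤ (V : Y.Opens))
  (x : X) (hx : x ∈ (U' : X.Opens))

theorem germ_chartRes (m : NLCx.ChartH1 f U V e) :
    germ f U' V' e' x hx (NLCx.chartRes e e' hU hV m) = germ f U V e x (hU hx) m := by
  rw [chartRes_eq]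
  unfold germ
  rw [NLSqA.sq_comp _ _ _ _ _ _ _ _ _ _ _ _ _
    (f.appLE (V : Y.Opens) (U : X.Opens) e ≫ X.presheaf.germ (U : X.Opens) x (hU hx)).hom
    (by
      rw [← CommRingCat.hom_comp, Y.presheaf.germ_res]
      exact germ_h1 f U V e x (hU hx))
    (by
      rw [← CommRingCat.hom_comp, X.presheaf.germ_res]
      rfl)]
  apply congrFun
  apply congrArg
  apply NLSqA.sq_congr
  · rw [← CommRingCat.hom_comp, Y.presheaf.germ_res]
  · rw [← CommRingCat.hom_comp, X.presheaf.germ_res]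
  · rfl

end GermRes

section Ker
variable (U : X.affineOpens) (V : Y.affineOpens) (e : (U : X.Opens) ≤ f ⁻¹ᵁ (V : Y.Opens))
  (x : X) (hx : x ∈ (U : X.Opens))

theorem germ_ker (m : NLCx.ChartH1 f U V e) (hm : germ f U V e x hx m = 0) :
    ∃ s : Γ(X, (U : X.Opens)), x ∈ X.basicOpen s ∧ s • m = 0 := by
  have hM := V.2.isLocalization_stalk ⟨f x, e hx⟩
  have hN := U.2.isLocalization_stalk ⟨x, hx⟩
  obtain ⟨s, hs, hsm⟩ := NLSqA.sq_ker _ _ _ _ _ _ _ _ hM _ hN m hm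
  refine ⟨s, ?_, hsm⟩
  rw [Scheme.mem_basicOpen _ _ _ hx]
  letI := X.presheaf.algebra_section_stalk (U := (U : X.Opens)) ⟨x, hx⟩
  exact IsLocalization.map_units (M := (U.2.primeIdealOf ⟨x, hx⟩).asIdeal.primeCompl)
    (X.presheaf.stalk x) ⟨s, hs⟩

end Ker

theorem map_le_rfl_hom (Z : Scheme.{u}) (W : Z.Opens) :
    (Z.presheaf.map (homOfLE (le_refl W)).op).hom = RingHom.id _ := by
  have : (homOfLE (le_refl W)).op = 𝟙 (op W) := rfl
  rw [this, Z.presheaf.map_id]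
  rfl

section Base
variable (U : X.affineOpens) (V V' : Y.affineOpens) (e : (U : X.Opens) ≤ f ⁻¹ᵁ (V : Y.Opens))
  (a : Γ(Y, (V : Y.Opens))) (hV' : (V' : Y.Opens) = Y.basicOpen a)
  (hle : (V' : Y.Opens) ≤ (V : Y.Opens))
  (e' : (U : X.Opens) ≤ f ⁻¹ᵁ (V' : Y.Opens))

include hV' in
theorem chartRes_base_bijective :
    Function.Bijective (NLCx.chartRes e e' le_rfl hle) := by
  obtain ⟨V', hV'aff⟩ := V'
  change V' = Y.basicOpen a at hV'
  subst hV'
  rw [chartRes_eq]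
  exact NLSqA.sq_base_bij _ _ _ _ _ _ _ (map_le_rfl_hom X _) (Submonoid.powers a)
    (V.2.isLocalization_basicOpen a)

end Base

section Top
variable (U U' : X.affineOpens) (V : Y.affineOpens) (e : (U : X.Opens) ≤ f ⁻¹ᵁ (V : Y.Opens))
  (g : Γ(X, (U : X.Opens))) (hU' : (U' : X.Opens) = X.basicOpen g)
  (hle : (U' : X.Opens) ≤ (U : X.Opens))
  (e' : (U' : X.Opens) ≤ f ⁻¹ᵁ (V : Y.Opens))

include hU' in
theorem chartRes_top_surj (n : NLCx.ChartH1 f U' V e') :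
    ∃ (k : ℕ) (m : NLCx.ChartH1 f U V e),
      (X.presheaf.map (homOfLE hle).op (g ^ k)) • n = NLCx.chartRes e e' hle le_rfl m := by
  obtain ⟨U', hU'aff⟩ := U'
  change U' = X.basicOpen g at hU'
  subst hU'
  obtain ⟨s, ⟨k, rfl⟩, m, hm⟩ := NLSqA.sq_top_surj _ _ _ _ _
    (res_h1 f e e' hle le_rfl) (res_h2 f e hle)
    (map_le_rfl_hom Y _) (Submonoid.powers g) (U.2.isLocalization_basicOpen g) n
  exact ⟨k, m, hm⟩

include hU' in
theorem chartRes_top_ker (m : NLCx.ChartH1 f U V e)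
    (hm : NLCx.chartRes e e' hle le_rfl m = 0) :
    ∃ k : ℕ, g ^ k • m = 0 := by
  obtain ⟨U', hU'aff⟩ := U'
  change U' = X.basicOpen g at hU'
  subst hU'
  rw [chartRes_eq] at hm
  obtain ⟨s, ⟨k, rfl⟩, hk⟩ := NLSqA.sq_top_ker _ _ _ _ _ _ _
    (map_le_rfl_hom Y _) (Submonoid.powers g) (U.2.isLocalization_basicOpen g) m hm
  exact ⟨k, hk⟩

end Top

end Groth.Agent.Lead.NLShA
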