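import Groth.Agent.Lead.NLShA
import Mathlib

set_option autoImplicit false
universe u
open CategoryTheory AlgebraicGeometry Opposite TopologicalSpace

namespace Groth.Agent.Lead.NLShB
open NLShA

variable {X Y : Scheme.{u}} (f : X ⟶ Y)

/-- the prelocal predicate "is the family of germs of one chart section" -/
def isGermPrelocal : TopCat.PrelocalPredicate (X := X.carrier) (fun x => Nst f x) where
  pred {W} s := ∃ (U : X.affineOpens) (V : Y.affineOpens)
    (e : (U : X.Opens) ≤ f ⁻¹ᵁ (V : Y.Opens)) (hW : W ≤ (U : X.Opens))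
    (m : NLCx.ChartH1 f U V e), ∀ x : W, s x = germ f U V e x.1 (hW x.2) m
  res := by
    rintro W' W i s ⟨U, V, e, hW, m, hs⟩
    exact ⟨U, V, e, i.le.trans hW, m, fun x => hs (i x)⟩

/-- the local predicate "is locally the family of germs of a chart section" -/
def isLocallyGerm : TopCat.LocalPredicate (X := X.carrier) (fun x => Nst f x) :=
  (isGermPrelocal f).sheafify

/-- the sheaf of types -/
def sheafInType : TopCat.Sheaf (Type u) X.carrier :=
  TopCat.subsheafToTypes (isLocallyGerm f)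

theorem exists_chart_le (x : X) (W : X.Opens) (hxW : x ∈ W) (V₀ : Y.Opens) (hV₀ : f x ∈ V₀) :
    ∃ (U : X.affineOpens) (V : Y.affineOpens), x ∈ (U : X.Opens) ∧ (U : X.Opens) ≤ W ∧
      (V : Y.Opens) ≤ V₀ ∧ (U : X.Opens) ≤ f ⁻¹ᵁ (V : Y.Opens) := by
  obtain ⟨_, ⟨V, hV : IsAffineOpen V, rfl⟩, hxV, hVV₀⟩ :=
    Y.isBasis_affineOpens.exists_subset_of_mem_open hV₀ V₀.2
  have hx' : x ∈ W ⊓ f ⁻¹ᵁ V := ⟨hxW, hxV⟩
  obtain ⟨_, ⟨U, hU : IsAffineOpen U, rfl⟩, hxU, hUW⟩ :=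
    X.isBasis_affineOpens.exists_subset_of_mem_open hx' (W ⊓ f ⁻¹ᵁ V).2
  exact ⟨⟨U, hU⟩, ⟨V, hV⟩, hxU, fun y hy => (hUW hy).1, hVV₀, fun y hy => (hUW hy).2⟩

/-- normal form of the local predicate -/
theorem pred_iff {W : X.Opens} (s : ∀ x : W, Nst f x.1) :
    (isLocallyGerm f).pred s ↔ ∀ x : W, ∃ (U : X.affineOpens) (V : Y.affineOpens)
      (e : (U : X.Opens) ≤ f ⁻¹ᵁ (V : Y.Opens)) (_ : x.1 ∈ (U : X.Opens))
      (hUW : (U : X.Opens) ≤ W) (m : NLCx.ChartH1 f U V e),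
      ∀ (y : X) (hy : y ∈ (U : X.Opens)), s ⟨y, hUW hy⟩ = germ f U V e y hy m := by
  constructor
  · intro h x
    obtain ⟨W', hxW', i, U, V, e, hW', m, hm⟩ := h x
    obtain ⟨U₃, V₃, hxU₃, hU₃W', -, -⟩ := exists_chart_le f x.1 W' hxW' ⊤ trivial
    have e₃ : (U₃ : X.Opens) ≤ f ⁻¹ᵁ (V : Y.Opens) := (hU₃W'.trans hW').trans e
    refine ⟨U₃, V, e₃, hxU₃, hU₃W'.trans i.le,
      NLCx.chartRes e e₃ (hU₃W'.trans hW') le_rfl m, ?_⟩
    intro y hy
    rw [germ_chartRes]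
    exact hm ⟨y, hU₃W' hy⟩
  · intro h x
    obtain ⟨U, V, e, hxU, hUW, m, hm⟩ := h x
    exact ⟨U, hxU, homOfLE hUW, U, V, e, le_rfl, m, fun y => hm y.1 y.2⟩

/-- the ring hom to the product of stalks -/
noncomputable def germPi (W : X.Opens) : Γ(X, W) →+* (∀ x : W, X.presheaf.stalk x.1) :=
  RingHom.pi (fun x => (X.presheaf.germ W x.1 x.2).hom)

noncomputable instance piModule (W : X.Opens) : Module Γ(X, W) (∀ x : W, Nst f x.1) :=
  Module.compHom _ (germPi W)

theorem pi_smul_apply (W : X.Opens) (r : Γ(X, W)) (s : ∀ x : W, Nst f x.1) (x : W) :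
    (r • s) x = X.presheaf.germ W x.1 x.2 r • s x := rfl

/-- the sections of the germ sheaf over `W`, as a submodule of the product of stalks -/
noncomputable def sectionsSubmodule (W : X.Opens) : Submodule Γ(X, W) (∀ x : W, Nst f x.1) where
  carrier := {s | (isLocallyGerm f).pred s}
  zero_mem' := by
    change (isLocallyGerm f).pred _
    rw [pred_iff]
    intro x
    obtain ⟨U, V, hxU, hUW, -, e⟩ := exists_chart_le f x.1 W x.2 ⊤ trivial
    exact ⟨U, V, e, hxU, hUW, 0, fun y hy => by rw [map_zero]; rfl⟩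
  add_mem' := by
    intro a b ha hb
    change (isLocallyGerm f).pred _ at ha hb ⊢
    rw [pred_iff] at ha hb ⊢
    intro x
    obtain ⟨U₁, V₁, e₁, hx₁, hW₁, m₁, h₁⟩ := ha x
    obtain ⟨U₂, V₂, e₂, hx₂, hW₂, m₂, h₂⟩ := hb x
    obtain ⟨U₃, V₃, hx₃, hU₃, hV₃, e₃⟩ := exists_chart_le f x.1 ((U₁ : X.Opens) ⊓ (U₂ : X.Opens))
      ⟨hx₁, hx₂⟩ ((V₁ : Y.Opens) ⊓ (V₂ : Y.Opens)) ⟨e₁ hx₁, e₂ hx₂⟩
    refine ⟨U₃, V₃, e₃, hx₃, (hU₃.trans inf_le_left).trans hW₁,
      NLCx.chartRes e₁ e₃ (hU₃.trans inf_le_left) (hV₃.trans inf_le_left) m₁ +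
      NLCx.chartRes e₂ e₃ (hU₃.trans inf_le_right) (hV₃.trans inf_le_right) m₂, fun y hy => ?_⟩
    rw [map_add, germ_chartRes, germ_chartRes, Pi.add_apply,
      h₁ y ((hU₃.trans inf_le_left) hy), h₂ y ((hU₃.trans inf_le_right) hy)]
  smul_mem' := by
    intro r a ha
    change (isLocallyGerm f).pred _ at ha ⊢
    rw [pred_iff] at ha ⊢
    intro x
    obtain ⟨U₁, V₁, e₁, hx₁, hW₁, m₁, h₁⟩ := ha x
    refine ⟨U₁, V₁, e₁, hx₁, hW₁, (X.presheaf.map (homOfLE hW₁).op r) • m₁, fun y hy => ?_⟩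
    rw [germ_smul]
    refine (pi_smul_apply f W r a ⟨y, hW₁ hy⟩).trans ?_
    rw [h₁ y hy]
    congr 1
    exact (X.presheaf.germ_res_apply (homOfLE hW₁) y hy r).symm

noncomputable instance (W : (Opens X.carrier)ᵒᵖ) : AddCommGroup ((sheafInType f).obj.obj W) :=
  (sectionsSubmodule f W.unop).toAddSubgroup.toAddCommGroup

noncomputable instance (W : (Opens X.carrier)ᵒᵖ) :
    Module Γ(X, W.unop) ((sheafInType f).obj.obj W) :=
  (sectionsSubmodule f W.unop).module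

theorem val_add {W : (Opens X.carrier)ᵒᵖ} (s t : (sheafInType f).obj.obj W) :
    (s + t).1 = s.1 + t.1 := rfl

theorem val_smul {W : (Opens X.carrier)ᵒᵖ} (r : Γ(X, W.unop)) (s : (sheafInType f).obj.obj W)
    (x : W.unop) : (r • s).1 x = X.presheaf.germ W.unop x.1 x.2 r • s.1 x := rfl

/-- the presheaf of abelian groups -/
noncomputable def presheafAb : (Opens X.carrier)ᵒᵖ ⥤ Ab where
  obj W := AddCommGrpCat.of ((sheafInType f).obj.obj W)
  map i := AddCommGrpCat.ofHom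
    { toFun := (sheafInType f).obj.map i
      map_zero' := rfl
      map_add' := fun _ _ => rfl }

noncomputable instance modInst (W : (Opens X.carrier)ᵒᵖ) :
    Module ↑(X.ringCatSheaf.obj.obj W) ↑((presheafAb f).obj W) :=
  inferInstanceAs (Module Γ(X, W.unop) ((sheafInType f).obj.obj W))

/-- the presheaf of modules -/
noncomputable def presheafOfModules : PresheafOfModules X.ringCatSheaf.obj :=
  PresheafOfModules.ofPresheaf (presheafAb f) (by
    intro W W' i r s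
    apply Subtype.ext
    funext x
    change (r • s).1 ⟨x.1, i.unop.le x.2⟩ = _
    refine (val_smul f r s ⟨x.1, i.unop.le x.2⟩).trans ?_
    refine Eq.trans ?_ (val_smul f (W := W') (X.presheaf.map i r)
      ((sheafInType f).obj.map i s) x).symm
    congr 1
    exact (X.presheaf.germ_res_apply i.unop x.1 x.2 r).symm)

/-- the sheaf of modules `H⁻¹(NL_{X/Y})` -/
noncomputable def H1Mod : X.Modules where
  val := presheafOfModules f
  isSheaf := (TopCat.Presheaf.isSheaf_iff_isSheaf_comp (forget AddCommGrpCat) _).2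
    (sheafInType f).2

end Groth.Agent.Lead.NLShB
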