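import Groth.Agent.Lead.NLShB
import Mathlib

set_option autoImplicit false
universe u
open CategoryTheory AlgebraicGeometry Opposite TopologicalSpace

namespace Groth.Agent.Lead.NLShC
open NLShA NLShB

variable {X Y : Scheme.{u}} (f : X ⟶ Y)

/-- sections of the germ sheaf -/
abbrev Sec (W : X.Opens) : Type u := ((H1Mod f).val.obj (op W) : Type u)

/-- evaluation of a section at a point -/
def ev {W : X.Opens} (s : Sec f W) (x : W) : Nst f x.1 :=
  (show (sheafInType f).obj.obj (op W) from s).1 x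

theorem sec_ext {W : X.Opens} (s t : Sec f W) (h : ∀ x : W, ev f s x = ev f t x) : s = t :=
  Subtype.ext (funext h)

theorem ev_pred {W : X.Opens} (s : Sec f W) : (isLocallyGerm f).pred (fun x => ev f s x) :=
  (show (sheafInType f).obj.obj (op W) from s).2

@[simp] theorem ev_zero {W : X.Opens} (x : W) : ev f (0 : Sec f W) x = 0 := rfl

@[simp] theorem ev_add {W : X.Opens} (s t : Sec f W) (x : W) :
    ev f (s + t) x = ev f s x + ev f t x := rfl

theorem ev_smul {W : X.Opens} (r : Γ(X, W)) (s : Sec f W) (x : W) :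
    ev f (r • s) x = X.presheaf.germ W x.1 x.2 r • ev f s x := rfl

theorem ev_map {W W' : X.Opens} (h : W' ≤ W) (s : Sec f W) (x : W') :
    ev f ((H1Mod f).val.map (homOfLE h).op s) x = ev f s ⟨x.1, h x.2⟩ := rfl

section
variable (U : X.affineOpens) (V : Y.affineOpens) (e : (U : X.Opens) ≤ f ⁻¹ᵁ (V : Y.Opens))

/-- the comparison map from chart `H¹` to sections -/
noncomputable def toSec : NLCx.ChartH1 f U V e →+ Sec f (U : X.Opens) where
  toFun m := (⟨fun x => germ f U V e x.1 x.2 m,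
    (isGermPrelocal f).sheafifyOf ⟨U, V, e, le_rfl, m, fun x => rfl⟩⟩ :
      (sheafInType f).obj.obj (op (U : X.Opens)))
  map_zero' := Subtype.ext (funext fun x => map_zero _)
  map_add' a b := Subtype.ext (funext fun x => map_add _ a b)

@[simp] theorem toSec_val (m : NLCx.ChartH1 f U V e) (x : (U : X.Opens)) :
    ev f (toSec f U V e m) x = germ f U V e x.1 x.2 m := rfl

theorem toSec_smul (a : Γ(X, (U : X.Opens))) (m : NLCx.ChartH1 f U V e) :
    toSec f U V e (a • m) = a • toSec f U V e m := by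
  apply sec_ext
  intro x
  rw [toSec_val, germ_smul]
  rfl

theorem toSec_injective : Function.Injective (toSec f U V e) := by
  rw [injective_iff_map_eq_zero]
  intro m hm
  have hg : ∀ (x : X) (hx : x ∈ (U : X.Opens)), germ f U V e x hx m = 0 := fun x hx => by
    have := congrArg (fun s : Sec f (U : X.Opens) => ev f s ⟨x, hx⟩) hm
    exact this
  let I : Ideal Γ(X, (U : X.Opens)) :=
    LinearMap.ker (LinearMap.toSpanSingleton Γ(X, (U : X.Opens)) (NLCx.ChartH1 f U V e) m)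
  have hI : ∀ s, s ∈ I ↔ s • m = 0 := fun s => by
    simp only [I, LinearMap.mem_ker, LinearMap.toSpanSingleton_apply]
  have htop : I = ⊤ := by
    rw [← Ideal.span_eq I, ← U.2.self_le_iSup_basicOpen_iff]
    intro x hx
    obtain ⟨s, hxs, hs⟩ := germ_ker f U V e x hx m (hg x hx)
    exact Opens.mem_iSup.mpr ⟨⟨s, (hI s).2 hs⟩, hxs⟩
  have h1 : (1 : Γ(X, (U : X.Opens))) ∈ I := htop ▸ Submodule.mem_top
  rw [hI, one_smul] at h1
  exact h1

end

section Res
variable {U U' : X.affineOpens} {V V' : Y.affineOpens}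
  (e : (U : X.Opens) ≤ f ⁻¹ᵁ (V : Y.Opens)) (e' : (U' : X.Opens) ≤ f ⁻¹ᵁ (V' : Y.Opens))
  (hU : (U' : X.Opens) ≤ (U : X.Opens)) (hV : (V' : Y.Opens) ≤ (V : Y.Opens))

theorem toSec_res (m : NLCx.ChartH1 f U V e) :
    (H1Mod f).val.map (homOfLE hU).op (toSec f U V e m) =
      toSec f U' V' e' (NLCx.chartRes e e' hU hV m) := by
  apply sec_ext
  intro x
  rw [toSec_val, germ_chartRes]
  rfl

end Res

section Claim
variable (U : X.affineOpens) (g : Γ(X, (U : X.Opens))) (τ : Sec f (U : X.Opens))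
  (hτ : ∀ (y : X) (hy : y ∈ X.basicOpen g), ev f τ ⟨y, X.basicOpen_le g hy⟩ = 0)

include hτ in
theorem exists_pow_smul_eq_zero_local (x : X) (hx : x ∈ (U : X.Opens)) :
    ∃ h : Γ(X, (U : X.Opens)), x ∈ X.basicOpen h ∧ ∃ j : ℕ,
      ∀ (y : X) (hy : y ∈ X.basicOpen h),
        (X.presheaf.germ (U : X.Opens) y (X.basicOpen_le h hy) g) ^ j •
          ev f τ ⟨y, X.basicOpen_le h hy⟩ = 0 := by
  obtain ⟨U₁, V₁, e₁, hx₁, hU₁, m₁, h₁⟩ := (pred_iff f _).1 (ev_pred f τ) ⟨x, hx⟩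
  obtain ⟨h, hh, hxh⟩ := U.2.exists_basicOpen_le ⟨x, hx₁⟩ hx
  refine ⟨h, hxh, ?_⟩
  let Uh : X.affineOpens := X.affineBasicOpen h
  have eh : (Uh : X.Opens) ≤ f ⁻¹ᵁ (V₁ : Y.Opens) := hh.trans e₁
  let m' := NLCx.chartRes e₁ eh hh le_rfl m₁
  let g' : Γ(X, (Uh : X.Opens)) := X.presheaf.map (homOfLE (X.basicOpen_le h)).op g
  let Ug : X.affineOpens := X.affineBasicOpen g'
  have hUg : (Ug : X.Opens) ≤ (Uh : X.Opens) := X.basicOpen_le g'
  have eg : (Ug : X.Opens) ≤ f ⁻¹ᵁ (V₁ : Y.Opens) := hUg.trans eh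
  have hzero : NLCx.chartRes eh eg hUg le_rfl m' = 0 := by
    apply toSec_injective f Ug V₁ eg
    rw [map_zero]
    apply sec_ext
    intro y
    rw [toSec_val, ev_zero, germ_chartRes, germ_chartRes]
    have hy : y.1 ∈ X.basicOpen g :=
      ((Scheme.basicOpen_res X g (homOfLE (X.basicOpen_le h)).op).le y.2).2
    rw [← h₁ y.1 (hh (hUg y.2))]
    exact hτ y.1 hy
  obtain ⟨j, hj⟩ := chartRes_top_ker f Uh Ug V₁ eh g' rfl hUg eg m' hzero
  refine ⟨j, fun y hy => ?_⟩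
  rw [h₁ y (hh hy)]
  have e1 : germ f U₁ V₁ e₁ y (hh hy) m₁ = germ f Uh V₁ eh y hy m' :=
    (germ_chartRes f e₁ eh hh le_rfl y hy m₁).symm
  have e2 : X.presheaf.germ (U : X.Opens) y (X.basicOpen_le h hy) g =
      X.presheaf.germ (Uh : X.Opens) y hy g' :=
    (X.presheaf.germ_res_apply (homOfLE (X.basicOpen_le h)) y hy g).symm
  rw [e1, e2, ← map_pow, ← germ_smul, hj, map_zero]

include hτ in
theorem exists_pow_smul_eq_zero : ∃ j : ℕ, g ^ j • τ = 0 := by
  let T : Set Γ(X, (U : X.Opens)) := {h | ∃ j : ℕ, ∀ (y : X) (hy : y ∈ X.basicOpen h),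
    (X.presheaf.germ (U : X.Opens) y (X.basicOpen_le h hy) g) ^ j •
      ev f τ ⟨y, X.basicOpen_le h hy⟩ = 0}
  have hT : Ideal.span T = ⊤ := by
    rw [← U.2.self_le_iSup_basicOpen_iff]
    intro x hx
    obtain ⟨h, hxh, hj⟩ := exists_pow_smul_eq_zero_local f U g τ hτ x hx
    exact Opens.mem_iSup.mpr ⟨⟨h, hj⟩, hxh⟩
  obtain ⟨t, htT, ht⟩ := (Ideal.span_eq_top_iff_finite T).1 hT
  choose! j hj using (fun (h : Γ(X, (U : X.Opens))) (hh : h ∈ T) => hh)
  refine ⟨t.sup j, ?_⟩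
  apply sec_ext
  intro y
  rw [ev_smul, ev_zero, map_pow]
  have hcov : (U : X.Opens) ≤ ⨆ h : (t : Set Γ(X, (U : X.Opens))), X.basicOpen h.1 :=
    U.2.self_le_iSup_basicOpen_iff.2 ht
  obtain ⟨⟨h, hht⟩, hyh⟩ := Opens.mem_iSup.1 (hcov y.2)
  have h0 := hj h (htT hht) y.1 hyh
  have hle : j h ≤ t.sup j := Finset.le_sup hht
  obtain ⟨d, hd⟩ := Nat.exists_eq_add_of_le hle
  rw [hd, pow_add, mul_comm, mul_smul, h0, smul_zero]

end Claim

end Groth.Agent.Lead.NLShC
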