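import Groth.Agent.Lead.NLShC
import Mathlib

set_option autoImplicit false
universe u
open CategoryTheory AlgebraicGeometry Opposite TopologicalSpace

namespace Groth.Agent.Lead.NLShD
open NLShA NLShB NLShC

variable {X Y : Scheme.{u}} (f : X ⟶ Y)

theorem ev_sub {W : X.Opens} (s t : Sec f W) (x : W) :
    ev f (s - t) x = ev f s x - ev f t x := rfl

section
variable (U : X.affineOpens) (V : Y.affineOpens) (e : (U : X.Opens) ≤ f ⁻¹ᵁ (V : Y.Opens))

theorem exists_local_rep (σ : Sec f (U : X.Opens)) (x : X) (hx : x ∈ (U : X.Opens)) :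
    ∃ (g : Γ(X, (U : X.Opens))) (_ : x ∈ X.basicOpen g)
      (n : NLCx.ChartH1 f (X.affineBasicOpen g) V ((X.basicOpen_le g).trans e)),
      ∀ (y : X) (hy : y ∈ X.basicOpen g),
        germ f (X.affineBasicOpen g) V ((X.basicOpen_le g).trans e) y hy n =
          ev f σ ⟨y, X.basicOpen_le g hy⟩ := by
  obtain ⟨U₁, V₁, e₁, hx₁, hU₁, m₁, h₁⟩ := (pred_iff f _).1 (ev_pred f σ) ⟨x, hx⟩
  obtain ⟨a, ha, hxa⟩ := V.2.exists_basicOpen_le (V := (V₁ : Y.Opens)) ⟨f x, e₁ hx₁⟩ (e hx)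
  obtain ⟨g, hg, hxg⟩ := U.2.exists_basicOpen_le
    (V := (U₁ : X.Opens) ⊓ f ⁻¹ᵁ Y.basicOpen a) ⟨x, hx₁, hxa⟩ hx
  refine ⟨g, hxg, ?_⟩
  have eg : ((X.affineBasicOpen g : X.affineOpens) : X.Opens) ≤ f ⁻¹ᵁ (V : Y.Opens) :=
    (X.basicOpen_le g).trans e
  have e₂ : ((X.affineBasicOpen g : X.affineOpens) : X.Opens) ≤
      f ⁻¹ᵁ ((Y.affineBasicOpen a : Y.affineOpens) : Y.Opens) := fun y hy => (hg hy).2
  have hgU₁ : ((X.affineBasicOpen g : X.affineOpens) : X.Opens) ≤ (U₁ : X.Opens) :=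
    fun y hy => (hg hy).1
  obtain ⟨n, hn⟩ := (chartRes_base_bijective f (X.affineBasicOpen g) V (Y.affineBasicOpen a)
    eg a rfl (Y.basicOpen_le a) e₂).2 (NLCx.chartRes e₁ e₂ hgU₁ ha m₁)
  refine ⟨n, fun y hy => ?_⟩
  rw [← germ_chartRes f eg e₂ le_rfl (Y.basicOpen_le a) y hy n, hn, germ_chartRes]
  exact (h₁ y (hgU₁ hy)).symm

/-- the comparison map as a linear map -/
noncomputable def toSecₗ : NLCx.ChartH1 f U V e →ₗ[Γ(X, (U : X.Opens))] Sec f (U : X.Opens) where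
  toFun := toSec f U V e
  map_add' := map_add _
  map_smul' := toSec_smul f U V e

theorem toSec_surjective : Function.Surjective (toSec f U V e) := by
  intro σ
  suffices hσ : σ ∈ LinearMap.range (toSecₗ f U V e) by
    obtain ⟨m, hm⟩ := hσ
    exact ⟨m, hm⟩
  let S : Set Γ(X, (U : X.Opens)) := {g | ∃ k : ℕ, g ^ k • σ ∈ LinearMap.range (toSecₗ f U V e)}
  have hS : Ideal.span S = ⊤ := by
    rw [← U.2.self_le_iSup_basicOpen_iff]
    intro x hx
    obtain ⟨g, hxg, n, hn⟩ := exists_local_rep f U V e σ x hx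
    refine Opens.mem_iSup.mpr ⟨⟨g, ?_⟩, hxg⟩
    obtain ⟨k, a, hka⟩ := chartRes_top_surj f U (X.affineBasicOpen g) V e g rfl
      (X.basicOpen_le g) ((X.basicOpen_le g).trans e) n
    have hτ : ∀ (y : X) (hy : y ∈ X.basicOpen g),
        ev f (toSec f U V e a - g ^ k • σ) ⟨y, X.basicOpen_le g hy⟩ = 0 := by
      intro y hy
      rw [ev_sub, toSec_val, ev_smul, sub_eq_zero]
      rw [← germ_chartRes f (U' := X.affineBasicOpen g) e ((X.basicOpen_le g).trans e)
        (X.basicOpen_le g) le_rfl y hy a,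
        ← hka, germ_smul, hn y hy]
      congr 1
      exact X.presheaf.germ_res_apply (homOfLE (X.basicOpen_le g)) y hy (g ^ k)
    obtain ⟨j, hj⟩ := exists_pow_smul_eq_zero f U g _ hτ
    refine ⟨j + k, g ^ j • a, ?_⟩
    rw [smul_sub, sub_eq_zero, smul_smul, ← pow_add] at hj
    rw [LinearMap.map_smul]
    exact hj
  exact Submodule.mem_of_span_eq_top_of_smul_pow_mem _ S hS σ (fun r => r.2)

theorem toSec_bijective : Function.Bijective (toSec f U V e) :=
  ⟨toSec_injective f U V e, toSec_surjective f U V e⟩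

end

end Groth.Agent.Lead.NLShD
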