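import Groth.Agent.Lead.NLShD
import Groth.Agent.Helper4.QcohGlue
import Mathlib

set_option autoImplicit false
universe u
open CategoryTheory AlgebraicGeometry Opposite TopologicalSpace

namespace Groth.Agent.Lead.NLShE
open NLShA NLShB NLShC NLShD

variable {X Y : Scheme.{u}} (f : X ⟶ Y)

/-- the chart identifications of the germ sheaf -/
noncomputable def chartIso (U : X.affineOpens) (V : Y.affineOpens)
    (e : (U : X.Opens) ≤ f ⁻¹ᵁ (V : Y.Opens)) :
    ((H1Mod f).val.obj (op (U : X.Opens)) : Type u) ≃+ NLCx.ChartH1 f U V e :=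
  (AddEquiv.ofBijective (toSec f U V e) (toSec_bijective f U V e)).symm

theorem toSec_chartIso (U : X.affineOpens) (V : Y.affineOpens)
    (e : (U : X.Opens) ≤ f ⁻¹ᵁ (V : Y.Opens)) (s : Sec f (U : X.Opens)) :
    toSec f U V e (chartIso f U V e s) = s :=
  (AddEquiv.ofBijective (toSec f U V e) (toSec_bijective f U V e)).apply_symm_apply s

/-- the germ sheaf is `H⁻¹(NL_{X/Y})` -/
noncomputable def h1Sheaf : NLCx.H1Sheaf f (H1Mod f) where
  iso := chartIso f
  map_smul U V e a m := by
    apply toSec_injective f U V e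
    rw [toSec_smul, toSec_chartIso, toSec_chartIso]
  map_res {U U' V V'} e e' hU hV m := by
    apply toSec_injective f U' V' e'
    rw [toSec_chartIso, ← toSec_res, toSec_chartIso]

end Groth.Agent.Lead.NLShE
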