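import Groth.Agent.Lead.NLShE
import Groth.Agent.Helper4.QcohGlue
import Mathlib

set_option autoImplicit false
universe u
open CategoryTheory AlgebraicGeometry Opposite TopologicalSpace

namespace Groth.Agent.Lead.NLShF
open NLShA NLShB NLShC NLShD Groth.Agent.Helper4

variable {X Y : Scheme.{u}} (f : X ⟶ Y)

theorem isLocalizingOn (F : X.Modules) (c : NLCx.H1Sheaf f F) (U : X.affineOpens)
    (V : Y.affineOpens) (e : (U : X.Opens) ≤ f ⁻¹ᵁ (V : Y.Opens)) :
    QcqsMod.IsLocalizingOn F (U : X.Opens) where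
  zero g m hm := by
    have eg : ((X.affineBasicOpen g : X.affineOpens) : X.Opens) ≤ f ⁻¹ᵁ (V : Y.Opens) :=
      (X.basicOpen_le g).trans e
    have h1 := c.map_res (U' := X.affineBasicOpen g) e eg (X.basicOpen_le g) le_rfl m
    have h2 : NLCx.chartRes (U' := X.affineBasicOpen g) e eg (X.basicOpen_le g) le_rfl
        (c.iso U V e m) = 0 := by
      refine h1.symm.trans ?_
      have : F.val.map (homOfLE (X.basicOpen_le g)).op m = 0 := hm
      exact (congrArg (c.iso (X.affineBasicOpen g) V eg) this).trans (map_zero _)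
    obtain ⟨k, hk⟩ := chartRes_top_ker f U (X.affineBasicOpen g) V e g rfl
      (X.basicOpen_le g) eg _ h2
    refine ⟨k, ?_⟩
    apply (c.iso U V e).injective
    exact ((c.map_smul U V e (g ^ k) m).trans hk).trans (map_zero _).symm
  surj g t := by
    have eg : ((X.affineBasicOpen g : X.affineOpens) : X.Opens) ≤ f ⁻¹ᵁ (V : Y.Opens) :=
      (X.basicOpen_le g).trans e
    obtain ⟨k, μ, hk⟩ := chartRes_top_surj f U (X.affineBasicOpen g) V e g rfl
      (X.basicOpen_le g) eg (c.iso (X.affineBasicOpen g) V eg t)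
    refine ⟨k, (c.iso U V e).symm μ, ?_⟩
    apply (c.iso (X.affineBasicOpen g) V eg).injective
    refine (c.map_smul (X.affineBasicOpen g) V eg _ t).trans ?_
    refine hk.trans ?_
    refine Eq.trans ?_ (c.map_res (U' := X.affineBasicOpen g) e eg (X.basicOpen_le g) le_rfl
      ((c.iso U V e).symm μ)).symm
    exact congrArg _ ((c.iso U V e).apply_symm_apply μ).symm

theorem isQCoh (F : X.Modules) (c : NLCx.H1Sheaf f F) : F.IsQuasicoherent := by
  apply QcohGlue.isQuasicoherent_of_isLocalizingOn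
  intro x
  obtain ⟨U, V, hxU, -, -, e⟩ := exists_chart_le f x ⊤ trivial ⊤ trivial
  exact ⟨U.1, U.2, hxU, isLocalizingOn f F c U V e⟩

end Groth.Agent.Lead.NLShF
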