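import Groth.Agent.Lead.NLBaseLocA
import Mathlib

set_option autoImplicit false
universe u
open TensorProduct

namespace Groth.Agent.Lead.NLSqA

open Algebra Algebra.Extension

section Inst
variable (A A' A'' B B' B'' : Type u) [CommRing A] [CommRing A'] [CommRing A''] [CommRing B]
  [CommRing B'] [CommRing B'']
  [Algebra A B] [Algebra A' B'] [Algebra A'' B'']
  [Algebra A A'] [Algebra B B'] [Algebra A B'] [IsScalarTower A A' B'] [IsScalarTower A B B']
  [Algebra A' A''] [Algebra B' B''] [Algebra A' B''] [IsScalarTower A' A'' B'']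
  [IsScalarTower A' B' B'']
  [Algebra A A''] [Algebra B B''] [Algebra A B''] [IsScalarTower A A'' B'']
  [IsScalarTower A B B'']
  [IsScalarTower A A' A''] [IsScalarTower B B' B'']

theorem map_map (m : Algebra.H1Cotangent A B) :
    Algebra.H1Cotangent.map A' A'' B' B'' (Algebra.H1Cotangent.map A A' B B' m) =
      Algebra.H1Cotangent.map A A'' B B'' m := by
  rw [Algebra.H1Cotangent.map, Algebra.H1Cotangent.map, Algebra.H1Cotangent.map,
    ← Extension.H1Cotangent.map_comp_apply]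
  exact congr($(Extension.H1Cotangent.map_eq _ _) m)

end Inst

section Unb
variable {A B A' B' A'' B'' : Type u} [CommRing A] [CommRing A'] [CommRing A''] [CommRing B]
  [CommRing B'] [CommRing B'']

/-- `H¹` of the naive cotangent complex of a ring homomorphism -/
abbrev H1 (φ : A →+* B) : Type u := @Algebra.H1Cotangent A B _ _ φ.toAlgebra

/-- the map on `H¹(NL)` of a commutative square of ring homomorphisms -/
noncomputable def sq (φ : A →+* B) (φ' : A' →+* B') (α : A →+* A') (β : B →+* B')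
    (ψ : A →+* B') (h1 : ψ = φ'.comp α) (h2 : ψ = β.comp φ) : H1 φ →+ H1 φ' :=
  letI := φ.toAlgebra
  letI := φ'.toAlgebra
  letI := ψ.toAlgebra
  letI := β.toAlgebra
  letI := α.toAlgebra
  haveI : IsScalarTower A A' B' := IsScalarTower.of_algebraMap_eq' h1
  haveI : IsScalarTower A B B' := IsScalarTower.of_algebraMap_eq' h2
  (Algebra.H1Cotangent.map A A' B B').toAddMonoidHom

variable (φ : A →+* B) (φ' : A' →+* B') (α : A →+* A') (β : B →+* B')
    (ψ : A →+* B') (h1 : ψ = φ'.comp α) (h2 : ψ = β.comp φ)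

theorem sq_smul (b : B) (m : H1 φ) : sq φ φ' α β ψ h1 h2 (b • m) = β b • sq φ φ' α β ψ h1 h2 m := by
  letI := φ.toAlgebra
  letI := φ'.toAlgebra
  letI := ψ.toAlgebra
  letI := β.toAlgebra
  letI := α.toAlgebra
  haveI : IsScalarTower A A' B' := IsScalarTower.of_algebraMap_eq' h1
  haveI : IsScalarTower A B B' := IsScalarTower.of_algebraMap_eq' h2
  change Algebra.H1Cotangent.map A A' B B' (b • m) =
    algebraMap B B' b • Algebra.H1Cotangent.map A A' B B' m
  rw [LinearMap.map_smul, algebraMap_smul]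

theorem sq_comp (φ'' : A'' →+* B'') (α' : A' →+* A'') (β' : B' →+* B'')
    (ψ' : A' →+* B'') (h1' : ψ' = φ''.comp α') (h2' : ψ' = β'.comp φ')
    (χ : A →+* B'') (k1 : χ = φ''.comp (α'.comp α)) (k2 : χ = (β'.comp β).comp φ)
    (m : H1 φ) :
    sq φ' φ'' α' β' ψ' h1' h2' (sq φ φ' α β ψ h1 h2 m) =
      sq φ φ'' (α'.comp α) (β'.comp β) χ k1 k2 m := by
  letI := φ.toAlgebra
  letI := φ'.toAlgebra
  letI := φ''.toAlgebra
  letI := ψ.toAlgebra
  letI := ψ'.toAlgebra
  letI := χ.toAlgebra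
  letI := β.toAlgebra
  letI := α.toAlgebra
  letI := β'.toAlgebra
  letI := α'.toAlgebra
  letI := (β'.comp β).toAlgebra
  letI := (α'.comp α).toAlgebra
  haveI : IsScalarTower A A' B' := IsScalarTower.of_algebraMap_eq' h1
  haveI : IsScalarTower A B B' := IsScalarTower.of_algebraMap_eq' h2
  haveI : IsScalarTower A' A'' B'' := IsScalarTower.of_algebraMap_eq' h1'
  haveI : IsScalarTower A' B' B'' := IsScalarTower.of_algebraMap_eq' h2'
  haveI : IsScalarTower A A'' B'' := IsScalarTower.of_algebraMap_eq' k1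
  haveI : IsScalarTower A B B'' := IsScalarTower.of_algebraMap_eq' k2
  haveI : IsScalarTower A A' A'' := IsScalarTower.of_algebraMap_eq' rfl
  haveI : IsScalarTower B B' B'' := IsScalarTower.of_algebraMap_eq' rfl
  exact map_map A A' A'' B B' B'' m

theorem sq_base_bijective (M : Submonoid A) (φ₁ : A' →+* B) (h : φ = φ₁.comp α)
    (hM : @IsLocalization A _ M A' _ α.toAlgebra) :
    Function.Bijective (sq φ φ₁ α (RingHom.id B) φ h (RingHom.id_comp φ).symm) := by
  letI := φ.toAlgebra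
  letI := φ₁.toAlgebra
  letI := α.toAlgebra
  haveI : IsScalarTower A A' B := IsScalarTower.of_algebraMap_eq' h
  exact NLBaseLocA.h1Cotangent_map_bijective A A' B M

/-- the top-localization square -/
noncomputable abbrev sqTop : H1 φ →+ H1 (β.comp φ) :=
  sq φ (β.comp φ) (RingHom.id A) β (β.comp φ) (RingHom.comp_id _).symm rfl

theorem sqTop_isLocalizedModule (N : Submonoid B) (hN : @IsLocalization B _ N B' _ β.toAlgebra) :
    letI := φ.toAlgebra
    letI := (β.comp φ).toAlgebra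
    letI := β.toAlgebra
    haveI : IsScalarTower A B B' := IsScalarTower.of_algebraMap_eq' rfl
    IsLocalizedModule N (Algebra.H1Cotangent.map A A B B') := by
  letI := φ.toAlgebra
  letI := (β.comp φ).toAlgebra
  letI := β.toAlgebra
  haveI : IsScalarTower A B B' := IsScalarTower.of_algebraMap_eq' rfl
  exact Algebra.H1Cotangent.isLocalizedModule A B' N

theorem sqTop_eq (m : H1 φ) :
    letI := φ.toAlgebra
    letI := (β.comp φ).toAlgebra
    letI := β.toAlgebra
    haveI : IsScalarTower A B B' := IsScalarTower.of_algebraMap_eq' rfl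
    sqTop φ β m = Algebra.H1Cotangent.map A A B B' m := rfl

theorem sqTop_surj (N : Submonoid B) (hN : @IsLocalization B _ N B' _ β.toAlgebra)
    (n : H1 (β.comp φ)) : ∃ (s : B) (_ : s ∈ N) (m : H1 φ), β s • n = sqTop φ β m := by
  letI := φ.toAlgebra
  letI := (β.comp φ).toAlgebra
  letI := β.toAlgebra
  haveI : IsScalarTower A B B' := IsScalarTower.of_algebraMap_eq' rfl
  haveI := Algebra.H1Cotangent.isLocalizedModule A B' N
  obtain ⟨⟨m, s⟩, hms⟩ := IsLocalizedModule.surj N (Algebra.H1Cotangent.map A A B B') n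
  refine ⟨s.1, s.2, m, ?_⟩
  rw [sqTop_eq, ← hms]
  exact (algebraMap_smul B' (s : B) n)

theorem sqTop_ker (N : Submonoid B) (hN : @IsLocalization B _ N B' _ β.toAlgebra)
    (m : H1 φ) (hm : sqTop φ β m = 0) : ∃ (s : B) (_ : s ∈ N), s • m = 0 := by
  letI := φ.toAlgebra
  letI := (β.comp φ).toAlgebra
  letI := β.toAlgebra
  haveI : IsScalarTower A B B' := IsScalarTower.of_algebraMap_eq' rfl
  haveI := Algebra.H1Cotangent.isLocalizedModule A B' N
  rw [sqTop_eq] at hm
  have h0 : Algebra.H1Cotangent.map A A B B' m = Algebra.H1Cotangent.map A A B B' 0 := by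
    rw [hm, map_zero]
  obtain ⟨c, hc⟩ := IsLocalizedModule.exists_of_eq (S := N) h0
  exact ⟨c.1, c.2, by rw [smul_zero] at hc; exact hc⟩

theorem sq_congr {α₂ : A →+* A'} {β₂ : B →+* B'} {ψ₂ : A →+* B'} (hα : α = α₂) (hβ : β = β₂)
    (hψ : ψ = ψ₂) (h1' : ψ₂ = φ'.comp α₂) (h2' : ψ₂ = β₂.comp φ) :
    sq φ φ' α β ψ h1 h2 = sq φ φ' α₂ β₂ ψ₂ h1' h2' := by
  subst hα hβ hψ
  rfl

theorem sq_ker (M : Submonoid A) (hM : @IsLocalization A _ M A' _ α.toAlgebra)
    (N : Submonoid B) (hN : @IsLocalization B _ N B' _ β.toAlgebra)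
    (m : H1 φ) (hm : sq φ φ' α β ψ h1 h2 m = 0) : ∃ (s : B) (_ : s ∈ N), s • m = 0 := by
  have hc : β.comp φ = φ'.comp α := h2.symm.trans h1
  have key := sq_comp φ (β.comp φ) (RingHom.id A) β (β.comp φ) (RingHom.comp_id _).symm rfl φ' α
    (RingHom.id B') (β.comp φ) hc (RingHom.id_comp _).symm ψ
    (by rw [RingHom.comp_id]; exact h1) (by rw [RingHom.id_comp]; exact h2) m
  rw [sq_congr φ φ' (α.comp (RingHom.id A)) ((RingHom.id B').comp β) ψ _ _
    (RingHom.comp_id α) (RingHom.id_comp β) rfl h1 h2, hm] at key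
  have hinj := (sq_base_bijective (β.comp φ) α M φ' hc hM).1
  have h0 : sqTop φ β m = 0 := hinj (by rw [key, map_zero])
  exact sqTop_ker φ β N hN m h0

end Unb

section Gen
variable {A B A' B' : Type u} [CommRing A] [CommRing A'] [CommRing B] [CommRing B']

theorem sq_base_bij (φ : A →+* B) (φ' : A' →+* B) (α : A →+* A') (β : B →+* B) (ψ : A →+* B)
    (h1 : ψ = φ'.comp α) (h2 : ψ = β.comp φ) (hβ : β = RingHom.id B)
    (M : Submonoid A) (hM : @IsLocalization A _ M A' _ α.toAlgebra) :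
    Function.Bijective (sq φ φ' α β ψ h1 h2) := by
  subst hβ
  have hψ : ψ = φ := by rw [h2, RingHom.id_comp]
  subst hψ
  exact sq_base_bijective ψ α M φ' h1 hM

theorem sq_top_surj (φ : A →+* B) (φ' : A →+* B') (α : A →+* A) (β : B →+* B') (ψ : A →+* B')
    (h1 : ψ = φ'.comp α) (h2 : ψ = β.comp φ) (hα : α = RingHom.id A)
    (N : Submonoid B) (hN : @IsLocalization B _ N B' _ β.toAlgebra) (n : H1 φ') :
    ∃ (s : B) (_ : s ∈ N) (m : H1 φ), β s • n = sq φ φ' α β ψ h1 h2 m := by
  subst hα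
  have hφ' : φ' = β.comp φ := by rw [← h2, h1, RingHom.comp_id]
  subst hφ'
  have hψ : ψ = β.comp φ := h2
  subst hψ
  exact sqTop_surj φ β N hN n

theorem sq_top_ker (φ : A →+* B) (φ' : A →+* B') (α : A →+* A) (β : B →+* B') (ψ : A →+* B')
    (h1 : ψ = φ'.comp α) (h2 : ψ = β.comp φ) (hα : α = RingHom.id A)
    (N : Submonoid B) (hN : @IsLocalization B _ N B' _ β.toAlgebra) (m : H1 φ)
    (hm : sq φ φ' α β ψ h1 h2 m = 0) : ∃ (s : B) (_ : s ∈ N), s • m = 0 := by
  subst hα
  have hφ' : φ' = β.comp φ := by rw [← h2, h1, RingHom.comp_id]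
  subst hφ'
  have hψ : ψ = β.comp φ := h2
  subst hψ
  exact sqTop_ker φ β N hN m hm

end Gen

end Groth.Agent.Lead.NLSqA
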