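import Mathlib

/-!
# Comparison of two effaceable δ-functors, compatibly with families of endomorphisms

A variant of `Helper1.DeltaCmp`: the isomorphisms `T n F ≅ T' n F` can be chosen compatible with any
given family of endomorphisms of `F`.
-/

set_option autoImplicit false

namespace Groth.Agent.Lead.NatLeray

open CategoryTheory Limits

universe w v₁ v₂ u₁ u₂

section iso

variable {B : Type u₂} [Category.{v₂} B] [Abelian B]

/-- the isomorphism induced on cokernels -/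
theorem exists_iso_of_exact {A₂ A₃ A₁ B₂ B₃ B₁ : B} (a : A₂ ⟶ A₃) (δ : A₃ ⟶ A₁) (w : a ≫ δ = 0)
    (hA : (ShortComplex.mk a δ w).Exact) [Epi δ]
    (b : B₂ ⟶ B₃) (δ' : B₃ ⟶ B₁) (w' : b ≫ δ' = 0)
    (hB : (ShortComplex.mk b δ' w').Exact) [Epi δ']
    (e₂ : A₂ ≅ B₂) (e₃ : A₃ ≅ B₃) (comm : a ≫ e₃.hom = e₂.hom ≫ b) :
    ∃ i : A₁ ≅ B₁, δ ≫ i.hom = e₃.hom ≫ δ' := by
  haveI : Epi (ShortComplex.mk a δ w).g := inferInstanceAs (Epi δ)
  haveI : Epi (ShortComplex.mk b δ' w').g := inferInstanceAs (Epi δ')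
  have hc : IsColimit (CokernelCofork.ofπ δ w) := hA.gIsCokernel
  have hc' : IsColimit (CokernelCofork.ofπ δ' w') := hB.gIsCokernel
  have comm' : b ≫ e₃.inv = e₂.inv ≫ a := by
    rw [← cancel_epi e₂.hom, ← Category.assoc, ← comm, Category.assoc, e₃.hom_inv_id,
      Category.comp_id, e₂.hom_inv_id_assoc]
  have w1 : a ≫ e₃.hom ≫ δ' = 0 := by
    rw [← Category.assoc, comm, Category.assoc, w', comp_zero]
  have w2 : b ≫ e₃.inv ≫ δ = 0 := by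
    rw [← Category.assoc, comm', Category.assoc, w, comp_zero]
  let φ : A₁ ⟶ B₁ := hc.desc (CokernelCofork.ofπ (e₃.hom ≫ δ') w1)
  let ψ : B₁ ⟶ A₁ := hc'.desc (CokernelCofork.ofπ (e₃.inv ≫ δ) w2)
  have hφ : δ ≫ φ = e₃.hom ≫ δ' := Cofork.IsColimit.π_desc hc
  have hψ : δ' ≫ ψ = e₃.inv ≫ δ := Cofork.IsColimit.π_desc hc'
  refine ⟨⟨φ, ψ, ?_, ?_⟩, hφ⟩
  · rw [← cancel_epi δ, ← Category.assoc, hφ, Category.assoc, hψ, e₃.hom_inv_id_assoc,
      Category.comp_id]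
  · rw [← cancel_epi δ', ← Category.assoc, hψ, Category.assoc, hφ, e₃.inv_hom_id_assoc,
      Category.comp_id]

end iso

variable {A : Type u₁} [Category.{v₁} A] [Abelian A] {B : Type u₂} [Category.{v₂} B] [Abelian B]
  (T T' : ℕ → A ⥤ B)

/-- an effacement of `F` together with lifts of a family of endomorphisms, and connecting
morphisms for `T` and `T'` which are compatible with the lifts -/
structure NatEff (𝒜 : A → Prop) {J : Type w} (F : A) (ψ : J → (F ⟶ F)) where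
  /-- the middle object -/
  I : A
  /-- the quotient -/
  Q : A
  /-- the embedding -/
  f : F ⟶ I
  /-- the projection -/
  g : I ⟶ Q
  /-- lifts to `I` -/
  ψI : J → (I ⟶ I)
  /-- induced endomorphisms of `Q` -/
  ψQ : J → (Q ⟶ Q)
  comm₂ : ∀ j, ψI j ≫ g = g ≫ ψQ j
  mem : 𝒜 Q
  zero : ∀ n, IsZero ((T (n + 1)).obj I)
  zero' : ∀ n, IsZero ((T' (n + 1)).obj I)
  /-- connecting morphisms for `T` -/
  δ : ∀ n, (T n).obj Q ⟶ (T (n + 1)).obj F
  w : ∀ n, (T n).map g ≫ δ n = 0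
  ex : ∀ n, (ShortComplex.mk _ _ (w n)).Exact
  w₂ : ∀ n, δ n ≫ (T (n + 1)).map f = 0
  ex₂ : ∀ n, (ShortComplex.mk _ _ (w₂ n)).Exact
  nat : ∀ n j, (T n).map (ψQ j) ≫ δ n = δ n ≫ (T (n + 1)).map (ψ j)
  /-- connecting morphisms for `T'` -/
  δ' : ∀ n, (T' n).obj Q ⟶ (T' (n + 1)).obj F
  w' : ∀ n, (T' n).map g ≫ δ' n = 0
  ex' : ∀ n, (ShortComplex.mk _ _ (w' n)).Exact
  w₂' : ∀ n, δ' n ≫ (T' (n + 1)).map f = 0
  ex₂' : ∀ n, (ShortComplex.mk _ _ (w₂' n)).Exact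
  nat' : ∀ n j, (T' n).map (ψQ j) ≫ δ' n = δ' n ≫ (T' (n + 1)).map (ψ j)

variable {T T'}

theorem nonempty_iso_nat (𝒜 : A → Prop) (e : T 0 ≅ T' 0)
    (hE : ∀ F, 𝒜 F → ∀ (J : Type w) (ψ : J → (F ⟶ F)), Nonempty (NatEff T T' 𝒜 F ψ)) :
    ∀ (n : ℕ) (F : A), 𝒜 F → ∀ (J : Type w) (ψ : J → (F ⟶ F)),
      ∃ i : (T n).obj F ≅ (T' n).obj F,
        ∀ j, (T n).map (ψ j) ≫ i.hom = i.hom ≫ (T' n).map (ψ j) := by
  intro n
  induction n with
  | zero =>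
    intro F _ J ψ
    exact ⟨e.app F, fun j => e.hom.naturality (ψ j)⟩
  | succ n ih =>
    intro F hF J ψ
    obtain ⟨E⟩ := hE F hF J ψ
    haveI : Epi (E.δ n) := (E.ex₂ n).epi_f ((E.zero n).eq_of_tgt _ _)
    haveI : Epi (E.δ' n) := (E.ex₂' n).epi_f ((E.zero' n).eq_of_tgt _ _)
    -- the isomorphisms in degree `n` for `I` and `Q`
    obtain ⟨e₂, e₃, comm, he₃⟩ : ∃ (e₂ : (T n).obj E.I ≅ (T' n).obj E.I)
        (e₃ : (T n).obj E.Q ≅ (T' n).obj E.Q),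
        (T n).map E.g ≫ e₃.hom = e₂.hom ≫ (T' n).map E.g ∧
        ∀ j, (T n).map (E.ψQ j) ≫ e₃.hom = e₃.hom ≫ (T' n).map (E.ψQ j) := by
      cases n with
      | zero =>
        exact ⟨e.app E.I, e.app E.Q, e.hom.naturality E.g, fun j => e.hom.naturality (E.ψQ j)⟩
      | succ m =>
        obtain ⟨j, hj⟩ := ih E.Q E.mem J E.ψQ
        exact ⟨(E.zero m).iso (E.zero' m), j, (E.zero m).eq_of_src _ _, hj⟩
    obtain ⟨i, hi⟩ := exists_iso_of_exact _ (E.δ n) (E.w n) (E.ex n) _ (E.δ' n) (E.w' n)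
      (E.ex' n) e₂ e₃ comm
    refine ⟨i, fun j => ?_⟩
    rw [← cancel_epi (E.δ n), ← Category.assoc, ← E.nat n j, Category.assoc, hi,
      ← Category.assoc, he₃ j, Category.assoc, E.nat' n j, ← Category.assoc, ← hi,
      Category.assoc]

end Groth.Agent.Lead.NatLeray
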