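import Mathlib
import Groth.Agent.Lead.NatLerayA
import Groth.Agent.Helper1.CohTopLeray

/-!
# The degenerate Leray isomorphism, compatibly with families of endomorphisms
-/

set_option autoImplicit false
set_option linter.unusedSectionVars false

namespace Groth.Agent.Lead.NatLeray

open CategoryTheory Limits Opposite TopologicalSpace Abelian
open Groth.Agent.Lead.CohTopB
open Groth.Agent.Helper1.DeltaCmp
open Groth.Agent.Helper1.CechTop
open Groth.Agent.Helper1.CohTopExt
open Groth.Agent.Helper1.CohTopFun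

universe w v₁ v₂ u₁ u₂

section ext

variable {A : Type u₁} [Category.{v₁} A] [Abelian A] {B : Type u₂} [Category.{v₂} B] [Abelian B]
  [HasExt.{w} B]

/-- a long exact sequence for `T` and the short complex `S`, natural for a family of endomorphisms
of `S` -/
structure NatLES (T : ℕ → A ⥤ AddCommGrpCat.{w}) (S : ShortComplex A) {J : Type*}
    (Ψ : J → (S ⟶ S)) where
  /-- connecting morphisms -/
  δ : ∀ n, (T n).obj S.X₃ ⟶ (T (n + 1)).obj S.X₁
  w : ∀ n, (T n).map S.g ≫ δ n = 0
  ex : ∀ n, (ShortComplex.mk _ _ (w n)).Exact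
  w₂ : ∀ n, δ n ≫ (T (n + 1)).map S.f = 0
  ex₂ : ∀ n, (ShortComplex.mk _ _ (w₂ n)).Exact
  nat : ∀ n j, (T n).map (Ψ j).τ₃ ≫ δ n = δ n ≫ (T (n + 1)).map (Ψ j).τ₁

/-- the long exact `Ext(P, G -)` sequence is natural -/
noncomputable def natLES_extSeq (G : A ⥤ B) [G.Additive] (P : B) (S : ShortComplex A)
    (hS' : (S.map G).ShortExact) {J : Type*} (Ψ : J → (S ⟶ S)) :
    NatLES (extSeq G P) S Ψ where
  δ n := AddCommGrpCat.ofHom (hS'.extClass.postcomp P rfl)
  w n := (exists_of_exact (Ext.covariant_sequence_exact₃' P hS' n (n + 1) rfl)).choose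
  ex n := (exists_of_exact (Ext.covariant_sequence_exact₃' P hS' n (n + 1) rfl)).choose_spec
  w₂ n := (exists_of_exact (Ext.covariant_sequence_exact₁' P hS' n (n + 1) rfl)).choose
  ex₂ n := (exists_of_exact (Ext.covariant_sequence_exact₁' P hS' n (n + 1) rfl)).choose_spec
  nat n j := by
    apply AddCommGrpCat.hom_ext
    apply AddMonoidHom.ext
    intro x
    change ((show Ext P (S.map G).X₃ n from x).comp (Ext.mk₀ (G.map (Ψ j).τ₃)) (add_zero n)).comp
        hS'.extClass rfl =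
      ((show Ext P (S.map G).X₃ n from x).comp hS'.extClass rfl).comp
        (Ext.mk₀ (G.map (Ψ j).τ₁)) (add_zero (n + 1))
    rw [Ext.comp_assoc_of_second_deg_zero, Ext.comp_assoc_of_third_deg_zero]
    congr 1
    exact (ShortComplex.ShortExact.extClass_naturality hS' hS'
      (G.mapShortComplex.map (Ψ j))).symm

end ext


universe u

variable {X Y : TopCat.{u}} (f : X ⟶ Y)

/-- **degenerate Leray, compatibly with endomorphisms**: if `R^q f_* F = 0` for `q > 0` then
`Hⁿ(X, F) ≅ Hⁿ(Y, f_* F)` by an isomorphism commuting with the maps induced by any given family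
of endomorphisms of `F` -/
theorem exists_iso_H_push_nat (n : ℕ) (F : CohTop.Ab X)
    (h : ∀ q : ℕ, IsZero ((CohTop.Rpush f (q + 1)).obj F)) (J : Type u) (ψ : J → (F ⟶ F)) :
    ∃ i : (HSeq n).obj F ≅ (HpSeq f n).obj F,
      ∀ j, (HSeq n).map (ψ j) ≫ i.hom = i.hom ≫ (HpSeq f n).map (ψ j) := by
  have e : HSeq (X := X) 0 ≅ HpSeq f 0 := h0Iso ≪≫ (hp0Iso f).symm
  refine nonempty_iso_nat (T := fun n => HSeq n) (T' := fun n => HpSeq f n)
    (fun F => ∀ q : ℕ, IsZero ((CohTop.Rpush f (q + 1)).obj F)) e ?_ n F h J ψ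
  intro F hF J ψ
  have hS := injSC_shortExact F
  let ψI : J → (Injective.under F ⟶ Injective.under F) :=
    fun j => Injective.factorThru (ψ j ≫ Injective.ι F) (Injective.ι F)
  have hψI : ∀ j, Injective.ι F ≫ ψI j = ψ j ≫ Injective.ι F :=
    fun j => Injective.comp_factorThru _ _
  let ψQ : J → (cokernel (Injective.ι F) ⟶ cokernel (Injective.ι F)) :=
    fun j => cokernel.map (Injective.ι F) (Injective.ι F) (ψ j) (ψI j) (hψI j)
  have hψQ : ∀ j, ψI j ≫ cokernel.π (Injective.ι F) = cokernel.π (Injective.ι F) ≫ ψQ j :=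
    fun j => (cokernel.π_desc _ _ _).symm
  let Ψ : J → (injSC F ⟶ injSC F) :=
    fun j => ShortComplex.homMk (ψ j) (ψI j) (ψQ j) (hψI j).symm (hψQ j)
  have hS₁ : ((injSC F).map (𝟭 (CohTop.Ab X))).ShortExact := hS.map_of_exact _
  have hS₂ : ((injSC F).map (CohTop.push f)).ShortExact :=
    Groth.Agent.Helper1.DerLES.shortExact_map (CohTop.push f) (injSC F) hS (hF 0)
  let L₁ := natLES_extSeq (𝟭 (CohTop.Ab X)) (constZ X) (injSC F) hS₁ Ψ
  let L₂ := natLES_extSeq (CohTop.push f) (constZ Y) (injSC F) hS₂ Ψ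
  exact ⟨{
    I := (injSC F).X₂
    Q := (injSC F).X₃
    f := (injSC F).f
    g := (injSC F).g
    ψI := ψI
    ψQ := ψQ
    comm₂ := hψQ
    mem := fun q => Groth.Agent.Helper1.DerLES.isZero_rightDerived_X₃ (CohTop.push f) (injSC F)
      hS q (Functor.isZero_rightDerived_obj_injective_succ _ _ _) (hF (q + 1))
    zero := fun n => isZero_HSeq_of_injective _ n
    zero' := fun n => isZero_HpSeq_of_injective f _ n
    δ := L₁.δ
    w := L₁.w
    ex := L₁.ex
    w₂ := L₁.w₂
    ex₂ := L₁.ex₂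
    nat := L₁.nat
    δ' := L₂.δ
    w' := L₂.w
    ex' := L₂.ex
    w₂' := L₂.w₂
    ex₂' := L₂.ex₂
    nat' := L₂.nat }⟩

end Groth.Agent.Lead.NatLeray
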