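import Mathlib
import Groth.Agent.Lead.NatLerayB
import Groth.Agent.Helper1.SerreE

/-!
# `H^n(P, N) ≃ H^n(Q, h_* N)` for an affine morphism `h`, compatibly with endomorphisms of `N`
-/

set_option autoImplicit false
set_option linter.unusedSectionVars false

namespace Groth.Agent.Lead.NatLeray

open CategoryTheory Limits Opposite TopologicalSpace AlgebraicGeometry
open Groth.Agent.Helper1.CohTopFun

universe u

/-- the map induced on cohomology by a morphism of modules -/
noncomputable abbrev HHmap {X : Scheme.{u}} {M N : X.Modules} (ψ : M ⟶ N) (n : ℕ) :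
    Coh.HH X M n →+ Coh.HH X N n :=
  Sheaf.H.map ((SheafOfModules.toSheaf X.ringCatSheaf).map ψ) n

theorem exists_addEquiv_HH_push {P Q : Scheme.{u}} (h : P ⟶ Q) [IsAffineHom h] (N : P.Modules)
    [N.IsQuasicoherent] (n : ℕ) :
    ∃ e : Coh.HH P N n ≃+ Coh.HH Q ((Scheme.Modules.pushforward h).obj N) n,
      ∀ (ψ : N ⟶ N) (x : Coh.HH P N n),
        e (HHmap ψ n x) = HHmap ((Scheme.Modules.pushforward h).map ψ) n (e x) := by
  obtain ⟨i, hi⟩ := exists_iso_H_push_nat h.base n (Coh.toAb N)
    (fun q => Groth.Agent.Helper1.Serre.isZero_RpushAb_of_isAffineHom h N q) (N ⟶ N)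
    (fun ψ => (SheafOfModules.toSheaf P.ringCatSheaf).map ψ)
  refine ⟨i.addCommGroupIsoToAddEquiv, fun ψ x => ?_⟩
  exact congrArg (fun φ => (ConcreteCategory.hom φ) x) (hi ψ)

end Groth.Agent.Lead.NatLeray
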