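import Mathlib
open CategoryTheory Limits AlgebraicGeometry

/-!
# Extension of morphisms from the preimage of an open: formal part

`ExtG U p a`: every `S`-morphism to `N` defined on (an open immersion onto) `a ⁻¹ U` extends uniquely
to an `S`-morphism `Y ⟶ N`. Locality of this property on `Y`.
-/

namespace Groth.Agent.Lead.NeronLocA
universe u

variable {S : Scheme.{u}} (U : S.Opens) {N : Scheme.{u}} (p : N ⟶ S)

/-- unique extension property of `a : Y ⟶ S` w.r.t. the open `U` and the target `p : N ⟶ S`. -/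
def ExtG {Y : Scheme.{u}} (a : Y ⟶ S) : Prop :=
  ∀ (V : Scheme.{u}) (v : V ⟶ Y) [IsOpenImmersion v], Set.range v = a ⁻¹' (U : Set S) →
    ∀ χ : V ⟶ N, χ ≫ p = v ≫ a → ∃! φ : Y ⟶ N, φ ≫ p = a ∧ v ≫ φ = χ

/-- the uniqueness half -/
def UniqG {Y : Scheme.{u}} (a : Y ⟶ S) : Prop :=
  ∀ (V : Scheme.{u}) (v : V ⟶ Y) [IsOpenImmersion v], Set.range v = a ⁻¹' (U : Set S) →
    ∀ φ₁ φ₂ : Y ⟶ N, φ₁ ≫ p = a → φ₂ ≫ p = a → v ≫ φ₁ = v ≫ φ₂ → φ₁ = φ₂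

variable {U p}

lemma ExtG.uniqG {Y : Scheme.{u}} {a : Y ⟶ S} (h : ExtG U p a) : UniqG U p a := by
  intro V v _ hv φ₁ φ₂ h1 h2 h12
  obtain ⟨φ, -, hu⟩ := h V v hv (v ≫ φ₁) (by rw [Category.assoc, h1])
  rw [hu φ₁ ⟨h1, rfl⟩, hu φ₂ ⟨h2, h12.symm⟩]

lemma ExtG.of_iso {Y Y₂ : Scheme.{u}} (θ : Y ≅ Y₂) {a₂ : Y₂ ⟶ S} (h : ExtG U p a₂) :
    ExtG U p (θ.hom ≫ a₂) := by
  intro V v _ hv χ hχ
  have hv' : Set.range (v ≫ θ.hom) = a₂ ⁻¹' (U : Set S) := by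
    rw [Scheme.Hom.comp_base, TopCat.coe_comp, Set.range_comp, hv]
    ext y
    constructor
    · rintro ⟨x, hx, rfl⟩
      exact hx
    · intro hy
      refine ⟨θ.inv y, ?_, ?_⟩
      · change (θ.hom ≫ a₂) (θ.inv y) ∈ U
        rw [Scheme.Hom.comp_apply, ← Scheme.Hom.comp_apply θ.inv θ.hom, θ.inv_hom_id]
        exact hy
      · rw [← Scheme.Hom.comp_apply, θ.inv_hom_id]
        rfl
  obtain ⟨φ, ⟨h1, h2⟩, hu⟩ := h V (v ≫ θ.hom) hv' χ (by rw [hχ, Category.assoc])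
  refine ⟨θ.hom ≫ φ, ⟨by rw [Category.assoc, h1], by rw [← Category.assoc, h2]⟩, ?_⟩
  rintro φ' ⟨e1, e2⟩
  have := hu (θ.inv ≫ φ') ⟨by rw [Category.assoc, e1, θ.inv_hom_id_assoc],
    by rw [Category.assoc, θ.hom_inv_id_assoc, e2]⟩
  rw [← this, θ.hom_inv_id_assoc]

/-- the range of the restricted open immersion -/
lemma range_snd_eq {Y V O : Scheme.{u}} (a : Y ⟶ S) (v : V ⟶ Y) (w : O ⟶ Y)
    (hv : Set.range v = a ⁻¹' (U : Set S)) :
    Set.range (pullback.snd v w) = (w ≫ a) ⁻¹' (U : Set S) := by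
  rw [Scheme.Pullback.range_snd, hv]
  rfl

/-- uniqueness is local on the source -/
lemma UniqG.of_openCover {Y : Scheme.{u}} (a : Y ⟶ S) (𝒰 : Scheme.OpenCover.{u} Y)
    (h : ∀ x, UniqG U p (𝒰.f x ≫ a)) : UniqG U p a := by
  intro V v _ hv φ₁ φ₂ h1 h2 h12
  refine 𝒰.hom_ext _ _ fun x ↦ ?_
  refine h x (pullback v (𝒰.f x)) (pullback.snd v (𝒰.f x)) (range_snd_eq a v (𝒰.f x) hv)
    (𝒰.f x ≫ φ₁) (𝒰.f x ≫ φ₂) (by rw [Category.assoc, h1]) (by rw [Category.assoc, h2]) ?_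
  rw [← pullback.condition_assoc, ← pullback.condition_assoc, h12]

/-- existence is local on the source, given uniqueness on the overlaps -/
lemma ExtG.of_openCover {Y : Scheme.{u}} (a : Y ⟶ S) (𝒰 : Scheme.OpenCover.{u} Y)
    (h : ∀ x, ExtG U p (𝒰.f x ≫ a))
    (h2 : ∀ x y, UniqG U p (pullback.fst (𝒰.f x) (𝒰.f y) ≫ 𝒰.f x ≫ a)) : ExtG U p a := by
  have hU : UniqG U p a := UniqG.of_openCover a 𝒰 fun x ↦ (h x).uniqG
  intro V v _ hv χ hχ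
  -- local extensions
  have hloc : ∀ x, ∃ φ : 𝒰.X x ⟶ N, φ ≫ p = 𝒰.f x ≫ a ∧
      pullback.snd v (𝒰.f x) ≫ φ = pullback.fst v (𝒰.f x) ≫ χ := by
    intro x
    obtain ⟨φ, hφ, -⟩ := h x (pullback v (𝒰.f x)) (pullback.snd v (𝒰.f x))
      (range_snd_eq a v (𝒰.f x) hv) (pullback.fst v (𝒰.f x) ≫ χ)
      (by rw [Category.assoc, hχ, pullback.condition_assoc])
    exact ⟨φ, hφ⟩
  choose φ hφ1 hφ2 using hloc
  have hcompat : ∀ x y, pullback.fst (𝒰.f x) (𝒰.f y) ≫ φ x = pullback.snd (𝒰.f x) (𝒰.f y) ≫ φ y := by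
    intro x y
    refine h2 x y (pullback v (pullback.fst (𝒰.f x) (𝒰.f y) ≫ 𝒰.f x))
      (pullback.snd v (pullback.fst (𝒰.f x) (𝒰.f y) ≫ 𝒰.f x))
      (by
        have := range_snd_eq a v (pullback.fst (𝒰.f x) (𝒰.f y) ≫ 𝒰.f x) hv
        rwa [Category.assoc] at this)
      _ _ (by rw [Category.assoc, hφ1])
      (by rw [Category.assoc, hφ1, pullback.condition_assoc]) ?_
    set w := pullback.fst (𝒰.f x) (𝒰.f y) ≫ 𝒰.f x with hw
    let lx : pullback v w ⟶ pullback v (𝒰.f x) :=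
      pullback.lift (pullback.fst v w) (pullback.snd v w ≫ pullback.fst (𝒰.f x) (𝒰.f y))
        (by rw [pullback.condition, hw, Category.assoc])
    let ly : pullback v w ⟶ pullback v (𝒰.f y) :=
      pullback.lift (pullback.fst v w) (pullback.snd v w ≫ pullback.snd (𝒰.f x) (𝒰.f y))
        (by rw [pullback.condition, hw, Category.assoc, pullback.condition])
    have e1 : pullback.snd v w ≫ pullback.fst (𝒰.f x) (𝒰.f y) ≫ φ x = pullback.fst v w ≫ χ := by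
      have : lx ≫ pullback.snd v (𝒰.f x) = pullback.snd v w ≫ pullback.fst (𝒰.f x) (𝒰.f y) :=
        pullback.lift_snd _ _ _
      rw [← Category.assoc, ← this, Category.assoc, hφ2, ← Category.assoc]
      congr 1
      exact pullback.lift_fst _ _ _
    have e2 : pullback.snd v w ≫ pullback.snd (𝒰.f x) (𝒰.f y) ≫ φ y = pullback.fst v w ≫ χ := by
      have : ly ≫ pullback.snd v (𝒰.f y) = pullback.snd v w ≫ pullback.snd (𝒰.f x) (𝒰.f y) :=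
        pullback.lift_snd _ _ _
      rw [← Category.assoc, ← this, Category.assoc, hφ2, ← Category.assoc]
      congr 1
      exact pullback.lift_fst _ _ _
    rw [e1, e2]
  let Φ : Y ⟶ N := 𝒰.glueMorphisms φ hcompat
  have hΦ : ∀ x, 𝒰.f x ≫ Φ = φ x := fun x ↦ 𝒰.ι_glueMorphisms φ hcompat x
  have hΦ1 : Φ ≫ p = a := by
    refine 𝒰.hom_ext _ _ fun x ↦ ?_
    rw [← Category.assoc, hΦ, hφ1]
  have hΦ2 : v ≫ Φ = χ := by
    refine Scheme.Cover.hom_ext (𝒰.pullback₁ v) _ _ fun x ↦ ?_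
    change pullback.fst v (𝒰.f x) ≫ v ≫ Φ = pullback.fst v (𝒰.f x) ≫ χ
    rw [pullback.condition_assoc, hΦ, hφ2]
  refine ⟨Φ, ⟨hΦ1, hΦ2⟩, ?_⟩
  rintro φ' ⟨e1, e2⟩
  exact hU V v hv φ' Φ e1 hΦ1 (by rw [e2, hΦ2])

end Groth.Agent.Lead.NeronLocA
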