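import Groth.Agent.Lead.NeronLocA
import Groth.Agent.Lead.LimHom
import Groth.Agent.Lead.SchDescent4
import Mathlib
open CategoryTheory Limits AlgebraicGeometry

/-!
# Extension property passes to cofiltered limits
-/

namespace Groth.Agent.Lead.NeronLocB
open Groth.Agent.Lead.LimPullback Groth.Agent.Lead.LimHom Groth.Agent.Lead.NeronLocA
universe u

section Restr

variable {B Xi Z : Scheme.{u}} (xi : Xi ⟶ B) (W : Xi.Opens) (d : Z ⟶ B)

/-- the open immersion of the restricted pullback -/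
noncomputable def ιZ : pullback d (W.ι ≫ xi) ⟶ pullback d xi :=
  pullback.map d (W.ι ≫ xi) d xi (𝟙 _) W.ι (𝟙 _) (by rw [Category.comp_id, Category.id_comp])
    (by rw [Category.comp_id])

@[reassoc]
lemma ιZ_fst : ιZ xi W d ≫ pullback.fst d xi = pullback.fst d (W.ι ≫ xi) :=
  (pullback.lift_fst _ _ _).trans (Category.comp_id _)

@[reassoc]
lemma ιZ_snd : ιZ xi W d ≫ pullback.snd d xi = pullback.snd d (W.ι ≫ xi) ≫ W.ι :=
  pullback.lift_snd _ _ _

lemma isPullback_ιZ : IsPullback (pullback.snd d (W.ι ≫ xi)) (ιZ xi W d) W.ι (pullback.snd d xi) := by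
  refine IsPullback.of_bot ?_ (ιZ_snd xi W d).symm (IsPullback.of_hasPullback d xi).flip
  rw [ιZ_fst]
  exact (IsPullback.of_hasPullback d (W.ι ≫ xi)).flip

instance : IsOpenImmersion (ιZ xi W d) :=
  MorphismProperty.of_isPullback (P := @IsOpenImmersion) (isPullback_ιZ xi W d) inferInstance

lemma range_ιZ : Set.range (ιZ xi W d) = (pullback.snd d xi) ⁻¹' (W : Set Xi) := by
  rw [SchDescent4.range_fst_of_isPullback (isPullback_ιZ xi W d).flip, Scheme.Opens.range_ι]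

end Restr

section Core

variable {I : Type u} [SmallCategory I] [IsCofiltered I] (D : I ⥤ Scheme.{u}) (c : Cone D)
  (hc : IsLimit c) [∀ {i j : I} (f : i ⟶ j), IsAffineHom (D.map f)] (i : I)
  {Xi : Scheme.{u}} (xi : Xi ⟶ D.obj i) (W : Xi.Opens)
  {S N : Scheme.{u}} (a₀ : Xi ⟶ S) (p : N ⟶ S) (U : S.Opens)

set_option backward.isDefEq.respectTransparency false in
/-- the structure transformation of the pulled-back diagram to `S` -/
noncomputable def tS : pbDiag D i xi ⟶ (Functor.const (Over i)).obj S where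
  app j := pullback.snd (D.map j.hom) xi ≫ a₀
  naturality j k f := by
    simp [pbDiag]

omit [IsCofiltered I] [∀ {i j : I} (f : i ⟶ j), IsAffineHom (D.map f)] in
set_option backward.isDefEq.respectTransparency false in
lemma map_ι {j k : Over i} (f : j ⟶ k) :
    (pbDiag D i (W.ι ≫ xi)).map f ≫ ιZ xi W (D.map k.hom) =
      ιZ xi W (D.map j.hom) ≫ (pbDiag D i xi).map f := by
  apply pullback.hom_ext <;> simp [pbDiag, ιZ]

/-- typed cone projection -/
noncomputable def πX (j : Over i) : pullback (c.π.app i) xi ⟶ pullback (D.map j.hom) xi :=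
  (pbCone D c i xi).π.app j

omit [IsCofiltered I] [∀ {i j : I} (f : i ⟶ j), IsAffineHom (D.map f)] in
set_option backward.isDefEq.respectTransparency false in
@[reassoc]
lemma cone_ι (j : Over i) :
    πX D c i (W.ι ≫ xi) j ≫ ιZ xi W (D.map j.hom) =
      ιZ xi W (c.π.app i) ≫ πX D c i xi j := by
  apply pullback.hom_ext <;> simp [πX, pbCone, ιZ]

omit [IsCofiltered I] [∀ {i j : I} (f : i ⟶ j), IsAffineHom (D.map f)] in
set_option backward.isDefEq.respectTransparency false in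
@[reassoc]
lemma cone_snd (j : Over i) :
    πX D c i xi j ≫ pullback.snd (D.map j.hom) xi = pullback.snd (c.π.app i) xi := by
  simp [πX, pbCone]

omit [IsCofiltered I] [∀ {i j : I} (f : i ⟶ j), IsAffineHom (D.map f)] in
set_option backward.isDefEq.respectTransparency false in
@[reassoc]
lemma cone_w {j k : Over i} (f : j ⟶ k) :
    πX D c i xi j ≫ (pbDiag D i xi).map f = πX D c i xi k :=
  (pbCone D c i xi).w f

omit [IsCofiltered I] [∀ {i j : I} (f : i ⟶ j), IsAffineHom (D.map f)] in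
set_option backward.isDefEq.respectTransparency false in
lemma map_snd {j k : Over i} (f : j ⟶ k) :
    (pbDiag D i xi).map f ≫ pullback.snd (D.map k.hom) xi = pullback.snd (D.map j.hom) xi := by
  simp [pbDiag]

include hc in
set_option backward.isDefEq.respectTransparency false in
theorem core [LocallyOfFinitePresentation p] [CompactSpace Xi] [QuasiSeparatedSpace Xi]
    [CompactSpace (W : Scheme.{u})] (hW : (W : Set Xi) = a₀ ⁻¹' (U : Set S))
    (hst : ∀ j : Over i, ExtG U p (pullback.snd (D.map j.hom) xi ≫ a₀)) :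
    ExtG U p (pullback.snd (c.π.app i) xi ≫ a₀) := by
  have hA : ∀ {j k : Over i} (f : j ⟶ k), IsAffineHom ((pbDiag D i xi).map f) :=
    fun f ↦ isAffineHom_pbDiag_map i xi f
  have hC : ∀ j : Over i, CompactSpace ↥((pbDiag D i xi).obj j) :=
    fun j ↦ compactSpace_pbDiag D i xi j
  have hQ : ∀ j : Over i, QuasiSeparatedSpace ↥((pbDiag D i xi).obj j) :=
    fun j ↦ quasiSeparatedSpace_pbDiag D i xi j
  have : QuasiSeparatedSpace ↥(W : Scheme.{u}) := quasiSeparatedSpace_of_quasiSeparated W.ι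
  have hAW : ∀ {j k : Over i} (f : j ⟶ k), IsAffineHom ((pbDiag D i (W.ι ≫ xi)).map f) :=
    fun f ↦ isAffineHom_pbDiag_map i (W.ι ≫ xi) f
  have hCW : ∀ j : Over i, CompactSpace ↥((pbDiag D i (W.ι ≫ xi)).obj j) :=
    fun j ↦ compactSpace_pbDiag D i (W.ι ≫ xi) j
  have hQW : ∀ j : Over i, QuasiSeparatedSpace ↥((pbDiag D i (W.ι ≫ xi)).obj j) :=
    fun j ↦ quasiSeparatedSpace_pbDiag D i (W.ι ≫ xi) j
  have hrj : ∀ j : Over i, Set.range (ιZ xi W (D.map j.hom)) =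
      (pullback.snd (D.map j.hom) xi ≫ a₀) ⁻¹' (U : Set S) := by
    intro j
    rw [range_ιZ, hW]
    rfl
  have hrP : Set.range (ιZ xi W (c.π.app i)) =
      (pullback.snd (c.π.app i) xi ≫ a₀) ⁻¹' (U : Set S) := by
    rw [range_ιZ, hW]
    rfl
  -- factorisation of `S`-maps from the limit
  have hfac : ∀ φ : pullback (c.π.app i) xi ⟶ N, φ ≫ p = pullback.snd (c.π.app i) xi ≫ a₀ →
      ∃ (j : Over i) (g : pullback (D.map j.hom) xi ⟶ N), πX D c i xi j ≫ g = φ ∧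
        g ≫ p = pullback.snd (D.map j.hom) xi ≫ a₀ := by
    intro φ hφ
    obtain ⟨j, g, h1, h2⟩ := Scheme.exists_π_app_comp_eq_of_locallyOfFinitePresentation
      (pbDiag D i xi) (tS D i xi a₀) p (pbCone D c i xi) (pbConeIsLimit i xi hc) φ (by
        ext j
        simp only [NatTrans.comp_app, Functor.const_obj_obj, Functor.const_map_app]
        change πX D c i xi j ≫ pullback.snd (D.map j.hom) xi ≫ a₀ = _
        rw [hφ, cone_snd_assoc])
    exact ⟨j, g, h1, h2⟩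
  have hfacW : ∀ φ : pullback (c.π.app i) (W.ι ≫ xi) ⟶ N,
      φ ≫ p = pullback.snd (c.π.app i) (W.ι ≫ xi) ≫ W.ι ≫ a₀ →
      ∃ (j : Over i) (g : pullback (D.map j.hom) (W.ι ≫ xi) ⟶ N),
        πX D c i (W.ι ≫ xi) j ≫ g = φ ∧
        g ≫ p = pullback.snd (D.map j.hom) (W.ι ≫ xi) ≫ W.ι ≫ a₀ := by
    intro φ hφ
    obtain ⟨j, g, h1, h2⟩ := Scheme.exists_π_app_comp_eq_of_locallyOfFinitePresentation
      (pbDiag D i (W.ι ≫ xi)) (tS D i (W.ι ≫ xi) (W.ι ≫ a₀)) p (pbCone D c i (W.ι ≫ xi))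
      (pbConeIsLimit i (W.ι ≫ xi) hc) φ (by
        ext j
        simp only [NatTrans.comp_app, Functor.const_obj_obj, Functor.const_map_app]
        change πX D c i (W.ι ≫ xi) j ≫ pullback.snd (D.map j.hom) (W.ι ≫ xi) ≫ W.ι ≫ a₀ = _
        rw [hφ, cone_snd_assoc])
    exact ⟨j, g, h1, h2⟩
  have heqW : ∀ (j : Over i) (a b : pullback (D.map j.hom) (W.ι ≫ xi) ⟶ N),
      a ≫ p = pullback.snd (D.map j.hom) (W.ι ≫ xi) ≫ W.ι ≫ a₀ →
      b ≫ p = pullback.snd (D.map j.hom) (W.ι ≫ xi) ≫ W.ι ≫ a₀ →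
      πX D c i (W.ι ≫ xi) j ≫ a = πX D c i (W.ι ≫ xi) j ≫ b →
      ∃ (k : Over i) (β : k ⟶ j), (pbDiag D i (W.ι ≫ xi)).map β ≫ a =
        (pbDiag D i (W.ι ≫ xi)).map β ≫ b := by
    intro j a b ha hb hab
    exact Scheme.exists_hom_comp_eq_comp_of_locallyOfFiniteType
      (pbDiag D i (W.ι ≫ xi)) (tS D i (W.ι ≫ xi) (W.ι ≫ a₀)) p (pbCone D c i (W.ι ≫ xi))
      (pbConeIsLimit i (W.ι ≫ xi) hc) a b ha.symm hb.symm hab
  have hU : UniqG U p (pullback.snd (c.π.app i) xi ≫ a₀) := by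
    intro V v _ hv φ₁ φ₂ h1 h2 h12
    obtain ⟨j₁, g₁, e₁, e₁'⟩ := hfac φ₁ h1
    obtain ⟨j₂, g₂, e₂, e₂'⟩ := hfac φ₂ h2
    obtain ⟨j, α₁, α₂, -⟩ := IsCofilteredOrEmpty.cone_objs j₁ j₂
    have k₁ : πX D c i xi j ≫ (pbDiag D i xi).map α₁ ≫ g₁ = φ₁ := by
      rw [cone_w_assoc, e₁]
    have k₂ : πX D c i xi j ≫ (pbDiag D i xi).map α₂ ≫ g₂ = φ₂ := by
      rw [cone_w_assoc, e₂]
    have k₁' : ((pbDiag D i xi).map α₁ ≫ g₁) ≫ p = pullback.snd (D.map j.hom) xi ≫ a₀ := by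
      rw [Category.assoc, e₁', ← Category.assoc, map_snd]
    have k₂' : ((pbDiag D i xi).map α₂ ≫ g₂) ≫ p = pullback.snd (D.map j.hom) xi ≫ a₀ := by
      rw [Category.assoc, e₂', ← Category.assoc, map_snd]
    have hl : ιZ xi W (c.π.app i) ≫ φ₁ = ιZ xi W (c.π.app i) ≫ φ₂ := by
      have hsub : Set.range (ιZ xi W (c.π.app i)) ⊆ Set.range v := by rw [hrP, hv]
      rw [← IsOpenImmersion.lift_fac v (ιZ xi W (c.π.app i)) hsub, Category.assoc, Category.assoc,
        h12]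
    obtain ⟨k, β, hβ⟩ := heqW j (ιZ xi W (D.map j.hom) ≫ (pbDiag D i xi).map α₁ ≫ g₁)
      (ιZ xi W (D.map j.hom) ≫ (pbDiag D i xi).map α₂ ≫ g₂)
      (by rw [Category.assoc, k₁', ιZ_snd_assoc])
      (by rw [Category.assoc, k₂', ιZ_snd_assoc])
      (by rw [cone_ι_assoc, cone_ι_assoc, k₁, k₂, hl])
    have hβ' : ιZ xi W (D.map k.hom) ≫ (pbDiag D i xi).map β ≫ (pbDiag D i xi).map α₁ ≫ g₁ =
        ιZ xi W (D.map k.hom) ≫ (pbDiag D i xi).map β ≫ (pbDiag D i xi).map α₂ ≫ g₂ := by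
      rw [← Category.assoc, ← map_ι, Category.assoc, hβ, ← Category.assoc, map_ι, Category.assoc]
    have hk := (hst k).uniqG _ (ιZ xi W (D.map k.hom)) (hrj k)
      ((pbDiag D i xi).map β ≫ (pbDiag D i xi).map α₁ ≫ g₁)
      ((pbDiag D i xi).map β ≫ (pbDiag D i xi).map α₂ ≫ g₂)
      (by rw [Category.assoc, k₁', ← Category.assoc, map_snd])
      (by rw [Category.assoc, k₂', ← Category.assoc, map_snd]) hβ'
    rw [← k₁, ← k₂, ← cone_w D c i xi β, Category.assoc, Category.assoc, hk]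
  intro V v _ hv χ hχ
  let e := IsOpenImmersion.isoOfRangeEq (ιZ xi W (c.π.app i)) v (hrP.trans hv.symm)
  have he : e.hom ≫ v = ιZ xi W (c.π.app i) := IsOpenImmersion.isoOfRangeEq_hom_fac _ _ _
  obtain ⟨j, h, h1, h2⟩ := hfacW (e.hom ≫ χ) (by
    rw [Category.assoc, hχ, ← Category.assoc e.hom, he, ιZ_snd_assoc])
  have h2' : h ≫ p = ιZ xi W (D.map j.hom) ≫ pullback.snd (D.map j.hom) xi ≫ a₀ := by
    rw [h2, ιZ_snd_assoc]
  obtain ⟨g, ⟨hg1, hg2⟩, -⟩ := hst j _ (ιZ xi W (D.map j.hom)) (hrj j) h h2'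
  have hex2 : v ≫ πX D c i xi j ≫ g = χ := by
    rw [← cancel_epi e.hom, ← Category.assoc, he, ← cone_ι_assoc, hg2, h1]
  refine ⟨πX D c i xi j ≫ g, ⟨?_, hex2⟩, ?_⟩
  · rw [Category.assoc, hg1, cone_snd_assoc]
  · rintro φ' ⟨e1, e2⟩
    refine hU V v hv φ' _ e1 (by rw [Category.assoc, hg1, cone_snd_assoc]) ?_
    rw [e2, hex2]

end Core

end Groth.Agent.Lead.NeronLocB
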