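import Groth.Agent.Lead.NeronLocB
import Groth.Agent.Lead.HomGlueB
import Groth.Agent.S0591
import Groth.Agent.S9191
import Mathlib
open CategoryTheory Limits AlgebraicGeometry

/-!
# Extension property over the local ring: spreading out
-/

namespace Groth.Agent.Lead.NeronLocC
open Groth.Agent.Lead.NeronLocA Groth.Agent.Lead.HomGlueB
universe u

/-- `ExtG` from the version with the literal open subscheme. -/
lemma extG_of_plain {S N Y : Scheme.{u}} (U : S.Opens) (p : N ⟶ S) (a : Y ⟶ S)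
    (h : ∀ χ : ((a ⁻¹ᵁ U : Y.Opens) : Scheme.{u}) ⟶ N, χ ≫ p = (a ⁻¹ᵁ U).ι ≫ a →
      ∃! φ : Y ⟶ N, φ ≫ p = a ∧ (a ⁻¹ᵁ U).ι ≫ φ = χ) : ExtG U p a := by
  intro V v _ hv χ hχ
  let e := IsOpenImmersion.isoOfRangeEq (a ⁻¹ᵁ U).ι v (by rw [Scheme.Opens.range_ι, hv]; rfl)
  have he : e.hom ≫ v = (a ⁻¹ᵁ U).ι := IsOpenImmersion.isoOfRangeEq_hom_fac _ _ _
  obtain ⟨φ, ⟨h1, h2⟩, hu⟩ := h (e.hom ≫ χ) (by rw [Category.assoc, hχ, ← Category.assoc, he])
  refine ⟨φ, ⟨h1, ?_⟩, ?_⟩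
  · rw [← cancel_epi e.hom, ← Category.assoc, he, h2]
  · rintro φ' ⟨e1, e2⟩
    exact hu φ' ⟨e1, by rw [← he, Category.assoc, e2]⟩

lemma plain_of_extG {S N Y : Scheme.{u}} (U : S.Opens) (p : N ⟶ S) (a : Y ⟶ S)
    (h : ExtG U p a) (χ : ((a ⁻¹ᵁ U : Y.Opens) : Scheme.{u}) ⟶ N) (hχ : χ ≫ p = (a ⁻¹ᵁ U).ι ≫ a) :
      ∃! φ : Y ⟶ N, φ ≫ p = a ∧ (a ⁻¹ᵁ U).ι ≫ φ = χ :=
  h _ (a ⁻¹ᵁ U).ι (by rw [Scheme.Opens.range_ι]; rfl) χ hχ

set_option backward.isDefEq.respectTransparency false in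
/-- spreading out: the extension property for quasi-compact quasi-separated smooth schemes over the
local ring. -/
theorem ext_qcqs {S N : Scheme.{u}} [IsLocallyNoetherian S] (U : S.Opens) (p : N ⟶ S)
    [LocallyOfFinitePresentation p]
    (hN : ∀ (Y : Scheme.{u}) (a : Y ⟶ S), Smooth a → ExtG U p a)
    (s : S) {O : Scheme.{u}} (q : O ⟶ Spec (S.presheaf.stalk s)) [Smooth q] [QuasiCompact q]
    [QuasiSeparated q] : ExtG U p (q ≫ S.fromSpecStalk s) := by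
  obtain ⟨hc⟩ := cone_isLimit s
  obtain ⟨i, Oi, fi, g, hfi1, hfi2, hfi3, hO⟩ := Groth.Agent.S0591.result (D s) (cone s) hc O q
  haveI : CompactSpace Oi := QuasiCompact.compactSpace_of_compactSpace fi
  haveI : QuasiSeparatedSpace Oi := quasiSeparatedSpace_of_quasiSeparated fi
  obtain ⟨i', φ, Xi, Yi, fi', gi, pY, pX, h1, h2, h3⟩ := Groth.Agent.S9191.result (D s) (cone s) hc i
    fi (𝟙 _) q (𝟙 _) ((cone s).π.app i) g IsPullback.of_id_snd hO
  haveI : IsIso gi := h1.isIso_snd_of_isIso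
  obtain ⟨xi, hxi⟩ : ∃ xi : Xi ⟶ (D s).obj i', xi = fi' ≫ gi := ⟨_, rfl⟩
  haveI : Smooth xi := by rw [hxi]; infer_instance
  have hP : IsPullback pX xi fi ((D s).map φ) := by
    have := h2.paste_vert h1
    rw [Category.comp_id] at this
    rw [hxi]
    exact this
  haveI : QuasiCompact xi := MorphismProperty.of_isPullback (P := @QuasiCompact) hP hfi2
  haveI : QuasiSeparated xi := MorphismProperty.of_isPullback (P := @QuasiSeparated) hP hfi3
  haveI : CompactSpace Xi := QuasiCompact.compactSpace_of_compactSpace xi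
  haveI : QuasiSeparatedSpace Xi := quasiSeparatedSpace_of_quasiSeparated xi
  obtain ⟨π', hπ'def⟩ : ∃ π' : Spec (S.presheaf.stalk s) ⟶ (D s).obj i', π' = (cone s).π.app i' :=
    ⟨_, rfl⟩
  obtain ⟨π₀, hπ₀def⟩ : ∃ π₀ : Spec (S.presheaf.stalk s) ⟶ (D s).obj i, π₀ = (cone s).π.app i :=
    ⟨_, rfl⟩
  have hπ'φ : π' ≫ (D s).map φ = π₀ := by rw [hπ'def, hπ₀def]; exact (cone s).w φ
  have hπ'fs : π' ≫ fs s i' = S.fromSpecStalk s := by rw [hπ'def]; exact cone_π_fs s i'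
  have hO₀ : IsPullback g q fi π₀ := by rw [hπ₀def]; exact hO
  let g' : O ⟶ Xi := hP.lift g (q ≫ π') (by rw [Category.assoc, hπ'φ]; exact hO₀.w)
  have hg'1 : g' ≫ pX = g := hP.lift_fst _ _ _
  have hg'2 : g' ≫ xi = q ≫ π' := hP.lift_snd _ _ _
  have hO' : IsPullback g' q xi π' := by
    refine IsPullback.of_right ?_ hg'2 hP
    rw [hg'1, hπ'φ]
    exact hO₀
  let θ : O ≅ pullback π' xi := hO'.flip.isoPullback
  have hθ2 : θ.hom ≫ pullback.snd π' xi = g' := hO'.flip.isoPullback_hom_snd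
  -- Noetherian
  obtain ⟨a₀, ha₀⟩ : ∃ a₀ : Xi ⟶ S, a₀ = xi ≫ fs s i' := ⟨_, rfl⟩
  haveI : LocallyOfFiniteType a₀ := by rw [ha₀]; infer_instance
  haveI : IsLocallyNoetherian Xi := LocallyOfFiniteType.isLocallyNoetherian a₀
  haveI : IsNoetherian Xi := {}
  haveI : CompactSpace ↥((a₀ ⁻¹ᵁ U : Xi.Opens) : Scheme.{u}) :=
    isCompact_iff_compactSpace.mp (TopologicalSpace.NoetherianSpace.isCompact _)
  have hcore : ExtG U p (pullback.snd π' xi ≫ a₀) := by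
    rw [hπ'def]
    refine NeronLocB.core (D s) (cone s) hc i' xi (a₀ ⁻¹ᵁ U) a₀ p U rfl ?_
    intro j
    apply hN
    have : pullback.snd ((D s).map j.hom) xi ≫ a₀ =
        pullback.fst ((D s).map j.hom) xi ≫ fs s j.left := by
      rw [ha₀, ← Category.assoc, ← pullback.condition, Category.assoc, D_map_fs]
    rw [this]
    infer_instance
  have := ExtG.of_iso θ hcore
  have e : θ.hom ≫ pullback.snd π' xi ≫ a₀ = q ≫ S.fromSpecStalk s := by
    rw [← Category.assoc, hθ2, ha₀, ← Category.assoc, hg'2, Category.assoc, hπ'fs]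
  rwa [e] at this

end Groth.Agent.Lead.NeronLocC
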