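import Groth.Agent.Lead.NeronLocC
import Mathlib
open CategoryTheory Limits AlgebraicGeometry

/-!
# Extension property over the local ring: general smooth test schemes
-/

namespace Groth.Agent.Lead.NeronLocD
open Groth.Agent.Lead.NeronLocA Groth.Agent.Lead.NeronLocC
universe u

variable {S N : Scheme.{u}} [IsLocallyNoetherian S] (U : S.Opens) (p : N ⟶ S)
    [LocallyOfFinitePresentation p]
    (hN : ∀ (Y : Scheme.{u}) (a : Y ⟶ S), Smooth a → ExtG U p a) (s : S)

include hN in
lemma uniq_smooth {Y : Scheme.{u}} (y : Y ⟶ Spec (S.presheaf.stalk s)) [Smooth y] :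
    UniqG U p (y ≫ S.fromSpecStalk s) := by
  refine UniqG.of_openCover _ Y.affineCover fun x ↦ ?_
  rw [← Category.assoc]
  exact (ext_qcqs U p hN s (Y.affineCover.f x ≫ y)).uniqG

include hN in
theorem ext_smooth {Y : Scheme.{u}} (y : Y ⟶ Spec (S.presheaf.stalk s)) [Smooth y] :
    ExtG U p (y ≫ S.fromSpecStalk s) := by
  refine ExtG.of_openCover _ Y.affineCover (fun x ↦ ?_) (fun x x' ↦ ?_)
  · rw [← Category.assoc]
    exact ext_qcqs U p hN s (Y.affineCover.f x ≫ y)
  · have := uniq_smooth U p hN s (pullback.fst (Y.affineCover.f x) (Y.affineCover.f x') ≫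
      Y.affineCover.f x ≫ y)
    simpa only [Category.assoc] using this

end Groth.Agent.Lead.NeronLocD
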