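import Groth.Agent.Helper8.Rigid4

/-!
# Unital multiplications: from an inverse and a rigidity identity to a group object
-/

set_option autoImplicit false
universe u

open CategoryTheory CategoryTheory.Limits MonoidalCategory CartesianMonoidalCategory MonObj GrpObj
  AlgebraicGeometry

namespace Groth.Agent.Lead.UMul

/-- Rigidity: a morphism `B ×_S A ⟶ C` constant on the axis `εB × A` does not depend on the
`A`-variable. -/
theorem lemmaR3_scheme {S A B C : Scheme.{u}} (a : A ⟶ S) [IsProper a] [Flat a]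
    [LocallyOfFinitePresentation a] [GeometricallyReduced a] [GeometricallyConnected a]
    (εA : S ⟶ A) (hεA : εA ≫ a = 𝟙 S)
    (b : B ⟶ S) (hb : ∀ s : S, _root_.IsPreconnected (b ⁻¹' {s}))
    (εB : S ⟶ B) (hεB : εB ≫ b = 𝟙 S)
    (q : C ⟶ S) [IsSeparated q] (c : S ⟶ C)
    (φ : pullback b a ⟶ C) (hφ : φ ≫ q = pullback.fst b a ≫ b)
    (h1 : pullback.lift (a ≫ εB) (𝟙 A)
      (by rw [Category.assoc, hεB, Category.comp_id, Category.id_comp]) ≫ φ = a ≫ c) :
    φ = pullback.fst b a ≫ pullback.lift (𝟙 B) (b ≫ εA)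
      (by rw [Category.assoc, hεA, Category.comp_id, Category.id_comp]) ≫ φ := by
  have hw : (a ≫ εB) ≫ b = 𝟙 A ≫ a := by
    rw [Category.assoc, hεB, Category.comp_id, Category.id_comp]
  have hw' : 𝟙 B ≫ b = (b ≫ εA) ≫ a := by
    rw [Category.assoc, hεA, Category.comp_id, Category.id_comp]
  have hjf : pullback.lift (a ≫ εB) (𝟙 A) hw ≫ pullback.fst b a = a ≫ εB :=
    pullback.lift_fst _ _ _
  have hjs : pullback.lift (a ≫ εB) (𝟙 A) hw ≫ pullback.snd b a = 𝟙 A :=
    pullback.lift_snd _ _ _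
  have hj₂f : pullback.lift (𝟙 B) (b ≫ εA) hw' ≫ pullback.fst b a = 𝟙 B :=
    pullback.lift_fst _ _ _
  have c2 : pullback.fst b a ≫ b = pullback.snd b a ≫ a := pullback.condition
  -- collapse of the fibres over the section
  have hcollapse : ∀ s : S, ∀ z : ↥(pullback b a), pullback.fst b a z = εB s → φ z = c s := by
    intro s z hz
    have hz' : z ∈ Set.range (pullback.fst (pullback.fst b a) εB) := by
      rw [Scheme.Pullback.range_fst]
      exact ⟨s, hz.symm⟩
    obtain ⟨w, rfl⟩ := hz'
    have c1 : pullback.fst (pullback.fst b a) εB ≫ pullback.fst b a =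
        pullback.snd (pullback.fst b a) εB ≫ εB := pullback.condition
    have c3 : pullback.fst (pullback.fst b a) εB ≫ pullback.snd b a ≫ a =
        pullback.snd (pullback.fst b a) εB := by
      rw [← c2, ← Category.assoc, c1, Category.assoc, hεB, Category.comp_id]
    have hu : pullback.fst (pullback.fst b a) εB =
        (pullback.fst (pullback.fst b a) εB ≫ pullback.snd b a) ≫
          pullback.lift (a ≫ εB) (𝟙 A) hw := by
      apply pullback.hom_ext
      · rw [Category.assoc, hjf, Category.assoc, ← Category.assoc (pullback.snd b a),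
          ← Category.assoc, c3, c1]
      · rw [Category.assoc, hjs, Category.comp_id]
    have e1 : pullback.fst (pullback.fst b a) εB ≫ φ =
        pullback.snd (pullback.fst b a) εB ≫ c := by
      conv_lhs => rw [hu]
      rw [Category.assoc, h1, Category.assoc, ← Category.assoc (pullback.snd b a),
        ← Category.assoc, c3]
    have e2 : εB (pullback.snd (pullback.fst b a) εB w) = εB s := by
      rw [← hz, ← Scheme.Hom.comp_apply, ← Scheme.Hom.comp_apply, c1]
    have h4 : ∀ s' : S, b (εB s') = s' := fun s' => by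
      rw [← Scheme.Hom.comp_apply, hεB]
      rfl
    have e3 : pullback.snd (pullback.fst b a) εB w = s := by
      rw [← h4 (pullback.snd (pullback.fst b a) εB w), e2, h4]
    rw [← Scheme.Hom.comp_apply, e1, Scheme.Hom.comp_apply, e3]
  -- local statement from rigidity
  have hloc : ∀ s : S, ∃ W : B.Opens, IsClosed (W : Set B) ∧ εB s ∈ W ∧
      (pullback.fst b a ⁻¹ᵁ W).ι ≫ φ = (pullback.fst b a ⁻¹ᵁ W).ι ≫ pullback.fst b a ≫
        pullback.lift (𝟙 B) (b ≫ εA) hw' ≫ φ := by
    intro s
    obtain ⟨W, hWc, hsW, hW⟩ := Helper8.Rigid2.rigidity_section b q (pullback.fst b a) φ hφ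
      (pullback.lift (𝟙 B) (b ≫ εA) hw') hj₂f (εB s) (by
        rintro _ ⟨z₁, hz₁, rfl⟩ _ ⟨z₂, hz₂, rfl⟩
        rw [hcollapse s z₁ hz₁, hcollapse s z₂ hz₂])
    exact ⟨W, hWc, hsW, hW⟩
  refine Scheme.hom_ext_of_forall _ _ (fun z => ?_)
  obtain ⟨W, hWc, hsW, hW⟩ := hloc (b (pullback.fst b a z))
  refine ⟨pullback.fst b a ⁻¹ᵁ W, ?_, hW⟩
  show pullback.fst b a z ∈ W
  have hconn := hb (b (pullback.fst b a z))
  have hmem : εB (b (pullback.fst b a z)) ∈ b ⁻¹' {b (pullback.fst b a z)} := by
    show b (εB (b (pullback.fst b a z))) = b (pullback.fst b a z)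
    rw [← Scheme.Hom.comp_apply εB b, hεB]
    rfl
  have hsub := hconn.subset_isClopen ⟨hWc, W.isOpen⟩ ⟨_, hmem, hsW⟩
  exact hsub rfl

variable {S : Scheme.{u}}

/-- `Over S` form of `lemmaR3_scheme`. -/
theorem lemmaR3 (A B C : Over S) [IsProper A.hom] [Flat A.hom]
    [LocallyOfFinitePresentation A.hom] [GeometricallyReduced A.hom]
    [GeometricallyConnected A.hom] (eA : 𝟙_ (Over S) ⟶ A) (eB : 𝟙_ (Over S) ⟶ B)
    (hB : ∀ s : S, _root_.IsPreconnected (B.hom ⁻¹' {s}))
    [IsSeparated C.hom] (c : 𝟙_ (Over S) ⟶ C) (h : B ⊗ A ⟶ C)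
    (h1 : lift (toUnit A ≫ eB) (𝟙 A) ≫ h = toUnit A ≫ c) :
    h = fst B A ≫ lift (𝟙 B) (toUnit B ≫ eA) ≫ h := by
  have hεA : eA.left ≫ A.hom = 𝟙 S := Over.w eA
  have hεB : eB.left ≫ B.hom = 𝟙 S := Over.w eB
  apply Over.OverMorphism.ext
  have key := lemmaR3_scheme A.hom eA.left hεA B.hom hB eB.left hεB C.hom c.left h.left
    (Over.w h) (congrArg CommaMorphism.left h1)
  exact key

section Alg

variable {C : Type*} [Category C] [CartesianMonoidalCategory C] {X : C}
  (e : 𝟙_ C ⟶ X) (m : X ⊗ X ⟶ X)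

/-- product of two generalized points -/
def star {T : C} (x y : T ⟶ X) : T ⟶ X := lift x y ≫ m

theorem comp_star {T T' : C} (f : T' ⟶ T) (x y : T ⟶ X) :
    f ≫ star m x y = star m (f ≫ x) (f ≫ y) := by
  simp only [star, ← Category.assoc, comp_lift]

theorem star_one (h₁ : lift (𝟙 X) (toUnit X ≫ e) ≫ m = 𝟙 X) {T : C} (x : T ⟶ X) :
    star m x (toUnit T ≫ e) = x := by
  have h : lift x (toUnit T ≫ e) = x ≫ lift (𝟙 X) (toUnit X ≫ e) := by
    rw [comp_lift, Category.comp_id, ← Category.assoc]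
    congr 2
    exact toUnit_unique _ _
  rw [star, h, Category.assoc, h₁, Category.comp_id]

theorem one_star (h₂ : lift (toUnit X ≫ e) (𝟙 X) ≫ m = 𝟙 X) {T : C} (x : T ⟶ X) :
    star m (toUnit T ≫ e) x = x := by
  have h : lift (toUnit T ≫ e) x = x ≫ lift (toUnit X ≫ e) (𝟙 X) := by
    rw [comp_lift, Category.comp_id, ← Category.assoc]
    congr 2
    exact toUnit_unique _ _
  rw [star, h, Category.assoc, h₂, Category.comp_id]

/-- a unital multiplication with a left inverse and the rigidity identity is a group law -/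
theorem grpObj_of_star (h₁ : lift (𝟙 X) (toUnit X ≫ e) ≫ m = 𝟙 X)
    (h₂ : lift (toUnit X ≫ e) (𝟙 X) ≫ m = 𝟙 X) (i : X ⟶ X)
    (hi : lift i (𝟙 X) ≫ m = toUnit X ≫ e)
    (hs : ∀ {T : C} (x y z : T ⟶ X),
      star m (x ≫ i) (star m (star m x y) z) = star m y z) :
    ∃ h : GrpObj X, h.one = e ∧ h.mul = m := by
  -- (3)
  have h3 : ∀ {T : C} (x y : T ⟶ X), star m (x ≫ i) (star m x y) = y := by
    intro T x y
    have := hs x y (toUnit T ≫ e)
    rwa [star_one e m h₁, star_one e m h₁] at this
  -- (4)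
  have h4 : ∀ {T : C} (x y : T ⟶ X), star m x (star m (x ≫ i) y) = y := by
    intro T x y
    have e1 := h3 (x ≫ i) (star m x (star m (x ≫ i) y))
    rw [h3 x (star m (x ≫ i) y)] at e1
    rw [← e1]
    exact h3 (x ≫ i) y
  -- associativity on points
  have h5 : ∀ {T : C} (x y z : T ⟶ X), star m (star m x y) z = star m x (star m y z) := by
    intro T x y z
    have := h4 x (star m (star m x y) z)
    rw [hs x y z] at this
    exact this.symm
  have hl : ∀ {T : C} (x : T ⟶ X), star m (x ≫ i) x = toUnit T ≫ e := by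
    intro T x
    have h : lift (x ≫ i) x = x ≫ lift i (𝟙 X) := by
      rw [comp_lift, Category.comp_id]
    rw [star, h, Category.assoc, hi, ← Category.assoc]
    congr 1
    exact toUnit_unique _ _
  have hr : ∀ {T : C} (x : T ⟶ X), star m x (x ≫ i) = toUnit T ≫ e := by
    intro T x
    have := h4 x (toUnit T ≫ e)
    rwa [star_one e m h₁] at this
  refine ⟨{ one := e, mul := m, one_mul := ?_, mul_one := ?_, mul_assoc := ?_, inv := i,
            left_inv := ?_, right_inv := ?_ }, rfl, rfl⟩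
  · have h : e ▷ X = lift (toUnit _ ≫ e) (snd _ _) := by
      ext
      · simp only [whiskerRight_fst, lift_fst]
        congr 1
        exact toUnit_unique _ _
      · simp
    rw [h]
    have := one_star e m h₂ (snd (𝟙_ C) X)
    rw [star] at this
    rw [this, leftUnitor_hom]
  · have h : X ◁ e = lift (fst _ _) (toUnit _ ≫ e) := by
      ext
      · simp
      · simp only [whiskerLeft_snd, lift_snd]
        congr 1
        exact toUnit_unique _ _
    rw [h]
    have := star_one e m h₁ (fst X (𝟙_ C))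
    rw [star] at this
    rw [this, rightUnitor_hom]
  · have hL : m ▷ X = lift (star m (fst _ _ ≫ fst _ _) (fst _ _ ≫ snd _ _)) (snd _ _) := by
      ext
      · simp [star]
      · simp
    have hR : (α_ X X X).hom ≫ X ◁ m =
        lift (fst _ _ ≫ fst _ _) (star m (fst _ _ ≫ snd _ _) (snd _ _)) := by
      ext
      · simp
      · simp only [star, Category.assoc, whiskerLeft_snd, lift_snd]
        rw [← Category.assoc]
        congr 1
        ext <;> simp
    rw [hL, ← Category.assoc, hR]
    exact h5 _ _ _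
  · exact hi
  · have := hr (𝟙 X)
    rwa [star, Category.id_comp, ] at this

end Alg

end Groth.Agent.Lead.UMul
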