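import Mathlib
import Groth.Agent.Lead.UMulA

/-!
# Lead: associative laws with invertible shear maps (abstract part)
-/

set_option autoImplicit false
set_option linter.style.haveILetI false
set_option linter.unusedSectionVars false
set_option linter.unusedVariables false

open CategoryTheory MonoidalCategory CartesianMonoidalCategory MonObj

universe u

namespace Groth.Agent.Lead.NilGrp

open Groth.Agent.Lead.UMul (comp_star grpObj_of_star)

local notation "star" => Groth.Agent.Lead.UMul.star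

section Alg

variable {C : Type*} [Category C] [CartesianMonoidalCategory C] {X : C} (m : X ⊗ X ⟶ X)

theorem star_assoc (hassoc : (m ▷ X) ≫ m = (α_ X X X).hom ≫ (X ◁ m) ≫ m) {T : C}
    (a b c : T ⟶ X) : star m (star m a b) c = star m a (star m b c) := by
  have h1 : lift (lift a b) c ≫ (m ▷ X) ≫ m = star m (star m a b) c := by
    simp only [UMul.star, ← Category.assoc]
    congr 1
    ext <;> simp
  have h2 : lift (lift a b) c ≫ (α_ X X X).hom ≫ (X ◁ m) ≫ m = star m a (star m b c) := by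
    simp only [UMul.star, ← Category.assoc]
    congr 1
    ext <;> simp
  rw [← h1, hassoc, h2]

/-- left shear `(x, y) ↦ (x, xy)` -/
def shL : X ⊗ X ⟶ X ⊗ X := lift (fst X X) m

/-- right shear `(x, y) ↦ (xy, y)` -/
def shR : X ⊗ X ⟶ X ⊗ X := lift m (snd X X)

theorem lift_shL {T : C} (a b : T ⟶ X) : lift a b ≫ shL m = lift a (star m a b) := by
  unfold shL UMul.star
  ext <;> simp

theorem lift_shR {T : C} (a b : T ⟶ X) : lift a b ≫ shR m = lift (star m a b) b := by
  unfold shR UMul.star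
  ext <;> simp

theorem left_cancel [Mono (shL m)] {T : C} (a b c : T ⟶ X) (h : star m a b = star m a c) :
    b = c := by
  have h1 : lift a b ≫ shL m = lift a c ≫ shL m := by rw [lift_shL, lift_shL, h]
  have h2 := (cancel_mono (shL m)).mp h1
  simpa using congrArg (· ≫ snd X X) h2

theorem right_cancel [Mono (shR m)] {T : C} (a b c : T ⟶ X) (h : star m a c = star m b c) :
    a = b := by
  have h1 : lift a c ≫ shR m = lift b c ≫ shR m := by rw [lift_shR, lift_shR, h]
  have h2 := (cancel_mono (shR m)).mp h1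
  simpa using congrArg (· ≫ fst X X) h2

/-- left division -/
noncomputable def ldiv [IsIso (shL m)] {T : C} (a c : T ⟶ X) : T ⟶ X :=
  lift a c ≫ inv (shL m) ≫ snd X X

theorem star_ldiv [IsIso (shL m)] {T : C} (a c : T ⟶ X) : star m a (ldiv m a c) = c := by
  have h1 : (lift a c ≫ inv (shL m)) ≫ shL m = lift a c := by
    rw [Category.assoc, IsIso.inv_hom_id, Category.comp_id]
  have h2 : lift a c ≫ inv (shL m) =
      lift ((lift a c ≫ inv (shL m)) ≫ fst X X) ((lift a c ≫ inv (shL m)) ≫ snd X X) := by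
    ext <;> simp
  rw [h2, lift_shL] at h1
  have h3 : (lift a c ≫ inv (shL m)) ≫ fst X X = a := by
    simpa using congrArg (· ≫ fst X X) h1
  have h4 : star m ((lift a c ≫ inv (shL m)) ≫ fst X X) ((lift a c ≫ inv (shL m)) ≫ snd X X) = c := by
    simpa using congrArg (· ≫ snd X X) h1
  rw [h3] at h4
  rw [ldiv, ← Category.assoc]
  exact h4

variable (hassoc : (m ▷ X) ≫ m = (α_ X X X).hom ≫ (X ◁ m) ≫ m)

/-- the local unit `x ↦ e_x` with `x e_x = x` -/
noncomputable def uu [IsIso (shL m)] : X ⟶ X := ldiv m (𝟙 X) (𝟙 X)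

theorem star_uu [IsIso (shL m)] {T : C} (a : T ⟶ X) : star m a (a ≫ uu m) = a := by
  have h := comp_star m a (𝟙 X) (uu m)
  rw [Category.comp_id] at h
  rw [← h, uu, star_ldiv, Category.comp_id]

include hassoc in
theorem uu_star [IsIso (shL m)] {T : C} (a z : T ⟶ X) : star m (a ≫ uu m) z = z := by
  apply left_cancel m a
  rw [← star_assoc m hassoc, star_uu]

include hassoc in
theorem star_uu' [IsIso (shL m)] [IsIso (shR m)] {T : C} (a z : T ⟶ X) :
    star m z (a ≫ uu m) = z := by
  apply right_cancel m _ _ z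
  rw [star_assoc m hassoc, uu_star m hassoc]

include hassoc in
theorem uu_const [IsIso (shL m)] [IsIso (shR m)] {T : C} (a a' : T ⟶ X) :
    a ≫ uu m = a' ≫ uu m := by
  rw [← star_uu' m hassoc a' (a ≫ uu m), uu_star m hassoc]

include hassoc in
theorem grpObj_of_shear [IsIso (shL m)] [IsIso (shR m)] (e : 𝟙_ C ⟶ X)
    (he : toUnit X ≫ e = uu m) : ∃ h : GrpObj X, h.mul = m := by
  have hE : ∀ {T : C} (a : T ⟶ X), a ≫ uu m = toUnit T ≫ e := by
    intro T a
    rw [← he, ← Category.assoc]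
    congr 1
    exact toUnit_unique _ _
  have h₁ : lift (𝟙 X) (toUnit X ≫ e) ≫ m = 𝟙 X := by
    have := star_uu' m hassoc (𝟙 X) (𝟙 X)
    rwa [hE] at this
  have h₂ : lift (toUnit X ≫ e) (𝟙 X) ≫ m = 𝟙 X := by
    have := uu_star m hassoc (𝟙 X) (𝟙 X)
    rwa [hE] at this
  have hi0 : star m (𝟙 X) (ldiv m (𝟙 X) (toUnit X ≫ e)) = toUnit X ≫ e := star_ldiv m _ _
  have hi : lift (ldiv m (𝟙 X) (toUnit X ≫ e)) (𝟙 X) ≫ m = toUnit X ≫ e := by
    show star m (ldiv m (𝟙 X) (toUnit X ≫ e)) (𝟙 X) = _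
    apply right_cancel m _ _ (ldiv m (𝟙 X) (toUnit X ≫ e))
    rw [star_assoc m hassoc, hi0, ← hE (𝟙 X), star_uu' m hassoc, uu_star m hassoc]
  obtain ⟨h, -, hm⟩ := grpObj_of_star e m h₁ h₂ (ldiv m (𝟙 X) (toUnit X ≫ e)) hi (by
    intro T x y z
    rw [star_assoc m hassoc x y z, ← star_assoc m hassoc]
    have h5 : star m (x ≫ ldiv m (𝟙 X) (toUnit X ≫ e)) x = x ≫ uu m := by
      have := comp_star m x (ldiv m (𝟙 X) (toUnit X ≫ e)) (𝟙 X)
      rw [Category.comp_id] at this
      rw [← this]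
      show x ≫ (lift _ _ ≫ m) = _
      rw [hi, hE, ← Category.assoc]
      congr 1
      exact toUnit_unique _ _
    rw [h5, uu_star m hassoc])
  exact ⟨h, hm⟩

end Alg

section Grp

variable {C : Type*} [Category C] [CartesianMonoidalCategory C] (G : C) [GrpObj G]

theorem inv_mul_pt {T : C} (a b : T ⟶ G) : lift (a ≫ ι[G]) (lift a b ≫ μ[G]) ≫ μ[G] = b := by
  have : a⁻¹ * (a * b) = b := inv_mul_cancel_left a b
  exact this

theorem mul_inv_pt {T : C} (a b : T ⟶ G) : lift a (lift (a ≫ ι[G]) b ≫ μ[G]) ≫ μ[G] = b := by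
  have : a * (a⁻¹ * b) = b := mul_inv_cancel_left a b
  exact this

theorem mul_inv_pt' {T : C} (a b : T ⟶ G) : lift (lift a b ≫ μ[G]) (b ≫ ι[G]) ≫ μ[G] = a := by
  have : (a * b) * b⁻¹ = a := mul_inv_cancel_right a b
  exact this

theorem inv_mul_pt' {T : C} (a b : T ⟶ G) : lift (lift a (b ≫ ι[G]) ≫ μ[G]) b ≫ μ[G] = a := by
  have : (a * b⁻¹) * b = a := inv_mul_cancel_right a b
  exact this

instance isIso_shL_grp : IsIso (shL (μ[G] : G ⊗ G ⟶ G)) := by
  refine ⟨lift (fst G G) (lift (fst G G ≫ ι[G]) (snd G G) ≫ μ[G]), ?_, ?_⟩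
  · unfold shL
    ext
    · simp
    · simp only [Category.assoc, lift_snd, Category.id_comp]
      have : lift (fst G G) μ[G] ≫ lift (fst G G ≫ ι[G]) (snd G G) =
          lift (fst G G ≫ ι[G]) (lift (fst G G) (snd G G) ≫ μ[G]) := by
        ext <;> simp
      rw [← Category.assoc, this]
      exact inv_mul_pt G _ _
  · unfold shL
    ext
    · simp
    · simp only [Category.assoc, lift_snd, Category.id_comp]
      have : lift (fst G G) (lift (fst G G ≫ ι[G]) (snd G G) ≫ μ[G]) ≫ μ[G] = snd G G :=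
        mul_inv_pt G _ _
      exact this

instance isIso_shR_grp : IsIso (shR (μ[G] : G ⊗ G ⟶ G)) := by
  refine ⟨lift (lift (fst G G) (snd G G ≫ ι[G]) ≫ μ[G]) (snd G G), ?_, ?_⟩
  · unfold shR
    ext
    · simp only [Category.assoc, lift_fst, Category.id_comp]
      have : lift μ[G] (snd G G) ≫ lift (fst G G) (snd G G ≫ ι[G]) =
          lift (lift (fst G G) (snd G G) ≫ μ[G]) (snd G G ≫ ι[G]) := by
        ext <;> simp
      rw [← Category.assoc, this]
      exact mul_inv_pt' G _ _
    · simp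
  · unfold shR
    ext
    · simp only [Category.assoc, lift_fst, Category.id_comp]
      have : lift (lift (fst G G) (snd G G ≫ ι[G]) ≫ μ[G]) (snd G G) ≫ μ[G] = fst G G :=
        inv_mul_pt' G _ _
      exact this
    · simp

end Grp

end Groth.Agent.Lead.NilGrp
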