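import Mathlib
import Groth.Prelude
import Groth.Agent.Lead.Deform2
import Groth.Agent.Lead.FEtLift
import Groth.Agent.Lead.NilGrpA

/-!
# Lead: an associative law on a flat scheme which is a group law modulo a nilpotent ideal
is a group law (SGA3)
-/

set_option autoImplicit false
set_option linter.style.haveILetI false
set_option linter.unusedSectionVars false
set_option linter.unusedVariables false

open CategoryTheory CategoryTheory.Limits MonoidalCategory CartesianMonoidalCategory MonObj
  AlgebraicGeometry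

universe u

namespace Groth.Agent.Lead.NilGrp

/-- kernel ideal sheaf of `Spec` of a ring map with nilpotent kernel -/
lemma ker_SpecMap_pow {R S : CommRingCat.{u}} (φ : R ⟶ S) (n : ℕ)
    (h : RingHom.ker φ.hom ^ n = ⊥) : (Spec.map φ).ker ^ n = 0 := by
  rw [Scheme.ker_of_isAffine, ← Scheme.IdealSheafData.equivOfIsAffine_symm_apply, ← map_pow]
  have hinjS : Function.Injective (Scheme.ΓSpecIso S).hom.hom :=
    (ConcreteCategory.bijective_of_isIso (Scheme.ΓSpecIso S).hom).1
  have hinjR : Function.Injective (Scheme.ΓSpecIso R).hom.hom :=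
    (ConcreteCategory.bijective_of_isIso (Scheme.ΓSpecIso R).hom).1
  have hk : RingHom.ker (Spec.map φ).appTop.hom =
      (RingHom.ker φ.hom).comap (Scheme.ΓSpecIso R).hom.hom := by
    ext r
    rw [RingHom.mem_ker, Ideal.mem_comap, RingHom.mem_ker]
    have hnat := Scheme.ΓSpecIso_naturality φ
    have := congrArg (fun f => f.hom r) hnat
    simp only [CommRingCat.hom_comp, RingHom.comp_apply] at this
    rw [← this]
    constructor
    · intro h; rw [h, map_zero]
    · intro h; exact hinjS (h.trans (map_zero _).symm)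
  have h0 : RingHom.ker (Spec.map φ).appTop.hom ^ n = 0 := by
    rw [hk, Ideal.zero_eq_bot, eq_bot_iff]
    refine (Ideal.le_comap_pow _ n).trans ?_
    rw [h]
    intro x hx
    rw [Ideal.mem_comap, Ideal.mem_bot] at hx
    rw [Ideal.mem_bot]
    exact hinjR (hx.trans (map_zero _).symm)
  rw [h0, map_zero]

variable (R : Type u) [CommRing R] (I : Ideal R)

/-- the closed immersion `Spec (R/I) ⟶ Spec R` -/
noncomputable abbrev iS : Spec (CommRingCat.of (R ⧸ I)) ⟶ Spec (CommRingCat.of R) :=
  Spec.map (CommRingCat.ofHom (Ideal.Quotient.mk I))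

theorem finiteOrder_quot (hI : IsNilpotent I) : MoreMor.IsFiniteOrderThickening (iS R I) := by
  have hker : RingHom.ker (CommRingCat.ofHom (Ideal.Quotient.mk I)).hom = I := Ideal.mk_ker
  refine ⟨⟨IsClosedImmersion.spec_of_surjective _ Ideal.Quotient.mk_surjective, ⟨?_⟩⟩, ?_⟩
  · apply Groth.Agent.Lead.FEtLift.specMap_surjective_of_nilpotent
    · exact Ideal.Quotient.mk_surjective
    · rw [hker]; exact hI
  · obtain ⟨n, hn⟩ := hI
    refine ⟨n, ?_⟩
    apply ker_SpecMap_pow
    rw [hker, hn]
    rfl

variable {R I}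

/-- a morphism with flat source which is an isomorphism modulo a nilpotent ideal is an
isomorphism -/
theorem isIso_of_isIso_pullback (hI : IsNilpotent I) {Y Z : Over (Spec (CommRingCat.of R))}
    [Flat Y.hom] (k : Y ⟶ Z) [IsIso ((Over.pullback (iS R I)).map k)] : IsIso k := by
  have hS := finiteOrder_quot R I hI
  haveI : IsIso ((Over.pullback (iS R I)).map k).left :=
    (inferInstance : IsIso ((Over.forget _).map ((Over.pullback (iS R I)).map k)))
  haveI : Flat (k.left ≫ Z.hom) := by rw [Over.w]; infer_instance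
  have hcY : IsPullback (pullback.fst Z.hom (iS R I)) (pullback.snd Z.hom (iS R I)) Z.hom
      (iS R I) := IsPullback.of_hasPullback _ _
  have hcX : IsPullback (pullback.fst Y.hom (iS R I))
      (((Over.pullback (iS R I)).map k).left ≫ pullback.snd Z.hom (iS R I)) (k.left ≫ Z.hom)
      (iS R I) := by
    have h1 : ((Over.pullback (iS R I)).map k).left ≫ pullback.snd Z.hom (iS R I) =
        pullback.snd Y.hom (iS R I) := Over.w ((Over.pullback (iS R I)).map k)
    rw [h1, Over.w k]
    exact IsPullback.of_hasPullback _ _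
  have w : pullback.fst Y.hom (iS R I) ≫ k.left =
      ((Over.pullback (iS R I)).map k).left ≫ pullback.fst Z.hom (iS R I) :=
    (pullback.lift_fst _ _ _).symm
  haveI : IsIso k.left := Groth.Agent.Lead.Deform.isIso_of_deform
    (pullback.fst Y.hom (iS R I)) (pullback.fst Z.hom (iS R I)) (iS R I)
    ((Over.pullback (iS R I)).map k).left k.left (pullback.snd Z.hom (iS R I)) Z.hom hS hcX hcY w
  haveI : IsIso ((Over.forget _).map k) := ‹IsIso k.left›
  exact isIso_of_reflects_iso k (Over.forget _)

/-- both shear maps are isomorphisms -/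
theorem isIso_shears (hI : IsNilpotent I) (X : Over (Spec (CommRingCat.of R))) [Flat X.hom]
    (P : X ⊗ X ⟶ X)
    (h0 : ∃ _ : GrpObj ((Over.pullback (iS R I)).obj X),
      μ[(Over.pullback (iS R I)).obj X] =
        Functor.LaxMonoidal.μ (Over.pullback (iS R I)) X X ≫ (Over.pullback (iS R I)).map P) :
    IsIso (shL P) ∧ IsIso (shR P) := by
  obtain ⟨hG, hμ⟩ := h0
  haveI : Flat (X ⊗ X).hom := by
    rw [Over.tensorObj_hom]
    infer_instance
  have e1 : Functor.LaxMonoidal.μ (Over.pullback (iS R I)) X X ≫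
      (Over.pullback (iS R I)).map (shL P) =
      shL μ[(Over.pullback (iS R I)).obj X] ≫
        Functor.LaxMonoidal.μ (Over.pullback (iS R I)) X X := by
    unfold shL
    rw [← Functor.Monoidal.lift_μ, comp_lift_assoc, Functor.Monoidal.μ_fst, ← hμ]
  have e2 : Functor.LaxMonoidal.μ (Over.pullback (iS R I)) X X ≫
      (Over.pullback (iS R I)).map (shR P) =
      shR μ[(Over.pullback (iS R I)).obj X] ≫
        Functor.LaxMonoidal.μ (Over.pullback (iS R I)) X X := by
    unfold shR
    rw [← Functor.Monoidal.lift_μ, comp_lift_assoc, Functor.Monoidal.μ_snd, ← hμ]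
  haveI : IsIso ((Over.pullback (iS R I)).map (shL P)) := by
    have : (Over.pullback (iS R I)).map (shL P) =
        inv (Functor.LaxMonoidal.μ (Over.pullback (iS R I)) X X) ≫
          shL μ[(Over.pullback (iS R I)).obj X] ≫
            Functor.LaxMonoidal.μ (Over.pullback (iS R I)) X X := by
      rw [← e1, IsIso.inv_hom_id_assoc]
    rw [this]
    infer_instance
  haveI : IsIso ((Over.pullback (iS R I)).map (shR P)) := by
    have : (Over.pullback (iS R I)).map (shR P) =
        inv (Functor.LaxMonoidal.μ (Over.pullback (iS R I)) X X) ≫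
          shR μ[(Over.pullback (iS R I)).obj X] ≫
            Functor.LaxMonoidal.μ (Over.pullback (iS R I)) X X := by
      rw [← e2, IsIso.inv_hom_id_assoc]
    rw [this]
    infer_instance
  exact ⟨isIso_of_isIso_pullback hI (shL P), isIso_of_isIso_pullback hI (shR P)⟩

/-- the structure morphism is surjective when the reduction has a section -/
theorem surjective_hom (hI : IsNilpotent I) (X : Over (Spec (CommRingCat.of R)))
    (η₀ : 𝟙_ (Over (Spec (CommRingCat.of (R ⧸ I)))) ⟶ (Over.pullback (iS R I)).obj X) :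
    Surjective X.hom := by
  constructor
  intro s
  have hsurj : Function.Surjective (iS R I) := by
    apply Groth.Agent.Lead.FEtLift.specMap_surjective_of_nilpotent
    · exact Ideal.Quotient.mk_surjective
    · have hker : RingHom.ker (CommRingCat.ofHom (Ideal.Quotient.mk I)).hom = I := Ideal.mk_ker
      rw [hker]; exact hI
  obtain ⟨s₀, rfl⟩ := hsurj s
  refine ⟨(pullback.fst X.hom (iS R I)) (η₀.left s₀), ?_⟩
  have h1 : η₀.left ≫ pullback.snd X.hom (iS R I) = 𝟙 _ := Over.w η₀
  rw [← Scheme.Hom.comp_apply, pullback.condition, Scheme.Hom.comp_apply,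
    ← Scheme.Hom.comp_apply η₀.left, h1]
  rfl

/-- descent of a constant endomorphism to a section -/
theorem exists_unit {S : Scheme.{u}} (X : Over S) [EffectiveEpi X.hom] (u : X ⟶ X)
    (hu : fst X X ≫ u = snd X X ≫ u) : ∃ e : 𝟙_ (Over S) ⟶ X, toUnit X ≫ e = u := by
  have hu' : pullback.fst X.hom X.hom ≫ u.left = pullback.snd X.hom X.hom ≫ u.left := by
    have := congrArg CommaMorphism.left hu
    simpa using this
  have hdesc : ∀ {Z : Scheme.{u}} (g₁ g₂ : Z ⟶ X.left), g₁ ≫ X.hom = g₂ ≫ X.hom →
      g₁ ≫ u.left = g₂ ≫ u.left := by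
    intro Z g₁ g₂ h
    calc g₁ ≫ u.left = (pullback.lift g₁ g₂ h ≫ pullback.fst X.hom X.hom) ≫ u.left := by
          rw [pullback.lift_fst]
      _ = pullback.lift g₁ g₂ h ≫ pullback.snd X.hom X.hom ≫ u.left := by
          rw [Category.assoc, hu']
      _ = g₂ ≫ u.left := by rw [← Category.assoc, pullback.lift_snd]
  have hfac : X.hom ≫ EffectiveEpi.desc X.hom u.left hdesc = u.left := EffectiveEpi.fac _ _ _
  have hsec : EffectiveEpi.desc X.hom u.left hdesc ≫ X.hom = (𝟙_ (Over S)).hom := by
    rw [← cancel_epi X.hom, ← Category.assoc, hfac, Over.w u]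
    exact (Category.comp_id _).symm
  refine ⟨Over.homMk (EffectiveEpi.desc X.hom u.left hdesc) hsec, ?_⟩
  ext
  simpa using hfac

theorem main (R : Type u) [CommRing R] (I : Ideal R)
    (hI : IsNilpotent I) (X : Over (Spec (CommRingCat.of R))) [Flat X.hom]
    (hX : QuasiCompact X.hom ∨ LocallyOfFinitePresentation X.hom) (P : X ⊗ X ⟶ X)
    (hassoc : (P ▷ X) ≫ P = (α_ X X X).hom ≫ (X ◁ P) ≫ P)
    (h0 : ∃ _ : GrpObj ((Over.pullback (Spec.map (CommRingCat.ofHom (Ideal.Quotient.mk I)))).obj X),
      μ[(Over.pullback (Spec.map (CommRingCat.ofHom (Ideal.Quotient.mk I)))).obj X] =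
        Functor.LaxMonoidal.μ (Over.pullback (Spec.map (CommRingCat.ofHom (Ideal.Quotient.mk I)))) X X ≫ (Over.pullback (Spec.map (CommRingCat.ofHom (Ideal.Quotient.mk I)))).map P) :
    ∃ _ : GrpObj X, μ[X] = P := by
  obtain ⟨hL, hR⟩ := isIso_shears hI X P h0
  haveI := hL
  haveI := hR
  haveI : Surjective X.hom := by
    obtain ⟨hG, -⟩ := h0
    exact surjective_hom hI X η[(Over.pullback (iS R I)).obj X]
  haveI : EffectiveEpi X.hom := by
    rcases hX with h | h
    · haveI := h; infer_instance
    · haveI := h; infer_instance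
  obtain ⟨e, he⟩ := exists_unit X (uu P) (uu_const P hassoc (fst X X) (snd X X))
  obtain ⟨h, hm⟩ := grpObj_of_shear P hassoc e he
  exact ⟨h, hm⟩

end Groth.Agent.Lead.NilGrp
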