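import Mathlib
import Groth.Agent.Lead.ThickBC2
import Groth.Agent.Lead.Thick4
import Groth.Agent.Lead.LftDescD

set_option autoImplicit false
set_option linter.style.haveILetI false
universe u
open CategoryTheory Limits AlgebraicGeometry

namespace Groth.Agent.Lead.NilThick

section algebra

/-- lifting surjectivity along a nilpotent thickening -/
theorem surjective_of_nilpotent {A' B' A B : Type u} [CommRing A'] [CommRing B'] [CommRing A]
    [CommRing B] (φ' : A' →+* B') (φ : A →+* B) (πA : A' →+* A) (πB : B' →+* B)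
    (hcomm : φ.comp πA = πB.comp φ') (hπA : Function.Surjective πA)
    (n : ℕ) (hnil : (RingHom.ker πA) ^ n = ⊥)
    (hker : RingHom.ker πB = (RingHom.ker πA).map φ') (hφ : Function.Surjective φ) :
    Function.Surjective φ' := by
  algebraize [φ']
  have hsup : LinearMap.range (Algebra.linearMap A' B') ⊔
      (RingHom.ker πA) • (⊤ : Submodule A' B') = ⊤ := by
    apply eq_top_iff.mpr
    intro b' _
    obtain ⟨a, ha⟩ := hφ (πB b')
    obtain ⟨a', rfl⟩ := hπA a
    have h1 : πB (φ' a') = πB b' := by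
      rw [← ha]; exact (RingHom.congr_fun hcomm a').symm
    have hmem : b' - φ' a' ∈ RingHom.ker πB := by
      rw [RingHom.mem_ker, map_sub, h1, sub_self]
    rw [hker] at hmem
    have hmem' : b' - φ' a' ∈ (RingHom.ker πA) • (⊤ : Submodule A' B') := by
      rw [Ideal.smul_top_eq_map]
      exact hmem
    have : b' = φ' a' + (b' - φ' a') := by ring
    rw [this]
    exact Submodule.add_mem_sup ⟨a', rfl⟩ hmem'
  have := ThickBC.eq_top_of_sup_smul_top _ n hnil _ hsup
  intro b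
  have hb : b ∈ LinearMap.range (Algebra.linearMap A' B') := by rw [this]; trivial
  obtain ⟨a, ha⟩ := hb
  exact ⟨a, ha⟩

end algebra

section schemes

variable {X X' S S' : Scheme.{u}} {iX : X ⟶ X'} {iS : S ⟶ S'} {f : X ⟶ S} {f' : X' ⟶ S'}

/-- a (locally) nilpotent thickening: surjective closed immersion with locally nilpotent kernel -/
structure IsNilThick {T₀ T : Scheme.{u}} (t : T₀ ⟶ T) : Prop where
  ci : IsClosedImmersion t
  surj : Surjective t
  nil : ∀ V : T.affineOpens, ∃ n : ℕ, (RingHom.ker (t.app V.1).hom) ^ n = ⊥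

theorem isNilThick_of_noetherian {Y Y₀ : Scheme.{u}} [IsLocallyNoetherian Y] (i : Y₀ ⟶ Y)
    [IsClosedImmersion i] [Surjective i] : IsNilThick i := by
  refine ⟨inferInstance, inferInstance, ?_⟩
  intro V'
  haveI : IsNoetherianRing Γ(Y, V'.1) := IsLocallyNoetherian.component_noetherian V'
  have hfg : (i.ker.ideal V').FG := IsNoetherian.noetherian _
  have hsupp : ((⊥ : Y.IdealSheafData).support : Set Y) ⊆ (i.ker.support : Set Y) := by
    rw [Scheme.Hom.support_ker]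
    intro y _
    have : Set.range i = Set.univ := Set.range_eq_univ.mpr i.surjective
    simp [this]
  obtain ⟨n, hn⟩ := Groth.Agent.S7846.local_pow_le i.ker ⊥ V' hfg hsupp
  refine ⟨n, ?_⟩
  rw [← Scheme.Hom.ker_apply]
  have : (⊥ : Y.IdealSheafData).ideal V' = ⊥ := rfl
  rw [this] at hn
  exact le_bot_iff.mp hn

theorem isNilThick_of_isPullback (hc : IsPullback iX f f' iS) [IsAffine S'] (h : IsNilThick iS) :
    IsNilThick iX := by
  haveI := h.ci
  haveI := h.surj
  refine ⟨ThickBC.isClosedImmersion_of_isPullback hc,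
    MorphismProperty.of_isPullback (P := @Surjective) hc.flip h.surj, ?_⟩
  intro U'
  obtain ⟨n, hn⟩ := h.nil ⟨⊤, isAffineOpen_top S'⟩
  refine ⟨n, ?_⟩
  have := ThickBC.ker_app_eq_map hc ⟨⊤, isAffineOpen_top S'⟩ U' le_top
  rw [this, ← Ideal.map_pow, hn, Ideal.map_bot]

theorem isClosedImmersion_of_isPullback (hc : IsPullback iX f f' iS) (h : IsNilThick iS)
    [IsClosedImmersion f] : IsClosedImmersion f' := by
  haveI := h.ci
  haveI := h.surj
  haveI hiX : IsClosedImmersion iX := ThickBC.isClosedImmersion_of_isPullback hc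
  haveI : Surjective iX := MorphismProperty.of_isPullback (P := @Surjective) hc.flip h.surj
  have heq : ∀ V' : S'.Opens, iX ⁻¹ᵁ (f' ⁻¹ᵁ V') = f ⁻¹ᵁ (iS ⁻¹ᵁ V') := by
    intro V'
    rw [← Scheme.Hom.comp_preimage, ← Scheme.Hom.comp_preimage, hc.w]
  have haff : ∀ V' : S'.Opens, IsAffineOpen V' → IsAffineOpen (f' ⁻¹ᵁ V') := by
    intro V' hV'
    have hU : IsAffineOpen (iX ⁻¹ᵁ (f' ⁻¹ᵁ V')) := by
      rw [heq]
      exact (hV'.preimage iS).preimage f
    haveI : IsAffine (iX ⁻¹ᵁ (f' ⁻¹ᵁ V')).toScheme := hU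
    haveI : Surjective (iX ∣_ (f' ⁻¹ᵁ V')) := IsZariskiLocalAtTarget.restrict ‹_› _
    exact Thick.isAffine_of_thickening (iX ∣_ (f' ⁻¹ᵁ V')) (iX ∣_ (f' ⁻¹ᵁ V')).surjective
  rw [isClosedImmersion_iff_isAffineHom]
  refine ⟨⟨haff⟩, ?_⟩
  intro V' hV'
  have hU' := haff V' hV'
  obtain ⟨n, hn⟩ := h.nil ⟨V', hV'⟩
  obtain ⟨h1, h2, h3, h4⟩ := ThickBC.square_facts hc ⟨V', hV'⟩ ⟨f' ⁻¹ᵁ V', hU'⟩ le_rfl
  have hφ : Function.Surjective (f.appLE (iS ⁻¹ᵁ V') (iX ⁻¹ᵁ (f' ⁻¹ᵁ V'))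
      (ThickBC.preimage_le hc V' (f' ⁻¹ᵁ V') le_rfl)).hom := by
    have e := heq V'
    haveI : IsIso (homOfLE e.le) :=
      ⟨⟨homOfLE e.ge, Subsingleton.elim _ _, Subsingleton.elim _ _⟩⟩
    intro b
    obtain ⟨c, hc'⟩ :=
      (ConcreteCategory.bijective_of_isIso (X.presheaf.map (homOfLE e.le).op)).2 b
    obtain ⟨a, ha⟩ := Scheme.Hom.app_surjective f _ (hV'.preimage iS) c
    refine ⟨a, ?_⟩
    rw [Scheme.Hom.appLE]
    change (X.presheaf.map (homOfLE e.le).op) ((f.app (iS ⁻¹ᵁ V')) a) = b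
    rw [ha, hc']
  have := surjective_of_nilpotent _ _ _ _ h1 h2 n hn h4 hφ
  rw [Scheme.Hom.app_eq_appLE]
  exact this

/-- immersions lift along nilpotent thickenings -/
theorem isImmersion_of_isPullback (hc : IsPullback iX f f' iS) (h : IsNilThick iS)
    (hT : ∀ W : S'.Opens, IsNilThick (iS ∣_ W)) [IsImmersion f] : IsImmersion f' := by
  haveI := h.ci
  haveI := h.surj
  obtain ⟨Z, g₁, g₂, hg₁, hg₂, hfac⟩ := (IsImmersion.isImmersion_iff_exists (f := f)).mp inferInstance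
  have hinj : Function.Injective iS := iS.isEmbedding.injective
  have hhomeo : IsHomeomorph iS :=
    isHomeomorph_iff_isEmbedding_surjective.mpr ⟨iS.isEmbedding, iS.surjective⟩
  let W : S'.Opens := ⟨iS '' (g₂.opensRange : Set S), hhomeo.isOpenMap _ g₂.opensRange.2⟩
  have hW : (iS ⁻¹ᵁ W : Set S) = Set.range g₂ := by
    change iS ⁻¹' (iS '' (g₂.opensRange : Set S)) = _
    rw [Set.preimage_image_eq _ hinj]
    rfl
  -- the lift of `f` to the open `iS ⁻¹ᵁ W`
  have hr : Set.range g₂ = Set.range (iS ⁻¹ᵁ W).ι := by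
    rw [Scheme.Opens.range_ι, hW]
  obtain ⟨fk, hfk, hfkci⟩ : ∃ fk : X ⟶ (iS ⁻¹ᵁ W).toScheme, fk ≫ (iS ⁻¹ᵁ W).ι = f ∧
      IsClosedImmersion fk := by
    refine ⟨g₁ ≫ (IsOpenImmersion.isoOfRangeEq g₂ (iS ⁻¹ᵁ W).ι hr).hom, ?_, inferInstance⟩
    simp only [Category.assoc, IsOpenImmersion.isoOfRangeEq_hom_fac, hfac]
  -- the lift of `f'` to `W`
  have hrange : Set.range f' ⊆ Set.range W.ι := by
    rw [Scheme.Opens.range_ι]
    rintro _ ⟨x, rfl⟩
    haveI : Surjective iX := MorphismProperty.of_isPullback (P := @Surjective) hc.flip h.surj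
    obtain ⟨z, rfl⟩ := iX.surjective x
    have hz : f' (iX z) = iS (f z) := by
      rw [← Scheme.Hom.comp_apply, ← Scheme.Hom.comp_apply, hc.w]
    rw [hz]
    refine ⟨f z, ?_, rfl⟩
    rw [← hfac]
    exact ⟨g₁ z, rfl⟩
  obtain ⟨v, hv⟩ : ∃ v : X' ⟶ W.toScheme, v ≫ W.ι = f' :=
    ⟨IsOpenImmersion.lift W.ι f' hrange, IsOpenImmersion.lift_fac _ _ _⟩
  have sq : IsPullback fk iX (iS ∣_ W) v := by
    refine IsPullback.of_right (h₁₂ := (iS ⁻¹ᵁ W).ι) (h₂₂ := W.ι) (v₁₃ := iS) ?_ ?_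
      (isPullback_morphismRestrict iS W).flip
    · rw [hfk, hv]; exact hc.flip
    · rw [← cancel_mono W.ι, Category.assoc, Category.assoc, hv, morphismRestrict_ι,
        ← Category.assoc, hfk, hc.w]
  haveI : IsClosedImmersion v := isClosedImmersion_of_isPullback sq.flip (hT W)
  rw [← hv]
  infer_instance

end schemes

end Groth.Agent.Lead.NilThick
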