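import Mathlib
import Groth.Agent.Lead.NilThickA

set_option autoImplicit false
set_option linter.style.haveILetI false
universe u
open CategoryTheory Limits AlgebraicGeometry

namespace Groth.Agent.Lead.NilThick

variable (A : Type u) [CommRing A] [IsArtinianRing A] [IsLocalRing A]

theorem isNilThick_cl : IsNilThick (LftDescD.cl A) :=
  isNilThick_of_noetherian _

variable {A}

theorem isNilThick_fst {T : Scheme.{u}} (g : T ⟶ Spec (CommRingCat.of A)) :
    IsNilThick (pullback.fst g (LftDescD.cl A)) :=
  isNilThick_of_isPullback (IsPullback.of_hasPullback g (LftDescD.cl A)) (isNilThick_cl A)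

theorem isNilThick_fst_restrict {T : Scheme.{u}} (g : T ⟶ Spec (CommRingCat.of A)) (W : T.Opens) :
    IsNilThick (pullback.fst g (LftDescD.cl A) ∣_ W) := by
  have s := (isPullback_morphismRestrict (pullback.fst g (LftDescD.cl A)) W)
  have t := IsPullback.of_hasPullback g (LftDescD.cl A)
  exact isNilThick_of_isPullback (s.paste_vert t) (isNilThick_cl A)

theorem square (X Y : Over (Spec (CommRingCat.of A))) (u : X ⟶ Y) :
    IsPullback (pullback.fst X.hom (LftDescD.cl A)) ((Over.pullback (LftDescD.cl A)).map u).left
      u.left (pullback.fst Y.hom (LftDescD.cl A)) := by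
  refine IsPullback.flip ?_
  refine IsPullback.of_right (h₁₂ := pullback.snd Y.hom (LftDescD.cl A)) (h₂₂ := Y.hom)
    (v₁₃ := LftDescD.cl A) ?_ ?_ (IsPullback.of_hasPullback Y.hom (LftDescD.cl A)).flip
  · have h1 : ((Over.pullback (LftDescD.cl A)).map u).left ≫ pullback.snd Y.hom (LftDescD.cl A) =
        pullback.snd X.hom (LftDescD.cl A) := by
      simp only [Over.pullback_map_left]
      exact pullback.lift_snd _ _ _
    rw [h1, Over.w u]
    exact (IsPullback.of_hasPullback X.hom (LftDescD.cl A)).flip
  · simp only [Over.pullback_map_left]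
    exact pullback.lift_fst _ _ _

theorem main (A : Type u) [CommRing A] [IsArtinianRing A] [IsLocalRing A]
    (X Y : Over (Spec (CommRingCat.of A))) (u : X ⟶ Y) :
    letI i : Spec (CommRingCat.of (IsLocalRing.ResidueField A)) ⟶ (Spec (CommRingCat.of A)) :=
      Spec.map (CommRingCat.ofHom (IsLocalRing.residue A))
    (LocallyOfFiniteType (pullback.snd X.hom i) → LocallyOfFiniteType X.hom) ∧
    (LocallyOfFiniteType (pullback.snd X.hom i) → QuasiCompact (pullback.snd X.hom i) →
      QuasiCompact X.hom) ∧
    (IsImmersion ((Over.pullback i).map u).left → IsImmersion u.left) ∧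
    (IsClosedImmersion ((Over.pullback i).map u).left → IsClosedImmersion u.left) := by
  refine ⟨fun h => ?_, fun _ h2 => ?_, fun h => ?_, fun h => ?_⟩
  · haveI : LocallyOfFiniteType (pullback.snd X.hom (LftDescD.cl A)) := h
    exact Groth.Agent.S2305.aux X.hom (LftDescD.cl A)
  · haveI : QuasiCompact (pullback.snd X.hom (LftDescD.cl A)) := h2
    haveI : CompactSpace ↥(pullback X.hom (LftDescD.cl A)) :=
      QuasiCompact.compactSpace_of_compactSpace (pullback.snd X.hom (LftDescD.cl A))
    haveI : Surjective (pullback.fst X.hom (LftDescD.cl A)) := inferInstance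
    haveI : CompactSpace ↥X.left := by
      constructor
      rw [← Set.range_eq_univ.mpr (pullback.fst X.hom (LftDescD.cl A)).surjective]
      exact isCompact_range (pullback.fst X.hom (LftDescD.cl A)).continuous
    exact (HasAffineProperty.iff_of_isAffine (P := @QuasiCompact)).mpr ‹CompactSpace ↥X.left›
  · haveI : IsImmersion ((Over.pullback (LftDescD.cl A)).map u).left := h
    exact isImmersion_of_isPullback (square X Y u) (isNilThick_fst Y.hom)
      (fun W => isNilThick_fst_restrict Y.hom W)
  · haveI : IsClosedImmersion ((Over.pullback (LftDescD.cl A)).map u).left := h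
    exact isClosedImmersion_of_isPullback (square X Y u) (isNilThick_fst Y.hom)

end Groth.Agent.Lead.NilThick
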