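import Mathlib

/-!
# Nakayama-type lemmas for nilpotent ideals
-/

namespace Groth.Agent.Lead

/-- Nakayama for a nilpotent ideal: no finiteness needed. -/
theorem eq_top_of_sup_smul_top_of_isNilpotent {R M : Type*} [CommRing R] [AddCommGroup M]
    [Module R M] (I : Ideal R)
    (hI : IsNilpotent I) (N : Submodule R M) (h : ⊤ ≤ N ⊔ I • (⊤ : Submodule R M)) : N = ⊤ := by
  obtain ⟨n, hn⟩ := hI
  have key : ∀ m : ℕ, (⊤ : Submodule R M) ≤ N ⊔ (I ^ m) • (⊤ : Submodule R M) := by
    intro m
    induction m with
    | zero => simp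
    | succ m ih =>
      calc (⊤ : Submodule R M) ≤ N ⊔ I • (⊤ : Submodule R M) := h
        _ ≤ N ⊔ I • (N ⊔ (I ^ m) • (⊤ : Submodule R M)) := by
            gcongr
        _ ≤ N ⊔ (I ^ (m + 1)) • (⊤ : Submodule R M) := by
            rw [Submodule.smul_sup, ← Submodule.mul_smul, ← pow_succ']
            refine sup_le le_sup_left (sup_le ?_ le_sup_right)
            exact le_trans Submodule.smul_le_right le_sup_left
  have := key n
  rw [hn, Submodule.zero_eq_bot, Submodule.bot_smul, sup_bot_eq] at this
  exact top_le_iff.mp this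

/-- If `I` is nilpotent and `I • ⊤ = ⊤` then the module is trivial. -/
theorem subsingleton_of_smul_top_eq_top_of_isNilpotent {R M : Type*} [CommRing R]
    [AddCommGroup M] [Module R M] (I : Ideal R) (hI : IsNilpotent I)
    (h : I • (⊤ : Submodule R M) = ⊤) : Subsingleton M := by
  have := eq_top_of_sup_smul_top_of_isNilpotent I hI (⊥ : Submodule R M) (by simp [h])
  exact (Submodule.subsingleton_iff R).mp (subsingleton_of_bot_eq_top this)

end Groth.Agent.Lead
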