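import Groth.Agent.Lead.SubalgSys
import Groth.Agent.Lead.LimIsoDesc
open CategoryTheory Limits AlgebraicGeometry

namespace Groth.Agent.Lead.NoethCombine
open Groth.Agent.Lead.SubalgSys Groth.Agent.Lead.LimPullback Groth.Agent.Lead.LimIsoDesc
universe u

/-- the image of a finite type `ℤ`-algebra is a finitely generated subalgebra -/
lemma fg_range {R A : Type u} [CommRing R] [CommRing A] (h : Algebra.FiniteType ℤ R) (ψ : R →+* A) :
    (ψ.toIntAlgHom.range).FG := by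
  rw [← Algebra.map_top]
  exact h.out.map _

set_option backward.isDefEq.respectTransparency false in
theorem combine (P Q : MorphismProperty Scheme.{u}) [P.IsStableUnderBaseChange]
    [Q.IsStableUnderBaseChange]
    {X S : Scheme.{u}} (f : X ⟶ S) [IsAffine X] [IsAffine S]
    {X₁ S₁ X₂ S₂ : Scheme.{u}} [IsAffine X₁] [IsAffine S₁] [IsAffine X₂] [IsAffine S₂]
    (f₁ : X₁ ⟶ S₁) (g₁ : S ⟶ S₁) (g₁' : X ⟶ X₁) (h₁ : IsPullback g₁' f f₁ g₁)
    (f₂ : X₂ ⟶ S₂) (g₂ : S ⟶ S₂) (g₂' : X ⟶ X₂) (h₂ : IsPullback g₂' f f₂ g₂)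
    (hS₁ : Algebra.FiniteType ℤ Γ(S₁, ⊤)) (hS₂ : Algebra.FiniteType ℤ Γ(S₂, ⊤))
    [LocallyOfFiniteType f₁] [LocallyOfFiniteType f₂] (hP : P f₁) (hQ : Q f₂) :
    ∃ (X₀ S₀ : Scheme.{u}) (f₀ : X₀ ⟶ S₀) (g : S ⟶ S₀) (g' : X ⟶ X₀), IsAffine X₀ ∧ IsAffine S₀ ∧
      IsPullback g' f f₀ g ∧ Algebra.FiniteType ℤ Γ(S₀, ⊤) ∧ LocallyOfFiniteType f₀ ∧ P f₀ ∧
        Q f₀ := by
  let ψ₁ : Γ(S₁, ⊤) →+* Γ(S, ⊤) := g₁.appTop.hom
  let ψ₂ : Γ(S₂, ⊤) →+* Γ(S, ⊤) := g₂.appTop.hom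
  let A₁ : Subalgebra ℤ Γ(S, ⊤) := ψ₁.toIntAlgHom.range ⊔ ψ₂.toIntAlgHom.range
  have hA₁ : A₁.FG := (fg_range hS₁ ψ₁).sup (fg_range hS₂ ψ₂)
  have hm₁ : ∀ x, ψ₁ x ∈ A₁ := fun x ↦
    (le_sup_left : ψ₁.toIntAlgHom.range ≤ A₁) ⟨x, rfl⟩
  have hm₂ : ∀ x, ψ₂ x ∈ A₁ := fun x ↦
    (le_sup_right : ψ₂.toIntAlgHom.range ≤ A₁) ⟨x, rfl⟩
  haveI := isCofiltered hA₁
  let i₀ : (Idx Γ(S, ⊤) A₁)ᵒᵖ := Opposite.op (base _ A₁ hA₁)
  let c := cone Γ(S, ⊤) A₁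
  have hc : IsLimit c := coneIsLimit hA₁
  let s : S ⟶ c.pt := S.isoSpec.hom
  let σ₁ : (D Γ(S, ⊤) A₁).obj i₀ ⟶ S₁ :=
    Spec.map (CommRingCat.ofHom (ψ₁.codRestrict A₁ hm₁)) ≫ S₁.isoSpec.inv
  let σ₂ : (D Γ(S, ⊤) A₁).obj i₀ ⟶ S₂ :=
    Spec.map (CommRingCat.ofHom (ψ₂.codRestrict A₁ hm₂)) ≫ S₂.isoSpec.inv
  have hσ₁ : s ≫ c.π.app i₀ ≫ σ₁ = g₁ := by
    have e1 : c.π.app i₀ ≫ Spec.map (CommRingCat.ofHom (ψ₁.codRestrict A₁ hm₁)) =
        Spec.map g₁.appTop := by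
      change Spec.map _ ≫ Spec.map _ = _
      rw [← Spec.map_comp]
      rfl
    simp only [σ₁, s]
    rw [reassoc_of% e1, Scheme.isoSpec_hom_naturality_assoc, Iso.hom_inv_id, Category.comp_id]
  have hσ₂ : s ≫ c.π.app i₀ ≫ σ₂ = g₂ := by
    have e1 : c.π.app i₀ ≫ Spec.map (CommRingCat.ofHom (ψ₂.codRestrict A₁ hm₂)) =
        Spec.map g₂.appTop := by
      change Spec.map _ ≫ Spec.map _ = _
      rw [← Spec.map_comp]
      rfl
    simp only [σ₂, s]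
    rw [reassoc_of% e1, Scheme.isoSpec_hom_naturality_assoc, Iso.hom_inv_id, Category.comp_id]
  -- noetherianity of the base stage
  have hft : Algebra.FiniteType ℤ A₁ := (Subalgebra.fg_iff_finiteType A₁).mp hA₁
  have hN : IsNoetherianRing A₁ := Algebra.FiniteType.isNoetherianRing ℤ A₁
  have hLN : IsLocallyNoetherian ((D Γ(S, ⊤) A₁).obj i₀) := by
    change IsLocallyNoetherian (Spec (.of A₁)); infer_instance
  have hA : ∀ {i j : (Idx Γ(S, ⊤) A₁)ᵒᵖ} (f : i ⟶ j), IsAffineHom ((D Γ(S, ⊤) A₁).map f) :=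
    fun f ↦ inferInstance
  have ha₀ : LocallyOfFinitePresentation (pullback.snd f₁ σ₁) := inferInstance
  have hb₀ : LocallyOfFinitePresentation (pullback.snd f₂ σ₂) := inferInstance
  have hX₁ : IsAffine (pullback f₁ σ₁) := inferInstance
  have hX₂ : IsAffine (pullback f₂ σ₂) := inferInstance
  -- `X` as base change of both models
  let r₁ : X ⟶ pullback f₁ σ₁ := pullback.lift g₁' (f ≫ s ≫ c.π.app i₀)
    (by rw [h₁.w, Category.assoc, Category.assoc, hσ₁])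
  have H1' : IsPullback r₁ f (pullback.snd f₁ σ₁) (s ≫ c.π.app i₀) := by
    refine IsPullback.of_right ?_ (pullback.lift_snd _ _ _) (IsPullback.of_hasPullback f₁ σ₁)
    rw [pullback.lift_fst, Category.assoc, hσ₁]
    exact h₁
  have H1 : IsPullback r₁ (f ≫ s) (pullback.snd f₁ σ₁) (c.π.app i₀) :=
    IsPullback.of_iso H1' (Iso.refl _) (Iso.refl _) S.isoSpec (Iso.refl _) (by simp)
      (by simp [s]) (by simp) (by simp [s])
  let r₂ : X ⟶ pullback f₂ σ₂ := pullback.lift g₂' (f ≫ s ≫ c.π.app i₀)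
    (by rw [h₂.w, Category.assoc, Category.assoc, hσ₂])
  have H2' : IsPullback r₂ f (pullback.snd f₂ σ₂) (s ≫ c.π.app i₀) := by
    refine IsPullback.of_right ?_ (pullback.lift_snd _ _ _) (IsPullback.of_hasPullback f₂ σ₂)
    rw [pullback.lift_fst, Category.assoc, hσ₂]
    exact h₂
  have H2 : IsPullback r₂ (f ≫ s) (pullback.snd f₂ σ₂) (c.π.app i₀) :=
    IsPullback.of_iso H2' (Iso.refl _) (Iso.refl _) S.isoSpec (Iso.refl _) (by simp)
      (by simp [s]) (by simp) (by simp [s])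
  let e := H1.flip.isoPullback.symm ≪≫ H2.flip.isoPullback
  have he : e.hom ≫ pullback.fst (c.π.app i₀) (pullback.snd f₂ σ₂) =
      pullback.fst (c.π.app i₀) (pullback.snd f₁ σ₁) := by
    simp only [e, Iso.trans_hom, Iso.symm_hom, Category.assoc]
    rw [H2.flip.isoPullback_hom_fst, H1.flip.isoPullback_inv_fst]
  obtain ⟨j, ej, hej, -⟩ := exists_iso_descend hc i₀ (pullback.snd f₁ σ₁) (pullback.snd f₂ σ₂) e he
  have hw : c.π.app j.left ≫ (D Γ(S, ⊤) A₁).map j.hom = c.π.app i₀ := c.w j.hom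
  refine ⟨pullback ((D Γ(S, ⊤) A₁).map j.hom) (pullback.snd f₁ σ₁), (D Γ(S, ⊤) A₁).obj j.left,
    pullback.fst _ _, s ≫ c.π.app j.left,
    pullback.lift (f ≫ s ≫ c.π.app j.left) r₁ (by
      rw [Category.assoc, Category.assoc, hw, pullback.lift_snd]),
    inferInstance, inferInstance, ?_, ?_, inferInstance, ?_, ?_⟩
  · refine IsPullback.of_right ?_ (pullback.lift_fst _ _ _)
      (IsPullback.of_hasPullback ((D Γ(S, ⊤) A₁).map j.hom) (pullback.snd f₁ σ₁)).flip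
    rw [pullback.lift_snd, Category.assoc, hw]
    exact H1'
  · have hftj : Algebra.FiniteType ℤ j.left.unop.1 :=
      (Subalgebra.fg_iff_finiteType j.left.unop.1).mp j.left.unop.2.1
    exact Algebra.FiniteType.equiv hftj
      (Scheme.ΓSpecIso (.of j.left.unop.1)).symm.commRingCatIsoToRingEquiv.toIntAlgEquiv
  · exact P.pullback_fst _ _ (P.pullback_snd _ _ hP)
  · rw [← hej]
    exact (Q.cancel_left_of_respectsIso _ _).mpr (Q.pullback_fst _ _ (Q.pullback_snd _ _ hQ))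

end Groth.Agent.Lead.NoethCombine
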