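import Mathlib
import Groth.Agent.Lead.NormFFC

/-!
# Restriction of finite étale covers of a normal integral scheme to the generic point is
fully faithful (S0245)
-/

set_option autoImplicit false
set_option linter.unusedSectionVars false
set_option linter.style.haveILetI false
universe u
open CategoryTheory CategoryTheory.Limits AlgebraicGeometry TopologicalSpace Opposite TensorProduct

namespace Groth.Agent.Lead.NormFF

/-- pure algebra: elements of `B ⊗_A K` integral over `A` come from `B` -/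
theorem exists_of_isIntegral_tensor (A : Type u) [CommRing A] [IsDomain A] [IsIntegrallyClosed A]
    (K : Type u) [Field K] [Algebra A K] [IsFractionRing A K]
    (B : Type u) [CommRing B] [Algebra A B] [Algebra.WeaklyEtale A B] (x : B ⊗[A] K)
    (hx : IsIntegral A x) : ∃ b : B, algebraMap B (B ⊗[A] K) b = x := by
  haveI := Groth.Agent.Helper2.WEInt.s1967 A K B
  exact IsIntegrallyClosedIn.isIntegral_iff.mp hx.tower_top

/-- transport of a fraction ring structure along ring isomorphisms on both sides -/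
theorem isFractionRing_of_equiv {A₀ F A K : Type*} [CommRing A₀] [CommRing F] [CommRing A]
    [CommRing K] [Algebra A₀ F] [IsFractionRing A₀ F] [IsDomain A₀] (α : A ≃+* A₀) (β : F ≃+* K)
    (φ : A →+* K) (hφ : ∀ a, φ a = β (algebraMap A₀ F (α a))) :
    letI := φ.toAlgebra
    IsFractionRing A K := by
  letI := φ.toAlgebra
  haveI : IsDomain A := α.toMulEquiv.isDomain A₀
  have hinj : Function.Injective φ := by
    intro x y hxy
    rw [hφ, hφ] at hxy
    exact α.injective (IsFractionRing.injective A₀ F (β.injective hxy))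
  refine ⟨?_, ?_, ?_⟩
  · rintro ⟨y, hy⟩
    change IsUnit (φ y)
    rw [hφ]
    have hy0 : α y ∈ nonZeroDivisors A₀ := by
      rw [mem_nonZeroDivisors_iff_ne_zero] at hy ⊢
      exact fun h0 => hy (α.injective (h0.trans (map_zero α).symm))
    exact (IsLocalization.map_units F ⟨α y, hy0⟩).map β
  · intro z
    obtain ⟨⟨a₀, s₀⟩, hs⟩ := IsLocalization.surj (nonZeroDivisors A₀) (β.symm z)
    have hs0 : α.symm s₀.1 ∈ nonZeroDivisors A := by
      have := s₀.2
      rw [mem_nonZeroDivisors_iff_ne_zero] at this ⊢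
      exact fun h0 => this (α.symm.injective (h0.trans (map_zero α.symm).symm))
    refine ⟨⟨α.symm a₀, ⟨α.symm s₀.1, hs0⟩⟩, ?_⟩
    change z * φ (α.symm s₀.1) = φ (α.symm a₀)
    rw [hφ, hφ, RingEquiv.apply_symm_apply, RingEquiv.apply_symm_apply]
    have h1 := congrArg β hs
    rw [map_mul, RingEquiv.apply_symm_apply] at h1
    exact h1
  · intro x y hxy
    exact ⟨1, by rw [hinj hxy]⟩

section AffineGeneric

variable {V' T : Scheme.{u}} [IsAffine V'] [IsIntegral V'] [IsAffine T] (jV : T ⟶ V')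

theorem existsUnique_affine (hV : Pi1.IsNormalScheme V')
    (hfr : letI := jV.appTop.hom.toAlgebra; IsFractionRing Γ(V', ⊤) Γ(T, ⊤))
    {Y Z : Scheme.{u}} (f : Y ⟶ V') (g : Z ⟶ V') [IsFinite f] [Etale f] [IsFinite g]
    (c : pullback f jV ⟶ Z) (hc : c ≫ g = pullback.fst f jV ≫ f) :
    ∃! a : Y ⟶ Z, a ≫ g = f ∧ pullback.fst f jV ≫ a = c := by
  haveI : IsAffine Y := isAffine_of_isAffineHom f
  haveI : IsAffine Z := isAffine_of_isAffineHom g
  haveI : IsIntegrallyClosed Γ(V', ⊤) :=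
    isIntegrallyClosed_of_stalks ⊤ (isAffineOpen_top _) (fun x _ => (hV x).2)
  letI : Algebra Γ(V', ⊤) Γ(T, ⊤) := jV.appTop.hom.toAlgebra
  haveI : IsFractionRing Γ(V', ⊤) Γ(T, ⊤) := hfr
  letI : Field Γ(T, ⊤) := IsFractionRing.toField Γ(V', ⊤)
  letI : Algebra Γ(V', ⊤) Γ(Y, ⊤) := f.appTop.hom.toAlgebra
  haveI : Algebra.Etale Γ(V', ⊤) Γ(Y, ⊤) :=
    (HasRingHomProperty.iff_of_isAffine (P := @Etale)).mp (inferInstance : Etale f)
  have hPO : IsPushout f.appTop jV.appTop (pullback.fst f jV).appTop (pullback.snd f jV).appTop :=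
    isPushout_appTop_of_isPullback (IsPullback.of_hasPullback f jV)
  have hTP := CommRingCat.isPushout_tensorProduct Γ(V', ⊤) Γ(Y, ⊤) Γ(T, ⊤)
  let e := hTP.isoIsPushout _ _ hPO
  have he : ∀ b : Γ(Y, ⊤), e.hom (algebraMap Γ(Y, ⊤) (Γ(Y, ⊤) ⊗[Γ(V', ⊤)] Γ(T, ⊤)) b) =
      (pullback.fst f jV).appTop b := by
    intro b
    have h1 := IsPushout.inl_isoIsPushout_hom _ _ hTP hPO
    exact congrArg (fun φ => φ.hom b) h1
  have hebij : Function.Bijective e.hom.hom :=
    (ConcreteCategory.isIso_iff_bijective e.hom).mp inferInstance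
  apply FFGlue2.existsUnique_of_integral (pullback.fst f jV) f g ?_ ?_ c hc
  · intro a b hab
    have hab' : (pullback.fst f jV).appTop a = (pullback.fst f jV).appTop b := hab
    rw [← he, ← he] at hab'
    exact Algebra.TensorProduct.includeLeft_injective (S := Γ(V', ⊤))
      (IsFractionRing.injective Γ(V', ⊤) Γ(T, ⊤)) (hebij.1 hab')
  · intro r hr
    obtain ⟨r₀, hr₀⟩ := hebij.2 r
    have hint : IsIntegral Γ(V', ⊤) r₀ := by
      obtain ⟨p, hp, hpr⟩ := hr
      refine ⟨p, hp, ?_⟩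
      apply hebij.1
      rw [map_zero]
      have h2 := Polynomial.hom_eval₂ p
        (algebraMap Γ(V', ⊤) (Γ(Y, ⊤) ⊗[Γ(V', ⊤)] Γ(T, ⊤))) e.hom.hom r₀
      have h3 : e.hom.hom.comp (algebraMap Γ(V', ⊤) (Γ(Y, ⊤) ⊗[Γ(V', ⊤)] Γ(T, ⊤))) =
          (pullback.fst f jV ≫ f).appTop.hom := by
        ext a
        change e.hom (algebraMap Γ(V', ⊤) (Γ(Y, ⊤) ⊗[Γ(V', ⊤)] Γ(T, ⊤)) a) = _
        rw [IsScalarTower.algebraMap_apply Γ(V', ⊤) Γ(Y, ⊤) (Γ(Y, ⊤) ⊗[Γ(V', ⊤)] Γ(T, ⊤)), he,
          Scheme.Hom.comp_appTop]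
        rfl
      rw [h3] at h2
      have hr₀' : e.hom.hom r₀ = r := hr₀
      rw [hr₀'] at h2
      exact h2.trans hpr
    obtain ⟨b, hb⟩ := exists_of_isIntegral_tensor Γ(V', ⊤) Γ(T, ⊤) Γ(Y, ⊤) r₀ hint
    refine ⟨b, ?_⟩
    change (pullback.fst f jV).appTop b = r
    rw [← he, hb]
    exact hr₀

end AffineGeneric

section Main

/-- full faithfulness of restriction along `j` from unique extension along `pullback.fst _ j` -/
theorem full_faithful_of_existsUnique {X T : Scheme.{u}} (j : T ⟶ X)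
    (hEU : ∀ (Y Y' : FEt.Cat X) (c : pullback Y.hom j ⟶ Y'.left)
      (_ : c ≫ Y'.hom = pullback.fst Y.hom j ≫ Y.hom),
      ∃! a : Y.left ⟶ Y'.left, a ≫ Y'.hom = Y.hom ∧ pullback.fst Y.hom j ≫ a = c) :
    (FEt.restrict j).Full ∧ (FEt.restrict j).Faithful := by
  constructor
  · refine ⟨fun {Y Y'} φ => ?_⟩
    let φl : pullback Y.hom j ⟶ pullback Y'.hom j := φ.left
    let f : Y.left ⟶ X := Y.hom
    let f' : Y'.left ⟶ X := Y'.hom
    have hφ : φl ≫ pullback.snd f' j = pullback.snd f j := by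
      have := MorphismProperty.Over.w φ
      exact this
    let c : pullback f j ⟶ Y'.left := φl ≫ pullback.fst f' j
    have hc : c ≫ f' = pullback.fst f j ≫ f := by
      calc c ≫ f' = φl ≫ (pullback.fst f' j ≫ f') := Category.assoc _ _ _
        _ = φl ≫ (pullback.snd f' j ≫ j) := by rw [pullback.condition]
        _ = (φl ≫ pullback.snd f' j) ≫ j := (Category.assoc _ _ _).symm
        _ = pullback.snd f j ≫ j := congrArg (· ≫ j) hφ
        _ = pullback.fst f j ≫ f := pullback.condition.symm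
    obtain ⟨a, ⟨ha1, ha2⟩, -⟩ := hEU Y Y' c hc
    refine ⟨MorphismProperty.Over.homMk a ha1 trivial, ?_⟩
    ext : 1
    apply pullback.hom_ext
    · refine (restrict_map_left_fst j _).trans ?_
      exact ha2
    · exact (restrict_map_left_snd j _).trans hφ.symm
  · refine ⟨fun {Y Y'} ψ₁ ψ₂ hψ => ?_⟩
    let f : Y.left ⟶ X := Y.hom
    let f' : Y'.left ⟶ X := Y'.hom
    have h1 : pullback.fst f j ≫ ψ₁.left = pullback.fst f j ≫ ψ₂.left := by
      rw [← restrict_map_left_fst, ← restrict_map_left_fst, hψ]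
    have hw1 : ψ₁.left ≫ f' = f := MorphismProperty.Over.w ψ₁
    have hw2 : ψ₂.left ≫ f' = f := MorphismProperty.Over.w ψ₂
    obtain ⟨a, -, ha⟩ := hEU Y Y' (pullback.fst f j ≫ ψ₁.left) (by rw [Category.assoc, hw1])
    have e1 := ha ψ₁.left ⟨hw1, rfl⟩
    have e2 := ha ψ₂.left ⟨hw2, h1.symm⟩
    ext : 1
    rw [e1, e2]

theorem generic_affine {V' T : Scheme.{u}} [IsAffine V'] [IsIntegral V'] [IsAffine T]
    (jV : T ⟶ V') (hV : Pi1.IsNormalScheme V')
    (hfr : letI := jV.appTop.hom.toAlgebra; IsFractionRing Γ(V', ⊤) Γ(T, ⊤)) :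
    (FEt.restrict jV).Full ∧ (FEt.restrict jV).Faithful := by
  apply full_faithful_of_existsUnique
  intro Y Y' c hc
  haveI : IsFinite Y.hom := Y.prop.1
  haveI : Etale Y.hom := Y.prop.2
  haveI : IsFinite Y'.hom := Y'.prop.1
  exact existsUnique_affine jV hV hfr Y.hom Y'.hom c hc

/-- the global functions of an affine open form an order in the function field, scheme form -/
theorem isFractionRing_fromSpecStalkOfMem {X : Scheme.{u}} [IsIntegral X] (V : X.Opens)
    (hV : IsAffineOpen V) (hη : genericPoint X ∈ V) :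
    letI := (V.fromSpecStalkOfMem (genericPoint X) hη).appTop.hom.toAlgebra
    IsFractionRing Γ((V : Scheme.{u}), ⊤)
      Γ(Spec (X.presheaf.stalk (genericPoint X)), ⊤) := by
  haveI : Nonempty V := ⟨⟨genericPoint X, hη⟩⟩
  haveI : IsFractionRing Γ(X, V) X.functionField :=
    functionField_isFractionRing_of_isAffineOpen X V hV
  haveI : IsDomain Γ(X, V) := inferInstance
  refine isFractionRing_of_equiv (A₀ := Γ(X, V)) (F := X.functionField)
    V.topIso.commRingCatIsoToRingEquiv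
    (Scheme.ΓSpecIso (X.presheaf.stalk (genericPoint X))).symm.commRingCatIsoToRingEquiv
    _ ?_
  intro a
  have h1 := congrArg Scheme.Hom.appTop (Scheme.Opens.fromSpecStalkOfMem_toSpecΓ V
    (genericPoint X) hη)
  rw [Scheme.Hom.comp_appTop, Scheme.Opens.toSpecΓ_appTop] at h1
  have h2 := Scheme.ΓSpecIso_naturality (X.presheaf.germ V (genericPoint X) hη)
  -- h2 : (Spec.map germ).appTop ≫ (ΓSpecIso F).hom = (ΓSpecIso A₀).hom ≫ germ
  have h3 : V.topIso.inv ≫ (V.fromSpecStalkOfMem (genericPoint X) hη).appTop =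
      X.presheaf.germ V (genericPoint X) hη ≫
        (Scheme.ΓSpecIso (X.presheaf.stalk (genericPoint X))).inv := by
    rw [← cancel_epi (Scheme.ΓSpecIso Γ(X, V)).hom, ← Category.assoc, h1,
      ← cancel_mono (Scheme.ΓSpecIso (X.presheaf.stalk (genericPoint X))).hom, Category.assoc,
      Category.assoc, Iso.inv_hom_id, Category.comp_id]
    exact h2
  have h4 := congrArg (fun φ => φ.hom (V.topIso.hom a)) h3
  simp only [CommRingCat.hom_comp, RingHom.comp_apply] at h4
  have h5 : V.topIso.inv.hom (V.topIso.hom.hom a) = a := by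
    rw [← RingHom.comp_apply, ← CommRingCat.hom_comp, Iso.hom_inv_id]
    rfl
  rw [h5] at h4
  exact h4

/-- S0245 -/
theorem main_generic {X : Scheme.{u}} [IsIntegral X] (hX : Pi1.IsNormalScheme X) :
    (FEt.restrict (X.fromSpecStalk (genericPoint X))).Full ∧
      (FEt.restrict (X.fromSpecStalk (genericPoint X))).Faithful := by
  obtain ⟨V, hV, hη⟩ : ∃ V : X.Opens, IsAffineOpen V ∧ genericPoint X ∈ V := by
    obtain ⟨V, hV, hη, -⟩ := Opens.isBasis_iff_nbhd.mp X.isBasis_affineOpens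
      (show genericPoint X ∈ (⊤ : X.Opens) from trivial)
    exact ⟨V, hV, hη⟩
  haveI : Nonempty V := ⟨⟨genericPoint X, hη⟩⟩
  haveI : IsAffine (V : Scheme.{u}) := hV
  haveI : IsIntegral (V : Scheme.{u}) := inferInstance
  have hVn : Pi1.IsNormalScheme (V : Scheme.{u}) := Groth.Agent.Helper2.WEInt.s7180 V.ι hX
  obtain ⟨hF1, hF2⟩ := main hX V ⟨genericPoint X, hη⟩
  obtain ⟨hG1, hG2⟩ := generic_affine (V.fromSpecStalkOfMem (genericPoint X) hη) hVn
    (isFractionRing_fromSpecStalkOfMem V hV hη)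
  let iso : FEt.restrict (X.fromSpecStalk (genericPoint X)) ≅
      FEt.restrict V.ι ⋙ FEt.restrict (V.fromSpecStalkOfMem (genericPoint X) hη) :=
    MorphismProperty.Over.pullbackComp (V.fromSpecStalkOfMem (genericPoint X) hη) V.ι
      (X.fromSpecStalk (genericPoint X))
      (Scheme.Opens.fromSpecStalkOfMem_ι V (genericPoint X) hη).symm
  exact ⟨Functor.Full.of_iso iso.symm, Functor.Faithful.of_iso iso.symm⟩

end Main

end Groth.Agent.Lead.NormFF
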