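import Mathlib
import Groth.Agent.Lead.NormFFD

/-!
# The essential image of restriction to the generic point (S9491)

For a normal integral scheme `X` with function field `K` and a finite extension `L / K`,
`Spec L` is the restriction of a finite étale cover of `X` iff the normalization of `X` in
`Spec L` is finite étale.
-/

set_option autoImplicit false
set_option linter.unusedSectionVars false
set_option linter.style.haveILetI false
universe u
open CategoryTheory CategoryTheory.Limits AlgebraicGeometry TopologicalSpace Opposite TensorProduct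

namespace Groth.Agent.Lead.NormFF

section AffineGenericPB

variable {V' T : Scheme.{u}} [IsAffine V'] [IsIntegral V'] [IsAffine T] (jV : T ⟶ V')

/-- For an étale affine `f : Y ⟶ V'` over a normal integral affine scheme and a pullback square
along the generic point, the global functions of the generic fibre integral over `Γ(V')` come from
`Γ(Y)`. -/
theorem generic_integral_range (hV : Pi1.IsNormalScheme V')
    (hfr : letI := jV.appTop.hom.toAlgebra; IsFractionRing Γ(V', ⊤) Γ(T, ⊤))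
    {Y P : Scheme.{u}} [IsAffine Y] (f : Y ⟶ V') [Etale f] (q : P ⟶ Y) (p : P ⟶ T)
    (hpb : IsPullback q p f jV) (r : Γ(P, ⊤)) (hr : ((q ≫ f).appTop.hom).IsIntegralElem r) :
    r ∈ Set.range q.appTop.hom := by
  haveI : IsIntegrallyClosed Γ(V', ⊤) :=
    isIntegrallyClosed_of_stalks ⊤ (isAffineOpen_top _) (fun x _ => (hV x).2)
  letI : Algebra Γ(V', ⊤) Γ(T, ⊤) := jV.appTop.hom.toAlgebra
  haveI : IsFractionRing Γ(V', ⊤) Γ(T, ⊤) := hfr
  letI : Field Γ(T, ⊤) := IsFractionRing.toField Γ(V', ⊤)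
  letI : Algebra Γ(V', ⊤) Γ(Y, ⊤) := f.appTop.hom.toAlgebra
  haveI : Algebra.Etale Γ(V', ⊤) Γ(Y, ⊤) :=
    (HasRingHomProperty.iff_of_isAffine (P := @Etale)).mp (inferInstance : Etale f)
  have hPO : IsPushout f.appTop jV.appTop q.appTop p.appTop :=
    isPushout_appTop_of_isPullback hpb
  have hTP := CommRingCat.isPushout_tensorProduct Γ(V', ⊤) Γ(Y, ⊤) Γ(T, ⊤)
  let e := hTP.isoIsPushout _ _ hPO
  have he : ∀ b : Γ(Y, ⊤), e.hom (algebraMap Γ(Y, ⊤) (Γ(Y, ⊤) ⊗[Γ(V', ⊤)] Γ(T, ⊤)) b) =
      q.appTop b := by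
    intro b
    have h1 := IsPushout.inl_isoIsPushout_hom _ _ hTP hPO
    exact congrArg (fun φ => φ.hom b) h1
  have hebij : Function.Bijective e.hom.hom :=
    (ConcreteCategory.isIso_iff_bijective e.hom).mp inferInstance
  obtain ⟨r₀, hr₀⟩ := hebij.2 r
  have hint : IsIntegral Γ(V', ⊤) r₀ := by
    obtain ⟨p', hp, hpr⟩ := hr
    refine ⟨p', hp, ?_⟩
    apply hebij.1
    rw [map_zero]
    have h2 := Polynomial.hom_eval₂ p'
      (algebraMap Γ(V', ⊤) (Γ(Y, ⊤) ⊗[Γ(V', ⊤)] Γ(T, ⊤))) e.hom.hom r₀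
    have h3 : e.hom.hom.comp (algebraMap Γ(V', ⊤) (Γ(Y, ⊤) ⊗[Γ(V', ⊤)] Γ(T, ⊤))) =
        (q ≫ f).appTop.hom := by
      ext a
      change e.hom (algebraMap Γ(V', ⊤) (Γ(Y, ⊤) ⊗[Γ(V', ⊤)] Γ(T, ⊤)) a) = _
      rw [IsScalarTower.algebraMap_apply Γ(V', ⊤) Γ(Y, ⊤) (Γ(Y, ⊤) ⊗[Γ(V', ⊤)] Γ(T, ⊤)), he,
        Scheme.Hom.comp_appTop]
      rfl
    rw [h3] at h2
    have hr₀' : e.hom.hom r₀ = r := hr₀
    rw [hr₀'] at h2
    exact h2.trans hpr
  obtain ⟨b, hb⟩ := exists_of_isIntegral_tensor Γ(V', ⊤) Γ(T, ⊤) Γ(Y, ⊤) r₀ hint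
  refine ⟨b, ?_⟩
  change q.appTop b = r
  rw [← he, hb]
  exact hr₀

end AffineGenericPB

section Pasting

/-- restricting a pullback square over an open through which the base-change morphism factors -/
theorem exists_isPullback_restrict {X Wl T P : Scheme.{u}} (g : Wl ⟶ X) (j : T ⟶ X)
    (U : X.Opens) (jU : T ⟶ U) (hj : jU ≫ U.ι = j) (q : P ⟶ Wl) (p : P ⟶ T)
    (h : IsPullback q p g j) :
    ∃ qU : P ⟶ (g ⁻¹ᵁ U), qU ≫ (g ⁻¹ᵁ U).ι = q ∧ qU ≫ (g ∣_ U) = p ≫ jU ∧
      IsPullback qU p (g ∣_ U) jU := by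
  have hrange : Set.range q ⊆ Set.range (g ⁻¹ᵁ U).ι := by
    rintro _ ⟨x, rfl⟩
    rw [Scheme.Opens.range_ι]
    change g (q x) ∈ U
    have h1 : g (q x) = j (p x) := by
      have := congrArg (fun φ : P ⟶ X => φ x) h.w
      simpa using this
    rw [h1, ← hj]
    exact (jU (p x)).2
  let qU : P ⟶ (g ⁻¹ᵁ U) := IsOpenImmersion.lift (g ⁻¹ᵁ U).ι q hrange
  have hq : qU ≫ (g ⁻¹ᵁ U).ι = q := IsOpenImmersion.lift_fac _ _ _
  have hp : qU ≫ (g ∣_ U) = p ≫ jU := by
    rw [← cancel_mono U.ι, Category.assoc, Category.assoc, morphismRestrict_ι, ← Category.assoc, hq,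
      h.w, hj]
  refine ⟨qU, hq, hp, ?_⟩
  refine IsPullback.of_right ?_ hp (isPullback_morphismRestrict g U).flip
  rw [hq, hj]
  exact h

end Pasting

section Range

theorem bijective_presheaf_map_of_le {X : Scheme.{u}} {A B : X.Opens} (h : A ≤ B) (h' : B ≤ A) :
    Function.Bijective (X.presheaf.map (homOfLE h).op).hom := by
  obtain rfl := le_antisymm h h'
  have : homOfLE h = 𝟙 A := Subsingleton.elim _ _
  rw [this, op_id, X.presheaf.map_id]
  exact Function.bijective_id

theorem isIntegralElem_of_comp_bijective {A A' B : Type*} [CommRing A] [CommRing A'] [CommRing B]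
    (σ : A →+* A') (φ : A' →+* B) (r : B) (h : (φ.comp σ).IsIntegralElem r) :
    φ.IsIntegralElem r := by
  obtain ⟨p, hp, hpr⟩ := h
  refine ⟨p.map σ, hp.map σ, ?_⟩
  rw [Polynomial.eval₂_map]
  exact hpr

variable {X : Scheme.{u}} [IsIntegral X]

/-- The key range statement: for an étale affine `g : Wl ⟶ X` over a normal integral scheme and a
pullback square `S = Wl ×_X Spec K`, sections of `S` integral over `Γ(X, U)` come from
`Γ(Wl, g⁻¹ U)`, for every affine open `U` containing the generic point. -/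
theorem range_of_isIntegralElem (hX : Pi1.IsNormalScheme X) {Wl S : Scheme.{u}} (g : Wl ⟶ X)
    [Etale g] [IsAffineHom g] (f₁ : S ⟶ Wl)
    (s : S ⟶ Spec (X.presheaf.stalk (genericPoint X)))
    (hpb : IsPullback f₁ s g (X.fromSpecStalk (genericPoint X)))
    (U : X.Opens) (hU : IsAffineOpen U) (hη : genericPoint X ∈ U)
    (r : Γ(S, f₁ ⁻¹ᵁ g ⁻¹ᵁ U))
    (hr : ((f₁.app (g ⁻¹ᵁ U)).hom.comp (g.app U).hom).IsIntegralElem r) :
    r ∈ Set.range (f₁.app (g ⁻¹ᵁ U)).hom := by
  haveI : Nonempty U := ⟨⟨genericPoint X, hη⟩⟩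
  haveI : IsAffine (U : Scheme.{u}) := hU
  haveI : IsIntegral (U : Scheme.{u}) := inferInstance
  have hUn : Pi1.IsNormalScheme (U : Scheme.{u}) := Groth.Agent.Helper2.WEInt.s7180 U.ι hX
  have hfr := isFractionRing_fromSpecStalkOfMem U hU hη
  have hVaff : IsAffineOpen (g ⁻¹ᵁ U) := hU.preimage g
  haveI : IsAffine ((g ⁻¹ᵁ U : Wl.Opens) : Scheme.{u}) := hVaff
  obtain ⟨qU, hq, hp, hpbU⟩ := exists_isPullback_restrict g (X.fromSpecStalk (genericPoint X)) U
    (U.fromSpecStalkOfMem (genericPoint X) hη)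
    (Scheme.Opens.fromSpecStalkOfMem_ι U (genericPoint X) hη) f₁ s hpb
  haveI : Etale (g ∣_ U) := inferInstance
  have htop : (⊤ : S.Opens) ≤ f₁ ⁻¹ᵁ g ⁻¹ᵁ U := by
    intro x _
    change f₁ x ∈ g ⁻¹ᵁ U
    have h1 : f₁ x = (g ⁻¹ᵁ U).ι (qU x) := by
      have := congrArg (fun φ : S ⟶ Wl => φ x) hq
      simpa using this.symm
    rw [h1]
    exact (qU x).2
  let res := S.presheaf.map (homOfLE htop).op
  have hresbij : Function.Bijective res.hom := bijective_presheaf_map_of_le htop le_top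
  -- the comparison of the two ring homs out of `Γ(X, U)`
  have hcomp : (f₁ ≫ g).appLE U ⊤ (by rw [Scheme.Hom.comp_preimage]; exact htop) =
      U.ι.appLE U ⊤ (by simp) ≫ (qU ≫ (g ∣_ U)).appTop := by
    have e1 : (qU ≫ (g ∣_ U)) ≫ U.ι = f₁ ≫ g := by
      rw [Category.assoc, morphismRestrict_ι, ← Category.assoc, hq]
    have e2 : (qU ≫ (g ∣_ U)).appTop = (qU ≫ (g ∣_ U)).appLE ⊤ ⊤ le_top := by
      simp [Scheme.Hom.appLE]
    rw [e2, Scheme.Hom.appLE_comp_appLE]
    congr 1
    exact e1.symm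
  have hint : ((qU ≫ (g ∣_ U)).appTop.hom).IsIntegralElem (res r) := by
    apply isIntegralElem_of_comp_bijective (U.ι.appLE U ⊤ (by simp)).hom
    rw [← CommRingCat.hom_comp, ← hcomp]
    obtain ⟨p, hp, hpr⟩ := hr
    refine ⟨p, hp, ?_⟩
    have h1 : ((f₁ ≫ g).appLE U ⊤ (by rw [Scheme.Hom.comp_preimage]; exact htop)).hom =
        res.hom.comp ((f₁.app (g ⁻¹ᵁ U)).hom.comp (g.app U).hom) := by
      rw [Scheme.Hom.comp_appLE, Scheme.Hom.appLE]
      rfl
    rw [h1, ← Polynomial.hom_eval₂, hpr, map_zero]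
  obtain ⟨c', hc'⟩ := generic_integral_range (U.fromSpecStalkOfMem (genericPoint X) hη) hUn hfr
    (g ∣_ U) qU s hpbU (res r) hint
  have hσbij : Function.Bijective ((g ⁻¹ᵁ U).ι.appLE (g ⁻¹ᵁ U) ⊤ (by simp)).hom := by
    rw [Scheme.Opens.ι_appLE]
    exact bijective_presheaf_map_of_le _ (by simp)
  obtain ⟨c, hc⟩ := hσbij.2 c'
  refine ⟨c, ?_⟩
  apply hresbij.1
  have h2 : res.hom ((f₁.app (g ⁻¹ᵁ U)).hom c) = (f₁.appLE (g ⁻¹ᵁ U) ⊤ htop).hom c := rfl
  rw [h2]
  have h3 : f₁.appLE (g ⁻¹ᵁ U) ⊤ htop =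
      (g ⁻¹ᵁ U).ι.appLE (g ⁻¹ᵁ U) ⊤ (by simp) ≫ qU.appTop := by
    have e2 : qU.appTop = qU.appLE ⊤ ⊤ le_top := by
      simp [Scheme.Hom.appLE]
    rw [e2, Scheme.Hom.appLE_comp_appLE]
    congr 1
    exact hq.symm
  rw [h3, CommRingCat.hom_comp, RingHom.comp_apply, hc]
  exact hc'

end Range

section IsoCriterion

variable {X S Wl : Scheme.{u}} (f : S ⟶ X) [QuasiCompact f] [QuasiSeparated f]

instance : IsSchemeTheoreticallyDominant f.toNormalization := ⟨f.ker_toNormalization⟩

/-- A morphism from the relative normalization to a scheme affine over the base is an isomorphism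
as soon as, over a cover by affine opens, the sections of the source integral over the base come
from the target. -/
theorem isIso_of_range (g : Wl ⟶ X) [IsAffineHom g] (f₁ : S ⟶ Wl) (h : f.normalization ⟶ Wl)
    (hτ : f.toNormalization ≫ h = f₁) (hν : h ≫ g = f.fromNormalization)
    {ι : Type*} (𝒰 : ι → X.Opens) (h𝒰 : ∀ i, IsAffineOpen (𝒰 i)) (hcov : iSup 𝒰 = ⊤)
    (hinj : ∀ i, Function.Injective (f₁.app (g ⁻¹ᵁ 𝒰 i)).hom)
    (hrange : ∀ i (r : Γ(S, f₁ ⁻¹ᵁ g ⁻¹ᵁ 𝒰 i)),
      ((f₁.app (g ⁻¹ᵁ 𝒰 i)).hom.comp (g.app (𝒰 i)).hom).IsIntegralElem r →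
      r ∈ Set.range (f₁.app (g ⁻¹ᵁ 𝒰 i)).hom) : IsIso h := by
  subst hτ
  haveI hint : IsIntegralHom (h ≫ g) := hν ▸ inferInstance
  haveI : IsAffineHom h := by
    haveI : IsAffineHom (h ≫ g) := inferInstance
    exact .of_comp h g
  have hcov' : ⨆ i, ((⟨g ⁻¹ᵁ 𝒰 i, (h𝒰 i).preimage g⟩ : Wl.affineOpens) : Wl.Opens) = ⊤ := by
    change ⨆ i, g ⁻¹ᵁ 𝒰 i = ⊤
    rw [← Scheme.Hom.preimage_iSup, hcov]
    rfl
  have key : ∀ i, ∀ V' : Wl.Opens, V' = g ⁻¹ᵁ 𝒰 i → IsIso (h.app V') := by
    rintro i V' rfl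
    rw [ConcreteCategory.isIso_iff_bijective]
    have hτinj : Function.Injective (f.toNormalization.app (h ⁻¹ᵁ g ⁻¹ᵁ 𝒰 i)).hom :=
      f.toNormalization.app_injective _
    constructor
    · intro a b hab
      apply hinj i
      change (f.toNormalization.app _).hom ((h.app _).hom a) =
        (f.toNormalization.app _).hom ((h.app _).hom b)
      exact congrArg _ hab
    · intro b
      have hb : ((h.app (g ⁻¹ᵁ 𝒰 i)).hom.comp (g.app (𝒰 i)).hom).IsIntegralElem b :=
        (h ≫ g).isIntegral_app (𝒰 i) (h𝒰 i) b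
      obtain ⟨p, hp, hpb⟩ := hb
      have hr : (((f.toNormalization ≫ h).app (g ⁻¹ᵁ 𝒰 i)).hom.comp
          (g.app (𝒰 i)).hom).IsIntegralElem ((f.toNormalization.app _).hom b) := by
        refine ⟨p, hp, ?_⟩
        have h1 := Polynomial.hom_eval₂ p ((h.app (g ⁻¹ᵁ 𝒰 i)).hom.comp (g.app (𝒰 i)).hom)
          (f.toNormalization.app (h ⁻¹ᵁ g ⁻¹ᵁ 𝒰 i)).hom b
        rw [hpb, map_zero] at h1
        exact h1.symm
      obtain ⟨c, hc⟩ := hrange i _ hr
      refine ⟨c, ?_⟩
      apply hτinj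
      exact hc
  rw [← MorphismProperty.isomorphisms.iff,
    HasAffineProperty.iff_of_iSup_eq_top (P := MorphismProperty.isomorphisms Scheme)
      (fun i => (⟨g ⁻¹ᵁ 𝒰 i, (h𝒰 i).preimage g⟩ : Wl.affineOpens)) hcov']
  intro i
  refine ⟨((h𝒰 i).preimage g).preimage h, ?_⟩
  rw [morphismRestrict_appTop]
  have h1 : IsIso (h.app ((g ⁻¹ᵁ 𝒰 i).ι ''ᵁ ⊤)) := key i _ (Scheme.Opens.ι_image_top _)
  have h2 : IsIso (f.normalization.presheaf.map
      (eqToHom (image_morphismRestrict_preimage h (g ⁻¹ᵁ 𝒰 i) ⊤)).op) := inferInstance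
  exact @IsIso.comp_isIso _ _ _ _ _ _ _ h1 h2

end IsoCriterion

section RingLemma

/-- If the image of `B` in a `K`-algebra `L` integral over `K = Frac A` contains the integral
closure of `A` in `L`, and `B → L` is injective, then `L` is the localization of `B` at the
nonzero elements of `A`. -/
theorem isLocalization_map_of_integralClosure {A K B L : Type*} [CommRing A] [IsDomain A]
    [Field K] [Algebra A K] [IsFractionRing A K] [CommRing B] [CommRing L]
    (φ : A →+* B) (ψ : B →+* L) (κ : K →+* L) (hcomm : κ.comp (algebraMap A K) = ψ.comp φ)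
    (hκ : κ.IsIntegral) (hψ : Function.Injective ψ)
    (hrange : ∀ x : L, (ψ.comp φ).IsIntegralElem x → x ∈ Set.range ψ) :
    letI := ψ.toAlgebra
    IsLocalization ((nonZeroDivisors A).map φ) L := by
  letI := ψ.toAlgebra
  letI : Algebra K L := κ.toAlgebra
  letI : Algebra A L := (ψ.comp φ).toAlgebra
  haveI : IsScalarTower A K L := IsScalarTower.of_algebraMap_eq' hcomm.symm
  refine ⟨?_, ?_, ?_⟩
  · rintro ⟨y, a, ha, rfl⟩
    change IsUnit (ψ (φ a))
    have h1 : ψ (φ a) = κ (algebraMap A K a) := by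
      have := congrArg (fun χ : A →+* L => χ a) hcomm
      exact this.symm
    rw [h1]
    exact (IsLocalization.map_units K ⟨a, ha⟩).map κ
  · intro z
    obtain ⟨⟨a, ha⟩, hint⟩ := IsIntegral.exists_multiple_integral_of_isLocalization
      (nonZeroDivisors A) (Rₘ := K) z (hκ z)
    obtain ⟨b, hb⟩ := hrange _ hint
    refine ⟨⟨b, ⟨φ a, a, ha, rfl⟩⟩, ?_⟩
    change z * ψ (φ a) = ψ b
    rw [hb, Submonoid.smul_def, Algebra.smul_def, mul_comm]
    rfl
  · intro b₁ b₂ hb
    exact ⟨1, by rw [hψ hb]⟩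

end RingLemma

section Forward

variable {X : Scheme.{u}} [IsIntegral X]

instance isDominant_fromSpecStalk_genericPoint :
    IsDominant (X.fromSpecStalk (genericPoint X)) := by
  refine ⟨?_⟩
  have h1 : genericPoint X ∈ Set.range (X.fromSpecStalk (genericPoint X)) :=
    ⟨IsLocalRing.closedPoint _, Scheme.fromSpecStalk_closedPoint⟩
  rw [DenseRange, dense_iff_closure_eq, ← Set.univ_subset_iff, ← (genericPoint_spec X).def]
  exact closure_mono (Set.singleton_subset_iff.mpr h1)

instance isSchemeTheoreticallyDominant_fromSpecStalk_genericPoint :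
    IsSchemeTheoreticallyDominant (X.fromSpecStalk (genericPoint X)) :=
  .of_isDominant _

theorem iSup_affineOpens_genericPoint :
    ⨆ U : {U : X.affineOpens // genericPoint X ∈ U.1}, (U.1.1 : X.Opens) = ⊤ := by
  rw [eq_top_iff]
  intro x _
  obtain ⟨U, hU, hxU, -⟩ := Opens.isBasis_iff_nbhd.mp X.isBasis_affineOpens
    (show x ∈ (⊤ : X.Opens) from trivial)
  have hη : genericPoint X ∈ U :=
    ((genericPoint_spec X).mem_open_set_iff U.2).mpr ⟨x, trivial, hxU⟩
  exact Opens.mem_iSup.mpr ⟨⟨⟨U, hU⟩, hη⟩, hxU⟩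

/-- If the generic fibre `S` of a finite étale cover `Wl` of a normal integral scheme is given,
then the normalization of `X` in `S` is (isomorphic to `Wl`, hence) finite étale. -/
theorem finite_etale_fromNormalization (hX : Pi1.IsNormalScheme X) {S Wl : Scheme.{u}}
    (s : S ⟶ Spec (X.presheaf.stalk (genericPoint X)))
    [QuasiCompact (s ≫ X.fromSpecStalk (genericPoint X))]
    [QuasiSeparated (s ≫ X.fromSpecStalk (genericPoint X))]
    (g : Wl ⟶ X) [IsFinite g] [Etale g] (f₁ : S ⟶ Wl)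
    (hpb : IsPullback f₁ s g (X.fromSpecStalk (genericPoint X))) :
    Etale (s ≫ X.fromSpecStalk (genericPoint X)).fromNormalization ∧
      IsFinite (s ≫ X.fromSpecStalk (genericPoint X)).fromNormalization := by
  set f := s ≫ X.fromSpecStalk (genericPoint X) with hf
  have H : f = f₁ ≫ g := hpb.w.symm
  let h := f.normalizationDesc f₁ g H
  have hτ : f.toNormalization ≫ h = f₁ := f.toNormalization_normalizationDesc f₁ g H
  have hν : h ≫ g = f.fromNormalization := f.normalizationDesc_comp f₁ g H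
  haveI : IsSchemeTheoreticallyDominant f₁ :=
    IsSchemeTheoreticallyDominant.of_isPullback hpb.flip
  haveI : QuasiCompact f₁ :=
    MorphismProperty.of_isPullback (P := @QuasiCompact) hpb.flip inferInstance
  haveI : IsIso h := by
    refine isIso_of_range f g f₁ h hτ hν
      (fun U : {U : X.affineOpens // genericPoint X ∈ U.1} => U.1.1) (fun U => U.1.2)
      iSup_affineOpens_genericPoint (fun U => f₁.app_injective _) ?_
    intro U r hr
    exact range_of_isIntegralElem hX g f₁ s hpb U.1.1 U.1.2 U.2 r hr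
  rw [← hν]
  exact ⟨inferInstance, inferInstance⟩

end Forward

section Backward

theorem isIntegralElem_comp_of_bijective {A A' B : Type*} [CommRing A] [CommRing A'] [CommRing B]
    (σ : A →+* A') (hσ : Function.Bijective σ) (φ : A' →+* B) (r : B) (h : φ.IsIntegralElem r) :
    (φ.comp σ).IsIntegralElem r := by
  obtain ⟨p, hp, hpr⟩ := h
  let e := RingEquiv.ofBijective σ hσ
  refine ⟨p.map e.symm.toRingHom, hp.map _, ?_⟩
  rw [Polynomial.eval₂_map]
  have h1 : (φ.comp σ).comp e.symm.toRingHom = φ := by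
    ext a
    change φ (σ (e.symm a)) = φ a
    congr 1
    exact e.apply_symm_apply a
  rw [h1]
  exact hpr

variable {X : Scheme.{u}} [IsIntegral X]

theorem fromSpecStalk_genericPoint_mem (U : X.Opens) (hη : genericPoint X ∈ U)
    (y : Spec (X.presheaf.stalk (genericPoint X))) :
    X.fromSpecStalk (genericPoint X) y ∈ U := by
  have h1 : X.fromSpecStalk (genericPoint X) y ∈
      Set.range (X.fromSpecStalk (genericPoint X)) := ⟨y, rfl⟩
  rw [Scheme.range_fromSpecStalk] at h1
  exact h1.mem_open U.2 hη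

/-- The generic fibre of the normalization of `X` in `S` is `S`, for `S` integral over the
function field. -/
theorem isIso_lift_toNormalization {S : Scheme.{u}}
    (s : S ⟶ Spec (X.presheaf.stalk (genericPoint X))) [IsIntegralHom s]
    [QuasiCompact (s ≫ X.fromSpecStalk (genericPoint X))]
    [QuasiSeparated (s ≫ X.fromSpecStalk (genericPoint X))] :
    IsIso (pullback.lift (s ≫ X.fromSpecStalk (genericPoint X)).toNormalization s
      (Scheme.Hom.toNormalization_fromNormalization _) :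
      S ⟶ pullback (s ≫ X.fromSpecStalk (genericPoint X)).fromNormalization
        (X.fromSpecStalk (genericPoint X))) := by
  set j := X.fromSpecStalk (genericPoint X) with hj
  set f := s ≫ j with hf
  set m : S ⟶ pullback f.fromNormalization j :=
    pullback.lift f.toNormalization s (Scheme.Hom.toNormalization_fromNormalization _) with hm
  obtain ⟨U, hU, hη⟩ : ∃ U : X.Opens, IsAffineOpen U ∧ genericPoint X ∈ U := by
    obtain ⟨V, hV, hη, -⟩ := Opens.isBasis_iff_nbhd.mp X.isBasis_affineOpens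
      (show genericPoint X ∈ (⊤ : X.Opens) from trivial)
    exact ⟨V, hV, hη⟩
  haveI : Nonempty U := ⟨⟨genericPoint X, hη⟩⟩
  haveI : IsAffine (U : Scheme.{u}) := hU
  haveI : IsIntegral (U : Scheme.{u}) := inferInstance
  have hfr := isFractionRing_fromSpecStalkOfMem U hU hη
  set jU := U.fromSpecStalkOfMem (genericPoint X) hη with hjU
  have hjUι : jU ≫ U.ι = j := Scheme.Opens.fromSpecStalkOfMem_ι U (genericPoint X) hη
  letI : Algebra Γ((U : Scheme.{u}), ⊤) Γ(Spec (X.presheaf.stalk (genericPoint X)), ⊤) :=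
    jU.appTop.hom.toAlgebra
  haveI : IsFractionRing Γ((U : Scheme.{u}), ⊤)
      Γ(Spec (X.presheaf.stalk (genericPoint X)), ⊤) := hfr
  letI : Field Γ(Spec (X.presheaf.stalk (genericPoint X)), ⊤) :=
    IsFractionRing.toField Γ((U : Scheme.{u}), ⊤)
  haveI : IsAffine S := isAffine_of_isAffineHom s
  have hVaff : IsAffineOpen (f.fromNormalization ⁻¹ᵁ U) := hU.preimage f.fromNormalization
  haveI : IsAffine ((f.fromNormalization ⁻¹ᵁ U : f.normalization.Opens) : Scheme.{u}) := hVaff
  obtain ⟨fstU, hfst, hfstν, hpbU⟩ := exists_isPullback_restrict f.fromNormalization j U jU hjUι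
    (pullback.fst f.fromNormalization j) (pullback.snd f.fromNormalization j)
    (IsPullback.of_hasPullback _ _)
  have H1 := isPushout_appTop_of_isPullback hpbU
  -- the second pushout
  set τU : S ⟶ (f.fromNormalization ⁻¹ᵁ U : f.normalization.Opens) := m ≫ fstU with hτU
  have hτUι : τU ≫ (f.fromNormalization ⁻¹ᵁ U).ι = f.toNormalization := by
    rw [hτU, Category.assoc, hfst, hm, pullback.lift_fst]
  have hτUν : τU ≫ (f.fromNormalization ∣_ U) = s ≫ jU := by
    rw [hτU, Category.assoc, hfstν, ← Category.assoc, hm, pullback.lift_snd]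
  have hfU : (⊤ : S.Opens) ≤ f ⁻¹ᵁ U := by
    intro x _
    change j (s x) ∈ U
    exact fromSpecStalk_genericPoint_mem U hη _
  have hτtop : (⊤ : S.Opens) ≤ f.toNormalization ⁻¹ᵁ f.fromNormalization ⁻¹ᵁ U := by
    intro x hx
    have := hfU hx
    rw [← Scheme.Hom.comp_preimage, Scheme.Hom.toNormalization_fromNormalization]
    exact this
  have hσV : Function.Bijective ((f.fromNormalization ⁻¹ᵁ U).ι.appLE
      (f.fromNormalization ⁻¹ᵁ U) ⊤ (by simp)).hom := by
    rw [Scheme.Opens.ι_appLE]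
    exact bijective_presheaf_map_of_le _ (by simp)
  have hσU : Function.Bijective (U.ι.appLE U ⊤ (by simp)).hom := by
    rw [Scheme.Opens.ι_appLE]
    exact bijective_presheaf_map_of_le _ (by simp)
  have hτapp : f.toNormalization.appLE (f.fromNormalization ⁻¹ᵁ U) ⊤ hτtop =
      (f.fromNormalization ⁻¹ᵁ U).ι.appLE (f.fromNormalization ⁻¹ᵁ U) ⊤ (by simp) ≫
        τU.appTop := by
    have e2 : τU.appTop = τU.appLE ⊤ ⊤ le_top := by
      simp [Scheme.Hom.appLE]
    rw [e2, Scheme.Hom.appLE_comp_appLE]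
    congr 1
    exact hτUι.symm
  have hres : Function.Bijective (S.presheaf.map (homOfLE hτtop).op).hom :=
    bijective_presheaf_map_of_le hτtop le_top
  have hψ : Function.Injective τU.appTop.hom := by
    intro a b hab
    obtain ⟨a₀, rfl⟩ := hσV.2 a
    obtain ⟨b₀, rfl⟩ := hσV.2 b
    congr 1
    apply f.toNormalization.app_injective (f.fromNormalization ⁻¹ᵁ U)
    apply hres.1
    change (f.toNormalization.appLE (f.fromNormalization ⁻¹ᵁ U) ⊤ hτtop).hom a₀ =
      (f.toNormalization.appLE (f.fromNormalization ⁻¹ᵁ U) ⊤ hτtop).hom b₀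
    rw [hτapp]
    exact hab
  -- integral elements come from the normalization
  have hrange : ∀ x : Γ(S, ⊤),
      (τU.appTop.hom.comp (f.fromNormalization ∣_ U).appTop.hom).IsIntegralElem x →
      x ∈ Set.range τU.appTop.hom := by
    intro x hx
    let ρ := S.presheaf.map (homOfLE (le_top : f ⁻¹ᵁ U ≤ ⊤)).op
    have hρ : Function.Bijective ρ.hom := bijective_presheaf_map_of_le le_top hfU
    have hid : f.app U = (U.ι.appLE U ⊤ (by simp) ≫ (τU ≫ (f.fromNormalization ∣_ U)).appTop) ≫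
        ρ := by
      have e1 : (τU ≫ (f.fromNormalization ∣_ U)) ≫ U.ι = f := by
        rw [Category.assoc, morphismRestrict_ι, ← Category.assoc, hτUι,
          Scheme.Hom.toNormalization_fromNormalization]
      have e2 : (τU ≫ (f.fromNormalization ∣_ U)).appTop =
          (τU ≫ (f.fromNormalization ∣_ U)).appLE ⊤ ⊤ le_top := by
        simp [Scheme.Hom.appLE]
      rw [e2, Scheme.Hom.appLE_comp_appLE, Scheme.Hom.appLE_map, Scheme.Hom.app_eq_appLE]
      congr 1
      exact e1.symm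
    have hx' := isIntegralElem_comp_of_bijective (U.ι.appLE U ⊤ (by simp)).hom hσU _ x hx
    obtain ⟨p, hp, hpx⟩ := hx'
    have hint : (f.app U).hom.IsIntegralElem (ρ.hom x) := by
      refine ⟨p, hp, ?_⟩
      have h1 : (f.app U).hom = ρ.hom.comp ((τU.appTop.hom.comp
          (f.fromNormalization ∣_ U).appTop.hom).comp (U.ι.appLE U ⊤ (by simp)).hom) := by
        rw [hid]
        rfl
      rw [h1, ← Polynomial.hom_eval₂, hpx, map_zero]
    letI := (f.app U).hom.toAlgebra
    have hmem : ρ.hom x ∈ integralClosure Γ(X, U) Γ(S, f ⁻¹ᵁ U) := hint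
    let n := (f.normalizationObjIso hU).inv.hom ⟨ρ.hom x, hmem⟩
    have hval := f.normalizationObjIso_hom_val hU
    have hn : (f.toNormalization.appLE (f.fromNormalization ⁻¹ᵁ U) (f ⁻¹ᵁ U)
        (by simp [← Scheme.Hom.comp_preimage])).hom n = ρ.hom x := by
      rw [← hval]
      change ((f.normalizationObjIso hU).hom.hom ((f.normalizationObjIso hU).inv.hom
        ⟨ρ.hom x, hmem⟩)).1 = ρ.hom x
      have h2 : (f.normalizationObjIso hU).hom.hom ((f.normalizationObjIso hU).inv.hom
          ⟨ρ.hom x, hmem⟩) = ⟨ρ.hom x, hmem⟩ := by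
        rw [← RingHom.comp_apply, ← CommRingCat.hom_comp, Iso.inv_hom_id]
        rfl
      rw [h2]
    refine ⟨((f.fromNormalization ⁻¹ᵁ U).ι.appLE (f.fromNormalization ⁻¹ᵁ U) ⊤ (by simp)).hom n, ?_⟩
    apply hρ.1
    rw [← hn]
    have h3 : f.toNormalization.appLE (f.fromNormalization ⁻¹ᵁ U) (f ⁻¹ᵁ U)
        (by simp [← Scheme.Hom.comp_preimage]) =
        f.toNormalization.appLE (f.fromNormalization ⁻¹ᵁ U) ⊤ hτtop ≫ ρ := by
      rw [Scheme.Hom.appLE_map]
    rw [h3, hτapp]
    rfl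
  have hκ : s.appTop.hom.IsIntegral := s.isIntegral_app ⊤ (isAffineOpen_top _)
  have hcomm : s.appTop.hom.comp (algebraMap Γ((U : Scheme.{u}), ⊤)
      Γ(Spec (X.presheaf.stalk (genericPoint X)), ⊤)) =
      τU.appTop.hom.comp (f.fromNormalization ∣_ U).appTop.hom := by
    have h1 := congrArg Scheme.Hom.appTop hτUν
    rw [Scheme.Hom.comp_appTop, Scheme.Hom.comp_appTop] at h1
    exact congrArg CommRingCat.Hom.hom h1.symm
  have hloc := isLocalization_map_of_integralClosure (f.fromNormalization ∣_ U).appTop.hom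
    τU.appTop.hom s.appTop.hom hcomm hκ hψ hrange
  letI : Algebra Γ(((f.fromNormalization ⁻¹ᵁ U : f.normalization.Opens) : Scheme.{u}), ⊤)
      Γ(S, ⊤) := τU.appTop.hom.toAlgebra
  haveI := hloc
  have H2 : IsPushout (f.fromNormalization ∣_ U).appTop jU.appTop τU.appTop s.appTop :=
    CommRingCat.isPushout_of_isLocalization (f.fromNormalization ∣_ U).appTop.hom s.appTop.hom
      hcomm (nonZeroDivisors _)
  let φ := H1.isoIsPushout _ _ H2
  have hmφ : m.appTop = φ.hom := by
    apply H1.hom_ext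
    · rw [IsPushout.inl_isoIsPushout_hom, ← Scheme.Hom.comp_appTop]
    · rw [IsPushout.inr_isoIsPushout_hom, ← Scheme.Hom.comp_appTop, hm, pullback.lift_snd]
  have hiso : IsIso m.appTop := hmφ ▸ inferInstance
  exact (HasAffineProperty.iff_of_isAffine (P := MorphismProperty.isomorphisms Scheme)).mpr
    ⟨inferInstance, hiso⟩

end Backward

section Main

/-- S9491 -/
theorem main_essImage {X : Scheme.{u}} [IsIntegral X] (hX : Pi1.IsNormalScheme X)
    (L : Type u) [Field L] [Algebra X.functionField L] [FiniteDimensional X.functionField L]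
    [QuasiCompact (Spec.map (CommRingCat.ofHom (algebraMap X.functionField L)) ≫
      X.fromSpecStalk (genericPoint X))]
    [QuasiSeparated (Spec.map (CommRingCat.ofHom (algebraMap X.functionField L)) ≫
      X.fromSpecStalk (genericPoint X))]
    (Y₀ : FEt.Cat (Spec X.functionField)) (e : Y₀.left ≅ Spec (CommRingCat.of L))
    (he : e.hom ≫ Spec.map (CommRingCat.ofHom (algebraMap X.functionField L)) = Y₀.hom) :
    (FEt.restrict (X.fromSpecStalk (genericPoint X))).essImage Y₀ ↔
      (Etale (Spec.map (CommRingCat.ofHom (algebraMap X.functionField L)) ≫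
          X.fromSpecStalk (genericPoint X)).fromNormalization ∧
        IsFinite (Spec.map (CommRingCat.ofHom (algebraMap X.functionField L)) ≫
          X.fromSpecStalk (genericPoint X)).fromNormalization) := by
  constructor
  · rintro ⟨W, ⟨θ⟩⟩
    haveI : IsFinite W.hom := W.prop.1
    haveI : Etale W.hom := W.prop.2
    let θl : pullback W.hom (X.fromSpecStalk (genericPoint X)) ≅ Y₀.left :=
      (MorphismProperty.Over.forget _ _ _ ⋙ Over.forget _).mapIso θ
    have hθ : θl.hom ≫ Y₀.hom = pullback.snd W.hom (X.fromSpecStalk (genericPoint X)) :=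
      MorphismProperty.Over.w θ.hom
    let ι' : Spec (CommRingCat.of L) ≅ pullback W.hom (X.fromSpecStalk (genericPoint X)) :=
      e.symm ≪≫ θl.symm
    have hι : ι'.hom ≫ pullback.snd W.hom (X.fromSpecStalk (genericPoint X)) =
        Spec.map (CommRingCat.ofHom (algebraMap X.functionField L)) := by
      rw [← hθ]
      change (e.inv ≫ θl.inv) ≫ θl.hom ≫ Y₀.hom = _
      rw [Category.assoc, Iso.inv_hom_id_assoc, ← he, Iso.inv_hom_id_assoc]
    have hpb : IsPullback (ι'.hom ≫ pullback.fst W.hom (X.fromSpecStalk (genericPoint X)))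
        (Spec.map (CommRingCat.ofHom (algebraMap X.functionField L))) W.hom
        (X.fromSpecStalk (genericPoint X)) :=
      IsPullback.of_iso (IsPullback.of_hasPullback W.hom (X.fromSpecStalk (genericPoint X)))
        ι'.symm (Iso.refl _) (Iso.refl _) (Iso.refl _) (by simp) (by rw [← hι]; simp) (by simp)
        (by simp)
    exact finite_etale_fromNormalization hX _ W.hom _ hpb
  · rintro ⟨het, hfin⟩
    haveI : IsFinite (Spec.map (CommRingCat.ofHom (algebraMap X.functionField L))) := by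
      rw [IsFinite.SpecMap_iff]
      exact RingHom.finite_algebraMap.mpr inferInstance
    haveI hint : IsIntegralHom (Spec.map (CommRingCat.ofHom (algebraMap X.functionField L))) :=
      inferInstance
    have hiso := @isIso_lift_toNormalization X _ _
      (Spec.map (CommRingCat.ofHom (algebraMap X.functionField L))) hint _ _
    let W : FEt.Cat X := MorphismProperty.Over.mk ⊤ _ ⟨hfin, het⟩
    refine ⟨W, ⟨?_⟩⟩
    let m : Spec (CommRingCat.of L) ⟶
        pullback (Spec.map (CommRingCat.ofHom (algebraMap X.functionField L)) ≫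
          X.fromSpecStalk (genericPoint X)).fromNormalization (X.fromSpecStalk (genericPoint X)) :=
      pullback.lift _ _ (Scheme.Hom.toNormalization_fromNormalization _)
    haveI : IsIso m := hiso
    refine MorphismProperty.Over.isoMk ((asIso m).symm ≪≫ e.symm) ?_
    change (inv m ≫ e.inv) ≫ Y₀.hom = pullback.snd _ _
    rw [Category.assoc, ← he, Iso.inv_hom_id_assoc, IsIso.inv_comp_eq, pullback.lift_snd]

end Main

end Groth.Agent.Lead.NormFF
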