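import Mathlib
import Groth.Prelude
import Groth.Agent.Helper2.LocCritFP

/-!
# A nonzerodivisor with flat quotient: flatness of the ambient ring (essentially finitely
presented case)
-/

set_option autoImplicit false
open Function IsLocalRing TensorProduct
universe u

namespace Groth.Agent.Lead.NzdFlatA

variable {R P T : Type u} [CommRing R] [CommRing P] [CommRing T] [IsLocalRing R] [IsLocalRing P]
  [IsLocalRing T] [Algebra R P] [Algebra P T] [Algebra R T] [IsScalarTower R P T]
  [IsLocalHom (algebraMap R P)]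

/-- the key inclusion `K ∩ J ⊆ JK + t̃ (K ∩ J)`. -/
theorem key_incl (hsurj : Surjective (algebraMap P T)) (t : T) (hnzd : t ∈ nonZeroDivisors T)
    [Module.Flat R (T ⧸ Ideal.span {t})] (tt : P) (htt : algebraMap P T tt = t)
    (z : P) (hzK : z ∈ RingHom.ker (algebraMap P T))
    (hzJ : z ∈ (maximalIdeal R).map (algebraMap R P)) :
    z ∈ (maximalIdeal R).map (algebraMap R P) * RingHom.ker (algebraMap P T) ⊔
      Ideal.span {tt} * (RingHom.ker (algebraMap P T) ⊓ (maximalIdeal R).map (algebraMap R P)) := by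
  set K := RingHom.ker (algebraMap P T) with hK
  set J := (maximalIdeal R).map (algebraMap R P) with hJ
  let f : P →ₗ[R] T ⧸ Ideal.span {t} :=
    (Ideal.Quotient.mkₐ R (Ideal.span {t})).toLinearMap ∘ₗ (IsScalarTower.toAlgHom R P T).toLinearMap
  have hf : ∀ p : P, f p = Ideal.Quotient.mk (Ideal.span {t}) (algebraMap P T p) := fun _ => rfl
  have hfs : Surjective f := by
    intro y
    obtain ⟨y, rfl⟩ := Ideal.Quotient.mk_surjective y
    obtain ⟨p, rfl⟩ := hsurj y
    exact ⟨p, rfl⟩
  have hfl := LinearMap.ker_inf_smul_top_eq_smul_of_flat (maximalIdeal R) f hfs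
  have h1 : z ∈ LinearMap.ker f ⊓ (maximalIdeal R) • (⊤ : Submodule R P) := by
    refine ⟨?_, ?_⟩
    · refine LinearMap.mem_ker.mpr ?_
      rw [hf, RingHom.mem_ker.mp hzK, map_zero]
    · rw [Ideal.smul_top_eq_map]
      exact hzJ
  rw [hfl] at h1
  -- `𝔪 • ker f ⊆ JK + t̃ J`
  have h2 : z ∈ J * K ⊔ Ideal.span {tt} * J := by
    refine Submodule.smul_induction_on h1 ?_ ?_
    · intro r hr b hb
      rw [LinearMap.mem_ker, hf, Ideal.Quotient.eq_zero_iff_mem, Ideal.mem_span_singleton'] at hb
      obtain ⟨c, hc⟩ := hb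
      obtain ⟨cc, rfl⟩ := hsurj c
      have hbk : b - cc * tt ∈ K := by
        rw [hK, RingHom.mem_ker, map_sub, map_mul, htt, hc, sub_self]
      have hrJ : algebraMap R P r ∈ J := Ideal.mem_map_of_mem _ hr
      have e : r • b = algebraMap R P r * (b - cc * tt) + tt * (algebraMap R P r * cc) := by
        rw [Algebra.smul_def]; ring
      rw [e]
      refine Submodule.add_mem_sup (Ideal.mul_mem_mul hrJ hbk) ?_
      exact Ideal.mul_mem_mul (Ideal.mem_span_singleton_self tt) (J.mul_mem_right cc hrJ)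
    · intro x y hx hy
      exact add_mem hx hy
  obtain ⟨k₁, hk₁, v, hv, hkv⟩ := Submodule.mem_sup.mp h2
  rw [Ideal.mem_span_singleton_mul] at hv
  obtain ⟨w, hwJ, rfl⟩ := hv
  have hk₁K : k₁ ∈ K := Ideal.mul_le_right hk₁
  have hwK : w ∈ K := by
    have h3 : algebraMap P T (tt * w) = 0 := by
      have : tt * w = z - k₁ := by rw [← hkv]; ring
      rw [this, map_sub, RingHom.mem_ker.mp hzK, RingHom.mem_ker.mp hk₁K, sub_self]
    rw [map_mul, htt, mul_comm] at h3
    exact RingHom.mem_ker.mpr ((mul_right_mem_nonZeroDivisors_eq_zero_iff hnzd).mp h3)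
  rw [← hkv]
  exact Submodule.add_mem_sup hk₁
    (Ideal.mul_mem_mul (Ideal.mem_span_singleton_self tt) ⟨hwK, hwJ⟩)

/-- **Flatness from a nonzerodivisor with flat quotient**, abstract presentation form. -/
theorem flat_of_nzd_aux (hP : CAlgX.IsEssFinitePresentation R P) [Module.Flat R P]
    (hsurj : Surjective (algebraMap P T)) (hKfg : (RingHom.ker (algebraMap P T)).FG)
    (t : T) (ht : t ∈ maximalIdeal T) (hnzd : t ∈ nonZeroDivisors T)
    [Module.Flat R (T ⧸ Ideal.span {t})] : Module.Flat R T := by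
  classical
  obtain ⟨tt, htt⟩ := hsurj t
  set K := RingHom.ker (algebraMap P T) with hK
  set J := (maximalIdeal R).map (algebraMap R P) with hJ
  have httm : Ideal.span {tt} ≤ Ideal.jacobson (⊥ : Ideal P) := by
    rw [IsLocalRing.jacobson_eq_maximalIdeal ⊥ bot_ne_top, Ideal.span_singleton_le_iff_mem,
      mem_maximalIdeal, mem_nonunits_iff]
    intro hu
    have : IsUnit t := htt ▸ hu.map (algebraMap P T)
    exact (mem_maximalIdeal t).mp ht this
  haveI : IsNoetherianRing (P ⧸ J) := Groth.Agent.Helper2.LocCritFP.isNoetherianRing_quot_of_essFP hP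
  haveI : Module.Finite P K := Module.Finite.iff_fg.mpr hKfg
  -- the main inclusion `K ∩ J ⊆ JK`
  have main : K ⊓ J ≤ J * K := by
    obtain ⟨W₀', hW₀'fg, hW₀'le, hle'⟩ := Groth.Agent.Helper2.LocCritFP.exists_fg_le_sup J
      (G := K) (Submodule.comap K.subtype (K ⊓ J))
    set W₀ : Ideal P := W₀'.map K.subtype with hW₀
    have hW₀fg : W₀.FG := hW₀'fg.map _
    have hW₀le : W₀ ≤ K ⊓ J := by
      rw [hW₀, Submodule.map_le_iff_le_comap]
      exact hW₀'le
    have hle : K ⊓ J ≤ W₀ ⊔ J * K := by
      intro z hz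
      have hz' : (⟨z, hz.1⟩ : K) ∈ Submodule.comap K.subtype (K ⊓ J) := hz
      obtain ⟨a, ha, b, hb, hab⟩ := Submodule.mem_sup.mp (hle' hz')
      have hz2 : z = K.subtype a + K.subtype b := by
        rw [← map_add, hab]; rfl
      rw [hz2]
      refine Submodule.add_mem_sup (Submodule.mem_map_of_mem ha) ?_
      have h3 : K.subtype b ∈ (J • (⊤ : Submodule P K)).map K.subtype :=
        Submodule.mem_map_of_mem hb
      rw [Submodule.map_smul'', Submodule.map_subtype_top] at h3
      exact h3
    have hnak : W₀ ≤ J * K ⊔ Ideal.span {tt} • W₀ := by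
      intro z hz
      have hzW := hW₀le hz
      have h4 := key_incl hsurj t hnzd tt htt z hzW.1 hzW.2
      obtain ⟨k₁, hk₁, v, hv, hkv⟩ := Submodule.mem_sup.mp h4
      rw [Ideal.mem_span_singleton_mul] at hv
      obtain ⟨w, hw, rfl⟩ := hv
      obtain ⟨a, ha, b, hb, hab⟩ := Submodule.mem_sup.mp (hle hw)
      have e : z = (k₁ + tt * b) + tt * a := by rw [← hkv, ← hab]; ring
      rw [e]
      refine Submodule.add_mem_sup ((J * K).add_mem hk₁ ((J * K).mul_mem_left tt hb)) ?_
      exact Submodule.smul_mem_smul (Ideal.mem_span_singleton_self tt) ha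
    have h5 : W₀ ≤ J * K := Submodule.le_of_le_smul_of_le_jacobson_bot hW₀fg httm hnak
    exact hle.trans (sup_le h5 le_rfl)
  -- apply the local criterion
  refine Groth.Agent.Helper2.LocCritFP.flat_of_tor_vanish hP (F := P) (M := T)
    (Algebra.linearMap P T) hsurj ?_ ?_
  · have : LinearMap.ker (Algebra.linearMap P T) = K := by
      ext x
      rfl
    rw [this]
    exact hKfg
  · intro k hk hkJ
    have hkK : k ∈ K := hk
    have hkJ' : k ∈ J := by
      have : J • (⊤ : Submodule P P) ≤ J := by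
        rw [Submodule.smul_le]
        intro r hr n _
        exact J.mul_mem_right n hr
      exact this hkJ
    have h6 := main ⟨hkK, hkJ'⟩
    have : LinearMap.ker (Algebra.linearMap P T) = K := by
      ext x
      rfl
    rw [this]
    exact h6

end Groth.Agent.Lead.NzdFlatA
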