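import Mathlib
import Groth.Prelude
import Groth.Agent.Helper2.InjFlatN
import Groth.Agent.Lead.NzdFlatA

/-!
# A nonzerodivisor with flat quotient: flatness of an essentially finitely presented local algebra
-/

set_option autoImplicit false
open Function IsLocalRing TensorProduct
universe u

namespace Groth.Agent.Lead.NzdFlatB

/-- **Flatness from a nonzerodivisor with flat quotient**: let `R → T` be a local homomorphism of
local rings, essentially of finite presentation, and `t ∈ 𝔪_T` a nonzerodivisor with `T/tT` flat
over `R`. Then `T` is flat over `R`. -/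
theorem flat_of_nzd {R T : Type u} [CommRing R] [CommRing T] [IsLocalRing R] [IsLocalRing T]
    [Algebra R T] [IsLocalHom (algebraMap R T)] (hT : CAlgX.IsEssFinitePresentation R T)
    (t : T) (ht : t ∈ maximalIdeal T) (hnzd : t ∈ nonZeroDivisors T)
    [Module.Flat R (T ⧸ Ideal.span {t})] : Module.Flat R T := by
  obtain ⟨S₀, _, _, _, _, Mon, hfp, hloc⟩ := hT
  obtain ⟨n, φ, hφ, hker⟩ := hfp.out
  letI algPS₀ : Algebra (MvPolynomial (Fin n) R) S₀ := φ.toRingHom.toAlgebra
  haveI : IsScalarTower R (MvPolynomial (Fin n) R) S₀ :=
    IsScalarTower.of_algebraMap_eq' (by ext r; exact (φ.commutes r).symm)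
  letI algPT : Algebra (MvPolynomial (Fin n) R) T :=
    ((algebraMap S₀ T).comp φ.toRingHom).toAlgebra
  haveI : IsScalarTower (MvPolynomial (Fin n) R) S₀ T :=
    IsScalarTower.of_algebraMap_eq (fun _ => rfl)
  haveI : IsScalarTower R (MvPolynomial (Fin n) R) T := by
    refine IsScalarTower.of_algebraMap_eq (fun r => ?_)
    rw [IsScalarTower.algebraMap_apply (MvPolynomial (Fin n) R) S₀ T,
      ← IsScalarTower.algebraMap_apply R (MvPolynomial (Fin n) R) S₀,
      ← IsScalarTower.algebraMap_apply R S₀ T]
  set q : Ideal (MvPolynomial (Fin n) R) :=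
    (maximalIdeal T).comap (algebraMap (MvPolynomial (Fin n) R) T) with hqdef
  haveI : q.IsPrime := Ideal.comap_isPrime _ _
  have hq : q.comap (algebraMap R (MvPolynomial (Fin n) R)) = maximalIdeal R := by
    rw [hqdef, Ideal.comap_comap, ← IsScalarTower.algebraMap_eq]
    exact IsLocalRing.maximalIdeal_comap (algebraMap R T)
  have hπ : Surjective (algebraMap (MvPolynomial (Fin n) R) S₀) := hφ
  have hunits : ∀ y : q.primeCompl, IsUnit (algebraMap (MvPolynomial (Fin n) R) T y) := by
    intro y
    by_contra hnu
    exact y.2 ((mem_maximalIdeal _).2 hnu)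
  let ψ : Localization.AtPrime q →+* T := IsLocalization.lift hunits
  letI algP'T : Algebra (Localization.AtPrime q) T := ψ.toAlgebra
  haveI : IsScalarTower (MvPolynomial (Fin n) R) (Localization.AtPrime q) T :=
    IsScalarTower.of_algebraMap_eq (fun x => (IsLocalization.lift_eq hunits x).symm)
  haveI : IsScalarTower R (Localization.AtPrime q) T := by
    refine IsScalarTower.of_algebraMap_eq (fun r => ?_)
    rw [IsScalarTower.algebraMap_apply R (MvPolynomial (Fin n) R) (Localization.AtPrime q),
      ← IsScalarTower.algebraMap_apply (MvPolynomial (Fin n) R) (Localization.AtPrime q) T,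
      ← IsScalarTower.algebraMap_apply R (MvPolynomial (Fin n) R) T]
  haveI : IsLocalHom (algebraMap R (Localization.AtPrime q)) :=
    Groth.Agent.Helper2.InjFlatN.isLocalHom_of_comap q hq
  have hP' : CAlgX.IsEssFinitePresentation R (Localization.AtPrime q) :=
    ⟨MvPolynomial (Fin n) R, inferInstance, inferInstance, inferInstance, inferInstance,
      q.primeCompl, inferInstance, inferInstance⟩
  haveI : Module.Flat R (Localization.AtPrime q) :=
    Module.Flat.trans R (MvPolynomial (Fin n) R) (Localization.AtPrime q)
  -- elements of `Mon` come from outside `q`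
  have hMon : ∀ m : Mon, ∃ p : MvPolynomial (Fin n) R, p ∉ q ∧
      algebraMap (MvPolynomial (Fin n) R) S₀ p = m := by
    intro m
    obtain ⟨p, hp⟩ := hπ m
    refine ⟨p, ?_, hp⟩
    intro hpq
    change p ∈ (maximalIdeal T).comap (algebraMap (MvPolynomial (Fin n) R) T) at hpq
    rw [Ideal.mem_comap, IsScalarTower.algebraMap_apply (MvPolynomial (Fin n) R) S₀ T, hp,
      mem_maximalIdeal, mem_nonunits_iff] at hpq
    exact hpq (IsLocalization.map_units T m)
  -- surjectivity
  have hsurj : Surjective (algebraMap (Localization.AtPrime q) T) := by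
    intro x
    obtain ⟨s₀, m, rfl⟩ := IsLocalization.exists_mk'_eq Mon x
    obtain ⟨p, rfl⟩ := hπ s₀
    obtain ⟨p', hp'q, hp'⟩ := hMon m
    refine ⟨IsLocalization.mk' (Localization.AtPrime q) p (⟨p', hp'q⟩ : q.primeCompl), ?_⟩
    rw [IsLocalization.eq_mk'_iff_mul_eq, ← hp',
      ← IsScalarTower.algebraMap_apply (MvPolynomial (Fin n) R) S₀ T,
      ← IsScalarTower.algebraMap_apply (MvPolynomial (Fin n) R) S₀ T,
      IsScalarTower.algebraMap_apply (MvPolynomial (Fin n) R) (Localization.AtPrime q) T p',
      ← map_mul]
    have e : IsLocalization.mk' (Localization.AtPrime q) p (⟨p', hp'q⟩ : q.primeCompl) *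
        algebraMap (MvPolynomial (Fin n) R) (Localization.AtPrime q) p' =
        algebraMap (MvPolynomial (Fin n) R) (Localization.AtPrime q) p :=
      IsLocalization.mk'_spec (Localization.AtPrime q) p (⟨p', hp'q⟩ : q.primeCompl)
    rw [e, ← IsScalarTower.algebraMap_apply (MvPolynomial (Fin n) R) (Localization.AtPrime q) T]
  -- the kernel
  have hkerP' : RingHom.ker (algebraMap (Localization.AtPrime q) T) =
      (RingHom.ker (algebraMap (MvPolynomial (Fin n) R) S₀)).map
        (algebraMap (MvPolynomial (Fin n) R) (Localization.AtPrime q)) := by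
    apply le_antisymm
    · intro x hx
      obtain ⟨p, p', rfl⟩ := IsLocalization.exists_mk'_eq q.primeCompl x
      have h1 : algebraMap (MvPolynomial (Fin n) R) T p = 0 := by
        have h0 : algebraMap (Localization.AtPrime q) T
            (IsLocalization.mk' (Localization.AtPrime q) p p' *
              algebraMap (MvPolynomial (Fin n) R) (Localization.AtPrime q) p') = 0 := by
          rw [map_mul, RingHom.mem_ker.mp hx, zero_mul]
        rw [IsLocalization.mk'_spec,
          ← IsScalarTower.algebraMap_apply (MvPolynomial (Fin n) R) (Localization.AtPrime q) T]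
          at h0
        exact h0
      rw [IsScalarTower.algebraMap_apply (MvPolynomial (Fin n) R) S₀ T,
        IsLocalization.map_eq_zero_iff Mon] at h1
      obtain ⟨m, hm⟩ := h1
      obtain ⟨p'', hp''q, hp''⟩ := hMon m
      have h2 : p'' * p ∈ RingHom.ker (algebraMap (MvPolynomial (Fin n) R) S₀) := by
        rw [RingHom.mem_ker, map_mul, hp'', hm]
      have hs : IsLocalization.mk' (Localization.AtPrime q) (1 : MvPolynomial (Fin n) R)
            ((⟨p'', hp''q⟩ : q.primeCompl) * p') *
          algebraMap (MvPolynomial (Fin n) R) (Localization.AtPrime q) (p'' * (p' : MvPolynomial (Fin n) R)) = 1 := by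
        have := IsLocalization.mk'_spec (Localization.AtPrime q) (1 : MvPolynomial (Fin n) R)
          ((⟨p'', hp''q⟩ : q.primeCompl) * p')
        simpa using this
      have h3 : IsLocalization.mk' (Localization.AtPrime q) p p' =
          algebraMap (MvPolynomial (Fin n) R) (Localization.AtPrime q) (p'' * p) *
          IsLocalization.mk' (Localization.AtPrime q) (1 : MvPolynomial (Fin n) R)
            ((⟨p'', hp''q⟩ : q.primeCompl) * p') := by
        rw [IsLocalization.mk'_eq_iff_eq_mul]
        calc algebraMap (MvPolynomial (Fin n) R) (Localization.AtPrime q) p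
            = algebraMap (MvPolynomial (Fin n) R) (Localization.AtPrime q) p *
              (IsLocalization.mk' (Localization.AtPrime q) (1 : MvPolynomial (Fin n) R)
                ((⟨p'', hp''q⟩ : q.primeCompl) * p') *
              algebraMap (MvPolynomial (Fin n) R) (Localization.AtPrime q)
                (p'' * (p' : MvPolynomial (Fin n) R))) := by rw [hs, mul_one]
          _ = _ := by rw [map_mul, map_mul]; ring
      rw [h3]
      exact Ideal.mul_mem_right _ _ (Ideal.mem_map_of_mem _ h2)
    · rw [Ideal.map_le_iff_le_comap]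
      intro p hp
      rw [Ideal.mem_comap, RingHom.mem_ker,
        ← IsScalarTower.algebraMap_apply (MvPolynomial (Fin n) R) (Localization.AtPrime q) T,
        IsScalarTower.algebraMap_apply (MvPolynomial (Fin n) R) S₀ T, RingHom.mem_ker.mp hp,
        map_zero]
  have hKfg : (RingHom.ker (algebraMap (Localization.AtPrime q) T)).FG := by
    rw [hkerP']
    exact Ideal.FG.map hker _
  exact NzdFlatA.flat_of_nzd_aux hP' hsurj hKfg t ht hnzd

end Groth.Agent.Lead.NzdFlatB
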