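import Mathlib
import Groth.Prelude.Def_BlowUp2
import Groth.Agent.Helper2.StalkEssFP
import Groth.Agent.Helper2.FlatLocusSch
import Groth.Agent.Lead.EffCartier
import Groth.Agent.Lead.RelCartierE
import Groth.Agent.Lead.NzdFlatB

/-!
# The ambient scheme is flat along a relative effective Cartier divisor
-/

set_option autoImplicit false
universe u
open CategoryTheory CategoryTheory.Limits AlgebraicGeometry TopologicalSpace
open Function

namespace Groth.Agent.Lead.NzdFlatC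

variable {X S : Scheme.{u}} (f : X ⟶ S) [LocallyOfFinitePresentation f] (𝓘 : X.IdealSheafData)

/-- flatness of the ambient scheme at the points of a relative effective Cartier divisor. -/
theorem flat_stalkMap_of_mem_support (hC : BlowUp.IsEffCartierIdeal 𝓘) [Flat (𝓘.subschemeι ≫ f)]
    (x : X) (hx : x ∈ 𝓘.support) : (f.stalkMap x).hom.Flat := by
  obtain ⟨V, hV, hfxV, -⟩ := (Opens.isBasis_iff_nbhd.1 S.isBasis_affineOpens)
    (show f x ∈ (⊤ : S.Opens) from trivial)
  obtain ⟨W, hxW, e, t, ht, hI⟩ :=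
    EffCartier.exists_le_of_isEffCartier 𝓘 hC x (f ⁻¹ᵁ V) hfxV
  letI algAB : Algebra Γ(S, V) Γ(X, W.1) := (f.appLE V W.1 e).hom.toAlgebra
  letI algAR : Algebra Γ(S, V) (S.presheaf.stalk (f x)) := (S.presheaf.germ V _ hfxV).hom.toAlgebra
  letI algBT : Algebra Γ(X, W.1) (X.presheaf.stalk x) := (X.presheaf.germ W.1 _ hxW).hom.toAlgebra
  letI algRT : Algebra (S.presheaf.stalk (f x)) (X.presheaf.stalk x) := (f.stalkMap x).hom.toAlgebra
  letI algAT : Algebra Γ(S, V) (X.presheaf.stalk x) :=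
    ((X.presheaf.germ W.1 _ hxW).hom.comp (f.appLE V W.1 e).hom).toAlgebra
  haveI tow1 : IsScalarTower Γ(S, V) Γ(X, W.1) (X.presheaf.stalk x) :=
    IsScalarTower.of_algebraMap_eq (fun _ => rfl)
  haveI tow2 : IsScalarTower Γ(S, V) (S.presheaf.stalk (f x)) (X.presheaf.stalk x) := by
    refine IsScalarTower.of_algebraMap_eq (fun r => ?_)
    show (X.presheaf.germ W.1 _ hxW) ((f.appLE V W.1 e).hom r) =
      (f.stalkMap x).hom (S.presheaf.germ V _ hfxV r)
    rw [Scheme.Hom.germ_stalkMap_apply, Scheme.Hom.appLE, CommRingCat.comp_apply,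
      TopCat.Presheaf.germ_res_apply]
  haveI locR : IsLocalization.AtPrime (S.presheaf.stalk (f x))
      (hV.primeIdealOf ⟨f x, hfxV⟩).asIdeal := hV.isLocalization_stalk ⟨f x, hfxV⟩
  haveI locT : IsLocalization.AtPrime (X.presheaf.stalk x)
      (W.2.primeIdealOf ⟨x, hxW⟩).asIdeal := W.2.isLocalization_stalk ⟨x, hxW⟩
  haveI : IsLocalHom (algebraMap (S.presheaf.stalk (f x)) (X.presheaf.stalk x)) := by
    show IsLocalHom (f.stalkMap x).hom
    infer_instance
  haveI hflBJ : Module.Flat Γ(S, V) (Γ(X, W.1) ⧸ 𝓘.ideal W) :=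
    (EffCartier.ringHomFlat_quot_iff (f.appLE V W.1 e).hom (𝓘.ideal W)).mp
      (EffCartier.flat_quot_of_flat f 𝓘 ⟨V, hV⟩ W e)
  have hflT := RelCartierE.flat_loc_quot (A := Γ(S, V)) (B := Γ(X, W.1))
    (R₀ := S.presheaf.stalk (f x)) (T := X.presheaf.stalk x)
    (hV.primeIdealOf ⟨f x, hfxV⟩).asIdeal.primeCompl
    (W.2.primeIdealOf ⟨x, hxW⟩).asIdeal.primeCompl (𝓘.ideal W)
  rw [hI, Ideal.map_span, Set.image_singleton] at hflT
  haveI := hflT
  have hnzd : algebraMap Γ(X, W.1) (X.presheaf.stalk x) t ∈ nonZeroDivisors (X.presheaf.stalk x) :=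
    IsLocalization.map_nonZeroDivisors_le (W.2.primeIdealOf ⟨x, hxW⟩).asIdeal.primeCompl _
      (Submonoid.mem_map_of_mem _ ht)
  have hmax : algebraMap Γ(X, W.1) (X.presheaf.stalk x) t ∈
      IsLocalRing.maximalIdeal (X.presheaf.stalk x) := by
    rw [IsLocalRing.mem_maximalIdeal, mem_nonunits_iff]
    intro hu
    have h1 := (𝓘.mem_support_iff_of_mem (U := W) hxW).mp hx
    rw [Scheme.mem_zeroLocus_iff] at h1
    have h2 := h1 t (by rw [hI]; exact Ideal.mem_span_singleton_self t)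
    exact h2 ((X.mem_basicOpen t x hxW).mpr hu)
  have hess := Groth.Agent.Helper2.StalkEssFP.essFP_stalk f x
  exact NzdFlatB.flat_of_nzd hess _ hmax hnzd

theorem main (hC : BlowUp.IsEffCartierIdeal 𝓘) [Flat (𝓘.subschemeι ≫ f)] :
    ∃ U : X.Opens, (𝓘.support : Set ↥X) ⊆ U ∧ Flat (U.ι ≫ f) := by
  refine ⟨⟨{x | (f.stalkMap x).hom.Flat},
    Groth.Agent.Helper2.FlatLocusSch.isOpen_flat_locus f⟩, ?_, ?_⟩
  · intro x hx
    exact flat_stalkMap_of_mem_support f 𝓘 hC x hx
  · rw [Flat.iff_flat_stalkMap]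
    intro u
    rw [Scheme.Hom.stalkMap_comp]
    exact RingHom.Flat.comp (f := (f.stalkMap _).hom) (g := (Scheme.Hom.stalkMap _ u).hom) u.2
      (RingHom.Flat.of_bijective (ConcreteCategory.bijective_of_isIso (Scheme.Hom.stalkMap _ u)))

end Groth.Agent.Lead.NzdFlatC
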