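import Mathlib

/-!
# Lead: Kähler differentials as the base change of the diagonal ideal (pure algebra)

If `T ≅ S ⊗[R] S` and `S` is a `T`-algebra through the multiplication map, then the base change
to `S` of the kernel of `T → S` is `Ω[S⁄R]`.
-/

set_option autoImplicit false
universe u

namespace Groth.Agent.Lead.OmegaAlgA
open TensorProduct KaehlerDifferential

section BaseChange
variable {T S : Type u} [CommRing T] [CommRing S] [Algebra T S]

/-- For a surjective `T → S` with kernel `J`, a surjective `T`-linear map `q : M → N` onto an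
`S`-module with kernel `J • M` is a base change. -/
theorem isBaseChange_of_ker (hsurj : Function.Surjective (algebraMap T S))
    {M N : Type u} [AddCommGroup M] [Module T M] [AddCommGroup N] [Module T N] [Module S N]
    [IsScalarTower T S N] (q : M →ₗ[T] N) (hq : Function.Surjective q)
    (hker : ∀ m, q m = 0 → m ∈ (RingHom.ker (algebraMap T S)) • (⊤ : Submodule T M)) :
    IsBaseChange S q := by
  apply IsBaseChange.of_lift_unique
  intro Q _ _ _ _ g
  letI : AddCommGroup Q := Module.addCommMonoidToAddCommGroup S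
  have hg : LinearMap.ker q ≤ LinearMap.ker g := by
    intro m hm
    have h1 := hker m hm
    refine Submodule.smul_induction_on h1 ?_ ?_
    · intro j hj m' _
      rw [LinearMap.mem_ker, map_smul, ← algebraMap_smul S j (g m'), RingHom.mem_ker.mp hj,
        zero_smul]
    · intro a b ha hb
      exact add_mem ha hb
  let e := q.quotKerEquivOfSurjective hq
  let g₀ : N →ₗ[T] Q := ((LinearMap.ker q).liftQ g hg).comp e.symm.toLinearMap
  have hg₀ : ∀ m, g₀ (q m) = g m := by
    intro m
    change (LinearMap.ker q).liftQ g hg (e.symm (q m)) = g m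
    have : e.symm (q m) = Submodule.Quotient.mk m := by
      rw [LinearEquiv.symm_apply_eq]
      rfl
    rw [this]
    rfl
  refine ⟨g₀.extendScalarsOfSurjective hsurj, ?_, ?_⟩
  · ext m
    exact hg₀ m
  · intro g' hg'
    ext n
    obtain ⟨m, rfl⟩ := hq n
    change g' (q m) = g₀ (q m)
    rw [hg₀]
    exact congrArg (fun φ => φ m) hg'

end BaseChange

variable {R S T : Type u} [CommRing R] [CommRing S] [CommRing T] [Algebra R S] [Algebra T S]

theorem algebraMap_eq_lmul' (ψ : S ⊗[R] S ≃+* T)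
    (hδ₁ : ∀ s, algebraMap T S (ψ (s ⊗ₜ 1)) = s) (hδ₂ : ∀ s, algebraMap T S (ψ (1 ⊗ₜ s)) = s)
    (x : S ⊗[R] S) : algebraMap T S (ψ x) = Algebra.TensorProduct.lmul' R x := by
  induction x with
  | zero => simp
  | tmul a b =>
    have : a ⊗ₜ[R] b = (a ⊗ₜ[R] (1 : S)) * ((1 : S) ⊗ₜ[R] b) := by
      rw [Algebra.TensorProduct.tmul_mul_tmul, mul_one, one_mul]
    rw [this, map_mul, map_mul, hδ₁, hδ₂, map_mul]
    simp
  | add x y hx hy => rw [map_add, map_add, hx, hy, map_add]

theorem fromIdeal_eq_zero (z : KaehlerDifferential.ideal R S) :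
    KaehlerDifferential.fromIdeal R S z = 0 ↔ (z : S ⊗[R] S) ∈ KaehlerDifferential.ideal R S ^ 2 :=
  Ideal.toCotangent_eq_zero _ z

theorem D_eq_fromIdeal (s : S) :
    D R S s = KaehlerDifferential.fromIdeal R S
      ⟨1 ⊗ₜ s - s ⊗ₜ 1, KaehlerDifferential.one_smul_sub_smul_one_mem_ideal R s⟩ := rfl

/-- elements of `S ⊗ S` act on `Ω[S⁄R]` through multiplication -/
theorem smul_kaehler (x : S ⊗[R] S) (ω : Ω[S⁄R]) :
    x • ω = (Algebra.TensorProduct.lmul' R x : S) • ω := by
  have hmem : x - (Algebra.TensorProduct.lmul' R x : S) ⊗ₜ[R] (1 : S) ∈ KaehlerDifferential.ideal R S := by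
    rw [KaehlerDifferential.ideal, RingHom.mem_ker, map_sub]
    simp
  have h0 : (x - (Algebra.TensorProduct.lmul' R x : S) ⊗ₜ[R] (1 : S)) • ω = 0 := by
    obtain ⟨z, rfl⟩ := KaehlerDifferential.fromIdeal_surjective R S ω
    rw [← map_smul, fromIdeal_eq_zero, pow_two]
    exact Ideal.mul_mem_mul hmem z.2
  rw [sub_smul, sub_eq_zero] at h0
  rw [h0]
  have : ((Algebra.TensorProduct.lmul' R x : S) ⊗ₜ[R] (1 : S)) =
      (Algebra.TensorProduct.lmul' R x : S) • (1 : S ⊗[R] S) := by
    rw [Algebra.TensorProduct.one_def, TensorProduct.smul_tmul', smul_eq_mul, mul_one]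
  rw [this, smul_assoc, one_smul]

/-- the main algebraic identification -/
theorem exists_equiv (ψ : S ⊗[R] S ≃+* T)
    (hδ₁ : ∀ s, algebraMap T S (ψ (s ⊗ₜ 1)) = s) (hδ₂ : ∀ s, algebraMap T S (ψ (1 ⊗ₜ s)) = s)
    {M N : Type u} [AddCommGroup M] [Module T M] [AddCommGroup N] [Module T N] [Module S N]
    [IsScalarTower T S N] (ι : M →ₗ[T] T) (hι : Function.Injective ι)
    (hrange : ∀ t : T, t ∈ LinearMap.range ι ↔ algebraMap T S t = 0)
    (ρ : M →ₗ[T] N) (hρ : IsBaseChange S ρ) :
    ∃ e : N ≃ₗ[S] Ω[S⁄R], ∀ (s : S) (m : M), ι m = ψ (1 ⊗ₜ s - s ⊗ₜ 1) → e (ρ m) = D R S s := by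
  have hmul := algebraMap_eq_lmul' ψ hδ₁ hδ₂
  have hsurj : Function.Surjective (algebraMap T S) := fun s => ⟨ψ (s ⊗ₜ 1), hδ₁ s⟩
  have hmem : ∀ m : M, ψ.symm (ι m) ∈ KaehlerDifferential.ideal R S := by
    intro m
    rw [KaehlerDifferential.ideal, RingHom.mem_ker]
    have := hmul (ψ.symm (ι m))
    rw [ψ.apply_symm_apply] at this
    change (Algebra.TensorProduct.lmul' R) (ψ.symm (ι m)) = 0
    rw [← this]
    exact (hrange _).mp ⟨m, rfl⟩
  have hsmul : ∀ (t : T) (ω : Ω[S⁄R]), t • ω = algebraMap T S t • ω :=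
    fun t ω => (algebraMap_smul S t ω).symm
  let q : M →ₗ[T] Ω[S⁄R] :=
    { toFun := fun m => KaehlerDifferential.fromIdeal R S ⟨ψ.symm (ι m), hmem m⟩
      map_add' := fun a b => by
        rw [← map_add]
        congr 1
        apply Subtype.ext
        simp
      map_smul' := fun t m => by
        simp only [RingHom.id_apply]
        rw [hsmul]
        have h1 : (⟨ψ.symm (ι (t • m)), hmem (t • m)⟩ : KaehlerDifferential.ideal R S) =
            ψ.symm t • ⟨ψ.symm (ι m), hmem m⟩ := by
          apply Subtype.ext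
          simp
        rw [h1, map_smul, smul_kaehler, ← hmul, ψ.apply_symm_apply] }
  have hqapp : ∀ m, q m = KaehlerDifferential.fromIdeal R S ⟨ψ.symm (ι m), hmem m⟩ :=
    fun _ => rfl
  have hqsurj : Function.Surjective q := by
    intro ω
    obtain ⟨z, rfl⟩ := KaehlerDifferential.fromIdeal_surjective R S ω
    have hz : algebraMap T S (ψ z.1) = 0 := by
      rw [hmul]
      exact z.2
    obtain ⟨m, hm⟩ := (hrange _).mpr hz
    refine ⟨m, ?_⟩
    rw [hqapp]
    congr 1
    apply Subtype.ext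
    simp [hm]
  have hqker : ∀ m, q m = 0 → m ∈ (RingHom.ker (algebraMap T S)) • (⊤ : Submodule T M) := by
    intro m hm
    rw [hqapp, fromIdeal_eq_zero, pow_two] at hm
    have key : ∀ x ∈ (KaehlerDifferential.ideal R S) * (KaehlerDifferential.ideal R S),
        ∃ m' ∈ (RingHom.ker (algebraMap T S)) • (⊤ : Submodule T M), ι m' = ψ x := by
      intro x hx
      refine Submodule.mul_induction_on hx ?_ ?_
      · intro a ha b hb
        have hb' : algebraMap T S (ψ b) = 0 := by rw [hmul]; exact hb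
        obtain ⟨mb, hmb⟩ := (hrange _).mpr hb'
        refine ⟨ψ a • mb, Submodule.smul_mem_smul ?_ trivial, ?_⟩
        · rw [RingHom.mem_ker, hmul]; exact ha
        · rw [map_smul, hmb, smul_eq_mul, map_mul]
      · rintro x y ⟨mx, hmx, hx⟩ ⟨my, hmy, hy⟩
        exact ⟨mx + my, add_mem hmx hmy, by rw [map_add, hx, hy, map_add]⟩
    obtain ⟨m', hm', h'⟩ := key _ hm
    have : m = m' := by
      apply hι
      rw [h']
      simp
    rw [this]
    exact hm'
  have hq : IsBaseChange S q := isBaseChange_of_ker hsurj q hqsurj hqker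
  refine ⟨hρ.equiv.symm.trans hq.equiv, ?_⟩
  intro s m hm
  change hq.equiv (hρ.equiv.symm (ρ m)) = _
  have h1 : hρ.equiv.symm (ρ m) = (1 : S) ⊗ₜ[T] m := by
    rw [LinearEquiv.symm_apply_eq, IsBaseChange.equiv_tmul, one_smul]
  rw [h1, IsBaseChange.equiv_tmul, one_smul, hqapp, D_eq_fromIdeal]
  congr 1
  apply Subtype.ext
  simp [hm]

end Groth.Agent.Lead.OmegaAlgA
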