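import Groth.Agent.Lead.OmegaCnB
import Groth.Agent.Lead.FSmAppLE
import Mathlib

set_option autoImplicit false
set_option backward.isDefEq.respectTransparency false
set_option backward.isDefEq.respectTransparency.types false
open CategoryTheory CategoryTheory.Limits AlgebraicGeometry Opposite TopologicalSpace TensorProduct
universe u

namespace Groth.Agent.Lead.OmegaCnC

/-- `I/I² → C ⊗_B Ω[B/A]` is (split) injective when `C = B/I` is formally smooth over `A`
(no assumption on `B`). -/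
theorem kerCotangentToTensor_injective (A B C : Type u) [CommRing A] [CommRing B] [CommRing C]
    [Algebra A B] [Algebra B C] [Algebra A C] [IsScalarTower A B C]
    [Algebra.FormallySmooth A C] (h : Function.Surjective (algebraMap B C)) :
    Function.Injective (KaehlerDifferential.kerCotangentToTensor A B C) := by
  have hsurj : Function.Surjective (IsScalarTower.toAlgHom A B C).kerSquareLift := by
    intro c
    obtain ⟨b, rfl⟩ := h c
    exact ⟨Ideal.Quotient.mk _ b, AlgHom.kerSquareLift_mk _ b⟩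
  have hnil : IsNilpotent (RingHom.ker
      (((IsScalarTower.toAlgHom A B C).kerSquareLift :
        (B ⧸ RingHom.ker (IsScalarTower.toAlgHom A B C).toRingHom ^ 2) →ₐ[A] C) :
        (B ⧸ RingHom.ker (IsScalarTower.toAlgHom A B C).toRingHom ^ 2) →+* C)) := by
    refine ⟨2, ?_⟩
    have := AlgHom.ker_kerSquareLift (IsScalarTower.toAlgHom A B C)
    erw [this]
    exact Ideal.cotangentIdeal_square _
  let g := Algebra.FormallySmooth.liftOfSurjective (AlgHom.id A C)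
    (IsScalarTower.toAlgHom A B C).kerSquareLift hsurj hnil
  have hg : (IsScalarTower.toAlgHom A B C).kerSquareLift.comp g = AlgHom.id A C :=
    Algebra.FormallySmooth.comp_liftOfSurjective _ _ hsurj hnil
  obtain ⟨l, hl⟩ := (_root_.retractionKerCotangentToTensorEquivSection h).symm ⟨g, hg⟩
  intro a b hab
  have := congr(l $hab)
  rwa [← LinearMap.comp_apply, ← LinearMap.comp_apply, hl] at this


open Scheme.Modules OmegaSh Groth.Agent.Helper4 Groth.Agent.Lead.BCMap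

section Conormal
variable {X Y Z : Scheme.{u}} (f : Y ⟶ Z) (j : X ⟶ Y) [IsImmersion j] [QuasiCompact j]
  {ΩY : Y.Modules} (dY : Der f ΩY) (hY : IsUniversal dY)
  (φ : Omega.conormal j ⟶ (Scheme.Modules.pullback j).obj ΩY) (hφ : IsConormalDiff j dY φ)

omit [IsImmersion j] [QuasiCompact j] in
theorem idealSect_smul (U : Y.Opens) (a : Γ(Y, U)) (σ : Γ(ClSub.idealMod j.ker, U)) :
    idealSect j.ker U (a • σ) = a * idealSect j.ker U σ := by
  rw [idealSect_apply, Scheme.Modules.Hom.app_smul]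
  rfl

omit [IsImmersion j] [QuasiCompact j] in
theorem idealSect_injective (U : Y.Opens) : Function.Injective (idealSect j.ker U) := by
  intro a b hab
  exact IdealModDict.idealModι_app_injective j.ker U hab

omit [IsImmersion j] in
/-- classes of sections of `I²` vanish in the conormal sheaf -/
theorem conormalSect_eq_zero {U : Y.Opens} (hU : IsAffineOpen U)
    (σ : Γ(ClSub.idealMod j.ker, U))
    (hσ : idealSect j.ker U σ ∈ (RingHom.ker (j.app U).hom) ^ 2) :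
    conormalSect j U σ = 0 := by
  suffices H : ∀ s ∈ (RingHom.ker (j.app U).hom) ^ 2,
      ∃ τ : Γ(ClSub.idealMod j.ker, U), idealSect j.ker U τ = s ∧ conormalSect j U τ = 0 by
    obtain ⟨τ, h1, h2⟩ := H _ hσ
    rw [idealSect_injective j U h1.symm]
    exact h2
  intro s hs
  rw [pow_two] at hs
  refine Submodule.mul_induction_on hs ?_ ?_
  · intro m hm n hn
    obtain ⟨ν, hν⟩ := OmegaCnB.exists_idealSect j hU n hn
    refine ⟨m • ν, by rw [idealSect_smul, hν], ?_⟩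
    change pullSect j (ClSub.idealMod j.ker) U (m • ν) = 0
    rw [← OmegaCnB.pbSec_self, pbSec_smul]
    have : j.appLE U (j ⁻¹ᵁ U) le_rfl m = 0 := by
      rw [Scheme.Hom.appLE_eq_app]
      exact hm
    rw [this, zero_smul]
  · intro x y hx hy
    obtain ⟨a, ha1, ha2⟩ := hx
    obtain ⟨b, hb1, hb2⟩ := hy
    exact ⟨a + b, by rw [map_add, ha1, hb1], by rw [map_add, ha2, hb2, add_zero]⟩

/-- a base change map along a surjective ring map is surjective -/
theorem isBaseChange_surjective {B C M N : Type u} [CommRing B] [CommRing C] [Algebra B C]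
    [AddCommGroup M] [Module B M] [AddCommGroup N] [Module B N] [Module C N]
    [IsScalarTower B C N] (ρ : M →ₗ[B] N) (hb : IsBaseChange C ρ)
    (h : Function.Surjective (algebraMap B C)) : Function.Surjective ρ := by
  intro n
  induction n using hb.inductionOn with
  | zero => exact ⟨0, map_zero _⟩
  | tmul m => exact ⟨m, rfl⟩
  | smul c n hn =>
    obtain ⟨m, rfl⟩ := hn
    obtain ⟨b, rfl⟩ := h c
    exact ⟨b • m, by rw [_root_.map_smul, algebraMap_smul]⟩
  | add n₁ n₂ h₁ h₂ =>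
    obtain ⟨a, rfl⟩ := h₁
    obtain ⟨b, rfl⟩ := h₂
    exact ⟨a + b, map_add _ _ _⟩

omit [IsImmersion j] in
include hφ hY in
/-- `φ` is injective on an affine pair as soon as `I/I² → C ⊗_B Ω[B/A]` is. -/
theorem app_injective {U : Y.Opens} {W : Z.Opens} (hU : IsAffineOpen U)
    (hU' : IsAffineOpen (j ⁻¹ᵁ U)) (hW : IsAffineOpen W) (hUW : U ≤ f ⁻¹ᵁ W)
    (hsurj : Function.Surjective (j.app U))
    (hinj : letI := (f.appLE W U hUW).hom.toAlgebra
      letI := (j.appLE U (j ⁻¹ᵁ U) le_rfl).hom.toAlgebra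
      Function.Injective (KaehlerDifferential.kerCotangentToTensor Γ(Z, W) Γ(Y, U)
        Γ(X, j ⁻¹ᵁ U))) :
    Function.Injective (φ.app (j ⁻¹ᵁ U)) := by
  haveI := OmegaLocB.isQuasicoherent_of_isUniversal f dY hY
  have e : j ⁻¹ᵁ U ≤ j ⁻¹ᵁ U := le_rfl
  letI algAB := (f.appLE W U hUW).hom.toAlgebra
  letI algBC := (j.appLE U (j ⁻¹ᵁ U) e).hom.toAlgebra
  have hsurj' : Function.Surjective (algebraMap Γ(Y, U) Γ(X, j ⁻¹ᵁ U)) := by
    intro t
    obtain ⟨s, hs⟩ := hsurj t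
    refine ⟨s, ?_⟩
    change j.appLE U (j ⁻¹ᵁ U) e s = t
    rw [Scheme.Hom.appLE_eq_app]
    exact hs
  obtain ⟨εY, hεY⟩ := OmegaLocC.exists_sectionsEquiv f dY hY hU hW hUW
  letI : Module Γ(Y, U) Γ((Scheme.Modules.pullback j).obj ΩY, j ⁻¹ᵁ U) :=
    Module.compHom _ (j.appLE U (j ⁻¹ᵁ U) e).hom
  haveI : IsScalarTower Γ(Y, U) Γ(X, j ⁻¹ᵁ U) Γ((Scheme.Modules.pullback j).obj ΩY, j ⁻¹ᵁ U) :=
    IsScalarTower.of_compHom _ _ _
  letI : Module Γ(Y, U) Γ((Scheme.Modules.pullback j).obj (ClSub.idealMod j.ker), j ⁻¹ᵁ U) :=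
    Module.compHom _ (j.appLE U (j ⁻¹ᵁ U) e).hom
  haveI : IsScalarTower Γ(Y, U) Γ(X, j ⁻¹ᵁ U)
      Γ((Scheme.Modules.pullback j).obj (ClSub.idealMod j.ker), j ⁻¹ᵁ U) :=
    IsScalarTower.of_compHom _ _ _
  obtain ⟨ρ, hρ, hb⟩ := exists_isBaseChange_pbSec j ΩY hU hU' e
  obtain ⟨ρI, hρI, hbI⟩ := exists_isBaseChange_pbSec j (ClSub.idealMod j.ker) hU hU' e
  have hb' : IsBaseChange Γ(X, j ⁻¹ᵁ U) (ρ ∘ₗ εY.symm.toLinearMap) :=
    IsBaseChange.comp_equiv εY.symm ρ hb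
  rw [injective_iff_map_eq_zero]
  intro n hn
  obtain ⟨σ, rfl⟩ := isBaseChange_surjective ρI hbI hsurj' n
  rw [hρI, OmegaCnB.pbSec_self] at hn ⊢
  have hs : idealSect j.ker U σ ∈ RingHom.ker (algebraMap Γ(Y, U) Γ(X, j ⁻¹ᵁ U)) := by
    rw [RingHom.mem_ker]
    change j.appLE U (j ⁻¹ᵁ U) e _ = 0
    rw [Scheme.Hom.appLE_eq_app]
    exact OmegaCnB.app_idealSect j hU σ
  have h1 : φ.app (j ⁻¹ᵁ U) (conormalSect j U σ) = 0 := hn
  rw [hφ U σ, ← OmegaCnB.pbSec_self, ← hρ] at h1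
  have h2 : hb'.equiv ((1 : Γ(X, j ⁻¹ᵁ U)) ⊗ₜ[Γ(Y, U)]
      KaehlerDifferential.D Γ(Z, W) Γ(Y, U) (idealSect j.ker U σ)) = 0 := by
    rw [IsBaseChange.equiv_tmul, one_smul]
    change ρ (εY.symm _) = 0
    rw [← hεY, LinearEquiv.symm_apply_apply]
    exact h1
  have h3 : KaehlerDifferential.kerCotangentToTensor Γ(Z, W) Γ(Y, U) Γ(X, j ⁻¹ᵁ U)
      (Ideal.toCotangent _ ⟨idealSect j.ker U σ, hs⟩) = 0 := by
    rw [KaehlerDifferential.kerCotangentToTensor_toCotangent]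
    exact hb'.equiv.injective (h2.trans (map_zero _).symm)
  have h4 := hinj (h3.trans (map_zero _).symm)
  rw [Ideal.toCotangent_eq_zero] at h4
  change pullSect j (ClSub.idealMod j.ker) U σ = 0
  refine conormalSect_eq_zero j hU σ ?_
  have h5 : RingHom.ker (j.app U).hom = RingHom.ker (algebraMap Γ(Y, U) Γ(X, j ⁻¹ᵁ U)) := by
    change _ = RingHom.ker (j.appLE U (j ⁻¹ᵁ U) e).hom
    rw [Scheme.Hom.appLE_eq_app]
  rw [h5]
  exact h4

include hφ hY in
/-- S5020 -/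
theorem mono_of_formallySmooth (hf : MoreMor.IsFormallySmoothHom (j ≫ f)) : Mono φ := by
  haveI : (Omega.conormal j).IsQuasicoherent :=
    StalkPull.isQuasicoherent_pullbackObj j (ClSub.idealMod j.ker)
  haveI := OmegaLocB.isQuasicoherent_of_isUniversal f dY hY
  haveI := StalkPull.isQuasicoherent_pullbackObj j ΩY
  apply QcohLocal.mono_of_app_injective_of_affine_cover
  intro x
  obtain ⟨V, W, hV, hW, hxV, hVW⟩ := OmegaSecB.exists_affine_pair f (j x)
  obtain ⟨U, hU, hxU, hUV, hU', -, hsurj⟩ :=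
    OmegaCnA.exists_affine_immersion j x ⊤ trivial V hxV
  refine ⟨j ⁻¹ᵁ U, hU', hxU, ?_⟩
  have hUW : U ≤ f ⁻¹ᵁ W := fun y hy => hVW (hUV hy)
  have hU'W : j ⁻¹ᵁ U ≤ (j ≫ f) ⁻¹ᵁ W := fun y hy => hUW hy
  apply app_injective f j dY hY φ hφ hU hU' hW hUW hsurj
  letI algAB := (f.appLE W U hUW).hom.toAlgebra
  letI algBC := (j.appLE U (j ⁻¹ᵁ U) le_rfl).hom.toAlgebra
  letI algAC := ((j ≫ f).appLE W (j ⁻¹ᵁ U) hU'W).hom.toAlgebra
  haveI : IsScalarTower Γ(Z, W) Γ(Y, U) Γ(X, j ⁻¹ᵁ U) := IsScalarTower.of_algebraMap_eq' (by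
    change ((j ≫ f).appLE W (j ⁻¹ᵁ U) hU'W).hom =
      (j.appLE U (j ⁻¹ᵁ U) le_rfl).hom.comp (f.appLE W U hUW).hom
    rw [← CommRingCat.hom_comp, Scheme.Hom.appLE_comp_appLE])
  haveI : Algebra.FormallySmooth Γ(Z, W) Γ(X, j ⁻¹ᵁ U) :=
    FSmAppLE.formallySmooth_appLE (j ≫ f) hf _ _ hU' hW hU'W
  have hsurj' : Function.Surjective (algebraMap Γ(Y, U) Γ(X, j ⁻¹ᵁ U)) := by
    intro t
    obtain ⟨s, hs⟩ := hsurj t
    refine ⟨s, ?_⟩
    change j.appLE U (j ⁻¹ᵁ U) le_rfl s = t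
    rw [Scheme.Hom.appLE_eq_app]
    exact hs
  exact kerCotangentToTensor_injective _ _ _ hsurj'

end Conormal

end Groth.Agent.Lead.OmegaCnC
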