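import Groth.Agent.Lead.OmegaSeqA
import Groth.Agent.Lead.BCMap5
import Groth.Agent.Lead.StalkPull
import Groth.Agent.Helper4.QcohEpi
import Mathlib

/-!
# Lead: `f` is formally unramified iff `f^*Ω_{Y/S} → Ω_{X/S}` is an epimorphism
-/

set_option autoImplicit false
set_option backward.isDefEq.respectTransparency false
set_option backward.isDefEq.respectTransparency.types false
open CategoryTheory CategoryTheory.Limits AlgebraicGeometry Opposite TopologicalSpace TensorProduct
universe u

namespace Groth.Agent.Lead.OmegaSeqB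
open Scheme.Modules OmegaSh Groth.Agent.Helper4 Groth.Agent.Lead.BCMap

section Local
variable {X Y : Scheme.{u}} (f : X ⟶ Y)

theorem formallyUnramified_of_local
    (h : ∀ x : X, ∃ (U : X.Opens) (V : Y.Opens) (_ : IsAffineOpen U) (_ : IsAffineOpen V)
      (e : U ≤ f ⁻¹ᵁ V), x ∈ U ∧ (f.appLE V U e).hom.FormallyUnramified) :
    FormallyUnramified f := by
  haveI : MorphismProperty.RespectsRight @FormallyUnramified @IsOpenImmersion :=
    ⟨fun i hi g hg => MorphismProperty.comp_mem _ _ _ hg inferInstance⟩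
  rw [IsZariskiLocalAtSource.iff_exists_resLE (P := @FormallyUnramified)]
  intro x
  obtain ⟨U, V, hU, hV, e, hxU, hfu⟩ := h x
  refine ⟨V, U, hxU, e, ?_⟩
  haveI : IsAffine (U : Scheme.{u}) := hU
  haveI : IsAffine (V : Scheme.{u}) := hV
  rw [HasRingHomProperty.iff_of_isAffine (P := @FormallyUnramified)]
  exact ((RingHom.FormallyUnramified.respectsIso).arrow_mk_iso_iff
    (arrowResLEAppIso f V U e)).mpr hfu

/-- the sections of the pullback of a quasi-coherent module over an affine pair are spanned by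
the pulled-back generators -/
theorem span_pbSec (F : Y.Modules) [F.IsQuasicoherent] {U : X.Opens} {V : Y.Opens}
    (hU : IsAffineOpen U) (hV : IsAffineOpen V) (e : U ≤ f ⁻¹ᵁ V) (S : Set Γ(F, V))
    (hS : Submodule.span Γ(Y, V) S = ⊤) (r : Γ((Scheme.Modules.pullback f).obj F, U)) :
    r ∈ Submodule.span Γ(X, U) ((pbSec f F V U e) '' S) := by
  letI := (f.appLE V U e).hom.toAlgebra
  letI : Module Γ(Y, V) Γ((Scheme.Modules.pullback f).obj F, U) :=
    Module.compHom _ (f.appLE V U e).hom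
  haveI : IsScalarTower Γ(Y, V) Γ(X, U) Γ((Scheme.Modules.pullback f).obj F, U) :=
    IsScalarTower.of_compHom _ _ _
  obtain ⟨ρ, hρ, hb⟩ := exists_isBaseChange_pbSec f F hV hU e
  induction r using hb.inductionOn with
  | zero => exact Submodule.zero_mem _
  | tmul m =>
    rw [hρ]
    have hm : m ∈ Submodule.span Γ(Y, V) S := by rw [hS]; trivial
    induction hm using Submodule.span_induction with
    | mem x hx => exact Submodule.subset_span ⟨x, hx, rfl⟩
    | zero => rw [map_zero]; exact Submodule.zero_mem _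
    | add x y _ _ hx hy => rw [map_add]; exact add_mem hx hy
    | smul a x _ hx =>
      rw [pbSec_smul]
      exact Submodule.smul_mem _ _ hx
  | smul s n hn => exact Submodule.smul_mem _ _ hn
  | add n₁ n₂ h₁ h₂ => exact add_mem h₁ h₂

end Local

section FU
variable {X Y S : Scheme.{u}} (g : Y ⟶ S) (f : X ⟶ Y)
  {ΩY : Y.Modules} (dY : Der g ΩY) (hY : IsUniversal dY)
  {ΩX : X.Modules} (dX : Der (f ≫ g) ΩX) (hX : IsUniversal dX)
  (c : (Scheme.Modules.pullback f).obj ΩY ⟶ ΩX) (hc : IsDiffCompat f dY dX c)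

include hc hY in
/-- the image of `c` on an affine triple lies in the span of the `d (f♯ b)` -/
theorem app_mem_span {U : X.Opens} {V : Y.Opens} {W : S.Opens} (hU : IsAffineOpen U)
    (hV : IsAffineOpen V) (hW : IsAffineOpen W)
    (e : U ≤ f ⁻¹ᵁ V) (e' : V ≤ g ⁻¹ᵁ W) (r : Γ((Scheme.Modules.pullback f).obj ΩY, U)) :
    c.app U r ∈ Submodule.span Γ(X, U)
      (Set.range fun b : Γ(Y, V) => dX.app U (f.appLE V U e b)) := by
  haveI := OmegaLocB.isQuasicoherent_of_isUniversal g dY hY
  have hr := span_pbSec f ΩY hU hV e _ (OmegaSeqA.span_d g dY hY hV hW e') r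
  induction hr using Submodule.span_induction with
  | mem x hx =>
    obtain ⟨_, ⟨b, rfl⟩, rfl⟩ := hx
    exact Submodule.subset_span ⟨b, (OmegaSeqA.c₁_d f g dY dX c hc e b).symm⟩
  | zero => rw [map_zero]; exact Submodule.zero_mem _
  | add x y _ _ hx hy => rw [map_add]; exact add_mem hx hy
  | smul a x _ hx =>
    rw [Scheme.Modules.Hom.app_smul]
    exact Submodule.smul_mem _ _ hx

include hc in
/-- conversely every element of that span is in the image -/
theorem exists_app_eq_of_mem_span {U : X.Opens} {V : Y.Opens} (e : U ≤ f ⁻¹ᵁ V)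
    (t : Γ(ΩX, U)) (ht : t ∈ Submodule.span Γ(X, U)
      (Set.range fun b : Γ(Y, V) => dX.app U (f.appLE V U e b))) :
    ∃ r : Γ((Scheme.Modules.pullback f).obj ΩY, U), c.app U r = t := by
  induction ht using Submodule.span_induction with
  | mem x hx =>
    obtain ⟨b, rfl⟩ := hx
    exact ⟨_, OmegaSeqA.c₁_d f g dY dX c hc e b⟩
  | zero => exact ⟨0, map_zero _⟩
  | add x y _ _ hx hy =>
    obtain ⟨a, ha⟩ := hx
    obtain ⟨b, hb⟩ := hy
    exact ⟨a + b, by rw [map_add, ha, hb]⟩
  | smul r x _ hx =>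
    obtain ⟨a, ha⟩ := hx
    exact ⟨r • a, by rw [Scheme.Modules.Hom.app_smul, ha]⟩

include hc hY hX in
/-- S5015 -/
theorem main : FormallyUnramified f ↔ Epi c := by
  haveI := OmegaLocB.isQuasicoherent_of_isUniversal g dY hY
  haveI := OmegaLocB.isQuasicoherent_of_isUniversal (f ≫ g) dX hX
  haveI := StalkPull.isQuasicoherent_pullbackObj f ΩY
  constructor
  · intro hf
    apply Groth.Agent.Lead.LocalLift.epi_of_local_lift
    intro T t x hx
    obtain ⟨U, V, W, hU, hV, hW, hxU, hUT, hUV, hVW⟩ := OmegaSeqA.exists_affine_triple f g x T hx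
    refine ⟨U, hUT, hxU, ?_⟩
    have hUW : U ≤ (f ≫ g) ⁻¹ᵁ W := fun y hy => hVW (hUV hy)
    letI algAB := (g.appLE W V hVW).hom.toAlgebra
    letI algBC := (f.appLE V U hUV).hom.toAlgebra
    letI algAC := ((f ≫ g).appLE W U hUW).hom.toAlgebra
    haveI : IsScalarTower Γ(S, W) Γ(Y, V) Γ(X, U) := IsScalarTower.of_algebraMap_eq' (by
      change ((f ≫ g).appLE W U hUW).hom = (f.appLE V U hUV).hom.comp (g.appLE W V hVW).hom
      rw [← CommRingCat.hom_comp, Scheme.Hom.appLE_comp_appLE])
    obtain ⟨εX, hεX⟩ := OmegaLocC.exists_sectionsEquiv (f ≫ g) dX hX hU hW hUW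
    haveI : Algebra.FormallyUnramified Γ(Y, V) Γ(X, U) := f.formallyUnramified_appLE hV hU hUV
    haveI : Subsingleton Ω[Γ(X, U)⁄Γ(Y, V)] := inferInstance
    have hker : εX (ΩX.presheaf.map (homOfLE hUT).op t) ∈
        LinearMap.ker (KaehlerDifferential.map Γ(S, W) Γ(Y, V) Γ(X, U) Γ(X, U)) := by
      rw [LinearMap.mem_ker]
      exact Subsingleton.elim _ _
    have hspan := OmegaSeqA.ker_map_le_span _ _ _ hker
    apply exists_app_eq_of_mem_span g f dY dX c hc hUV
    have h2 : Submodule.map εX.symm.toLinearMap (Submodule.span Γ(X, U) (Set.range fun b : Γ(Y, V) =>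
        KaehlerDifferential.D Γ(S, W) Γ(X, U) (algebraMap Γ(Y, V) Γ(X, U) b))) ≤
        Submodule.span Γ(X, U) (Set.range fun b : Γ(Y, V) => dX.app U (f.appLE V U hUV b)) := by
      rw [Submodule.map_span, Submodule.span_le]
      rintro _ ⟨_, ⟨b, rfl⟩, rfl⟩
      refine Submodule.subset_span ⟨b, ?_⟩
      change _ = εX.symm (KaehlerDifferential.D Γ(S, W) Γ(X, U) (algebraMap Γ(Y, V) Γ(X, U) b))
      rw [← hεX, LinearEquiv.symm_apply_apply]
      rfl
    have h3 := h2 (Submodule.mem_map_of_mem hspan)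
    rwa [LinearEquiv.coe_coe, LinearEquiv.symm_apply_apply] at h3
  · intro hepi
    apply formallyUnramified_of_local
    intro x
    obtain ⟨U, V, W, hU, hV, hW, hxU, -, hUV, hVW⟩ :=
      OmegaSeqA.exists_affine_triple f g x ⊤ trivial
    refine ⟨U, V, hU, hV, hUV, hxU, ?_⟩
    have hUW : U ≤ (f ≫ g) ⁻¹ᵁ W := fun y hy => hVW (hUV hy)
    letI algAB := (g.appLE W V hVW).hom.toAlgebra
    letI algBC := (f.appLE V U hUV).hom.toAlgebra
    letI algAC := ((f ≫ g).appLE W U hUW).hom.toAlgebra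
    haveI : IsScalarTower Γ(S, W) Γ(Y, V) Γ(X, U) := IsScalarTower.of_algebraMap_eq' (by
      change ((f ≫ g).appLE W U hUW).hom = (f.appLE V U hUV).hom.comp (g.appLE W V hVW).hom
      rw [← CommRingCat.hom_comp, Scheme.Hom.appLE_comp_appLE])
    obtain ⟨εX, hεX⟩ := OmegaLocC.exists_sectionsEquiv (f ≫ g) dX hX hU hW hUW
    change Algebra.FormallyUnramified Γ(Y, V) Γ(X, U)
    rw [Algebra.formallyUnramified_iff]
    refine subsingleton_of_forall_eq 0 fun ω => ?_
    obtain ⟨ω', rfl⟩ := KaehlerDifferential.map_surjective Γ(S, W) Γ(Y, V) Γ(X, U) ω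
    obtain ⟨t, rfl⟩ := εX.surjective ω'
    obtain ⟨r, rfl⟩ := QcohEpi.app_surjective_of_epi c hU t
    have hr := app_mem_span g f dY hY dX c hc hU hV hW hUV hVW r
    generalize c.app U r = t at hr ⊢
    induction hr using Submodule.span_induction with
    | mem x hx =>
      obtain ⟨b, rfl⟩ := hx
      rw [hεX, KaehlerDifferential.map_D]
      have : algebraMap Γ(X, U) Γ(X, U) (f.appLE V U hUV b) = algebraMap Γ(Y, V) Γ(X, U) b := rfl
      rw [this, Derivation.map_algebraMap]
    | zero => simp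
    | add x y _ _ hx hy => rw [map_add, map_add, hx, hy, add_zero]
    | smul a x _ hx => rw [_root_.map_smul, _root_.map_smul, hx, smul_zero]

end FU

end Groth.Agent.Lead.OmegaSeqB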