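import Groth.Agent.Lead.OmegaSeqC
import Groth.Agent.Helper4.QcohLimits
import Mathlib

/-!
# Lead: differentials of a fibre product: `p^*Ω_{X/S} ⊕ q^*Ω_{Y/S} ≅ Ω_{X×_S Y/S}`
-/

set_option autoImplicit false
set_option backward.isDefEq.respectTransparency false
set_option backward.isDefEq.respectTransparency.types false
open CategoryTheory CategoryTheory.Limits AlgebraicGeometry Opposite TopologicalSpace TensorProduct
universe u

namespace Groth.Agent.Lead.OmegaSeqE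
open Scheme.Modules OmegaSh Groth.Agent.Helper4 Groth.Agent.Lead.BCMap

section Algebra
variable (A B C D : Type u) [CommRing A] [CommRing B] [CommRing C] [CommRing D]
  [Algebra A B] [Algebra A C] [Algebra B D] [Algebra C D] [Algebra A D]
  [IsScalarTower A B D] [IsScalarTower A C D]

/-- `Ω[D/A] → Ω[D/C]` composed with `D ⊗_B Ω[B/A] → Ω[D/A]` is the base change isomorphism. -/
theorem map_mapBaseChange [Algebra.IsPushout A C B D] (z : D ⊗[B] Ω[B⁄A]) :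
    KaehlerDifferential.map A C D D (KaehlerDifferential.mapBaseChange A B D z) =
      KaehlerDifferential.tensorKaehlerEquiv A C B D z := by
  induction z using TensorProduct.induction_on with
  | zero => simp
  | add x y hx hy => rw [map_add, map_add, hx, hy, map_add]
  | tmul x ω =>
    have hω : ω ∈ Submodule.span B (Set.range (KaehlerDifferential.D A B)) := by
      rw [KaehlerDifferential.span_range_derivation]; trivial
    induction hω using Submodule.span_induction with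
    | mem y hy =>
      obtain ⟨s, rfl⟩ := hy
      rw [KaehlerDifferential.mapBaseChange_tmul, _root_.map_smul, KaehlerDifferential.map_D,
        KaehlerDifferential.map_D, KaehlerDifferential.tensorKaehlerEquiv_tmul_D]
      rfl
    | zero => simp
    | add y y' _ _ hy hy' => rw [TensorProduct.tmul_add, map_add, map_add, hy, hy', map_add]
    | smul r y _ hy =>
      have e1 : x ⊗ₜ[B] (r • y) = (algebraMap B D r) • (x ⊗ₜ[B] y) := by
        rw [TensorProduct.smul_tmul', smul_eq_mul, ← Algebra.smul_def, TensorProduct.smul_tmul]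
      rw [e1, _root_.map_smul, _root_.map_smul, hy, _root_.map_smul]

/-- the two maps `D ⊗_B Ω[B/A] → Ω[D/A]` and `D ⊗_C Ω[C/A] → Ω[D/A]` are jointly bijective when
`D = B ⊗_A C`. -/
theorem sum_bijective [Algebra.IsPushout A C B D] [Algebra.IsPushout A B C D] :
    (∀ (u : D ⊗[B] Ω[B⁄A]) (v : D ⊗[C] Ω[C⁄A]),
      KaehlerDifferential.mapBaseChange A B D u + KaehlerDifferential.mapBaseChange A C D v = 0 →
        u = 0 ∧ v = 0) ∧
    ∀ ω : Ω[D⁄A], ∃ (u : D ⊗[B] Ω[B⁄A]) (v : D ⊗[C] Ω[C⁄A]),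
      KaehlerDifferential.mapBaseChange A B D u + KaehlerDifferential.mapBaseChange A C D v = ω := by
  have h1 : ∀ v : D ⊗[C] Ω[C⁄A], KaehlerDifferential.map A C D D
      (KaehlerDifferential.mapBaseChange A C D v) = 0 := fun v =>
    (KaehlerDifferential.exact_mapBaseChange_map A C D _).mpr ⟨v, rfl⟩
  have h2 : ∀ u : D ⊗[B] Ω[B⁄A], KaehlerDifferential.map A B D D
      (KaehlerDifferential.mapBaseChange A B D u) = 0 := fun u =>
    (KaehlerDifferential.exact_mapBaseChange_map A B D _).mpr ⟨u, rfl⟩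
  constructor
  · intro u v huv
    constructor
    · have := congrArg (KaehlerDifferential.map A C D D) huv
      rw [map_add, h1, add_zero, map_mapBaseChange, map_zero] at this
      exact (LinearEquiv.map_eq_zero_iff _).mp this
    · have := congrArg (KaehlerDifferential.map A B D D) huv
      rw [map_add, h2, zero_add, map_mapBaseChange, map_zero] at this
      exact (LinearEquiv.map_eq_zero_iff _).mp this
  · intro ω
    obtain ⟨u, hu⟩ := (KaehlerDifferential.tensorKaehlerEquiv A C B D).surjective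
      (KaehlerDifferential.map A C D D ω)
    have hk : KaehlerDifferential.map A C D D
        (ω - KaehlerDifferential.mapBaseChange A B D u) = 0 := by
      rw [map_sub, map_mapBaseChange, hu, sub_self]
    obtain ⟨v, hv⟩ := (KaehlerDifferential.exact_mapBaseChange_map A C D _).mp hk
    exact ⟨u, v, by rw [hv]; abel⟩

end Algebra

section Coprod
variable {Z : Scheme.{u}} {F G H : Z.Modules} (c₁ : F ⟶ H) (c₂ : G ⟶ H)

theorem desc_inl_app (W : Z.Opens) (r : Γ(F, W)) :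
    (coprod.desc c₁ c₂).app W ((coprod.inl : F ⟶ F ⨿ G).app W r) = c₁.app W r := by
  change ((coprod.inl : F ⟶ F ⨿ G) ≫ coprod.desc c₁ c₂).app W r = _
  rw [coprod.inl_desc]

theorem desc_inr_app (W : Z.Opens) (r : Γ(G, W)) :
    (coprod.desc c₁ c₂).app W ((coprod.inr : G ⟶ F ⨿ G).app W r) = c₂.app W r := by
  change ((coprod.inr : G ⟶ F ⨿ G) ≫ coprod.desc c₁ c₂).app W r = _
  rw [coprod.inr_desc]

theorem total (F G : Z.Modules) :
    coprod.desc (𝟙 F) (0 : G ⟶ F) ≫ (coprod.inl : F ⟶ F ⨿ G) +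
      coprod.desc (0 : F ⟶ G) (𝟙 G) ≫ (coprod.inr : G ⟶ F ⨿ G) = 𝟙 (F ⨿ G) := by
  apply coprod.hom_ext
  · rw [Preadditive.comp_add, coprod.inl_desc_assoc, coprod.inl_desc_assoc, Category.id_comp,
      zero_comp, add_zero, Category.comp_id]
  · rw [Preadditive.comp_add, coprod.inr_desc_assoc, coprod.inr_desc_assoc, Category.id_comp,
      zero_comp, zero_add, Category.comp_id]

theorem total_app (W : Z.Opens) (w : Γ(F ⨿ G, W)) :
    w = (coprod.inl : F ⟶ F ⨿ G).app W ((coprod.desc (𝟙 F) (0 : G ⟶ F)).app W w) +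
      (coprod.inr : G ⟶ F ⨿ G).app W ((coprod.desc (0 : F ⟶ G) (𝟙 G)).app W w) := by
  have h := congr($(total F G).app W)
  have h2 := congr($h w)
  exact h2.symm

/-- criterion for `coprod.desc` to be an isomorphism: jointly bijective on sections over the
members of an affine open cover -/
theorem isIso_desc [F.IsQuasicoherent] [G.IsQuasicoherent] [H.IsQuasicoherent]
    (hloc : ∀ z : Z, ∃ W : Z.Opens, IsAffineOpen W ∧ z ∈ W ∧
      (∀ (u : Γ(F, W)) (v : Γ(G, W)), c₁.app W u + c₂.app W v = 0 → u = 0 ∧ v = 0) ∧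
      ∀ t : Γ(H, W), ∃ (u : Γ(F, W)) (v : Γ(G, W)), c₁.app W u + c₂.app W v = t) :
    IsIso (coprod.desc c₁ c₂) := by
  haveI : (F ⊞ G).IsQuasicoherent := QcohLimits.isQuasicoherent_biprod F G
  haveI : (F ⨿ G).IsQuasicoherent :=
    (SheafOfModules.isQuasicoherent.{u} Z.ringCatSheaf).prop_of_iso (biprod.isoCoprod F G)
      (inferInstance : (F ⊞ G).IsQuasicoherent)
  apply QcohLocal.isIso_of_app_bijective_of_affine_cover
  intro z
  obtain ⟨W, hW, hzW, hinj, hsurj⟩ := hloc z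
  refine ⟨W, hW, hzW, ?_, ?_⟩
  · rw [injective_iff_map_eq_zero]
    intro w h0
    rw [total_app W w, map_add, desc_inl_app, desc_inr_app] at h0
    obtain ⟨hu, hv⟩ := hinj _ _ h0
    rw [total_app W w, hu, hv, map_zero, map_zero, add_zero]
  · intro t
    obtain ⟨u, v, huv⟩ := hsurj t
    exact ⟨(coprod.inl : F ⟶ F ⨿ G).app W u + (coprod.inr : G ⟶ F ⨿ G).app W v, by
      rw [map_add, desc_inl_app, desc_inr_app, huv]⟩

end Coprod



section Product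
variable {X Y S Z : Scheme.{u}} (a : X ⟶ S) (b : Y ⟶ S) (p : Z ⟶ X) (q : Z ⟶ Y)
  (hZ : IsPullback p q a b)
  {ΩX : X.Modules} (dX : Der a ΩX) (hX : IsUniversal dX)
  {ΩY : Y.Modules} (dY : Der b ΩY) (hY : IsUniversal dY)
  {ΩZ : Z.Modules} (dZ : Der (p ≫ a) ΩZ) (hZu : IsUniversal dZ)
  (c₁ : (Scheme.Modules.pullback p).obj ΩX ⟶ ΩZ) (hc₁ : IsDiffCompat p dX dZ c₁)
  (c₂ : (Scheme.Modules.pullback q).obj ΩY ⟶ ΩZ) (hc₂ : IsDiffCompat q dY dZ c₂)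

include hZ hX hY hZu hc₁ hc₂ in
/-- S5023 -/
theorem isIso_coprod : IsIso (coprod.desc c₁ c₂) := by
  haveI := OmegaLocB.isQuasicoherent_of_isUniversal a dX hX
  haveI := OmegaLocB.isQuasicoherent_of_isUniversal b dY hY
  haveI := OmegaLocB.isQuasicoherent_of_isUniversal (p ≫ a) dZ hZu
  haveI := StalkPull.isQuasicoherent_pullbackObj p ΩX
  haveI := StalkPull.isQuasicoherent_pullbackObj q ΩY
  apply isIso_desc
  intro z
  obtain ⟨U, V, hU, hV, hxU, e₁⟩ := OmegaSecB.exists_affine_pair a (p z)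
  have hz2 : b (q z) ∈ V := by
    have : b (q z) = a (p z) := by
      rw [← Scheme.Hom.comp_apply, ← Scheme.Hom.comp_apply, hZ.w]
    rw [this]
    exact e₁ hxU
  obtain ⟨_, ⟨U', hU' : IsAffineOpen U', rfl⟩, hzU', e₂⟩ :=
    Y.isBasis_affineOpens.exists_subset_of_mem_open
      (show q z ∈ ((b ⁻¹ᵁ V : Y.Opens) : Set Y) from hz2) (b ⁻¹ᵁ V).isOpen
  have hW := OmegaSeqC.isAffineOpen_inf a b p q hZ hU hV hU' e₁ e₂
  refine ⟨p ⁻¹ᵁ U ⊓ q ⁻¹ᵁ U', hW, ⟨hxU, hzU'⟩, ?_⟩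
  have eW : p ⁻¹ᵁ U ⊓ q ⁻¹ᵁ U' ≤ (p ≫ a) ⁻¹ᵁ V := fun y hy => e₁ hy.1
  letI algAB := (a.appLE V U e₁).hom.toAlgebra
  letI algAC := (b.appLE V U' e₂).hom.toAlgebra
  letI algBD := (p.appLE U (p ⁻¹ᵁ U ⊓ q ⁻¹ᵁ U') inf_le_left).hom.toAlgebra
  letI algCD := (q.appLE U' (p ⁻¹ᵁ U ⊓ q ⁻¹ᵁ U') inf_le_right).hom.toAlgebra
  letI algAD := ((p ≫ a).appLE V (p ⁻¹ᵁ U ⊓ q ⁻¹ᵁ U') eW).hom.toAlgebra
  haveI t1 : IsScalarTower Γ(S, V) Γ(X, U) Γ(Z, p ⁻¹ᵁ U ⊓ q ⁻¹ᵁ U') :=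
    IsScalarTower.of_algebraMap_eq' (by
      change ((p ≫ a).appLE V _ eW).hom = (p.appLE U _ inf_le_left).hom.comp (a.appLE V U e₁).hom
      rw [← CommRingCat.hom_comp, Scheme.Hom.appLE_comp_appLE])
  haveI t2 : IsScalarTower Γ(S, V) Γ(Y, U') Γ(Z, p ⁻¹ᵁ U ⊓ q ⁻¹ᵁ U') :=
    IsScalarTower.of_algebraMap_eq' (by
      change ((p ≫ a).appLE V _ eW).hom =
        (q.appLE U' _ inf_le_right).hom.comp (b.appLE V U' e₂).hom
      rw [← CommRingCat.hom_comp, Scheme.Hom.appLE_comp_appLE]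
      exact congrArg CommRingCat.Hom.hom (OmegaSh.appLE_congr_hom hZ.w _ _))
  have hpush := OmegaSeqC.isPushout_inf a b p q hZ hU hV hU' e₁ e₂
  haveI hP' : Algebra.IsPushout Γ(S, V) Γ(X, U) Γ(Y, U') Γ(Z, p ⁻¹ᵁ U ⊓ q ⁻¹ᵁ U') :=
    CommRingCat.isPushout_iff_isPushout.mp hpush
  haveI hP : Algebra.IsPushout Γ(S, V) Γ(Y, U') Γ(X, U) Γ(Z, p ⁻¹ᵁ U ⊓ q ⁻¹ᵁ U') := hP'.symm
  obtain ⟨εX, hεX⟩ := OmegaLocC.exists_sectionsEquiv a dX hX hU hV e₁
  obtain ⟨εY, hεY⟩ := OmegaLocC.exists_sectionsEquiv b dY hY hU' hV e₂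
  obtain ⟨εZ, hεZ⟩ := OmegaLocC.exists_sectionsEquiv (p ≫ a) dZ hZu hW hV eW
  letI m1 : Module Γ(X, U) Γ((Scheme.Modules.pullback p).obj ΩX, p ⁻¹ᵁ U ⊓ q ⁻¹ᵁ U') :=
    Module.compHom _ (p.appLE U (p ⁻¹ᵁ U ⊓ q ⁻¹ᵁ U') inf_le_left).hom
  haveI : IsScalarTower Γ(X, U) Γ(Z, p ⁻¹ᵁ U ⊓ q ⁻¹ᵁ U')
      Γ((Scheme.Modules.pullback p).obj ΩX, p ⁻¹ᵁ U ⊓ q ⁻¹ᵁ U') := IsScalarTower.of_compHom _ _ _
  letI m2 : Module Γ(Y, U') Γ((Scheme.Modules.pullback q).obj ΩY, p ⁻¹ᵁ U ⊓ q ⁻¹ᵁ U') :=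
    Module.compHom _ (q.appLE U' (p ⁻¹ᵁ U ⊓ q ⁻¹ᵁ U') inf_le_right).hom
  haveI : IsScalarTower Γ(Y, U') Γ(Z, p ⁻¹ᵁ U ⊓ q ⁻¹ᵁ U')
      Γ((Scheme.Modules.pullback q).obj ΩY, p ⁻¹ᵁ U ⊓ q ⁻¹ᵁ U') := IsScalarTower.of_compHom _ _ _
  obtain ⟨ρ₁, hb₁, hρ₁⟩ := OmegaSeqC.exists_rho p dX dZ c₁ hc₁ hU hW inf_le_left
  obtain ⟨ρ₂, hb₂, hρ₂⟩ := OmegaSeqC.exists_rho q dY dZ c₂ hc₂ hU' hW inf_le_right
  have hb₁' : IsBaseChange Γ(Z, p ⁻¹ᵁ U ⊓ q ⁻¹ᵁ U') (ρ₁ ∘ₗ εX.symm.toLinearMap) :=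
    IsBaseChange.comp_equiv εX.symm ρ₁ hb₁
  have hb₂' : IsBaseChange Γ(Z, p ⁻¹ᵁ U ⊓ q ⁻¹ᵁ U') (ρ₂ ∘ₗ εY.symm.toLinearMap) :=
    IsBaseChange.comp_equiv εY.symm ρ₂ hb₂
  have k₁ := OmegaSeqC.comp_equiv_eq (ρ₁ ∘ₗ εX.symm.toLinearMap) hb₁'
    (εZ.toLinearMap ∘ₗ OmegaSeqA.appLin c₁ (p ⁻¹ᵁ U ⊓ q ⁻¹ᵁ U'))
    (KaehlerDifferential.mapBaseChange Γ(S, V) Γ(X, U) Γ(Z, p ⁻¹ᵁ U ⊓ q ⁻¹ᵁ U'))
    (Set.range (KaehlerDifferential.D Γ(S, V) Γ(X, U)))
    (KaehlerDifferential.span_range_derivation _ _) (by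
      rintro _ ⟨s, rfl⟩
      change εZ (c₁.app _ (ρ₁ (εX.symm (KaehlerDifferential.D Γ(S, V) Γ(X, U) s)))) = _
      rw [← hεX s, LinearEquiv.symm_apply_apply, hρ₁, hεZ, hεX,
        KaehlerDifferential.mapBaseChange_tmul, one_smul, KaehlerDifferential.map_D]
      rfl)
  have k₂ := OmegaSeqC.comp_equiv_eq (ρ₂ ∘ₗ εY.symm.toLinearMap) hb₂'
    (εZ.toLinearMap ∘ₗ OmegaSeqA.appLin c₂ (p ⁻¹ᵁ U ⊓ q ⁻¹ᵁ U'))
    (KaehlerDifferential.mapBaseChange Γ(S, V) Γ(Y, U') Γ(Z, p ⁻¹ᵁ U ⊓ q ⁻¹ᵁ U'))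
    (Set.range (KaehlerDifferential.D Γ(S, V) Γ(Y, U')))
    (KaehlerDifferential.span_range_derivation _ _) (by
      rintro _ ⟨s, rfl⟩
      change εZ (c₂.app _ (ρ₂ (εY.symm (KaehlerDifferential.D Γ(S, V) Γ(Y, U') s)))) = _
      rw [← hεY s, LinearEquiv.symm_apply_apply, hρ₂, hεZ, hεY,
        KaehlerDifferential.mapBaseChange_tmul, one_smul, KaehlerDifferential.map_D]
      rfl)
  obtain ⟨hinj, hsurj⟩ := sum_bijective Γ(S, V) Γ(X, U) Γ(Y, U') Γ(Z, p ⁻¹ᵁ U ⊓ q ⁻¹ᵁ U')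
  constructor
  · intro u v huv
    obtain ⟨u', rfl⟩ := hb₁'.equiv.surjective u
    obtain ⟨v', rfl⟩ := hb₂'.equiv.surjective v
    have h0 : εZ (c₁.app _ (hb₁'.equiv u')) + εZ (c₂.app _ (hb₂'.equiv v')) = 0 := by
      rw [← map_add, huv, map_zero]
    have h1 := k₁ u'
    have h2 := k₂ v'
    change εZ (c₁.app _ (hb₁'.equiv u')) = _ at h1
    change εZ (c₂.app _ (hb₂'.equiv v')) = _ at h2
    rw [h1, h2] at h0
    obtain ⟨hu, hv⟩ := hinj u' v' h0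
    rw [hu, hv, map_zero, map_zero]
    exact ⟨rfl, rfl⟩
  · intro t
    obtain ⟨u', v', huv⟩ := hsurj (εZ t)
    refine ⟨hb₁'.equiv u', hb₂'.equiv v', εZ.injective ?_⟩
    have h1 := k₁ u'
    have h2 := k₂ v'
    change εZ (c₁.app _ (hb₁'.equiv u')) = _ at h1
    change εZ (c₂.app _ (hb₂'.equiv v')) = _ at h2
    rw [map_add, h1, h2, huv]

end Product

end Groth.Agent.Lead.OmegaSeqE
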