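import Mathlib
open CategoryTheory Limits AlgebraicGeometry

namespace Groth.Agent.Lead.OpenLim
universe u

/-- a monomorphism through which the local scheme at the image point lifts induces an
isomorphism on stalks -/
theorem isIso_stalkMap_of_mono_of_lift {S B : Scheme.{u}} (p : S ⟶ B) [Mono p] (s : S)
    (t : Spec (B.presheaf.stalk (p s)) ⟶ S) (ht : t ≫ p = B.fromSpecStalk (p s)) :
    IsIso (p.stalkMap s) := by
  have hφt : Spec.map (p.stalkMap s) ≫ t = S.fromSpecStalk s := by
    rw [← cancel_mono p, Category.assoc, ht, Scheme.SpecMap_stalkMap_fromSpecStalk]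
  have hcp : t (IsLocalRing.closedPoint (B.presheaf.stalk (p s))) = s := by
    apply p.injective
    rw [← Scheme.Hom.comp_apply, ht, Scheme.fromSpecStalk_closedPoint]
  let ψ : S.presheaf.stalk s ⟶ B.presheaf.stalk (p s) :=
    S.presheaf.stalkSpecializes
      (by rw [hcp] : t (IsLocalRing.closedPoint (B.presheaf.stalk (p s))) ⤳ s) ≫
      Scheme.stalkClosedPointTo t
  have ht' : Spec.map ψ ≫ S.fromSpecStalk s = t := by
    rw [Spec.map_comp, Category.assoc, Scheme.SpecMap_stalkSpecializes_fromSpecStalk,
      Scheme.Spec_stalkClosedPointTo_fromSpecStalk]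
  have h1 : p.stalkMap s ≫ ψ = 𝟙 _ := by
    apply Spec.map_injective
    rw [← cancel_mono (B.fromSpecStalk (p s)), Spec.map_comp, Category.assoc,
      Scheme.SpecMap_stalkMap_fromSpecStalk, ← Category.assoc, ht', ht, Spec.map_id,
      Category.id_comp]
  have h2 : ψ ≫ p.stalkMap s = 𝟙 _ := by
    apply Spec.map_injective
    rw [← cancel_mono (S.fromSpecStalk s), Spec.map_comp, Category.assoc, ht', hφt, Spec.map_id,
      Category.id_comp]
  exact ⟨ψ, h1, h2⟩

/-- projections of a cofiltered limit with monomorphic transition maps are monomorphisms -/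
theorem mono_π_app {C : Type*} [Category C] {I : Type*} [Category I] [IsCofiltered I]
    (D : I ⥤ C) (c : Cone D) (hc : IsLimit c)
    (hm : ∀ (i j : I) (φ : i ⟶ j), Mono (D.map φ)) (i : I) : Mono (c.π.app i) := by
  constructor
  intro T a b hab
  apply hc.hom_ext
  intro j
  obtain ⟨k, f, g, -⟩ := IsCofilteredOrEmpty.cone_objs i j
  have hk : a ≫ c.π.app k = b ≫ c.π.app k := by
    haveI := hm k i f
    rw [← cancel_mono (D.map f), Category.assoc, Category.assoc, c.w, hab]
  rw [← c.w g, ← Category.assoc, hk, Category.assoc]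

end Groth.Agent.Lead.OpenLim
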