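import Mathlib
import Groth.Agent.Lead.OpenLimA
open CategoryTheory Limits AlgebraicGeometry

namespace Groth.Agent.Lead.OpenLim
universe u

variable {I : Type u} [SmallCategory I] [IsCofiltered I]
    (D : I ⥤ Scheme.{u}) (c : Limits.Cone D) (hc : Limits.IsLimit c)
    [∀ {i j : I} (f : i ⟶ j), IsAffineHom (D.map f)]
    (hoi : ∀ (i j : I) (φ : i ⟶ j), IsOpenImmersion (D.map φ)) (i : I)

include hc hoi in
theorem exists_lift (s : c.pt) :
    ∃ t : Spec ((D.obj i).presheaf.stalk (c.π.app i s)) ⟶ c.pt,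
      t ≫ c.π.app i = (D.obj i).fromSpecStalk (c.π.app i s) := by
  let hc' : IsLimit (c.whisker (Over.forget i)) :=
    (Functor.Initial.isLimitWhiskerEquiv (Over.forget i) c).symm hc
  have hoi' : ∀ j : Over i, IsOpenImmersion (D.map j.hom) := fun j ↦ hoi _ _ j.hom
  have hx : ∀ j : Over i, Set.range ((D.obj i).fromSpecStalk (c.π.app i s)) ⊆
      Set.range (D.map j.hom) := by
    intro j
    rw [Scheme.range_fromSpecStalk]
    intro y hy
    have hy' : y ⤳ c.π.app i s := hy
    refine hy'.mem_open (D.map j.hom).isOpenEmbedding.isOpen_range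
      ⟨c.π.app j.left s, ?_⟩
    rw [← Scheme.Hom.comp_apply, c.w]
  let tj : ∀ j : Over i, Spec ((D.obj i).presheaf.stalk (c.π.app i s)) ⟶ D.obj j.left :=
    fun j ↦ IsOpenImmersion.lift (D.map j.hom) ((D.obj i).fromSpecStalk (c.π.app i s)) (hx j)
  have htj : ∀ j, tj j ≫ D.map j.hom = (D.obj i).fromSpecStalk (c.π.app i s) :=
    fun j ↦ IsOpenImmersion.lift_fac _ _ _
  let cone : Cone (Over.forget i ⋙ D) :=
    { pt := Spec ((D.obj i).presheaf.stalk (c.π.app i s))
      π :=
      { app := tj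
        naturality := by
          intro j k f
          haveI := hoi' k
          simp only [Functor.const_obj_obj, Functor.const_obj_map, Category.id_comp,
            Functor.comp_obj, Over.forget_obj, Functor.comp_map, Over.forget_map]
          rw [← cancel_mono (D.map k.hom), htj, Category.assoc, ← D.map_comp, Over.w, htj] } }
  refine ⟨hc'.lift cone, ?_⟩
  have h1 := hc'.fac cone (Over.mk (𝟙 i))
  have h2 := htj (Over.mk (𝟙 i))
  simp only [Over.mk_left, Over.mk_hom, D.map_id, Category.comp_id] at h2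
  rw [← h2]
  exact h1

include hc hoi in
theorem isInducing_π_app : Topology.IsInducing ⇑(c.π.app i) := by
  have hm : ∀ (i j : I) (φ : i ⟶ j), Mono (D.map φ) := fun i j φ ↦ by
    haveI := hoi i j φ; infer_instance
  refine ⟨le_antisymm (continuous_iff_le_induced.mp (c.π.app i).continuous) ?_⟩
  intro V hV
  rw [isOpen_induced_iff]
  -- local statement
  have key : ∀ s ∈ V, ∃ W : Set (D.obj i), IsOpen W ∧ s ∈ (c.π.app i) ⁻¹' W ∧
      (c.π.app i) ⁻¹' W ⊆ V := by
    intro s hs
    obtain ⟨_, ⟨j, U, hU, rfl⟩, hsU, hUV⟩ :=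
      (TopologicalSpace.Opens.isBasis_iff_nbhd.mp (isBasis_preimage_isAffineOpen D c hc))
        (show s ∈ (⟨V, hV⟩ : c.pt.Opens) from hs)
    obtain ⟨k, f, g, -⟩ := IsCofilteredOrEmpty.cone_objs i j
    haveI := hoi k i f
    have hinj : Function.Injective (D.map f) := (D.map f).isOpenEmbedding.injective
    refine ⟨(D.map f) '' ((D.map g) ⁻¹' (U : Set (D.obj j))),
      (D.map f).isOpenEmbedding.isOpenMap _ (U.2.preimage (D.map g).continuous), ?_, ?_⟩
    · refine ⟨c.π.app k s, ?_, ?_⟩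
      · show (D.map g) (c.π.app k s) ∈ U
        rw [← Scheme.Hom.comp_apply, c.w]
        exact hsU
      · rw [← Scheme.Hom.comp_apply, c.w]
    · rintro y ⟨z, hz, hzy⟩
      apply hUV
      have hzy' : (D.map f) z = (D.map f) (c.π.app k y) := by
        rw [hzy, ← Scheme.Hom.comp_apply, c.w]
      have := hinj hzy'
      subst this
      show (c.π.app j) y ∈ U
      have hz' : (D.map g) (c.π.app k y) ∈ U := hz
      rwa [← Scheme.Hom.comp_apply, c.w] at hz'
  choose! W hWo hsW hWV using key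
  refine ⟨⋃ s ∈ V, W s, isOpen_biUnion hWo, ?_⟩
  ext y
  simp only [Set.preimage_iUnion, Set.mem_iUnion]
  constructor
  · rintro ⟨s, hs, hy⟩
    exact hWV s hs hy
  · intro hy
    exact ⟨y, hy, hsW y hy⟩

include hc hoi in
theorem main : Topology.IsEmbedding ⇑(c.π.app i) ∧ ∀ s : c.pt, IsIso ((c.π.app i).stalkMap s) := by
  have hm : ∀ (i j : I) (φ : i ⟶ j), Mono (D.map φ) := fun i j φ ↦ by
    haveI := hoi i j φ; infer_instance
  haveI : Mono (c.π.app i) := mono_π_app D c hc hm i
  refine ⟨⟨isInducing_π_app D c hc hoi i, (c.π.app i).injective⟩, fun s ↦ ?_⟩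
  obtain ⟨t, ht⟩ := exists_lift D c hc hoi i s
  exact isIso_stalkMap_of_mono_of_lift (c.π.app i) s t ht

end Groth.Agent.Lead.OpenLim
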