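import Mathlib
import Groth.Prelude.Def_FSch5
import Groth.Agent.Lead.Thick4

set_option autoImplicit false
set_option linter.style.haveILetI false
universe v u
open CategoryTheory Limits AlgebraicGeometry Opposite TopologicalSpace

namespace Groth.Agent.Lead.OshSurj

section seq

/-- a sequential limit of surjections surjects onto every stage -/
lemma surjective_π_app {C : Type u} [Category.{v} C] {FC : C → C → Type*}
    {CC : C → Type v} [∀ X Y, FunLike (FC X Y) (CC X) (CC Y)] [ConcreteCategory.{v} C FC]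
    [PreservesLimitsOfShape ℕᵒᵖ (forget C)] {F : ℕᵒᵖ ⥤ C} {c : Cone F}
    (hc : IsLimit c) (hF : ∀ n, Function.Surjective (F.map (homOfLE (Nat.le_succ n)).op))
    (i : ℕ) : Function.Surjective (c.π.app ⟨i⟩) := by
  have hm : Monotone (fun n : ℕ => i + n) := fun a b h => Nat.add_le_add_left h i
  haveI : hm.functor.Final :=
    (Monotone.final_functor_iff hm).mpr (fun d => ⟨d, Nat.le_add_left d i⟩)
  have hc' : IsLimit (c.whisker hm.functor.op) :=
    (Functor.Initial.isLimitWhiskerEquiv hm.functor.op c).symm hc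
  have key := Concrete.surjective_π_app_zero_of_surjective_map hc' (fun n => ?_)
  · exact key
  · have : (hm.functor.op ⋙ F).map (homOfLE (Nat.le_succ n)).op =
        F.map (homOfLE (Nat.le_succ (i + n))).op := by
      change F.map _ = F.map _
      congr 1
    rw [this]
    exact hF (i + n)

end seq

section formal

variable (𝔛 : FSch.Sys.{u}) (h : 𝔛.IsFormal)

/-- the opens `lvU n U` pull back to `U` along `toX n` -/
theorem toX_preimage_lvU (n : ℕ) (U : (𝔛.X 0).Opens) : (𝔛.toX n) ⁻¹ᵁ (𝔛.lvU h n U) = U := by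
  change (Opens.map ((𝔛.toX n).base ≫ 𝔛.gInv h n)).obj U = U
  rw [FSch.Sys.toX_base_gInv]
  rfl

/-- every level of an affine open is affine (a thickening of an affine scheme is affine) -/
theorem isAffineOpen_lvU (n : ℕ) (U : (𝔛.X 0).Opens) (hU : IsAffineOpen U) :
    IsAffineOpen (𝔛.lvU h n U) := by
  haveI := FSch.Sys.toX_isClosedImmersion 𝔛 h n
  have hs : Function.Surjective (𝔛.toX n) := FSch.Sys.toX_surjective 𝔛 h n
  haveI : Surjective (𝔛.toX n) := ⟨hs⟩
  have hU' : IsAffineOpen ((𝔛.toX n) ⁻¹ᵁ (𝔛.lvU h n U)) := by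
    rw [toX_preimage_lvU]; exact hU
  haveI : IsAffine ((𝔛.toX n) ⁻¹ᵁ (𝔛.lvU h n U)).toScheme := hU'
  haveI : Surjective ((𝔛.toX n) ∣_ (𝔛.lvU h n U)) := IsZariskiLocalAtTarget.restrict ‹_› _
  exact Thick.isAffine_of_thickening ((𝔛.toX n) ∣_ (𝔛.lvU h n U))
    ((𝔛.toX n) ∣_ (𝔛.lvU h n U)).surjective

/-- the transition maps are surjective on sections over the levels of an affine open -/
theorem levelMap_app_surjective (n : ℕ) (U : (𝔛.X 0).Opens) (hU : IsAffineOpen U) :
    Function.Surjective ((𝔛.levelMap h n).hom.app (op U)) := by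
  rw [FSch.Sys.levelMap_app]
  haveI : IsClosedImmersion (𝔛.ι n) := (h n).1
  have e := 𝔛.lvU_succ h n U
  haveI : IsIso (homOfLE (𝔛.lvU_le h n U)) :=
    ⟨⟨homOfLE e.le, Subsingleton.elim _ _, Subsingleton.elim _ _⟩⟩
  intro b
  obtain ⟨c, hc'⟩ :=
    (ConcreteCategory.bijective_of_isIso ((𝔛.X n).presheaf.map (homOfLE (𝔛.lvU_le h n U)).op)).2 b
  obtain ⟨a, ha⟩ := Scheme.Hom.app_surjective (𝔛.ι n) _ (isAffineOpen_lvU 𝔛 h (n + 1) U hU) c
  refine ⟨a, ?_⟩
  rw [Scheme.Hom.appLE]
  change ((𝔛.X n).presheaf.map (homOfLE (𝔛.lvU_le h n U)).op)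
    (((𝔛.ι n).app (𝔛.lvU h (n + 1) U)) a) = b
  rw [ha, hc']

/-- evaluation at an open -/
noncomputable abbrev ev (U : (𝔛.X 0).Opens) :
    Sheaf (Opens.grothendieckTopology (𝔛.X 0)) CommRingCat.{u} ⥤ CommRingCat.{u} :=
  sheafToPresheaf _ _ ⋙ (evaluation _ _).obj (op U)

theorem main (i : ℕ) (U : (𝔛.X 0).Opens) (hU : IsAffineOpen U) :
    Function.Surjective ((𝔛.OshProj h i).hom.app (op U)) := by
  have hc : IsLimit ((ev 𝔛 U).mapCone (limit.cone (𝔛.levelRing h))) :=
    isLimitOfPreserves (ev 𝔛 U) (limit.isLimit _)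
  have key := surjective_π_app hc (fun n => ?_) i
  · exact key
  · have : (𝔛.levelRing h ⋙ ev 𝔛 U).map (homOfLE (Nat.le_succ n)).op =
        (𝔛.levelMap h n).hom.app (op U) := by
      change ((𝔛.levelRing h).map (homOfLE (Nat.le_succ n)).op).hom.app (op U) = _
      rw [show (homOfLE (Nat.le_succ n)) = (homOfLE (Nat.le_add_right n 1)) from rfl,
        FSch.Sys.levelRing_map_succ]
    rw [this]
    exact levelMap_app_surjective 𝔛 h n U hU

end formal

end Groth.Agent.Lead.OshSurj
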