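import Mathlib
import Groth.Agent.Helper3.P1Conn
import Groth.Prelude.Def_W4c5nonratstablectREq

/-!
# P1Irr: the projective line over a field is irreducible; R-equivalence and closed covers
-/

set_option autoImplicit false
set_option linter.style.haveILetI false
set_option linter.unusedVariables false

universe u

open AlgebraicGeometry CategoryTheory CategoryTheory.Limits TopologicalSpace Opposite

namespace Groth.Agent.Lead.P1Irr

open Groth.Agent.Helper1.ProjBC

theorem irreducibleSpace_QQ (κ : Type u) [Field κ] (φ : ULift.{u} ℤ →+* κ) :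
    IrreducibleSpace (QQ φ 1) := by
  let lift : Proj (CohB1.polyGrading 1 κ) ⟶ QQ φ 1 :=
    pullback.lift (γγ φ 1) (CohB1.ProjSpace.toSpec 1 κ) (specULiftZIsTerminal.hom_ext _ _)
  have hret : ββ φ 1 ≫ lift = 𝟙 _ := by
    apply pullback.hom_ext
    · rw [Category.assoc, pullback.lift_fst, Category.id_comp]
      exact ββ_γγ φ 1
    · rw [Category.assoc, pullback.lift_snd, Category.id_comp]
      exact ββ_toSpec φ 1
  have hsurj : Function.Surjective lift := by
    intro q
    refine ⟨ββ φ 1 q, ?_⟩
    have := congrArg (fun f => f q) hret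
    simpa using this
  haveI : IrreducibleSpace (Proj (CohB1.polyGrading 1 κ)) := inferInstance
  have h1 : IsIrreducible (Set.range lift) := by
    rw [← Set.image_univ]
    exact (IrreducibleSpace.isIrreducible_univ _).image _ lift.continuous.continuousOn
  rw [hsurj.range_eq] at h1
  exact (irreducibleSpace_def _).mpr h1

theorem irreducibleSpace_P1K (K : Type u) [Field K] : IrreducibleSpace (REq.P1K K) := by
  let φ : ULift.{u} ℤ →+* K :=
    (Int.castRingHom K).comp (ULift.ringEquiv : ULift.{u} ℤ ≃+* ℤ).toRingHom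
  have hcomp : specULiftZIsTerminal.from (Spec (CommRingCat.of K)) =
      Spec.map (CommRingCat.ofHom φ) := specULiftZIsTerminal.hom_ext _ _
  let e : REq.P1K K ≅ QQ φ 1 := pullback.congrHom rfl hcomp
  haveI := irreducibleSpace_QQ K φ
  have h1 : IsIrreducible (Set.range (Scheme.homeoOfIso e).symm) := by
    rw [← Set.image_univ]
    exact (IrreducibleSpace.isIrreducible_univ _).image _
      (Scheme.homeoOfIso e).symm.continuous.continuousOn
  rw [(Scheme.homeoOfIso e).symm.surjective.range_eq] at h1
  exact (irreducibleSpace_def _).mpr h1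

theorem main (k : Type u) [Field k] (Y : Scheme.{u})
    (g : Y ⟶ Spec (CommRingCat.of k)) (K : Type u) [Field K] [Algebra k K]
    (V W : Set Y) (hV : IsClosed V) (hW : IsClosed W) (hVW : V ∪ W = Set.univ)
    (hT : ∀ z : REq.Pts g K, ¬ (Set.range z.1.base ⊆ V ∩ W))
    (p q : REq.Pts g K) (hp : Set.range p.1.base ⊆ V) (hq : Set.range q.1.base ⊆ W) :
    ¬ REq.REquiv g K p q := by
  intro hpq
  have key : ∀ A B : REq.Pts g K, REq.ElemLink g K A B →
      Set.range A.1.base ⊆ V → Set.range B.1.base ⊆ V := by
    rintro A B ⟨U, h, a, b, -, -, -, ha, hb⟩ hA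
    haveI := irreducibleSpace_P1K K
    have hUirr : IsPreirreducible (U : Set (REq.P1K K)) :=
      (IrreducibleSpace.isIrreducible_univ _).isPreirreducible.open_subset U.isOpen
        (Set.subset_univ _)
    haveI : PreirreducibleSpace ↥(U : Scheme.{u}) := Subtype.preirreducibleSpace hUirr
    have hcov : (Set.univ : Set ↥(U : Scheme.{u})) ⊆ h.base ⁻¹' V ∪ h.base ⁻¹' W := by
      intro x _
      have : h.base x ∈ V ∪ W := by rw [hVW]; trivial
      exact this
    have hpre := (PreirreducibleSpace.isPreirreducible_univ (X := ↥(U : Scheme.{u})))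
    rcases (isPreirreducible_iff_isClosed_union_isClosed.mp hpre) _ _
      (hV.preimage h.continuous) (hW.preimage h.continuous) hcov with h1 | h1
    · rintro _ ⟨t, rfl⟩
      rw [← hb]
      exact h1 (Set.mem_univ (b.base t))
    · exfalso
      apply hT A
      rintro _ ⟨t, rfl⟩
      refine ⟨hA ⟨t, rfl⟩, ?_⟩
      rw [← ha]
      exact h1 (Set.mem_univ (a.base t))
  have ksymm : ∀ A B : REq.Pts g K, REq.ElemLink g K A B → REq.ElemLink g K B A := by
    rintro A B ⟨U, h, a, b, h1, h2, h3, h4, h5⟩
    exact ⟨U, h, b, a, h1, h3, h2, h5, h4⟩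
  have hiff : ∀ A B : REq.Pts g K, Relation.EqvGen (REq.ElemLink g K) A B →
      (Set.range A.1.base ⊆ V ↔ Set.range B.1.base ⊆ V) := by
    intro A B hAB
    induction hAB with
    | rel x y hxy => exact ⟨key x y hxy, key y x (ksymm x y hxy)⟩
    | refl x => exact Iff.rfl
    | symm x y _ ih => exact ih.symm
    | trans x y z _ _ ih1 ih2 => exact ih1.trans ih2
  exact hT q (fun x hx => ⟨(hiff p q hpq).mp hp hx, hq hx⟩)

end Groth.Agent.Lead.P1Irr
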