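import Groth.Agent.S0385

set_option autoImplicit false
universe u
open CategoryTheory CategoryTheory.Limits AlgebraicGeometry Opposite TopologicalSpace

namespace Groth.Agent.Lead.PFinLoc

variable {X Y : Scheme.{u}} (f : X ⟶ Y)

/-- base change of a factorisation immersion + finite -/
theorem exists_fac_baseChange {T : Scheme.{u}} (φ : T ⟶ Y)
    (h : ∃ (Y' : Scheme.{u}) (f' : X ⟶ Y') (u : Y' ⟶ Y), IsImmersion f' ∧ IsFinite u ∧ f' ≫ u = f) :
    ∃ (Z : Scheme.{u}) (g : pullback f φ ⟶ Z) (u : Z ⟶ T),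
      IsImmersion g ∧ IsFinite u ∧ g ≫ u = pullback.snd f φ := by
  obtain ⟨Y', f', u, hf', hu, hfu⟩ := h
  have hw : (pullback.fst f φ ≫ f') ≫ u = pullback.snd f φ ≫ φ := by
    rw [Category.assoc, hfu, pullback.condition]
  refine ⟨pullback u φ, pullback.lift (pullback.fst f φ ≫ f') (pullback.snd f φ) hw,
    pullback.snd u φ, ?_, inferInstance, pullback.lift_snd _ _ _⟩
  have hbig : IsPullback (pullback.fst f φ)
      (pullback.lift (pullback.fst f φ ≫ f') (pullback.snd f φ) hw ≫ pullback.snd u φ)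
      (f' ≫ u) φ := by
    rw [pullback.lift_snd, hfu]
    exact IsPullback.of_hasPullback f φ
  have htop := IsPullback.of_bot hbig (pullback.lift_fst _ _ _).symm
    (IsPullback.of_hasPullback u φ)
  exact MorphismProperty.of_isPullback (P := @IsImmersion) htop hf'

/-- finiteness of fibres can be checked on the local schemes of the base -/
theorem locallyQuasiFinite_of_local [LocallyOfFiniteType f] [QuasiCompact f]
    (h : ∀ y : Y, LocallyQuasiFinite (pullback.snd f (Y.fromSpecStalk y))) :
    LocallyQuasiFinite f := by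
  rw [locallyQuasiFinite_iff_finite_preimage_singleton]
  intro y
  haveI := h y
  have hfin := (pullback.snd f (Y.fromSpecStalk y)).finite_preimage_singleton
    (IsLocalRing.closedPoint (Y.presheaf.stalk y))
  refine (hfin.image (pullback.fst f (Y.fromSpecStalk y))).subset ?_
  intro x hx
  have hxy : f x = (Y.fromSpecStalk y) (IsLocalRing.closedPoint (Y.presheaf.stalk y)) := by
    rw [Scheme.fromSpecStalk_closedPoint]
    exact hx
  obtain ⟨z, hz1, hz2⟩ := Scheme.Pullback.exists_preimage_pullback x _ hxy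
  exact ⟨z, hz2, hz1⟩

/-- separatedness can be checked on the local schemes of the base -/
theorem isSeparated_of_local [QuasiSeparated f]
    (h : ∀ y : Y, IsSeparated (pullback.snd f (Y.fromSpecStalk y))) :
    IsSeparated f := by
  apply IsSeparated.of_valuativeCriterion
  intro S
  refine ⟨fun l₁ l₂ => ?_⟩
  let y : Y := S.i₂ (IsLocalRing.closedPoint S.R)
  let ψ : Spec (.of S.R) ⟶ Spec (Y.presheaf.stalk y) := Spec.map (Scheme.stalkClosedPointTo S.i₂)
  have hψ : ψ ≫ Y.fromSpecStalk y = S.i₂ := Scheme.Spec_stalkClosedPointTo_fromSpecStalk S.i₂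
  haveI := h y
  have hl : ∀ l : S.commSq.LiftStruct, l.l ≫ f = ψ ≫ Y.fromSpecStalk y := fun l => by
    rw [hψ, l.fac_right]
  have hi : S.i₁ ≫ f = (Spec.map (CommRingCat.ofHom (algebraMap S.R S.K)) ≫ ψ) ≫
      Y.fromSpecStalk y := by
    rw [Category.assoc, hψ, S.commSq.w]
  let S' : ValuativeCommSq (pullback.snd f (Y.fromSpecStalk y)) :=
    { R := S.R
      K := S.K
      i₁ := pullback.lift S.i₁ (Spec.map (CommRingCat.ofHom (algebraMap S.R S.K)) ≫ ψ) hi
      i₂ := ψ
      commSq := ⟨by rw [pullback.lift_snd]⟩ }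
  let mk : S.commSq.LiftStruct → S'.commSq.LiftStruct := fun l =>
    { l := pullback.lift l.l ψ (hl l)
      fac_left := by
        have e1 : S'.i₁ ≫ pullback.fst f (Y.fromSpecStalk y) = S.i₁ := pullback.lift_fst _ _ _
        have e2 : S'.i₁ ≫ pullback.snd f (Y.fromSpecStalk y) =
            Spec.map (CommRingCat.ofHom (algebraMap S.R S.K)) ≫ ψ := pullback.lift_snd _ _ _
        apply pullback.hom_ext
        · rw [Category.assoc, pullback.lift_fst, e1]
          exact l.fac_left
        · rw [Category.assoc, pullback.lift_snd, e2]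
      fac_right := pullback.lift_snd _ _ _ }
  have hsub := IsSeparated.valuativeCriterion (pullback.snd f (Y.fromSpecStalk y)) S'
  have heq : mk l₁ = mk l₂ := Subsingleton.elim _ _
  have h1 : (mk l₁).l ≫ pullback.fst f (Y.fromSpecStalk y) = l₁.l := pullback.lift_fst _ _ _
  have h2 : (mk l₂).l ≫ pullback.fst f (Y.fromSpecStalk y) = l₂.l := pullback.lift_fst _ _ _
  ext1
  rw [← h1, ← h2, heq]

theorem main [IsNoetherian Y] [LocallyOfFiniteType f] [QuasiCompact f] :
    (∃ (Y' : Scheme.{u}) (f' : X ⟶ Y') (u : Y' ⟶ Y), IsImmersion f' ∧ IsFinite u ∧ f' ≫ u = f) ↔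
      ∀ y : Y, ∃ (Z : Scheme.{u}) (g : pullback f (Y.fromSpecStalk y) ⟶ Z)
        (u : Z ⟶ Spec (Y.presheaf.stalk y)),
        IsImmersion g ∧ IsFinite u ∧ g ≫ u = pullback.snd f (Y.fromSpecStalk y) := by
  constructor
  · intro h y
    exact exists_fac_baseChange f (Y.fromSpecStalk y) h
  · intro h
    haveI : IsLocallyNoetherian X := LocallyOfFiniteType.isLocallyNoetherian f
    haveI : QuasiSeparated f := QuasiSeparated.of_quasiSeparatedSpace f
    haveI : LocallyQuasiFinite f := by
      apply locallyQuasiFinite_of_local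
      intro y
      obtain ⟨Z, g, u, hg, hu, hgu⟩ := h y
      rw [← hgu]
      infer_instance
    haveI : IsSeparated f := by
      apply isSeparated_of_local
      intro y
      obtain ⟨Z, g, u, hg, hu, hgu⟩ := h y
      rw [← hgu]
      infer_instance
    obtain ⟨T, j, π, hj, -, hπ, hjπ⟩ := Groth.Agent.S0385.result f
    exact ⟨T, j, π, inferInstance, hπ, hjπ⟩

end Groth.Agent.Lead.PFinLoc
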