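import Mathlib
import Groth.Prelude.Def_PP16

set_option autoImplicit false
universe u
open TensorProduct

namespace Groth.Agent.Lead.PPAffA

section Alg

variable (n : ℕ) (A B : Type u) [CommRing A] [CommRing B] [Algebra A B]
  (M N : Type u) [AddCommGroup M] [Module B M] [AddCommGroup N] [Module B N]
  (Q : Type u) [CommRing Q] [Algebra B Q] (lQ : B →+* Q)
  (W : Type u) [AddCommGroup W] [Module Q W] [Module B W] [IsScalarTower B Q W]
  (ρ : M →ₗ[B] W) (hb : IsBaseChange Q ρ)
  (θ : PP16.P n A B ≃+* Q)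
  (hθl : ∀ b, θ (algebraMap B (PP16.P n A B) b) = lQ b)
  (hθr : ∀ b, θ (PP16.dn n A B b) = algebraMap B Q b)

/-- `θ` as a `B`-linear equivalence for the right structures -/
noncomputable def θr : PP16.Pr n A B ≃ₗ[B] Q :=
  { toFun := fun p => θ (show PP16.P n A B from p)
    invFun := fun q => (θ.symm q : PP16.P n A B)
    left_inv := fun p => θ.symm_apply_apply _
    right_inv := fun q => θ.apply_symm_apply _
    map_add' := fun p q => map_add θ _ _
    map_smul' := fun b p => by
      change θ ((PP16.dn n A B b : PP16.P n A B) * (show PP16.P n A B from p)) = b • θ _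
      rw [map_mul, hθr, Algebra.smul_def] }

/-- the comparison `P^n(M) ≃ W` -/
noncomputable def Psi : PP16.PM n A B M ≃+ W :=
  ((TensorProduct.congr (θr n A B Q θ hθr) (LinearEquiv.refl B M)).toAddEquiv).trans
    hb.equiv.toAddEquiv

theorem Psi_tmul (p : PP16.Pr n A B) (m : M) :
    Psi n A B M Q W ρ hb θ hθr (p ⊗ₜ[B] m) = θ (show PP16.P n A B from p) • ρ m := by
  change hb.equiv ((TensorProduct.congr (θr n A B Q θ hθr) (LinearEquiv.refl B M)) (p ⊗ₜ[B] m)) = _
  rw [TensorProduct.congr_tmul, IsBaseChange.equiv_tmul]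
  rfl

theorem Psi_dM (m : M) : Psi n A B M Q W ρ hb θ hθr (PP16.dM n A B M m) = ρ m := by
  change Psi n A B M Q W ρ hb θ hθr ((1 : PP16.Pr n A B) ⊗ₜ[B] m) = _
  rw [Psi_tmul]
  change θ (1 : PP16.P n A B) • ρ m = ρ m
  rw [map_one, one_smul]

include hθl

theorem Psi_smul (b : B) (t : PP16.PM n A B M) :
    Psi n A B M Q W ρ hb θ hθr (algebraMap B (PP16.P n A B) b • t) =
      lQ b • Psi n A B M Q W ρ hb θ hθr t := by
  induction t using TensorProduct.induction_on with
  | zero => rw [smul_zero, map_zero, smul_zero]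
  | tmul p m =>
    rw [TensorProduct.smul_tmul', Psi_tmul, Psi_tmul]
    change θ (algebraMap B (PP16.P n A B) b * (show PP16.P n A B from p)) • ρ m = _
    rw [map_mul, hθl, mul_smul]
  | add x y hx hy => rw [smul_add, map_add, map_add, hx, hy, smul_add]

include hb hθr in
theorem exists_l (u : PP16.PM n A B M →+ N)
    (hu : ∀ (b : B) (t : PP16.PM n A B M), u (algebraMap B (PP16.P n A B) b • t) = b • u t) :
    ∃ l : W →+ N, (∀ (b : B) (w : W), l (lQ b • w) = b • l w) ∧
      ∀ m : M, l (ρ m) = u (PP16.dM n A B M m) := by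
  refine ⟨u.comp (Psi n A B M Q W ρ hb θ hθr).symm.toAddMonoidHom, fun b w => ?_, fun m => ?_⟩
  · obtain ⟨t, rfl⟩ := (Psi n A B M Q W ρ hb θ hθr).surjective w
    rw [← Psi_smul n A B M Q lQ W ρ hb θ hθl hθr]
    change u ((Psi n A B M Q W ρ hb θ hθr).symm (Psi n A B M Q W ρ hb θ hθr _)) =
      b • u ((Psi n A B M Q W ρ hb θ hθr).symm (Psi n A B M Q W ρ hb θ hθr t))
    rw [AddEquiv.symm_apply_apply, AddEquiv.symm_apply_apply, hu]
  · change u ((Psi n A B M Q W ρ hb θ hθr).symm (ρ m)) = _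
    rw [← Psi_dM n A B M Q W ρ hb θ hθr m, AddEquiv.symm_apply_apply]

end Alg

end Groth.Agent.Lead.PPAffA
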