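import Groth.Agent.Lead.PPChartB
import Groth.Agent.Helper4.QcohGlue
import Mathlib

/-!
# Lead: `p₁ : X^{(n)}_Δ ⟶ X` is affine; `P^n(F)` is quasi-coherent
-/

set_option autoImplicit false
open CategoryTheory CategoryTheory.Limits AlgebraicGeometry Opposite TopologicalSpace TensorProduct
universe u

namespace Groth.Agent.Lead.PPChartC
open Groth.Agent.Lead.PPChartA Groth.Agent.Lead.PPChartB

variable {X S : Scheme.{u}} (f : X ⟶ S) (n : ℕ)

/-- small affine charts: affine `U ∋ x` over an affine `V` of `S` -/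
theorem exists_pair (x : X) (U₀ : X.Opens) (hx : x ∈ U₀) :
    ∃ (U : X.Opens) (V : S.Opens), IsAffineOpen U ∧ IsAffineOpen V ∧ x ∈ U ∧ U ≤ U₀ ∧
      U ≤ f ⁻¹ᵁ V := by
  obtain ⟨_, ⟨V, hV, rfl⟩, hxV, -⟩ :=
    S.isBasis_affineOpens.exists_subset_of_mem_open (Set.mem_univ (f x)) isOpen_univ
  obtain ⟨_, ⟨U, hU, rfl⟩, hxU, hUV⟩ :=
    X.isBasis_affineOpens.exists_subset_of_mem_open (show x ∈ f ⁻¹ᵁ V ⊓ U₀ from ⟨hxV, hx⟩)
      (f ⁻¹ᵁ V ⊓ U₀).isOpen
  exact ⟨U, V, hU, hV, hxU, fun y hy => (hUV hy).2, fun y hy => (hUV hy).1⟩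

instance isAffineHom_pr1 : IsAffineHom (PrinPart.pr1 f n) := by
  apply isAffineHom_of_forall_exists_isAffineOpen
  intro x
  obtain ⟨U, V, hU, hV, hxU, -, hUV⟩ := exists_pair f x ⊤ trivial
  exact ⟨U, hxU, hU, isAffineOpen_pr1_preimage f n hU hV hUV⟩

theorem isQuasicoherent_PMod (F : X.Modules) (hF : Coh.IsQCoh F) :
    Coh.IsQCoh (PrinPart.PMod f n F) := by
  haveI : F.IsQuasicoherent := hF
  haveI : ((Scheme.Modules.pullback (PrinPart.pr2 f n)).obj F).IsQuasicoherent :=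
    StalkPull.isQuasicoherent_pullbackObj _ F
  exact Groth.Agent.Helper4.QcohGlue.isQuasicoherent_pushforward (PrinPart.pr1 f n) _

end Groth.Agent.Lead.PPChartC
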