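import Groth.Agent.Lead.PPChartC
import Groth.Agent.Helper4.SecDict
import Groth.Agent.Helper4.FTGlue
import Groth.Agent.Helper4.FPGlue
import Groth.Agent.S5002
import Groth.Agent.S3814
import Mathlib

/-!
# Lead: finiteness of `P^n_{X/S}(F)`
-/

set_option autoImplicit false
open CategoryTheory CategoryTheory.Limits AlgebraicGeometry Opposite TopologicalSpace TensorProduct
universe u

namespace Groth.Agent.Lead.PPChartD
open Groth.Agent.Lead.PPChartA Groth.Agent.Lead.PPChartB Groth.Agent.Lead.PPChartC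
  Groth.Agent.Lead.BCMap Groth.Agent.Helper4

section Alg

theorem finite_of_two {B P L M : Type u} [CommRing B] [CommRing P] [AddCommGroup L] [Module B L]
    [Module.Finite B L] [AddCommGroup M] [Module P M] (l r : B →+* P)
    (hfin : letI := l.toAlgebra; Module.Finite B P)
    (ρ : letI := Module.compHom M r; L →ₗ[B] M)
    (hρ : letI := r.toAlgebra; letI := Module.compHom M r
      haveI : IsScalarTower B P M := IsScalarTower.of_compHom _ _ _
      IsBaseChange P ρ) :
    letI := Module.compHom M l; Module.Finite B M := by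
  have h1 : Module.Finite P M := by
    letI := r.toAlgebra
    letI := Module.compHom M r
    haveI : IsScalarTower B P M := IsScalarTower.of_compHom _ _ _
    exact Module.Finite.equiv hρ.equiv
  letI := l.toAlgebra
  letI := Module.compHom M l
  haveI : IsScalarTower B P M := IsScalarTower.of_compHom _ _ _
  exact Module.Finite.trans P M

theorem fp_of_two {B P L M : Type u} [CommRing B] [CommRing P] [AddCommGroup L] [Module B L]
    [Module.FinitePresentation B L] [AddCommGroup M] [Module P M] (l r : B →+* P)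
    (hfin : letI := l.toAlgebra; Module.FinitePresentation B P)
    (ρ : letI := Module.compHom M r; L →ₗ[B] M)
    (hρ : letI := r.toAlgebra; letI := Module.compHom M r
      haveI : IsScalarTower B P M := IsScalarTower.of_compHom _ _ _
      IsBaseChange P ρ) :
    letI := Module.compHom M l; Module.FinitePresentation B M := by
  have h1 : Module.FinitePresentation P M := by
    letI := r.toAlgebra
    letI := Module.compHom M r
    haveI : IsScalarTower B P M := IsScalarTower.of_compHom _ _ _
    exact _root_.FinitePresentation.of_isBaseChange ρ hρ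
  letI := l.toAlgebra
  letI := Module.compHom M l
  haveI : IsScalarTower B P M := IsScalarTower.of_compHom _ _ _
  exact Module.FinitePresentation.trans B M P

end Alg

section Geo
variable {X S : Scheme.{u}} (f : X ⟶ S) (n : ℕ) {U : X.Opens} (hU : IsAffineOpen U) {V : S.Opens}
  (hV : IsAffineOpen V) (e : U ≤ f ⁻¹ᵁ V)

include hU hV in
/-- the chart as a linear equivalence for the left structures -/
theorem exists_chart_linear :
    letI := (f.appLE V U e).hom.toAlgebra
    letI := ((PrinPart.pr1 f n).app U).hom.toAlgebra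
    ∃ θ : PP16.P n Γ(S, V) Γ(X, U) ≃ₗ[Γ(X, U)] Γ(PrinPart.nbhd f n, PrinPart.pr1 f n ⁻¹ᵁ U),
      (∀ p q, θ (p * q) = θ p * θ q) ∧ θ 1 = 1 ∧
      (∀ b : Γ(X, U), θ (PP16.dn n Γ(S, V) Γ(X, U) b) =
        (PrinPart.nbhd f n).presheaf.map (homOfLE (PrinPart.preimage_pr1 f n U).le).op
          ((PrinPart.pr2 f n).app U b)) := by
  letI := (f.appLE V U e).hom.toAlgebra
  letI := ((PrinPart.pr1 f n).app U).hom.toAlgebra
  obtain ⟨θ, hθ₁, hθ₂⟩ := exists_chart f n hU hV e
  refine ⟨{ θ with
    map_smul' := fun b p => ?_ }, fun p q => map_mul θ p q, map_one θ, hθ₂⟩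
  change θ (b • p) = b • θ p
  rw [Algebra.smul_def, map_mul, hθ₁, Algebra.smul_def]
  rfl

include hU hV in
theorem finite_sections_nbhd (hft : (f.appLE V U e).hom.FiniteType) :
    letI := ((PrinPart.pr1 f n).app U).hom.toAlgebra
    Module.Finite Γ(X, U) Γ(PrinPart.nbhd f n, PrinPart.pr1 f n ⁻¹ᵁ U) := by
  letI := (f.appLE V U e).hom.toAlgebra
  haveI : Algebra.FiniteType Γ(S, V) Γ(X, U) := hft
  letI := ((PrinPart.pr1 f n).app U).hom.toAlgebra
  obtain ⟨θ, -, -, -⟩ := exists_chart_linear f n hU hV e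
  haveI := Groth.Agent.S5002.result n Γ(S, V) Γ(X, U)
  exact Module.Finite.equiv θ

include hU hV in
theorem finite_sections_PMod (hft : (f.appLE V U e).hom.FiniteType) (F : X.Modules)
    [F.IsQuasicoherent] [Module.Finite Γ(X, U) Γ(F, U)] :
    Module.Finite Γ(X, U) Γ(PrinPart.PMod f n F, U) := by
  have hT := isAffineOpen_pr1_preimage f n hU hV e
  have e2 : PrinPart.pr1 f n ⁻¹ᵁ U ≤ PrinPart.pr2 f n ⁻¹ᵁ U := (PrinPart.preimage_pr1 f n U).le
  obtain ⟨ρ, hρ, hb⟩ := exists_isBaseChange_pbSec (PrinPart.pr2 f n) F hU hT e2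
  have h1 := finite_of_two ((PrinPart.pr1 f n).app U).hom
    ((PrinPart.pr2 f n).appLE U _ e2).hom (finite_sections_nbhd f n hU hV e hft) ρ hb
  exact h1

include hU hV in
theorem fp_sections_nbhd (hfp : (f.appLE V U e).hom.FinitePresentation) :
    letI := ((PrinPart.pr1 f n).app U).hom.toAlgebra
    Module.FinitePresentation Γ(X, U) Γ(PrinPart.nbhd f n, PrinPart.pr1 f n ⁻¹ᵁ U) := by
  letI := (f.appLE V U e).hom.toAlgebra
  haveI : Algebra.FinitePresentation Γ(S, V) Γ(X, U) := hfp
  letI := ((PrinPart.pr1 f n).app U).hom.toAlgebra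
  obtain ⟨θ, -, -, -⟩ := exists_chart_linear f n hU hV e
  haveI := Groth.Agent.S3814.result n Γ(S, V) Γ(X, U)
  exact Module.FinitePresentation.of_equiv θ

include hU hV in
theorem fp_sections_PMod (hfp : (f.appLE V U e).hom.FinitePresentation) (F : X.Modules)
    [F.IsQuasicoherent] [Module.FinitePresentation Γ(X, U) Γ(F, U)] :
    Module.FinitePresentation Γ(X, U) Γ(PrinPart.PMod f n F, U) := by
  have hT := isAffineOpen_pr1_preimage f n hU hV e
  have e2 : PrinPart.pr1 f n ⁻¹ᵁ U ≤ PrinPart.pr2 f n ⁻¹ᵁ U := (PrinPart.preimage_pr1 f n U).le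
  obtain ⟨ρ, hρ, hb⟩ := exists_isBaseChange_pbSec (PrinPart.pr2 f n) F hU hT e2
  have h1 := fp_of_two ((PrinPart.pr1 f n).app U).hom
    ((PrinPart.pr2 f n).appLE U _ e2).hom (fp_sections_nbhd f n hU hV e hfp) ρ hb
  exact h1

end Geo

section Main
variable {X S : Scheme.{u}} (f : X ⟶ S) (n : ℕ)

/-- **S5968** -/
theorem isCoh_PMod [LocallyOfFiniteType f] (F : X.Modules) (hF : Coh.IsCoh F) :
    Coh.IsCoh (PrinPart.PMod f n F) := by
  have hq := isQuasicoherent_PMod f n F hF.1
  refine ⟨hq, ?_⟩
  haveI : (PrinPart.PMod f n F).IsQuasicoherent := hq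
  haveI : F.IsQuasicoherent := hF.1
  apply FTGlue.isFiniteType_of_finite_sections
  intro x
  obtain ⟨U, V, hU, hV, hxU, -, hUV⟩ := exists_pair f x ⊤ trivial
  refine ⟨U, hU, hxU, ?_⟩
  have hft := HasRingHomProperty.appLE (P := @LocallyOfFiniteType) f inferInstance
    ⟨V, hV⟩ ⟨U, hU⟩ hUV
  haveI := SecDict.finite_sections hU F hF.1 hF.2
  exact finite_sections_PMod f n hU hV hUV hft F

/-- **S5971** -/
theorem isFP_PMod [LocallyOfFinitePresentation f] (F : X.Modules) (hF : CohB1.IsFP F) :
    CohB1.IsFP (PrinPart.PMod f n F) := by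
  haveI : SheafOfModules.IsFinitePresentation (R := X.ringCatSheaf) F := hF
  haveI : F.IsQuasicoherent := inferInstance
  have hq := isQuasicoherent_PMod f n F inferInstance
  haveI : (PrinPart.PMod f n F).IsQuasicoherent := hq
  apply FPGlue.isFinitePresentation_of_fp_sections
  intro x
  obtain ⟨U, V, hU, hV, hxU, -, hUV⟩ := exists_pair f x ⊤ trivial
  refine ⟨U, hU, hxU, ?_⟩
  have hfp := HasRingHomProperty.appLE (P := @LocallyOfFinitePresentation) f inferInstance
    ⟨V, hV⟩ ⟨U, hU⟩ hUV
  haveI := FPGlue.fp_sections F hF hU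
  exact fp_sections_PMod f n hU hV hUV hfp F

end Main

end Groth.Agent.Lead.PPChartD
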