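import Mathlib
import Groth.Agent.Lead.PPAffA
import Groth.Agent.Lead.AffDerA
import Groth.Agent.Lead.PPChartC
import Groth.Agent.Lead.PPChartD

set_option autoImplicit false
set_option backward.isDefEq.respectTransparency false
set_option backward.isDefEq.respectTransparency.types false
universe u
open CategoryTheory AlgebraicGeometry TopologicalSpace Opposite TensorProduct

namespace Groth.Agent.Lead.PPAffB

open Groth.Agent.Lead.PPChartB Groth.Agent.Lead.PPChartD Groth.Agent.Lead.BCMap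

variable {X S : Scheme.{u}} [IsAffine X] [IsAffine S] (f : X ⟶ S) (k : ℕ) (F G : X.Modules)
  [F.IsQuasicoherent]

theorem exists_hom_of_u :
    letI := (f.appLE ⊤ ⊤ (AffDerA.le_pre f)).hom.toAlgebra
    ∀ (u : PP16.PM k Γ(S, ⊤) Γ(X, ⊤) Γ(F, ⊤) →+ Γ(G, ⊤)),
      (∀ (b : Γ(X, ⊤)) (t : PP16.PM k Γ(S, ⊤) Γ(X, ⊤) Γ(F, ⊤)),
        u (algebraMap Γ(X, ⊤) (PP16.P k Γ(S, ⊤) Γ(X, ⊤)) b • t) = b • u t) →
      ∃ v : PrinPart.PMod f k F ⟶ G, ∀ m : Γ(F, ⊤),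
        v.app ⊤ (PrinPart.dP f k F ⊤ m) = u (PP16.dM k Γ(S, ⊤) Γ(X, ⊤) Γ(F, ⊤) m) := by
  letI algA := (f.appLE ⊤ ⊤ (AffDerA.le_pre f)).hom.toAlgebra
  intro u hu
  have hU := isAffineOpen_top X
  have hV := isAffineOpen_top S
  have e := AffDerA.le_pre f
  have hT := isAffineOpen_pr1_preimage f k hU hV e
  have e2 : PrinPart.pr1 f k ⁻¹ᵁ ⊤ ≤ PrinPart.pr2 f k ⁻¹ᵁ ⊤ := (PrinPart.preimage_pr1 f k ⊤).le
  obtain ⟨θ, hθl, hθr⟩ := exists_chart f k hU hV e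
  obtain ⟨ρ, hρ, hb⟩ := exists_isBaseChange_pbSec (PrinPart.pr2 f k) F hU hT e2
  letI algQ : Algebra Γ(X, ⊤) Γ(PrinPart.nbhd f k, PrinPart.pr1 f k ⁻¹ᵁ ⊤) :=
    ((PrinPart.pr2 f k).appLE ⊤ _ e2).hom.toAlgebra
  letI modW : Module Γ(X, ⊤) Γ((Scheme.Modules.pullback (PrinPart.pr2 f k)).obj F,
      PrinPart.pr1 f k ⁻¹ᵁ ⊤) := Module.compHom _ ((PrinPart.pr2 f k).appLE ⊤ _ e2).hom
  haveI : IsScalarTower Γ(X, ⊤) Γ(PrinPart.nbhd f k, PrinPart.pr1 f k ⁻¹ᵁ ⊤)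
      Γ((Scheme.Modules.pullback (PrinPart.pr2 f k)).obj F, PrinPart.pr1 f k ⁻¹ᵁ ⊤) :=
    IsScalarTower.of_compHom _ _ _
  obtain ⟨l, hl1, hl2⟩ := PPAffA.exists_l k Γ(S, ⊤) Γ(X, ⊤) Γ(F, ⊤) Γ(G, ⊤)
    Γ(PrinPart.nbhd f k, PrinPart.pr1 f k ⁻¹ᵁ ⊤) ((PrinPart.pr1 f k).app ⊤).hom
    Γ((Scheme.Modules.pullback (PrinPart.pr2 f k)).obj F, PrinPart.pr1 f k ⁻¹ᵁ ⊤)
    ρ hb θ hθl hθr u hu
  haveI : (PrinPart.PMod f k F).IsQuasicoherent :=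
    PPChartC.isQuasicoherent_PMod f k F inferInstance
  let l' : Γ(PrinPart.PMod f k F, ⊤) →+ Γ(G, ⊤) := l
  obtain ⟨v, hv⟩ := AffHomA.exists_hom (PrinPart.PMod f k F) G l' (fun r m => hl1 r m)
  refine ⟨v, fun m => ?_⟩
  rw [hv]
  have : PrinPart.dP f k F ⊤ m = ρ m := by
    rw [hρ]; rfl
  rw [this]
  exact hl2 m

end Groth.Agent.Lead.PPAffB
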