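import Mathlib
import Groth.Agent.Lead.PPAffB
import Groth.Agent.S3815

set_option autoImplicit false
set_option backward.isDefEq.respectTransparency false
set_option backward.isDefEq.respectTransparency.types false
universe u
open CategoryTheory AlgebraicGeometry TopologicalSpace Opposite TensorProduct

namespace Groth.Agent.Lead.PPAffC

variable {X S : Scheme.{u}} [IsAffine X] [IsAffine S] (f : X ⟶ S) (k : ℕ) (F G : X.Modules)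
  [F.IsQuasicoherent]

theorem key (φ : Γ(S, ⊤) ⟶ Γ(X, ⊤)) (hφ : f.appLE ⊤ ⊤ (AffDerA.le_pre f) = φ) :
    letI : Algebra Γ(S, ⊤) Γ(X, ⊤) := φ.hom.toAlgebra
    letI : Module Γ(S, ⊤) Γ(F, ⊤) := Module.compHom Γ(F, ⊤) φ.hom
    letI : Module Γ(S, ⊤) Γ(G, ⊤) := Module.compHom Γ(G, ⊤) φ.hom
    haveI : IsScalarTower Γ(S, ⊤) Γ(X, ⊤) Γ(F, ⊤) := IsScalarTower.of_algebraMap_smul fun _ _ => rfl
    haveI : IsScalarTower Γ(S, ⊤) Γ(X, ⊤) Γ(G, ⊤) := IsScalarTower.of_algebraMap_smul fun _ _ => rfl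
    ∀ D' : Γ(F, ⊤) →ₗ[Γ(S, ⊤)] Γ(G, ⊤), Diff16.IsDiffOpLE Γ(S, ⊤) Γ(X, ⊤) Γ(F, ⊤) Γ(G, ⊤) k D' →
      ∃ D : F.presheaf ⟶ G.presheaf, PrinPart.IsDiffOpLE f F G k D ∧
        ∀ m : Γ(F, ⊤), (D.app (op ⊤)).hom m = D' m := by
  subst hφ
  letI : Algebra Γ(S, ⊤) Γ(X, ⊤) := (f.appLE ⊤ ⊤ (AffDerA.le_pre f)).hom.toAlgebra
  letI : Module Γ(S, ⊤) Γ(F, ⊤) := Module.compHom Γ(F, ⊤) (f.appLE ⊤ ⊤ (AffDerA.le_pre f)).hom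
  letI : Module Γ(S, ⊤) Γ(G, ⊤) := Module.compHom Γ(G, ⊤) (f.appLE ⊤ ⊤ (AffDerA.le_pre f)).hom
  haveI : IsScalarTower Γ(S, ⊤) Γ(X, ⊤) Γ(F, ⊤) := IsScalarTower.of_algebraMap_smul fun _ _ => rfl
  haveI : IsScalarTower Γ(S, ⊤) Γ(X, ⊤) Γ(G, ⊤) := IsScalarTower.of_algebraMap_smul fun _ _ => rfl
  intro D' hD'
  obtain ⟨u, ⟨hu1, hu2⟩, -⟩ :=
    (Groth.Agent.S3815.result k Γ(S, ⊤) Γ(X, ⊤) Γ(F, ⊤) Γ(G, ⊤) D').mp hD'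
  obtain ⟨v, hv⟩ := PPAffB.exists_hom_of_u f k F G u hu1
  refine ⟨PrinPart.dPHom f k F ≫ v.mapPresheaf, ⟨v, fun U t => rfl⟩, fun m => ?_⟩
  change v.app ⊤ (PrinPart.dP f k F ⊤ m) = D' m
  rw [hv, hu2]

end Groth.Agent.Lead.PPAffC
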