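import Groth.Agent.Lead.PPOneB
import Groth.Agent.Lead.OmegaSeqC
import Groth.Agent.S3806
import Groth.Agent.S3805
import Mathlib

/-!
# Lead: base change of `P^n_{X/S}`
-/

set_option autoImplicit false
set_option backward.isDefEq.respectTransparency false
set_option backward.isDefEq.respectTransparency.types false
open CategoryTheory CategoryTheory.Limits AlgebraicGeometry Opposite TopologicalSpace TensorProduct
universe u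

attribute [local instance] PP16.mapAlgebra PP16.isScalarTower_mapAlgebra

namespace Groth.Agent.Lead.PPBCa
open Scheme.Modules OmegaSh Groth.Agent.Helper4 Groth.Agent.Lead.BCMap
  Groth.Agent.Lead.PPChartF Groth.Agent.Lead.PPOneB

section Eps
variable {X S : Scheme.{u}} (f : X ⟶ S) (n : ℕ)
variable {U : X.Opens} (hU : IsAffineOpen U) {V : S.Opens} (hV : IsAffineOpen V) (e : U ≤ f ⁻¹ᵁ V)

include hU hV in
theorem exists_eps :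
    letI := (f.appLE V U e).hom.toAlgebra
    ∃ ε : Γ(PrinPart.P f n, U) ≃ₗ[Γ(X, U)] PP16.P n Γ(S, V) Γ(X, U),
      ∀ s : Γ(X, U), ε (PrinPart.dn f n U s) = PP16.dn n Γ(S, V) Γ(X, U) s := by
  letI := (f.appLE V U e).hom.toAlgebra
  obtain ⟨Ψ, hΨ₁, hΨ₂⟩ := exists_Psi f hU hV e n
  refine ⟨{ Ψ with map_smul' := fun a m => ?_ }, hΨ₂⟩
  change Ψ (a • m) = a • Ψ m
  rw [hΨ₁, Algebra.smul_def]

end Eps

section Square
variable {X S X' S' : Scheme.{u}} (f : X ⟶ S) (f' : X' ⟶ S') (u : X' ⟶ X) (n : ℕ)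
  (φ : (Scheme.Modules.pullback u).obj (PrinPart.P f n) ⟶ PrinPart.P f' n)
  (hφ : PrinPart.IsPMap f f' u n φ)

include hφ in
theorem phi_pbSec {U : X.Opens} {U' : X'.Opens} (e : U' ≤ u ⁻¹ᵁ U) (s : Γ(X, U)) :
    φ.app U' (pbSec u (PrinPart.P f n) U U' e (PrinPart.dn f n U s)) =
      PrinPart.dn f' n U' (u.appLE U U' e s) := by
  have h1 := congr($(φ.mapPresheaf.naturality (homOfLE e).op)
    (pullSect u (PrinPart.P f n) U (PrinPart.dn f n U s)))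
  refine h1.trans ?_
  change (PrinPart.P f' n).presheaf.map (homOfLE e).op
    (φ.app (u ⁻¹ᵁ U) (pullSect u (PrinPart.P f n) U (PrinPart.dn f n U s))) = _
  rw [hφ U s]
  exact (PPGenA.dn_map f' n e _).symm

end Square

section BaseChange
variable {X S X' S' : Scheme.{u}} (f : X ⟶ S) (g : S' ⟶ S) (u : X' ⟶ X) (f' : X' ⟶ S')
  (hsq : IsPullback u f' f g) (n : ℕ)
  (φ : (Scheme.Modules.pullback u).obj (PrinPart.P f n) ⟶ PrinPart.P f' n)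
  (hφ : PrinPart.IsPMap f f' u n φ)

include hsq hφ in
/-- **S5954** -/
theorem isIso_of_isPullback : IsIso φ := by
  haveI : (PrinPart.P f n).IsQuasicoherent := PPChartC.isQuasicoherent_PMod f n _ inferInstance
  haveI : (PrinPart.P f' n).IsQuasicoherent := PPChartC.isQuasicoherent_PMod f' n _ inferInstance
  haveI := StalkPull.isQuasicoherent_pullbackObj u (PrinPart.P f n)
  apply QcohLocal.isIso_of_app_bijective_of_affine_cover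
  intro x'
  obtain ⟨U, V, hU, hV, hxU, e₁⟩ := OmegaSecB.exists_affine_pair f (u x')
  have hz2 : g (f' x') ∈ V := by
    have : g (f' x') = f (u x') := by
      rw [← Scheme.Hom.comp_apply, ← Scheme.Hom.comp_apply, hsq.w]
    rw [this]
    exact e₁ hxU
  obtain ⟨_, ⟨V', hV' : IsAffineOpen V', rfl⟩, hzV', e₂⟩ :=
    S'.isBasis_affineOpens.exists_subset_of_mem_open
      (show f' x' ∈ ((g ⁻¹ᵁ V : S'.Opens) : Set S') from hz2) (g ⁻¹ᵁ V).isOpen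
  have hU' := OmegaSeqC.isAffineOpen_inf f g u f' hsq hU hV hV' e₁ e₂
  refine ⟨u ⁻¹ᵁ U ⊓ f' ⁻¹ᵁ V', hU', ⟨hxU, hzV'⟩, ?_⟩
  letI algRA := (f.appLE V U e₁).hom.toAlgebra
  letI algRS := (g.appLE V V' e₂).hom.toAlgebra
  letI algAB := (u.appLE U (u ⁻¹ᵁ U ⊓ f' ⁻¹ᵁ V') inf_le_left).hom.toAlgebra
  letI algSB := (f'.appLE V' (u ⁻¹ᵁ U ⊓ f' ⁻¹ᵁ V') inf_le_right).hom.toAlgebra
  letI algRB : Algebra Γ(S, V) Γ(X', u ⁻¹ᵁ U ⊓ f' ⁻¹ᵁ V') :=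
    ((u.appLE U (u ⁻¹ᵁ U ⊓ f' ⁻¹ᵁ V') inf_le_left).hom.comp (f.appLE V U e₁).hom).toAlgebra
  have hpush := OmegaSeqC.isPushout_inf f g u f' hsq hU hV hV' e₁ e₂
  haveI t1 : IsScalarTower Γ(S, V) Γ(X, U) Γ(X', u ⁻¹ᵁ U ⊓ f' ⁻¹ᵁ V') :=
    IsScalarTower.of_algebraMap_eq' rfl
  haveI t2 : IsScalarTower Γ(S, V) Γ(S', V') Γ(X', u ⁻¹ᵁ U ⊓ f' ⁻¹ᵁ V') := by
    apply IsScalarTower.of_algebraMap_eq'
    have := congrArg CommRingCat.Hom.hom hpush.w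
    exact this
  haveI hP : Algebra.IsPushout Γ(S, V) Γ(X, U) Γ(S', V') Γ(X', u ⁻¹ᵁ U ⊓ f' ⁻¹ᵁ V') :=
    CommRingCat.isPushout_iff_isPushout.mp hpush
  obtain ⟨ε, hε⟩ := exists_eps f n hU hV e₁
  obtain ⟨ε', hε'⟩ := exists_eps f' n hU' hV' inf_le_right
  letI : Module Γ(X, U) Γ((Scheme.Modules.pullback u).obj (PrinPart.P f n), u ⁻¹ᵁ U ⊓ f' ⁻¹ᵁ V') :=
    Module.compHom _ (u.appLE U (u ⁻¹ᵁ U ⊓ f' ⁻¹ᵁ V') inf_le_left).hom
  haveI : IsScalarTower Γ(X, U) Γ(X', u ⁻¹ᵁ U ⊓ f' ⁻¹ᵁ V')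
      Γ((Scheme.Modules.pullback u).obj (PrinPart.P f n), u ⁻¹ᵁ U ⊓ f' ⁻¹ᵁ V') :=
    IsScalarTower.of_compHom _ _ _
  obtain ⟨ρ, hρ, hb⟩ := exists_isBaseChange_pbSec u (PrinPart.P f n) hU hU' inf_le_left
  have hb' : IsBaseChange Γ(X', u ⁻¹ᵁ U ⊓ f' ⁻¹ᵁ V') (ρ ∘ₗ ε.symm.toLinearMap) :=
    IsBaseChange.comp_equiv ε.symm ρ hb
  let L : Γ((Scheme.Modules.pullback u).obj (PrinPart.P f n), u ⁻¹ᵁ U ⊓ f' ⁻¹ᵁ V')
      →ₗ[Γ(X', u ⁻¹ᵁ U ⊓ f' ⁻¹ᵁ V')] PP16.P n Γ(S', V') Γ(X', u ⁻¹ᵁ U ⊓ f' ⁻¹ᵁ V') :=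
    ε'.toLinearMap ∘ₗ OmegaSeqA.appLin φ (u ⁻¹ᵁ U ⊓ f' ⁻¹ᵁ V')
  have hPP := Groth.Agent.S3806.result n Γ(S, V) Γ(X, U) Γ(S', V') Γ(X', u ⁻¹ᵁ U ⊓ f' ⁻¹ᵁ V')
  have hPP' := hPP.symm
  let T := hPP'.out.equiv
  have key : ∀ m ∈ Set.range (PP16.dn n Γ(S, V) Γ(X, U)),
      L ((ρ ∘ₗ ε.symm.toLinearMap) m) = T.toLinearMap (1 ⊗ₜ m) := by
    rintro _ ⟨s, rfl⟩
    change ε' (φ.app _ (ρ (ε.symm (PP16.dn n Γ(S, V) Γ(X, U) s)))) =
      T (1 ⊗ₜ (PP16.dn n Γ(S, V) Γ(X, U) s))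
    have h1 : ε.symm (PP16.dn n Γ(S, V) Γ(X, U) s) = PrinPart.dn f n U s := by
      rw [← hε s, LinearEquiv.symm_apply_apply]
    rw [h1, hρ, phi_pbSec f f' u n φ hφ, hε', IsBaseChange.equiv_tmul, one_smul]
    exact (PP16.map_dn n Γ(S, V) Γ(X, U) Γ(S', V') Γ(X', u ⁻¹ᵁ U ⊓ f' ⁻¹ᵁ V') s).symm
  have hspan := Groth.Agent.S3805.result n Γ(S, V) Γ(X, U)
  have hinj := OmegaSeqC.injective_of_comp_equiv (ρ ∘ₗ ε.symm.toLinearMap) hb' L T.toLinearMap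
    (Set.range (PP16.dn n Γ(S, V) Γ(X, U))) hspan key T.injective
  have hsurj := OmegaSeqC.surjective_of_comp_equiv (ρ ∘ₗ ε.symm.toLinearMap) hb' L T.toLinearMap
    (Set.range (PP16.dn n Γ(S, V) Γ(X, U))) hspan key T.surjective
  constructor
  · intro a b hab
    exact hinj (by change ε' (φ.app _ a) = ε' (φ.app _ b); rw [hab])
  · intro t
    obtain ⟨r, hr⟩ := hsurj (ε' t)
    exact ⟨r, ε'.injective hr⟩

end BaseChange

end Groth.Agent.Lead.PPBCa
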