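import Groth.Agent.Lead.OmegaSecA
import Groth.Prelude.Def_OmegaPn
import Mathlib

/-!
# Lead: affine charts of the infinitesimal neighbourhoods of the diagonal, part A:
the chart `pr₁⁻¹U ∩ pr₂⁻¹U` of `X ×_S X` lies in the coborder of the diagonal
-/

set_option autoImplicit false
open CategoryTheory CategoryTheory.Limits AlgebraicGeometry Opposite TopologicalSpace TensorProduct
universe u

namespace Groth.Agent.Lead.PPChartA

variable {X S : Scheme.{u}} (f : X ⟶ S)

theorem res_bijective_of_eq {Y : Scheme.{u}} {A B : Y.Opens} (h : A ≤ B) (h' : B ≤ A) :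
    Function.Bijective (Y.presheaf.map (homOfLE h).op) := by
  haveI : IsIso (homOfLE h) := ⟨homOfLE h', rfl, rfl⟩
  exact (ConcreteCategory.isIso_iff_bijective _).mp inferInstance

theorem diag_preimage (U : X.Opens) : pullback.diagonal f ⁻¹ᵁ OmegaSh.diagNbhd f U = U :=
  le_antisymm (OmegaSh.diagonal_preimage_le f (le_refl _)) (OmegaSh.le_preimage_diagNbhd f U)

theorem diag_app_surjective (U : X.Opens) :
    Function.Surjective ((pullback.diagonal f).app (OmegaSh.diagNbhd f U)) := by
  intro t
  have h : U ≤ pullback.diagonal f ⁻¹ᵁ OmegaSh.diagNbhd f U := OmegaSh.le_preimage_diagNbhd f U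
  have h' : pullback.diagonal f ⁻¹ᵁ OmegaSh.diagNbhd f U ≤ U :=
    OmegaSh.diagonal_preimage_le f (le_refl _)
  let s : Γ(X, U) := X.presheaf.map (homOfLE h).op t
  refine ⟨(pullback.fst f f).appLE U (OmegaSh.diagNbhd f U) inf_le_left s, ?_⟩
  apply (res_bijective_of_eq h h').injective
  exact OmegaSecA.diag_appLE_appLE f _ (pullback.diagonal_fst f) _ s

variable {U : X.Opens} (hU : IsAffineOpen U) {V : S.Opens} (hV : IsAffineOpen V) (e : U ≤ f ⁻¹ᵁ V)

include hU hV e in
theorem isClosedImmersion_restrict :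
    IsClosedImmersion (pullback.diagonal f ∣_ OmegaSh.diagNbhd f U) := by
  have hW := OmegaSecA.isAffineOpen_diagNbhd f hU hV e
  haveI : IsAffine (OmegaSh.diagNbhd f U : Scheme.{u}) := hW
  haveI : IsAffine ((pullback.diagonal f ⁻¹ᵁ OmegaSh.diagNbhd f U : X.Opens) : Scheme.{u}) := by
    have : IsAffineOpen (pullback.diagonal f ⁻¹ᵁ OmegaSh.diagNbhd f U) := by
      rw [diag_preimage]; exact hU
    exact this
  apply IsClosedImmersion.of_surjective_of_isAffine
  rw [morphismRestrict_appTop]
  have key : ∀ (W₀ : (pullback f f).Opens) (_ : W₀ = OmegaSh.diagNbhd f U),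
      Function.Surjective ((pullback.diagonal f).app W₀) := by
    rintro _ rfl
    exact diag_app_surjective f U
  intro t
  have hbij := res_bijective_of_eq (Y := X)
    (image_morphismRestrict_preimage (pullback.diagonal f) (OmegaSh.diagNbhd f U) ⊤).le
    (image_morphismRestrict_preimage (pullback.diagonal f) (OmegaSh.diagNbhd f U) ⊤).ge
  obtain ⟨t', ht'⟩ := hbij.surjective t
  obtain ⟨y, hy⟩ := key _ (Scheme.Opens.ι_image_top _) t'
  refine ⟨y, ?_⟩
  rw [← ht', ← hy]
  rfl

theorem subset_coborder_of_isClosed_preimage {α : Type*} [TopologicalSpace α] (W : Set α)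
    (hW : IsOpen W) (s : Set α) (h : IsClosed ((Subtype.val : W → α) ⁻¹' s)) : W ⊆ coborder s := by
  have h2 := hW.isOpenEmbedding_subtypeVal.coborder_preimage s
  rw [h.coborder_eq] at h2
  intro w hw
  have : (⟨w, hw⟩ : W) ∈ (Set.univ : Set W) := trivial
  rw [h2] at this
  exact this

include hU hV e in
theorem diagNbhd_le_coborderRange :
    OmegaSh.diagNbhd f U ≤ (pullback.diagonal f).coborderRange := by
  haveI := isClosedImmersion_restrict f hU hV e
  have h1 : IsClosed (Set.range (pullback.diagonal f ∣_ OmegaSh.diagNbhd f U)) :=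
    (pullback.diagonal f ∣_ OmegaSh.diagNbhd f U).isClosedEmbedding.isClosed_range
  apply subset_coborder_of_isClosed_preimage _ (OmegaSh.diagNbhd f U).isOpen
  have h3 : ((Subtype.val : ((OmegaSh.diagNbhd f U : (pullback f f).Opens) : Set ↥(pullback f f)) →
      ↥(pullback f f)) ⁻¹' (Set.range ⇑(pullback.diagonal f))) =
      Set.range ⇑(pullback.diagonal f ∣_ OmegaSh.diagNbhd f U) := by
    ext w
    constructor
    · rintro ⟨x, hx⟩
      have hxW : x ∈ pullback.diagonal f ⁻¹ᵁ OmegaSh.diagNbhd f U := by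
        change pullback.diagonal f x ∈ OmegaSh.diagNbhd f U
        rw [hx]; exact w.2
      refine ⟨⟨x, hxW⟩, Subtype.ext ?_⟩
      rw [morphismRestrict_base_coe]
      exact hx
    · rintro ⟨x, rfl⟩
      exact ⟨x.1, (morphismRestrict_base_coe _ _ x).symm⟩
  rw [h3]
  exact h1

end Groth.Agent.Lead.PPChartA
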