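import Groth.Agent.Lead.PPChartA
import Groth.Agent.Lead.IdMapI
import Groth.Prelude.Def_PP16
import Mathlib

/-!
# Lead: affine charts of the infinitesimal neighbourhoods of the diagonal, part B:
sections of `X^{(n)}_Δ` over `p₁⁻¹ U` are the ring of principal parts `P^n_{B/A}`
-/

set_option autoImplicit false
open CategoryTheory CategoryTheory.Limits AlgebraicGeometry Opposite TopologicalSpace TensorProduct
universe u

namespace Groth.Agent.Lead.PPChartB
open Groth.Agent.Lead.PPChartA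

section Alg

theorem ker_comp_pow {R S T T' : Type*} [CommRing R] [CommRing S] [CommRing T] [CommRing T']
    (σ : R →+* S) (hσ : Function.Bijective σ) (g : S →+* T) (g' : S →+* T') (k : ℕ)
    (hg : RingHom.ker g = (RingHom.ker g') ^ k) :
    RingHom.ker (g.comp σ) = (RingHom.ker (g'.comp σ)) ^ k := by
  let e := RingEquiv.ofBijective σ hσ
  have h1 : ∀ (I : Ideal S), Ideal.comap σ I = Ideal.map e.symm I := by
    intro I
    rw [Ideal.map_symm]
    rfl
  rw [← RingHom.comap_ker, ← RingHom.comap_ker, hg, h1, h1, Ideal.map_pow]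

theorem lmul_eq {A B C : Type*} [CommRing A] [CommRing B] [Algebra A B] [CommRing C]
    (g : B ⊗[A] B →+* C) (r : B →+* C) (h₁ : ∀ b, g (b ⊗ₜ 1) = r b) (h₂ : ∀ b, g (1 ⊗ₜ b) = r b)
    (x : B ⊗[A] B) : g x = r (Algebra.TensorProduct.lmul' A x) := by
  induction x using TensorProduct.induction_on with
  | zero => simp
  | tmul a b =>
    have : a ⊗ₜ[A] b = (a ⊗ₜ 1) * (1 ⊗ₜ b) := by
      rw [Algebra.TensorProduct.tmul_mul_tmul, mul_one, one_mul]
    rw [Algebra.TensorProduct.lmul'_apply_tmul, map_mul, this, map_mul, h₁, h₂]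
  | add x y hx hy => rw [map_add, hx, hy, map_add, map_add]

end Alg

section Gen
variable {X Y : Scheme.{u}} (i : X ⟶ Y) [IsClosedImmersion i] (n : ℕ)

theorem infNbhdι_app_surjective {W' : Y.Opens} (hW' : IsAffineOpen W') :
    Function.Surjective ((PrinPart.infNbhdι i n).app W') :=
  (i.ker ^ (n + 1)).subschemeι_app_surjective ⟨W', hW'⟩

theorem ker_infNbhdι_app {W' : Y.Opens} (hW' : IsAffineOpen W') :
    RingHom.ker ((PrinPart.infNbhdι i n).app W').hom = (RingHom.ker (i.app W').hom) ^ (n + 1) := by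
  have h1 := (i.ker ^ (n + 1)).ker_subschemeι_app ⟨W', hW'⟩
  have h2 : (i.ker ^ (n + 1)).ideal ⟨W', hW'⟩ = (i.ker.ideal ⟨W', hW'⟩) ^ (n + 1) := rfl
  rw [h2, Scheme.Hom.ker_apply] at h1
  exact h1

end Gen

section Chart
variable {X S : Scheme.{u}} (f : X ⟶ S) (n : ℕ)
variable {U : X.Opens} (hU : IsAffineOpen U) {V : S.Opens} (hV : IsAffineOpen V) (e : U ≤ f ⁻¹ᵁ V)

theorem appLE_of_eq {A B : Scheme.{u}} : ∀ (g g' : A ⟶ B) (_ : g = g') (U : B.Opens) (V : A.Opens)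
    (e : V ≤ g ⁻¹ᵁ U) (e' : V ≤ g' ⁻¹ᵁ U), g.appLE U V e = g'.appLE U V e' := by
  rintro g _ rfl U V e e'
  rfl

/-- `p₁⁻¹ U` lies over the chart `p₁⁻¹U ∩ p₂⁻¹U` of the product -/
theorem pr1_preimage_le (U : X.Opens) :
    PrinPart.pr1 f n ⁻¹ᵁ U ≤ PrinPart.nbhdι f n ⁻¹ᵁ OmegaSh.diagNbhd f U := by
  intro z hz
  refine ⟨?_, ?_⟩
  · exact hz
  · have h2 : PrinPart.pr2 f n z ∈ U := by
      rw [← PrinPart.pr1_apply]; exact hz
    exact h2

theorem le_pr1_preimage (U : X.Opens) :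
    PrinPart.nbhdι f n ⁻¹ᵁ OmegaSh.diagNbhd f U ≤ PrinPart.pr1 f n ⁻¹ᵁ U := by
  intro z hz
  exact hz.1

include hU hV e in
theorem isAffineOpen_W' :
    IsAffineOpen ((pullback.diagonal f).coborderRange.ι ⁻¹ᵁ OmegaSh.diagNbhd f U) := by
  have hWC := diagNbhd_le_coborderRange f hU hV e
  have hW := OmegaSecA.isAffineOpen_diagNbhd f hU hV e
  exact hW.preimage_of_isOpenImmersion _ (by rw [Scheme.Opens.opensRange_ι]; exact hWC)

include hU hV e in
theorem isAffineOpen_pr1_preimage : IsAffineOpen (PrinPart.pr1 f n ⁻¹ᵁ U) := by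
  have hW' := isAffineOpen_W' f hU hV e
  have h1 : PrinPart.pr1 f n ⁻¹ᵁ U = PrinPart.infNbhdι (PrinPart.diagCl f) n ⁻¹ᵁ
      ((pullback.diagonal f).coborderRange.ι ⁻¹ᵁ OmegaSh.diagNbhd f U) :=
    le_antisymm (pr1_preimage_le f n U) (le_pr1_preimage f n U)
  rw [h1]
  exact hW'.preimage _

include hU hV e in
theorem core :
    Function.Surjective ((PrinPart.nbhdι f n).appLE (OmegaSh.diagNbhd f U) (PrinPart.pr1 f n ⁻¹ᵁ U)
      (pr1_preimage_le f n U)) ∧
    RingHom.ker ((PrinPart.nbhdι f n).appLE (OmegaSh.diagNbhd f U) (PrinPart.pr1 f n ⁻¹ᵁ U)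
      (pr1_preimage_le f n U)).hom =
      (RingHom.ker ((pullback.diagonal f).appLE (OmegaSh.diagNbhd f U) U
        (OmegaSh.le_preimage_diagNbhd f U)).hom) ^ (n + 1) := by
  have hWC := diagNbhd_le_coborderRange f hU hV e
  have hW' := isAffineOpen_W' f hU hV e
  set C := (pullback.diagonal f).coborderRange with hC
  set W := OmegaSh.diagNbhd f U with hWdef
  set i := PrinPart.diagCl f with hi
  set T := PrinPart.pr1 f n ⁻¹ᵁ U with hTdef
  haveI hiso : IsIso (C.ι.app W) :=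
    Scheme.Hom.isIso_app C.ι W (by rw [Scheme.Opens.opensRange_ι]; exact hWC)
  have hbijC : Function.Bijective (C.ι.app W) := (ConcreteCategory.isIso_iff_bijective _).mp hiso
  -- the two restriction isomorphisms
  have hT1 : T ≤ PrinPart.infNbhdι i n ⁻¹ᵁ (C.ι ⁻¹ᵁ W) := pr1_preimage_le f n U
  have hT2 : PrinPart.infNbhdι i n ⁻¹ᵁ (C.ι ⁻¹ᵁ W) ≤ T := le_pr1_preimage f n U
  have hresT := res_bijective_of_eq hT1 hT2
  have hU1 : U ≤ i ⁻¹ᵁ (C.ι ⁻¹ᵁ W) := by
    intro x hx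
    change (i ≫ C.ι) x ∈ W
    rw [Scheme.Hom.liftCoborder_ι]
    exact OmegaSh.le_preimage_diagNbhd f U hx
  have hU2 : i ⁻¹ᵁ (C.ι ⁻¹ᵁ W) ≤ U := by
    intro x hx
    have : pullback.diagonal f x ∈ W := by
      have h0 : (i ≫ C.ι) x ∈ W := hx
      rw [Scheme.Hom.liftCoborder_ι] at h0
      exact h0
    exact OmegaSh.diagonal_preimage_le f (le_refl _) this
  have hresU := res_bijective_of_eq hU1 hU2
  -- factorisations
  have hfac1 : (PrinPart.nbhdι f n).appLE W T (pr1_preimage_le f n U) =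
      C.ι.app W ≫ (PrinPart.infNbhdι i n).app (C.ι ⁻¹ᵁ W) ≫
        (PrinPart.nbhd f n).presheaf.map (homOfLE hT1).op := by
    have h0 := Scheme.Hom.appLE_comp_appLE (PrinPart.infNbhdι i n) C.ι W (C.ι ⁻¹ᵁ W) T (le_refl _) hT1
    rw [Scheme.Hom.appLE_eq_app] at h0
    refine Eq.trans ?_ (h0.symm.trans ?_)
    · rfl
    · rfl
  have hfac2 : (pullback.diagonal f).appLE W U (OmegaSh.le_preimage_diagNbhd f U) =
      C.ι.app W ≫ i.app (C.ι ⁻¹ᵁ W) ≫ X.presheaf.map (homOfLE hU1).op := by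
    have h0 := Scheme.Hom.appLE_comp_appLE i C.ι W (C.ι ⁻¹ᵁ W) U (le_refl _) hU1
    rw [Scheme.Hom.appLE_eq_app] at h0
    refine Eq.trans ?_ (h0.symm.trans ?_)
    · exact appLE_of_eq _ _ (Scheme.Hom.liftCoborder_ι _).symm _ _ _ _
    · rfl
  have hsurj := infNbhdι_app_surjective i n hW'
  have hker := ker_infNbhdι_app i n hW'
  constructor
  · rw [hfac1]
    intro t
    obtain ⟨t1, ht1⟩ := hresT.surjective t
    obtain ⟨t2, ht2⟩ := hsurj t1
    obtain ⟨t3, ht3⟩ := hbijC.surjective t2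
    refine ⟨t3, ?_⟩
    rw [← ht1, ← ht2, ← ht3]
    rfl
  · have hg : RingHom.ker ((PrinPart.infNbhdι i n).app (C.ι ⁻¹ᵁ W) ≫
          (PrinPart.nbhd f n).presheaf.map (homOfLE hT1).op).hom =
        (RingHom.ker (i.app (C.ι ⁻¹ᵁ W) ≫ X.presheaf.map (homOfLE hU1).op).hom) ^ (n + 1) := by
      rw [CommRingCat.hom_comp, CommRingCat.hom_comp,
        RingHom.ker_comp_of_injective _ hresT.injective,
        RingHom.ker_comp_of_injective _ hresU.injective]
      exact hker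
    have key := ker_comp_pow (C.ι.app W).hom hbijC _ _ (n + 1) hg
    rw [hfac1, hfac2]
    exact key

include hU hV in
/-- **the affine chart**: sections of `X^{(n)}_Δ` over `p₁⁻¹U` are the principal parts
`P^n_{B/A}`, `B = Γ(X, U)`, `A = Γ(S, V)`; `p₁♯` is the left structure, `p₂♯` is `d^n`. -/
theorem exists_chart :
    letI := (f.appLE V U e).hom.toAlgebra
    ∃ θ : PP16.P n Γ(S, V) Γ(X, U) ≃+* Γ(PrinPart.nbhd f n, PrinPart.pr1 f n ⁻¹ᵁ U),
      (∀ b : Γ(X, U), θ (algebraMap Γ(X, U) (PP16.P n Γ(S, V) Γ(X, U)) b) =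
        (PrinPart.pr1 f n).app U b) ∧
      (∀ b : Γ(X, U), θ (PP16.dn n Γ(S, V) Γ(X, U) b) =
        (PrinPart.nbhd f n).presheaf.map (homOfLE (PrinPart.preimage_pr1 f n U).le).op
          ((PrinPart.pr2 f n).app U b)) := by
  letI := (f.appLE V U e).hom.toAlgebra
  obtain ⟨ψ, hψ₁, hψ₂⟩ := OmegaSecA.exists_ringEquiv f hU hV e
  obtain ⟨hsurj, hker⟩ := core f n hU hV e
  set g := ((PrinPart.nbhdι f n).appLE (OmegaSh.diagNbhd f U) (PrinPart.pr1 f n ⁻¹ᵁ U)
      (pr1_preimage_le f n U)).hom with hg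
  set g' := ((pullback.diagonal f).appLE (OmegaSh.diagNbhd f U) U
        (OmegaSh.le_preimage_diagNbhd f U)).hom with hg'
  let θ₀ : Γ(X, U) ⊗[Γ(S, V)] Γ(X, U) →+* Γ(PrinPart.nbhd f n, PrinPart.pr1 f n ⁻¹ᵁ U) :=
    g.comp ψ.toRingHom
  have hθsurj : Function.Surjective θ₀ := hsurj.comp ψ.surjective
  have h1 : ∀ x, (g'.comp ψ.toRingHom) x = Algebra.TensorProduct.lmul' Γ(S, V) x := by
    intro x
    refine lmul_eq (g'.comp ψ.toRingHom) (RingHom.id _) (fun b => ?_) (fun b => ?_) x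
    · change g' (ψ (b ⊗ₜ 1)) = b
      rw [hψ₁]
      exact OmegaSecA.diag_appLE_appLE f _ (pullback.diagonal_fst f) _ b
    · change g' (ψ (1 ⊗ₜ b)) = b
      rw [hψ₂]
      exact OmegaSecA.diag_appLE_appLE f _ (pullback.diagonal_snd f) _ b
  have h2 : RingHom.ker (g'.comp ψ.toRingHom) = KaehlerDifferential.ideal Γ(S, V) Γ(X, U) := by
    ext x
    rw [RingHom.mem_ker, h1, RingHom.mem_ker]
  have hθker : RingHom.ker θ₀ = (KaehlerDifferential.ideal Γ(S, V) Γ(X, U)) ^ (n + 1) := by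
    rw [← h2]
    exact ker_comp_pow ψ.toRingHom ψ.bijective g g' (n + 1) hker
  let θ : PP16.P n Γ(S, V) Γ(X, U) ≃+* Γ(PrinPart.nbhd f n, PrinPart.pr1 f n ⁻¹ᵁ U) :=
    (Ideal.quotEquivOfEq hθker.symm).trans (RingHom.quotientKerEquivOfSurjective hθsurj)
  have hθ : ∀ x, θ (Ideal.Quotient.mk _ x) = θ₀ x := by
    intro x
    change RingHom.quotientKerEquivOfSurjective hθsurj (Ideal.quotEquivOfEq hθker.symm
      (Ideal.Quotient.mk _ x)) = _
    rw [Ideal.quotEquivOfEq_mk, RingHom.quotientKerEquivOfSurjective_apply_mk]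
  refine ⟨θ, fun b => ?_, fun b => ?_⟩
  · change θ (Ideal.Quotient.mk _ (b ⊗ₜ 1)) = _
    rw [hθ]
    change g (ψ (b ⊗ₜ 1)) = _
    rw [hψ₁, hg, ← ConcreteCategory.comp_apply, Scheme.Hom.appLE_comp_appLE]
    have h3 : ((PrinPart.nbhdι f n ≫ pullback.fst f f).appLE U (PrinPart.pr1 f n ⁻¹ᵁ U)
        ((pr1_preimage_le f n U).trans ((PrinPart.nbhdι f n).preimage_mono inf_le_left))) =
        (PrinPart.pr1 f n).app U := by
      rw [← Scheme.Hom.appLE_eq_app]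
      exact appLE_of_eq _ _ rfl _ _ _ _
    rw [h3]
  · change θ (Ideal.Quotient.mk _ (1 ⊗ₜ b)) = _
    rw [hθ]
    change g (ψ (1 ⊗ₜ b)) = _
    rw [hψ₂, hg, ← ConcreteCategory.comp_apply, Scheme.Hom.appLE_comp_appLE]
    rfl

end Chart

end Groth.Agent.Lead.PPChartB
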