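import Groth.Agent.Lead.PPChartB
import Mathlib

/-!
# Lead: the affine chart of `X^{(n)}_Δ` for abstract models `A ≅ Γ(S, V)`, `B ≅ Γ(X, U)`
-/

set_option autoImplicit false
open CategoryTheory CategoryTheory.Limits AlgebraicGeometry Opposite TopologicalSpace TensorProduct
universe u

namespace Groth.Agent.Lead.PPChartE
open Groth.Agent.Lead.PPChartA Groth.Agent.Lead.PPChartB

variable {X S : Scheme.{u}} (f : X ⟶ S) (n : ℕ)
variable {U : X.Opens} (hU : IsAffineOpen U) {V : S.Opens} (hV : IsAffineOpen V) (e : U ≤ f ⁻¹ᵁ V)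
variable (A B : Type u) [CommRing A] [CommRing B] [Algebra A B]
  (a : CommRingCat.of A ≅ Γ(S, V)) (b : CommRingCat.of B ≅ Γ(X, U))
  (hab : CommRingCat.ofHom (algebraMap A B) ≫ b.hom = a.hom ≫ f.appLE V U e)

include hU hV hab in
theorem exists_ringEquiv' :
    ∃ ψ : B ⊗[A] B ≃+* Γ(pullback f f, OmegaSh.diagNbhd f U),
      (∀ s, ψ (s ⊗ₜ 1) = (pullback.fst f f).appLE U (OmegaSh.diagNbhd f U) inf_le_left (b.hom s)) ∧
      (∀ s, ψ (1 ⊗ₜ s) = (pullback.snd f f).appLE U (OmegaSh.diagNbhd f U) inf_le_right (b.hom s)) := by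
  have H := OmegaSecA.isPushout_diagNbhd f hU hV e
  have H' : IsPushout (CommRingCat.ofHom (algebraMap A B)) (CommRingCat.ofHom (algebraMap A B))
      (b.hom ≫ (pullback.fst f f).appLE U (OmegaSh.diagNbhd f U) inf_le_left)
      (b.hom ≫ (pullback.snd f f).appLE U (OmegaSh.diagNbhd f U) inf_le_right) :=
    H.of_iso' a b b (Iso.refl _) hab.symm hab.symm (Category.comp_id _).symm
      (Category.comp_id _).symm
  have H0 := CommRingCat.isPushout_tensorProduct A B B
  let i := H0.isoIsPushout _ _ H'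
  refine ⟨i.commRingCatIsoToRingEquiv, ?_, ?_⟩
  · intro s
    have := H0.inl_isoIsPushout_hom _ _ H'
    exact congr($this s)
  · intro s
    have := H0.inr_isoIsPushout_hom _ _ H'
    exact congr($this s)

include hU hV hab in
/-- **the affine chart** for abstract models of the rings -/
theorem exists_chart' :
    ∃ θ : PP16.P n A B ≃+* Γ(PrinPart.nbhd f n, PrinPart.pr1 f n ⁻¹ᵁ U),
      (∀ s : B, θ (algebraMap B (PP16.P n A B) s) = (PrinPart.pr1 f n).app U (b.hom s)) ∧
      (∀ s : B, θ (PP16.dn n A B s) =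
        (PrinPart.nbhd f n).presheaf.map (homOfLE (PrinPart.preimage_pr1 f n U).le).op
          ((PrinPart.pr2 f n).app U (b.hom s))) := by
  obtain ⟨ψ, hψ₁, hψ₂⟩ := exists_ringEquiv' f hU hV e A B a b hab
  obtain ⟨hsurj, hker⟩ := core f n hU hV e
  set g := ((PrinPart.nbhdι f n).appLE (OmegaSh.diagNbhd f U) (PrinPart.pr1 f n ⁻¹ᵁ U)
      (pr1_preimage_le f n U)).hom with hg
  set g' := ((pullback.diagonal f).appLE (OmegaSh.diagNbhd f U) U
        (OmegaSh.le_preimage_diagNbhd f U)).hom with hg'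
  let θ₀ : B ⊗[A] B →+* Γ(PrinPart.nbhd f n, PrinPart.pr1 f n ⁻¹ᵁ U) :=
    g.comp ψ.toRingHom
  have hθsurj : Function.Surjective θ₀ := hsurj.comp ψ.surjective
  have h1 : ∀ x, (g'.comp ψ.toRingHom) x = b.hom.hom (Algebra.TensorProduct.lmul' A x) := by
    intro x
    refine lmul_eq (g'.comp ψ.toRingHom) b.hom.hom (fun s => ?_) (fun s => ?_) x
    · change g' (ψ (s ⊗ₜ 1)) = b.hom s
      rw [hψ₁]
      exact OmegaSecA.diag_appLE_appLE f _ (pullback.diagonal_fst f) _ _
    · change g' (ψ (1 ⊗ₜ s)) = b.hom s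
      rw [hψ₂]
      exact OmegaSecA.diag_appLE_appLE f _ (pullback.diagonal_snd f) _ _
  have hbinj : Function.Injective b.hom.hom := by
    have : Function.Bijective b.hom := (ConcreteCategory.isIso_iff_bijective _).mp inferInstance
    exact this.injective
  have h2 : RingHom.ker (g'.comp ψ.toRingHom) = KaehlerDifferential.ideal A B := by
    ext x
    rw [RingHom.mem_ker, h1, RingHom.mem_ker]
    constructor
    · intro h
      apply hbinj
      rw [h, map_zero]
    · intro h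
      rw [h, map_zero]
  have hθker : RingHom.ker θ₀ = (KaehlerDifferential.ideal A B) ^ (n + 1) := by
    rw [← h2]
    exact ker_comp_pow ψ.toRingHom ψ.bijective g g' (n + 1) hker
  let θ : PP16.P n A B ≃+* Γ(PrinPart.nbhd f n, PrinPart.pr1 f n ⁻¹ᵁ U) :=
    (Ideal.quotEquivOfEq hθker.symm).trans (RingHom.quotientKerEquivOfSurjective hθsurj)
  have hθ : ∀ x, θ (Ideal.Quotient.mk _ x) = θ₀ x := by
    intro x
    change RingHom.quotientKerEquivOfSurjective hθsurj (Ideal.quotEquivOfEq hθker.symm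
      (Ideal.Quotient.mk _ x)) = _
    rw [Ideal.quotEquivOfEq_mk, RingHom.quotientKerEquivOfSurjective_apply_mk]
  refine ⟨θ, fun s => ?_, fun s => ?_⟩
  · change θ (Ideal.Quotient.mk _ (s ⊗ₜ 1)) = _
    rw [hθ]
    change g (ψ (s ⊗ₜ 1)) = _
    rw [hψ₁, hg, ← ConcreteCategory.comp_apply, Scheme.Hom.appLE_comp_appLE]
    have h3 : ((PrinPart.nbhdι f n ≫ pullback.fst f f).appLE U (PrinPart.pr1 f n ⁻¹ᵁ U)
        ((pr1_preimage_le f n U).trans ((PrinPart.nbhdι f n).preimage_mono inf_le_left))) =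
        (PrinPart.pr1 f n).app U := by
      rw [← Scheme.Hom.appLE_eq_app]
      exact appLE_of_eq _ _ rfl _ _ _ _
    rw [h3]
  · change θ (Ideal.Quotient.mk _ (1 ⊗ₜ s)) = _
    rw [hθ]
    change g (ψ (1 ⊗ₜ s)) = _
    rw [hψ₂, hg, ← ConcreteCategory.comp_apply, Scheme.Hom.appLE_comp_appLE]
    rfl

end Groth.Agent.Lead.PPChartE
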