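import Groth.Agent.Lead.PPChartE
import Groth.Agent.Helper4.PullUnit
import Mathlib

/-!
# Lead: `g^* O ≅ O` on pulled back sections; global sections of `P^n` on affine schemes
-/

set_option autoImplicit false
open CategoryTheory CategoryTheory.Limits AlgebraicGeometry Opposite TopologicalSpace TensorProduct
universe u

namespace Groth.Agent.Lead.PPChartF
open Groth.Agent.Lead.PPChartA Groth.Agent.Lead.PPChartB Groth.Agent.Helper4.PullUnit

section Unit
variable {W V : Scheme.{u}} (g : W ⟶ V)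

theorem pullbackUnitIso_pullSect (U : V.Opens) (a : Γ(V, U)) :
    (pullbackUnitIso g).hom.app (g ⁻¹ᵁ U)
      (OmegaSh.pullSect g (Coh.structureModule V) U (OmegaSh.strSect V U a)) =
      OmegaSh.strSect W (g ⁻¹ᵁ U) (g.app U a) := by
  have h1 : ∀ c : (Scheme.Modules.pullback g).obj (Coh.structureModule V) ⟶ Coh.structureModule W,
      ((Scheme.Modules.pullbackPushforwardAdjunction g).homEquiv _ _ c).app U
        (OmegaSh.strSect V U a) =
      c.app (g ⁻¹ᵁ U) (OmegaSh.pullSect g _ U (OmegaSh.strSect V U a)) := by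
    intro c
    rw [Adjunction.homEquiv_unit]; rfl
  rw [← h1]
  have h2 : (Scheme.Modules.pullbackPushforwardAdjunction g).homEquiv _ _ (pullbackUnitIso g).hom =
      SheafOfModules.unitToPushforwardObjUnit g.toRingCatSheafHom :=
    SheafOfModules.pullbackPushforwardAdjunction_homEquiv_pullbackObjUnitToUnit _
  rw [h2]
  rfl

end Unit

section Main
open Groth.Agent.Lead.PPChartE

theorem app_res' {Y : Scheme.{u}} {M N : Y.Modules} (φ : M ⟶ N) {V W : Y.Opens} (i : W ⟶ V)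
    (m : Γ(M, V)) :
    φ.app W (M.presheaf.map i.op m) = N.presheaf.map i.op (φ.app V m) := by
  have := φ.mapPresheaf.naturality i.op
  exact congrArg (fun f => f.hom m) this

/-- sections of `P^n(F)` over `U` are sections of `p₂^*F` over `p₁⁻¹U` -/
noncomputable def toZ {X S : Scheme.{u}} (f : X ⟶ S) (n : ℕ) (F : X.Modules) (U : X.Opens) :
    Γ(PrinPart.PMod f n F, U) →+
      Γ((Scheme.Modules.pullback (PrinPart.pr2 f n)).obj F, PrinPart.pr1 f n ⁻¹ᵁ U) :=
  AddMonoidHom.id _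

theorem toZ_smul {X S : Scheme.{u}} (f : X ⟶ S) (n : ℕ) (F : X.Modules) (U : X.Opens)
    (a : Γ(X, U)) (m : Γ(PrinPart.PMod f n F, U)) :
    toZ f n F U (a • m) = (PrinPart.pr1 f n).app U a • toZ f n F U m := rfl

theorem toZ_dP {X S : Scheme.{u}} (f : X ⟶ S) (n : ℕ) (F : X.Modules) (U : X.Opens)
    (t : Γ(F, U)) :
    toZ f n F U (PrinPart.dP f n F U t) =
      ((Scheme.Modules.pullback (PrinPart.pr2 f n)).obj F).presheaf.map
        (homOfLE (PrinPart.preimage_pr1 f n U).le).op (OmegaSh.pullSect (PrinPart.pr2 f n) F U t) :=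
  rfl

theorem toZ_bijective {X S : Scheme.{u}} (f : X ⟶ S) (n : ℕ) (F : X.Modules) (U : X.Opens) :
    Function.Bijective (toZ f n F U) := Function.bijective_id

/-- `Γ(P^n, U) → Γ(X^{(n)}_Δ, p₁⁻¹U)` -/
noncomputable def Phi {X S : Scheme.{u}} (f : X ⟶ S) (n : ℕ) (U : X.Opens) :
    Γ(PrinPart.P f n, U) →+ Γ(PrinPart.nbhd f n, PrinPart.pr1 f n ⁻¹ᵁ U) :=
  (OmegaSh.fnSect _ _).comp
    (((pullbackUnitIso (PrinPart.pr2 f n)).hom.app (PrinPart.pr1 f n ⁻¹ᵁ U)).hom.comp
      (toZ f n _ U))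

theorem Phi_bijective {X S : Scheme.{u}} (f : X ⟶ S) (n : ℕ) (U : X.Opens) :
    Function.Bijective (Phi f n U) := by
  have h1 : Function.Bijective ((pullbackUnitIso (PrinPart.pr2 f n)).hom.app
      (PrinPart.pr1 f n ⁻¹ᵁ U)) := (ConcreteCategory.isIso_iff_bijective _).mp inferInstance
  have h2 : Function.Bijective (OmegaSh.fnSect (PrinPart.nbhd f n) (PrinPart.pr1 f n ⁻¹ᵁ U)) :=
    Function.bijective_id
  exact h2.comp (h1.comp (toZ_bijective f n _ U))

theorem Phi_smul {X S : Scheme.{u}} (f : X ⟶ S) (n : ℕ) (U : X.Opens) (a : Γ(X, U))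
    (m : Γ(PrinPart.P f n, U)) :
    Phi f n U (a • m) = (PrinPart.pr1 f n).app U a * Phi f n U m := by
  change OmegaSh.fnSect _ _ ((pullbackUnitIso (PrinPart.pr2 f n)).hom.app (PrinPart.pr1 f n ⁻¹ᵁ U)
    (toZ f n _ U (a • m))) = _
  rw [toZ_smul, Scheme.Modules.Hom.app_smul]
  rfl

theorem Phi_dn {X S : Scheme.{u}} (f : X ⟶ S) (n : ℕ) (U : X.Opens) (s : Γ(X, U)) :
    Phi f n U (PrinPart.dn f n U s) = (PrinPart.nbhd f n).presheaf.map
        (homOfLE (PrinPart.preimage_pr1 f n U).le).op ((PrinPart.pr2 f n).app U s) := by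
  change OmegaSh.fnSect _ _ ((pullbackUnitIso (PrinPart.pr2 f n)).hom.app (PrinPart.pr1 f n ⁻¹ᵁ U)
    (toZ f n _ U (PrinPart.dP f n _ U (OmegaSh.strSect X U s)))) = _
  rw [toZ_dP, app_res', pullbackUnitIso_pullSect]
  rfl

theorem main_aux (A B : Type u) [CommRing A] [CommRing B] [Algebra A B] (n : ℕ)
    (f : Spec (CommRingCat.of B) ⟶ Spec (CommRingCat.of A))
    (hf : f = Spec.map (CommRingCat.ofHom (algebraMap A B)))
    (ψ : TensorProduct A B B →+ Γ(PrinPart.P f n, (⊤ : (Spec (CommRingCat.of B)).Opens)))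
    (hψ : ∀ b b' : B, ψ (b ⊗ₜ[A] b') =
      (Scheme.ΓSpecIso (CommRingCat.of B)).inv b •
        PrinPart.dn f n ⊤ ((Scheme.ΓSpecIso (CommRingCat.of B)).inv b')) :
    Function.Surjective ψ ∧ ψ.ker = (KaehlerDifferential.ideal A B ^ (n + 1)).toAddSubgroup := by
  have e : (⊤ : (Spec (CommRingCat.of B)).Opens) ≤ f ⁻¹ᵁ ⊤ := le_refl _
  have hab : CommRingCat.ofHom (algebraMap A B) ≫ (Scheme.ΓSpecIso (CommRingCat.of B)).symm.hom =
      (Scheme.ΓSpecIso (CommRingCat.of A)).symm.hom ≫ f.appLE ⊤ ⊤ e := by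
    have h0 := Scheme.ΓSpecIso_inv_naturality (CommRingCat.ofHom (algebraMap A B))
    rw [Iso.symm_hom, Iso.symm_hom, h0]
    subst hf
    congr 1
  obtain ⟨θ, hθ₁, hθ₂⟩ := exists_chart' f n (isAffineOpen_top _) (isAffineOpen_top _) e A B
    (Scheme.ΓSpecIso (CommRingCat.of A)).symm (Scheme.ΓSpecIso (CommRingCat.of B)).symm hab
  have key : ∀ x : B ⊗[A] B, Phi f n ⊤ (ψ x) = θ (Ideal.Quotient.mk _ x) := by
    intro x
    induction x using TensorProduct.induction_on with
    | zero => rw [map_zero, map_zero, map_zero, map_zero]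
    | add x y hx hy => rw [map_add, map_add, hx, hy, map_add, map_add]
    | tmul s s' =>
      rw [hψ, Phi_smul, Phi_dn]
      have h1 : (Ideal.Quotient.mk (KaehlerDifferential.ideal A B ^ (n + 1))) (s ⊗ₜ[A] s') =
          algebraMap B (PP16.P n A B) s * PP16.dn n A B s' := by
        change _ = Ideal.Quotient.mk _ (s ⊗ₜ[A] 1) * Ideal.Quotient.mk _ (1 ⊗ₜ[A] s')
        rw [← map_mul, Algebra.TensorProduct.tmul_mul_tmul, mul_one, one_mul]
      rw [h1, map_mul, hθ₁, hθ₂]
      rfl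
  have hΦ := Phi_bijective f n ⊤
  constructor
  · intro y
    obtain ⟨p, hp⟩ := θ.surjective (Phi f n ⊤ y)
    obtain ⟨x, rfl⟩ := Ideal.Quotient.mk_surjective p
    refine ⟨x, hΦ.injective ?_⟩
    rw [key, hp]
  · ext x
    rw [AddMonoidHom.mem_ker]
    change _ ↔ x ∈ KaehlerDifferential.ideal A B ^ (n + 1)
    rw [← Ideal.Quotient.eq_zero_iff_mem]
    constructor
    · intro h
      apply θ.injective
      rw [← key, h, map_zero, map_zero]
    · intro h
      apply hΦ.injective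
      rw [key, h, map_zero, map_zero]

theorem main (A B : Type u) [CommRing A] [CommRing B] [Algebra A B] (n : ℕ)
    (ψ : TensorProduct A B B →+
      Γ(PrinPart.P (Spec.map (CommRingCat.ofHom (algebraMap A B))) n,
        (⊤ : (Spec (CommRingCat.of B)).Opens)))
    (hψ : ∀ b b' : B, ψ (b ⊗ₜ[A] b') =
      (Scheme.ΓSpecIso (CommRingCat.of B)).inv b •
        PrinPart.dn (Spec.map (CommRingCat.ofHom (algebraMap A B))) n ⊤
          ((Scheme.ΓSpecIso (CommRingCat.of B)).inv b')) :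
    Function.Surjective ψ ∧ ψ.ker = (KaehlerDifferential.ideal A B ^ (n + 1)).toAddSubgroup :=
  main_aux A B n _ rfl ψ hψ

end Main

end Groth.Agent.Lead.PPChartF
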