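import Groth.Agent.Lead.IdMapI
import Groth.Agent.Helper6.Thick
import Groth.Prelude.Def_OmegaPn
import Mathlib

/-!
# Lead: the infinitesimal neighbourhoods of a section are finite over the base
-/

set_option autoImplicit false
open CategoryTheory CategoryTheory.Limits AlgebraicGeometry Opposite TopologicalSpace
universe u

namespace Groth.Agent.Lead.PPFinA

variable {X Y : Scheme.{u}}

instance isClosedImmersion_toInfNbhd (f : Y ⟶ X) [IsClosedImmersion f] (n : ℕ) :
    IsClosedImmersion (PrinPart.toInfNbhd f n) := by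
  unfold PrinPart.toInfNbhd
  infer_instance

instance surjective_toInfNbhd (f : Y ⟶ X) [IsClosedImmersion f] (n : ℕ) :
    Surjective (PrinPart.toInfNbhd f n) :=
  ⟨PrinPart.toInfNbhd_surjective f n⟩

/-- **S5965** -/
theorem main (g : X ⟶ Y) [LocallyOfFiniteType g] (f : Y ⟶ X)
    [IsClosedImmersion f] (hf : f ≫ g = 𝟙 Y) (n : ℕ) :
    IsFinite (PrinPart.infNbhdι f n ≫ g) := by
  haveI : IsFinite (PrinPart.toInfNbhd f n ≫ PrinPart.infNbhdι f n ≫ g) := by
    rw [PrinPart.toInfNbhd_ι_assoc, hf]
    infer_instance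
  exact Groth.Agent.Helper6.Thick.isFinite_of_comp_of_surjective_closedImmersion
    (PrinPart.toInfNbhd f n) (PrinPart.infNbhdι f n ≫ g)

end Groth.Agent.Lead.PPFinA
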