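import Mathlib
import Groth.Prelude.Def_PP16

set_option autoImplicit false
universe u
open scoped TensorProduct
open PP16

namespace Groth.Agent.Lead.PPLocA

variable (n : ℕ) (A B : Type u) [CommRing A] [CommRing B] [Algebra A B]

theorem algebraMap_eq (b : B) :
    algebraMap B (PP16.P n A B) b = Ideal.Quotient.mk _ (b ⊗ₜ[A] (1 : B)) := rfl

theorem dn_eq (b : B) :
    PP16.dn n A B b = Ideal.Quotient.mk _ ((1 : B) ⊗ₜ[A] b) := rfl

theorem sub_mem_ideal (b c : B) :
    b ⊗ₜ[A] c - c ⊗ₜ[A] b ∈ KaehlerDifferential.ideal A B := by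
  rw [KaehlerDifferential.ideal, RingHom.mem_ker, map_sub]
  simp [mul_comm]

/-- the difference `b ⊗ 1 - 1 ⊗ b` is nilpotent of order `n + 1` in `P^n`. -/
theorem delta_pow (b : B) :
    (algebraMap B (PP16.P n A B) b - PP16.dn n A B b) ^ (n + 1) = 0 := by
  rw [algebraMap_eq, dn_eq, ← map_sub, ← map_pow, Ideal.Quotient.eq_zero_iff_mem]
  apply Ideal.pow_mem_pow
  have := sub_mem_ideal A B b 1
  exact this

/-- an element `g` with `g * d^n t = (t ⊗ 1)^(n+1)`. -/
theorem exists_mul_dn (t : B) :
    ∃ g : PP16.P n A B, g * PP16.dn n A B t = (algebraMap B (PP16.P n A B) t) ^ (n + 1) := by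
  refine ⟨∑ i ∈ Finset.range (n + 1), (algebraMap B (PP16.P n A B) t) ^ i *
    (algebraMap B (PP16.P n A B) t - PP16.dn n A B t) ^ (n + 1 - 1 - i), ?_⟩
  have h := geom_sum₂_mul (algebraMap B (PP16.P n A B) t)
    (algebraMap B (PP16.P n A B) t - PP16.dn n A B t) (n + 1)
  rw [delta_pow, sub_zero, sub_sub_cancel] at h
  exact h

theorem augIdeal_pow : (PP16.augIdeal n A B) ^ (n + 1) = ⊥ := by
  unfold PP16.augIdeal
  rw [← Ideal.map_pow, Ideal.map_quotient_self]


section Loc

variable (B' : Type u) [CommRing B'] [Algebra B B'] [Algebra A B'] [IsScalarTower A B B']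
  (S : Submonoid B) [IsLocalization S B']

theorem map_units (s : S) :
    IsUnit (PP16.map n A B A B' (algebraMap B (PP16.P n A B) s)) := by
  rw [PP16.map_algebraMap]
  exact (IsLocalization.map_units B' s).map _

theorem map_tmul (b c : B) :
    PP16.map n A B A B' (Ideal.Quotient.mk _ (b ⊗ₜ[A] c)) =
      Ideal.Quotient.mk _ ((algebraMap B B' b) ⊗ₜ[A] (algebraMap B B' c)) := by
  rw [PP16.map_mk, PP16.tensorMap_tmul]

include S in
theorem surj (z : PP16.P n A B') :
    ∃ (x : PP16.P n A B) (s : B), s ∈ S ∧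
      z * PP16.map n A B A B' (algebraMap B (PP16.P n A B) s) = PP16.map n A B A B' x := by
  obtain ⟨w, rfl⟩ := Ideal.Quotient.mk_surjective z
  induction w using TensorProduct.induction_on with
  | zero => exact ⟨0, 1, S.one_mem, by simp⟩
  | tmul b' c' =>
    obtain ⟨⟨b, s⟩, hb⟩ := IsLocalization.surj S b'
    obtain ⟨⟨c, t⟩, hc⟩ := IsLocalization.surj S c'
    obtain ⟨g, hg⟩ := exists_mul_dn n A B (t : B)
    refine ⟨Ideal.Quotient.mk _ (b ⊗ₜ[A] c) * g, (s : B) * (t : B) ^ (n + 1),
      S.mul_mem s.2 (S.pow_mem t.2 _), ?_⟩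
    have h1 : Ideal.Quotient.mk (KaehlerDifferential.ideal A B' ^ (n + 1)) (b' ⊗ₜ[A] c') *
        PP16.map n A B A B' (algebraMap B (PP16.P n A B) (s : B)) *
        PP16.map n A B A B' (PP16.dn n A B (t : B)) =
        PP16.map n A B A B' (Ideal.Quotient.mk _ (b ⊗ₜ[A] c)) := by
      rw [PP16.map_algebraMap, PP16.map_dn, map_tmul, algebraMap_eq, dn_eq, ← map_mul, ← map_mul,
        Algebra.TensorProduct.tmul_mul_tmul, Algebra.TensorProduct.tmul_mul_tmul, mul_one, mul_one]
      have hb' : b' * algebraMap B B' (s : B) = algebraMap B B' b := hb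
      have hc' : c' * algebraMap B B' (t : B) = algebraMap B B' c := hc
      rw [hb', hc']
    rw [map_mul (algebraMap B (PP16.P n A B)), map_pow (algebraMap B (PP16.P n A B)), ← hg,
      map_mul, map_mul, map_mul, ← h1]
    ring
  | add x y hx hy =>
    obtain ⟨x₁, s₁, hs₁, h₁⟩ := hx
    obtain ⟨x₂, s₂, hs₂, h₂⟩ := hy
    refine ⟨x₁ * algebraMap B (PP16.P n A B) s₂ + x₂ * algebraMap B (PP16.P n A B) s₁, s₁ * s₂,
      S.mul_mem hs₁ hs₂, ?_⟩
    rw [map_add, map_add, map_mul (PP16.map n A B A B'), map_mul (PP16.map n A B A B'), ← h₁, ← h₂,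
      map_mul (algebraMap B (PP16.P n A B)), map_mul (PP16.map n A B A B')]
    ring

end Loc

section Psi

variable (B' : Type u) [CommRing B'] [Algebra B B'] [Algebra A B'] [IsScalarTower A B B']
  (S : Submonoid B) [IsLocalization S B']

/-- the image of `S` in `P^n`. -/
noncomputable abbrev M : Submonoid (PP16.P n A B) := S.map (algebraMap B (PP16.P n A B))

variable (L : Type u) [CommRing L] [Algebra (PP16.P n A B) L] [IsLocalization (M n A B S) L]
  [Algebra A L] [IsScalarTower A (PP16.P n A B) L]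

include S in
theorem isUnit_left (s : S) :
    IsUnit (algebraMap (PP16.P n A B) L (algebraMap B (PP16.P n A B) s)) :=
  IsLocalization.map_units L
    (⟨algebraMap B _ (s : B), Submonoid.mem_map_of_mem _ s.2⟩ : M n A B S)

include S in
theorem isUnit_right (s : S) :
    IsUnit (algebraMap (PP16.P n A B) L (PP16.dn n A B s)) := by
  have hu := isUnit_left n A B S L s
  have hnil : IsNilpotent (algebraMap (PP16.P n A B) L
      (PP16.dn n A B (s : B) - algebraMap B (PP16.P n A B) (s : B))) := by
    refine ⟨n + 1, ?_⟩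
    rw [← map_pow, ← neg_sub, neg_pow, delta_pow, mul_zero, map_zero]
  have e : algebraMap (PP16.P n A B) L (PP16.dn n A B (s : B)) =
      algebraMap (PP16.P n A B) L (algebraMap B (PP16.P n A B) (s : B)) +
        algebraMap (PP16.P n A B) L
          (PP16.dn n A B (s : B) - algebraMap B (PP16.P n A B) (s : B)) := by
    rw [← map_add]; congr 1; ring
  rw [e]
  exact hnil.isUnit_add_left_of_commute hu (Commute.all _ _)

/-- the left structure map `B' → L`. -/
noncomputable def lHom : B' →+* L :=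
  IsLocalization.lift (M := S)
    (g := (algebraMap (PP16.P n A B) L).comp (algebraMap B (PP16.P n A B)))
    (fun s => isUnit_left n A B S L s)

/-- the right structure map `B' → L`. -/
noncomputable def rHom : B' →+* L :=
  IsLocalization.lift (M := S)
    (g := (algebraMap (PP16.P n A B) L).comp (PP16.dn n A B : B →+* PP16.P n A B))
    (fun s => isUnit_right n A B S L s)

theorem lHom_algebraMap (b : B) :
    lHom n A B B' S L (algebraMap B B' b) =
      algebraMap (PP16.P n A B) L (algebraMap B (PP16.P n A B) b) :=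
  IsLocalization.lift_eq _ b

theorem rHom_algebraMap (b : B) :
    rHom n A B B' S L (algebraMap B B' b) =
      algebraMap (PP16.P n A B) L (PP16.dn n A B b) :=
  IsLocalization.lift_eq _ b

noncomputable def lAlg : B' →ₐ[A] L :=
  { lHom n A B B' S L with
    commutes' := fun a => by
      change lHom n A B B' S L (algebraMap A B' a) = _
      rw [IsScalarTower.algebraMap_apply A B B', lHom_algebraMap,
        IsScalarTower.algebraMap_apply A (PP16.P n A B) L,
        IsScalarTower.algebraMap_apply A B (PP16.P n A B)] }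

noncomputable def rAlg : B' →ₐ[A] L :=
  { rHom n A B B' S L with
    commutes' := fun a => by
      change rHom n A B B' S L (algebraMap A B' a) = _
      rw [IsScalarTower.algebraMap_apply A B B', rHom_algebraMap,
        IsScalarTower.algebraMap_apply A (PP16.P n A B) L, AlgHom.commutes] }

/-- the map `B' ⊗ B' → L`. -/
noncomputable def psi₀ : B' ⊗[A] B' →ₐ[A] L :=
  Algebra.TensorProduct.lift (lAlg n A B B' S L) (rAlg n A B B' S L) (fun _ _ => Commute.all _ _)

theorem psi₀_tmul (b c : B') :
    psi₀ n A B B' S L (b ⊗ₜ[A] c) = lHom n A B B' S L b * rHom n A B B' S L c := by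
  rw [psi₀, Algebra.TensorProduct.lift_tmul]
  rfl

/-- the ideal of `L` generated by the augmentation ideal. -/
noncomputable abbrev N : Ideal L := Ideal.map (algebraMap (PP16.P n A B) L) (PP16.augIdeal n A B)

theorem N_pow : (N n A B L) ^ (n + 1) = ⊥ := by
  rw [N, ← Ideal.map_pow, augIdeal_pow, Ideal.map_bot]

theorem psi₀_gen_mem (b' : B') :
    psi₀ n A B B' S L ((1 : B') ⊗ₜ[A] b' - b' ⊗ₜ[A] (1 : B')) ∈ N n A B L := by
  obtain ⟨⟨b, s⟩, hb⟩ := IsLocalization.surj S b'
  have hb' : b' * algebraMap B B' (s : B) = algebraMap B B' b := hb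
  rw [map_sub, psi₀_tmul, psi₀_tmul, map_one, map_one, one_mul, mul_one]
  have hul : IsUnit (lHom n A B B' S L (algebraMap B B' (s : B))) := by
    rw [lHom_algebraMap]; exact isUnit_left n A B S L s
  have hur : IsUnit (rHom n A B B' S L (algebraMap B B' (s : B))) := by
    rw [rHom_algebraMap]; exact isUnit_right n A B S L s
  have key : (rHom n A B B' S L b' - lHom n A B B' S L b') *
      (lHom n A B B' S L (algebraMap B B' (s : B)) * rHom n A B B' S L (algebraMap B B' (s : B))) =
      algebraMap (PP16.P n A B) L (Ideal.Quotient.mk _ ((s : B) ⊗ₜ[A] b - b ⊗ₜ[A] (s : B))) := by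
    have e1 : rHom n A B B' S L b' * rHom n A B B' S L (algebraMap B B' (s : B)) =
        algebraMap (PP16.P n A B) L (PP16.dn n A B b) := by
      rw [← map_mul, hb', rHom_algebraMap]
    have e2 : lHom n A B B' S L b' * lHom n A B B' S L (algebraMap B B' (s : B)) =
        algebraMap (PP16.P n A B) L (algebraMap B (PP16.P n A B) b) := by
      rw [← map_mul, hb', lHom_algebraMap]
    have e3 : (Ideal.Quotient.mk (KaehlerDifferential.ideal A B ^ (n + 1)))
        ((s : B) ⊗ₜ[A] b - b ⊗ₜ[A] (s : B)) =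
        algebraMap B (PP16.P n A B) (s : B) * PP16.dn n A B b -
          algebraMap B (PP16.P n A B) b * PP16.dn n A B (s : B) := by
      rw [algebraMap_eq, algebraMap_eq, dn_eq, dn_eq, ← map_mul, ← map_mul, ← map_sub,
        Algebra.TensorProduct.tmul_mul_tmul, Algebra.TensorProduct.tmul_mul_tmul, mul_one, mul_one,
        one_mul, one_mul]
    rw [e3, map_sub, map_mul, map_mul, ← e1, ← e2, lHom_algebraMap, rHom_algebraMap]
    ring
  have hmem : algebraMap (PP16.P n A B) L
      (Ideal.Quotient.mk _ ((s : B) ⊗ₜ[A] b - b ⊗ₜ[A] (s : B))) ∈ N n A B L := by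
    apply Ideal.mem_map_of_mem
    exact Ideal.mem_map_of_mem _ (sub_mem_ideal A B _ _)
  rw [← key] at hmem
  exact (Ideal.mul_unit_mem_iff_mem _ (hul.mul hur)).mp hmem

theorem psi₀_ideal_le :
    Ideal.map (psi₀ n A B B' S L) (KaehlerDifferential.ideal A B') ≤ N n A B L := by
  rw [← KaehlerDifferential.span_range_eq_ideal, Ideal.map_span, Ideal.span_le]
  rintro _ ⟨_, ⟨b', rfl⟩, rfl⟩
  exact psi₀_gen_mem n A B B' S L b'

theorem psi₀_eq_zero (x : B' ⊗[A] B') (hx : x ∈ KaehlerDifferential.ideal A B' ^ (n + 1)) :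
    psi₀ n A B B' S L x = 0 := by
  have h1 : psi₀ n A B B' S L x ∈
      Ideal.map (psi₀ n A B B' S L) (KaehlerDifferential.ideal A B' ^ (n + 1)) :=
    Ideal.mem_map_of_mem _ hx
  rw [Ideal.map_pow] at h1
  have h2 := Ideal.pow_right_mono (psi₀_ideal_le n A B B' S L) (n + 1) h1
  rw [N_pow] at h2
  exact h2

/-- the map `P^n_{B'/A} → L`. -/
noncomputable def psi : PP16.P n A B' →+* L :=
  Ideal.Quotient.lift _ (psi₀ n A B B' S L).toRingHom (psi₀_eq_zero n A B B' S L)

theorem psi_map (x : PP16.P n A B) :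
    psi n A B B' S L (PP16.map n A B A B' x) = algebraMap (PP16.P n A B) L x := by
  obtain ⟨w, rfl⟩ := Ideal.Quotient.mk_surjective x
  induction w using TensorProduct.induction_on with
  | zero => simp
  | tmul b c =>
    rw [map_tmul]
    have e0 : psi n A B B' S L ((Ideal.Quotient.mk (KaehlerDifferential.ideal A B' ^ (n + 1)))
        ((algebraMap B B') b ⊗ₜ[A] (algebraMap B B') c)) =
        psi₀ n A B B' S L ((algebraMap B B') b ⊗ₜ[A] (algebraMap B B') c) :=
      Ideal.Quotient.lift_mk _ _ _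
    rw [e0, psi₀_tmul, lHom_algebraMap, rHom_algebraMap, ← map_mul, algebraMap_eq, dn_eq, ← map_mul,
      Algebra.TensorProduct.tmul_mul_tmul, mul_one, one_mul]
  | add x y hx hy =>
    rw [map_add, map_add, map_add, map_add, hx, hy]

end Psi

section Main

variable (B' : Type u) [CommRing B'] [Algebra B B'] [Algebra A B'] [IsScalarTower A B B']
  (S : Submonoid B) [IsLocalization S B']

theorem main :
    letI := PP16.mapAlgebra n A B A B'
    IsLocalization (S.map (algebraMap B (PP16.P n A B))) (PP16.P n A B') := by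
  letI := PP16.mapAlgebra n A B A B'
  rw [isLocalization_iff]
  refine ⟨?_, ?_, ?_⟩
  · rintro ⟨_, s, hs, rfl⟩
    exact map_units n A B B' S ⟨s, hs⟩
  · intro z
    obtain ⟨x, s, hs, h⟩ := surj n A B B' S z
    exact ⟨⟨x, ⟨algebraMap B _ s, Submonoid.mem_map_of_mem _ hs⟩⟩, h⟩
  · intro x y hxy
    have hxy' : PP16.map n A B A B' x = PP16.map n A B A B' y := hxy
    have h := congrArg (psi n A B B' S (Localization (M n A B S))) hxy'
    rw [psi_map, psi_map] at h
    exact IsLocalization.exists_of_eq (M := M n A B S) (S := Localization (M n A B S)) h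

end Main

end Groth.Agent.Lead.PPLocA
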