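import Mathlib
import Groth.Prelude.Def_PP16
import Groth.Agent.Lead.PPLocA

set_option autoImplicit false
universe u
open scoped TensorProduct
open PP16

namespace Groth.Agent.Lead.PPFracA

open Groth.Agent.Lead.PPLocA

variable (n r : ℕ) (k : Type u) [CommRing k]
  (K : Type u) [CommRing K] [Algebra (MvPolynomial (Fin r) k) K] [Algebra k K]
  [IsScalarTower k (MvPolynomial (Fin r) k) K]
  (S₀ : Submonoid (MvPolynomial (Fin r) k)) [IsLocalization S₀ K]

/-- the ideal `(U)`. -/
noncomputable abbrev J : Ideal (MvPolynomial (Fin r) K) :=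
  Ideal.span (Set.range (MvPolynomial.X : Fin r → MvPolynomial (Fin r) K))

/-- `K[U]/(U)^(n+1)`. -/
noncomputable abbrev Q : Type u := MvPolynomial (Fin r) K ⧸ (J r K) ^ (n + 1)

/-- `T_i ∈ K`. -/
noncomputable abbrev T (i : Fin r) : K :=
  algebraMap (MvPolynomial (Fin r) k) K (MvPolynomial.X i)

/-- `τ' : k[T] → K[U]`, `T_i ↦ T_i + U_i`. -/
noncomputable def tau' : MvPolynomial (Fin r) k →ₐ[k] MvPolynomial (Fin r) K :=
  MvPolynomial.aeval (fun i => MvPolynomial.C (T r k K i) + MvPolynomial.X i)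

theorem tau'_X (i : Fin r) :
    tau' r k K (MvPolynomial.X i) = MvPolynomial.C (T r k K i) + MvPolynomial.X i := by
  rw [tau', MvPolynomial.aeval_X]

theorem tau'_sub_mem (b : MvPolynomial (Fin r) k) :
    tau' r k K b - MvPolynomial.C (algebraMap _ K b) ∈ J r K := by
  have h : (Ideal.Quotient.mkₐ k (J r K)).comp (tau' r k K) =
      (Ideal.Quotient.mkₐ k (J r K)).comp
        (((Algebra.ofId K (MvPolynomial (Fin r) K)).restrictScalars k).comp
          (IsScalarTower.toAlgHom k (MvPolynomial (Fin r) k) K)) := by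
    apply MvPolynomial.algHom_ext
    intro i
    rw [AlgHom.comp_apply, AlgHom.comp_apply, AlgHom.comp_apply, tau'_X,
      Ideal.Quotient.mkₐ_eq_mk, Ideal.Quotient.eq]
    have : (MvPolynomial.C (T r k K i) + MvPolynomial.X i : MvPolynomial (Fin r) K) -
        ((Algebra.ofId K (MvPolynomial (Fin r) K)).restrictScalars k)
          ((IsScalarTower.toAlgHom k (MvPolynomial (Fin r) k) K) (MvPolynomial.X i)) =
        MvPolynomial.X i := by
      change (MvPolynomial.C (T r k K i) + MvPolynomial.X i : MvPolynomial (Fin r) K) -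
        MvPolynomial.C (T r k K i) = _
      ring
    rw [this]
    exact Ideal.subset_span ⟨i, rfl⟩
  have h2 := DFunLike.congr_fun h b
  rw [AlgHom.comp_apply, AlgHom.comp_apply, Ideal.Quotient.mkₐ_eq_mk, Ideal.Quotient.eq] at h2
  exact h2

theorem isUnit_tau (s : S₀) :
    IsUnit (Ideal.Quotient.mk ((J r K) ^ (n + 1)) (tau' r k K (s : MvPolynomial (Fin r) k))) := by
  have hu : IsUnit (Ideal.Quotient.mk ((J r K) ^ (n + 1))
      (MvPolynomial.C (algebraMap _ K (s : MvPolynomial (Fin r) k)))) :=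
    ((IsLocalization.map_units K s).map MvPolynomial.C).map _
  have hnil : IsNilpotent (Ideal.Quotient.mk ((J r K) ^ (n + 1))
      (tau' r k K (s : MvPolynomial (Fin r) k) -
        MvPolynomial.C (algebraMap _ K (s : MvPolynomial (Fin r) k)))) := by
    refine ⟨n + 1, ?_⟩
    rw [← map_pow, Ideal.Quotient.eq_zero_iff_mem]
    exact Ideal.pow_mem_pow (tau'_sub_mem r k K _) _
  have e : Ideal.Quotient.mk ((J r K) ^ (n + 1)) (tau' r k K (s : MvPolynomial (Fin r) k)) =
      Ideal.Quotient.mk ((J r K) ^ (n + 1))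
        (MvPolynomial.C (algebraMap _ K (s : MvPolynomial (Fin r) k))) +
      Ideal.Quotient.mk ((J r K) ^ (n + 1))
        (tau' r k K (s : MvPolynomial (Fin r) k) -
          MvPolynomial.C (algebraMap _ K (s : MvPolynomial (Fin r) k))) := by
    rw [← map_add]; congr 1; ring
  rw [e]
  exact hnil.isUnit_add_left_of_commute hu (Commute.all _ _)

/-- `τ : K → K[U]/(U)^(n+1)`. -/
noncomputable def tau : K →+* Q n r K :=
  IsLocalization.lift (M := S₀)
    (g := (Ideal.Quotient.mk ((J r K) ^ (n + 1))).comp (tau' r k K : _ →+* MvPolynomial (Fin r) K))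
    (fun s => isUnit_tau n r k K S₀ s)

theorem tau_algebraMap (b : MvPolynomial (Fin r) k) :
    tau n r k K S₀ (algebraMap _ K b) = Ideal.Quotient.mk ((J r K) ^ (n + 1)) (tau' r k K b) :=
  IsLocalization.lift_eq _ b

noncomputable def tauAlg : K →ₐ[k] Q n r K :=
  { tau n r k K S₀ with
    commutes' := fun a => by
      change tau n r k K S₀ (algebraMap k K a) = _
      rw [IsScalarTower.algebraMap_apply k (MvPolynomial (Fin r) k) K, tau_algebraMap,
        AlgHom.commutes]
      rfl }

noncomputable def leftAlg : K →ₐ[k] Q n r K :=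
  (Ideal.Quotient.mkₐ k ((J r K) ^ (n + 1))).comp
    ((Algebra.ofId K (MvPolynomial (Fin r) K)).restrictScalars k)

theorem leftAlg_apply (a : K) :
    leftAlg n r k K a = Ideal.Quotient.mk ((J r K) ^ (n + 1)) (MvPolynomial.C a) := rfl

noncomputable def psi₀ : K ⊗[k] K →ₐ[k] Q n r K :=
  Algebra.TensorProduct.lift (leftAlg n r k K) (tauAlg n r k K S₀) (fun _ _ => Commute.all _ _)

theorem psi₀_tmul (a b : K) :
    psi₀ n r k K S₀ (a ⊗ₜ[k] b) =
      Ideal.Quotient.mk ((J r K) ^ (n + 1)) (MvPolynomial.C a) * tau n r k K S₀ b := by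
  rw [psi₀, Algebra.TensorProduct.lift_tmul]
  rfl

/-- the image of `(U)` in the quotient. -/
noncomputable abbrev N : Ideal (Q n r K) :=
  (J r K).map (Ideal.Quotient.mk ((J r K) ^ (n + 1)))

theorem N_pow : (N n r K) ^ (n + 1) = ⊥ := by
  rw [N, ← Ideal.map_pow, Ideal.map_quotient_self]

theorem tau_sub_mem (b : K) :
    tau n r k K S₀ b - Ideal.Quotient.mk ((J r K) ^ (n + 1)) (MvPolynomial.C b) ∈ N n r K := by
  have h : (Ideal.Quotient.mk (N n r K)).comp (tau n r k K S₀) =
      (Ideal.Quotient.mk (N n r K)).comp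
        ((Ideal.Quotient.mk ((J r K) ^ (n + 1))).comp MvPolynomial.C) := by
    apply IsLocalization.ringHom_ext S₀
    refine RingHom.ext fun b => ?_
    rw [RingHom.comp_apply, RingHom.comp_apply, RingHom.comp_apply, RingHom.comp_apply,
      RingHom.comp_apply, tau_algebraMap, Ideal.Quotient.eq, ← map_sub]
    exact Ideal.mem_map_of_mem _ (tau'_sub_mem r k K b)
  have h2 := DFunLike.congr_fun h b
  rw [RingHom.comp_apply, RingHom.comp_apply, RingHom.comp_apply, Ideal.Quotient.eq] at h2
  exact h2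

theorem psi₀_ideal_le :
    Ideal.map (psi₀ n r k K S₀) (KaehlerDifferential.ideal k K) ≤ N n r K := by
  rw [← KaehlerDifferential.span_range_eq_ideal, Ideal.map_span, Ideal.span_le]
  rintro _ ⟨_, ⟨b, rfl⟩, rfl⟩
  rw [map_sub, psi₀_tmul, psi₀_tmul]
  simp only [map_one, one_mul, mul_one]
  exact tau_sub_mem n r k K S₀ b

theorem psi₀_eq_zero (x : K ⊗[k] K) (hx : x ∈ KaehlerDifferential.ideal k K ^ (n + 1)) :
    psi₀ n r k K S₀ x = 0 := by
  have h1 : psi₀ n r k K S₀ x ∈
      Ideal.map (psi₀ n r k K S₀) (KaehlerDifferential.ideal k K ^ (n + 1)) :=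
    Ideal.mem_map_of_mem _ hx
  rw [Ideal.map_pow] at h1
  have h2 := Ideal.pow_right_mono (psi₀_ideal_le n r k K S₀) (n + 1) h1
  rw [N_pow] at h2
  exact h2

/-- `ψ : P^n_{K/k} → K[U]/(U)^(n+1)`. -/
noncomputable def psi : PP16.P n k K →+* Q n r K :=
  Ideal.Quotient.lift _ (psi₀ n r k K S₀).toRingHom (psi₀_eq_zero n r k K S₀)

theorem psi_mk (x : K ⊗[k] K) :
    psi n r k K S₀ (Ideal.Quotient.mk _ x) = psi₀ n r k K S₀ x :=
  Ideal.Quotient.lift_mk _ _ _

/-- the map of the statement. -/
noncomputable abbrev phi : MvPolynomial (Fin r) K →ₐ[K] PP16.P n k K :=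
  MvPolynomial.aeval (R := K) (S₁ := PP16.P n k K)
    (fun i : Fin r => PP16.dn n k K (T r k K i) - algebraMap K (PP16.P n k K) (T r k K i))

theorem phi_X (i : Fin r) :
    phi n r k K (MvPolynomial.X i) =
      PP16.dn n k K (T r k K i) - algebraMap K (PP16.P n k K) (T r k K i) :=
  MvPolynomial.aeval_X _ i

theorem phi_C (a : K) :
    phi n r k K (MvPolynomial.C a) = algebraMap K (PP16.P n k K) a :=
  MvPolynomial.aeval_C _ a

theorem psi_phi (x : MvPolynomial (Fin r) K) :
    psi n r k K S₀ (phi n r k K x) = Ideal.Quotient.mk ((J r K) ^ (n + 1)) x := by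
  have h : (psi n r k K S₀).comp (phi n r k K : MvPolynomial (Fin r) K →+* PP16.P n k K) =
      Ideal.Quotient.mk ((J r K) ^ (n + 1)) := by
    apply MvPolynomial.ringHom_ext
    · intro a
      rw [RingHom.comp_apply]
      change psi n r k K S₀ (phi n r k K (MvPolynomial.C a)) = _
      rw [phi_C, algebraMap_eq, psi_mk, psi₀_tmul, map_one, mul_one]
    · intro i
      rw [RingHom.comp_apply]
      change psi n r k K S₀ (phi n r k K (MvPolynomial.X i)) = _
      rw [phi_X, algebraMap_eq, dn_eq, ← map_sub, psi_mk, map_sub, psi₀_tmul, psi₀_tmul]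
      simp only [map_one, one_mul, mul_one]
      change tau n r k K S₀ (algebraMap _ K (MvPolynomial.X i)) - _ = _
      rw [tau_algebraMap, tau'_X, ← map_sub]
      congr 1
      ring
  exact DFunLike.congr_fun h x

theorem phi_J_le : Ideal.map (phi n r k K) (J r K) ≤ PP16.augIdeal n k K := by
  rw [Ideal.map_span, Ideal.span_le]
  rintro _ ⟨_, ⟨i, rfl⟩, rfl⟩
  rw [phi_X, algebraMap_eq, dn_eq, ← map_sub]
  apply Ideal.mem_map_of_mem
  exact sub_mem_ideal k K _ _

theorem phi_eq_zero (x : MvPolynomial (Fin r) K) (hx : x ∈ (J r K) ^ (n + 1)) :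
    phi n r k K x = 0 := by
  have h1 : phi n r k K x ∈ Ideal.map (phi n r k K) ((J r K) ^ (n + 1)) :=
    Ideal.mem_map_of_mem _ hx
  rw [Ideal.map_pow] at h1
  have h2 := Ideal.pow_right_mono (phi_J_le n r k K) (n + 1) h1
  rw [augIdeal_pow] at h2
  exact h2

include S₀ in
theorem ker_phi :
    RingHom.ker (phi n r k K).toRingHom = (J r K) ^ (n + 1) := by
  apply le_antisymm
  · intro x hx
    rw [RingHom.mem_ker] at hx
    have h := psi_phi n r k K S₀ x
    change (phi n r k K) x = 0 at hx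
    rw [hx, map_zero] at h
    exact Ideal.Quotient.eq_zero_iff_mem.mp h.symm
  · intro x hx
    rw [RingHom.mem_ker]
    exact phi_eq_zero n r k K x hx

/-- `φ̄ : K[U]/(U)^(n+1) → P^n`. -/
noncomputable def phiBar : Q n r K →+* PP16.P n k K :=
  Ideal.Quotient.lift _ (phi n r k K).toRingHom (phi_eq_zero n r k K)

theorem phiBar_mk (x : MvPolynomial (Fin r) K) :
    phiBar n r k K (Ideal.Quotient.mk _ x) = phi n r k K x :=
  Ideal.Quotient.lift_mk _ _ _

theorem phi_tau' (b : MvPolynomial (Fin r) k) :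
    phi n r k K (tau' r k K b) = PP16.dn n k K (algebraMap _ K b) := by
  have h : ((phi n r k K).restrictScalars k).comp (tau' r k K) =
      (PP16.dn n k K).comp (IsScalarTower.toAlgHom k (MvPolynomial (Fin r) k) K) := by
    apply MvPolynomial.algHom_ext
    intro i
    rw [AlgHom.comp_apply, AlgHom.comp_apply, tau'_X]
    change phi n r k K (MvPolynomial.C (T r k K i) + MvPolynomial.X i) =
      PP16.dn n k K (T r k K i)
    rw [map_add, phi_C, phi_X]
    ring
  exact DFunLike.congr_fun h b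

theorem phiBar_tau (b : K) :
    phiBar n r k K (tau n r k K S₀ b) = PP16.dn n k K b := by
  have h : (phiBar n r k K).comp (tau n r k K S₀) = (PP16.dn n k K : K →+* PP16.P n k K) := by
    apply IsLocalization.ringHom_ext S₀
    refine RingHom.ext fun b => ?_
    rw [RingHom.comp_apply, RingHom.comp_apply, RingHom.comp_apply, tau_algebraMap, phiBar_mk,
      phi_tau']
    rfl
  exact DFunLike.congr_fun h b

theorem phiBar_psi (z : PP16.P n k K) :
    phiBar n r k K (psi n r k K S₀ z) = z := by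
  obtain ⟨w, rfl⟩ := Ideal.Quotient.mk_surjective z
  rw [psi_mk]
  induction w using TensorProduct.induction_on with
  | zero => simp
  | tmul a b =>
    rw [psi₀_tmul, map_mul, phiBar_mk, phi_C, phiBar_tau, algebraMap_eq, dn_eq, ← map_mul,
      Algebra.TensorProduct.tmul_mul_tmul, mul_one, one_mul]
  | add x y hx hy =>
    rw [map_add, map_add, map_add, hx, hy]

include S₀ in
theorem surjective_phi : Function.Surjective (phi n r k K) := by
  intro z
  obtain ⟨y, hy⟩ := Ideal.Quotient.mk_surjective (psi n r k K S₀ z)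
  refine ⟨y, ?_⟩
  rw [← phiBar_mk, hy, phiBar_psi]

end Groth.Agent.Lead.PPFracA
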