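import Groth.Prelude.Def_OmegaPn
import Mathlib

/-!
# Lead: the transition maps `P^m(F) ⟶ P^n(F)` for `n ≤ m`
-/

set_option autoImplicit false
open CategoryTheory CategoryTheory.Limits AlgebraicGeometry Opposite TopologicalSpace
universe u

namespace Groth.Agent.Lead.PPMonoA
open Scheme.Modules

variable {X S : Scheme.{u}} (f : X ⟶ S)

section General
/-! a general construction: for `j : Z' ⟶ Z`, `p₁ p₂ : Z ⟶ X` homeomorphic-type pairs -/
variable {Z Z' : Scheme.{u}} (j : Z' ⟶ Z) (p₁ p₂ : Z ⟶ X) (q₁ q₂ : Z' ⟶ X)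
  (h₁ : j ≫ p₁ = q₁) (h₂ : j ≫ p₂ = q₂) (F : X.Modules)

/-- `F ⟶ p₂_* j_* q₂^* F` -/
noncomputable def gam : F ⟶ (pushforward p₂).obj ((pushforward j).obj ((Scheme.Modules.pullback q₂).obj F)) :=
  (pullbackPushforwardAdjunction q₂).unit.app F ≫ (pushforwardCongr h₂.symm).hom.app _ ≫
    (pushforwardComp j p₂).inv.app _

theorem gam_app (U : X.Opens) (t : Γ(F, U)) :
    (gam j p₂ q₂ h₂ F).app U t =
      ((Scheme.Modules.pullback q₂).obj F).presheaf.map (homOfLE (by rw [← h₂]; exact le_refl _) :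
        j ⁻¹ᵁ (p₂ ⁻¹ᵁ U) ⟶ q₂ ⁻¹ᵁ U).op (OmegaSh.pullSect q₂ F U t) := by
  subst h₂
  rfl

/-- `p₂^* F ⟶ j_* q₂^* F` -/
noncomputable def bet : (Scheme.Modules.pullback p₂).obj F ⟶ (pushforward j).obj ((Scheme.Modules.pullback q₂).obj F) :=
  ((pullbackPushforwardAdjunction p₂).homEquiv _ _).symm (gam j p₂ q₂ h₂ F)

theorem bet_app (U : X.Opens) (t : Γ(F, U)) :
    (bet j p₂ q₂ h₂ F).app (p₂ ⁻¹ᵁ U) (OmegaSh.pullSect p₂ F U t) = (gam j p₂ q₂ h₂ F).app U t := by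
  have h1 : ∀ c : (Scheme.Modules.pullback p₂).obj F ⟶ (pushforward j).obj ((Scheme.Modules.pullback q₂).obj F),
      ((pullbackPushforwardAdjunction p₂).homEquiv _ _ c).app U t =
      c.app (p₂ ⁻¹ᵁ U) (OmegaSh.pullSect p₂ F U t) := by
    intro c
    rw [Adjunction.homEquiv_unit]; rfl
  rw [← h1]
  unfold bet
  rw [Equiv.apply_symm_apply]

/-- `p₁_* p₂^* F ⟶ q₁_* q₂^* F` -/
noncomputable def rho : (pushforward p₁).obj ((Scheme.Modules.pullback p₂).obj F) ⟶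
    (pushforward q₁).obj ((Scheme.Modules.pullback q₂).obj F) :=
  (pushforward p₁).map (bet j p₂ q₂ h₂ F) ≫ (pushforwardComp j p₁).hom.app _ ≫
    (pushforwardCongr h₁).hom.app _

theorem rho_app (U : X.Opens) (x : Γ((Scheme.Modules.pullback p₂).obj F, p₁ ⁻¹ᵁ U)) :
    (rho j p₁ p₂ q₁ q₂ h₁ h₂ F).app U x =
      ((Scheme.Modules.pullback q₂).obj F).presheaf.map (homOfLE (by rw [← h₁]; exact le_refl _) :
        q₁ ⁻¹ᵁ U ⟶ j ⁻¹ᵁ (p₁ ⁻¹ᵁ U)).op ((bet j p₂ q₂ h₂ F).app (p₁ ⁻¹ᵁ U) x) := by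
  subst h₁
  rfl

/-- the abstract `d` operator: pull back along `p₂`, read over `p₁⁻¹ U` -/
noncomputable def dGen {Z : Scheme.{u}} (p₁ p₂ : Z ⟶ X) (hp : ∀ U : X.Opens, p₁ ⁻¹ᵁ U = p₂ ⁻¹ᵁ U)
    (F : X.Modules) (U : X.Opens) (t : Γ(F, U)) : Γ((Scheme.Modules.pullback p₂).obj F, p₁ ⁻¹ᵁ U) :=
  ((Scheme.Modules.pullback p₂).obj F).presheaf.map (homOfLE (hp U).le).op (OmegaSh.pullSect p₂ F U t)

theorem app_res' {Y : Scheme.{u}} {M N : Y.Modules} (φ : M ⟶ N) {V W : Y.Opens} (i : W ⟶ V)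
    (m : Γ(M, V)) :
    φ.app W (M.presheaf.map i.op m) = N.presheaf.map i.op (φ.app V m) := by
  have := φ.mapPresheaf.naturality i.op
  exact congrArg (fun f => f.hom m) this

theorem map3 {Y : Scheme.{u}} (N : Y.Modules) {A B C D : (Opens Y)ᵒᵖ} (a : A ⟶ B) (b : B ⟶ C)
    (c : C ⟶ D) (d : A ⟶ D) (x : N.presheaf.obj A) :
    N.presheaf.map c (N.presheaf.map b (N.presheaf.map a x)) = N.presheaf.map d x := by
  rw [← ConcreteCategory.comp_apply, ← ConcreteCategory.comp_apply, ← Functor.map_comp,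
    ← Functor.map_comp]
  congr 2

theorem rho_dGen (hp : ∀ U : X.Opens, p₁ ⁻¹ᵁ U = p₂ ⁻¹ᵁ U) (hq : ∀ U : X.Opens, q₁ ⁻¹ᵁ U = q₂ ⁻¹ᵁ U)
    (U : X.Opens) (t : Γ(F, U)) :
    (rho j p₁ p₂ q₁ q₂ h₁ h₂ F).app U (dGen p₁ p₂ hp F U t) = dGen q₁ q₂ hq F U t := by
  rw [rho_app]
  unfold dGen
  rw [app_res', bet_app, gam_app]
  exact map3 _ _ _ _ _ _

end General

section Trans
variable {n m : ℕ} (h : n ≤ m) (F : X.Modules)

theorem infNbhdMap_pr1 :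
    PrinPart.infNbhdMap (PrinPart.diagCl f) h ≫ PrinPart.pr1 f m = PrinPart.pr1 f n := by
  simp only [PrinPart.pr1, PrinPart.nbhdι, Category.assoc, PrinPart.infNbhdMap_ι_assoc]

theorem infNbhdMap_pr2 :
    PrinPart.infNbhdMap (PrinPart.diagCl f) h ≫ PrinPart.pr2 f m = PrinPart.pr2 f n := by
  simp only [PrinPart.pr2, PrinPart.nbhdι, Category.assoc, PrinPart.infNbhdMap_ι_assoc]

/-- the transition map `P^m(F) ⟶ P^n(F)` -/
noncomputable def trans : PrinPart.PMod f m F ⟶ PrinPart.PMod f n F :=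
  rho (PrinPart.infNbhdMap (PrinPart.diagCl f) h) (PrinPart.pr1 f m) (PrinPart.pr2 f m)
    (PrinPart.pr1 f n) (PrinPart.pr2 f n) (infNbhdMap_pr1 f h) (infNbhdMap_pr2 f h) F

theorem trans_dP (U : X.Opens) (t : Γ(F, U)) :
    (trans f h F).app U (PrinPart.dP f m F U t) = PrinPart.dP f n F U t :=
  rho_dGen (PrinPart.infNbhdMap (PrinPart.diagCl f) h) (PrinPart.pr1 f m) (PrinPart.pr2 f m)
    (PrinPart.pr1 f n) (PrinPart.pr2 f n) (infNbhdMap_pr1 f h) (infNbhdMap_pr2 f h) F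
    (PrinPart.preimage_pr1 f m) (PrinPart.preimage_pr1 f n) U t

include h in
theorem isDiffOpLE_of_le (G : X.Modules) (D : F.presheaf ⟶ G.presheaf)
    (hD : PrinPart.IsDiffOpLE f F G n D) : PrinPart.IsDiffOpLE f F G m D := by
  obtain ⟨u, hu⟩ := hD
  refine ⟨trans f h F ≫ u, fun U t => ?_⟩
  rw [hu]
  change _ = u.app U ((trans f h F).app U (PrinPart.dP f m F U t))
  rw [trans_dP]

end Trans

end Groth.Agent.Lead.PPMonoA
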