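import Groth.Prelude.Def_PP16
import Mathlib

/-!
# Lead: `P^1_{B/A} = B ⊕ Ω_{B/A}` (algebra)
-/

set_option autoImplicit false
open TensorProduct
universe u

namespace Groth.Agent.Lead.PPOneA

variable (A B : Type u) [CommRing A] [CommRing B] [Algebra A B]

/-- the canonical map `Ω_{B/A} → P^1_{B/A}` -/
noncomputable def jmap : Ω[B⁄A] →ₗ[B] PP16.P 1 A B :=
  ((KaehlerDifferential.ideal A B).cotangentToQuotientSquare).restrictScalars B

theorem jmap_toCotangent (x : KaehlerDifferential.ideal A B) :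
    jmap A B ((KaehlerDifferential.ideal A B).toCotangent x) = Ideal.Quotient.mk _ x.1 := rfl

theorem jmap_D (s : B) :
    jmap A B (KaehlerDifferential.D A B s) = PP16.dn 1 A B s - algebraMap B (PP16.P 1 A B) s := by
  change Ideal.Quotient.mk _ ((1 : B) ⊗ₜ[A] s - s ⊗ₜ[A] (1 : B)) =
    Ideal.Quotient.mk _ ((1 : B) ⊗ₜ[A] s) - Ideal.Quotient.mk _ (s ⊗ₜ[A] (1 : B))
  rw [map_sub]

theorem jmap_injective : Function.Injective (jmap A B) :=
  (KaehlerDifferential.ideal A B).cotangentToQuotientSquare_injective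

/-- the augmentation `P^1 → B` -/
noncomputable def aug : PP16.P 1 A B →+* B :=
  Ideal.Quotient.lift _ (Algebra.TensorProduct.lmul' A : B ⊗[A] B →ₐ[A] B).toRingHom (by
    intro x hx
    have h : KaehlerDifferential.ideal A B ^ (1 + 1) ≤ KaehlerDifferential.ideal A B :=
      Ideal.pow_le_self (by norm_num)
    exact h hx)

theorem aug_algebraMap (b : B) : aug A B (algebraMap B (PP16.P 1 A B) b) = b := by
  change aug A B (Ideal.Quotient.mk _ (b ⊗ₜ[A] (1 : B))) = b
  unfold aug
  rw [Ideal.Quotient.lift_mk]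
  change Algebra.TensorProduct.lmul' A (b ⊗ₜ[A] (1 : B)) = b
  rw [Algebra.TensorProduct.lmul'_apply_tmul, mul_one]

theorem aug_jmap (w : Ω[B⁄A]) : aug A B (jmap A B w) = 0 := by
  obtain ⟨x, rfl⟩ := (KaehlerDifferential.ideal A B).toCotangent_surjective w
  rw [jmap_toCotangent]
  unfold aug
  rw [Ideal.Quotient.lift_mk]
  exact x.2

theorem bijective :
    Function.Bijective (fun p : B × Ω[B⁄A] => algebraMap B (PP16.P 1 A B) p.1 + jmap A B p.2) := by
  constructor
  · rintro ⟨a, w⟩ ⟨a', w'⟩ h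
    have h' : algebraMap B (PP16.P 1 A B) a + jmap A B w =
        algebraMap B (PP16.P 1 A B) a' + jmap A B w' := h
    have h1 := congrArg (aug A B) h'
    rw [map_add, map_add, aug_algebraMap, aug_algebraMap, aug_jmap, aug_jmap, add_zero,
      add_zero] at h1
    subst h1
    have h2 := add_left_cancel h'
    rw [jmap_injective A B h2]
  · intro x
    obtain ⟨t, rfl⟩ := Ideal.Quotient.mk_surjective x
    let b : B := Algebra.TensorProduct.lmul' A t
    have hmem : t - b ⊗ₜ[A] (1 : B) ∈ KaehlerDifferential.ideal A B := by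
      change Algebra.TensorProduct.lmul' A (t - b ⊗ₜ[A] (1 : B)) = 0
      rw [map_sub, Algebra.TensorProduct.lmul'_apply_tmul, mul_one, sub_self]
    refine ⟨(b, (KaehlerDifferential.ideal A B).toCotangent ⟨_, hmem⟩), ?_⟩
    change Ideal.Quotient.mk _ (b ⊗ₜ[A] (1 : B)) + jmap A B _ = _
    rw [jmap_toCotangent, ← map_add]
    congr 1
    exact add_sub_cancel _ _

end Groth.Agent.Lead.PPOneA
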