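import Groth.Agent.Lead.PPGenA
import Groth.Agent.Lead.PPChartC
import Mathlib

/-!
# Lead: the two structure maps `O_X → P^n_{X/S}` on all opens; products of `n+1`
differences `p₂♯ a - p₁♯ a` vanish
-/

set_option autoImplicit false
open CategoryTheory CategoryTheory.Limits AlgebraicGeometry Opposite TopologicalSpace TensorProduct
universe u

namespace Groth.Agent.Lead.PPOrdA
open Groth.Agent.Lead.PPChartA Groth.Agent.Lead.PPChartB Groth.Agent.Lead.PPChartF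

variable {X S : Scheme.{u}} (f : X ⟶ S) (n : ℕ)

/-- `p₁♯` on sections over `U` -/
noncomputable def lU (U : X.Opens) : Γ(X, U) →+* Γ(PrinPart.nbhd f n, PrinPart.pr1 f n ⁻¹ᵁ U) :=
  ((PrinPart.pr1 f n).app U).hom

/-- `p₂♯` on sections over `U`, read over `p₁⁻¹U` -/
noncomputable def rU (U : X.Opens) : Γ(X, U) →+* Γ(PrinPart.nbhd f n, PrinPart.pr1 f n ⁻¹ᵁ U) :=
  ((PrinPart.pr2 f n).appLE U (PrinPart.pr1 f n ⁻¹ᵁ U) (PrinPart.preimage_pr1 f n U).le).hom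

theorem lU_res {U U' : X.Opens} (h : U' ≤ U) (s : Γ(X, U)) :
    lU f n U' (X.presheaf.map (homOfLE h).op s) =
      (PrinPart.nbhd f n).presheaf.map (homOfLE ((PrinPart.pr1 f n).preimage_mono h)).op
        (lU f n U s) := by
  have h1 := Scheme.Hom.map_appLE (PrinPart.pr1 f n) (le_refl (PrinPart.pr1 f n ⁻¹ᵁ U'))
    (homOfLE h).op
  have h2 := Scheme.Hom.appLE_map (PrinPart.pr1 f n) (le_refl (PrinPart.pr1 f n ⁻¹ᵁ U))
    (homOfLE ((PrinPart.pr1 f n).preimage_mono h)).op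
  rw [Scheme.Hom.appLE_eq_app] at h1 h2
  exact (congr($h1 s)).trans (congr($h2 s)).symm

theorem rU_res {U U' : X.Opens} (h : U' ≤ U) (s : Γ(X, U)) :
    rU f n U' (X.presheaf.map (homOfLE h).op s) =
      (PrinPart.nbhd f n).presheaf.map (homOfLE ((PrinPart.pr1 f n).preimage_mono h)).op
        (rU f n U s) := by
  have h1 := Scheme.Hom.map_appLE (PrinPart.pr2 f n) (PrinPart.preimage_pr1 f n U').le
    (homOfLE h).op
  have h2 := Scheme.Hom.appLE_map (PrinPart.pr2 f n) (PrinPart.preimage_pr1 f n U).le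
    (homOfLE ((PrinPart.pr1 f n).preimage_mono h)).op
  exact (congr($h1 s)).trans (congr($h2 s)).symm

theorem Phi_smul' (U : X.Opens) (a : Γ(X, U)) (m : Γ(PrinPart.P f n, U)) :
    Phi f n U (a • m) = lU f n U a * Phi f n U m := Phi_smul f n U a m

theorem Phi_dn' (U : X.Opens) (s : Γ(X, U)) :
    Phi f n U (PrinPart.dn f n U s) = rU f n U s := Phi_dn f n U s

/-- `p₁ ≫ f = p₂ ≫ f` on sections -/
theorem lU_base (V : S.Opens) (U : X.Opens) (hU : U ≤ f ⁻¹ᵁ V) (c : Γ(S, V)) :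
    lU f n U (f.appLE V U hU c) = rU f n U (f.appLE V U hU c) := by
  have h1 : ∀ (p q : PrinPart.nbhd f n ⟶ S) (_ : p = q) (e₁ : PrinPart.pr1 f n ⁻¹ᵁ U ≤ p ⁻¹ᵁ V)
      (e₂ : PrinPart.pr1 f n ⁻¹ᵁ U ≤ q ⁻¹ᵁ V), p.appLE V _ e₁ = q.appLE V _ e₂ := by
    rintro p _ rfl e₁ e₂; rfl
  have h2 := Scheme.Hom.appLE_comp_appLE (PrinPart.pr1 f n) f V U (PrinPart.pr1 f n ⁻¹ᵁ U) hU
    (le_refl _)
  have h3 := Scheme.Hom.appLE_comp_appLE (PrinPart.pr2 f n) f V U (PrinPart.pr1 f n ⁻¹ᵁ U) hU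
    (PrinPart.preimage_pr1 f n U).le
  rw [Scheme.Hom.appLE_eq_app] at h2
  have h4 := (congr($h2 c)).trans ((congr($(h1 _ _ (PrinPart.pr1_comp f n) _ _) c)).trans
    (congr($h3 c)).symm)
  exact h4

section Chart
variable {U : X.Opens} (hU : IsAffineOpen U) {V : S.Opens} (hV : IsAffineOpen V) (e : U ≤ f ⁻¹ᵁ V)

include hU hV e in
theorem prod_eq_zero_chart {ι : Type*} (s : Finset ι) (hs : s.card = n + 1) (a : ι → Γ(X, U)) :
    ∏ i ∈ s, (rU f n U (a i) - lU f n U (a i)) = 0 := by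
  letI := (f.appLE V U e).hom.toAlgebra
  obtain ⟨θ, hθ₁, hθ₂⟩ := exists_chart f n hU hV e
  have h1 : ∀ i, rU f n U (a i) - lU f n U (a i) =
      θ (Ideal.Quotient.mk _ ((1 : Γ(X, U)) ⊗ₜ[Γ(S, V)] a i - a i ⊗ₜ[Γ(S, V)] (1 : Γ(X, U)))) := by
    intro i
    rw [map_sub, map_sub]
    exact congrArg₂ (· - ·) (hθ₂ (a i)).symm (hθ₁ (a i)).symm
  simp only [h1]
  rw [← map_prod, ← map_prod]
  have h2 : ∏ i ∈ s, ((1 : Γ(X, U)) ⊗ₜ[Γ(S, V)] a i - a i ⊗ₜ[Γ(S, V)] (1 : Γ(X, U))) ∈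
      KaehlerDifferential.ideal Γ(S, V) Γ(X, U) ^ (n + 1) := by
    rw [← hs, ← Finset.prod_const]
    exact Ideal.prod_mem_prod (fun i _ => KaehlerDifferential.one_smul_sub_smul_one_mem_ideal _ (a i))
  rw [Ideal.Quotient.eq_zero_iff_mem.mpr h2, map_zero]

end Chart

/-- products of `n + 1` differences vanish, over any open -/
theorem prod_eq_zero (U : X.Opens) {ι : Type*} (s : Finset ι) (hs : s.card = n + 1)
    (a : ι → Γ(X, U)) :
    ∏ i ∈ s, (rU f n U (a i) - lU f n U (a i)) = 0 := by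
  have hcov : ∀ x : U, ∃ (U' : X.Opens) (V : S.Opens), IsAffineOpen U' ∧ IsAffineOpen V ∧
      x.1 ∈ U' ∧ U' ≤ U ∧ U' ≤ f ⁻¹ᵁ V := fun x => Groth.Agent.Lead.PPChartC.exists_pair f x.1 U x.2
  choose U' V hU' hV hx hle hUV using hcov
  apply TopCat.Sheaf.eq_of_locally_eq' (PrinPart.nbhd f n).sheaf
    (fun x : U => PrinPart.pr1 f n ⁻¹ᵁ U' x) (PrinPart.pr1 f n ⁻¹ᵁ U)
    (fun x => homOfLE ((PrinPart.pr1 f n).preimage_mono (hle x)))
  · intro z hz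
    exact Opens.mem_iSup.mpr ⟨⟨PrinPart.pr1 f n z, hz⟩, hx ⟨PrinPart.pr1 f n z, hz⟩⟩
  · intro x
    change (PrinPart.nbhd f n).presheaf.map (homOfLE ((PrinPart.pr1 f n).preimage_mono (hle x))).op
      (∏ i ∈ s, (rU f n U (a i) - lU f n U (a i))) =
      (PrinPart.nbhd f n).presheaf.map (homOfLE ((PrinPart.pr1 f n).preimage_mono (hle x))).op 0
    rw [map_zero, map_prod]
    simp only [map_sub, ← lU_res f n (hle x), ← rU_res f n (hle x)]
    exact prod_eq_zero_chart f n (hU' x) (hV x) (hUV x) s hs _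

end Groth.Agent.Lead.PPOrdA
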