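import Groth.Agent.Lead.PPOneA
import Groth.Agent.Lead.PPOrdA
import Groth.Agent.Lead.OmegaSeqE
import Mathlib

/-!
# Lead: `P^1_{X/S} = O_X ⊕ Ω_{X/S}`
-/

set_option autoImplicit false
open CategoryTheory CategoryTheory.Limits AlgebraicGeometry Opposite TopologicalSpace TensorProduct
universe u

namespace Groth.Agent.Lead.PPOneB
open Groth.Agent.Lead.PPChartA Groth.Agent.Lead.PPChartB Groth.Agent.Lead.PPChartF
  Groth.Agent.Lead.PPOrdA Groth.Agent.Lead.PPOneA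

variable {X S : Scheme.{u}} (f : X ⟶ S)

section Chart
variable {U : X.Opens} (hU : IsAffineOpen U) {V : S.Opens} (hV : IsAffineOpen V) (e : U ≤ f ⁻¹ᵁ V)

include hU hV in
/-- sections of `P^n` over a chart, as principal parts of the rings -/
theorem exists_Psi (n : ℕ) :
    letI := (f.appLE V U e).hom.toAlgebra
    ∃ Ψ : Γ(PrinPart.P f n, U) ≃+ PP16.P n Γ(S, V) Γ(X, U),
      (∀ (a : Γ(X, U)) (m : Γ(PrinPart.P f n, U)),
        Ψ (a • m) = algebraMap Γ(X, U) (PP16.P n Γ(S, V) Γ(X, U)) a * Ψ m) ∧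
      (∀ s : Γ(X, U), Ψ (PrinPart.dn f n U s) = PP16.dn n Γ(S, V) Γ(X, U) s) := by
  letI := (f.appLE V U e).hom.toAlgebra
  obtain ⟨θ, hθ₁, hθ₂⟩ := exists_chart f n hU hV e
  let Φ : Γ(PrinPart.P f n, U) ≃+ Γ(PrinPart.nbhd f n, PrinPart.pr1 f n ⁻¹ᵁ U) :=
    AddEquiv.ofBijective (Phi f n U) (Phi_bijective f n U)
  refine ⟨Φ.trans θ.symm.toAddEquiv, fun a m => ?_, fun s => ?_⟩
  · change θ.symm (Phi f n U (a • m)) = _ * θ.symm (Phi f n U m)
    rw [Phi_smul, ← hθ₁, map_mul, RingEquiv.symm_apply_apply]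
  · change θ.symm (Phi f n U (PrinPart.dn f n U s)) = _
    rw [Phi_dn, ← hθ₂, RingEquiv.symm_apply_apply]

end Chart

/-- **S5978** -/
theorem main [QuasiSeparated f]
    (e : Coh.structureModule X ⟶ PrinPart.P f 1)
    (he : ∀ (U : X.Opens) (s : Γ(X, U)),
      e.app U (OmegaSh.strSect X U s) = s • PrinPart.dn f 1 U 1)
    (ι : Omega.sheaf f ⟶ PrinPart.P f 1)
    (hι : ∀ (U : X.Opens) (s : Γ(X, U)),
      ι.app U ((OmegaSh.dOmega f).app U s) = PrinPart.dn f 1 U s - s • PrinPart.dn f 1 U 1) :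
    IsIso (coprod.desc e ι) := by
  haveI : (Omega.sheaf f).IsQuasicoherent :=
    StalkPull.isQuasicoherent_pullbackObj (pullback.diagonal f) _
  haveI : (PrinPart.P f 1).IsQuasicoherent :=
    PPChartC.isQuasicoherent_PMod f 1 _ inferInstance
  apply OmegaSeqE.isIso_desc
  intro z
  obtain ⟨U, V, hU, hV, hzU, -, hUV⟩ := PPChartC.exists_pair f z ⊤ trivial
  refine ⟨U, hU, hzU, ?_⟩
  letI := (f.appLE V U hUV).hom.toAlgebra
  obtain ⟨Ψ, hΨ₁, hΨ₂⟩ := exists_Psi f hU hV hUV 1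
  obtain ⟨ε, hε⟩ := OmegaSecA.exists_sectionsEquiv f hU hV hUV
  have hΨe : ∀ a : Γ(X, U), Ψ (e.app U (OmegaSh.strSect X U a)) =
      algebraMap Γ(X, U) (PP16.P 1 Γ(S, V) Γ(X, U)) a := by
    intro a
    rw [he, hΨ₁, hΨ₂, map_one, mul_one]
  have hΨι : ∀ ω : Γ(Omega.sheaf f, U), Ψ (ι.app U ω) = jmap Γ(S, V) Γ(X, U) (ε ω) := by
    intro ω
    have hω : ω ∈ Submodule.span Γ(X, U) (Set.range ((OmegaSh.dOmega f).app U)) := by
      rw [OmegaUnivA.span_dOmega f hU hV hUV]; trivial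
    induction hω using Submodule.span_induction with
    | mem x hx =>
      obtain ⟨s, rfl⟩ := hx
      rw [hι, map_sub, hΨ₂, hΨ₁, hΨ₂, map_one, mul_one, hε, jmap_D]
    | zero => rw [map_zero, map_zero, map_zero, map_zero]
    | add x y _ _ hx hy => rw [map_add, map_add, hx, hy, map_add, map_add]
    | smul r x _ hx =>
      rw [Scheme.Modules.Hom.app_smul, hΨ₁, hx, map_smul, map_smul, Algebra.smul_def]
  have hbij := PPOneA.bijective Γ(S, V) Γ(X, U)
  constructor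
  · intro a ω h0
    have h1 := congrArg Ψ h0
    rw [map_add, map_zero, hΨι] at h1
    have h2 : Ψ (e.app U a) = algebraMap Γ(X, U) (PP16.P 1 Γ(S, V) Γ(X, U))
        (OmegaSh.fnSect X U a) := hΨe (OmegaSh.fnSect X U a)
    rw [h2] at h1
    have h3 := hbij.injective (a₁ := (OmegaSh.fnSect X U a, ε ω)) (a₂ := (0, 0)) (by
      change _ + _ = algebraMap Γ(X, U) (PP16.P 1 Γ(S, V) Γ(X, U)) 0 + jmap Γ(S, V) Γ(X, U) 0
      rw [h1, map_zero, map_zero, add_zero])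
    have h4 := congrArg Prod.fst h3
    have h5 := congrArg Prod.snd h3
    exact ⟨h4, (LinearEquiv.map_eq_zero_iff ε).mp h5⟩
  · intro t
    obtain ⟨⟨a, w⟩, haw⟩ := hbij.surjective (Ψ t)
    refine ⟨OmegaSh.strSect X U a, ε.symm w, Ψ.injective ?_⟩
    rw [map_add, hΨe, hΨι, LinearEquiv.apply_symm_apply]
    exact haw

end Groth.Agent.Lead.PPOneB
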