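import Groth.Agent.Lead.PPOrdA
import Mathlib

/-!
# Lead: differential operators of order `≤ 1` on `O_X`: `D = v + d`
-/

set_option autoImplicit false
open CategoryTheory CategoryTheory.Limits AlgebraicGeometry Opposite TopologicalSpace TensorProduct
universe u

namespace Groth.Agent.Lead.PPOrdB
open Groth.Agent.Lead.PPChartF Groth.Agent.Lead.PPOrdA

variable {X S : Scheme.{u}} (f : X ⟶ S)

/-- in `P^1`: `d(ab) = a d(b) + b d(a) - ab d(1)` -/
theorem dn_mul (U : X.Opens) (a b : Γ(X, U)) :
    PrinPart.dn f 1 U (a * b) =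
      a • PrinPart.dn f 1 U b + b • PrinPart.dn f 1 U a - (a * b) • PrinPart.dn f 1 U 1 := by
  apply (Phi_bijective f 1 U).injective
  rw [map_sub, map_add, Phi_smul', Phi_smul', Phi_smul', Phi_dn', Phi_dn', Phi_dn', Phi_dn',
    map_mul, map_mul, map_one, mul_one]
  have h := prod_eq_zero f 1 U (Finset.univ : Finset (Fin 2)) (by simp) ![a, b]
  rw [Fin.prod_univ_two] at h
  simp only [Matrix.cons_val_zero, Matrix.cons_val_one] at h
  linear_combination h

/-- in `P^n`: `d(f♯ c) = f♯ c · d(1)` -/
theorem dn_base (n : ℕ) (V : S.Opens) (U : X.Opens) (hU : U ≤ f ⁻¹ᵁ V) (c : Γ(S, V)) :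
    PrinPart.dn f n U (f.appLE V U hU c) = (f.appLE V U hU c) • PrinPart.dn f n U 1 := by
  apply (Phi_bijective f n U).injective
  rw [Phi_smul', Phi_dn', Phi_dn', map_one, mul_one, lU_base]

section Main
variable (G : X.Modules) (D : (Coh.structureModule X).presheaf ⟶ G.presheaf)

/-- `D` on functions -/
noncomputable def Dfun (U : X.Opens) : Γ(X, U) →+ Γ(G, U) :=
  (D.app (op U)).hom.comp (OmegaSh.strSect X U)

theorem Dfun_res {U V : X.Opens} (h : V ≤ U) (a : Γ(X, U)) :
    Dfun G D V (X.presheaf.map (homOfLE h).op a) = G.presheaf.map (homOfLE h).op (Dfun G D U a) :=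
  congr($(D.naturality (homOfLE h).op) (OmegaSh.strSect X U a))

variable (hD : PrinPart.IsDiffOpLE f (Coh.structureModule X) G 1 D)

include hD in
theorem Dfun_mul (U : X.Opens) (a b : Γ(X, U)) :
    Dfun G D U (a * b) = a • Dfun G D U b + b • Dfun G D U a - (a * b) • Dfun G D U 1 := by
  obtain ⟨u, hu⟩ := hD
  have h : ∀ c : Γ(X, U), Dfun G D U c = u.app U (PrinPart.dn f 1 U c) := fun c => hu U _
  rw [h, h, h, h, dn_mul, map_sub, map_add, Scheme.Modules.Hom.app_smul,
    Scheme.Modules.Hom.app_smul, Scheme.Modules.Hom.app_smul]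

include hD in
theorem Dfun_base (V : S.Opens) (U : X.Opens) (hU : U ≤ f ⁻¹ᵁ V) (c : Γ(S, V)) :
    Dfun G D U (f.appLE V U hU c) = (f.appLE V U hU c) • Dfun G D U 1 := by
  obtain ⟨u, hu⟩ := hD
  have h : ∀ c : Γ(X, U), Dfun G D U c = u.app U (PrinPart.dn f 1 U c) := fun c => hu U _
  rw [h, h, dn_base, Scheme.Modules.Hom.app_smul]

/-- the linear part `a ↦ a • D(1)` on functions -/
noncomputable def vfun (U : X.Opens) : Γ(X, U) →+ Γ(G, U) where
  toFun a := a • Dfun G D U 1
  map_zero' := zero_smul _ _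
  map_add' _ _ := add_smul _ _ _

theorem vfun_res {U V : X.Opens} (h : V ≤ U) (a : Γ(X, U)) :
    vfun G D V (X.presheaf.map (homOfLE h).op a) = G.presheaf.map (homOfLE h).op (vfun G D U a) := by
  change (X.presheaf.map (homOfLE h).op a) • Dfun G D V 1 =
    G.presheaf.map (homOfLE h).op (a • Dfun G D U 1)
  have h1 : X.presheaf.map (homOfLE h).op (1 : Γ(X, U)) = 1 := map_one _
  rw [Scheme.Modules.map_smul, ← Dfun_res, h1]

theorem vfun_mul (U : X.Opens) (r a : Γ(X, U)) : vfun G D U (r * a) = r • vfun G D U a :=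
  mul_smul _ _ _

/-- the linear part `a ↦ a • D(1)` -/
noncomputable def vHom : Coh.structureModule X ⟶ G :=
  ⟨PresheafOfModules.homMk
    { app := fun U => AddCommGrpCat.ofHom ((vfun G D U.unop).comp (OmegaSh.fnSect X U.unop))
      naturality := fun U V i => by
        ext a
        have e : V.unop ≤ U.unop := leOfHom i.unop
        have hi : i = (homOfLE e).op := Subsingleton.elim _ _
        subst hi
        exact vfun_res G D e (OmegaSh.fnSect X U.unop a) }
    (fun U r a => vfun_mul G D U.unop r (OmegaSh.fnSect X U.unop a))⟩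

theorem vHom_app (U : X.Opens) (a : Γ(X, U)) :
    (vHom G D).app U (OmegaSh.strSect X U a) = a • Dfun G D U 1 := rfl

/-- the derivation part `a ↦ D(a) - a • D(1)` on functions -/
noncomputable def dfun (U : X.Opens) : Γ(X, U) →+ Γ(G, U) := Dfun G D U - vfun G D U

theorem dfun_apply (U : X.Opens) (a : Γ(X, U)) :
    dfun G D U a = Dfun G D U a - a • Dfun G D U 1 := rfl

include hD in
theorem dfun_mul (U : X.Opens) (a b : Γ(X, U)) :
    dfun G D U (a * b) = a • dfun G D U b + b • dfun G D U a := by
  rw [dfun_apply, dfun_apply, dfun_apply, Dfun_mul f G D hD, smul_sub, smul_sub, ← mul_smul,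
    ← mul_smul, mul_comm b a]
  abel

theorem dfun_res {U V : X.Opens} (h : V ≤ U) (a : Γ(X, U)) :
    dfun G D V (X.presheaf.map (homOfLE h).op a) = G.presheaf.map (homOfLE h).op (dfun G D U a) := by
  change Dfun G D V _ - vfun G D V _ = G.presheaf.map (homOfLE h).op (Dfun G D U a - vfun G D U a)
  rw [map_sub, Dfun_res, vfun_res]

include hD in
theorem dfun_base (V : S.Opens) (c : Γ(S, V)) : dfun G D (f ⁻¹ᵁ V) (f.app V c) = 0 := by
  have h := Dfun_base f G D hD V (f ⁻¹ᵁ V) (le_refl _) c
  rw [Scheme.Hom.appLE_eq_app] at h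
  rw [dfun_apply, h, sub_self]

/-- the derivation part -/
noncomputable def dDer : OmegaSh.Der f G where
  d {U} := dfun G D U.unop
  d_mul {U} a b := dfun_mul f G D hD U.unop a b
  d_map {U V} i a := by
    have e : V.unop ≤ U.unop := leOfHom i.unop
    have hi : i = (homOfLE e).op := Subsingleton.elim _ _
    subst hi
    exact dfun_res G D e a
  d_app {V} c := dfun_base f G D hD V.unop c

theorem dDer_app (U : X.Opens) (a : Γ(X, U)) : (dDer f G D hD).app U a = dfun G D U a := rfl

include hD in
/-- **S5961** -/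
theorem main : ∃! p : (Coh.structureModule X ⟶ G) × OmegaSh.Der f G,
    ∀ (U : X.Opens) (a : Γ(X, U)),
      D.app (op U) (OmegaSh.strSect X U a) = p.1.app U (OmegaSh.strSect X U a) + p.2.app U a := by
  refine ⟨(vHom G D, dDer f G D hD), ?_, ?_⟩
  · intro U a
    change Dfun G D U a = a • Dfun G D U 1 + (Dfun G D U a - a • Dfun G D U 1)
    abel
  · rintro ⟨v', d'⟩ h
    have h1 : ∀ (U : X.Opens), v'.app U (OmegaSh.strSect X U 1) = Dfun G D U 1 := by
      intro U
      have h2 := h U 1
      have h3 : d'.app U 1 = 0 := d'.d_one (op U)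
      rw [h3, add_zero] at h2
      exact h2.symm
    have hv : ∀ (U : X.Opens) (a : Γ(X, U)), v'.app U (OmegaSh.strSect X U a) =
        a • Dfun G D U 1 := by
      intro U a
      have : OmegaSh.strSect X U a = a • OmegaSh.strSect X U 1 := by
        change a = a * 1
        rw [mul_one]
      rw [this, Scheme.Modules.Hom.app_smul, h1]
    have hv' : v' = vHom G D := by
      apply Scheme.Modules.hom_ext
      intro U
      apply AddCommGrpCat.hom_ext
      apply AddMonoidHom.ext
      intro a
      exact hv U a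
    have hd' : d' = dDer f G D hD := by
      apply PresheafOfModules.Derivation.ext
      funext U
      obtain ⟨U⟩ := U
      apply AddMonoidHom.ext
      intro (a : Γ(X, U))
      have h2 := h U a
      change Dfun G D U a = _ + d'.app U a at h2
      rw [hv] at h2
      change d'.app U a = Dfun G D U a - a • Dfun G D U 1
      rw [h2]
      abel
    rw [hv', hd']

end Main

end Groth.Agent.Lead.PPOrdB
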