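import Groth.Agent.Lead.PPIsoA
import Mathlib

/-!
# Lead: differential operators of order `0`
-/

set_option autoImplicit false
open CategoryTheory CategoryTheory.Limits AlgebraicGeometry Opposite TopologicalSpace
universe u

namespace Groth.Agent.Lead.PPZeroB
open Scheme.Modules Groth.Agent.Lead.PPIsoA

variable {X S : Scheme.{u}} (f : X ⟶ S)

theorem app_eq_of_eq {Z : Scheme.{u}} : ∀ (p q : Z ⟶ X) (_ : p = q) (U : X.Opens) (a : Γ(X, U))
    (e : p ⁻¹ᵁ U ≤ q ⁻¹ᵁ U),
    Z.presheaf.map (homOfLE e).op (q.app U a) = p.app U a := by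
  rintro p _ rfl U a e
  change Z.presheaf.map (𝟙 _) _ = _
  rw [CategoryTheory.Functor.map_id]
  rfl

/-- `d^0` is `O_X`-linear -/
theorem dP_zero_smul (F : X.Modules) (U : X.Opens) (a : Γ(X, U)) (t : Γ(F, U)) :
    PrinPart.dP f 0 F U (a • t) = a • PrinPart.dP f 0 F U t := by
  rw [PrinPart.dP_apply, PrinPart.dP_apply, OmegaSh.pullSect_smul, Scheme.Modules.map_smul]
  rw [app_eq_of_eq _ _ (pr1_zero_eq f)]
  rfl

/-- `d^0 : F ⟶ P^0(F)` as a morphism of modules -/
noncomputable def eps (F : X.Modules) : F ⟶ PrinPart.PMod f 0 F :=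
  ⟨PresheafOfModules.homMk (PrinPart.dPHom f 0 F) (fun U a t => dP_zero_smul f F U.unop a t)⟩

theorem eps_app (F : X.Modules) (U : X.Opens) (t : Γ(F, U)) :
    (eps f F).app U t = PrinPart.dP f 0 F U t := rfl

instance (F : X.Modules) : IsIso (eps f F) := by
  rw [Scheme.Modules.Hom.isIso_iff_isIso_app]
  intro U
  rw [ConcreteCategory.isIso_iff_bijective]
  exact dP_zero_bijective f F U

theorem main (F G : X.Modules) (D : F.presheaf ⟶ G.presheaf) :
    PrinPart.IsDiffOpLE f F G 0 D ↔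
      ∀ (U : X.Opens) (a : Γ(X, U)) (t : Γ(F, U)), D.app (op U) (a • t) = a • D.app (op U) t := by
  constructor
  · rintro ⟨u, hu⟩ U a t
    rw [hu, hu, dP_zero_smul, Scheme.Modules.Hom.app_smul]
  · intro h
    let D' : F ⟶ G := ⟨PresheafOfModules.homMk D (fun U a t => h U.unop a t)⟩
    refine ⟨inv (eps f F) ≫ D', fun U t => ?_⟩
    rw [← eps_app]
    change _ = D'.app U ((inv (eps f F)).app U ((eps f F).app U t))
    have : (inv (eps f F)).app U ((eps f F).app U t) = t := by
      rw [← ConcreteCategory.comp_apply, ← Scheme.Modules.Hom.comp_app, IsIso.hom_inv_id]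
      rfl
    rw [this]
    rfl

end Groth.Agent.Lead.PPZeroB
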