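import Mathlib
import Groth.Prelude.Def_NonAbH2
import Groth.Agent.Helper9.TorsorProps
import Groth.Agent.S0412
import Groth.Agent.S0536

set_option autoImplicit false
universe u
open CategoryTheory CategoryTheory.Limits AlgebraicGeometry PowerSeries

namespace Groth.Agent.Lead.PSTors

/-- étale-local sections of a smooth surjective morphism to an affine scheme -/
theorem exists_etale_ff_section (R : Type u) [CommRing R] {Y : Scheme.{u}}
    (f : Y ⟶ Spec (CommRingCat.of R)) [Smooth f] [Surjective f] :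
    ∃ (R' : Type u) (_ : CommRing R') (_ : Algebra R R'), Algebra.Etale R R' ∧
      Module.FaithfullyFlat R R' ∧
      ∃ s : Spec (CommRingCat.of R') ⟶ Y,
        s ≫ f = Spec.map (CommRingCat.ofHom (algebraMap R R')) := by
  classical
  have key : ∀ s : Spec (CommRingCat.of R), ∃ (U : Scheme.{u})
      (g : U ⟶ Spec (CommRingCat.of R)) (h : U ⟶ Y),
      IsAffine U ∧ Etale g ∧ s ∈ Set.range g.base ∧ h ≫ f = g := by
    intro s
    obtain ⟨S', g, s', hg, hgs, h, hh⟩ :=
      Groth.Agent.S0412.result f s (Surjective.surj (f := f) s)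
    obtain ⟨U, hU, hxU⟩ : ∃ U : S'.Opens, IsAffineOpen U ∧ s' ∈ U := by
      obtain ⟨U, hU, hxU, -⟩ := TopologicalSpace.Opens.isBasis_iff_nbhd.mp
        (Scheme.isBasis_affineOpens S') (U := ⊤) (x := s') trivial
      exact ⟨U, hU, hxU⟩
    refine ⟨U, U.ι ≫ g, U.ι ≫ h, hU, inferInstance, ⟨⟨s', hxU⟩, ?_⟩,
      by rw [Category.assoc, hh]⟩
    exact hgs
  choose U g h hU hg hs hh using key
  haveI := hg
  have hopen : ∀ s, IsOpen (Set.range (g s).base) := fun s => (g s).isOpenMap.isOpen_range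
  obtain ⟨t, ht⟩ := isCompact_univ.elim_finite_subcover (fun s => Set.range (g s).base) hopen
    (fun s _ => Set.mem_iUnion.mpr ⟨s, hs s⟩)
  haveI : ∀ j : ↥t, IsAffine (U j.1) := fun j => hU j.1
  let W : Scheme.{u} := ∐ (fun j : ↥t => U j.1)
  let gW : W ⟶ Spec (CommRingCat.of R) := Sigma.desc (fun j : ↥t => g j.1)
  let hW : W ⟶ Y := Sigma.desc (fun j : ↥t => h j.1)
  have hhW : hW ≫ f = gW := by
    apply Sigma.hom_ext
    intro j
    rw [Sigma.ι_desc_assoc, Sigma.ι_desc, hh]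
  haveI : Etale gW := IsZariskiLocalAtSource.sigmaDesc (P := @Etale) (fun j : ↥t => hg j.1)
  haveI : IsAffine W := inferInstance
  have hsurj : Function.Surjective gW.base := by
    intro s
    have := ht (Set.mem_univ s)
    simp only [Set.mem_iUnion] at this
    obtain ⟨j, hj, u, hu⟩ := this
    refine ⟨(Sigma.ι (fun j : ↥t => U j.1) ⟨j, hj⟩).base u, ?_⟩
    have h1 : (Sigma.ι (fun j : ↥t => U j.1) ⟨j, hj⟩ ≫ gW).base u = s := by
      rw [Sigma.ι_desc]; exact hu
    exact h1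
  let ψ : CommRingCat.of R ⟶ Γ(W, ⊤) := (Scheme.ΓSpecIso (CommRingCat.of R)).inv ≫ gW.appTop
  have hp : W.isoSpec.inv ≫ gW = Spec.map ψ := by
    rw [Spec.map_comp, ← Scheme.isoSpec_Spec_inv, Scheme.isoSpec_inv_naturality]
  have het : Etale (Spec.map ψ) := by rw [← hp]; infer_instance
  have hψ : RingHom.Etale ψ.hom := (HasRingHomProperty.Spec_iff (P := @Etale)).mp het
  letI : Algebra R Γ(W, ⊤) := ψ.hom.toAlgebra
  haveI hE : Algebra.Etale R Γ(W, ⊤) := RingHom.etale_algebraMap.mp hψ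
  have hsurj2 : Function.Surjective (PrimeSpectrum.comap (algebraMap R Γ(W, ⊤))) := by
    intro s
    obtain ⟨w, hw⟩ := hsurj s
    refine ⟨W.isoSpec.hom.base w, ?_⟩
    have h2 : (W.isoSpec.hom ≫ Spec.map ψ).base w = s := by
      rw [← hp, Iso.hom_inv_id_assoc]; exact hw
    exact h2
  haveI : Module.Flat R Γ(W, ⊤) := inferInstance
  refine ⟨Γ(W, ⊤), inferInstance, inferInstance, hE,
    Module.FaithfullyFlat.of_comap_surjective hsurj2, W.isoSpec.inv ≫ hW, ?_⟩
  rw [Category.assoc, hhW, hp]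
  rfl

theorem exists_section_powerSeries (R : Type u) [CommRing R]
    (P : Over (Spec (CommRingCat.of R⟦X⟧))) [IsAffine P.left] [Smooth P.hom] [Surjective P.hom] :
    ∃ (R' : Type u) (_ : CommRing R') (_ : Algebra R R'),
      Algebra.Etale R R' ∧ Module.FaithfullyFlat R R' ∧
      NonAbH1.HasSectionOver P
        (Spec.map (CommRingCat.ofHom (PowerSeries.map (algebraMap R R')))) := by
  let c : R⟦X⟧ →+* R := PowerSeries.constantCoeff
  let i : Spec (CommRingCat.of R) ⟶ Spec (CommRingCat.of R⟦X⟧) := Spec.map (CommRingCat.ofHom c)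
  obtain ⟨R', _, _, hE, hFF, s₀, hs₀⟩ := exists_etale_ff_section R (pullback.snd P.hom i)
  refine ⟨R', inferInstance, inferInstance, hE, hFF, ?_⟩
  let σ₀ : Spec (CommRingCat.of R') ⟶ P.left := s₀ ≫ pullback.fst P.hom i
  have hσ₀ : σ₀ ≫ P.hom = Spec.map (CommRingCat.ofHom ((algebraMap R R').comp c)) := by
    change (s₀ ≫ pullback.fst P.hom i) ≫ P.hom = _
    rw [Category.assoc, pullback.condition, ← Category.assoc, hs₀, ← Spec.map_comp]
    rfl
  let ψ : CommRingCat.of R⟦X⟧ ⟶ Γ(P.left, ⊤) := (Scheme.ΓSpecIso _).inv ≫ P.hom.appTop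
  have hp : P.left.isoSpec.inv ≫ P.hom = Spec.map ψ := by
    rw [Spec.map_comp, ← Scheme.isoSpec_Spec_inv, Scheme.isoSpec_inv_naturality]
  have hsm : Smooth (Spec.map ψ) := by rw [← hp]; infer_instance
  have hψ : RingHom.Smooth ψ.hom := (HasRingHomProperty.Spec_iff (P := @Smooth)).mp hsm
  letI : Algebra R⟦X⟧ Γ(P.left, ⊤) := ψ.hom.toAlgebra
  haveI : Algebra.Smooth R⟦X⟧ Γ(P.left, ⊤) := hψ
  let ω : Γ(P.left, ⊤) ⟶ CommRingCat.of R' := Spec.preimage (σ₀ ≫ P.left.isoSpec.hom)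
  have hω : Spec.map ω = σ₀ ≫ P.left.isoSpec.hom := Spec.map_preimage _
  have hψω : ψ ≫ ω = CommRingCat.ofHom ((algebraMap R R').comp c) := by
    apply Spec.map_injective
    rw [Spec.map_comp, hω, ← hp, Category.assoc, ← Category.assoc P.left.isoSpec.hom,
      Iso.hom_inv_id, Category.id_comp, hσ₀]
  let I : Ideal R'⟦X⟧ := Ideal.span {(PowerSeries.X : R'⟦X⟧)}
  let σr : Γ(P.left, ⊤) →+* R'⟦X⟧ ⧸ I :=
    ((Ideal.Quotient.mk I).comp (PowerSeries.C (R := R'))).comp ω.hom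
  have hcomm : ∀ a : R⟦X⟧,
      σr (algebraMap R⟦X⟧ Γ(P.left, ⊤) a) = algebraMap R⟦X⟧ (R'⟦X⟧ ⧸ I) a := by
    intro a
    have h1 : ω.hom (ψ.hom a) = algebraMap R R' (c a) := by
      have := congrArg (fun f => f.hom a) hψω
      exact this
    have hc : PowerSeries.constantCoeff (PowerSeries.map (algebraMap R R') a) =
        algebraMap R R' (PowerSeries.constantCoeff a) := by
      rw [← PowerSeries.coeff_zero_eq_constantCoeff_apply, PowerSeries.coeff_map,
        PowerSeries.coeff_zero_eq_constantCoeff_apply]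
    change Ideal.Quotient.mk I (PowerSeries.C (ω.hom (ψ.hom a))) =
      Ideal.Quotient.mk I (PowerSeries.map (algebraMap R R') a)
    rw [h1, Ideal.Quotient.eq, Ideal.mem_span_singleton, PowerSeries.X_dvd_iff, map_sub,
      PowerSeries.constantCoeff_C, hc]
    exact sub_self _
  let σ : Γ(P.left, ⊤) →ₐ[R⟦X⟧] R'⟦X⟧ ⧸ I := { σr with commutes' := hcomm }
  obtain ⟨τ, -⟩ := Groth.Agent.S0536.result R⟦X⟧ Γ(P.left, ⊤) R'⟦X⟧ I σ
  refine ⟨Spec.map (CommRingCat.ofHom τ.toRingHom) ≫ P.left.isoSpec.inv, ?_⟩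
  rw [Category.assoc, hp, ← Spec.map_comp]
  exact congrArg Spec.map (CommRingCat.hom_ext (RingHom.ext fun a => τ.commutes a))

end Groth.Agent.Lead.PSTors
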