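import Mathlib
import Groth.Prelude.Def_Hens2
import Groth.Agent.Lead.HenselianPair

universe u
namespace Groth.Agent.Lead

theorem isPairHenselization_radical_iff (A : Type u) [CommRing A] (I : Ideal A)
    (B : Type u) [CommRing B] [Algebra A B] :
    Hens2.IsPairHenselization A I.radical B ↔ Hens2.IsPairHenselization A I B := by
  have hrad : ∀ {C : Type u} [CommRing C] (f : A →+* C),
      (I.radical.map f).radical = (I.map f).radical := by
    intro C _ f
    apply le_antisymm
    · apply Ideal.radical_le_radical_iff.mpr
      rw [Ideal.map_le_iff_le_comap]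
      intro x hx
      obtain ⟨n, hn⟩ := hx
      exact ⟨n, by rw [← map_pow]; exact Ideal.mem_map_of_mem f hn⟩
    · exact Ideal.radical_mono (Ideal.map_mono Ideal.le_radical)
  have h1 : HenselianRing B (I.radical.map (algebraMap A B)) ↔
      HenselianRing B (I.map (algebraMap A B)) := by
    rw [← henselianRing_radical_iff, hrad, henselianRing_radical_iff]
  constructor
  · rintro ⟨hB, hU⟩
    refine ⟨h1.mp hB, ?_⟩
    intro C _ J f hJ hIJ
    have hJ' : HenselianRing C J.radical := (henselianRing_radical_iff J).mpr hJ
    refine hU C J.radical f hJ' ?_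
    calc I.radical.map f ≤ (I.radical.map f).radical := Ideal.le_radical
      _ = (I.map f).radical := hrad f
      _ ≤ J.radical := Ideal.radical_mono hIJ
  · rintro ⟨hB, hU⟩
    refine ⟨h1.mpr hB, ?_⟩
    intro C _ J f hJ hIJ
    exact hU C J f hJ ((Ideal.map_mono Ideal.le_radical).trans hIJ)

end Groth.Agent.Lead
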