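import Groth.Agent.Helper7.Perf2
import Groth.Agent.Helper4.SN417
import Groth.Agent.Helper4.SN413
import Groth.Agent.Helper1.SZ3
import Groth.Agent.Helper1.LN8
import Groth.Agent.Helper3.FrameGlue
import Groth.Agent.Lead.LocLift

/-!
# Sections of invertible modules under a perfection, part A: general tools
-/

set_option autoImplicit false
open CategoryTheory CategoryTheory.Limits AlgebraicGeometry Opposite TopologicalSpace
universe u

namespace Groth.Agent.Lead.PerfAmp
open Scheme.Modules Groth.Agent.Helper4 Groth.Agent.Helper4.TwistExt Groth.Agent.Helper4.GenLoc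
  Groth.Agent.Helper4.TwistLocal FrobSch Groth.Agent.Helper7.Perf

section Glue
variable {X : Scheme.{u}}

/-- gluing sections of a module over an open cover -/
theorem exists_glue_sections (M : X.Modules) {ι : Type*} (T : ι → X.Opens)
    (hcov : (⊤ : X.Opens) ≤ ⨆ i, T i) (σ : ∀ i, Γ(M, T i))
    (hag : ∀ i j, M.presheaf.map (homOfLE (inf_le_left : T i ⊓ T j ≤ T i)).op (σ i) =
      M.presheaf.map (homOfLE (inf_le_right : T i ⊓ T j ≤ T j)).op (σ j)) :
    ∃ m : Γ(M, ⊤), ∀ i, M.presheaf.map (homOfLE (le_top : T i ≤ ⊤)).op m = σ i := by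
  have hcompat : TopCat.Presheaf.IsCompatible M.presheaf T σ := fun i j => hag i j
  obtain ⟨m, hm, -⟩ := TopCat.Sheaf.existsUnique_gluing'
    (⟨M.presheaf, M.isSheaf⟩ : TopCat.Sheaf Ab X) T ⊤ (fun i => homOfLE le_top) hcov σ hcompat
  exact ⟨m, hm⟩

theorem map_self (M : X.Modules) {T : X.Opens} (h : T ≤ T) (m : Γ(M, T)) :
    M.presheaf.map (homOfLE h).op m = m := by
  have : (homOfLE h).op = 𝟙 (op T) := rfl
  rw [this, M.presheaf.map_id]
  rfl

/-- coordinates with respect to a frame -/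
theorem exists_coord {L : X.Modules} {T : X.Opens} {e : Γ(L, T)} (he : IsFrame L T e)
    (m : Γ(L, T)) : ∃ r : Γ(X, T), m = r • e := by
  obtain ⟨r, hr⟩ := (he T le_rfl).1 m
  rw [map_self] at hr
  exact ⟨r, hr⟩

theorem coord_cancel {L : X.Modules} {T : X.Opens} {e : Γ(L, T)} (he : IsFrame L T e)
    (a b : Γ(X, T)) (h : a • e = b • e) : a = b := by
  have h1 : (a - b) • e = 0 := by rw [sub_smul, h, sub_self]
  have h2 := (he T le_rfl).2 (a - b)
  rw [map_self] at h2
  exact sub_eq_zero.mp (h2 h1)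

end Glue

section CharP

theorem sub_pow_prime_pow {R : Type*} [CommRing R] (p : ℕ) [Fact p.Prime] (hp : (p : R) = 0)
    (a c : R) (k : ℕ) : (a - c) ^ p ^ k = a ^ p ^ k - c ^ p ^ k := by
  rcases subsingleton_or_nontrivial R with hs | hn
  · exact Subsingleton.elim _ _
  · haveI : CharP R p := (CharP.charP_iff_prime_eq_zero (Fact.out : p.Prime)).2 hp
    exact sub_pow_char_pow a c k

theorem exists_pow_prime_pow_eq_zero {R : Type*} [CommRing R] (p : ℕ) [Fact p.Prime] (r : R)
    (h : IsNilpotent r) : ∃ k : ℕ, ∀ k', k ≤ k' → r ^ p ^ k' = 0 := by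
  obtain ⟨M, hM⟩ := h
  refine ⟨M, fun k' hk' => ?_⟩
  have h1 : M ≤ p ^ k' := (hk'.trans (Nat.lt_pow_self (Fact.out : p.Prime).one_lt).le)
  exact pow_eq_zero_of_le h1 hM

end CharP

section Nil
variable (p : ℕ) [Fact p.Prime] {XP X : Scheme.{u}} [IsCharP XP p] [IsCharP X p] (π : XP ⟶ X)
  (hπ : IsPerfection π p)

theorem app_res (π : XP ⟶ X) {W V : X.Opens} (h : V ≤ W) (r : Γ(X, W)) :
    π.app V (X.presheaf.map (homOfLE h).op r) =
      XP.presheaf.map (homOfLE (π.preimage_mono h)).op (π.app W r) := by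
  have := π.naturality (homOfLE h).op
  exact congrArg (fun φ => φ.hom r) this

include hπ in
/-- a function on a quasi-compact open killed by the perfection map is nilpotent -/
theorem isNilpotent_of_app_eq_zero_of_isCompact {W : X.Opens} (hW : IsCompact (W : Set X))
    (r : Γ(X, W)) (h : π.app W r = 0) : IsNilpotent r := by
  obtain ⟨I, hI, eI⟩ := isCompact_iff_finite_and_eq_biUnion_affineOpens.mp hW
  haveI : Finite I := hI.to_subtype
  have hIW : ∀ i : I, (i.1 : X.Opens) ≤ W := by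
    intro i
    rw [eI]
    exact le_iSup₂_of_le i.1 i.2 le_rfl
  have hnil : ∀ i : I, IsNilpotent (X.presheaf.map (homOfLE (hIW i)).op r) := by
    intro i
    apply IsPerfection.isNilpotent_of_app_eq_zero p π hπ i.1.2
    rw [app_res, h, map_zero]
  choose M hM using hnil
  obtain ⟨K, hK⟩ : ∃ K : ℕ, ∀ i, M i ≤ K := by
    cases nonempty_fintype I
    exact ⟨Finset.univ.sup M, fun i => Finset.le_sup (Finset.mem_univ i)⟩
  refine ⟨K, ?_⟩
  refine eq_of_cover (Coh.structureModule X) W (show Γ(Coh.structureModule X, W) from r ^ K)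
    (show Γ(Coh.structureModule X, W) from 0) ?_
  intro y hy
  have hy' : y ∈ (⨆ i : I, (i.1 : X.Opens)) := by
    have : y ∈ (⨆ i ∈ I, (i : X.Opens) : X.Opens) := by rw [← eI]; exact hy
    simp only [Opens.mem_iSup] at this ⊢
    obtain ⟨i, hi, hyi⟩ := this
    exact ⟨⟨i, hi⟩, hyi⟩
  obtain ⟨i, hyi⟩ := Opens.mem_iSup.mp hy'
  refine ⟨i.1, hIW i, hyi, ?_⟩
  change X.presheaf.map (homOfLE (hIW i)).op (r ^ K) = X.presheaf.map (homOfLE (hIW i)).op 0
  rw [map_pow, map_zero]
  exact pow_eq_zero_of_le (hK i) (hM i)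

end Nil

end Groth.Agent.Lead.PerfAmp
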