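import Groth.Agent.Lead.PerfAmpA

/-!
# Sections of invertible modules under a perfection, part B: `p`-power descent of sections
-/

set_option autoImplicit false
open CategoryTheory CategoryTheory.Limits AlgebraicGeometry Opposite TopologicalSpace
universe u

namespace Groth.Agent.Lead.PerfAmp
open Scheme.Modules Groth.Agent.Helper4 Groth.Agent.Helper4.TwistExt Groth.Agent.Helper4.GenLoc
  Groth.Agent.Helper4.TwistLocal FrobSch Groth.Agent.Helper7.Perf Groth.Agent.Helper4.PullTensor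
  Groth.Agent.Helper1.SZ

section Rel
variable {XP X : Scheme.{u}} (π : XP ⟶ X) (N : X.Modules)

/-- the pullback of a section, as a section of the pullback module -/
noncomputable def pe (T : X.Opens) (e : Γ(N, T)) : Γ((Scheme.Modules.pullback π).obj N, π ⁻¹ᵁ T) :=
  (η π N).app T e

theorem isFrame_pe {T : X.Opens} {e : Γ(N, T)} (he : IsFrame N T e) :
    IsFrame ((Scheme.Modules.pullback π).obj N) (π ⁻¹ᵁ T) (pe π N T e) :=
  isFrame_pullback π N T e he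

theorem pe_res {T W : X.Opens} (h : W ≤ T) (e : Γ(N, T)) :
    pe π N W (N.presheaf.map (homOfLE h).op e) =
      ((Scheme.Modules.pullback π).obj N).presheaf.map (homOfLE (π.preimage_mono h)).op
        (pe π N T e) :=
  η_app_res π N h e

theorem pe_smul (T : X.Opens) (r : Γ(X, T)) (e : Γ(N, T)) :
    pe π N T (r • e) = π.app T r • pe π N T e :=
  η_app_smul π N T r e

/-- comparison of the coordinates of a section of `π^* N` in two pulled back frames -/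
theorem coord_rel (s'' : Coh.structureModule XP ⟶ (Scheme.Modules.pullback π).obj N)
    {T₁ T₂ W : X.Opens} (h₁ : W ≤ T₁) (h₂ : W ≤ T₂) (e₁ : Γ(N, T₁)) (e₂ : Γ(N, T₂))
    (he₁ : IsFrame N T₁ e₁) (u : Γ(X, W))
    (hu : N.presheaf.map (homOfLE h₂).op e₂ = u • N.presheaf.map (homOfLE h₁).op e₁)
    (a₁ : Γ(XP, π ⁻¹ᵁ T₁)) (a₂ : Γ(XP, π ⁻¹ᵁ T₂))
    (ha₁ : SecTwist.val s'' (π ⁻¹ᵁ T₁) = a₁ • pe π N T₁ e₁)
    (ha₂ : SecTwist.val s'' (π ⁻¹ᵁ T₂) = a₂ • pe π N T₂ e₂) :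
    XP.presheaf.map (homOfLE (π.preimage_mono h₁)).op a₁ =
      XP.presheaf.map (homOfLE (π.preimage_mono h₂)).op a₂ * π.app W u := by
  have hfr : IsFrame ((Scheme.Modules.pullback π).obj N) (π ⁻¹ᵁ W)
      (pe π N W (N.presheaf.map (homOfLE h₁).op e₁)) :=
    isFrame_pe π N (Groth.Agent.Helper1.LN.isFrame_res he₁ h₁)
  apply coord_cancel hfr
  have e1 : ((Scheme.Modules.pullback π).obj N).presheaf.map (homOfLE (π.preimage_mono h₁)).op
      (SecTwist.val s'' (π ⁻¹ᵁ T₁)) = SecTwist.val s'' (π ⁻¹ᵁ W) := val_res s'' _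
  have e2 : ((Scheme.Modules.pullback π).obj N).presheaf.map (homOfLE (π.preimage_mono h₂)).op
      (SecTwist.val s'' (π ⁻¹ᵁ T₂)) = SecTwist.val s'' (π ⁻¹ᵁ W) := val_res s'' _
  rw [ha₁, Scheme.Modules.map_smul, ← pe_res π N h₁ e₁] at e1
  rw [ha₂, Scheme.Modules.map_smul, ← pe_res π N h₂ e₂, hu, pe_smul, smul_smul] at e2
  rw [e1, e2]

end Rel

section Alg

theorem pow_eq_of_sub_pow_eq_zero {R : Type*} [CommRing R] (p : ℕ) [Fact p.Prime]
    (hp : (p : R) = 0) (a c u : R) (n k : ℕ) (h : (a - c * u ^ p ^ n) ^ p ^ k = 0) :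
    a ^ p ^ k = c ^ p ^ k * u ^ p ^ (n + k) := by
  rw [sub_pow_prime_pow p hp, sub_eq_zero] at h
  rw [h, mul_pow, ← pow_mul, ← pow_add]

end Alg

section Main
variable (p : ℕ) [Fact p.Prime] {XP X : Scheme.{u}} [IsCharP XP p] [IsCharP X p] (π : XP ⟶ X)
  (hπ : IsPerfection π p)

include hπ in
/-- **`p`-power descent of sections**: a global section of `π^* N` has, up to a `p`-power, the
same non-vanishing locus as the pullback of a global section of a `p`-power of `N` -/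
theorem exists_section_pow [CompactSpace X] [QuasiSeparatedSpace X] {N : X.Modules}
    (hN : PicF.IsInvertible N)
    (s'' : Coh.structureModule XP ⟶ (Scheme.Modules.pullback π).obj N) :
    ∃ (m : ℕ) (s : Coh.structureModule X ⟶ CohB1.tensorPow N (p ^ m)),
      π ⁻¹ᵁ (CohB1.genLocus _ s) = CohB1.genLocus _ s'' := by
  classical
  choose T e b hxT hTaff hfr _hval _hbo using
    exists_chart N hN (0 : Coh.structureModule X ⟶ N)
  obtain ⟨S, hS⟩ := CompactSpace.elim_nhds_subcover (fun x => (T x : Set X))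
    (fun x => (T x).isOpen.mem_nhds (hxT x))
  have hfr' : ∀ x, IsFrame ((Scheme.Modules.pullback π).obj N) (π ⁻¹ᵁ T x) (pe π N (T x) (e x)) :=
    fun x => isFrame_pe π N (hfr x)
  have hcoord : ∀ x, ∃ h' : Γ(XP, π ⁻¹ᵁ T x),
      SecTwist.val s'' (π ⁻¹ᵁ T x) = h' • pe π N (T x) (e x) := fun x => exists_coord (hfr' x) _
  choose h' hh' using hcoord
  have hpow : ∀ x, ∃ (n : ℕ) (r : Γ(X, T x)), π.app (T x) r = h' x ^ p ^ n :=
    fun x => IsPerfection.exists_pow_eq p π hπ (hTaff x) (h' x)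
  choose n r hr using hpow
  obtain ⟨n₀, hn₀⟩ : ∃ n₀, n₀ = S.sup n := ⟨_, rfl⟩
  obtain ⟨r₁, hr₁def⟩ : ∃ r₁ : ∀ x, Γ(X, T x), r₁ = fun x => r x ^ p ^ (n₀ - n x) := ⟨_, rfl⟩
  have hr₁ : ∀ x ∈ S, π.app (T x) (r₁ x) = h' x ^ p ^ n₀ := by
    intro x hx
    have hle : n x ≤ n₀ := hn₀ ▸ Finset.le_sup hx
    rw [hr₁def, map_pow, hr, ← pow_mul, ← pow_add, Nat.add_sub_cancel' hle]
  -- overlaps
  have hunit : ∀ x y, ∃ u : Γ(X, T x ⊓ T y), IsUnit u ∧
      N.presheaf.map (homOfLE (inf_le_right : T x ⊓ T y ≤ T y)).op (e y) =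
        u • N.presheaf.map (homOfLE (inf_le_left : T x ⊓ T y ≤ T x)).op (e x) := fun x y =>
    Groth.Agent.Helper3.FrameFin.exists_unit_of_frames _ _
      (Groth.Agent.Helper1.LN.isFrame_res (hfr x) inf_le_left)
      (Groth.Agent.Helper1.LN.isFrame_res (hfr y) inf_le_right)
  choose u _hu_unit hu using hunit
  obtain ⟨d, hddef⟩ : ∃ d : ∀ x y, Γ(X, T x ⊓ T y), d = fun x y =>
      X.presheaf.map (homOfLE (inf_le_left : T x ⊓ T y ≤ T x)).op (r₁ x) -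
        X.presheaf.map (homOfLE (inf_le_right : T x ⊓ T y ≤ T y)).op (r₁ y) * u x y ^ p ^ n₀ :=
    ⟨_, rfl⟩
  have hd : ∀ x ∈ S, ∀ y ∈ S, π.app (T x ⊓ T y) (d x y) = 0 := by
    intro x hx y hy
    have hrel := coord_rel π N s'' (inf_le_left : T x ⊓ T y ≤ T x) inf_le_right (e x) (e y)
      (hfr x) (u x y) (hu x y) (h' x) (h' y) (hh' x) (hh' y)
    rw [hddef, map_sub, map_mul, map_pow, app_res, app_res, hr₁ x hx, hr₁ y hy, map_pow, map_pow,
      hrel, mul_pow, sub_self]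
  have hWc : ∀ x y, IsCompact ((T x ⊓ T y : X.Opens) : Set X) := fun x y =>
    QuasiSeparatedSpace.inter_isCompact _ _ (T x).isOpen (hTaff x).isCompact (T y).isOpen
      (hTaff y).isCompact
  have hk : ∀ x y, ∃ k : ℕ, x ∈ S → y ∈ S → ∀ k', k ≤ k' → d x y ^ p ^ k' = 0 := by
    intro x y
    by_cases hxy : x ∈ S ∧ y ∈ S
    · obtain ⟨k, hk⟩ := exists_pow_prime_pow_eq_zero p (d x y)
        (isNilpotent_of_app_eq_zero_of_isCompact p π hπ (hWc x y) _ (hd x hxy.1 y hxy.2))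
      exact ⟨k, fun _ _ => hk⟩
    · exact ⟨0, fun hx hy => absurd ⟨hx, hy⟩ hxy⟩
  choose k hk using hk
  obtain ⟨k₀, hk₀⟩ : ∃ k₀, k₀ = (S ×ˢ S).sup (fun q => k q.1 q.2) := ⟨_, rfl⟩
  have hkle : ∀ x ∈ S, ∀ y ∈ S, k x y ≤ k₀ := by
    intro x hx y hy
    rw [hk₀]
    exact Finset.le_sup (f := fun q : X × X => k q.1 q.2) (Finset.mk_mem_product hx hy)
  -- the local sections
  obtain ⟨σ, hσdef⟩ : ∃ σ : ∀ x, Γ(CohB1.tensorPow N (p ^ (n₀ + k₀)), T x), σ = fun x =>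
      r₁ x ^ p ^ k₀ • ePow N (T x) (e x) (p ^ (n₀ + k₀)) := ⟨_, rfl⟩
  have hag : ∀ i j : S, (CohB1.tensorPow N (p ^ (n₀ + k₀))).presheaf.map
        (homOfLE (inf_le_left : T i.1 ⊓ T j.1 ≤ T i.1)).op (σ i.1) =
      (CohB1.tensorPow N (p ^ (n₀ + k₀))).presheaf.map
        (homOfLE (inf_le_right : T i.1 ⊓ T j.1 ≤ T j.1)).op (σ j.1) := by
    rintro ⟨x, hx⟩ ⟨y, hy⟩
    have hzero := hk x y hx hy k₀ (hkle x hx y hy)
    rw [hddef] at hzero
    have hp0 : (p : Γ(X, T x ⊓ T y)) = 0 := natCast_eq_zero_app X p _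
    have hpow := pow_eq_of_sub_pow_eq_zero p hp0 _ _ _ n₀ k₀ hzero
    rw [hσdef]
    simp only
    rw [Scheme.Modules.map_smul, Scheme.Modules.map_smul, ePow_map, ePow_map, hu x y, ePow_smul,
      smul_smul, map_pow, map_pow, hpow]
  have hcov : (⊤ : X.Opens) ≤ ⨆ i : S, T i.1 := by
    intro z _
    have hz : z ∈ ⋃ x ∈ S, (T x : Set X) := by rw [hS]; trivial
    simp only [Set.mem_iUnion] at hz
    obtain ⟨x, hx, hzx⟩ := hz
    exact Opens.mem_iSup.mpr ⟨⟨x, hx⟩, hzx⟩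
  obtain ⟨σ₀, hσ₀⟩ := exists_glue_sections (CohB1.tensorPow N (p ^ (n₀ + k₀)))
    (fun i : S => T i.1) hcov (fun i => σ i.1) hag
  refine ⟨n₀ + k₀, Groth.Agent.Lead.LocLift.homOfTop _ σ₀, ?_⟩
  have hval : ∀ x (hx : x ∈ S), SecTwist.val (Groth.Agent.Lead.LocLift.homOfTop _ σ₀) (T x) =
      r₁ x ^ p ^ k₀ • ePow N (T x) (e x) (p ^ (n₀ + k₀)) := by
    intro x hx
    rw [← val_res _ (le_top : T x ≤ ⊤)]
    have h1 : SecTwist.val (Groth.Agent.Lead.LocLift.homOfTop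
        (CohB1.tensorPow N (p ^ (n₀ + k₀))) σ₀) ⊤ = σ₀ :=
      Groth.Agent.Lead.LocLift.homOfTop_app_one _ σ₀
    rw [h1, hσ₀ ⟨x, hx⟩, hσdef]
  have hbo : ∀ x (hx : x ∈ S), CohB1.genLocus _ (Groth.Agent.Lead.LocLift.homOfTop _ σ₀) ⊓ T x =
      X.basicOpen (r₁ x ^ p ^ k₀) := fun x hx =>
    Groth.Agent.Helper4.SN413.genLocus_inf_eq_basicOpen_of_isFrame _
      (Groth.Agent.Helper4.SN417.isFrame_ePow_of_isFrame (hfr x) _) _ (hval x hx)
  have hbo' : ∀ x, CohB1.genLocus _ s'' ⊓ π ⁻¹ᵁ T x = XP.basicOpen (h' x) := fun x =>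
    Groth.Agent.Helper4.SN413.genLocus_inf_eq_basicOpen_of_isFrame s'' (hfr' x) _ (hh' x)
  have hpre : ∀ x (hx : x ∈ S), π ⁻¹ᵁ X.basicOpen (r₁ x ^ p ^ k₀) = XP.basicOpen (h' x) := by
    intro x hx
    rw [Scheme.preimage_basicOpen, map_pow, hr₁ x hx, ← pow_mul]
    exact Scheme.basicOpen_pow _ _ (Nat.mul_pos (pow_pos (Fact.out : p.Prime).pos _)
      (pow_pos (Fact.out : p.Prime).pos _))
  ext z
  have hz : π z ∈ ⋃ x ∈ S, (T x : Set X) := by rw [hS]; trivial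
  simp only [Set.mem_iUnion] at hz
  obtain ⟨x, hx, hzx⟩ := hz
  constructor
  · intro hzg
    have h1 : π z ∈ CohB1.genLocus _ (Groth.Agent.Lead.LocLift.homOfTop _ σ₀) ⊓ T x := ⟨hzg, hzx⟩
    rw [hbo x hx] at h1
    have h2 : z ∈ π ⁻¹ᵁ X.basicOpen (r₁ x ^ p ^ k₀) := h1
    rw [hpre x hx, ← hbo' x] at h2
    exact h2.1
  · intro hzg
    have h1 : z ∈ CohB1.genLocus _ s'' ⊓ π ⁻¹ᵁ T x := ⟨hzg, hzx⟩
    rw [hbo' x, ← hpre x hx] at h1
    have h2 : π z ∈ X.basicOpen (r₁ x ^ p ^ k₀) := h1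
    rw [← hbo x hx] at h2
    exact h2.1

end Main

end Groth.Agent.Lead.PerfAmp
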