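import Groth.Agent.Lead.PerfAmpB
import Groth.Agent.Helper4.PullAmple
import Groth.Agent.S0593

/-!
# Ampleness and perfection (S14927)
-/

set_option autoImplicit false
open CategoryTheory CategoryTheory.Limits AlgebraicGeometry Opposite TopologicalSpace
universe u

namespace Groth.Agent.Lead.PerfAmp
open Scheme.Modules Groth.Agent.Helper4 Groth.Agent.Helper4.TwistExt Groth.Agent.Helper4.GenLoc
  Groth.Agent.Helper4.TwistLocal FrobSch Groth.Agent.Helper7.Perf Groth.Agent.Helper4.PullTensor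
  Groth.Agent.Helper4.TensorInv Groth.Agent.Helper4.TensorAssoc Groth.Agent.Helper4.AmpleIso

theorem isAmple_iff_pullback (p : ℕ) [Fact p.Prime] {X XP : Scheme.{u}} [IsCharP X p]
    [IsCharP XP p] [CompactSpace X] [QuasiSeparatedSpace X] (π : XP ⟶ X)
    (hπ : IsPerfection π p) (L : X.Modules) (hL : PicF.IsInvertible L) :
    CohB1.IsAmple L ↔ CohB1.IsAmple ((Scheme.Modules.pullback π).obj L) := by
  haveI : IsAffineHom π := IsPerfection.isAffineHom p π hπ
  constructor
  · intro h
    exact Groth.Agent.Helper4.PullAmple.isAmple_pullback_of_isAffineHom π h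
  · intro h
    refine ⟨hL, inferInstance, fun x => ?_⟩
    haveI hsurj : Surjective π := IsPerfection.surjective p π hπ
    obtain ⟨x', rfl⟩ := hsurj.surj x
    obtain ⟨n₀, s', hx', haff⟩ := h.2.2 x'
    have hN : PicF.IsInvertible (CohB1.tensorPow L (n₀ + 1)) := isInvertible_tensorPow hL (n₀ + 1)
    obtain ⟨s'', hs''⟩ : ∃ s'' : Coh.structureModule XP ⟶
        (Scheme.Modules.pullback π).obj (CohB1.tensorPow L (n₀ + 1)),
        s'' = s' ≫ (pullPowIso π hL (n₀ + 1)).inv := ⟨_, rfl⟩
    have hg : CohB1.genLocus _ s'' = CohB1.genLocus _ s' := by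
      rw [hs'']
      exact genLocus_comp_iso (pullPowIso π hL (n₀ + 1)).symm s'
    obtain ⟨m, s, hs⟩ := exists_section_pow p π hπ hN s''
    have hxD : π x' ∈ CohB1.genLocus _ s := by
      have : x' ∈ π ⁻¹ᵁ CohB1.genLocus _ s := by rw [hs, hg]; exact hx'
      exact this
    have hDaff : IsAffineOpen (CohB1.genLocus _ s) := by
      have h1 : IsAffineOpen (π ⁻¹ᵁ CohB1.genLocus _ s) := by rw [hs, hg]; exact haff
      haveI : IsAffine ((π ⁻¹ᵁ CohB1.genLocus _ s : XP.Opens) : Scheme.{u}) := h1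
      haveI : IsIntegralHom π := IsPerfection.isIntegralHom p π hπ
      haveI : Surjective (π ∣_ CohB1.genLocus _ s) :=
        IsZariskiLocalAtTarget.restrict (P := @Surjective) hsurj _
      haveI : UniversallyClosed (π ∣_ CohB1.genLocus _ s) :=
        IsZariskiLocalAtTarget.restrict (P := @UniversallyClosed) inferInstance _
      exact Groth.Agent.S0593.result _ _ (π ∣_ CohB1.genLocus _ s)
    have hpos : 0 < (n₀ + 1) * p ^ m :=
      Nat.mul_pos (Nat.succ_pos _) (pow_pos (Fact.out : p.Prime).pos _)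
    obtain ⟨k, hk⟩ : ∃ k, (n₀ + 1) * p ^ m = k + 1 := ⟨(n₀ + 1) * p ^ m - 1, by omega⟩
    refine ⟨k, (s ≫ (powMulIso L hL (n₀ + 1) (p ^ m)).hom) ≫ (powCastIso L hk).hom, ?_, ?_⟩
    · rw [genLocus_comp_iso, genLocus_comp_iso]
      exact hxD
    · rw [genLocus_comp_iso, genLocus_comp_iso]
      exact hDaff

end Groth.Agent.Lead.PerfAmp
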