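import Groth.Agent.Lead.PerfAmpB
import Groth.Agent.Helper7.Perf6
import Groth.Agent.Helper4.AmpleEventual

/-!
# Triviality of invertible modules under a perfection (S14925)
-/

set_option autoImplicit false
open CategoryTheory CategoryTheory.Limits AlgebraicGeometry Opposite TopologicalSpace
universe u

namespace Groth.Agent.Lead.PerfAmp
open Scheme.Modules Groth.Agent.Helper4 Groth.Agent.Helper4.TwistExt Groth.Agent.Helper4.GenLoc
  Groth.Agent.Helper4.TwistLocal FrobSch Groth.Agent.Helper7.Perf Groth.Agent.Helper4.PullTensor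
  Groth.Agent.Helper4.TensorInv Groth.Agent.Helper4.TensorAssoc Groth.Agent.Helper4.AmpleIso
  Groth.Agent.Helper4.PullUnit

theorem cl_eq_iff {Y : Scheme.{u}} (L M : Y.Modules) :
    PicF.cl L = PicF.cl M ↔ Nonempty (L ≅ M) := by
  constructor
  · intro h
    have h' := Quot.eqvGen_exact h
    clear h
    induction h' with
    | rel _ _ h => exact h
    | refl _ => exact ⟨Iso.refl _⟩
    | symm _ _ _ ih => exact ⟨ih.some.symm⟩
    | trans _ _ _ _ _ ih1 ih2 => exact ⟨ih1.some ≪≫ ih2.some⟩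
  · exact fun h => Quot.sound h

section Root
variable (p : ℕ) [Fact p.Prime] {Z : Scheme.{u}} [IsCharP Z p] (hZ : IsPerfect Z p)

include hZ in
/-- on a perfect scheme, an invertible module with a trivial `p^n`-th power is trivial -/
theorem exists_root_section {M : Z.Modules} (hM : PicF.IsInvertible M) (n : ℕ)
    (τ : Coh.structureModule Z ⟶ CohB1.tensorPow M (p ^ n)) (hτ : CohB1.genLocus _ τ = ⊤) :
    ∃ τ₀ : Coh.structureModule Z ⟶ M, CohB1.genLocus _ τ₀ = ⊤ := by
  classical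
  choose T e b hzT hTaff hfr _hval _hbo using
    exists_chart M hM (0 : Coh.structureModule Z ⟶ M)
  have hfrP : ∀ z, IsFrame (CohB1.tensorPow M (p ^ n)) (T z) (ePow M (T z) (e z) (p ^ n)) :=
    fun z => Groth.Agent.Helper4.SN417.isFrame_ePow_of_isFrame (hfr z) _
  have hcoord : ∀ z, ∃ a : Γ(Z, T z), SecTwist.val τ (T z) = a • ePow M (T z) (e z) (p ^ n) :=
    fun z => exists_coord (hfrP z) _
  choose a ha using hcoord
  have hroot : ∀ z, ∃ c : Γ(Z, T z), c ^ p ^ n = a z :=
    fun z => pow_surjective_of_isPerfect p Z hZ (T z) n (a z)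
  choose c hc using hroot
  have hunit : ∀ z w, ∃ u : Γ(Z, T z ⊓ T w), IsUnit u ∧
      M.presheaf.map (homOfLE (inf_le_right : T z ⊓ T w ≤ T w)).op (e w) =
        u • M.presheaf.map (homOfLE (inf_le_left : T z ⊓ T w ≤ T z)).op (e z) := fun z w =>
    Groth.Agent.Helper3.FrameFin.exists_unit_of_frames _ _
      (Groth.Agent.Helper1.LN.isFrame_res (hfr z) inf_le_left)
      (Groth.Agent.Helper1.LN.isFrame_res (hfr w) inf_le_right)
  choose u _hu_unit hu using hunit
  have hag : ∀ z w, M.presheaf.map (homOfLE (inf_le_left : T z ⊓ T w ≤ T z)).op (c z • e z) =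
      M.presheaf.map (homOfLE (inf_le_right : T z ⊓ T w ≤ T w)).op (c w • e w) := by
    intro z w
    have h1 : Z.presheaf.map (homOfLE (inf_le_left : T z ⊓ T w ≤ T z)).op (a z) =
        Z.presheaf.map (homOfLE (inf_le_right : T z ⊓ T w ≤ T w)).op (a w) * u z w ^ p ^ n := by
      have hfrW : IsFrame (CohB1.tensorPow M (p ^ n)) (T z ⊓ T w)
          (ePow M (T z ⊓ T w)
            (M.presheaf.map (homOfLE (inf_le_left : T z ⊓ T w ≤ T z)).op (e z)) (p ^ n)) :=
        Groth.Agent.Helper4.SN417.isFrame_ePow_of_isFrame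
          (Groth.Agent.Helper1.LN.isFrame_res (hfr z) inf_le_left) _
      apply coord_cancel hfrW
      have e1 := val_res τ (inf_le_left : T z ⊓ T w ≤ T z)
      have e2 := val_res τ (inf_le_right : T z ⊓ T w ≤ T w)
      rw [ha z, Scheme.Modules.map_smul, ePow_map] at e1
      rw [ha w, Scheme.Modules.map_smul, ePow_map, hu z w, ePow_smul, smul_smul] at e2
      rw [e1, e2]
    have h2 : Z.presheaf.map (homOfLE (inf_le_left : T z ⊓ T w ≤ T z)).op (c z) =
        Z.presheaf.map (homOfLE (inf_le_right : T z ⊓ T w ≤ T w)).op (c w) * u z w := by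
      apply pow_injective_of_isPerfect p Z hZ _ n
      simp only
      rw [← map_pow, hc, mul_pow, ← map_pow, hc, h1]
    rw [Scheme.Modules.map_smul, Scheme.Modules.map_smul, hu z w, smul_smul, h2]
  have hcov : (⊤ : Z.Opens) ≤ ⨆ z, T z := fun z _ => Opens.mem_iSup.mpr ⟨z, hzT z⟩
  obtain ⟨σ₀, hσ₀⟩ := exists_glue_sections M T hcov (fun z => c z • e z) hag
  refine ⟨Groth.Agent.Lead.LocLift.homOfTop M σ₀, ?_⟩
  apply top_unique
  intro z _
  have hval : SecTwist.val (Groth.Agent.Lead.LocLift.homOfTop M σ₀) (T z) = c z • e z := by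
    rw [← val_res _ (le_top : T z ≤ ⊤)]
    have h1 : SecTwist.val (Groth.Agent.Lead.LocLift.homOfTop M σ₀) ⊤ = σ₀ :=
      Groth.Agent.Lead.LocLift.homOfTop_app_one _ σ₀
    rw [h1, hσ₀ z]
  have hbo : CohB1.genLocus _ (Groth.Agent.Lead.LocLift.homOfTop M σ₀) ⊓ T z =
      Z.basicOpen (c z) :=
    Groth.Agent.Helper4.SN413.genLocus_inf_eq_basicOpen_of_isFrame _ (hfr z) _ hval
  have hbo' : CohB1.genLocus _ τ ⊓ T z = Z.basicOpen (a z) :=
    Groth.Agent.Helper4.SN413.genLocus_inf_eq_basicOpen_of_isFrame τ (hfrP z) _ (ha z)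
  have h3 : Z.basicOpen (a z) = Z.basicOpen (c z) := by
    rw [← hc z]
    exact Scheme.basicOpen_pow _ _ (pow_pos (Fact.out : p.Prime).pos _)
  have h4 : z ∈ CohB1.genLocus _ τ ⊓ T z := ⟨by rw [hτ]; trivial, hzT z⟩
  rw [hbo', h3, ← hbo] at h4
  exact h4.1

end Root

section Main
variable (p : ℕ) [Fact p.Prime] {XP X : Scheme.{u}} [IsCharP XP p] [IsCharP X p] (π : XP ⟶ X)
  (hπ : IsPerfection π p)

include hπ in
theorem isTrivialCl_pullCl_iff [CompactSpace X] [QuasiSeparatedSpace X] (L : X.Modules)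
    (hL : PicF.IsInvertible L) :
    PicF.IsTrivialCl (PicF.pullCl π (PicF.cl L)) ↔
      ∃ n : ℕ, PicF.IsTrivialCl (PicF.cl (CohB1.tensorPow L (p ^ n))) := by
  have hsurj : Surjective π := IsPerfection.surjective p π hπ
  constructor
  · intro h
    obtain ⟨ε⟩ := (cl_eq_iff _ _).mp h
    haveI : IsIso ε.inv := inferInstance
    have hg : CohB1.genLocus _ ε.inv = ⊤ :=
      Groth.Agent.Helper4.AmpleEventual.genLocus_eq_top_of_isIso ε.inv
    obtain ⟨m, s, hs⟩ := exists_section_pow p π hπ hL ε.inv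
    rw [hg] at hs
    have htop : CohB1.genLocus _ s = ⊤ := by
      apply top_unique
      intro x _
      obtain ⟨x', rfl⟩ := hsurj.surj x
      have : x' ∈ π ⁻¹ᵁ CohB1.genLocus _ s := by rw [hs]; trivial
      exact this
    haveI := Groth.Agent.Helper4.GenLocIso.isIso_of_genLocus_eq_top _ s htop
    exact ⟨m, (cl_eq_iff _ _).mpr ⟨(asIso s).symm⟩⟩
  · rintro ⟨n, h⟩
    obtain ⟨ε⟩ := (cl_eq_iff _ _).mp h
    have hL' : PicF.IsInvertible ((Scheme.Modules.pullback π).obj L) :=
      Groth.Agent.Helper4.PullSec.isInvertible_pullback π hL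
    let θ : CohB1.tensorPow ((Scheme.Modules.pullback π).obj L) (p ^ n) ≅
        Coh.structureModule XP :=
      (pullPowIso π hL (p ^ n)).symm ≪≫ (Scheme.Modules.pullback π).mapIso ε ≪≫ pullbackUnitIso π
    haveI : IsIso θ.inv := inferInstance
    obtain ⟨τ₀, hτ₀⟩ := exists_root_section p hπ.1 hL' n θ.inv
      (Groth.Agent.Helper4.AmpleEventual.genLocus_eq_top_of_isIso θ.inv)
    haveI := Groth.Agent.Helper4.GenLocIso.isIso_of_genLocus_eq_top _ τ₀ hτ₀
    exact (cl_eq_iff _ _).mpr ⟨(asIso τ₀).symm⟩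

end Main

end Groth.Agent.Lead.PerfAmp
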