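import Groth.Agent.Lead.PerfAmpB

/-!
# Perfection, part E: `p`-power descent of functions over quasi-compact opens; units; charts
-/

set_option autoImplicit false
open CategoryTheory CategoryTheory.Limits AlgebraicGeometry Opposite TopologicalSpace
universe u

namespace Groth.Agent.Lead.PerfAmp
open Scheme.Modules Groth.Agent.Helper4 Groth.Agent.Helper4.TwistExt Groth.Agent.Helper4.GenLoc
  Groth.Agent.Helper4.TwistLocal FrobSch Groth.Agent.Helper7.Perf Groth.Agent.Helper4.PullTensor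
  Groth.Agent.Helper1.SZ

section Glue
variable {X : Scheme.{u}}

/-- gluing functions over an open cover of an open -/
theorem exists_glue_functions {ι : Type*} (T : ι → X.Opens) (W : X.Opens)
    (hle : ∀ i, T i ≤ W) (hcov : W ≤ ⨆ i, T i) (σ : ∀ i, Γ(X, T i))
    (hag : ∀ i j, X.presheaf.map (homOfLE (inf_le_left : T i ⊓ T j ≤ T i)).op (σ i) =
      X.presheaf.map (homOfLE (inf_le_right : T i ⊓ T j ≤ T j)).op (σ j)) :
    ∃ m : Γ(X, W), ∀ i, X.presheaf.map (homOfLE (hle i)).op m = σ i := by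
  have hcompat : TopCat.Presheaf.IsCompatible (Coh.structureModule X).presheaf T σ :=
    fun i j => hag i j
  obtain ⟨m, hm, -⟩ := TopCat.Sheaf.existsUnique_gluing'
    (⟨(Coh.structureModule X).presheaf, (Coh.structureModule X).isSheaf⟩ : TopCat.Sheaf Ab X)
    T W (fun i => homOfLE (hle i)) hcov σ hcompat
  exact ⟨m, hm⟩

theorem eq_of_cover_functions (W : X.Opens) (a b : Γ(X, W))
    (h : ∀ y ∈ W, ∃ (D : X.Opens) (hD : D ≤ W), y ∈ D ∧
      X.presheaf.map (homOfLE hD).op a = X.presheaf.map (homOfLE hD).op b) : a = b :=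
  eq_of_cover (Coh.structureModule X) W (show Γ(Coh.structureModule X, W) from a)
    (show Γ(Coh.structureModule X, W) from b) h

end Glue

section Pow
variable (p : ℕ) [Fact p.Prime] {XP X : Scheme.{u}} [IsCharP XP p] [IsCharP X p] (π : XP ⟶ X)
  (hπ : IsPerfection π p)

include hπ in
/-- `p`-power descent of functions over a quasi-compact open -/
theorem exists_pow_eq_of_isCompact [QuasiSeparatedSpace X] {W : X.Opens}
    (hW : IsCompact (W : Set X)) (a' : Γ(XP, π ⁻¹ᵁ W)) :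
    ∃ (m : ℕ) (a : Γ(X, W)), π.app W a = a' ^ p ^ m := by
  classical
  obtain ⟨I, hI, eI⟩ := isCompact_iff_finite_and_eq_biUnion_affineOpens.mp hW
  haveI : Finite I := hI.to_subtype
  cases nonempty_fintype I
  have hIW : ∀ i : I, (i.1 : X.Opens) ≤ W := by
    intro i
    rw [eI]
    exact le_iSup₂_of_le i.1 i.2 le_rfl
  have hcov : W ≤ ⨆ i : I, (i.1 : X.Opens) := by
    intro y hy
    have : y ∈ (⨆ i ∈ I, (i : X.Opens) : X.Opens) := by rw [← eI]; exact hy
    simp only [Opens.mem_iSup] at this ⊢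
    obtain ⟨i, hi, hyi⟩ := this
    exact ⟨⟨i, hi⟩, hyi⟩
  have hpow : ∀ i : I, ∃ (n : ℕ) (r : Γ(X, (i.1 : X.Opens))), π.app (i.1 : X.Opens) r =
      (XP.presheaf.map (homOfLE (π.preimage_mono (hIW i))).op a') ^ p ^ n :=
    fun i => IsPerfection.exists_pow_eq p π hπ i.1.2 _
  choose n r hr using hpow
  obtain ⟨n₀, hn₀⟩ : ∃ n₀, n₀ = Finset.univ.sup n := ⟨_, rfl⟩
  obtain ⟨r₁, hr₁def⟩ : ∃ r₁ : ∀ i : I, Γ(X, (i.1 : X.Opens)),
      r₁ = fun i => r i ^ p ^ (n₀ - n i) := ⟨_, rfl⟩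
  have hr₁ : ∀ i : I, π.app (i.1 : X.Opens) (r₁ i) =
      (XP.presheaf.map (homOfLE (π.preimage_mono (hIW i))).op a') ^ p ^ n₀ := by
    intro i
    have hle : n i ≤ n₀ := hn₀ ▸ Finset.le_sup (Finset.mem_univ i)
    rw [hr₁def, map_pow, hr, ← pow_mul, ← pow_add, Nat.add_sub_cancel' hle]
  have hd : ∀ i j : I, π.app ((i.1 : X.Opens) ⊓ (j.1 : X.Opens))
      (X.presheaf.map (homOfLE (inf_le_left : (i.1 : X.Opens) ⊓ (j.1 : X.Opens) ≤ i.1)).op (r₁ i) -
        X.presheaf.map (homOfLE (inf_le_right : (i.1 : X.Opens) ⊓ (j.1 : X.Opens) ≤ j.1)).op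
          (r₁ j)) = 0 := by
    intro i j
    rw [map_sub, app_res, app_res, hr₁, hr₁, map_pow, map_pow, sub_eq_zero]
    congr 1
    rw [← CommRingCat.comp_apply, ← CommRingCat.comp_apply, ← Functor.map_comp,
      ← Functor.map_comp]
    rfl
  have hWc : ∀ i j : I, IsCompact (((i.1 : X.Opens) ⊓ (j.1 : X.Opens) : X.Opens) : Set X) :=
    fun i j => QuasiSeparatedSpace.inter_isCompact _ _ (i.1 : X.Opens).isOpen i.1.2.isCompact
      (j.1 : X.Opens).isOpen j.1.2.isCompact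
  have hk : ∀ i j : I, ∃ k : ℕ, ∀ k', k ≤ k' →
      (X.presheaf.map (homOfLE (inf_le_left : (i.1 : X.Opens) ⊓ (j.1 : X.Opens) ≤ i.1)).op (r₁ i) -
        X.presheaf.map (homOfLE (inf_le_right : (i.1 : X.Opens) ⊓ (j.1 : X.Opens) ≤ j.1)).op
          (r₁ j)) ^ p ^ k' = 0 := fun i j =>
    exists_pow_prime_pow_eq_zero p _
      (isNilpotent_of_app_eq_zero_of_isCompact p π hπ (hWc i j) _ (hd i j))
  choose k hk using hk
  obtain ⟨k₀, hk₀⟩ : ∃ k₀, k₀ = (Finset.univ ×ˢ Finset.univ).sup (fun q : I × I => k q.1 q.2) :=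
    ⟨_, rfl⟩
  have hkle : ∀ i j : I, k i j ≤ k₀ := by
    intro i j
    rw [hk₀]
    exact Finset.le_sup (f := fun q : I × I => k q.1 q.2)
      (Finset.mk_mem_product (Finset.mem_univ i) (Finset.mem_univ j))
  have hag : ∀ i j : I,
      X.presheaf.map (homOfLE (inf_le_left : (i.1 : X.Opens) ⊓ (j.1 : X.Opens) ≤ i.1)).op
        (r₁ i ^ p ^ k₀) =
      X.presheaf.map (homOfLE (inf_le_right : (i.1 : X.Opens) ⊓ (j.1 : X.Opens) ≤ j.1)).op
        (r₁ j ^ p ^ k₀) := by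
    intro i j
    have h0 := hk i j k₀ (hkle i j)
    have hp0 : (p : Γ(X, (i.1 : X.Opens) ⊓ (j.1 : X.Opens))) = 0 := natCast_eq_zero_app X p _
    rw [sub_pow_prime_pow p hp0, sub_eq_zero] at h0
    rw [map_pow, map_pow, h0]
  obtain ⟨a, ha⟩ := exists_glue_functions (fun i : I => (i.1 : X.Opens)) W hIW hcov
    (fun i => r₁ i ^ p ^ k₀) hag
  refine ⟨n₀ + k₀, a, ?_⟩
  apply eq_of_cover_functions
  intro y hy
  have hy' : π y ∈ W := hy
  obtain ⟨i, hyi⟩ := Opens.mem_iSup.mp (hcov hy')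
  refine ⟨π ⁻¹ᵁ (i.1 : X.Opens), π.preimage_mono (hIW i), hyi, ?_⟩
  have h1 := app_res π (hIW i) a
  rw [← h1, ha i, map_pow, hr₁, map_pow, ← pow_mul, ← pow_add]

include hπ in
/-- a function whose pullback to the perfection is a unit is a unit -/
theorem isUnit_of_isUnit_app {W : X.Opens} (a : Γ(X, W)) (h : IsUnit (π.app W a)) : IsUnit a := by
  have hsurj : Surjective π := IsPerfection.surjective p π hπ
  apply X.toRingedSpace.isUnit_of_isUnit_germ W a
  intro x hx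
  obtain ⟨x', rfl⟩ := hsurj.surj x
  have h1 : x' ∈ XP.basicOpen (π.app W a) := by
    rw [Scheme.basicOpen_of_isUnit _ h]
    exact hx
  rw [← Scheme.preimage_basicOpen] at h1
  exact (Scheme.mem_basicOpen X a (π x') hx).mp h1

include hπ in
/-- charts for an invertible module on the perfection, indexed by affine opens of the base -/
theorem exists_frame_chart {M : XP.Modules} (hM : PicF.IsInvertible M) (x : X) :
    ∃ (T : X.Opens) (e' : Γ(M, π ⁻¹ᵁ T)), x ∈ T ∧ IsAffineOpen T ∧ IsFrame M (π ⁻¹ᵁ T) e' := by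
  have hsurj : Surjective π := IsPerfection.surjective p π hπ
  have hhom : IsHomeomorph π.base := IsPerfection.isHomeomorph p π hπ
  obtain ⟨x', rfl⟩ := hsurj.surj x
  obtain ⟨T', e₀, b, hx'T', -, hfr, -, -⟩ := exists_chart M hM (0 : Coh.structureModule XP ⟶ M) x'
  have hopen : IsOpen (π '' (T' : Set XP)) := hhom.isOpenMap _ T'.isOpen
  obtain ⟨_, ⟨T, hT : IsAffineOpen T, rfl⟩, hxT, hTle⟩ :=
    X.isBasis_affineOpens.exists_subset_of_mem_open (show π x' ∈ π '' (T' : Set XP) from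
      ⟨x', hx'T', rfl⟩) hopen
  have hle : π ⁻¹ᵁ T ≤ T' := by
    intro z hz
    obtain ⟨z', hz'T', hz'⟩ := hTle hz
    rw [← hhom.injective hz']
    exact hz'T'
  exact ⟨T, M.presheaf.map (homOfLE hle).op e₀, hxT, hT,
    Groth.Agent.Helper1.LN.isFrame_res hfr hle⟩

end Pow

end Groth.Agent.Lead.PerfAmp
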