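import Groth.Agent.Lead.PerfAmpE
import Groth.Agent.Helper1.CC6
import Groth.Agent.Helper1.CC4

/-!
# Perfection, part F: every invertible module on the perfection has a `p`-power pulled back from
the base (S14926)
-/

set_option autoImplicit false
open CategoryTheory CategoryTheory.Limits AlgebraicGeometry Opposite TopologicalSpace
universe u

namespace Groth.Agent.Lead.PerfAmp
open Scheme.Modules Groth.Agent.Helper4 Groth.Agent.Helper4.TwistExt Groth.Agent.Helper4.GenLoc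
  Groth.Agent.Helper4.TwistLocal FrobSch Groth.Agent.Helper7.Perf Groth.Agent.Helper4.PullTensor
  Groth.Agent.Helper1.SZ

section Alg

theorem pow_eq_mul_of_sub_pow_eq_zero {R : Type*} [CommRing R] (p : ℕ) [Fact p.Prime]
    (hp : (p : R) = 0) (a b c : R) (k : ℕ) (h : (a - b * c) ^ p ^ k = 0) :
    a ^ p ^ k = b ^ p ^ k * c ^ p ^ k := by
  rw [sub_pow_prime_pow p hp, sub_eq_zero] at h
  rw [h, mul_pow]

end Alg

section Coc
variable {Z : Scheme.{u}}

/-- transition units of frames satisfy the cocycle condition -/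
theorem unit_cocycle (M : Z.Modules) {A B C AB BC AC ABC : Z.Opens} (hABA : AB ≤ A) (hABB : AB ≤ B)
    (hBCB : BC ≤ B) (hBCC : BC ≤ C) (hACA : AC ≤ A) (hACC : AC ≤ C) (h1 : ABC ≤ AB)
    (h2 : ABC ≤ BC) (h3 : ABC ≤ AC) (a : Γ(M, A)) (b : Γ(M, B)) (c : Γ(M, C))
    (hc : IsFrame M C c) (uab : Γ(Z, AB)) (ubc : Γ(Z, BC)) (uac : Γ(Z, AC))
    (hab : M.presheaf.map (homOfLE hABA).op a = uab • M.presheaf.map (homOfLE hABB).op b)
    (hbc : M.presheaf.map (homOfLE hBCB).op b = ubc • M.presheaf.map (homOfLE hBCC).op c)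
    (hac : M.presheaf.map (homOfLE hACA).op a = uac • M.presheaf.map (homOfLE hACC).op c) :
    Z.presheaf.map (homOfLE h3).op uac =
      Z.presheaf.map (homOfLE h1).op uab * Z.presheaf.map (homOfLE h2).op ubc := by
  apply coord_cancel (Groth.Agent.Helper1.LN.isFrame_res hc (h3.trans hACC))
  have e1 : Z.presheaf.map (homOfLE h3).op uac • M.presheaf.map (homOfLE (h3.trans hACC)).op c =
      M.presheaf.map (homOfLE (h3.trans hACA)).op a := by
    rw [← Groth.Agent.Helper1.CC.map_map M hACC h3 c, ← Scheme.Modules.map_smul, ← hac,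
      Groth.Agent.Helper1.CC.map_map]
  have e2 : Z.presheaf.map (homOfLE h2).op ubc • M.presheaf.map (homOfLE (h3.trans hACC)).op c =
      M.presheaf.map (homOfLE (h2.trans hBCB)).op b := by
    have : M.presheaf.map (homOfLE (h3.trans hACC)).op c =
        M.presheaf.map (homOfLE (h2.trans hBCC)).op c := rfl
    rw [this, ← Groth.Agent.Helper1.CC.map_map M hBCC h2 c, ← Scheme.Modules.map_smul, ← hbc,
      Groth.Agent.Helper1.CC.map_map]
  have e3 : Z.presheaf.map (homOfLE h1).op uab • M.presheaf.map (homOfLE (h2.trans hBCB)).op b =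
      M.presheaf.map (homOfLE (h3.trans hACA)).op a := by
    have : M.presheaf.map (homOfLE (h2.trans hBCB)).op b =
        M.presheaf.map (homOfLE (h1.trans hABB)).op b := rfl
    rw [this, ← Groth.Agent.Helper1.CC.map_map M hABB h1 b, ← Scheme.Modules.map_smul, ← hab,
      Groth.Agent.Helper1.CC.map_map]
  rw [e1, mul_smul, e2, e3]

end Coc

section Main
variable (p : ℕ) [Fact p.Prime] {XP X : Scheme.{u}} [IsCharP XP p] [IsCharP X p] (π : XP ⟶ X)
  (hπ : IsPerfection π p)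

include hπ in
theorem exists_tensorPow_iso_pullback [CompactSpace X] [QuasiSeparatedSpace X] {M : XP.Modules}
    (hM : PicF.IsInvertible M) :
    ∃ (n : ℕ) (L : X.Modules), PicF.IsInvertible L ∧
      Nonempty ((Scheme.Modules.pullback π).obj L ≅ CohB1.tensorPow M (p ^ n)) := by
  classical
  choose T e' hxT hTaff hfr using exists_frame_chart p π hπ hM
  obtain ⟨S, hS⟩ := CompactSpace.elim_nhds_subcover (fun x => (T x : Set X))
    (fun x => (T x).isOpen.mem_nhds (hxT x))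
  -- units upstairs
  have hunit : ∀ x y, ∃ u' : Γ(XP, π ⁻¹ᵁ (T x ⊓ T y)), IsUnit u' ∧
      M.presheaf.map (homOfLE (π.preimage_mono (inf_le_left : T x ⊓ T y ≤ T x))).op (e' x) =
        u' • M.presheaf.map (homOfLE (π.preimage_mono (inf_le_right : T x ⊓ T y ≤ T y))).op
          (e' y) := fun x y =>
    Groth.Agent.Helper3.FrameFin.exists_unit_of_frames _ _
      (Groth.Agent.Helper1.LN.isFrame_res (hfr y) (π.preimage_mono inf_le_right))
      (Groth.Agent.Helper1.LN.isFrame_res (hfr x) (π.preimage_mono inf_le_left))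
  choose u' hu'unit hu' using hunit
  have hWc : ∀ x y, IsCompact ((T x ⊓ T y : X.Opens) : Set X) := fun x y =>
    QuasiSeparatedSpace.inter_isCompact _ _ (T x).isOpen (hTaff x).isCompact (T y).isOpen
      (hTaff y).isCompact
  have hv : ∀ x y, ∃ (m : ℕ) (v : Γ(X, T x ⊓ T y)), π.app (T x ⊓ T y) v = u' x y ^ p ^ m :=
    fun x y => exists_pow_eq_of_isCompact p π hπ (hWc x y) (u' x y)
  choose m v hv using hv
  obtain ⟨m₀, hm₀⟩ : ∃ m₀, m₀ = (S ×ˢ S).sup (fun q => m q.1 q.2) := ⟨_, rfl⟩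
  have hmle : ∀ x ∈ S, ∀ y ∈ S, m x y ≤ m₀ := by
    intro x hx y hy
    rw [hm₀]
    exact Finset.le_sup (f := fun q : X × X => m q.1 q.2) (Finset.mk_mem_product hx hy)
  obtain ⟨v₁, hv₁def⟩ : ∃ v₁ : ∀ x y, Γ(X, T x ⊓ T y),
      v₁ = fun x y => v x y ^ p ^ (m₀ - m x y) := ⟨_, rfl⟩
  have hv₁ : ∀ x ∈ S, ∀ y ∈ S, π.app (T x ⊓ T y) (v₁ x y) = u' x y ^ p ^ m₀ := by
    intro x hx y hy
    rw [hv₁def, map_pow, hv, ← pow_mul, ← pow_add, Nat.add_sub_cancel' (hmle x hx y hy)]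
  -- the cocycle condition upstairs
  have hcoc' : ∀ x y z,
      XP.presheaf.map (homOfLE (π.preimage_mono
        (inf_le_inf_right (T z) inf_le_left : T x ⊓ T y ⊓ T z ≤ T x ⊓ T z))).op (u' x z) =
      XP.presheaf.map (homOfLE (π.preimage_mono
        (inf_le_left : T x ⊓ T y ⊓ T z ≤ T x ⊓ T y))).op (u' x y) *
      XP.presheaf.map (homOfLE (π.preimage_mono
        (inf_le_inf_right (T z) inf_le_right : T x ⊓ T y ⊓ T z ≤ T y ⊓ T z))).op (u' y z) :=
    fun x y z => unit_cocycle M (π.preimage_mono inf_le_left) (π.preimage_mono inf_le_right)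
      (π.preimage_mono inf_le_left) (π.preimage_mono inf_le_right) (π.preimage_mono inf_le_left)
      (π.preimage_mono inf_le_right) _ _ _ (e' x) (e' y) (e' z) (hfr z) (u' x y) (u' y z) (u' x z)
      (hu' x y) (hu' y z) (hu' x z)
  have hc0 : ∀ x ∈ S, ∀ y ∈ S, ∀ z ∈ S, π.app (T x ⊓ T y ⊓ T z)
      (X.presheaf.map (homOfLE
          (inf_le_inf_right (T z) inf_le_left : T x ⊓ T y ⊓ T z ≤ T x ⊓ T z)).op (v₁ x z) -
        X.presheaf.map (homOfLE (inf_le_left : T x ⊓ T y ⊓ T z ≤ T x ⊓ T y)).op (v₁ x y) *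
          X.presheaf.map (homOfLE
            (inf_le_inf_right (T z) inf_le_right : T x ⊓ T y ⊓ T z ≤ T y ⊓ T z)).op (v₁ y z)) =
      0 := by
    intro x hx y hy z hz
    rw [map_sub, map_mul, app_res, app_res, app_res, hv₁ x hx z hz, hv₁ x hx y hy,
      hv₁ y hy z hz, map_pow, map_pow, map_pow, hcoc' x y z, mul_pow, sub_self]
  have hW3c : ∀ x y z, IsCompact ((T x ⊓ T y ⊓ T z : X.Opens) : Set X) := fun x y z =>
    QuasiSeparatedSpace.inter_isCompact _ _ (T x ⊓ T y).isOpen (hWc x y) (T z).isOpen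
      (hTaff z).isCompact
  have hk : ∀ x y z, ∃ k : ℕ, x ∈ S → y ∈ S → z ∈ S → ∀ k', k ≤ k' →
      (X.presheaf.map (homOfLE
          (inf_le_inf_right (T z) inf_le_left : T x ⊓ T y ⊓ T z ≤ T x ⊓ T z)).op (v₁ x z) -
        X.presheaf.map (homOfLE (inf_le_left : T x ⊓ T y ⊓ T z ≤ T x ⊓ T y)).op (v₁ x y) *
          X.presheaf.map (homOfLE
            (inf_le_inf_right (T z) inf_le_right : T x ⊓ T y ⊓ T z ≤ T y ⊓ T z)).op (v₁ y z)) ^
        p ^ k' = 0 := by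
    intro x y z
    by_cases hxyz : x ∈ S ∧ y ∈ S ∧ z ∈ S
    · obtain ⟨k, hk⟩ := exists_pow_prime_pow_eq_zero p _
        (isNilpotent_of_app_eq_zero_of_isCompact p π hπ (hW3c x y z) _
          (hc0 x hxyz.1 y hxyz.2.1 z hxyz.2.2))
      exact ⟨k, fun _ _ _ => hk⟩
    · exact ⟨0, fun hx hy hz => absurd ⟨hx, hy, hz⟩ hxyz⟩
  choose k hk using hk
  obtain ⟨k₀, hk₀⟩ : ∃ k₀, k₀ = (S ×ˢ S ×ˢ S).sup (fun q => k q.1 q.2.1 q.2.2) := ⟨_, rfl⟩
  have hkle : ∀ x ∈ S, ∀ y ∈ S, ∀ z ∈ S, k x y z ≤ k₀ := by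
    intro x hx y hy z hz
    rw [hk₀]
    exact Finset.le_sup (f := fun q : X × X × X => k q.1 q.2.1 q.2.2)
      (Finset.mk_mem_product hx (Finset.mk_mem_product hy hz))
  obtain ⟨w, hwdef⟩ : ∃ w : ∀ x y, Γ(X, T x ⊓ T y), w = fun x y => v₁ x y ^ p ^ k₀ := ⟨_, rfl⟩
  have hwcoc : ∀ x ∈ S, ∀ y ∈ S, ∀ z ∈ S,
      X.presheaf.map (homOfLE
          (inf_le_inf_right (T z) inf_le_left : T x ⊓ T y ⊓ T z ≤ T x ⊓ T z)).op (w x z) =
        X.presheaf.map (homOfLE (inf_le_left : T x ⊓ T y ⊓ T z ≤ T x ⊓ T y)).op (w x y) *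
          X.presheaf.map (homOfLE
            (inf_le_inf_right (T z) inf_le_right : T x ⊓ T y ⊓ T z ≤ T y ⊓ T z)).op (w y z) := by
    intro x hx y hy z hz
    have hp0 : (p : Γ(X, T x ⊓ T y ⊓ T z)) = 0 := natCast_eq_zero_app X p _
    rw [hwdef]
    simp only
    rw [map_pow, map_pow, map_pow]
    exact pow_eq_mul_of_sub_pow_eq_zero p hp0 _ _ _ k₀ (hk x y z hx hy hz k₀ (hkle x hx y hy z hz))
  have hwapp : ∀ x ∈ S, ∀ y ∈ S, π.app (T x ⊓ T y) (w x y) = u' x y ^ p ^ (m₀ + k₀) := by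
    intro x hx y hy
    rw [hwdef]
    simp only
    rw [map_pow, hv₁ x hx y hy, ← pow_mul, ← pow_add]
  have hwunit : ∀ x ∈ S, ∀ y ∈ S, IsUnit (w x y) := by
    intro x hx y hy
    apply isUnit_of_isUnit_app p π hπ
    rw [hwapp x hx y hy]
    exact (hu'unit x y).pow _
  -- the cocycle module downstairs
  obtain ⟨U, hUdef⟩ : ∃ U : {x // x ∈ S} → X.Opens, U = fun i => T i.1 := ⟨_, rfl⟩
  subst hUdef
  obtain ⟨η, hηdef⟩ : ∃ η : ∀ i j : {x // x ∈ S}, (Γ(X, T i.1 ⊓ T j.1))ˣ,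
      ∀ i j, (η i j : Γ(X, T i.1 ⊓ T j.1)) = w i.1 j.1 :=
    ⟨fun i j => (hwunit i.1 i.2 j.1 j.2).unit, fun i j => IsUnit.unit_spec _⟩
  have hη : ∀ i j k : {x // x ∈ S},
      Groth.Agent.Helper1.CC.ρ (inf_le_inf_right (T k.1) inf_le_left :
          T i.1 ⊓ T j.1 ⊓ T k.1 ≤ T i.1 ⊓ T k.1) (η i k : Γ(X, T i.1 ⊓ T k.1)) =
        Groth.Agent.Helper1.CC.ρ (inf_le_left : T i.1 ⊓ T j.1 ⊓ T k.1 ≤ T i.1 ⊓ T j.1)
            (η i j : Γ(X, T i.1 ⊓ T j.1)) *
          Groth.Agent.Helper1.CC.ρ (inf_le_inf_right (T k.1) inf_le_right :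
            T i.1 ⊓ T j.1 ⊓ T k.1 ≤ T j.1 ⊓ T k.1) (η j k : Γ(X, T j.1 ⊓ T k.1)) := by
    intro i j k
    rw [hηdef, hηdef, hηdef]
    exact hwcoc i.1 i.2 j.1 j.2 k.1 k.2
  have hU : iSup (fun i : {x // x ∈ S} => T i.1) = ⊤ := by
    apply top_unique
    intro z _
    have hz : z ∈ ⋃ x ∈ S, (T x : Set X) := by rw [hS]; trivial
    simp only [Set.mem_iUnion] at hz
    obtain ⟨x, hx, hzx⟩ := hz
    exact Opens.mem_iSup.mpr ⟨⟨x, hx⟩, hzx⟩
  have hU' : iSup (fun i : {x // x ∈ S} => π ⁻¹ᵁ T i.1) = ⊤ := by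
    apply top_unique
    intro z _
    have hz : π z ∈ iSup (fun i : {x // x ∈ S} => T i.1) := by rw [hU]; trivial
    obtain ⟨i, hi⟩ := Opens.mem_iSup.mp hz
    exact Opens.mem_iSup.mpr ⟨i, hi⟩
  have hLinv := Groth.Agent.Helper1.CC.isInvertible_Lc (fun i : {x // x ∈ S} => T i.1) η hη hU
  let P : Groth.Agent.Helper1.CC.Triv (fun i : {x // x ∈ S} => π ⁻¹ᵁ T i.1)
      ((Scheme.Modules.pullback π).obj
        (Groth.Agent.Helper1.CC.Lc (fun i : {x // x ∈ S} => T i.1) η)) :=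
    { s := fun i => pe π _ (T i.1) (Groth.Agent.Helper1.CC.gen _ η hη i)
      bij := fun i V h => Groth.Agent.Helper3.DiscPic2.bijective_of_isFrame _ _ _
        (isFrame_pe π _ (isFrame_of_bij _ _ _ (Groth.Agent.Helper1.CC.gen_bijective _ η hη i))) V h
      η := fun i j => π.app (T i.1 ⊓ T j.1) (η i j : Γ(X, T i.1 ⊓ T j.1))
      trans := fun i j => by
        have h1 := Groth.Agent.Helper1.CC.gen_transition _ η hη i j
        have h2 := congrArg (pe π _ (T i.1 ⊓ T j.1)) h1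
        rw [pe_smul, pe_res, pe_res] at h2
        exact h2 }
  let P' : Groth.Agent.Helper1.CC.Triv (fun i : {x // x ∈ S} => π ⁻¹ᵁ T i.1)
      (CohB1.tensorPow M (p ^ (m₀ + k₀))) :=
    { s := fun i => ePow M (π ⁻¹ᵁ T i.1) (e' i.1) (p ^ (m₀ + k₀))
      bij := fun i V h => Groth.Agent.Helper3.DiscPic2.bijective_of_isFrame _ _ _
        (Groth.Agent.Helper4.SN417.isFrame_ePow_of_isFrame (hfr i.1) _) V h
      η := fun i j => u' i.1 j.1 ^ p ^ (m₀ + k₀)
      trans := fun i j => by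
        have h1 := congrArg (fun t => ePow M (π ⁻¹ᵁ (T i.1 ⊓ T j.1)) t (p ^ (m₀ + k₀)))
          (hu' i.1 j.1)
        simp only at h1
        rw [ePow_smul, ← ePow_map, ← ePow_map] at h1
        exact h1 }
  refine ⟨m₀ + k₀, _, hLinv, Groth.Agent.Helper1.CC.Triv.nonempty_iso_of_units P P' hU'
    (fun _ => 1) ?_⟩
  intro i j
  simp only [Units.val_one, map_one, mul_one, one_mul]
  change u' i.1 j.1 ^ p ^ (m₀ + k₀) = π.app (T i.1 ⊓ T j.1) (η i j : Γ(X, T i.1 ⊓ T j.1))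
  rw [hηdef, hwapp i.1 i.2 j.1 j.2]

end Main

end Groth.Agent.Lead.PerfAmp
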