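import Mathlib

/-! # Finite modules and tensor products with infinite products -/

namespace Groth.Agent.Lead
open TensorProduct

universe u

/-- If `s` spans `M`, every element of `M ⊗ Q` is a sum `∑ m ∈ s, m ⊗ q m`. -/
theorem exists_sum_tmul_of_span_eq_top {R : Type*} [CommRing R] {M Q : Type*} [AddCommGroup M]
    [Module R M] [AddCommGroup Q] [Module R Q] (s : Finset M)
    (hs : Submodule.span R (s : Set M) = ⊤) (x : M ⊗[R] Q) :
    ∃ q : M → Q, x = ∑ m ∈ s, m ⊗ₜ[R] q m := by
  induction x with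
  | zero => exact ⟨0, by simp⟩
  | tmul m y =>
    have hm : m ∈ Submodule.span R (s : Set M) := hs ▸ Submodule.mem_top
    rw [Submodule.mem_span_finset] at hm
    obtain ⟨c, -, hc⟩ := hm
    refine ⟨fun a => c a • y, ?_⟩
    rw [← hc, TensorProduct.sum_tmul]
    refine Finset.sum_congr rfl fun a _ => ?_
    rw [TensorProduct.smul_tmul]
  | add x y hx hy =>
    obtain ⟨qx, hx⟩ := hx
    obtain ⟨qy, hy⟩ := hy
    refine ⟨qx + qy, ?_⟩
    rw [hx, hy, ← Finset.sum_add_distrib]
    refine Finset.sum_congr rfl fun a _ => ?_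
    rw [Pi.add_apply, TensorProduct.tmul_add]

theorem finite_iff_piRightHom_surjective (R : Type u) [CommRing R] (M : Type u)
    [AddCommGroup M] [Module R M] :
    Module.Finite R M ↔ ∀ (ι : Type u) (Q : ι → Type u) [∀ i, AddCommGroup (Q i)]
      [∀ i, Module R (Q i)], Function.Surjective (TensorProduct.piRightHom R R M Q) := by
  constructor
  · intro hM ι Q _ _ y
    obtain ⟨s, hs⟩ := hM.fg_top
    have : ∀ i, ∃ q : M → Q i, y i = ∑ m ∈ s, m ⊗ₜ[R] q m :=
      fun i => exists_sum_tmul_of_span_eq_top s hs (y i)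
    choose q hq using this
    refine ⟨∑ m ∈ s, m ⊗ₜ[R] (fun i => q i m), ?_⟩
    funext i
    rw [map_sum, Finset.sum_apply, hq i]
    refine Finset.sum_congr rfl fun m _ => ?_
    rw [TensorProduct.piRightHom_tmul]
  · intro h
    classical
    obtain ⟨x, hx⟩ := h M (fun _ => R) (fun m => m ⊗ₜ[R] (1 : R))
    obtain ⟨S, hS⟩ := TensorProduct.exists_finset x
    refine ⟨⟨S.image Prod.fst, ?_⟩⟩
    rw [eq_top_iff]
    intro m _
    have h1 := congrFun hx m
    rw [hS, map_sum, Finset.sum_apply] at h1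
    have h2 := congrArg (TensorProduct.rid R M) h1
    rw [map_sum] at h2
    simp only [TensorProduct.piRightHom_tmul, TensorProduct.rid_tmul, one_smul] at h2
    rw [← h2]
    refine Submodule.sum_mem _ fun i hi => ?_
    refine Submodule.smul_mem _ _ (Submodule.subset_span ?_)
    exact Finset.mem_coe.mpr (Finset.mem_image.mpr ⟨i, hi, rfl⟩)

end Groth.Agent.Lead
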