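import Mathlib
import Groth.Agent.Lead.PiTensor

/-! # Finitely presented modules and tensor products with infinite products -/

namespace Groth.Agent.Lead
open TensorProduct

universe u

section
variable {R : Type u} [CommRing R]

/-- Naturality of `piRightHom` in the left module. -/
theorem piRightHom_rTensor {N N' : Type u} [AddCommGroup N] [Module R N] [AddCommGroup N']
    [Module R N'] (f : N →ₗ[R] N') {ι : Type u} (Q : ι → Type u) [∀ i, AddCommGroup (Q i)]
    [∀ i, Module R (Q i)] (x : N ⊗[R] (∀ i, Q i)) (i : ι) :
    TensorProduct.piRightHom R R N' Q (LinearMap.rTensor (∀ i, Q i) f x) i =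
      LinearMap.rTensor (Q i) f (TensorProduct.piRightHom R R N Q x i) := by
  induction x with
  | zero => simp
  | tmul n q => simp
  | add x y hx hy => simp only [map_add, Pi.add_apply, hx, hy]

/-- If `M ⊗ R^M → (M ⊗ R)^M` is surjective then `M` is finite. -/
theorem finite_of_piRightHom_surjective_self (M : Type u) [AddCommGroup M] [Module R M]
    (h : Function.Surjective (TensorProduct.piRightHom R R M (fun _ : M => R))) :
    Module.Finite R M := by
  classical
  obtain ⟨x, hx⟩ := h (fun m => m ⊗ₜ[R] (1 : R))
  obtain ⟨S, hS⟩ := TensorProduct.exists_finset x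
  refine ⟨⟨S.image Prod.fst, ?_⟩⟩
  rw [eq_top_iff]
  intro m _
  have h1 := congrFun hx m
  rw [hS, map_sum, Finset.sum_apply] at h1
  have h2 := congrArg (TensorProduct.rid R M) h1
  rw [map_sum] at h2
  simp only [TensorProduct.piRightHom_tmul, TensorProduct.rid_tmul, one_smul] at h2
  rw [← h2]
  refine Submodule.sum_mem _ fun i hi => ?_
  refine Submodule.smul_mem _ _ (Submodule.subset_span ?_)
  exact Finset.mem_coe.mpr (Finset.mem_image.mpr ⟨i, hi, rfl⟩)

/-- `piRightHom` is injective when the left module is finite free `Fin n → R`. -/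
theorem piRightHom_injective_fin (n : ℕ) {ι : Type u} (Q : ι → Type u) [∀ i, AddCommGroup (Q i)]
    [∀ i, Module R (Q i)] :
    Function.Injective (TensorProduct.piRightHom R R (Fin n → R) Q) := by
  classical
  -- `e P : (Fin n → R) ⊗ P ≃ (Fin n → P)`
  let e : ∀ (P : Type u) [AddCommGroup P] [Module R P], (Fin n → R) ⊗[R] P ≃ₗ[R] (Fin n → P) :=
    fun P _ _ => (TensorProduct.comm R (Fin n → R) P) ≪≫ₗ TensorProduct.piScalarRight R R P (Fin n)
  have he : ∀ (P : Type u) [AddCommGroup P] [Module R P] (f : Fin n → R) (p : P) (k : Fin n),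
      e P (f ⊗ₜ p) k = f k • p := by
    intro P _ _ f p k
    simp [e]
  have key : ∀ (x : (Fin n → R) ⊗[R] (∀ i, Q i)) (k : Fin n) (i : ι),
      e (∀ i, Q i) x k i = e (Q i) (TensorProduct.piRightHom R R (Fin n → R) Q x i) k := by
    intro x k i
    induction x with
    | zero => simp
    | tmul f p => rw [he, TensorProduct.piRightHom_tmul, he]; rfl
    | add x y hx hy => simp only [map_add, Pi.add_apply, hx, hy]
  rw [injective_iff_map_eq_zero]
  intro x hx
  apply (e (∀ i, Q i)).injective
  rw [map_zero]
  funext k i
  rw [key, hx]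
  simp

theorem finitePresentation_iff_piRightHom_bijective (R : Type u) [CommRing R] (M : Type u)
    [AddCommGroup M] [Module R M] :
    Module.FinitePresentation R M ↔ ∀ (ι : Type u) (Q : ι → Type u) [∀ i, AddCommGroup (Q i)]
      [∀ i, Module R (Q i)], Function.Bijective (TensorProduct.piRightHom R R M Q) := by
  constructor
  · intro hM ι Q _ _
    have hfin : Module.Finite R M := inferInstance
    refine ⟨?_, (finite_iff_piRightHom_surjective R M).mp hfin ι Q⟩
    obtain ⟨n, π, hπ⟩ := Module.Finite.exists_fin' R M
    have hK : (LinearMap.ker π).FG := Module.FinitePresentation.fg_ker π hπ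
    have hKfin : Module.Finite R (LinearMap.ker π) := Module.Finite.iff_fg.mpr hK
    have hex : Function.Exact (LinearMap.ker π).subtype π := LinearMap.exact_subtype_ker_map π
    rw [injective_iff_map_eq_zero]
    intro c hc
    obtain ⟨b, rfl⟩ := LinearMap.rTensor_surjective (∀ i, Q i) hπ c
    have h1 : ∀ i, ∃ a : (LinearMap.ker π) ⊗[R] Q i,
        LinearMap.rTensor (Q i) (LinearMap.ker π).subtype a =
          TensorProduct.piRightHom R R (Fin n → R) Q b i := by
      intro i
      have := congrFun hc i
      rw [piRightHom_rTensor] at this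
      exact ((rTensor_exact (Q i) hex hπ) _).mp this
    choose a' ha' using h1
    obtain ⟨a, ha⟩ := (finite_iff_piRightHom_surjective R (LinearMap.ker π)).mp hKfin ι Q a'
    have h2 : LinearMap.rTensor (∀ i, Q i) (LinearMap.ker π).subtype a = b := by
      apply piRightHom_injective_fin n Q
      funext i
      rw [piRightHom_rTensor, ha, ha']
    rw [← h2]
    exact ((rTensor_exact (∀ i, Q i) hex hπ) _).mpr ⟨a, rfl⟩
  · intro h
    have hfin : Module.Finite R M :=
      (finite_iff_piRightHom_surjective R M).mpr fun ι Q _ _ => (h ι Q).2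
    obtain ⟨n, π, hπ⟩ := Module.Finite.exists_fin' R M
    have hex : Function.Exact (LinearMap.ker π).subtype π := LinearMap.exact_subtype_ker_map π
    refine Module.finitePresentation_of_free_of_surjective π hπ ?_
    have hKfin : Module.Finite R (LinearMap.ker π) := by
      apply finite_of_piRightHom_surjective_self
      intro a'
      let K := LinearMap.ker π
      have hFfin : Module.Finite R (Fin n → R) := inferInstance
      obtain ⟨b, hb⟩ := (finite_iff_piRightHom_surjective R (Fin n → R)).mp hFfin K (fun _ => R)
        (fun i => LinearMap.rTensor R K.subtype (a' i))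
      have h1 : LinearMap.rTensor (K → R) π b = 0 := by
        apply (h K (fun _ => R)).1
        rw [map_zero]
        funext i
        rw [piRightHom_rTensor, hb, Pi.zero_apply]
        exact ((rTensor_exact R hex hπ) _).mpr ⟨a' i, rfl⟩
      obtain ⟨a, ha⟩ := ((rTensor_exact (K → R) hex hπ) _).mp h1
      refine ⟨a, ?_⟩
      funext i
      have hinj : Function.Injective (LinearMap.rTensor R K.subtype) :=
        Module.Flat.rTensor_preserves_injective_linearMap _ K.injective_subtype
      apply hinj
      have h3 := piRightHom_rTensor K.subtype (fun _ : K => R) a i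
      rw [ha, hb] at h3
      exact h3.symm
    exact Module.Finite.iff_fg.mp hKfin

end

end Groth.Agent.Lead
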