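import Mathlib
import Groth.Agent.Lead.HartogsCor
import Groth.Agent.Lead.Hartogs2
import Groth.Agent.Lead.ParaFLib
import Groth.Agent.Helper5.NormDepth1
import Groth.Agent.Helper2.DepthCM3
import Groth.Agent.Helper4.FinLocFree2

set_option autoImplicit false
universe u
open CategoryTheory CategoryTheory.Limits AlgebraicGeometry TopologicalSpace Opposite
open IsLocalRing RingTheory.Sequence

namespace Groth.Agent.Lead.PicCodim2
open Groth.Agent.Helper4

/-- a normal Noetherian local domain of dimension at least two has depth at least two -/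
theorem two_le_depth (A : Type u) [CommRing A] [IsDomain A] [IsNoetherianRing A]
    [IsLocalRing A] [IsIntegrallyClosed A] (hdim : 2 ≤ ringKrullDim A) :
    (2 : ℕ∞) ≤ LocCoh.depth A A := by
  have hIM : maximalIdeal A • (⊤ : Submodule A A) ≠ ⊤ :=
    Groth.Agent.Helper2.Depth.smul_top_ne_top A A
  have hfin : LocCoh.depth A A ≠ ⊤ :=
    Groth.Agent.Helper2.DepthCM.idealDepth_ne_top (maximalIdeal A) A hIM
  obtain ⟨n, hn⟩ := ENat.ne_top_iff_exists.1 hfin
  have hfield : ¬ IsField A := by
    intro hfield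
    let _ := hfield.toField
    rw [ringKrullDim_eq_zero_of_field] at hdim
    have : (2 : WithBot ℕ∞) ≤ 0 := hdim
    have h2 : ((2 : ℕ∞) : WithBot ℕ∞) ≤ ((0 : ℕ∞) : WithBot ℕ∞) := this
    rw [WithBot.coe_le_coe] at h2
    simp at h2
  have hm : maximalIdeal A ≠ ⊥ := fun h => hfield (IsLocalRing.isField_iff_maximalIdeal_eq.2 h)
  obtain ⟨b, hbm, hb0⟩ := Submodule.exists_mem_ne_zero_of_ne_bot hm
  have hreg : IsSMulRegular A b := fun x y hxy => mul_left_cancel₀ hb0 hxy
  have h1 : (1 : ℕ∞) ≤ LocCoh.depth A A := by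
    have := Groth.Agent.Helper2.DepthCM3.length_le_idealDepth (I := maximalIdeal A) (M := A) [b]
      ((isWeaklyRegular_singleton_iff A b).2 hreg) (by simpa using hbm)
    unfold LocCoh.depth
    simpa using this
  have h2 : LocCoh.depth A A ≠ 1 := by
    intro h2
    have hdvr := Groth.Agent.Helper5.NormDepth.isDiscreteValuationRing_of_depth_one A h2
    rw [IsDiscreteValuationRing.ringKrullDim_eq_one] at hdim
    have h3 : ((2 : ℕ∞) : WithBot ℕ∞) ≤ ((1 : ℕ∞) : WithBot ℕ∞) := hdim
    rw [WithBot.coe_le_coe] at h3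
    have : (2 : ℕ) ≤ 1 := by exact_mod_cast h3
    omega
  rw [← hn] at h1 h2 ⊢
  have h1' : 1 ≤ n := by exact_mod_cast h1
  have h2' : n ≠ 1 := by
    intro h
    apply h2
    rw [h]
    rfl
  have : 2 ≤ n := by omega
  exact_mod_cast this

variable {T : Scheme.{u}}

/-- the stalk of an invertible module has the depth of the local ring -/
theorem depth_invertible (L : T.Modules) [L.IsQuasicoherent] (hL : PicF.IsInvertible L) (x : T) :
    LocCoh.depth (T.presheaf.stalk x) (L.presheaf.stalk x) =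
      LocCoh.depth (T.presheaf.stalk x) (T.presheaf.stalk x) := by
  obtain ⟨V, hxV, ⟨e⟩⟩ := hL x
  have hV : FinLocFree.IsFreeAlong L V.ι 1 :=
    ⟨e ≪≫ (Limits.coproductUniqueIso (fun _ : Fin 1 => Coh.structureModule (↑V))).symm⟩
  obtain ⟨b⟩ := FinLocFree2.nonempty_basis_stalk_of_isFreeAlong L hV x hxV
  exact Groth.Agent.Helper9.ReflKer.idealDepth_congr _
    (b.equivFun.trans (LinearEquiv.funUnique (Fin 1) (T.presheaf.stalk x) (T.presheaf.stalk x)))

/-- S7885 -/
theorem main [IsLocallyNoetherian T]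
    (hT : ∀ x : T, IsDomain (T.presheaf.stalk x) ∧ IsIntegrallyClosed (T.presheaf.stalk x))
    (U : T.Opens) (hU : ∀ x : T, x ∉ (U : Set T) → 2 ≤ ringKrullDim (T.presheaf.stalk x))
    (L : T.Modules) (hL : PicF.IsInvertible L) :
    Function.Bijective (L.val.map (homOfLE (le_top (a := U))).op) ∧
      (Nonempty (L.restrict U.ι ≅ Coh.structureModule (U : Scheme.{u})) →
        Nonempty (L ≅ Coh.structureModule T)) := by
  have hcoh : Coh.IsCoh L := Groth.Agent.Lead.PerfLib.isCoh_of_isFinLocFree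
    (Groth.Agent.Lead.ParaFLib.isFinLocFree_of_isInvertible L hL)
  haveI : L.IsQuasicoherent := hcoh.1
  have hdO : ∀ x : T, x ∉ U →
      (2 : ℕ∞) ≤ LocCoh.depth (T.presheaf.stalk x) (T.presheaf.stalk x) := by
    intro x hx
    haveI := (hT x).1
    haveI := (hT x).2
    exact two_le_depth _ (hU x hx)
  have hdL : ∀ x : T, x ∉ U →
      (2 : ℕ∞) ≤ LocCoh.depth (T.presheaf.stalk x) (L.presheaf.stalk x) := by
    intro x hx
    rw [depth_invertible L hL x]
    exact hdO x hx
  refine ⟨?_, ?_⟩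
  · have h := Hartogs.main U L hcoh hdL ⊤
    have e2 : (⊤ : T.Opens) ⊓ U = U := top_inf_eq U
    exact (ExtFree.bij_congr L rfl e2 _ _).mp h
  · rintro ⟨e⟩
    haveI h1 := HartogsCor.isIso_unit_of_depth U L hcoh hdL
    have hcohO : Coh.IsCoh (Coh.structureModule T) :=
      Groth.Agent.Lead.PerfLib.isCoh_of_isFinLocFree FinLocFree6.isFinLocFree_unit
    haveI h2 := HartogsCor.isIso_unit_of_depth U (Coh.structureModule T) hcohO
      (fun x hx => by rw [Hartogs2.depth_unit]; exact hdO x hx)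
    exact ⟨asIso ((Scheme.Modules.restrictAdjunction U.ι).unit.app L) ≪≫
      (Scheme.Modules.pushforward U.ι).mapIso (e ≪≫ (Scheme.Modules.restrictUnitIso U.ι).symm) ≪≫
      (asIso ((Scheme.Modules.restrictAdjunction U.ι).unit.app (Coh.structureModule T))).symm⟩

end Groth.Agent.Lead.PicCodim2
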