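import Groth.Agent.Lead.PicSemiA
import Groth.Agent.Lead.ProperFinA
import Groth.Prelude.Def_PicGrp

set_option autoImplicit false
open CategoryTheory CategoryTheory.Limits AlgebraicGeometry Opposite TopologicalSpace
universe u

namespace Groth.Agent.Lead.PicFin
open Scheme.Modules

/-- S0232 -/
theorem main (k : Type u) [Field k] (X : Scheme.{u}) [X.Over (Spec (CommRingCat.of k))]
    [CompactSpace X] [QuasiSeparatedSpace X]
    (hfin : Module.Finite k (Coh.HH X (Coh.structureModule X) 0))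
    (k' : Type u) [Field k'] [Algebra k k'] (X' : Scheme.{u}) (g : X' ⟶ X) (q : X' ⟶ Spec (CommRingCat.of k'))
    (hpb : IsPullback g q (X ↘ Spec (CommRingCat.of k)) (Spec.map (CommRingCat.ofHom (algebraMap k k'))))
    (L : X.Modules) (hL : PicF.IsInvertible L) (htriv : PicF.IsTrivialCl (PicF.pullCl g (PicF.cl L))) :
    PicF.IsTrivialCl (PicF.cl L) := by
  obtain ⟨e⟩ := (PicGrp.cl_eq_cl_iff _ _).mp htriv
  have e : (Scheme.Modules.pullback g).obj L ≅ Coh.structureModule X' := e
  apply (PicGrp.cl_eq_cl_iff _ _).mpr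
  set p := X ↘ Spec (CommRingCat.of k) with hp
  have hF := Groth.Agent.Lead.ProperFinA.finite_toGlobal p hfin
  letI alg : Algebra k Γ(X, ⊤) :=
    (p.appTop.hom.comp (Scheme.ΓSpecIso (CommRingCat.of k)).inv.hom).toAlgebra
  haveI : Module.Finite k Γ(X, ⊤) := hF
  haveI : IsArtinianRing Γ(X, ⊤) := IsArtinianRing.of_finite k Γ(X, ⊤)
  have hsl : Finite (MaximalSpectrum Γ(X, ⊤)) := inferInstance
  let i := hpb.isoPullback
  have hi : pullback.fst p (Spec.map (CommRingCat.ofHom (algebraMap k k'))) = i.inv ≫ g :=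
    (hpb.isoPullback_inv_fst).symm
  exact Groth.Agent.Lead.PicSemi.main k k' X p hsl L hL
    ⟨(pullbackCongr hi).app L ≪≫ ((pullbackComp i.inv g).symm.app L) ≪≫
      (Scheme.Modules.pullback i.inv).mapIso e ≪≫ Groth.Agent.Lead.PicCompl.pullbackUnitIso i.inv⟩

end Groth.Agent.Lead.PicFin
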