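import Groth.Agent.Lead.CnSplitB
import Groth.Agent.Helper4.QAffSec
import Groth.Prelude
import Mathlib

set_option autoImplicit false
set_option backward.isDefEq.respectTransparency false
set_option backward.isDefEq.respectTransparency.types false
set_option linter.style.haveILetI false
set_option linter.unusedSectionVars false
set_option linter.unusedVariables false
open CategoryTheory CategoryTheory.Limits AlgebraicGeometry Opposite TopologicalSpace
universe u

namespace Groth.Agent.Lead.PrincOrd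

open Scheme.Modules OmegaSh Groth.Agent.Lead Groth.Agent.Helper4

variable {C : Scheme.{u}} (I : C.IdealSheafData)

theorem sq_zero (hI : I ^ 2 = ⊥) (U : C.affineOpens) : (I.ideal U) ^ 2 = ⊥ := by
  have h := congrArg (fun J : C.IdealSheafData => J.ideal U) hI
  exact h

theorem ker_app {U : C.Opens} (hU : IsAffineOpen U) :
    RingHom.ker (I.subschemeι.app U).hom = I.ideal ⟨U, hU⟩ := by
  rw [← I.subschemeι.ker_apply ⟨U, hU⟩, Scheme.IdealSheafData.ker_subschemeι]

theorem surj_app {U : C.Opens} (hU : IsAffineOpen U) :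
    Function.Surjective (I.subschemeι.app U) :=
  (isClosedImmersion_iff_isAffineHom.mp (inferInstance : IsClosedImmersion I.subschemeι)).2 U hU

/-- a generator `z` of `I(U)` whose annihilator lies in `I(U)` gives a basis of the conormal
sections. -/
theorem basis_of_gen (hI : I ^ 2 = ⊥) {U : C.Opens} (hU : IsAffineOpen U) (z : Γ(C, U))
    (hz : I.ideal ⟨U, hU⟩ = Ideal.span {z})
    (hann : ∀ a : Γ(C, U), a * z = 0 → a ∈ I.ideal ⟨U, hU⟩) :
    Nonempty (Module.Basis (Fin 1) Γ(I.subscheme, I.subschemeι ⁻¹ᵁ U)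
      Γ(Omega.conormal I.subschemeι, I.subschemeι ⁻¹ᵁ U)) := by
  have hO : IsAffineOpen (I.subschemeι ⁻¹ᵁ U) := hU.preimage I.subschemeι
  have hsurj := surj_app I hU
  have hker := ker_app I hU
  have hzI : I.subschemeι.app U z = 0 := by
    have : z ∈ RingHom.ker (I.subschemeι.app U).hom := by
      rw [hker, hz]
      exact Ideal.mem_span_singleton_self z
    exact this
  obtain ⟨σ, hσ⟩ := OmegaCnB.exists_idealSect I.subschemeι hU z hzI
  let v : Fin 1 → Γ(Omega.conormal I.subschemeι, I.subschemeι ⁻¹ᵁ U) :=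
    fun _ => conormalSect I.subschemeι U σ
  have hli : LinearIndependent Γ(I.subscheme, I.subschemeι ⁻¹ᵁ U) v := by
    rw [Fintype.linearIndependent_iff]
    intro g hg k
    obtain ⟨a, ha⟩ := hsurj (g 0)
    have h1 : conormalSect I.subschemeι U (a • σ) = 0 := by
      rw [OmegaCnG.conormalSect_smul, Scheme.Hom.appLE_eq_app, ha]
      simpa [v] using hg
    have h2 := OmegaCnF.idealSect_mem_sq I.subschemeι hU hO hsurj _ h1
    rw [hker, sq_zero I hI ⟨U, hU⟩, OmegaCnC.idealSect_smul, hσ] at h2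
    have h3 : a ∈ I.ideal ⟨U, hU⟩ := hann a h2
    rw [← hker, RingHom.mem_ker] at h3
    have hk : k = 0 := Subsingleton.elim _ _
    rw [hk, ← ha]
    exact h3
  have hsp : ⊤ ≤ Submodule.span Γ(I.subscheme, I.subschemeι ⁻¹ᵁ U) (Set.range v) := by
    rintro t -
    obtain ⟨τ, rfl⟩ := OmegaCnH.exists_conormalSect I.subschemeι hU hO hsurj t
    have hτ : idealSect I.subschemeι.ker U τ ∈ Ideal.span {z} := by
      rw [← hz, ← hker]
      exact OmegaCnB.app_idealSect I.subschemeι hU τ
    obtain ⟨c, hc⟩ := Ideal.mem_span_singleton'.mp hτ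
    have hτ' : τ = c • σ := by
      apply OmegaCnC.idealSect_injective I.subschemeι U
      rw [OmegaCnC.idealSect_smul, hσ, hc]
    rw [hτ', OmegaCnG.conormalSect_smul]
    exact Submodule.smul_mem _ _ (Submodule.subset_span ⟨0, rfl⟩)
  exact ⟨Module.Basis.mk hli hsp⟩

theorem fwd (hI : I ^ 2 = ⊥) (h : MultCurve.IsPrincipalOfOrder I 2) :
    PicF.IsInvertible (Omega.conormal I.subschemeι) := by
  intro y
  obtain ⟨U, hxU, z, hz, hann⟩ := h (I.subschemeι y)
  haveI : (Omega.conormal I.subschemeι).IsQuasicoherent :=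
    StalkPull.isQuasicoherent_pullbackObj I.subschemeι (ClSub.idealMod I.subschemeι.ker)
  have hO : IsAffineOpen (I.subschemeι ⁻¹ᵁ U.1) := U.2.preimage I.subschemeι
  obtain ⟨b⟩ := basis_of_gen I hI U.2 z hz (fun a ha => hann a (by
    rw [show (2 - 1 : ℕ) = 1 from rfl, pow_one]
    exact ha))
  obtain ⟨e⟩ := (FinLocFree.isFreeAlong_ι_iff_basis hO (Omega.conormal I.subschemeι)).mpr ⟨b⟩
  exact ⟨I.subschemeι ⁻¹ᵁ U.1, hxU, ⟨e ≪≫ QAffSec.freeOneIso _⟩⟩

theorem bwd (hI : I ^ 2 = ⊥) (h : PicF.IsInvertible (Omega.conormal I.subschemeι)) :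
    MultCurve.IsPrincipalOfOrder I 2 := by
  intro x
  have hsupp : I.support = ⊤ := by
    have h1 := Scheme.IdealSheafData.support_pow_succ I 1
    rw [show (1 + 1 : ℕ) = 2 from rfl, hI, Scheme.IdealSheafData.support_bot] at h1
    exact h1.symm
  have hx : x ∈ Set.range I.subschemeι := by
    rw [Scheme.IdealSheafData.range_subschemeι, hsupp]
    trivial
  obtain ⟨y, rfl⟩ := hx
  obtain ⟨W, hyW, ⟨e⟩⟩ := h y
  obtain ⟨t, ht, htW⟩ := I.subschemeι.isEmbedding.isOpen_iff.mp W.isOpen
  have hyt : I.subschemeι y ∈ t := by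
    have : y ∈ (I.subschemeι ⁻¹' t) := by rw [htW]; exact hyW
    exact this
  obtain ⟨_, ⟨U, hU : IsAffineOpen U, rfl⟩, hxU, hUt⟩ :=
    C.isBasis_affineOpens.exists_subset_of_mem_open hyt ht
  have hle : I.subschemeι ⁻¹ᵁ U ≤ W := by
    intro w hw
    have : w ∈ (I.subschemeι ⁻¹' t) := hUt hw
    rw [htW] at this
    exact this
  haveI : (Omega.conormal I.subschemeι).IsQuasicoherent :=
    StalkPull.isQuasicoherent_pullbackObj I.subschemeι (ClSub.idealMod I.subschemeι.ker)
  have hO : IsAffineOpen (I.subschemeι ⁻¹ᵁ U) := hU.preimage I.subschemeι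
  have hfree : FinLocFree.IsFreeAlong (Omega.conormal I.subschemeι) W.ι 1 :=
    ⟨e ≪≫ (QAffSec.freeOneIso _).symm⟩
  obtain ⟨b⟩ := (FinLocFree.isFreeAlong_ι_iff_basis hO _).mp (hfree.of_le hle)
  obtain ⟨σ, hσ⟩ := OmegaCnH.exists_conormalSect I.subschemeι hU hO (surj_app I hU) (b 0)
  refine ⟨⟨U, hU⟩, hxU, idealSect I.subschemeι.ker U σ, ?_, ?_⟩
  · apply le_antisymm
    · intro y' hy'
      rw [← ker_app I hU] at hy'
      obtain ⟨τ, hτ⟩ := OmegaCnB.exists_idealSect I.subschemeι hU y' hy'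
      have hrep : conormalSect I.subschemeι U τ =
          (b.repr (conormalSect I.subschemeι U τ) 0) • b 0 := by
        conv_lhs => rw [← b.sum_repr (conormalSect I.subschemeι U τ)]
        simp
      obtain ⟨a, ha⟩ := surj_app I hU (b.repr (conormalSect I.subschemeι U τ) 0)
      have h1 : conormalSect I.subschemeι U (τ - a • σ) = 0 := by
        rw [map_sub, OmegaCnG.conormalSect_smul, Scheme.Hom.appLE_eq_app, ha, hσ, ← hrep,
          sub_self]
      have h2 := OmegaCnF.idealSect_mem_sq I.subschemeι hU hO (surj_app I hU) _ h1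
      rw [ker_app I hU, sq_zero I hI ⟨U, hU⟩, map_sub, OmegaCnC.idealSect_smul, hτ] at h2
      rw [Ideal.mem_bot, sub_eq_zero] at h2
      rw [h2]
      exact Ideal.mul_mem_left _ _ (Ideal.mem_span_singleton_self _)
    · rw [Ideal.span_singleton_le_iff_mem, ← ker_app I hU]
      exact OmegaCnB.app_idealSect I.subschemeι hU σ
  · intro a ha
    rw [show (2 - 1 : ℕ) = 1 from rfl, pow_one, ← OmegaCnC.idealSect_smul] at ha
    have h0 : a • σ = 0 := OmegaCnC.idealSect_injective I.subschemeι U (by rw [ha, map_zero])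
    have h1 : (I.subschemeι.app U a) • b 0 = 0 := by
      rw [← hσ, ← Scheme.Hom.appLE_eq_app, ← OmegaCnG.conormalSect_smul, h0, map_zero]
    have h2 : I.subschemeι.app U a = 0 := by
      have hli := b.linearIndependent
      rw [Fintype.linearIndependent_iff] at hli
      exact hli (fun _ => I.subschemeι.app U a) (by simpa using h1) 0
    rw [← ker_app I hU]
    exact h2

theorem main (hI : I ^ 2 = ⊥) :
    MultCurve.IsPrincipalOfOrder I 2 ↔ PicF.IsInvertible (Omega.conormal I.subschemeι) :=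
  ⟨fwd I hI, bwd I hI⟩

end Groth.Agent.Lead.PrincOrd
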