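import Mathlib
import Groth.Agent.S0499
import Groth.Agent.Helper8.FEtClopen
import Groth.Agent.Helper3.GrpTransl

/-!
# Proper schemes over a henselian local ring with geometrically connected closed fibre

`FEt.restrict f` is fully faithful for `f : X ⟶ Spec A` proper, `A` henselian local, with connected
geometric closed fibre.
-/

set_option autoImplicit false
set_option linter.style.haveILetI false
set_option linter.unusedSectionVars false
universe u

namespace Groth.Agent.Lead.PropConnA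

open CategoryTheory CategoryTheory.Limits AlgebraicGeometry Opposite TopologicalSpace

/-- A purely topological descent lemma for clopen subsets along a closed map whose fibres over the
"centres" of a finite clopen cover are preconnected. -/
theorem exists_clopen_descent {P W ι : Type*} [TopologicalSpace P] [TopologicalSpace W] [Finite ι]
    (Wc : ι → Set W) (hWc : ∀ i, IsClopen (Wc i)) (hcov : ∀ w, ∃ i, w ∈ Wc i)
    (c : ι → W) (hc : ∀ i, ∀ w ∈ Wc i, w ⤳ c i)
    (p : P → W) (hp : Continuous p) (hpc : IsClosedMap p)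
    (hfib : ∀ i, _root_.IsPreconnected (p ⁻¹' {c i})) (T₀ : Set P) (hT₀ : IsClopen T₀) :
    ∃ T : Set W, IsClopen T ∧ p ⁻¹' T = T₀ := by
  classical
  have key : ∀ i, (p ⁻¹' (Wc i) ∩ T₀).Nonempty → p ⁻¹' (Wc i) ⊆ T₀ := by
    rintro i ⟨z₁, hz₁W, hz₁T⟩ z₂ hz₂W
    by_contra hz₂T
    have hcl1 : IsClosed (p '' (p ⁻¹' (Wc i) ∩ T₀)) :=
      hpc _ (((hWc i).1.preimage hp).inter hT₀.1)
    have hcl2 : IsClosed (p '' (p ⁻¹' (Wc i) ∩ T₀ᶜ)) :=
      hpc _ (((hWc i).1.preimage hp).inter hT₀.compl.1)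
    have h1 : c i ∈ p '' (p ⁻¹' (Wc i) ∩ T₀) :=
      (hc i (p z₁) hz₁W).mem_closed hcl1 ⟨z₁, ⟨hz₁W, hz₁T⟩, rfl⟩
    have h2 : c i ∈ p '' (p ⁻¹' (Wc i) ∩ T₀ᶜ) :=
      (hc i (p z₂) hz₂W).mem_closed hcl2 ⟨z₂, ⟨hz₂W, hz₂T⟩, rfl⟩
    obtain ⟨a, ⟨-, haT⟩, hac⟩ := h1
    obtain ⟨b, ⟨-, hbT⟩, hbc⟩ := h2
    have hsub := (hfib i).subset_isClopen hT₀ ⟨a, hac, haT⟩
    exact hbT (hsub hbc)
  refine ⟨⋃ i ∈ {i | p ⁻¹' (Wc i) ⊆ T₀}, Wc i, ?_, ?_⟩
  · exact Set.Finite.isClopen_biUnion (Set.toFinite {i | p ⁻¹' (Wc i) ⊆ T₀}) (fun i _ => hWc i)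
  · ext z
    simp only [Set.mem_preimage, Set.mem_iUnion, Set.mem_setOf_eq, exists_prop]
    constructor
    · rintro ⟨i, hi, hz⟩
      exact hi hz
    · intro hz
      obtain ⟨i, hi⟩ := hcov (p z)
      exact ⟨i, key i ⟨z, hi, hz⟩, hi⟩

theorem henselianLocalRing_of_complete (A : Type u) [CommRing A] [IsLocalRing A]
    [IsAdicComplete (IsLocalRing.maximalIdeal A) A] : HenselianLocalRing A :=
  { is_henselian := fun f hf a₀ h1 h2 =>
      HenselianRing.is_henselian (I := IsLocalRing.maximalIdeal A) f hf a₀ h1 (h2.map _) }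

/-- A finite scheme over a henselian local ring is a finite union of clopen "local" pieces. -/
theorem exists_local_decomp {A : Type u} [CommRing A] [HenselianLocalRing A] {W : Scheme.{u}}
    (q : W ⟶ Spec (CommRingCat.of A)) [IsFinite q] :
    ∃ (ι : Type u) (_ : Finite ι) (Wc : ι → Set W) (c : ι → W),
      (∀ i, IsClopen (Wc i)) ∧ (∀ w, ∃ i, w ∈ Wc i) ∧ (∀ i, ∀ w ∈ Wc i, w ⤳ c i) ∧
      (∀ i, IsClosed ({c i} : Set W)) := by
  haveI : IsAffine W := isAffine_of_isAffineHom q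
  obtain ⟨ρ, hρ⟩ := Spec.map_surjective (W.isoSpec.inv ≫ q)
  have hfin : ρ.hom.Finite := by
    rw [← IsFinite.SpecMap_iff, hρ]
    infer_instance
  letI : Algebra A Γ(W, ⊤) := ρ.hom.toAlgebra
  haveI : Module.Finite A Γ(W, ⊤) := hfin
  obtain ⟨ι, _, R, _, hloc, ⟨e⟩⟩ := Groth.Agent.S0499.result A Γ(W, ⊤)
  haveI := hloc
  let φ : W ≃ₜ Σ i, PrimeSpectrum (R i) :=
    (Scheme.homeoOfIso W.isoSpec).trans
      ((PrimeSpectrum.homeomorphOfRingEquiv e).trans (PrimeSpectrum.sigmaToPiHomeo R).symm)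
  refine ⟨ι, inferInstance, fun i => φ ⁻¹' (Set.range (Sigma.mk i)),
    fun i => φ.symm ⟨i, IsLocalRing.closedPoint (R i)⟩, ?_, ?_, ?_, ?_⟩
  · intro i
    exact (isClopen_range_sigmaMk).preimage φ.continuous
  · intro w
    exact ⟨(φ w).1, ⟨(φ w).2, rfl⟩⟩
  · rintro i w ⟨y, hy⟩
    have h1 : y ⤳ IsLocalRing.closedPoint (R i) := IsLocalRing.specializes_closedPoint y
    have h2 : (Sigma.mk i y : Σ i, PrimeSpectrum (R i)) ⤳ ⟨i, IsLocalRing.closedPoint (R i)⟩ :=
      h1.map continuous_sigmaMk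
    have h3 := h2.map φ.symm.continuous
    rw [hy, φ.symm_apply_apply] at h3
    exact h3
  · intro i
    have h0 : IsClosed ({IsLocalRing.closedPoint (R i)} : Set (PrimeSpectrum (R i))) :=
      (PrimeSpectrum.isClosed_singleton_iff_isMaximal _).2
        (show (IsLocalRing.maximalIdeal (R i)).IsMaximal from inferInstance)
    have h1 : IsClosed ({(⟨i, IsLocalRing.closedPoint (R i)⟩ : Σ i, PrimeSpectrum (R i))}) := by
      have := (isClosedMap_sigmaMk (σ := fun i => PrimeSpectrum (R i)) (i := i)) _ h0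
      rwa [Set.image_singleton] at this
    have h2 := h1.preimage φ.continuous
    convert h2 using 1
    ext w
    simp only [Set.mem_singleton_iff, Set.mem_preimage]
    exact φ.toEquiv.eq_symm_apply

/-- A closed point of a finite `S`-scheme lying over a geometric point `ξ` lifts to a geometric
point. -/
theorem exists_geom_point {S W : Scheme.{u}} (q : W ⟶ S) [IsFinite q] {Ω : Type u} [Field Ω]
    [IsAlgClosed Ω] (ξ : Spec (CommRingCat.of Ω) ⟶ S) (c : W) (hc : IsClosed ({c} : Set W))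
    (hcξ : q c ∈ Set.range ξ) :
    ∃ σ : Spec (CommRingCat.of Ω) ⟶ W, σ ≫ q = ξ ∧ ∀ a, σ a = c := by
  obtain ⟨a, ha⟩ := hcξ
  obtain ⟨z, hz1, hz2⟩ := Scheme.Pullback.exists_preimage_pullback (f := q) (g := ξ) c a ha.symm
  haveI : JacobsonSpace ↥(pullback q ξ) := LocallyOfFiniteType.jacobsonSpace (pullback.snd q ξ)
  obtain ⟨w, hwZ, hw⟩ := nonempty_inter_closedPoints (X := ↥(pullback q ξ))
    (Z := (pullback.fst q ξ) ⁻¹' {c}) ⟨z, hz1⟩
    (hc.preimage (pullback.fst q ξ).continuous).isLocallyClosed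
  obtain ⟨τ, hτ1, hτ2⟩ :=
    Groth.Agent.Helper3.GrpTransl.exists_section_of_closed Ω (pullback.snd q ξ) w hw
  refine ⟨τ ≫ pullback.fst q ξ, ?_, ?_⟩
  · rw [Category.assoc, pullback.condition, ← Category.assoc, hτ1, Category.id_comp]
  · intro a
    rw [Scheme.Hom.comp_apply, hτ2]
    exact hwZ

/-- The fibre of the base change of `f` over the image of a geometric point `σ` above `ξ` is
preconnected when the geometric fibre of `f` at `ξ` is connected. -/
theorem isPreconnected_fibre {X S W P : Scheme.{u}} (f : X ⟶ S) (q : W ⟶ S) (p1 : P ⟶ W)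
    (p2 : P ⟶ X) (hP : IsPullback p1 p2 q f) {Ω : Type u} [Field Ω]
    (ξ : Spec (CommRingCat.of Ω) ⟶ S) [ConnectedSpace ↥(pullback f ξ)]
    (σ : Spec (CommRingCat.of Ω) ⟶ W) (hσ : σ ≫ q = ξ) (c : W) (hσc : ∀ a, σ a = c) :
    _root_.IsPreconnected (p1 ⁻¹' {c}) := by
  let τ : pullback f ξ ⟶ P := hP.lift (pullback.snd f ξ ≫ σ) (pullback.fst f ξ)
    (by rw [Category.assoc, hσ, pullback.condition])
  have hτ1 : τ ≫ p1 = pullback.snd f ξ ≫ σ := hP.lift_fst _ _ _
  have hτ2 : τ ≫ p2 = pullback.fst f ξ := hP.lift_snd _ _ _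
  have hout : IsPullback (τ ≫ p2) (pullback.snd f ξ) f (σ ≫ q) := by
    rw [hτ2, hσ]
    exact IsPullback.of_hasPullback f ξ
  have hL : IsPullback τ (pullback.snd f ξ) p1 σ := IsPullback.of_right hout hτ1 hP.flip
  have hrange : Set.range τ = p1 ⁻¹' {c} := by
    apply Set.Subset.antisymm
    · rintro _ ⟨z, rfl⟩
      show p1 (τ z) = c
      rw [← Scheme.Hom.comp_apply, hτ1, Scheme.Hom.comp_apply]
      exact hσc _
    · intro y hy
      have hy' : p1 y = c := hy
      let a : Spec (CommRingCat.of Ω) := (⟨⊥, Ideal.isPrime_bot⟩ : PrimeSpectrum Ω)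
      obtain ⟨w, hw1, hw2⟩ := Scheme.Pullback.exists_preimage_pullback (f := p1) (g := σ) y a
        (hy'.trans (hσc a).symm)
      refine ⟨hL.isoPullback.inv w, ?_⟩
      rw [← Scheme.Hom.comp_apply, IsPullback.isoPullback_inv_fst]
      exact hw1
  rw [← hrange]
  exact isPreconnected_range τ.continuous

section Main

variable (A : Type u) [CommRing A] [HenselianLocalRing A] {X : Scheme.{u}}
  (f : X ⟶ Spec (CommRingCat.of A)) [IsProper f]
  (ξ : Spec (CommRingCat.of (AlgebraicClosure (IsLocalRing.ResidueField A))) ⟶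
    Spec (CommRingCat.of A))
  (hξ : ξ = Spec.map (CommRingCat.ofHom ((algebraMap (IsLocalRing.ResidueField A)
      (AlgebraicClosure (IsLocalRing.ResidueField A))).comp (IsLocalRing.residue A))))
  [ConnectedSpace ↥(pullback f ξ)]

include hξ in
theorem xi_apply (a : Spec (CommRingCat.of (AlgebraicClosure (IsLocalRing.ResidueField A)))) :
    ξ a = IsLocalRing.closedPoint A := by
  subst hξ
  exact IsLocalRing.PrimeSpectrum.comap_residue A
    (PrimeSpectrum.comap (algebraMap (IsLocalRing.ResidueField A)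
      (AlgebraicClosure (IsLocalRing.ResidueField A))) a)

include hξ in
theorem hE : Groth.Agent.Helper8.FEtClopen.HE f := by
  intro Y h _ _ C hC hCX
  by_contra hne
  obtain ⟨y, hy⟩ := Set.nonempty_iff_ne_empty.mpr hne
  have hcl : IsClosed (h '' C) := h.isClosedMap _ hC.1
  have hm : IsLocalRing.closedPoint A ∈ h '' C :=
    (IsLocalRing.specializes_closedPoint (h y)).mem_closed hcl ⟨y, hy, rfl⟩
  obtain ⟨y', hy'C, hy'⟩ := hm
  obtain ⟨z₀⟩ := (inferInstance : Nonempty ↥(pullback f ξ))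
  have hfx : f (pullback.fst f ξ z₀) = IsLocalRing.closedPoint A := by
    rw [← Scheme.Hom.comp_apply, pullback.condition, Scheme.Hom.comp_apply]
    exact xi_apply A ξ hξ _
  obtain ⟨z, hz1, hz2⟩ := Scheme.Pullback.exists_preimage_pullback (f := h) (g := f) y'
    (pullback.fst f ξ z₀) (hy'.trans hfx.symm)
  have hz : z ∈ (pullback.fst h f) ⁻¹' C := by
    rw [Set.mem_preimage, hz1]
    exact hy'C
  rw [hCX] at hz
  exact hz

include hξ in
theorem hA : Groth.Agent.Helper8.FEtClopen.HA f := by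
  intro W P q _ _ p1 p2 hP T₀ hT₀
  obtain ⟨ι, _, Wc, c, hWc, hcov, hc, hcl⟩ := exists_local_decomp q
  haveI : IsProper p1 := MorphismProperty.of_isPullback (P := @IsProper) hP.flip inferInstance
  refine exists_clopen_descent Wc hWc hcov c hc p1 p1.continuous p1.isClosedMap ?_ T₀ hT₀
  intro i
  have hqc : q (c i) ∈ Set.range ξ := by
    have h1 : IsClosed ({q (c i)} : Set ↥(Spec (CommRingCat.of A))) := by
      have := q.isClosedMap _ (hcl i)
      rwa [Set.image_singleton] at this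
    have h2 : q (c i) = IsLocalRing.closedPoint A := by
      have hs : q (c i) ⤳ IsLocalRing.closedPoint A := IsLocalRing.specializes_closedPoint _
      have := hs.mem_closed h1 rfl
      exact this.symm
    let a : Spec (CommRingCat.of (AlgebraicClosure (IsLocalRing.ResidueField A))) :=
      (⟨⊥, Ideal.isPrime_bot⟩ : PrimeSpectrum (AlgebraicClosure (IsLocalRing.ResidueField A)))
    exact ⟨a, (xi_apply A ξ hξ a).trans h2.symm⟩
  obtain ⟨σ, hσ1, hσ2⟩ := exists_geom_point q ξ (c i) (hcl i) hqc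
  exact isPreconnected_fibre f q p1 p2 hP ξ σ hσ1 (c i) hσ2

include hξ in
theorem main : (FEt.restrict f).Full ∧ (FEt.restrict f).Faithful :=
  Groth.Agent.Helper8.FEtClopen.main (f := f) (hE A f ξ hξ) (hA A f ξ hξ)

end Main

end Groth.Agent.Lead.PropConnA
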