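import Mathlib
import Groth.Agent.Lead.PropNormA

set_option autoImplicit false
set_option linter.style.haveILetI false
set_option linter.unusedSectionVars false

universe u

open CategoryTheory CategoryTheory.Limits AlgebraicGeometry TopologicalSpace Opposite

namespace Groth.Agent.Lead.PropNormB

open Groth.Agent.Lead.PropNormA

variable {X Y : Scheme.{u}} [IsIntegral X] [IsIntegral Y]

theorem mem_range_of_isIntegralElem (hX : Pi1.IsNormalScheme X) (f : X ⟶ Y)
    (hdom : f.base (genericPoint X) ⤳ genericPoint Y) (V : Y.Opens) (hV : IsAffineOpen V)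
    (hηV : genericPoint Y ∈ V)
    (hsurj : Function.Surjective (f.app V)) (x : X.functionField)
    (hx : (CohIII.stalkToFunctionField f (genericPoint Y) hdom).IsIntegralElem x) :
    x ∈ (CohIII.stalkToFunctionField f (genericPoint Y) hdom).range := by
  set φ := CohIII.stalkToFunctionField f (genericPoint Y) hdom with hφdef
  have hφ := stalkToFunctionField_injective f hdom
  haveI : Nonempty V := ⟨⟨_, hηV⟩⟩
  haveI := functionField_isFractionRing_of_isAffineOpen Y V hV
  letI : Algebra Y.functionField X.functionField := φ.toAlgebra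
  letI : Algebra Γ(Y, V) X.functionField :=
    (φ.comp (algebraMap Γ(Y, V) Y.functionField)).toAlgebra
  haveI : IsScalarTower Γ(Y, V) Y.functionField X.functionField :=
    IsScalarTower.of_algebraMap_eq (fun _ => rfl)
  have hx' : IsIntegral Y.functionField x := hx
  obtain ⟨m, hm⟩ := IsIntegral.exists_multiple_integral_of_isLocalization
    (nonZeroDivisors Γ(Y, V)) x hx'
  have halg : ∀ a : Γ(Y, V), algebraMap Γ(Y, V) Y.functionField a =
      Y.presheaf.germ V (genericPoint Y) hηV a := fun a => rfl
  have hηX : genericPoint X ∈ f ⁻¹ᵁ V := hdom.mem_open V.isOpen hηV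
  have halgX : ∀ a : Γ(Y, V), algebraMap Γ(Y, V) X.functionField a =
      X.presheaf.germ (f ⁻¹ᵁ V) (genericPoint X) hηX (f.app V a) := by
    intro a
    change φ (algebraMap Γ(Y, V) Y.functionField a) = _
    rw [halg, stalkToFunctionField_germ f hdom V hηV a]
  obtain ⟨q, hq, hqx⟩ := hm
  have hreg : ∀ ξ ∈ f ⁻¹ᵁ V, (m • x) ∈
      Set.range (algebraMap (X.presheaf.stalk ξ) X.functionField) := by
    intro ξ hξ
    haveI := (hX ξ).1
    haveI : IsIntegrallyClosed (X.presheaf.stalk ξ) := (hX ξ).2
    have hint : IsIntegral (X.presheaf.stalk ξ) (m • x) := by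
      refine ⟨q.map ((X.presheaf.germ (f ⁻¹ᵁ V) ξ hξ).hom.comp (f.app V).hom), hq.map _, ?_⟩
      rw [Polynomial.eval₂_map]
      have h2 : (algebraMap (X.presheaf.stalk ξ) X.functionField).comp
          ((X.presheaf.germ (f ⁻¹ᵁ V) ξ hξ).hom.comp (f.app V).hom) =
          algebraMap Γ(Y, V) X.functionField := by
        ext a
        rw [halgX]
        exact algebraMap_germ (Y := X) (f ⁻¹ᵁ V) ξ hξ (f.app V a)
      rw [h2]
      exact hqx
    exact (IsIntegrallyClosed.isIntegral_iff (R := X.presheaf.stalk ξ)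
      (K := X.functionField)).mp hint
  obtain ⟨b, hb⟩ := exists_section_of_regular (Y := X) (f ⁻¹ᵁ V) hηX (m • x) hreg
  obtain ⟨a, rfl⟩ := hsurj b
  rw [← halgX] at hb
  have hm0 : algebraMap Γ(Y, V) Y.functionField m ≠ 0 := by
    intro h0
    have := (IsFractionRing.injective Γ(Y, V) Y.functionField) (h0.trans (map_zero _).symm)
    exact nonZeroDivisors.coe_ne_zero m this
  refine ⟨algebraMap Γ(Y, V) Y.functionField a / algebraMap Γ(Y, V) Y.functionField m, ?_⟩
  rw [map_div₀]
  have h3 : φ (algebraMap Γ(Y, V) Y.functionField m) ≠ 0 := fun h0 =>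
    hm0 (hφ (h0.trans (map_zero _).symm))
  rw [div_eq_iff h3]
  have h4 : m • x = φ (algebraMap Γ(Y, V) Y.functionField m) * x := by
    rw [Submonoid.smul_def, Algebra.smul_def]
    rfl
  rw [mul_comm, ← h4, ← hb]
  rfl

theorem s14821 (k : Type u) [Field k]
    (X Y : Scheme.{u}) [X.Over (Spec (CommRingCat.of k))] [Y.Over (Spec (CommRingCat.of k))]
    [IsProper (X ↘ Spec (CommRingCat.of k))] [IsProper (Y ↘ Spec (CommRingCat.of k))]
    [IsIntegral X] [IsIntegral Y]
    (hX : Pi1.IsNormalScheme X) (hY : Pi1.IsNormalScheme Y) (f : X ⟶ Y)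
    (hf : f ≫ (Y ↘ Spec (CommRingCat.of k)) = X ↘ Spec (CommRingCat.of k))
    (h : f.base (genericPoint ↥X) ⤳ genericPoint ↥Y) :
    (∀ U : Y.Opens, IsIso (f.app U)) ↔
      ∀ x : ↑X.functionField, (CohIII.stalkToFunctionField f (genericPoint ↥Y) h).IsIntegralElem x →
        x ∈ (CohIII.stalkToFunctionField f (genericPoint ↥Y) h).range := by
  constructor
  · intro hiso x hx
    obtain ⟨_, ⟨V, hV : IsAffineOpen V, rfl⟩, hηV, -⟩ :=
      Y.isBasis_affineOpens.exists_subset_of_mem_open (Set.mem_univ (genericPoint Y)) isOpen_univ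
    have hsurj : Function.Surjective (f.app V) :=
      ((ConcreteCategory.isIso_iff_bijective (f.app V)).mp (hiso V)).2
    exact mem_range_of_isIntegralElem hX f h V hV hηV hsurj x hx
  · intro hint V
    haveI : IsProper (f ≫ (Y ↘ Spec (CommRingCat.of k))) := hf ▸ inferInstance
    haveI : IsProper f := IsProper.of_comp f (Y ↘ Spec (CommRingCat.of k))
    have halg : ∀ x : X.functionField,
        (∃ p : Polynomial Y.functionField, p ≠ 0 ∧
          Polynomial.eval₂ (CohIII.stalkToFunctionField f (genericPoint Y) h) x p = 0) →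
        x ∈ Set.range (CohIII.stalkToFunctionField f (genericPoint Y) h) := by
      rintro x ⟨p, hp0, hpx⟩
      have := hint x ⟨p * Polynomial.C (p.leadingCoeff)⁻¹,
        Polynomial.monic_mul_leadingCoeff_inv hp0, by
          rw [Polynomial.eval₂_mul, hpx, zero_mul]⟩
      exact this
    exact (ConcreteCategory.isIso_iff_bijective (f.app V)).mpr
      ⟨app_injective f h V, app_surjective hY f h halg V⟩

end Groth.Agent.Lead.PropNormB
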