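import Mathlib
import Groth.Prelude.Def_Pi1
import Groth.Agent.Lead.PropNormA

set_option autoImplicit false
set_option linter.style.haveILetI false
set_option linter.unusedSectionVars false

universe u

open CategoryTheory CategoryTheory.Limits AlgebraicGeometry TopologicalSpace Opposite IsLocalRing

namespace Groth.Agent.Lead.PropNormC

open Groth.Agent.Lead.PropNormA

theorem s17469
    (X : Scheme.{u}) [AlgebraicGeometry.IsIntegral X] [IsLocallyNoetherian X]
    (hX : Pi1.IsNormalScheme X) (U : X.Opens) (b : Γ(X, U))
    (hb : (X.presheaf.map (homOfLE le_top : U ⟶ ⊤).op).hom.IsIntegralElem b) :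
    b ∈ Set.range (X.presheaf.map (homOfLE le_top : U ⟶ ⊤).op).hom := by
  by_cases hU : (U : Set X).Nonempty
  · have hηU := genericPoint_mem U hU
    have hη : genericPoint X ∈ (⊤ : X.Opens) := trivial
    obtain ⟨p, hp, hpb⟩ := hb
    let β : X.functionField := X.presheaf.germ U (genericPoint X) hηU b
    have h1 : Polynomial.eval β (p.map (X.presheaf.germ ⊤ (genericPoint X) hη).hom) = 0 := by
      have := congrArg (X.presheaf.germ U (genericPoint X) hηU).hom hpb
      rw [Polynomial.hom_eval₂, map_zero] at this
      rw [Polynomial.eval_map]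
      have e : (X.presheaf.germ U (genericPoint X) hηU).hom.comp
          (X.presheaf.map (homOfLE le_top : U ⟶ ⊤).op).hom =
          (X.presheaf.germ ⊤ (genericPoint X) hη).hom := by
        ext a
        exact TopCat.Presheaf.germ_res_apply X.presheaf (homOfLE le_top : U ⟶ ⊤) _ hηU a
      rw [e] at this
      exact this
    have hreg : ∀ y ∈ (⊤ : X.Opens),
        β ∈ Set.range (algebraMap (X.presheaf.stalk y) X.functionField) := by
      intro y hy
      haveI := (hX y).1
      haveI : IsIntegrallyClosed (X.presheaf.stalk y) := (hX y).2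
      have hint : IsIntegral (X.presheaf.stalk y) β := by
        refine ⟨p.map (X.presheaf.germ ⊤ y hy).hom, hp.map _, ?_⟩
        rw [Polynomial.eval₂_map]
        have h2 : (algebraMap (X.presheaf.stalk y) X.functionField).comp
            (X.presheaf.germ ⊤ y hy).hom = (X.presheaf.germ ⊤ (genericPoint X) hη).hom := by
          ext a
          exact algebraMap_germ ⊤ y hy a
        rw [h2, ← Polynomial.eval_map]
        exact h1
      exact (IsIntegrallyClosed.isIntegral_iff (R := X.presheaf.stalk y)
        (K := X.functionField)).mp hint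
    obtain ⟨a, ha⟩ := exists_section_of_regular ⊤ hη β hreg
    refine ⟨a, ?_⟩
    apply germ_injective_of_isIntegral X (genericPoint X) hηU
    have := TopCat.Presheaf.germ_res_apply X.presheaf (homOfLE le_top : U ⟶ ⊤) _ hηU a
    exact this.trans ha
  · have hU' : U = ⊥ := by
      ext y
      simp only [Opens.coe_bot, Set.mem_empty_iff_false, iff_false]
      exact fun hy => hU ⟨y, hy⟩
    subst hU'
    haveI : Subsingleton Γ(X, ⊥) := inferInstance
    exact ⟨0, Subsingleton.elim _ _⟩

end Groth.Agent.Lead.PropNormC
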