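import Mathlib
import Groth.Prelude
import Groth.Agent.Helper3.GRO5

set_option autoImplicit false
set_option linter.style.haveILetI false
set_option linter.deprecated false
universe u
namespace Groth.Agent.Lead.PropOpen
open AlgebraicGeometry CategoryTheory CategoryTheory.Limits TopologicalSpace Topology
open Groth.Agent.Helper3

/-- For a universally closed morphism, an open pointwise condition on the source that holds on a whole
fibre is an open condition on the base. -/
theorem isOpen_setOf_forall_fiber {X Y : Scheme.{u}} (f : X ⟶ Y) [UniversallyClosed f]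
    (P : X → Prop) (hP : IsOpen {x | P x}) :
    IsOpen {y : Y | ∀ x : ↥(f.fiber y), P (f.fiberι y x)} := by
  have hcl : IsClosed (f.base '' {x | P x}ᶜ) := f.isClosedMap _ hP.isClosed_compl
  have : {y : Y | ∀ x : ↥(f.fiber y), P (f.fiberι y x)} = (f.base '' {x | P x}ᶜ)ᶜ := by
    ext y
    simp only [Set.mem_setOf_eq, Set.mem_compl_iff, Set.mem_image, not_exists, not_and]
    constructor
    · intro h x hx hxy
      have hr : x ∈ Set.range (f.fiberι y) := by rw [Scheme.Hom.range_fiberι]; exact hxy
      obtain ⟨x₀, rfl⟩ := hr
      exact hx (h x₀)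
    · intro h x₀
      by_contra hx
      exact h _ hx (Groth.Agent.Helper5.FibStalk.fiberι_apply f y x₀)
  rw [this]
  exact hcl.isOpen_compl

/-- a geometrically reduced scheme over a field is geometrically reduced at every point -/
theorem forall_of_geometricallyReduced {k : Type u} [Field k] {Z : Scheme.{u}}
    (g : Z ⟶ Spec (CommRingCat.of k)) [GeometricallyReduced g] (z : Z) :
    FBase.IsGeomReducedAt g z := by
  intro K _ _ x' _
  have h : geometrically IsReduced g := GeometricallyReduced.geometrically_isReduced
  rw [geometrically_iff_of_commRing_of_isClosedUnderIsomorphisms] at h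
  haveI := h K
  show _root_.IsReduced
    ((pullback g (Spec.map (CommRingCat.ofHom (algebraMap k K)))).presheaf.stalk x')
  infer_instance

theorem geometricallyReduced_iff_forall {k : Type u} [Field k] {Z : Scheme.{u}}
    (g : Z ⟶ Spec (CommRingCat.of k)) :
    GeometricallyReduced g ↔ ∀ z, FBase.IsGeomReducedAt g z :=
  ⟨fun _ z => forall_of_geometricallyReduced g z, GRO.geometricallyReduced_of_forall g⟩

/-- S0435 -/
theorem s0435 {X Y : Scheme.{u}} (f : X ⟶ Y) [Flat f] [IsProper f]
    [LocallyOfFinitePresentation f] :
    IsOpen {y : ↑Y | GeometricallyReduced (f.fiberToSpecResidueField y)} := by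
  have h := isOpen_setOf_forall_fiber f (fun x => x ∈ GRO.E f) (GRO.isOpen_E f)
  convert h using 1
  ext y
  simp only [Set.mem_setOf_eq]
  constructor
  · intro hy x₀
    haveI := hy
    exact (GRO.mem_E_iff_fiber f y x₀).2
      (@forall_of_geometricallyReduced (Y.residueField y) _ _ (f.fiberToSpecResidueField y) hy x₀)
  · intro hy
    exact GRO.geometricallyReduced_of_forall _ (fun z => (GRO.mem_E_iff_fiber f y z).1 (hy z))

end Groth.Agent.Lead.PropOpen
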