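import Groth.Agent.Helper4.SN89
import Groth.Agent.Helper3.RatNbhd
import Groth.Agent.Helper3.DVRQuasiSec
import Groth.Agent.Lead.RegLocal
import Groth.Agent.Lead.RegDimOne
import Groth.Agent.Helper2.PtDesc
import Groth.Agent.Helper2.SmoothDense
import Groth.Agent.S10831
import Mathlib

set_option autoImplicit false
set_option linter.unusedSectionVars false
set_option linter.style.haveILetI false
universe u

open CategoryTheory CategoryTheory.Limits AlgebraicGeometry Opposite TopologicalSpace

namespace Groth.Agent.Lead.PtCartier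

open Groth.Agent.Helper4.SN

theorem isDomain_of_le_integral {X : Scheme.{u}} (W V : X.Opens) [IsIntegral (W : Scheme.{u})]
    (hVW : V ≤ W) (hV : (V : Set X).Nonempty) : IsDomain Γ(X, V) := by
  obtain ⟨x, hx⟩ := hV
  have h1 : IsDomain Γ(W, W.ι ⁻¹ᵁ V) :=
    @IsIntegral.component_integral _ _ (W.ι ⁻¹ᵁ V) ⟨⟨⟨x, hVW hx⟩, hx⟩⟩
  have h2 : W.ι ''ᵁ (W.ι ⁻¹ᵁ V) = V := by
    rw [Scheme.Hom.image_preimage_eq_opensRange_inf, Scheme.Opens.opensRange_ι]
    exact inf_eq_right.mpr hVW
  have h3 : IsDomain Γ(X, W.ι ''ᵁ (W.ι ⁻¹ᵁ V)) := h1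
  rwa [h2] at h3

/-- `Helper4.SN.isEffCartierIdeal_point` with an integral open neighbourhood instead of an integral
scheme. -/
theorem isEffCartierIdeal_point' {X : Scheme.{u}} [IsLocallyNoetherian X] (x : X)
    (hx : IsClosed ({x} : Set X)) (W : X.Opens) (hxW : x ∈ W) [IsIntegral (W : Scheme.{u})]
    (hprin : (IsLocalRing.maximalIdeal (X.presheaf.stalk x)).IsPrincipal)
    (hne : IsLocalRing.maximalIdeal (X.presheaf.stalk x) ≠ ⊥) :
    BlowUp.IsEffCartierIdeal (Scheme.IdealSheafData.vanishingIdeal ⟨{x}, hx⟩) := by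
  intro y
  by_cases hyx : y = x
  · subst hyx
    obtain ⟨_, ⟨U, hU : IsAffineOpen U, rfl⟩, hyU, hUW⟩ :=
      X.isBasis_affineOpens.exists_subset_of_mem_open hxW W.isOpen
    let Ua : X.affineOpens := ⟨U, hU⟩
    haveI : IsNoetherianRing Γ(X, U) := IsLocallyNoetherian.component_noetherian Ua
    letI alg : Algebra Γ(X, U) (X.presheaf.stalk y) :=
      TopCat.Presheaf.algebra_section_stalk X.presheaf (⟨y, hyU⟩ : U)
    haveI hloc : IsLocalization.AtPrime (X.presheaf.stalk y)
        (hU.primeIdealOf ⟨y, hyU⟩).asIdeal := hU.isLocalization_stalk ⟨y, hyU⟩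
    obtain ⟨g, b, hg, hb, hspan, hall⟩ := exists_principal_away
      (hU.primeIdealOf ⟨y, hyU⟩).asIdeal (X.presheaf.stalk y) hprin
    have hyg : y ∈ X.basicOpen g := by
      rw [Scheme.mem_basicOpen X g y hyU]
      by_contra hnu
      have h1 : (X.presheaf.germ U y hyU).hom g ∈ IsLocalRing.maximalIdeal (X.presheaf.stalk y) :=
        (IsLocalRing.mem_maximalIdeal _).2 hnu
      exact hg ((IsLocalization.AtPrime.to_map_mem_maximal_iff (X.presheaf.stalk y)
        (hU.primeIdealOf ⟨y, hyU⟩).asIdeal g).1 h1)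
    refine ⟨X.affineBasicOpen (U := Ua) g, hyg, ?_⟩
    let res : Γ(X, U) →+* Γ(X, X.basicOpen g) :=
      (X.presheaf.map (homOfLE (X.basicOpen_le g)).op).hom
    haveI : Nonempty (X.basicOpen g) := ⟨⟨y, hyg⟩⟩
    have hb0 : res b ≠ 0 := by
      intro h0
      apply hne
      rw [hspan]
      have h1 : algebraMap Γ(X, U) (X.presheaf.stalk y) b =
          (X.presheaf.germ (X.basicOpen g) y hyg).hom (res b) :=
        (TopCat.Presheaf.germ_res_apply X.presheaf (homOfLE (X.basicOpen_le g)) y hyg b).symm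
      rw [h1, h0, map_zero]
      exact Ideal.span_singleton_eq_bot.2 rfl
    haveI hdom : IsDomain Γ(X, X.basicOpen g) :=
      isDomain_of_le_integral W (X.basicOpen g) (fun z hz => hUW (X.basicOpen_le g hz)) ⟨y, hyg⟩
    have hnzd : res b ∈ nonZeroDivisors Γ(X, X.basicOpen g) := mem_nonZeroDivisors_of_ne_zero hb0
    refine ⟨res b, hnzd, ?_⟩
    have hmap := (Scheme.IdealSheafData.vanishingIdeal ⟨{y}, hx⟩).map_ideal_basicOpen Ua g
    rw [← hmap, vanishingIdeal_point_ideal y hx Ua hyU]
    apply le_antisymm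
    · refine Ideal.map_le_iff_le_comap.2 ?_
      intro a ha
      obtain ⟨c, hc⟩ := hall a ha
      have hu : IsUnit (res g) := X.toRingedSpace.isUnit_res_basicOpen g
      obtain ⟨u, hu'⟩ := hu
      show res a ∈ Ideal.span {res b}
      rw [Ideal.mem_span_singleton']
      refine ⟨↑u⁻¹ * res c, ?_⟩
      have h2 : res g * res a = res c * res b := by
        rw [← map_mul, ← map_mul, hc]
      rw [mul_assoc, ← h2, ← hu', ← mul_assoc, Units.inv_mul, one_mul]
    · rw [Ideal.span_le]
      intro z hz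
      rw [Set.mem_singleton_iff] at hz
      rw [hz]
      exact Ideal.mem_map_of_mem _ hb
  · have hopen : IsOpen ({x}ᶜ : Set X) := hx.isOpen_compl
    obtain ⟨_, ⟨U, hU : IsAffineOpen U, rfl⟩, hyU, hUx⟩ :=
      X.isBasis_affineOpens.exists_subset_of_mem_open (show y ∈ ({x}ᶜ : Set X) from hyx) hopen
    refine ⟨⟨U, hU⟩, hyU, 1, one_mem _, ?_⟩
    rw [Scheme.IdealSheafData.vanishingIdeal_ideal]
    have hempty : (hU.fromSpec ⁻¹' ((⟨{x}, hx⟩ : Closeds X) : Set X)) = ∅ := by
      ext p
      simp only [Set.mem_preimage, Set.mem_empty_iff_false, iff_false]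
      intro hp
      have h1 : hU.fromSpec p ∈ (U : Set X) := by
        have := hU.range_fromSpec
        rw [← this]
        exact ⟨p, rfl⟩
      exact hUx h1 hp
    have h2 : PrimeSpectrum.vanishingIdeal
        (hU.fromSpec ⁻¹' ((⟨{x}, hx⟩ : Closeds X) : Set X)) = ⊤ :=
      (congrArg PrimeSpectrum.vanishingIdeal hempty).trans PrimeSpectrum.vanishingIdeal_empty
    rw [Ideal.span_singleton_one]
    exact h2

open IsLocalRing in
/-- the ideal of a closed point is effective Cartier only if the local ring is regular. -/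
theorem regular_of_isEffCartierIdeal {X : Scheme.{u}} [IsLocallyNoetherian X] (x : X)
    (hx : IsClosed ({x} : Set X))
    (h : BlowUp.IsEffCartierIdeal (Scheme.IdealSheafData.vanishingIdeal ⟨{x}, hx⟩)) :
    IsRegularLocalRing (X.presheaf.stalk x) := by
  obtain ⟨U, hxU, f, hf, hI⟩ := h x
  rw [vanishingIdeal_point_ideal x hx U hxU] at hI
  haveI : IsNoetherianRing Γ(X, U.1) := IsLocallyNoetherian.component_noetherian U
  letI alg : Algebra Γ(X, U.1) (X.presheaf.stalk x) :=
    TopCat.Presheaf.algebra_section_stalk X.presheaf (⟨x, hxU⟩ : U.1)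
  haveI hloc : IsLocalization.AtPrime (X.presheaf.stalk x)
      (U.2.primeIdealOf ⟨x, hxU⟩).asIdeal := U.2.isLocalization_stalk ⟨x, hxU⟩
  haveI : IsNoetherianRing (X.presheaf.stalk x) :=
    IsLocalization.isNoetherianRing (U.2.primeIdealOf ⟨x, hxU⟩).asIdeal.primeCompl _ inferInstance
  obtain ⟨π, hπdef⟩ : ∃ π, π = algebraMap Γ(X, U.1) (X.presheaf.stalk x) f := ⟨_, rfl⟩
  have hm : maximalIdeal (X.presheaf.stalk x) = Ideal.span {π} := by
    rw [← IsLocalization.AtPrime.map_eq_maximalIdeal (U.2.primeIdealOf ⟨x, hxU⟩).asIdeal, hI,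
      Ideal.map_span, Set.image_singleton, hπdef]
  have hπ : IsSMulRegular (X.presheaf.stalk x) π := by
    have h1 : π ∈ nonZeroDivisors (X.presheaf.stalk x) := by
      rw [hπdef]
      exact IsLocalization.map_nonZeroDivisors_le
        (U.2.primeIdealOf ⟨x, hxU⟩).asIdeal.primeCompl _ (Submonoid.mem_map_of_mem _ hf)
    intro y z hyz
    have h2 : π * (y - z) = 0 := by
      have h3 : π * y = π * z := hyz
      rw [mul_sub, h3, sub_self]
    exact sub_eq_zero.mp (mem_nonZeroDivisors_iff_left.mp h1 _ h2)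
  haveI := Groth.Agent.Helper3.DVRQuasiSec.isDomain_of_principal_regular _ π hπ hm
  haveI : IsPrincipalIdealRing (X.presheaf.stalk x) :=
    ((tfae_of_isNoetherianRing_of_isLocalRing_of_isDomain (X.presheaf.stalk x)).out 4 0).mp
      (⟨⟨π, hm⟩⟩ : (maximalIdeal (X.presheaf.stalk x)).IsPrincipal)
  infer_instance

open IsLocalRing in
/-- the ideal of a closed point with regular local ring on an equidimensional scheme of dimension
one is effective Cartier. -/
theorem isEffCartierIdeal_of_regular {X : Scheme.{u}} [IsLocallyNoetherian X]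
    (hequi : ∀ Z ∈ irreducibleComponents (X : Type u), topologicalKrullDim Z = 1) (x : X)
    (hx : IsClosed ({x} : Set X)) [IsRegularLocalRing (X.presheaf.stalk x)] :
    BlowUp.IsEffCartierIdeal (Scheme.IdealSheafData.vanishingIdeal ⟨{x}, hx⟩) := by
  haveI := Groth.Agent.Lead.RegLocal.isDomain_of_isRegularLocalRing (X.presheaf.stalk x)
  obtain ⟨W, hxW, hW⟩ := Groth.Agent.Helper3.RatNbhd.exists_integral_nbhd x
  haveI := hW
  have hdim : ringKrullDim (X.presheaf.stalk x) ≤ 1 := by
    refine (Groth.Agent.Lead.RegDimOne.ringKrullDim_stalk_le_dim X x).trans ?_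
    rw [Groth.Agent.S10831.result]
    exact iSup₂_le (fun Z hZ => (hequi Z hZ).le)
  haveI := Groth.Agent.Lead.RegDimOne.isPrincipalIdealRing_of_regular_dim_le_one _ hdim
  have hprin : (maximalIdeal (X.presheaf.stalk x)).IsPrincipal :=
    IsPrincipalIdealRing.principal _
  have hne : maximalIdeal (X.presheaf.stalk x) ≠ ⊥ := by
    intro hbot
    have hZ : irreducibleComponent x ∈ irreducibleComponents X :=
      irreducibleComponent_mem_irreducibleComponents x
    have hZirr : IsIrreducible (irreducibleComponent x) := isIrreducible_irreducibleComponent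
    have hZcl : IsClosed (irreducibleComponent x) := isClosed_irreducibleComponent
    obtain ⟨ζ, hζ⟩ := QuasiSober.sober hZirr hZcl
    have hspec : ζ ⤳ x := hζ.specializes mem_irreducibleComponent
    have hmem : ζ ∈ Set.range (X.fromSpecStalk x) := by
      rw [Scheme.range_fromSpecStalk]
      exact hspec
    obtain ⟨p, hp⟩ := hmem
    have hpc : p = closedPoint (X.presheaf.stalk x) := by
      apply PrimeSpectrum.ext
      apply le_antisymm
      · exact le_maximalIdeal p.2.ne_top
      · change maximalIdeal _ ≤ _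
        rw [hbot]
        exact bot_le
    rw [hpc, Scheme.fromSpecStalk_closedPoint] at hp
    have hZx : irreducibleComponent x = {x} := by
      rw [← hζ.def, ← hp, hx.closure_eq]
    have hZ' : ({x} : Set X) ∈ irreducibleComponents X := hZx ▸ hZ
    have h1 := hequi _ hZ'
    have h2 : topologicalKrullDim ↥({x} : Set X) ≤ 0 :=
      topologicalKrullDim_zero_of_discreteTopology _
    rw [h1] at h2
    exact absurd h2 (by decide)
  exact isEffCartierIdeal_point' x hx W hxW hprin hne

/-- S15923 -/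
theorem main (k : Type u) [Field k] [IsAlgClosed k] (X : Scheme.{u})
    (f : X ⟶ Spec (CommRingCat.of k)) [IsProper f]
    (hequi : ∀ Z ∈ irreducibleComponents (X : Type u), topologicalKrullDim Z = 1) (P : X)
    (hP : IsClosed ({P} : Set X)) :
    PicF.IsInvertible (ClSub.idealMod (Scheme.IdealSheafData.vanishingIdeal ⟨{P}, hP⟩)) ↔
      ∃ U : X.Opens, P ∈ U ∧ Smooth (U.ι ≫ f) := by
  haveI : IsNoetherian X := by
    letI : X.Over (Spec (CommRingCat.of k)) := ⟨f⟩
    haveI : IsProper (X ↘ Spec (CommRingCat.of k)) := ‹IsProper f›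
    exact Groth.Agent.Helper4.NApx82.isNoetherian_of_proper k X
  haveI : PerfectField k := inferInstance
  haveI : LocallyOfFinitePresentation f := inferInstance
  rw [Groth.Agent.Helper2.PtDesc.smooth_nbhd_iff f P, ← Scheme.Hom.mem_smoothLocus,
    Groth.Agent.Helper2.SmoothDense.mem_smoothLocus_iff_regular k X f P]
  constructor
  · intro h
    exact regular_of_isEffCartierIdeal P hP
      (Groth.Agent.Lead.IdealModDict.isEffCartierIdeal_of_isInvertible _ h)
  · intro h
    haveI := h
    exact Groth.Agent.Lead.IdealModDict.isInvertible_of_isEffCartierIdeal _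
      (isEffCartierIdeal_of_regular hequi P hP)

end Groth.Agent.Lead.PtCartier
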