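import Mathlib
import Groth.Agent.Lead.FLFProj
import Groth.Agent.Lead.Ref1B
import Groth.Agent.Lead.ParaFLib
import Groth.Agent.Helper9.RpushCmp
import Groth.Agent.Helper1.CohTopLeray
import Groth.Prelude.Def_ega3

/-!
# Cohomology of the pullback of a finite locally free module along `f` with `Rf_* O_X = O_Y`
-/

set_option autoImplicit false
set_option linter.style.haveILetI false
set_option linter.unusedSectionVars false

universe u

open CategoryTheory CategoryTheory.Limits AlgebraicGeometry TopologicalSpace Opposite Abelian ZeroObject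

namespace Groth.Agent.Lead.PullInv

open Groth.Agent.Lead.FLFDual Groth.Agent.Helper1 Groth.Agent.Helper9

variable {X Y : Scheme.{u}} (f : X ⟶ Y)

/-- degenerate Leray spectral sequence, for modules -/
theorem nonempty_HH_addEquiv_push [HasInjectiveResolutions X.Modules] (M : X.Modules)
    (h : ∀ q : ℕ, IsZero ((Coh.Rpush f (q + 1)).obj M)) (p : ℕ) :
    Nonempty (Coh.HH X M p ≃+ Coh.HH Y ((Coh.push f).obj M) p) := by
  obtain ⟨e⟩ := CohTopFun.nonempty_iso_H_push_of_acyclic f.base p (Coh.toAb M) (fun q => by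
    obtain ⟨e⟩ := RpushCmp.nonempty_iso f (q + 1) M
    exact IsZero.of_iso (Functor.map_isZero (RpushCmp.tA Y) (h q)) e.symm)
  exact ⟨e.addCommGroupIsoToAddEquiv⟩

theorem nonempty_HH_pullback [HasInjectiveResolutions X.Modules]
    (hR : ∀ i : ℕ, IsZero ((Coh.Rpush f (i + 1)).obj (Coh.structureModule X)))
    (h0 : Nonempty ((Coh.push f).obj (Coh.structureModule X) ≅ Coh.structureModule Y))
    (L : Y.Modules) (hL : FlatMod.IsFinLocFree L) (p : ℕ) :
    Nonempty (Coh.HH X ((Scheme.Modules.pullback f).obj L) p ≃+ Coh.HH Y L p) := by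
  have key : ∀ q : ℕ, Nonempty
      (CohB1.tensorMod L ((Coh.Rpush f q).obj (Coh.structureModule X)) ≅
        (Coh.Rpush f q).obj ((Scheme.Modules.pullback f).obj L)) := fun q => by
    obtain ⟨e⟩ := nonempty_Rpush_tensor_iso f L hL (Coh.structureModule X) q
    exact ⟨e ≪≫ (Coh.Rpush f q).mapIso (SecTwist.unitorR _)⟩
  have hvan : ∀ q : ℕ,
      IsZero ((Coh.Rpush f (q + 1)).obj ((Scheme.Modules.pullback f).obj L)) := fun q => by
    obtain ⟨e⟩ := key (q + 1)
    refine IsZero.of_iso ?_ e.symm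
    exact Functor.map_isZero (TLX L) (hR q)
  obtain ⟨e1⟩ := nonempty_HH_addEquiv_push f _ hvan p
  obtain ⟨e0⟩ := key 0
  obtain ⟨i0⟩ := h0
  have e2 : (Coh.push f).obj ((Scheme.Modules.pullback f).obj L) ≅ L :=
    ((Coh.push f).rightDerivedZeroIsoSelf.app _).symm ≪≫ e0.symm ≪≫
      (TLX L).mapIso ((Coh.push f).rightDerivedZeroIsoSelf.app _ ≪≫ i0) ≪≫ SecTwist.unitorR L
  exact ⟨e1.trans ((CohIII.HAb Y p).mapIso e2).addCommGroupIsoToAddEquiv⟩

end Groth.Agent.Lead.PullInv
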