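import Mathlib
import Groth.Agent.Lead.Hartogs2
import Groth.Agent.Lead.SchDense
import Groth.Agent.Helper9.DepthKer

set_option autoImplicit false
universe u
open CategoryTheory CategoryTheory.Limits AlgebraicGeometry TopologicalSpace Opposite

namespace Groth.Agent.Lead.PuncPlane

open RingTheory.Sequence

/-- a weakly regular sequence of length two in `p` gives depth ≥ 2 of the localization -/
theorem two_le_depth_loc {R S : Type u} [CommRing R] [CommRing S] [Algebra R S] (p : Ideal R)
    [p.IsPrime] [IsLocalization.AtPrime S p] [IsLocalRing S] (a b : R) (ha : a ∈ p) (hb : b ∈ p)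
    (hreg : IsWeaklyRegular R [a, b]) : 2 ≤ LocCoh.depth S S := by
  haveI : Module.Flat R S := IsLocalization.flat S p.primeCompl
  have hreg' : IsWeaklyRegular S ([a, b].map (algebraMap R S)) := hreg.of_flat
  have hmem' : ∀ s ∈ [a, b].map (algebraMap R S), s ∈ IsLocalRing.maximalIdeal S := by
    intro s hs
    obtain ⟨r, hr, rfl⟩ := List.mem_map.mp hs
    rw [IsLocalization.AtPrime.to_map_mem_maximal_iff S p]
    simp only [List.mem_cons, List.not_mem_nil, or_false] at hr
    rcases hr with rfl | rfl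
    · exact ha
    · exact hb
  have h2 := Groth.Agent.Helper9.DepthKer.le_idealDepth_of (IsLocalRing.maximalIdeal S) S _
    hreg' hmem'
  have h3 : (2 : ℕ∞) ≤ LocCoh.idealDepth (IsLocalRing.maximalIdeal S) S := by simpa using h2
  exact h3

/-- `X 0, X 1` is a regular sequence in the polynomial ring -/
theorem isWeaklyRegular_X (K : Type u) [Field K] :
    IsWeaklyRegular (MvPolynomial (Fin 2) K)
      [(MvPolynomial.X 0 : MvPolynomial (Fin 2) K), MvPolynomial.X 1] := by
  rw [isWeaklyRegular_cons_iff]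
  refine ⟨?_, ?_⟩
  · intro x y hxy
    simp only [smul_eq_mul] at hxy
    exact mul_left_cancel₀ (MvPolynomial.X_ne_zero 0) hxy
  · rw [isWeaklyRegular_cons_iff]
    refine ⟨?_, IsWeaklyRegular.nil _ _⟩
    rw [Groth.Agent.Helper9.DepthKer.quot_regular_iff]
    rintro e ⟨e', he'⟩
    simp only [smul_eq_mul] at he' ⊢
    have hp : Prime (MvPolynomial.X 0 : MvPolynomial (Fin 2) K) := MvPolynomial.X_prime
    have hd : (MvPolynomial.X 0 : MvPolynomial (Fin 2) K) ∣ MvPolynomial.X 1 * e := ⟨e', he'⟩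
    rcases hp.dvd_or_dvd hd with h | h
    · exfalso
      rw [MvPolynomial.X_dvd_X] at h
      exact absurd h (by decide)
    · obtain ⟨c, hc⟩ := h
      exact ⟨c, hc⟩

/-- S4371 -/
theorem main (K : Type u) [Field K] :
    ¬ IsAffineOpen (X := Spec (CommRingCat.of (MvPolynomial (Fin 2) K)))
      (PrimeSpectrum.basicOpen (MvPolynomial.X 0 : MvPolynomial (Fin 2) K) ⊔
        PrimeSpectrum.basicOpen (MvPolynomial.X 1 : MvPolynomial (Fin 2) K)) := by
  intro haff
  obtain ⟨U, haff, hUmem⟩ : ∃ U : (Spec (CommRingCat.of (MvPolynomial (Fin 2) K))).Opens,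
      IsAffineOpen U ∧ ∀ x : PrimeSpectrum (MvPolynomial (Fin 2) K), x ∈ U ↔
        ((MvPolynomial.X 0 : MvPolynomial (Fin 2) K) ∉ x.asIdeal ∨
          (MvPolynomial.X 1 : MvPolynomial (Fin 2) K) ∉ x.asIdeal) :=
    ⟨_, haff, fun x => Iff.rfl⟩
  haveI : IsNoetherianRing (CommRingCat.of (MvPolynomial (Fin 2) K)) :=
    inferInstanceAs (IsNoetherianRing (MvPolynomial (Fin 2) K))
  haveI : IsLocallyNoetherian (Spec (CommRingCat.of (MvPolynomial (Fin 2) K))) := inferInstance
  have hmem : ∀ x : Spec (CommRingCat.of (MvPolynomial (Fin 2) K)), x ∉ U →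
      (MvPolynomial.X 0 : MvPolynomial (Fin 2) K) ∈ x.asIdeal ∧
        (MvPolynomial.X 1 : MvPolynomial (Fin 2) K) ∈ x.asIdeal := by
    intro x hx
    constructor
    · by_contra h
      exact hx ((hUmem x).mpr (Or.inl h))
    · by_contra h
      exact hx ((hUmem x).mpr (Or.inr h))
  have hdepth : ∀ x : Spec (CommRingCat.of (MvPolynomial (Fin 2) K)), x ∉ U →
      (2 : ℕ∞) ≤ LocCoh.depth ((Spec (CommRingCat.of (MvPolynomial (Fin 2) K))).presheaf.stalk x)
        ((Spec (CommRingCat.of (MvPolynomial (Fin 2) K))).presheaf.stalk x) := by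
    intro x hx
    letI : Algebra (MvPolynomial (Fin 2) K)
        ((Spec (CommRingCat.of (MvPolynomial (Fin 2) K))).presheaf.stalk x) :=
      StructureSheaf.stalkAlgebra (R := MvPolynomial (Fin 2) K) x
    haveI : IsLocalization.AtPrime
        ((Spec (CommRingCat.of (MvPolynomial (Fin 2) K))).presheaf.stalk x) x.asIdeal :=
      StructureSheaf.IsLocalization.to_stalk (MvPolynomial (Fin 2) K) x
    exact two_le_depth_loc x.asIdeal _ _ (hmem x hx).1 (hmem x hx).2 (isWeaklyRegular_X K)
  have hb : Function.Bijective (U.ι.appTop) := by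
    have e2 : U.ι ''ᵁ (U.ι ⁻¹ᵁ ⊤) = ⊤ ⊓ U := by
      rw [Scheme.Hom.image_preimage_eq_opensRange_inf, Scheme.Opens.opensRange_ι, inf_comm]
    have h1 := (ExtFree.bij_congrO rfl e2 (U.ι.image_preimage_le ⊤) inf_le_left).mpr
      (Hartogs2.bijective_res U hdepth ⊤)
    have h2 : U.ι.appTop = (Spec (CommRingCat.of (MvPolynomial (Fin 2) K))).presheaf.map
        (homOfLE (U.ι.image_preimage_le ⊤)).op :=
      Scheme.Opens.ι_app U ⊤
    rw [h2]
    exact h1
  haveI : IsIso U.ι.appTop := (ConcreteCategory.isIso_iff_bijective _).mpr hb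
  haveI : IsAffine (U : Scheme.{u}) := haff
  have hiso : IsIso U.ι := by
    have := (HasAffineProperty.iff_of_isAffine (P := MorphismProperty.isomorphisms Scheme)
      (f := U.ι)).mpr ⟨haff, inferInstance⟩
    exact this
  have hsurj : Function.Surjective U.ι := by
    have : Surjective U.ι := inferInstance
    exact this.surj
  let x0 : PrimeSpectrum (MvPolynomial (Fin 2) K) :=
    ⟨RingHom.ker (MvPolynomial.eval (0 : Fin 2 → K)), RingHom.ker_isPrime _⟩
  obtain ⟨y, hy⟩ := hsurj x0
  have hx0 : x0 ∈ U := by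
    have h3 : U.ι y ∈ U := y.2
    rw [hy] at h3
    exact h3
  rcases (hUmem x0).mp hx0 with h | h
  · exact h (by simp [x0, RingHom.mem_ker])
  · exact h (by simp [x0, RingHom.mem_ker])

end Groth.Agent.Lead.PuncPlane
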