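import Groth.Agent.Lead.BCMap11
import Groth.Agent.Lead.MateC
import Groth.Agent.Lead.FlatPull
import Groth.Agent.Lead.ParaFLib
import Groth.Agent.Helper8.TildeBC
import Groth.Agent.Helper4.FinLocFree6
import Groth.Agent.S1177

set_option autoImplicit false
open CategoryTheory CategoryTheory.Limits AlgebraicGeometry Opposite TopologicalSpace
universe u

namespace Groth.Agent.Lead.PushInv
open Scheme.Modules Groth.Agent.Helper4 Groth.Agent.Lead.BCMap

theorem isQuasicoherent_structureModule (Z : Scheme.{u}) :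
    (Coh.structureModule Z).IsQuasicoherent :=
  Groth.Agent.Helper4.FinLocFree4.isQuasicoherent_of_isFinLocFree _
    Groth.Agent.Helper4.FinLocFree6.isFinLocFree_unit

/-- the canonical morphism `O_Y ⟶ f_* O_X` -/
noncomputable def unitPush {X Y : Scheme.{u}} (f : X ⟶ Y) :
    Coh.structureModule Y ⟶ (pushforward f).obj (Coh.structureModule X) :=
  SheafOfModules.unitToPushforwardObjUnit f.toRingCatSheafHom

theorem unitPush_app {X Y : Scheme.{u}} (f : X ⟶ Y) (V : Y.Opens) (a : Γ(Y, V)) :
    (unitPush f).app V a = f.app V a := rfl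

section
variable {X Y X' Y' : Scheme.{u}} (f : X ⟶ Y) (g : Y' ⟶ Y) (g' : X' ⟶ X) (f' : X' ⟶ Y')
  (h : IsPullback g' f' f g)

include h in
theorem bijective_app_of_flat [Flat g] [QuasiCompact f] [QuasiSeparated f]
    (hf : ∀ V : Y.Opens, Function.Bijective (f.app V)) {V : Y.Opens} (hV : IsAffineOpen V)
    {V' : Y'.Opens} (hV' : IsAffineOpen V') (e : V' ≤ g ⁻¹ᵁ V) :
    Function.Bijective (f'.app V') := by
  have hUY : f' ⁻¹ᵁ V' = g' ⁻¹ᵁ (f ⁻¹ᵁ V) ⊓ f' ⁻¹ᵁ V' := preimage_eq_inf f g g' f' h V V' e
  have hpo := (isIso_pushoutSection_iff h e (le_refl (f ⁻¹ᵁ V)) hUY).mp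
    (isIso_pushoutSection_of_isQuasiSeparated_of_flat_right h e (le_refl (f ⁻¹ᵁ V)) hUY hV hV'
      (f.isCompact_preimage hV.isCompact) (f.isQuasiSeparated_preimage hV.isQuasiSeparated))
  haveI : IsIso (f.appLE V (f ⁻¹ᵁ V) (le_refl _)) := by
    rw [← Scheme.Hom.app_eq_appLE]
    exact (ConcreteCategory.isIso_iff_bijective _).mpr (hf V)
  have h2 := hpo.isIso_inr_of_isIso
  rw [← Scheme.Hom.app_eq_appLE] at h2
  exact (ConcreteCategory.isIso_iff_bijective _).mp h2

include h in
theorem isIso_unitPush_of_flat [Flat g] [QuasiCompact f] [QuasiSeparated f]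
    (hf : ∀ V : Y.Opens, Function.Bijective (f.app V)) : IsIso (unitPush f') := by
  haveI : QuasiCompact f' := MorphismProperty.of_isPullback (P := @QuasiCompact) h inferInstance
  haveI : QuasiSeparated f' :=
    MorphismProperty.of_isPullback (P := @QuasiSeparated) h inferInstance
  haveI := isQuasicoherent_structureModule Y'
  haveI := isQuasicoherent_structureModule X'
  haveI : ((pushforward f').obj (Coh.structureModule X')).IsQuasicoherent :=
    QcohGlue.isQuasicoherent_pushforward f' _
  apply QcohLocal.isIso_of_app_bijective_of_affine_cover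
  intro x'
  obtain ⟨_, ⟨V, hV : IsAffineOpen V, rfl⟩, hxV, -⟩ :=
    Y.isBasis_affineOpens.exists_subset_of_mem_open (Set.mem_univ (g x')) isOpen_univ
  obtain ⟨_, ⟨V', hV' : IsAffineOpen V', rfl⟩, hxV', hV'V⟩ :=
    Y'.isBasis_affineOpens.exists_subset_of_mem_open
      (show x' ∈ ((g ⁻¹ᵁ V : Y'.Opens) : Set Y') from hxV) (g ⁻¹ᵁ V).isOpen
  exact ⟨V', hV', hxV', bijective_app_of_flat f g g' f' h hf hV hV' hV'V⟩

end

section Counit
variable {X Y : Scheme.{u}} (f : X ⟶ Y)

/-- if `O_Y ⟶ f_* O_X` is an isomorphism then the counit `f^* f_* O_X ⟶ O_X` is one -/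
theorem isIso_counit_structureModule (hu : IsIso (unitPush f)) :
    IsIso ((pullbackPushforwardAdjunction f).counit.app (Coh.structureModule X)) := by
  haveI := Groth.Agent.Helper8.TildeBC.opensMap_final f
  have h1 : IsIso (SheafOfModules.pullbackObjUnitToUnit f.toRingCatSheafHom) := inferInstance
  have h2 : SheafOfModules.pullbackObjUnitToUnit f.toRingCatSheafHom =
      (Scheme.Modules.pullback f).map (unitPush f) ≫
        (pullbackPushforwardAdjunction f).counit.app (Coh.structureModule X) :=
    Adjunction.homEquiv_counit (pullbackPushforwardAdjunction f) _ _ (unitPush f)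
  haveI h3 : IsIso ((Scheme.Modules.pullback f).map (unitPush f)) := inferInstance
  haveI h4 : IsIso ((Scheme.Modules.pullback f).map (unitPush f) ≫
      (pullbackPushforwardAdjunction f).counit.app (Coh.structureModule X)) := by
    rw [← h2]; exact h1
  exact IsIso.of_isIso_comp_left ((Scheme.Modules.pullback f).map (unitPush f)) _

theorem isIso_counit_of_iso (hu : IsIso (unitPush f)) {L : X.Modules}
    (e : L ≅ Coh.structureModule X) :
    IsIso ((pullbackPushforwardAdjunction f).counit.app L) :=
  (NatTrans.isIso_app_iff_of_iso (pullbackPushforwardAdjunction f).counit e).mpr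
    (isIso_counit_structureModule f hu)

end Counit

section Main
variable {X Y X' Y' : Scheme.{u}} (f : X ⟶ Y) (g : Y' ⟶ Y) (g' : X' ⟶ X) (f' : X' ⟶ Y')
  (h : IsPullback g' f' f g)

include h in
/-- descent of the counit isomorphism along a flat surjective base change -/
theorem isIso_counit_of_flat_descent [Flat g] [Surjective g] [QuasiCompact f] [QuasiSeparated f]
    (hf : ∀ V : Y.Opens, Function.Bijective (f.app V)) (L : X.Modules) [L.IsQuasicoherent]
    (e : (Scheme.Modules.pullback g').obj L ≅ Coh.structureModule X') :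
    IsIso ((pullbackPushforwardAdjunction f).counit.app L) := by
  haveI : Flat g' := MorphismProperty.of_isPullback (P := @Flat) h.flip inferInstance
  haveI : Surjective g' := MorphismProperty.of_isPullback (P := @Surjective) h.flip inferInstance
  haveI q1 : ((pushforward f).obj L).IsQuasicoherent := QcohGlue.isQuasicoherent_pushforward f L
  haveI q2 : ((Scheme.Modules.pullback f).obj ((pushforward f).obj L)).IsQuasicoherent :=
    Groth.Agent.Lead.StalkPull.isQuasicoherent_pullbackObj f _
  haveI q3 : ((pushforward f ⋙ Scheme.Modules.pullback f).obj L).IsQuasicoherent := q2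
  haveI q4 : ((𝟭 X.Modules).obj L).IsQuasicoherent := ‹L.IsQuasicoherent›
  refine Groth.Agent.Lead.FlatPull.isIso_of_forall_isIso_pullback (ι := Unit) (fun _ => X')
    (fun _ => g') (fun z => ⟨(), g'.surjective z⟩)
    ((pullbackPushforwardAdjunction f).counit.app L) (fun _ => ?_)
  have key := Groth.Agent.Lead.MateH.map_counit_eq (pullbackPushforwardAdjunction f)
    (pullbackPushforwardAdjunction f') (pullbackPushforwardAdjunction g)
    (pullbackPushforwardAdjunction g')
    (pushforwardComp g' f ≪≫ pushforwardCongr h.w ≪≫ (pushforwardComp f' g).symm) L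
  have hbc : ((pullbackPushforwardAdjunction g).homEquiv ((pushforward f).obj L)
        ((pushforward f').obj ((Scheme.Modules.pullback g').obj L))).symm
      ((pushforward f).map ((pullbackPushforwardAdjunction g').unit.app L) ≫
        (pushforwardComp g' f ≪≫ pushforwardCongr h.w ≪≫ (pushforwardComp f' g).symm).hom.app
          ((Scheme.Modules.pullback g').obj L)) = bcMap f g g' f' h.w L := by
    unfold bcMap bcAdj
    simp only [Iso.trans_hom, Iso.symm_hom, NatTrans.comp_app]
  rw [hbc] at key
  haveI i1 : IsIso (bcMap f g g' f' h.w L) := isIso_bcMap_of_flat f g g' f' h L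
  haveI i2 : IsIso ((pullbackPushforwardAdjunction f').counit.app
      ((Scheme.Modules.pullback g').obj L)) :=
    isIso_counit_of_iso f' (isIso_unitPush_of_flat f g g' f' h hf) e
  rw [key]
  infer_instance

end Main

section Inv
variable {Y Y' : Scheme.{u}} (g : Y' ⟶ Y)

set_option backward.isDefEq.respectTransparency false in
/-- a quasi-coherent module whose pullback along an fpqc morphism is trivial is invertible -/
theorem isInvertible_of_pullback_iso [Flat g] [Surjective g] [QuasiCompact g] (M : Y.Modules)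
    [M.IsQuasicoherent]
    (i : (Scheme.Modules.pullback g).obj M ≅ Coh.structureModule Y') : PicF.IsInvertible M := by
  haveI qg : ((Scheme.Modules.pullback g).obj M).IsQuasicoherent :=
    Groth.Agent.Lead.StalkPull.isQuasicoherent_pullbackObj g M
  have h3 : FlatMod.IsFinLocFree ((Scheme.Modules.pullback g).obj M) :=
    FinLocFree2.isFinLocFree_of_iso i.symm FinLocFree6.isFinLocFree_unit
  have h4 : FlatMod.IsFinLocFree M := Groth.Agent.S1177.result g M h3
  intro y
  obtain ⟨V, hV, n, hyV, ⟨b⟩⟩ := FinLocFree2.exists_affine_basis M h4 y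
  obtain ⟨y', rfl⟩ := g.surjective y
  obtain ⟨_, ⟨V', hV' : IsAffineOpen V', rfl⟩, hy'V', hV'V⟩ :=
    Y'.isBasis_affineOpens.exists_subset_of_mem_open
      (show y' ∈ ((g ⁻¹ᵁ V : Y'.Opens) : Set Y') from hyV) (g ⁻¹ᵁ V).isOpen
  letI := (g.appLE V V' hV'V).hom.toAlgebra
  letI : Module Γ(Y, V) Γ((Scheme.Modules.pullback g).obj M, V') :=
    Module.compHom _ (g.appLE V V' hV'V).hom
  haveI : IsScalarTower Γ(Y, V) Γ(Y', V') Γ((Scheme.Modules.pullback g).obj M, V') :=
    IsScalarTower.of_compHom _ _ _
  obtain ⟨ρ, -, hbc⟩ := exists_isBaseChange_pbSec g M hV hV' hV'V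
  have b' : Module.Basis (Fin n) Γ(Y', V') Γ((Scheme.Modules.pullback g).obj M, V') :=
    hbc.basis b
  have hfree1 : FinLocFree.IsFreeAlong ((Scheme.Modules.pullback g).obj M)
      (Scheme.Opens.ι V') 1 :=
    ⟨(restrictFunctor (Scheme.Opens.ι V')).mapIso i ≪≫ restrictUnitIso (Scheme.Opens.ι V') ≪≫
      (coproductUniqueIso (fun _ : Fin 1 =>
        Coh.structureModule ((V' : Y'.Opens) : Scheme.{u}))).symm⟩
  obtain ⟨b''⟩ := (FinLocFree.isFreeAlong_ι_iff_basis hV' _).mp hfree1
  haveI : Nonempty V' := ⟨⟨y', hy'V'⟩⟩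
  haveI : Nontrivial Γ(Y', V') := inferInstance
  have hn : n = 1 := by
    have e1 := Module.finrank_eq_card_basis b'
    have e2 := Module.finrank_eq_card_basis b''
    simp only [Fintype.card_fin] at e1 e2
    omega
  subst hn
  obtain ⟨j⟩ := (FinLocFree.isFreeAlong_ι_iff_basis hV M).mpr ⟨b⟩
  exact ⟨V, hyV, ⟨j ≪≫ coproductUniqueIso (fun _ : Fin 1 => Coh.structureModule (V : Scheme.{u}))⟩⟩

end Inv

section Final
variable {X Y Y' : Scheme.{u}}

theorem main (f : X ⟶ Y) [QuasiCompact f] [QuasiSeparated f]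
    (hf : ∀ V : Y.Opens, Function.Bijective (f.app V))
    (g : Y' ⟶ Y) [Flat g] [Surjective g] [QuasiCompact g] (L : X.Modules)
    (hL : PicF.IsInvertible L)
    (e : (Scheme.Modules.pullback (pullback.fst f g)).obj L ≅
      Coh.structureModule (pullback f g)) :
    PicF.IsInvertible ((pushforward f).obj L) ∧
      IsIso ((pullbackPushforwardAdjunction f).counit.app L) := by
  haveI : L.IsQuasicoherent := FinLocFree4.isQuasicoherent_of_isFinLocFree _
    (Groth.Agent.Lead.ParaFLib.isFinLocFree_of_isInvertible L hL)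
  have hsq : IsPullback (pullback.fst f g) (pullback.snd f g) f g := IsPullback.of_hasPullback f g
  refine ⟨?_, isIso_counit_of_flat_descent f g _ _ hsq hf L e⟩
  haveI q1 : ((pushforward f).obj L).IsQuasicoherent := QcohGlue.isQuasicoherent_pushforward f L
  haveI i1 := isIso_bcMap_of_flat f g _ _ hsq L
  haveI i2 := isIso_unitPush_of_flat f g _ _ hsq hf
  exact isInvertible_of_pullback_iso g _
    (asIso (bcMap f g _ _ hsq.w L) ≪≫ (pushforward (pullback.snd f g)).mapIso e ≪≫
      (asIso (unitPush (pullback.snd f g))).symm)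

end Final

end Groth.Agent.Lead.PushInv
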