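import Groth.Agent.Lead.PushInv
import Groth.Prelude.Def_Formal2

set_option autoImplicit false
open CategoryTheory CategoryTheory.Limits AlgebraicGeometry Opposite TopologicalSpace
universe u

namespace Groth.Agent.Lead.PushInv
open Scheme.Modules Groth.Agent.Helper4 Groth.Agent.Lead.BCMap

variable {X Y Y' : Scheme.{u}}

/-- S11951 -/
theorem picInj (f : X ⟶ Y) [QuasiCompact f] [QuasiSeparated f]
    (hf : ∀ V : Y.Opens, Function.Bijective (f.app V))
    (g : Y' ⟶ Y) [Flat g] [Surjective g] [QuasiCompact g]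
    (hg : Formal2.PicPullbackInjective g) :
    Formal2.PicPullbackInjective (pullback.fst f g) := by
  rintro L hL ⟨e⟩
  obtain ⟨hN, hc⟩ := main f hf g L hL e
  have : L.IsQuasicoherent := FinLocFree4.isQuasicoherent_of_isFinLocFree _
    (Groth.Agent.Lead.ParaFLib.isFinLocFree_of_isInvertible L hL)
  have hsq : IsPullback (pullback.fst f g) (pullback.snd f g) f g := IsPullback.of_hasPullback f g
  have q1 : ((pushforward f).obj L).IsQuasicoherent := QcohGlue.isQuasicoherent_pushforward f L
  have i1 := isIso_bcMap_of_flat f g _ _ hsq L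
  have i2 := isIso_unitPush_of_flat f g _ _ hsq hf
  obtain ⟨t⟩ := hg _ hN
    ⟨asIso (bcMap f g _ _ hsq.w L) ≪≫ (pushforward (pullback.snd f g)).mapIso e ≪≫
      (asIso (unitPush (pullback.snd f g))).symm⟩
  have := Groth.Agent.Helper8.TildeBC.opensMap_final f
  have h1 : IsIso (SheafOfModules.pullbackObjUnitToUnit f.toRingCatSheafHom) := inferInstance
  let e3 : (Scheme.Modules.pullback f).obj (Coh.structureModule Y) ≅ Coh.structureModule X :=
    @asIso _ _ _ _ (SheafOfModules.pullbackObjUnitToUnit f.toRingCatSheafHom) h1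
  exact ⟨(asIso ((pullbackPushforwardAdjunction f).counit.app L)).symm ≪≫
    (Scheme.Modules.pullback f).mapIso t ≪≫ e3⟩

end Groth.Agent.Lead.PushInv
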