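import Mathlib
import Groth.Prelude.Def_Coh
import Groth.Prelude.Def_FlatMod2
import Groth.Prelude.Def_TorSh
import Groth.Agent.Lead.SurfKer
import Groth.Agent.Lead.PushStalk
import Groth.Agent.Helper1.RegAB
import Groth.Agent.Helper4.FinitePush

/-!
# Elementary transformations along a curve on a regular surface (S15848)
-/

set_option autoImplicit false
universe u
open CategoryTheory CategoryTheory.Limits AlgebraicGeometry TopologicalSpace

namespace Groth.Agent.Lead.PushKer

section Alg

open Groth.Agent.Helper1.TorLib

/-- kernel of a surjection from a finite free module onto a module of projective dimension `≤ 1`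
over a local ring is free. -/
theorem free_ker_of_pd (R : Type u) [CommRing R] [IsLocalRing R] [IsNoetherianRing R]
    (P T : Type u) [AddCommGroup P] [Module R P] [AddCommGroup T] [Module R T]
    [Module.Free R P] [Module.Finite R P] (φ : P →ₗ[R] T) (hφ : Function.Surjective φ)
    (h : HasProjectiveDimensionLT (ModuleCat.of R T) 2) : Module.Free R (LinearMap.ker φ) := by
  have hex2 : Function.Exact (LinearMap.ker φ).subtype φ := by
    rw [LinearMap.exact_iff, Submodule.range_subtype]
  have hS2 := scOfLinear_shortExact (LinearMap.ker φ).subtype φ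
    (Submodule.subtype_injective _) hφ hex2
  have hP : Projective (scOfLinear (LinearMap.ker φ).subtype φ hex2).X₂ := by
    show Projective (ModuleCat.of R P)
    rw [← IsProjective.iff_projective]
    infer_instance
  have h2 : HasProjectiveDimensionLT (ModuleCat.of R (LinearMap.ker φ)) 1 :=
    (hS2.hasProjectiveDimensionLT_X₃_iff 0 hP).mp h
  rw [← projective_iff_hasProjectiveDimensionLT_one, ← IsProjective.iff_projective] at h2
  haveI : Module.Projective R (LinearMap.ker φ) := h2
  haveI : Module.Flat R (LinearMap.ker φ) := Module.Flat.of_projective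
  haveI : Module.Finite R (LinearMap.ker φ) := inferInstance
  exact Module.free_of_flat_of_isLocalRing

/-- a finite module over a regular local ring `R` of dimension `≤ 2` which is (semilinearly)
a torsion-free module over a quotient domain `R'` of `R`, not a field when `dim R = 2`, has
projective dimension `≤ 1`. -/
theorem pd_lt_two_of_torsionFree_quotient (R : Type u) [CommRing R] [IsRegularLocalRing R]
    (hdim : ringKrullDim R ≤ 2)
    (R' : Type u) [CommRing R'] [IsDomain R'] (π : R →+* R') (hπ : Function.Surjective π)
    (hfield : ringKrullDim R = 2 → ¬ IsField R')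
    (N' : Type u) [AddCommGroup N'] [Module R' N'] [Module.IsTorsionFree R' N']
    (N : Type u) [AddCommGroup N] [Module R N] [Module.Finite R N]
    (h : N ≃+ N') (hh : ∀ (r : R) (n : N), h (r • n) = π r • h n) :
    HasProjectiveDimensionLT (ModuleCat.of R N) 2 := by
  have hne : ringKrullDim R ≠ ⊥ := ringKrullDim_ne_bot
  have hnt : ringKrullDim R ≠ ⊤ := by
    intro ht
    rw [ht] at hdim
    exact absurd hdim (by decide)
  obtain ⟨d, hd⟩ : ∃ d : ℕ, ringKrullDim R = d := by
    obtain ⟨e, he⟩ := WithBot.ne_bot_iff_exists.mp hne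
    have het : e ≠ ⊤ := by
      rintro rfl
      exact hnt he.symm
    exact ⟨e.toNat, by rw [← he, ← ENat.coe_toNat het]; rfl⟩
  have hd2 : d ≤ 2 := by
    rw [hd] at hdim
    exact_mod_cast hdim
  rcases Nat.lt_or_ge d 2 with hlt | hge
  · have := Groth.Agent.Helper1.RegAB.pd_le_dim d hd N
    exact hasProjectiveDimensionLT_of_ge _ (d + 1) 2 (by omega)
  · obtain rfl : d = 2 := le_antisymm hd2 hge
    have hnf : ¬ IsField R' := hfield hd
    -- an element of the maximal ideal acting injectively
    obtain ⟨x, hxm, hx⟩ : ∃ x ∈ IsLocalRing.maximalIdeal R, π x ≠ 0 := by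
      by_contra hcon
      push_neg at hcon
      apply hnf
      refine ⟨exists_pair_ne R', mul_comm, ?_⟩
      intro y hy
      obtain ⟨r, rfl⟩ := hπ y
      have hr : r ∉ IsLocalRing.maximalIdeal R := fun hr => hy (hcon r hr)
      have hu : IsUnit r := by
        by_contra hnu
        exact hr ((IsLocalRing.mem_maximalIdeal r).mpr hnu)
      obtain ⟨u, rfl⟩ := hu
      exact ⟨π ↑u⁻¹, by rw [← map_mul, Units.mul_inv, map_one]⟩
    have hreg : IsSMulRegular N x := by
      intro a b hab
      have hab' : x • a = x • b := hab
      have h1 : π x • h a = π x • h b := by rw [← hh, ← hh, hab']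
      have h2 : IsSMulRegular N' (π x) :=
        Module.IsTorsionFree.isSMulRegular (isRegular_of_ne_zero hx)
      exact h.injective (h2 h1)
    have hdepth : (1 : ℕ∞) ≤ LocCoh.depth R N := by
      unfold LocCoh.depth LocCoh.idealDepth
      split_ifs with htop
      · exact le_top
      · have hw : RingTheory.Sequence.IsWeaklyRegular N [x] :=
          (RingTheory.Sequence.isWeaklyRegular_singleton_iff N x).mpr hreg
        have hmem : ∀ r ∈ [x], r ∈ IsLocalRing.maximalIdeal R := by
          intro r hr
          rw [List.mem_singleton] at hr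
          rw [hr]; exact hxm
        exact le_iSup₂ (f := fun (rs : List R)
          (_ : RingTheory.Sequence.IsWeaklyRegular N rs ∧
            ∀ r ∈ rs, r ∈ IsLocalRing.maximalIdeal R) => (rs.length : ℕ∞)) [x] ⟨hw, hmem⟩
    have := Groth.Agent.Helper1.RegAB.pd_le_of_depth 2 hd N 1 (by
      calc ((2 : ℕ) : ℕ∞) = ((1 : ℕ) : ℕ∞) + 1 := by norm_num
        _ ≤ ((1 : ℕ) : ℕ∞) + LocCoh.depth R N := by gcongr)
    exact this

end Alg

section Sch
open Groth.Agent.Helper4 Groth.Agent.Helper4.StalkDict Groth.Agent.Helper4.StalkExact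

/-- kernel of a map from a finite locally free module to a coherent module is finite locally free
as soon as the kernels of the stalk maps are free. -/
theorem isFinLocFree_kernel_of_free_ker_stalks (X : Scheme.{u}) [IsLocallyNoetherian X]
    (N : X.Modules) (hN : Coh.IsCoh N) (M : X.Modules) (hM : FlatMod.IsFinLocFree M) (φ : M ⟶ N)
    (hfree : ∀ x : X, Module.Free (X.presheaf.stalk x) (LinearMap.ker (stalkLin φ x))) :
    FlatMod.IsFinLocFree (kernel φ) := by
  have hMc : Coh.IsCoh M := Groth.Agent.Lead.PerfLib.isCoh_of_isFinLocFree hM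
  have hKc : Coh.IsCoh (kernel φ) := Groth.Agent.Lead.PerfLib.isCoh_kernel hMc hN φ
  haveI : (kernel φ).IsQuasicoherent := hKc.1
  haveI : M.IsQuasicoherent := hMc.1
  haveI : N.IsQuasicoherent := hN.1
  apply FinLocFree2.isFinLocFree_of_fp_of_free_stalks (kernel φ)
    (CohFP.isFP_of_isCoh (kernel φ) hKc.1 hKc.2)
  intro x
  have hfree' := hfree x
  let S : ShortComplex X.Modules := ShortComplex.mk (kernel.ι φ) φ (kernel.condition φ)
  have hS : S.Exact := ShortComplex.exact_of_f_is_kernel _ (kernelIsKernel φ)
  haveI : Mono S.f := inferInstanceAs (Mono (kernel.ι φ))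
  have hex : Function.Exact (stalkLin (kernel.ι φ) x) (stalkLin φ x) := stalkLin_exact S hS x
  have hinj : Function.Injective (stalkLin (kernel.ι φ) x) := stalkLin_injective (kernel.ι φ) x
  have hrange : LinearMap.range (stalkLin (kernel.ι φ) x) = LinearMap.ker (stalkLin φ x) :=
    (LinearMap.exact_iff.mp hex).symm
  let e : (kernel φ).presheaf.stalk x ≃ₗ[X.presheaf.stalk x] LinearMap.ker (stalkLin φ x) :=
    (LinearEquiv.ofInjective _ hinj) ≪≫ₗ LinearEquiv.ofEq _ _ hrange
  exact Module.Free.of_equiv e.symm

open Order in
/-- on a curve inside a surface, the local ring of the curve at a point whose local ring on the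
surface has dimension two is not a field. -/
theorem not_isField_stalk_of_dim_two (S C : Scheme.{u}) (hdim : topologicalKrullDim S ≤ 2)
    (j : C ⟶ S) [IsClosedImmersion j] [IsIntegral C] (hC : topologicalKrullDim C = 1) (c : C)
    (h2 : ringKrullDim (S.presheaf.stalk (j c)) = 2) : ¬ IsField (C.presheaf.stalk c) := by
  intro hfld
  have h0 := ringKrullDim_eq_zero_of_isField hfld
  rw [ringKrullDim_stalk_eq_coheight] at h0
  have h0' : coheight c = 0 := by exact_mod_cast h0
  have hmax : IsMax c := coheight_eq_zero.mp h0'
  -- a point which is not maximal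
  obtain ⟨c', hc'⟩ : ∃ c' : C, ¬ IsMax c' := by
    by_contra hcon
    push_neg at hcon
    have : topologicalKrullDim C = 0 := by
      rw [Groth.Agent.Lead.RegDimOne.topologicalKrullDim_eq_iSup_coheight]
      have hz : ∀ x : C, ((coheight x : ℕ∞) : WithBot ℕ∞) = 0 := by
        intro x
        rw [coheight_eq_zero.mpr (hcon x)]
        rfl
      simp only [hz]
      exact ciSup_const
    rw [this] at hC
    exact absurd hC (by decide)
  have hη : c' ≤ genericPoint C :=
    ((genericPoint_spec C).specializes (Set.mem_univ c'))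
  have hcη : c ≤ genericPoint C := ((genericPoint_spec C).specializes (Set.mem_univ c))
  have hηc : genericPoint C ≤ c := hmax hcη
  have hle : c' ≤ c := hη.trans hηc
  have hlt : c' < c := by
    refine lt_of_le_not_ge hle (fun hcc' => hc' ?_)
    intro b hb
    exact (hmax (hcc'.trans hb)).trans hcc'
  have hjle : j c' ≤ j c := Specializes.map hle j.continuous
  have hjlt : j c' < j c := by
    refine lt_of_le_not_ge hjle (fun h => ?_)
    have hind : Topology.IsInducing j.base := j.isEmbedding.isInducing
    have : c' ⤳ c := (hind.specializes_iff).mp h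
    exact absurd this (not_le_of_gt hlt)
  have h3 := coheight_add_one_le hjlt
  have h4 := Groth.Agent.Lead.RegDimOne.ringKrullDim_stalk_le_dim S (j c')
  rw [ringKrullDim_stalk_eq_coheight] at h4 h2
  have h5 : ((coheight (j c') : ℕ∞) : WithBot ℕ∞) ≤ 2 := h4.trans hdim
  have h6 : coheight (j c) = 2 := WithBot.coe_injective (by rw [h2]; rfl)
  have h7 : coheight (j c') ≤ 2 :=
    WithBot.coe_le_coe.mp (by rw [show ((2 : ℕ∞) : WithBot ℕ∞) = 2 from rfl]; exact h5)
  rw [h6] at h3
  have : (2 : ℕ∞) + 1 ≤ 2 := h3.trans h7
  exact absurd this (by decide)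

open Groth.Agent.Lead.PushStalk in
/-- **S15848**: the kernel of an epimorphism from a finite locally free module on a regular
surface onto the pushforward of a torsion-free coherent module on an integral curve is finite
locally free. -/
theorem isFinLocFree_kernel_push (S : Scheme.{u}) [IsLocallyNoetherian S]
    (hreg : ∀ s : S, IsRegularLocalRing (S.presheaf.stalk s)) (hdim : topologicalKrullDim S ≤ 2)
    (C : Scheme.{u}) (j : C ⟶ S) [IsClosedImmersion j] [IsIntegral C]
    (hC : topologicalKrullDim C = 1)
    (M : C.Modules) (hM : Coh.IsCoh M) (hMtf : TorSh.IsTorsionFree M)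
    (F : S.Modules) (hF : FlatMod.IsFinLocFree F)
    (f : F ⟶ (Scheme.Modules.pushforward j).obj M) [Epi f] :
    FlatMod.IsFinLocFree (kernel f) := by
  haveI : M.IsQuasicoherent := hM.1
  haveI hNq : ((Scheme.Modules.pushforward j).obj M).IsQuasicoherent :=
    QcohGlue.isQuasicoherent_pushforward j M
  have hNc : Coh.IsCoh ((Scheme.Modules.pushforward j).obj M) :=
    ⟨hNq, FinitePush.isFiniteType_pushforward_of_isFinite j M hM.2⟩
  apply isFinLocFree_kernel_of_free_ker_stalks S _ hNc F hF f
  intro s
  haveI := hreg s
  have hFc := Groth.Agent.Lead.PerfLib.isCoh_of_isFinLocFree hF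
  haveI : F.IsQuasicoherent := hFc.1
  haveI := FinLocFree2.free_stalk_of_isFinLocFree F hF s
  haveI := FinLocFree2.finite_stalk F hFc.2 s
  haveI := FinLocFree2.finite_stalk _ hNc.2 s
  have hsurj := EpiStalk.stalkLin_surjective_of_epi f s
  by_cases hs : s ∈ Set.range j.base
  · obtain ⟨c, rfl⟩ := hs
    haveI := hMtf c
    have hpd := pd_lt_two_of_torsionFree_quotient (S.presheaf.stalk (j c))
      ((Groth.Agent.Lead.RegDimOne.ringKrullDim_stalk_le_dim S (j c)).trans hdim)
      (C.presheaf.stalk c) (j.stalkMap c).hom (j.stalkMap_surjective c)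
      (fun h2 => not_isField_stalk_of_dim_two S C hdim j hC c h2)
      (M.presheaf.stalk c) (((Scheme.Modules.pushforward j).obj M).presheaf.stalk (j c))
      (AddEquiv.ofBijective (psHom j M c) (psHom_bijective j M j.isEmbedding.isInducing c))
      (fun r n => psHom_smul j M c r n)
    exact free_ker_of_pd _ _ _ (stalkLin f (j c)) hsurj hpd
  · haveI := subsingleton_stalk_of_notMem_range j M j.isClosedEmbedding.isClosed_range s hs
    have hker : LinearMap.ker (stalkLin f s) = ⊤ := by
      ext v
      simp only [LinearMap.mem_ker, Submodule.mem_top, iff_true]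
      exact Subsingleton.elim _ _
    rw [hker]
    exact Module.Free.of_equiv (Submodule.topEquiv).symm

end Sch

end Groth.Agent.Lead.PushKer
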