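import Mathlib
import Groth.Agent.Lead.PushStalk
import Groth.Agent.Lead.PushSupp
import Groth.Agent.Helper4.QcohGlue
import Groth.Agent.Helper4.FTGlue
import Groth.Agent.Helper4.SecDict
import Groth.Prelude.Def_Coh
import Groth.Prelude.Def_CohB1

/-!
# Pushforward along an open immersion of a coherent module with support closed in the ambient
scheme (S0048)
-/

set_option autoImplicit false
universe u
open CategoryTheory CategoryTheory.Limits AlgebraicGeometry TopologicalSpace Opposite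

namespace Groth.Agent.Lead.PushOpen

open Groth.Agent.Helper4 Groth.Agent.Helper4.StalkDict Groth.Agent.Helper4.QcqsMod
  Groth.Agent.Lead.PushStalk

section General
variable {Y : Scheme.{u}} (F : Y.Modules)

theorem zero_of_eq [F.IsQuasicoherent] {W' : Y.Opens} (hW' : IsAffineOpen W') (f' : Γ(Y, W'))
    (B' : Y.Opens) (h : B' = Y.basicOpen f') (m : Γ(F, W'))
    (hm : F.presheaf.map (homOfLE (h.le.trans (Y.basicOpen_le f'))).op m = 0) :
    ∃ n : ℕ, f' ^ n • m = 0 := by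
  subst h
  exact (isLocalizingOn_of_isAffineOpen F hW').zero f' m hm

theorem surj_of_eq [F.IsQuasicoherent] {W' : Y.Opens} (hW' : IsAffineOpen W') (f' : Γ(Y, W'))
    (B' : Y.Opens) (h : B' = Y.basicOpen f') (t : Γ(F, B')) :
    ∃ (n : ℕ) (m : Γ(F, W')),
      (Y.presheaf.map (homOfLE (h.le.trans (Y.basicOpen_le f'))).op (f' ^ n)) • t =
        F.presheaf.map (homOfLE (h.le.trans (Y.basicOpen_le f'))).op m := by
  subst h
  exact (isLocalizingOn_of_isAffineOpen F hW').surj f' t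

end General

variable {X : Scheme.{u}} (U : X.Opens) (F : (↑U : Scheme.{u}).Modules)

/-- the pushforward is localizing on affine opens inside `U`. -/
theorem isLocalizingOn_push_of_le [F.IsQuasicoherent] {W : X.Opens} (hW : IsAffineOpen W)
    (hWU : W ≤ U) : IsLocalizingOn ((Scheme.Modules.pushforward U.ι).obj F) W := by
  have hW' : IsAffineOpen (U.ι ⁻¹ᵁ W) :=
    hW.preimage_of_isOpenImmersion U.ι (by rw [Scheme.Opens.opensRange_ι]; exact hWU)
  constructor
  · intro f m hm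
    obtain ⟨n, hn⟩ := zero_of_eq F hW' (U.ι.app W f) (U.ι ⁻¹ᵁ X.basicOpen f)
      (Scheme.preimage_basicOpen U.ι f) m hm
    refine ⟨n, ?_⟩
    rw [push_smul, map_pow]
    exact hn
  · intro f t
    obtain ⟨n, m, h⟩ := surj_of_eq F hW' (U.ι.app W f) (U.ι ⁻¹ᵁ X.basicOpen f)
      (Scheme.preimage_basicOpen U.ι f) t
    refine ⟨n, m, ?_⟩
    rw [push_smul]
    refine Eq.trans ?_ h
    congr 1
    rw [← map_pow]
    exact congrArg (fun g => g.hom (f ^ n))
      (U.ι.naturality (homOfLE (X.basicOpen_le f)).op)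

/-- the pushforward has no sections over opens missing the support. -/
theorem eq_zero_of_disjoint (T : Set X)
    (hs : ∀ x : ↥U, x ∈ CohB1.support F → (x : X) ∈ T) (V : X.Opens)
    (hV : Disjoint (V : Set X) T) (m : Γ((Scheme.Modules.pushforward U.ι).obj F, V)) : m = 0 := by
  apply PushSupp.eq_zero_of_subsingleton_stalks F (U.ι ⁻¹ᵁ V)
  intro x hx
  by_contra hns
  exact Set.disjoint_left.mp hV hx (hs x hns)

theorem isLocalizingOn_push_of_disjoint (T : Set X)
    (hs : ∀ x : ↥U, x ∈ CohB1.support F → (x : X) ∈ T) (W : X.Opens)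
    (hW : Disjoint (W : Set X) T) : IsLocalizingOn ((Scheme.Modules.pushforward U.ι).obj F) W := by
  constructor
  · intro f m _
    exact ⟨0, by rw [eq_zero_of_disjoint U F T hs W hW m, smul_zero]⟩
  · intro f t
    refine ⟨0, 0, ?_⟩
    have hd : Disjoint ((X.basicOpen f : X.Opens) : Set X) T :=
      Set.disjoint_of_subset_left (X.basicOpen_le f) hW
    rw [eq_zero_of_disjoint U F T hs _ hd t, smul_zero, map_zero]

theorem isQuasicoherent_push [F.IsQuasicoherent] (T : Set X) (hT : IsClosed T)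
    (hTU : T ⊆ (U : Set X)) (hs : ∀ x : ↥U, x ∈ CohB1.support F → (x : X) ∈ T) :
    ((Scheme.Modules.pushforward U.ι).obj F).IsQuasicoherent := by
  apply QcohGlue.isQuasicoherent_of_isLocalizingOn
  intro x
  by_cases hx : x ∈ U
  · obtain ⟨_, ⟨W, hW, rfl⟩, hxW, hWU⟩ :=
      X.isBasis_affineOpens.exists_subset_of_mem_open hx U.2
    exact ⟨W, hW, hxW, isLocalizingOn_push_of_le U F hW hWU⟩
  · have hxT : x ∈ Tᶜ := fun h => hx (hTU h)
    obtain ⟨_, ⟨W, hW, rfl⟩, hxW, hWT⟩ :=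
      X.isBasis_affineOpens.exists_subset_of_mem_open hxT hT.isOpen_compl
    exact ⟨W, hW, hxW, isLocalizingOn_push_of_disjoint U F T hs W
      (Set.disjoint_left.mpr fun a ha haT => hWT ha haT)⟩

theorem app_surjective_of_le {W : X.Opens} (hWU : W ≤ U) :
    Function.Surjective (U.ι.app W) := by
  intro s
  have hle : W ≤ U.ι ''ᵁ U.ι ⁻¹ᵁ W := by
    intro a ha
    exact ⟨⟨a, hWU ha⟩, ha, rfl⟩
  refine ⟨X.presheaf.map (homOfLE hle).op s, ?_⟩
  rw [Scheme.Opens.ι_app]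
  have hle2 : U.ι ''ᵁ U.ι ⁻¹ᵁ W ≤ W := by
    rintro _ ⟨a, ha, rfl⟩
    exact ha
  change (X.presheaf.map (homOfLE hle2).op).hom ((X.presheaf.map (homOfLE hle).op).hom s) = s
  have h3 : X.presheaf.map (homOfLE hle).op ≫ X.presheaf.map (homOfLE hle2).op = 𝟙 _ := by
    rw [← CategoryTheory.Functor.map_comp]
    have : (homOfLE hle).op ≫ (homOfLE hle2).op = 𝟙 _ := Subsingleton.elim _ _
    rw [this, CategoryTheory.Functor.map_id]
  exact congrArg (fun g => g.hom s) h3

theorem finite_sections_push_of_le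
    (hq : SheafOfModules.IsQuasicoherent (R := (↑U : Scheme.{u}).ringCatSheaf) F)
    (hft : SheafOfModules.IsFiniteType (R := (↑U : Scheme.{u}).ringCatSheaf) F)
    {W : X.Opens} (hW : IsAffineOpen W) (hWU : W ≤ U) :
    Module.Finite Γ(X, W) Γ((Scheme.Modules.pushforward U.ι).obj F, W) := by
  have hW' : IsAffineOpen (U.ι ⁻¹ᵁ W) :=
    hW.preimage_of_isOpenImmersion U.ι (by rw [Scheme.Opens.opensRange_ι]; exact hWU)
  have hfin : Module.Finite Γ(↑U, U.ι ⁻¹ᵁ W) Γ(F, U.ι ⁻¹ᵁ W) :=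
    SecDict.finite_sections hW' F hq hft
  letI : Algebra Γ(X, W) Γ(↑U, U.ι ⁻¹ᵁ W) := (U.ι.app W).hom.toAlgebra
  letI : Module Γ(↑U, U.ι ⁻¹ᵁ W) Γ((Scheme.Modules.pushforward U.ι).obj F, W) :=
    inferInstanceAs (Module Γ(↑U, U.ι ⁻¹ᵁ W) Γ(F, U.ι ⁻¹ᵁ W))
  haveI : IsScalarTower Γ(X, W) Γ(↑U, U.ι ⁻¹ᵁ W)
      Γ((Scheme.Modules.pushforward U.ι).obj F, W) :=
    IsScalarTower.of_algebraMap_smul (fun r m => rfl)
  haveI : Module.Finite Γ(X, W) Γ(↑U, U.ι ⁻¹ᵁ W) :=
    Module.Finite.of_surjective (Algebra.linearMap Γ(X, W) Γ(↑U, U.ι ⁻¹ᵁ W))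
      (app_surjective_of_le U hWU)
  haveI : Module.Finite Γ(↑U, U.ι ⁻¹ᵁ W) Γ((Scheme.Modules.pushforward U.ι).obj F, W) := hfin
  exact Module.Finite.trans Γ(↑U, U.ι ⁻¹ᵁ W) _

/-- **S0048** -/
theorem isCoh_push (T : Set X) (hT : IsClosed T) (hTU : T ⊆ (U : Set X))
    (hF : Coh.IsCoh F) (hs : ∀ x : ↥U, x ∈ CohB1.support F → (x : X) ∈ T) :
    Coh.IsCoh ((Scheme.Modules.pushforward U.ι).obj F) := by
  obtain ⟨hq, hft⟩ := hF
  haveI : F.IsQuasicoherent := hq
  haveI hG := isQuasicoherent_push U F T hT hTU hs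
  refine ⟨hG, ?_⟩
  apply FTGlue.isFiniteType_of_finite_sections
  intro x
  by_cases hx : x ∈ U
  · obtain ⟨_, ⟨W, hW, rfl⟩, hxW, hWU⟩ :=
      X.isBasis_affineOpens.exists_subset_of_mem_open hx U.2
    exact ⟨W, hW, hxW, finite_sections_push_of_le U F hq hft hW hWU⟩
  · have hxT : x ∈ Tᶜ := fun h => hx (hTU h)
    obtain ⟨_, ⟨W, hW, rfl⟩, hxW, hWT⟩ :=
      X.isBasis_affineOpens.exists_subset_of_mem_open hxT hT.isOpen_compl
    refine ⟨W, hW, hxW, ?_⟩
    haveI : Subsingleton Γ((Scheme.Modules.pushforward U.ι).obj F, W) :=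
      ⟨fun a b => by
        rw [eq_zero_of_disjoint U F T hs W (Set.disjoint_left.mpr fun a ha haT => hWT ha haT) a,
          eq_zero_of_disjoint U F T hs W (Set.disjoint_left.mpr fun a ha haT => hWT ha haT) b]⟩
    haveI : Finite Γ((Scheme.Modules.pushforward U.ι).obj F, W) := Finite.of_subsingleton
    exact Module.Finite.of_finite

end Groth.Agent.Lead.PushOpen
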