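import Mathlib
import Groth.Agent.Helper9.InvFlat
import Groth.Agent.Lead.InvFPA

/-!
# Lead: invariants commute with arbitrary base change when `|G|` is invertible
-/

set_option autoImplicit false
set_option linter.style.haveILetI false
set_option linter.unusedSectionVars false
set_option linter.unusedVariables false

namespace Groth.Agent.Lead.QBase

open TensorProduct

universe u v

section Tensor

variable {A B A' : Type u} [CommRing A] [CommRing B] [CommRing A'] [Algebra A B] [Algebra A A']
  {G : Type v} [Group G] [Fintype G] [MulSemiringAction G B] [SMulCommClass G A B]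
  [Algebra.IsInvariant A B G]

theorem linearMap_comp_ret (hinj : Function.Injective (algebraMap A B)) (u : A) :
    (Algebra.linearMap A B) ∘ₗ (Groth.Agent.Lead.InvFP.ret A B G hinj u) =
      u • ∑ g : G, DistribSMul.toLinearMap A B g := by
  ext b
  rw [LinearMap.comp_apply, Algebra.linearMap_apply,
    Groth.Agent.Lead.InvFP.algebraMap_ret]
  rfl

theorem includeLeft_injective (hinj : Function.Injective (algebraMap A B)) (u : A)
    (hu : u * ((Fintype.card G : ℕ) : A) = 1) :
    Function.Injective (Algebra.TensorProduct.includeLeft : A' →ₐ[A] A' ⊗[A] B) := by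
  let r := Groth.Agent.Lead.InvFP.ret A B G hinj u
  have hleft : ∀ c : A', TensorProduct.rid A A' (r.lTensor A'
      ((Algebra.TensorProduct.includeLeft : A' →ₐ[A] A' ⊗[A] B) c)) = c := by
    intro c
    change TensorProduct.rid A A' (r.lTensor A' (c ⊗ₜ[A] (1 : B))) = c
    rw [LinearMap.lTensor_tmul, ← (algebraMap A B).map_one,
      Groth.Agent.Lead.InvFP.ret_algebraMap A B G hinj u hu, TensorProduct.rid_tmul, one_smul]
  intro a b hab
  rw [← hleft a, ← hleft b, hab]

theorem mem_range_includeLeft (hinj : Function.Injective (algebraMap A B)) (u : A)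
    (hu : u * ((Fintype.card G : ℕ) : A) = 1) (x : A' ⊗[A] B)
    (hx : ∀ g : G, (DistribSMul.toLinearMap A B g).lTensor A' x = x) :
    x ∈ Set.range (Algebra.TensorProduct.includeLeft : A' →ₐ[A] A' ⊗[A] B) := by
  let r := Groth.Agent.Lead.InvFP.ret A B G hinj u
  refine ⟨TensorProduct.rid A A' (r.lTensor A' x), ?_⟩
  rw [← Groth.Agent.Helper9.InvFlat.lTensor_linearMap_eq, ← LinearMap.comp_apply,
    ← LinearMap.lTensor_comp, linearMap_comp_ret hinj u]
  have h1 : (u • ∑ g : G, DistribSMul.toLinearMap A B g).lTensor A' =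
      u • ∑ g : G, (DistribSMul.toLinearMap A B g).lTensor A' := by
    rw [LinearMap.lTensor_smul]
    congr 1
    exact map_sum (LinearMap.lTensorHom (R := A) A' (N := B) (P := B)) _ _
  rw [h1, LinearMap.smul_apply, LinearMap.sum_apply]
  simp only [hx, Finset.sum_const, Finset.card_univ]
  rw [← Nat.cast_smul_eq_nsmul A, smul_smul, hu, one_smul]

end Tensor

section Cat

open CategoryTheory CategoryTheory.Limits

/-- invariants commute with arbitrary cobase change when `|G|` is invertible -/
theorem pushout_invariants_of_unit {A B A' B' : CommRingCat.{u}} (α : A ⟶ B) (β : A ⟶ A')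
    (inl : B ⟶ B') (inr : A' ⟶ B') (h : IsPushout α β inl inr) {G : Type v} [Group G] [Finite G]
    (hN : IsUnit ((Nat.card G : ℕ) : A))
    (σ : G → (B ⟶ B)) (σ' : G → (B' ⟶ B'))
    (hσ1 : σ 1 = 𝟙 B) (hσmul : ∀ g h : G, σ (g * h) = σ g ≫ σ h)
    (hσ : ∀ g, α ≫ σ g = α) (hl : ∀ g, inl ≫ σ' g = σ g ≫ inl) (hr : ∀ g, inr ≫ σ' g = inr)
    (hinj : Function.Injective α.hom)
    (hrange : ∀ b : B, (∀ g, (σ g).hom b = b) → b ∈ Set.range α.hom) :
    Function.Injective inr.hom ∧
      ∀ x : B', (∀ g, (σ' g).hom x = x) → x ∈ Set.range inr.hom := by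
  letI : Algebra A B := α.hom.toAlgebra
  letI : Algebra A A' := β.hom.toAlgebra
  letI : Fintype G := Fintype.ofFinite G
  obtain ⟨u, hu⟩ : ∃ u : A, u * ((Fintype.card G : ℕ) : A) = 1 := by
    rw [← Nat.card_eq_fintype_card]
    exact ⟨_, hN.val_inv_mul⟩
  letI : MulSemiringAction G B := Groth.Agent.Helper9.InvAlg.actOf (fun g => (σ g).hom)
    (by rw [hσ1]; rfl) (fun g h => by rw [hσmul]; rfl)
  have hsm : ∀ (g : G) (b : B), g • b = (σ g⁻¹).hom b := fun g b => rfl
  have hσa : ∀ (g : G) (a : A), (σ g).hom (algebraMap A B a) = algebraMap A B a := fun g a =>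
    congrArg (fun φ => φ.hom a) (hσ g)
  haveI : SMulCommClass G A B := ⟨fun g a b => by
    rw [Algebra.smul_def, Algebra.smul_def, hsm, hsm, map_mul, hσa]⟩
  haveI : Algebra.IsInvariant A B G := ⟨fun b hb => hrange b (fun g => by
    have := hb g⁻¹
    rwa [hsm, _root_.inv_inv] at this)⟩
  have hinj' : Function.Injective (algebraMap A B) := hinj
  have hT := CommRingCat.isPushout_tensorProduct A A' B
  have hflip : IsPushout (CommRingCat.ofHom (algebraMap A A')) (CommRingCat.ofHom (algebraMap A B))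
      inr inl := h.flip
  let e := IsPushout.isoIsPushout _ _ hT hflip
  have e1 : CommRingCat.ofHom (S := A' ⊗[A] B) Algebra.TensorProduct.includeLeftRingHom ≫ e.hom
      = inr := IsPushout.inl_isoIsPushout_hom _ _ hT hflip
  have e2 : CommRingCat.ofHom (S := A' ⊗[A] B) Algebra.TensorProduct.includeRight.toRingHom ≫ e.hom
      = inl := IsPushout.inr_isoIsPushout_hom _ _ hT hflip
  have e1' : ∀ a' : A', e.hom.hom (a' ⊗ₜ[A] (1 : B)) = inr.hom a' := fun a' =>
    congrArg (fun φ => φ.hom a') e1
  have e2' : ∀ b : B, e.hom.hom ((1 : A') ⊗ₜ[A] b) = inl.hom b := fun b =>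
    congrArg (fun φ => φ.hom b) e2
  have hbij : Function.Bijective e.hom.hom :=
    ConcreteCategory.bijective_of_isIso e.hom
  -- compatibility of the actions
  have hcompat : ∀ (g : G) (y : A' ⊗[A] B),
      (σ' g⁻¹).hom (e.hom.hom y) = e.hom.hom ((DistribSMul.toLinearMap A B g).lTensor A' y) := by
    intro g y
    induction y using TensorProduct.induction_on with
    | zero => simp
    | tmul a' b =>
      have h1 : a' ⊗ₜ[A] b = (a' ⊗ₜ[A] (1 : B)) * ((1 : A') ⊗ₜ[A] b) := by
        rw [Algebra.TensorProduct.tmul_mul_tmul, mul_one, one_mul]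
      have h2 : (DistribSMul.toLinearMap A B g).lTensor A' (a' ⊗ₜ[A] b)
          = (a' ⊗ₜ[A] (1 : B)) * ((1 : A') ⊗ₜ[A] ((σ g⁻¹).hom b)) := by
        rw [Algebra.TensorProduct.tmul_mul_tmul, mul_one, one_mul]
        rfl
      rw [h2, h1, map_mul, map_mul, map_mul, e1', e2', e2']
      congr 1
      · exact congrArg (fun φ => φ.hom a') (hr g⁻¹)
      · exact congrArg (fun φ => φ.hom b) (hl g⁻¹)
    | add y₁ y₂ h₁ h₂ => rw [map_add, map_add, map_add, map_add, h₁, h₂]
  constructor
  · intro a b hab
    rw [← e1', ← e1'] at hab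
    exact includeLeft_injective hinj' u hu (hbij.1 hab)
  · intro x hx
    obtain ⟨y, rfl⟩ := hbij.2 x
    have hy : ∀ g : G, (DistribSMul.toLinearMap A B g).lTensor A' y = y := by
      intro g
      apply hbij.1
      rw [← hcompat, hx g⁻¹]
    obtain ⟨a', ha'⟩ := mem_range_includeLeft hinj' u hu y hy
    refine ⟨a', ?_⟩
    rw [← ha']
    exact (e1' a').symm

end Cat

end Groth.Agent.Lead.QBase
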