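import Mathlib
import Groth.Prelude.Def_SGA1
import Groth.Agent.Helper9.EffEpiQ
import Groth.Agent.Helper9.FinQuot
import Groth.Agent.Helper6.QuotBasis
import Groth.Agent.Lead.QBaseA

/-!
# Lead: quotients by a finite group of invertible order commute with arbitrary base change
-/

set_option autoImplicit false
set_option linter.style.haveILetI false
set_option linter.unusedSectionVars false
set_option linter.unusedVariables false

namespace Groth.Agent.Lead.QBase

open CategoryTheory CategoryTheory.Limits AlgebraicGeometry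
open SGA1

universe u

/-- Quotients by finite groups whose order is invertible commute with arbitrary base change. -/
theorem isQuot_baseChange_of_unit {X Y X' Y' : Scheme.{u}} {G : Type u} [Group G] [Finite G]
    (ρ : G →* Aut X) (p : X ⟶ Y) (hp : SGA1.IsQuot ρ p)
    (hN : IsUnit ((Nat.card G : ℕ) : Γ(Y, ⊤)))
    (qY : Y' ⟶ Y) (pX : X' ⟶ X) (p' : X' ⟶ Y') (hX : IsPullback pX p' p qY)
    (ρ' : G →* Aut X') (hρ₁ : ∀ g : G, (ρ' g).hom ≫ pX = pX ≫ (ρ g).hom)
    (hρ₂ : ∀ g : G, (ρ' g).hom ≫ p' = p') :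
    SGA1.IsQuot ρ' p' := by
  classical
  haveI : IsAffineHom p := hp.affine
  haveI : IsAffineHom p' := MorphismProperty.of_isPullback (P := @IsAffineHom) hX inferInstance
  let ℬ : Set Y'.Opens :=
    {V' | IsAffineOpen V' ∧ ∃ V : Y.Opens, IsAffineOpen V ∧ V' ≤ qY ⁻¹ᵁ V}
  have hℬ : TopologicalSpace.Opens.IsBasis ℬ := by
    rw [TopologicalSpace.Opens.isBasis_iff_nbhd]
    intro W y' hy'
    obtain ⟨_, ⟨V, hV : IsAffineOpen V, rfl⟩, hyV, -⟩ :=
      Y.isBasis_affineOpens.exists_subset_of_mem_open (Set.mem_univ (qY.base y')) isOpen_univ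
    have hmem : y' ∈ W ⊓ qY ⁻¹ᵁ V := ⟨hy', hyV⟩
    obtain ⟨_, ⟨V', hV' : IsAffineOpen V', rfl⟩, hyV', hsub⟩ :=
      Y'.isBasis_affineOpens.exists_subset_of_mem_open hmem (W ⊓ qY ⁻¹ᵁ V).isOpen
    exact ⟨V', ⟨hV', V, hV, fun x hx => (hsub hx).2⟩, hyV', fun x hx => (hsub hx).1⟩
  -- the key: on basis elements
  have key : ∀ V' ∈ ℬ, Function.Injective (p'.app V').hom ∧
      ∀ s : Γ(X', p' ⁻¹ᵁ V'),
        (∀ g, (Groth.Agent.Helper6.QuotAct.pb ρ' p' hρ₂ g V').hom s = s) →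
        s ∈ Set.range (p'.app V').hom := by
    rintro V' ⟨hV', V, hV, hle⟩
    have hUX : IsAffineOpen (p ⁻¹ᵁ V) := hV.preimage p
    have hUY : p' ⁻¹ᵁ V' = pX ⁻¹ᵁ (p ⁻¹ᵁ V) ⊓ p' ⁻¹ᵁ V' := by
      refine (inf_eq_right.mpr ?_).symm
      intro x hx
      have h1 : qY.base (p'.base x) ∈ V := hle hx
      have h2 : p.base (pX.base x) = qY.base (p'.base x) := by
        have := congrArg (fun k : X' ⟶ Y => k.base x) hX.w
        exact this
      change p.base (pX.base x) ∈ V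
      rw [h2]; exact h1
    haveI := isIso_pushoutSection_of_isAffineOpen hX hle (le_refl (p ⁻¹ᵁ V)) hUY hV hV' hUX
    have hpo := (isIso_pushoutSection_iff hX hle (le_refl (p ⁻¹ᵁ V)) hUY).mp inferInstance
    have hN' : IsUnit ((Nat.card G : ℕ) : Γ(Y, V)) := by
      have := hN.map (Y.presheaf.map (homOfLE (le_top : V ≤ ⊤)).op).hom
      rwa [map_natCast] at this
    have hres := pushout_invariants_of_unit _ _ _ _ hpo hN'
      (fun g : G => (ρ g).hom.appLE (p ⁻¹ᵁ V) (p ⁻¹ᵁ V) (SGA1.preimage_le_of_inv ρ p hp.inv g V))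
      (fun g : G => (ρ' g).hom.appLE (p' ⁻¹ᵁ V') (p' ⁻¹ᵁ V')
        (SGA1.preimage_le_of_inv ρ' p' hρ₂ g V'))
      ?_ ?_ ?_ ?_ ?_ ?_ ?_
    · rw [Scheme.Hom.app_eq_appLE]
      exact hres
    · exact CommRingCat.hom_ext (Groth.Agent.Helper9.FinQuot.α_one ρ p hp.inv V)
    · intro g h
      exact CommRingCat.hom_ext (Groth.Agent.Helper9.FinQuot.α_mul ρ p hp.inv V g h)
    · intro g
      rw [Scheme.Hom.appLE_comp_appLE]
      exact Groth.Agent.Helper9.EffEpiQ.appLE_congr_hom _ _ (hp.inv g) _ _ _ _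
    · intro g
      rw [Scheme.Hom.appLE_comp_appLE, Scheme.Hom.appLE_comp_appLE]
      exact Groth.Agent.Helper9.EffEpiQ.appLE_congr_hom _ _ (hρ₁ g) _ _ _ _
    · intro g
      rw [Scheme.Hom.appLE_comp_appLE]
      exact Groth.Agent.Helper9.EffEpiQ.appLE_congr_hom _ _ (hρ₂ g) _ _ _ _
    · have := hp.injective V
      rw [Scheme.Hom.app_eq_appLE] at this
      exact this
    · intro b hb
      have := (hp.range_iff V b).mpr hb
      rw [Scheme.Hom.app_eq_appLE] at this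
      exact this
  exact Groth.Agent.Helper6.QuotBasis.isQuot_of_basis ρ' p' hρ₂ ℬ hℬ
    (fun V' hV' => (key V' hV').1) (fun V' hV' => (key V' hV').2)

end Groth.Agent.Lead.QBase
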