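import Mathlib
import Groth.Agent.Helper9.InvAlg

/-!
# Lead: invariants of a finite group acting on a normal one-dimensional domain (algebra)
-/

set_option autoImplicit false
set_option linter.style.haveILetI false
set_option linter.unusedSectionVars false
set_option linter.unusedVariables false

namespace Groth.Agent.Lead.QCurv

universe u

variable (C B : Type u) [CommRing C] [CommRing B] [Algebra C B]
  (G : Type*) [Group G] [Finite G] [MulSemiringAction G B] [SMulCommClass G C B]
  [Algebra.IsInvariant C B G]

include G in
/-- invariants of an integrally closed domain are integrally closed -/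
theorem isIntegrallyClosed (hinj : Function.Injective (algebraMap C B))
    [IsDomain B] [IsIntegrallyClosed B] : IsIntegrallyClosed C := by
  haveI : IsDomain C := hinj.isDomain _
  let K := FractionRing C
  let L := FractionRing B
  have hinj' : Function.Injective ((algebraMap B L).comp (algebraMap C B)) :=
    (IsFractionRing.injective B L).comp hinj
  let f : K →+* L := IsFractionRing.lift hinj'
  have hf : ∀ c : C, f (algebraMap C K c) = algebraMap B L (algebraMap C B c) := fun c =>
    IsFractionRing.lift_algebraMap hinj' c
  rw [isIntegrallyClosed_iff K]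
  intro x hx
  obtain ⟨c, d, hd, rfl⟩ := IsFractionRing.div_surjective (A := C) x
  have hd0 : d ≠ 0 := nonZeroDivisors.ne_zero hd
  -- image in L is integral over B
  have h1 : IsIntegral B (f (algebraMap C K c / algebraMap C K d)) := by
    obtain ⟨P, hPm, hP⟩ := hx
    refine ⟨P.map (algebraMap C B), hPm.map _, ?_⟩
    rw [Polynomial.eval₂_map]
    have : Polynomial.eval₂ ((algebraMap B L).comp (algebraMap C B))
        (f (algebraMap C K c / algebraMap C K d)) P =
        f (Polynomial.eval₂ (algebraMap C K) (algebraMap C K c / algebraMap C K d) P) := by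
      rw [Polynomial.hom_eval₂]
      congr 1
      ext c'
      exact (hf c').symm
    rw [this, hP, map_zero]
  obtain ⟨b, hb⟩ := (isIntegrallyClosed_iff L).mp inferInstance h1
  have hbd : b * algebraMap C B d = algebraMap C B c := by
    apply IsFractionRing.injective B L
    rw [map_mul, hb, map_div₀, hf, hf, div_mul_cancel₀]
    intro h0
    rw [← hf] at h0
    exact hd0 ((IsFractionRing.injective C K) (f.injective (h0.trans (map_zero f).symm) |>.trans
      (map_zero _).symm))
  have hdB : algebraMap C B d ≠ 0 := fun h0 => hd0 (hinj (h0.trans (map_zero _).symm))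
  have hbinv : ∀ g : G, g • b = b := by
    intro g
    have h2 : g • (b * algebraMap C B d) = g • b * algebraMap C B d := by
      rw [smul_mul', smul_algebraMap]
    rw [hbd, smul_algebraMap, ← hbd] at h2
    exact (mul_right_cancel₀ hdB h2).symm
  obtain ⟨c', hc'⟩ := Algebra.IsInvariant.isInvariant (A := C) b hbinv
  refine ⟨c', ?_⟩
  have h3 : c' * d = c := by
    apply hinj
    rw [map_mul, hc', hbd]
  rw [eq_div_iff (by
    intro h0
    exact hd0 ((IsFractionRing.injective C K) (h0.trans (map_zero _).symm))), ← map_mul, h3]

include G in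
/-- invariants of a ring of dimension `≤ 1` have dimension `≤ 1` -/
theorem dimensionLEOne [IsDomain B] [Ring.DimensionLEOne B]
    (hinj : Function.Injective (algebraMap C B)) : Ring.DimensionLEOne C := by
  haveI : Algebra.IsIntegral C B := Algebra.IsInvariant.isIntegral C B G
  refine ⟨fun {P} hP hPp => ?_⟩
  obtain ⟨Q, hQp, hQ⟩ := Ideal.exists_ideal_over_prime_of_isIntegral P (⊥ : Ideal B)
    (by
      rw [Ideal.comap_bot_of_injective _ hinj]
      exact bot_le)
  have hQ0 : Q ≠ ⊥ := by
    rintro rfl
    rw [Ideal.comap_bot_of_injective _ hinj] at hQ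
    exact hP hQ.2.symm
  haveI := hQ.1
  have hQm : Q.IsMaximal := Ring.DimensionLEOne.maximalOfPrime hQ0 hQ.1
  rw [← hQ.2]
  exact Ideal.isMaximal_comap_of_isIntegral_of_isMaximal Q

include G in
theorem isDedekindDomain [IsDomain B] [IsIntegrallyClosed B] [Ring.DimensionLEOne B]
    [IsNoetherianRing C] (hinj : Function.Injective (algebraMap C B)) : IsDedekindDomain C := by
  haveI : IsDomain C := hinj.isDomain _
  haveI := isIntegrallyClosed C B G hinj
  haveI := dimensionLEOne C B G hinj
  exact { }

include G in
theorem flat [IsDomain B] [IsIntegrallyClosed B] [Ring.DimensionLEOne B]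
    [IsNoetherianRing C] (hinj : Function.Injective (algebraMap C B)) : Module.Flat C B := by
  haveI := isDedekindDomain C B G hinj
  haveI : Module.IsTorsionFree C B := Module.isTorsionFree_iff_algebraMap_injective.mpr hinj
  infer_instance

/-- the rank of `B` over its invariants is `|G|` everywhere, for a faithful action -/
theorem rankAtStalk_eq [IsDomain B] [FaithfulSMul G B] [Module.Finite C B] [Module.Flat C B]
    (hinj : Function.Injective (algebraMap C B)) (p : PrimeSpectrum C) :
    Module.rankAtStalk B p = Nat.card G := by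
  haveI : IsDomain C := hinj.isDomain _
  haveI : FaithfulSMul C B := (faithfulSMul_iff_algebraMap_injective C B).mpr hinj
  haveI : IsGaloisGroup G C B := ⟨inferInstance, inferInstance, inferInstance⟩
  rw [IsGaloisGroup.card_eq_finrank' G C B]
  haveI := p.2
  rw [← Ideal.finrank_fiber_eq_rankAtStalk p.asIdeal, Ideal.finrank_fiber_eq_finrank]

section RingHom

variable {C B : Type u} [CommRing C] [CommRing B] {G : Type*} [Group G] [Finite G]

/-- ring-hom form: `φ : C → B` is the inclusion of the invariants of an anti-action `α` of `G`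
on the normal one-dimensional domain `B`. -/
theorem ringHom_pkg (φ : C →+* B) (hinj : Function.Injective φ)
    (α : G → B →+* B) (h1 : α 1 = RingHom.id B)
    (hmul : ∀ g h : G, α (g * h) = (α h).comp (α g))
    (hrange : ∀ b : B, b ∈ Set.range φ ↔ ∀ g : G, α g b = b)
    [IsDomain B] [IsIntegrallyClosed B] [Ring.DimensionLEOne B] [IsNoetherianRing C] :
    IsDedekindDomain C ∧ φ.Flat ∧
      (φ.Finite → (∀ g : G, α g = RingHom.id B → g = 1) →
        ∀ p : PrimeSpectrum C, φ.finrank p = Nat.card G) := by
  letI : Algebra C B := φ.toAlgebra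
  letI : MulSemiringAction G B := Groth.Agent.Helper9.InvAlg.actOf α h1 hmul
  have hsm : ∀ (g : G) (b : B), g • b = α g⁻¹ b := fun g b => rfl
  haveI : SMulCommClass G C B := ⟨fun g a b => by
    rw [Algebra.smul_def, Algebra.smul_def, hsm, hsm, map_mul]
    congr 1
    exact (hrange _).mp ⟨a, rfl⟩ g⁻¹⟩
  haveI : Algebra.IsInvariant C B G := ⟨fun b hb => (hrange b).mpr (fun g => by
    have := hb g⁻¹
    rwa [hsm, _root_.inv_inv] at this)⟩
  have hinj' : Function.Injective (algebraMap C B) := hinj
  have hflat : Module.Flat C B := flat C B G hinj'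
  refine ⟨isDedekindDomain C B G hinj', hflat, fun hfin hfaith p => ?_⟩
  haveI : Module.Finite C B := hfin
  haveI : FaithfulSMul G B := ⟨fun {g₁ g₂} h => by
    have hα : α g₁⁻¹ = α g₂⁻¹ := RingHom.ext fun b => h b
    have h2 : α (g₁⁻¹ * g₂) = RingHom.id B := by
      rw [hmul, hα, ← hmul, inv_mul_cancel, h1]
    have h3 := hfaith _ h2
    exact (inv_mul_eq_one.mp h3)⟩
  exact rankAtStalk_eq C B G hinj' p

end RingHom

end Groth.Agent.Lead.QCurv
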