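import Mathlib
import Groth.Prelude.Def_SGA1
import Groth.Agent.Helper9.QuotAff
import Groth.Agent.Helper2.TopDim
import Groth.Agent.Lead.QCurvA

/-!
# Lead: quotient of an integral normal scheme of dimension `≤ 1` by a finite group
-/

set_option autoImplicit false
set_option linter.style.haveILetI false
set_option linter.unusedSectionVars false
set_option linter.unusedVariables false

namespace Groth.Agent.Lead.QCurv

open CategoryTheory CategoryTheory.Limits AlgebraicGeometry Topology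
open Groth.Agent.Helper9

universe u

section Affine

variable {X : Scheme.{u}}

theorem ringKrullDim_of_isAffineOpen {U : X.Opens} (hU : IsAffineOpen U) :
    ringKrullDim Γ(X, U) = topologicalKrullDim (U : Set X) := by
  rw [← PrimeSpectrum.topologicalKrullDim_eq_ringKrullDim]
  exact (IsHomeomorph.topologicalKrullDim_eq _
    (Scheme.homeoOfIso hU.isoSpec).isHomeomorph).symm

theorem ringKrullDim_le_of_isAffineOpen {U : X.Opens} (hU : IsAffineOpen U) :
    ringKrullDim Γ(X, U) ≤ topologicalKrullDim X := by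
  rw [ringKrullDim_of_isAffineOpen hU]
  exact topologicalKrullDim_subspace_le X (U : Set X)

theorem isIntegrallyClosed_of_isAffineOpen [IsIntegral X]
    (hN : ∀ x : X, IsIntegrallyClosed (X.presheaf.stalk x)) {U : X.Opens} (hU : IsAffineOpen U)
    [Nonempty U] : IsIntegrallyClosed Γ(X, U) := by
  apply IsIntegrallyClosed.of_localization_maximal
  intro P hP0 hPm
  haveI := hPm.isPrime
  let y : PrimeSpectrum Γ(X, U) := ⟨P, hPm.isPrime⟩
  have hy : hU.fromSpec y ∈ U := (hU.isoSpec.inv y).2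
  letI := TopCat.Presheaf.algebra_section_stalk X.presheaf ⟨hU.fromSpec y, hy⟩
  haveI : IsLocalization.AtPrime (X.presheaf.stalk (hU.fromSpec y)) P :=
    hU.isLocalization_stalk' y hy
  haveI := hN (hU.fromSpec y)
  exact IsIntegrallyClosed.of_equiv (IsLocalization.algEquiv P.primeCompl
    (X.presheaf.stalk (hU.fromSpec y)) (Localization.AtPrime P)).toRingEquiv

theorem dimensionLEOne_of_isAffineOpen [IsIntegral X] (hdim : topologicalKrullDim X ≤ 1)
    {U : X.Opens} (hU : IsAffineOpen U) [Nonempty U] : Ring.DimensionLEOne Γ(X, U) := by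
  haveI : Ring.KrullDimLE 1 Γ(X, U) :=
    Ring.krullDimLE_iff.2 ((ringKrullDim_le_of_isAffineOpen hU).trans hdim)
  exact ⟨fun {p} hp hpp => Ring.krullDimLE_one_iff_of_noZeroDivisors.1 inferInstance p hp hpp⟩

/-- a normal noetherian local domain of dimension at most one is regular -/
theorem regular_of_normal_dim_le_one (R : Type u) [CommRing R] [IsDomain R] [IsLocalRing R]
    [IsNoetherianRing R] [IsIntegrallyClosed R] (h : ringKrullDim R ≤ 1) :
    IsRegularLocalRing R := by
  haveI : Ring.KrullDimLE 1 R := Ring.krullDimLE_iff.mpr (by exact_mod_cast h)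
  have h1 : ∀ P : Ideal R, P ≠ ⊥ → P.IsPrime → P = IsLocalRing.maximalIdeal R := by
    intro P hP hP'
    exact IsLocalRing.eq_maximalIdeal
      (Ring.krullDimLE_one_iff_of_noZeroDivisors.mp inferInstance P hP hP')
  have h2 : IsIntegrallyClosed R ∧ ∀ P : Ideal R, P ≠ ⊥ → P.IsPrime →
      P = IsLocalRing.maximalIdeal R := ⟨inferInstance, h1⟩
  haveI : IsPrincipalIdealRing R :=
    ((tfae_of_isNoetherianRing_of_isLocalRing_of_isDomain R).out 3 0).mp h2
  infer_instance

end Affine

section Quot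

variable {X Y : Scheme.{u}} {G : Type u} [Group G] [Finite G] {ρ : G →* Aut X} {π : X ⟶ Y}

theorem nonempty_preimage (hquot : SGA1.IsQuot ρ π) (V : Y.Opens) [Nonempty V] :
    Nonempty (π ⁻¹ᵁ V) := by
  obtain ⟨⟨y, hy⟩⟩ := ‹Nonempty V›
  obtain ⟨x, rfl⟩ := FinQuot.surjective hquot y
  exact ⟨⟨x, hy⟩⟩

/-- the local package over an affine open of the quotient -/
theorem local_pkg (hquot : SGA1.IsQuot ρ π) [IsIntegral X]
    (hN : ∀ x : X, IsIntegrallyClosed (X.presheaf.stalk x))
    (hdim : topologicalKrullDim X ≤ 1) [IsLocallyNoetherian Y]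
    (V : Y.Opens) (hV : IsAffineOpen V) [Nonempty V] :
    IsDedekindDomain Γ(Y, V) ∧ (π.app V).hom.Flat ∧
      ((π.app V).hom.Finite →
        (∀ g : G, FinQuot.α ρ π hquot.inv V g = RingHom.id _ → g = 1) →
        ∀ p : PrimeSpectrum Γ(Y, V), (π.app V).hom.finrank p = Nat.card G) := by
  haveI := hquot.affine
  have hU : IsAffineOpen (π ⁻¹ᵁ V) := hV.preimage π
  haveI : Nonempty (π ⁻¹ᵁ V) := nonempty_preimage hquot V
  haveI : IsDomain Γ(X, π ⁻¹ᵁ V) := inferInstance
  haveI := isIntegrallyClosed_of_isAffineOpen hN hU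
  haveI : Ring.DimensionLEOne Γ(X, π ⁻¹ᵁ V) := dimensionLEOne_of_isAffineOpen hdim hU
  haveI : IsNoetherianRing Γ(Y, V) := IsLocallyNoetherian.component_noetherian ⟨V, hV⟩
  exact ringHom_pkg (π.app V).hom (hquot.injective V) (FinQuot.α ρ π hquot.inv V)
    (FinQuot.α_one ρ π hquot.inv V) (FinQuot.α_mul ρ π hquot.inv V) (hquot.range_iff V)

theorem isIntegral_target (hquot : SGA1.IsQuot ρ π) [IsIntegral X] : IsIntegral Y := by
  haveI : Nonempty Y := ⟨π.base (Nonempty.some inferInstance)⟩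
  refine { component_integral := fun U _ => ?_ }
  haveI : Nonempty (π ⁻¹ᵁ U) := nonempty_preimage hquot U
  exact (hquot.injective U).isDomain _

theorem flat_quot (hquot : SGA1.IsQuot ρ π) [IsIntegral X]
    (hN : ∀ x : X, IsIntegrallyClosed (X.presheaf.stalk x))
    (hdim : topologicalKrullDim X ≤ 1) [IsLocallyNoetherian Y] : Flat π := by
  haveI := hquot.affine
  rw [HasRingHomProperty.iff_exists_appLE (P := @Flat)
    (RingHom.Flat.stableUnderComposition.stableUnderCompositionWithLocalizationAway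
      RingHom.Flat.holdsForLocalizationAway).left]
  intro x
  obtain ⟨_, ⟨V, hV, rfl⟩, hxV, -⟩ := Y.isBasis_affineOpens.exists_subset_of_mem_open
    (Set.mem_univ (π.base x)) isOpen_univ
  haveI : Nonempty V := ⟨⟨_, hxV⟩⟩
  refine ⟨⟨V, hV⟩, ⟨π ⁻¹ᵁ V, hV.preimage π⟩, hxV, le_rfl, ?_⟩
  have := (local_pkg hquot hN hdim V hV).2.1
  rwa [Scheme.Hom.app_eq_appLE] at this

theorem regular_stalk (hquot : SGA1.IsQuot ρ π) [IsIntegral X]
    (hN : ∀ x : X, IsIntegrallyClosed (X.presheaf.stalk x))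
    (hdim : topologicalKrullDim X ≤ 1) [IsLocallyNoetherian Y] (y : Y) :
    IsRegularLocalRing (Y.presheaf.stalk y) := by
  obtain ⟨_, ⟨V, hV, rfl⟩, hyV, -⟩ := Y.isBasis_affineOpens.exists_subset_of_mem_open
    (Set.mem_univ y) isOpen_univ
  have hV' : IsAffineOpen V := hV
  haveI : Nonempty V := ⟨⟨_, hyV⟩⟩
  haveI := (local_pkg hquot hN hdim V hV).1
  letI := Y.presheaf.algebra_section_stalk ⟨y, hyV⟩
  haveI := isIntegral_target hquot
  haveI : IsDomain (Y.presheaf.stalk y) := inferInstance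
  haveI hloc : IsLocalization.AtPrime (Y.presheaf.stalk y) (hV'.primeIdealOf ⟨y, hyV⟩).asIdeal :=
    hV'.isLocalization_stalk ⟨y, hyV⟩
  haveI : IsDedekindDomain (Y.presheaf.stalk y) :=
    IsLocalization.AtPrime.isDedekindDomain Γ(Y, V) (hV'.primeIdealOf ⟨y, hyV⟩).asIdeal
      (Y.presheaf.stalk y)
  apply regular_of_normal_dim_le_one
  haveI : Ring.KrullDimLE 1 (Y.presheaf.stalk y) :=
    Ring.krullDimLE_one_iff_of_noZeroDivisors.2
      (fun p hp hpp => Ring.DimensionLEOne.maximalOfPrime hp hpp)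
  exact Ring.krullDimLE_iff.1 inferInstance

theorem dim_le_one (hquot : SGA1.IsQuot ρ π) [IsIntegral X]
    (hN : ∀ x : X, IsIntegrallyClosed (X.presheaf.stalk x))
    (hdim : topologicalKrullDim X ≤ 1) [IsLocallyNoetherian Y] :
    topologicalKrullDim Y ≤ 1 := by
  rw [Groth.Agent.Helper2.TopDim.dim_eq_iSup_localDim]
  refine iSup_le fun y => ?_
  obtain ⟨_, ⟨V, hV, rfl⟩, hyV, -⟩ := Y.isBasis_affineOpens.exists_subset_of_mem_open
    (Set.mem_univ y) isOpen_univ
  have hV' : IsAffineOpen V := hV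
  haveI : Nonempty V := ⟨⟨_, hyV⟩⟩
  haveI := (local_pkg hquot hN hdim V hV).1
  refine (iInf_le _ (⟨V, hyV⟩ : {U : TopologicalSpace.Opens Y // y ∈ U})).trans ?_
  rw [← ringKrullDim_of_isAffineOpen hV']
  haveI : Ring.KrullDimLE 1 Γ(Y, V) :=
    Ring.krullDimLE_one_iff_of_noZeroDivisors.2
      (fun p hp hpp => Ring.DimensionLEOne.maximalOfPrime hp hpp)
  exact Ring.krullDimLE_iff.1 inferInstance

end Quot

end Groth.Agent.Lead.QCurv
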