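import Mathlib
import Groth.Prelude.Def_SGA1
import Groth.Agent.Lead.QCurvB

/-!
# Lead: rank of the quotient map of a normal curve by a faithful finite group action
-/

set_option autoImplicit false
set_option linter.style.haveILetI false
set_option linter.unusedSectionVars false
set_option linter.unusedVariables false

namespace Groth.Agent.Lead.QCurv

open CategoryTheory CategoryTheory.Limits AlgebraicGeometry Topology
open Groth.Agent.Helper9

universe u

variable {X Y : Scheme.{u}} {G : Type u} [Group G] [Finite G] {ρ : G →* Aut X} {π : X ⟶ Y}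

theorem alpha_eq_id_imp (hquot : SGA1.IsQuot ρ π) [IsIntegral X] {Z : Scheme.{u}} (s : X ⟶ Z)
    [IsSeparated s] (hs : ∀ g : G, (ρ g).hom ≫ s = s) (hρ : Function.Injective ρ)
    (V : Y.Opens) (hV : IsAffineOpen V) [Nonempty V] (g : G)
    (h : FinQuot.α ρ π hquot.inv V g = RingHom.id _) : g = 1 := by
  haveI := hquot.affine
  have hU : IsAffineOpen (π ⁻¹ᵁ V) := hV.preimage π
  haveI : Nonempty (π ⁻¹ᵁ V) := nonempty_preimage hquot V
  have e := SGA1.preimage_le_of_inv ρ π hquot.inv g V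
  have h1 : (ρ g).hom.appLE (π ⁻¹ᵁ V) (π ⁻¹ᵁ V) e = 𝟙 _ := CommRingCat.hom_ext h
  have h2 := IsAffineOpen.SpecMap_appLE_fromSpec (ρ g).hom hU hU e
  rw [h1, Spec.map_id, Category.id_comp] at h2
  haveI : IsDominant hU.fromSpec := ⟨by
    rw [DenseRange, hU.range_fromSpec]
    obtain ⟨⟨x, hx⟩⟩ := ‹Nonempty (π ⁻¹ᵁ V)›
    exact (π ⁻¹ᵁ V).2.dense ⟨x, hx⟩⟩
  have h3 : (ρ g).hom = 𝟙 X :=
    ext_of_isDominant_of_isSeparated s (by rw [hs g, Category.id_comp]) hU.fromSpec
      (by rw [← h2, Category.comp_id])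
  apply hρ
  rw [map_one]
  exact Iso.ext h3

theorem finrank_eq (hquot : SGA1.IsQuot ρ π) [IsIntegral X]
    (hN : ∀ x : X, IsIntegrallyClosed (X.presheaf.stalk x))
    (hdim : topologicalKrullDim X ≤ 1) [IsLocallyNoetherian Y] [IsFinite π] [Flat π]
    {Z : Scheme.{u}} (s : X ⟶ Z) [IsSeparated s] (hs : ∀ g : G, (ρ g).hom ≫ s = s)
    (hρ : Function.Injective ρ) (y : Y) : π.finrank y = Nat.card G := by
  obtain ⟨_, ⟨V, hV, rfl⟩, hyV, -⟩ := Y.isBasis_affineOpens.exists_subset_of_mem_open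
    (Set.mem_univ y) isOpen_univ
  have hV' : IsAffineOpen V := hV
  haveI : Nonempty V := ⟨⟨_, hyV⟩⟩
  have hU : IsAffineOpen (π ⁻¹ᵁ V) := hV'.preimage π
  set P := hV'.primeIdealOf ⟨y, hyV⟩ with hPdef
  have hP : hV'.fromSpec P = y := hV'.fromSpec_primeIdealOf ⟨y, hyV⟩
  have hfin : (π.app V).hom.Finite := IsFinite.finite_app π V hV'
  obtain ⟨-, hflat, hrk⟩ := local_pkg hquot hN hdim V hV'
  have h0 := IsAffineOpen.SpecMap_appLE_fromSpec π hV' hU le_rfl
  rw [Scheme.Hom.appLE_eq_app] at h0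
  have hcomm : hU.isoSpec.inv ≫ (π ∣_ V) = Spec.map (π.app V) ≫ hV'.isoSpec.inv := by
    rw [← cancel_mono (Scheme.Opens.ι V)]
    simp only [Category.assoc, morphismRestrict_ι]
    exact h0.symm
  have hA : IsPullback hU.isoSpec.inv (Spec.map (π.app V)) (π ∣_ V) hV'.isoSpec.inv :=
    IsPullback.of_horiz_isIso ⟨hcomm⟩
  have hpb : IsPullback hU.fromSpec (Spec.map (π.app V)) π hV'.fromSpec :=
    hA.paste_horiz (isPullback_morphismRestrict π V).flip
  rw [← hP, ← Scheme.Hom.finrank_of_isPullback _ _ _ _ hpb P,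
    Scheme.Hom.finrank_SpecMap_eq_finrank hfin hflat]
  exact hrk hfin (fun g h => alpha_eq_id_imp hquot s hs hρ V hV' g h) P

end Groth.Agent.Lead.QCurv
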