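import Mathlib
import Groth.Prelude.Def_SGA1
import Groth.Agent.Helper5.IntDim
import Groth.Agent.Helper9.QuotStage
import Groth.Agent.Helper4.SN42
import Groth.Agent.Helper4.RegNormal
import Groth.Agent.Helper2.SmoothRegSch
import Groth.Agent.Helper3.GenSmReg
import Groth.Agent.S5137
import Groth.Agent.Lead.QCurvC

/-!
# Lead: the quotient of a smooth proper curve by a finite group is smooth
-/

set_option autoImplicit false
set_option linter.style.haveILetI false
set_option linter.unusedSectionVars false
set_option linter.unusedVariables false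

namespace Groth.Agent.Lead.QCurv

open CategoryTheory CategoryTheory.Limits AlgebraicGeometry Topology
open Groth.Agent.Helper9

universe u

section Dim

/-- incomparability for integral morphisms of schemes -/
theorem eq_of_specializes_of_isIntegralHom {W V : Scheme.{u}} (i : W ⟶ V) [IsIntegralHom i]
    {a a' : W} (h : a' ⤳ a) (hi : i a' = i a) : a' = a := by
  obtain ⟨_, ⟨V₀, hV₀, rfl⟩, haV, -⟩ := V.isBasis_affineOpens.exists_subset_of_mem_open
    (Set.mem_univ (i a)) isOpen_univ
  have hV₀' : IsAffineOpen V₀ := hV₀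
  have hW₀ : IsAffineOpen (i ⁻¹ᵁ V₀) := hV₀'.preimage i
  haveI : IsAffine (V₀ : Scheme.{u}) := hV₀'
  haveI : IsAffine ((i ⁻¹ᵁ V₀ : W.Opens) : Scheme.{u}) := hW₀
  have ha : a ∈ i ⁻¹ᵁ V₀ := haV
  have ha' : a' ∈ i ⁻¹ᵁ V₀ := by change i a' ∈ V₀; rw [hi]; exact haV
  let b : ↥((i ⁻¹ᵁ V₀ : W.Opens) : Scheme.{u}) := ⟨a, ha⟩
  let b' : ↥((i ⁻¹ᵁ V₀ : W.Opens) : Scheme.{u}) := ⟨a', ha'⟩
  have hsp : b' ⤳ b :=
    (Topology.IsInducing.specializes_iff
      (Scheme.Opens.ι (i ⁻¹ᵁ V₀)).isOpenEmbedding.isInducing (x := b') (y := b)).mp h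
  have hib : (i ∣_ V₀) b' = (i ∣_ V₀) b := by
    apply (Scheme.Opens.ι V₀).isOpenEmbedding.injective
    rw [← Scheme.Hom.comp_apply, ← Scheme.Hom.comp_apply, morphismRestrict_ι,
      Scheme.Hom.comp_apply, Scheme.Hom.comp_apply]
    exact hi
  have := Groth.Agent.Helper5.IntDim.eq_of_specializes_of_integral (i ∣_ V₀) hsp hib
  exact congrArg Subtype.val this

attribute [local instance] specializationOrder in
theorem strictMono_of_isIntegralHom {W V : Scheme.{u}} (i : W ⟶ V) [IsIntegralHom i] :
    StrictMono (fun a : ↥W => i a) := by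
  intro a a' h
  obtain ⟨h1, h2⟩ := h
  change a' ⤳ a at h1
  change ¬ a ⤳ a' at h2
  refine ⟨h1.map i.continuous, fun h3 => h2 ?_⟩
  have h4 : i a' = i a := (Specializes.antisymm (h1.map i.continuous) h3).eq
  rw [eq_of_specializes_of_isIntegralHom i h1 h4]

attribute [local instance] specializationOrder in
theorem topologicalKrullDim_le_of_isIntegralHom {W V : Scheme.{u}} (i : W ⟶ V)
    [IsIntegralHom i] : topologicalKrullDim ↥W ≤ topologicalKrullDim ↥V := by
  rw [Groth.Agent.Helper5.IntDim.topologicalKrullDim_eq_iSup_height,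
    Groth.Agent.Helper5.IntDim.topologicalKrullDim_eq_iSup_height]
  refine iSup_le fun w => ?_
  refine le_trans ?_ (le_iSup (fun v : ↥V => ((Order.height v : ℕ∞) : WithBot ℕ∞)) (i w))
  exact_mod_cast Order.height_le_height_apply_of_strictMono (fun a : ↥W => i a)
    (strictMono_of_isIntegralHom i) w

end Dim

section Curve

variable (k : Type u) [Field k]

/-- a proper smooth geometrically connected scheme over a field is integral and normal -/
theorem curve_facts {X : Scheme.{u}} (p : X ⟶ Spec (CommRingCat.of k)) [IsProper p] [Smooth p]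
    [GeometricallyConnected p] :
    IsIntegral X ∧ ∀ x : X, IsIntegrallyClosed (X.presheaf.stalk x) := by
  letI : X.Over (Spec (CommRingCat.of k)) := ⟨p⟩
  haveI : IsProper (X ↘ Spec (CommRingCat.of k)) := ‹IsProper p›
  haveI : Smooth (X ↘ Spec (CommRingCat.of k)) := ‹Smooth p›
  haveI : GeometricallyConnected (X ↘ Spec (CommRingCat.of k)) := ‹GeometricallyConnected p›
  refine ⟨Groth.Agent.Helper4.SN.isIntegral_of_smooth_of_geometricallyConnected k X, fun x => ?_⟩
  haveI := Groth.Agent.Helper2.SmoothRegSch.stalk_regular_of_smooth k X p x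
  exact Groth.Agent.Helper4.RegNormal.isIntegrallyClosed_of_isRegularLocalRing _

variable {k}
variable {X Y : Scheme.{u}} {G : Type u} [Group G] [Finite G] {ρ : G →* Aut X} {π : X ⟶ Y}

/-- the quotient of a smooth proper geometrically connected curve by a finite group is smooth -/
theorem smooth_quot (p : X ⟶ Spec (CommRingCat.of k)) [IsProper p] [Smooth p]
    [GeometricallyConnected p] (hX : topologicalKrullDim X ≤ 1)
    (q : Y ⟶ Spec (CommRingCat.of k)) (hπ : π ≫ q = p) (hquot : SGA1.IsQuot ρ π)
    [LocallyOfFiniteType q] [IsFinite π] : Smooth q := by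
  subst hπ
  let K := AlgebraicClosure k
  let b : Spec (CommRingCat.of K) ⟶ Spec (CommRingCat.of k) :=
    Spec.map (CommRingCat.ofHom (algebraMap k K))
  haveI hbflat : Flat b :=
    (HasRingHomProperty.Spec_iff (P := @Flat)).mpr (RingHom.flat_algebraMap_iff.mpr inferInstance)
  haveI hbint : IsIntegralHom b :=
    IsIntegralHom.SpecMap_iff.mpr (algebraMap_isIntegral_iff.mpr inferInstance)
  haveI hbsurj : Surjective b := ⟨fun x => ⟨Nonempty.some inferInstance, Subsingleton.elim _ _⟩⟩
  let qY := pullback.fst q b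
  let bY := pullback.snd q b
  let pX := pullback.fst π qY
  let π' := pullback.snd π qY
  have hY : IsPullback qY bY q b := IsPullback.of_hasPullback q b
  have hX' : IsPullback pX π' π qY := IsPullback.of_hasPullback π qY
  have hXb : IsPullback pX (π' ≫ bY) (π ≫ q) b := hX'.paste_vert hY
  -- the action on the base change
  let a : G → (pullback π qY ⟶ pullback π qY) := fun g =>
    pullback.lift (pX ≫ (ρ g).hom) π' (by
      rw [Category.assoc, hquot.inv g]; exact pullback.condition)
  have ha1 : a 1 = 𝟙 _ := by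
    apply pullback.hom_ext
    · simp only [a, pullback.lift_fst, map_one, Category.id_comp]
      exact Category.comp_id _
    · simp only [a, pullback.lift_snd, Category.id_comp]
      rfl
  have hamul : ∀ g h : G, a (g * h) = a h ≫ a g := by
    intro g h
    apply pullback.hom_ext
    · simp only [a, pullback.lift_fst, Category.assoc, map_mul]
      rw [pullback.lift_fst_assoc]
      rfl
    · simp only [a, pullback.lift_snd, Category.assoc]
      exact (pullback.lift_snd _ _ _).symm
  let ρ' : G →* Aut (pullback π qY) := QuotStage.autOfAct a ha1 hamul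
  have hρ₁ : ∀ g : G, (ρ' g).hom ≫ pX = pX ≫ (ρ g).hom := fun g => pullback.lift_fst _ _ _
  have hρ₂ : ∀ g : G, (ρ' g).hom ≫ π' = π' := fun g => pullback.lift_snd _ _ _
  have hquot' : SGA1.IsQuot ρ' π' :=
    Groth.Agent.S5137.result ρ π hquot q b qY bY hY pX π' hX' ρ' hρ₁ hρ₂
  -- properties of the base change
  haveI : IsProper (π' ≫ bY) := MorphismProperty.of_isPullback hXb ‹IsProper (π ≫ q)›
  haveI : Smooth (π' ≫ bY) := MorphismProperty.of_isPullback hXb ‹Smooth (π ≫ q)›
  haveI : GeometricallyConnected (π' ≫ bY) :=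
    MorphismProperty.of_isPullback hXb ‹GeometricallyConnected (π ≫ q)›
  obtain ⟨hint, hN⟩ := curve_facts K (π' ≫ bY)
  haveI := hint
  have hdim' : topologicalKrullDim ↥(pullback π qY) ≤ 1 :=
    (topologicalKrullDim_le_of_isIntegralHom pX).trans hX
  haveI : LocallyOfFiniteType bY := inferInstanceAs (LocallyOfFiniteType (pullback.snd q b))
  haveI : IsLocallyNoetherian (pullback q b) := LocallyOfFiniteType.isLocallyNoetherian bY
  have hreg := regular_stalk hquot' hN hdim'
  haveI : Smooth bY := Groth.Agent.Helper3.GenSmReg.smooth_of_regular_of_perfect K bY hreg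
  exact MorphismProperty.of_pullback_snd_of_descendsAlong (P := @Smooth)
    (Q := @Surjective ⊓ @Flat ⊓ @QuasiCompact) (f := q) (g := b)
    ⟨⟨hbsurj, hbflat⟩, inferInstance⟩ ‹Smooth bY›

end Curve

end Groth.Agent.Lead.QCurv
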