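import Mathlib
import Groth.Prelude.Def_SGA1
import Groth.Prelude.Def_MoreMor
import Groth.Agent.Lead.QFamA

/-!
# Lead: fibres of quotients, scheme-theoretic faithfulness version
-/

set_option autoImplicit false
set_option linter.style.haveILetI false
set_option linter.unusedSectionVars false
set_option linter.unusedVariables false

namespace Groth.Agent.Lead.QFam

open CategoryTheory CategoryTheory.Limits AlgebraicGeometry Topology
open Groth.Agent.Helper9 Groth.Agent.Lead.QCurv

universe u

section Stab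

variable {X Z W : Scheme.{u}}

/-- automorphisms of `X` over `k : X ⟶ Z` -/
def stabOver (k : X ⟶ Z) : Subgroup (Aut X) where
  carrier := {g | g.hom ≫ k = k}
  mul_mem' := by
    intro g h hg hh
    change (h.hom ≫ g.hom) ≫ k = k
    rw [Category.assoc, hg, hh]
  one_mem' := Category.id_comp k
  inv_mem' := by
    intro g hg
    change g.inv ≫ k = k
    rw [Iso.inv_comp_eq]
    exact hg.symm

/-- automorphisms of `X` fixing `i : W ⟶ X` -/
def stabUnder (i : W ⟶ X) : Subgroup (Aut X) where
  carrier := {g | i ≫ g.hom = i}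
  mul_mem' := by
    intro g h hg hh
    change i ≫ (h.hom ≫ g.hom) = i
    rw [← Category.assoc, hh, hg]
  one_mem' := Category.comp_id i
  inv_mem' := by
    intro g hg
    change i ≫ g.inv = i
    rw [Iso.comp_inv_eq]
    exact hg.symm

end Stab

variable {X Y S : Scheme.{u}} {G : Type u} [Group G] [Finite G] {ρ : G →* Aut X}

/-- a quotient by a trivial action is an isomorphism -/
theorem isIso_of_isQuot_trivial {π : X ⟶ Y} (hquot : SGA1.IsQuot ρ π) (htriv : ∀ g : G, ρ g = 1) :
    IsIso π := by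
  obtain ⟨h', hh', -⟩ := FinQuot.existsUnique_desc hquot X (𝟙 X) (fun g => by
    rw [htriv g]; exact Category.id_comp _)
  obtain ⟨k, -, hk⟩ := FinQuot.existsUnique_desc hquot Y π (fun g => hquot.inv g)
  have h1 : h' ≫ π = k := hk _ (by
    change π ≫ h' ≫ π = π
    rw [← Category.assoc, hh', Category.id_comp])
  have h2 : 𝟙 Y = k := hk _ (Category.comp_id π)
  exact ⟨h', hh', h1.trans h2.symm⟩

/-- the induced action on the fibre and the quotient property of the fibre map -/
theorem fibre_action (π : X ⟶ Y) (q : Y ⟶ S)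
    (hρ : ∀ a : G, (ρ a).hom ≫ (π ≫ q) = π ≫ q) (hquot : SGA1.IsQuot ρ π)
    (hN : IsUnit ((Nat.card G : ℕ) : Γ(Y, ⊤))) (s : S) :
    ∃ ρs : G →* Aut ((π ≫ q).fiber s),
      (∀ g : G, (ρs g).hom ≫ (π ≫ q).fiberι s = (π ≫ q).fiberι s ≫ (ρ g).hom) ∧
      (∀ g : G, (ρs g).hom ≫ (π ≫ q).fiberToSpecResidueField s =
        (π ≫ q).fiberToSpecResidueField s) ∧
      SGA1.IsQuot ρs (MoreMor.fiberMap π q s) := by
  let pX := (π ≫ q).fiberι s
  let ps := (π ≫ q).fiberToSpecResidueField s
  let πs := MoreMor.fiberMap π q s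
  let qs := q.fiberToSpecResidueField s
  have hleft : IsPullback pX πs π (q.fiberι s) := isPullback_fiberMap π q s
  have h2 : πs ≫ qs = ps := pullback.lift_snd _ _ _
  let a : G → ((π ≫ q).fiber s ⟶ (π ≫ q).fiber s) := fun g =>
    pullback.lift (pX ≫ (ρ g).hom) ps (by
      rw [Category.assoc, hρ g]; exact pullback.condition)
  have haf : ∀ g : G, a g ≫ pX = pX ≫ (ρ g).hom := fun g => pullback.lift_fst _ _ _
  have has : ∀ g : G, a g ≫ ps = ps := fun g => pullback.lift_snd _ _ _
  have ha1 : a 1 = 𝟙 _ := by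
    apply pullback.hom_ext
    · change a 1 ≫ pX = 𝟙 _ ≫ pX
      rw [haf, map_one, Category.id_comp]
      exact Category.comp_id _
    · change a 1 ≫ ps = 𝟙 _ ≫ ps
      rw [has, Category.id_comp]
  have hamul : ∀ g h : G, a (g * h) = a h ≫ a g := by
    intro g h
    apply pullback.hom_ext
    · change a (g * h) ≫ pX = (a h ≫ a g) ≫ pX
      rw [haf, Category.assoc, haf, ← Category.assoc, haf, Category.assoc, map_mul]
      rfl
    · change a (g * h) ≫ ps = (a h ≫ a g) ≫ ps
      rw [has, Category.assoc, has, has]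
  let ρs : G →* Aut ((π ≫ q).fiber s) := QuotStage.autOfAct a ha1 hamul
  have haπ : ∀ g : G, a g ≫ πs = πs := by
    intro g
    have e1 : πs ≫ q.fiberι s = pX ≫ π := pullback.lift_fst _ _ _
    apply pullback.hom_ext
    · change (a g ≫ πs) ≫ q.fiberι s = πs ≫ q.fiberι s
      rw [Category.assoc, e1, ← Category.assoc, haf g, Category.assoc, hquot.inv g]
    · change (a g ≫ πs) ≫ qs = πs ≫ qs
      rw [Category.assoc, h2, has g]
  refine ⟨ρs, fun g => haf g, fun g => has g, ?_⟩
  exact Groth.Agent.Lead.QBase.isQuot_baseChange_of_unit ρ π hquot hN (q.fiberι s) pX πs hleft ρs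
    (fun g => haf g) (fun g => haπ g)

/-- the package on the fibre over `s`, with scheme-theoretic faithfulness -/
theorem fibre_pkg' (π : X ⟶ Y) (q : Y ⟶ S) [IsProper (π ≫ q)] [Smooth (π ≫ q)]
    [GeometricallyConnected (π ≫ q)] [IsFinite π] [LocallyOfFiniteType q]
    (hρ : ∀ a : G, (ρ a).hom ≫ (π ≫ q) = π ≫ q) (hquot : SGA1.IsQuot ρ π)
    (hN : IsUnit ((Nat.card G : ℕ) : Γ(Y, ⊤))) (s : S)
    (hdim : topologicalKrullDim ↥((π ≫ q).fiber s) = 1)
    (hfaith : ∀ a : G, a ≠ 1 → (π ≫ q).fiberι s ≫ (ρ a).hom ≠ (π ≫ q).fiberι s) :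
    Smooth (q.fiberToSpecResidueField s) ∧ Flat (MoreMor.fiberMap π q s) ∧
      (∀ y' : ↥(q.fiber s), (MoreMor.fiberMap π q s).finrank y' = Nat.card G) ∧
      topologicalKrullDim ↥(q.fiber s) = 1 := by
  let pX := (π ≫ q).fiberι s
  let ps := (π ≫ q).fiberToSpecResidueField s
  let πs := MoreMor.fiberMap π q s
  let qs := q.fiberToSpecResidueField s
  have hbig : IsPullback pX ps (π ≫ q) (S.fromSpecResidueField s) := IsPullback.of_hasPullback _ _
  have hleft : IsPullback pX πs π (q.fiberι s) := isPullback_fiberMap π q s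
  have h2 : πs ≫ qs = ps := pullback.lift_snd _ _ _
  obtain ⟨ρs, hρ₁, hρ₀, hquots⟩ := fibre_action π q hρ hquot hN s
  have hρs : Function.Injective ρs := by
    rw [injective_iff_map_eq_one]
    intro g hg
    by_contra hne
    apply hfaith g hne
    have := hρ₁ g
    rw [hg] at this
    exact this.symm.trans (Category.id_comp _)
  haveI : IsProper ps := MorphismProperty.of_isPullback hbig ‹IsProper (π ≫ q)›
  haveI : Smooth ps := MorphismProperty.of_isPullback hbig ‹Smooth (π ≫ q)›
  haveI : GeometricallyConnected ps :=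
    MorphismProperty.of_isPullback hbig ‹GeometricallyConnected (π ≫ q)›
  haveI : IsFinite πs := MorphismProperty.of_isPullback hleft ‹IsFinite π›
  haveI : LocallyOfFiniteType qs :=
    inferInstanceAs (LocallyOfFiniteType (pullback.snd q (S.fromSpecResidueField s)))
  obtain ⟨hint, hnor⟩ := curve_facts (S.residueField s) ps
  haveI := hint
  have hdim' : topologicalKrullDim ↥((π ≫ q).fiber s) ≤ 1 := hdim.le
  haveI : IsLocallyNoetherian (q.fiber s) := LocallyOfFiniteType.isLocallyNoetherian qs
  have hflat : Flat πs := flat_quot hquots hnor hdim'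
  haveI := hflat
  have hsm : Smooth qs := smooth_quot (k := S.residueField s) ps hdim' qs h2 hquots
  refine ⟨hsm, hflat, fun y' => ?_, ?_⟩
  · exact finrank_eq hquots hnor hdim' ps hρ₀ hρs y'
  · exact le_antisymm (dim_le_one hquots hnor hdim')
      (hdim ▸ topologicalKrullDim_le_of_isIntegralHom πs)

end Groth.Agent.Lead.QFam
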