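import Mathlib
import Groth.Agent.Lead.QFinA

/-!
# Quasi-finite morphisms, part B: finite morphisms map closed nowhere dense sets to nowhere dense sets
-/

set_option autoImplicit false
universe u

open AlgebraicGeometry CategoryTheory TopologicalSpace

namespace Groth.Agent.Lead.QFin

/-- A finite morphism of schemes sends closed nowhere dense subsets to nowhere dense subsets. -/
theorem isNowhereDense_image_of_isFinite {Y X : Scheme.{u}} (g : Y ⟶ X) [IsFinite g]
    (T : Set Y) (hT : IsClosed T) (hT' : IsNowhereDense T) : IsNowhereDense (g '' T) := by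
  have hcl : IsClosed (g '' T) := g.isClosedMap T hT
  rw [hcl.isNowhereDense_iff]
  by_contra hne
  obtain ⟨x, hx⟩ := Set.nonempty_iff_ne_empty.mpr hne
  obtain ⟨_, ⟨W, hW, rfl⟩, hxW, hWsub⟩ :=
    X.isBasis_affineOpens.exists_subset_of_mem_open hx isOpen_interior
  have hW : IsAffineOpen W := hW
  have hV : IsAffineOpen (g ⁻¹ᵁ W) := hW.preimage g
  have hfin : (g.app W).hom.Finite := IsFinite.finite_app g W hW
  have hsq : Spec.map (g.app W) ≫ hW.fromSpec = hV.fromSpec ≫ g := by
    rw [Scheme.Hom.app_eq_appLE]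
    exact IsAffineOpen.SpecMap_appLE_fromSpec g hW hV le_rfl
  algebraize [(g.app W).hom]
  have : Module.Finite Γ(X, W) Γ(Y, g ⁻¹ᵁ W) := hfin
  let T' : Set (PrimeSpectrum Γ(Y, g ⁻¹ᵁ W)) := hV.fromSpec ⁻¹' T
  have hT'cl : IsClosed T' := hT.preimage hV.fromSpec.continuous
  have h1 : ¬ IsNilpotent (1 : Γ(X, W)) := by
    intro h
    exact (hW.primeIdealOf ⟨x, hxW⟩).isPrime.ne_top
      (Ideal.eq_top_of_isUnit_mem _ (mem_of_isNilpotent h _) isUnit_one)
  have hsub : (PrimeSpectrum.basicOpen (1 : Γ(X, W)) : Set (PrimeSpectrum Γ(X, W))) ⊆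
      PrimeSpectrum.comap (algebraMap Γ(X, W) Γ(Y, g ⁻¹ᵁ W)) '' T' := by
    intro p _
    have hp : hW.fromSpec p ∈ (W : Set X) := by
      rw [← hW.range_fromSpec]; exact ⟨p, rfl⟩
    obtain ⟨t, htT, ht⟩ := interior_subset (hWsub hp)
    have htV : t ∈ (g ⁻¹ᵁ W : Set Y) := by
      change g t ∈ (W : Set X)
      rw [ht]; exact hp
    rw [← hV.range_fromSpec] at htV
    obtain ⟨q, rfl⟩ := htV
    refine ⟨q, htT, ?_⟩
    apply hW.fromSpec.isOpenEmbedding.injective
    have := congrArg (fun φ => φ.base q) hsq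
    simp only [Scheme.Hom.comp_base, TopCat.hom_comp, ContinuousMap.comp_apply] at this
    rw [← ht]
    exact this
  obtain ⟨q, hq⟩ := interior_nonempty_of_basicOpen_subset_image T' hT'cl 1 h1 hsub
  have hopen : IsOpenMap hV.fromSpec := hV.fromSpec.isOpenEmbedding.isOpenMap
  have h2 : hV.fromSpec q ∈ interior T :=
    interior_mono (Set.image_preimage_subset _ _) (hopen.image_interior_subset _ ⟨q, hq, rfl⟩)
  rw [hT.isNowhereDense_iff.mp hT'] at h2
  exact h2

end Groth.Agent.Lead.QFin
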