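import Mathlib
import Groth.Agent.Lead.QFinB
import Groth.Agent.Lead.QFinD

/-!
# Quasi-finite morphisms, part E: gluing two finite pieces generically
-/

set_option autoImplicit false
set_option linter.style.haveILetI false
universe u

open AlgebraicGeometry CategoryTheory CategoryTheory.Limits TopologicalSpace

namespace Groth.Agent.Lead.QFin

theorem isNowhereDense_frontier_of_isOpen {α : Type*} [TopologicalSpace α] {s : Set α}
    (hs : IsOpen s) : IsNowhereDense (frontier s) := by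
  rw [isClosed_frontier.isNowhereDense_iff, hs.frontier_eq, Set.eq_empty_iff_forall_notMem]
  intro x hx
  have hx' := interior_subset hx
  obtain ⟨y, hy1, hy2⟩ := mem_closure_iff.mp hx'.1 _ isOpen_interior hx
  exact (interior_subset hy1).2 hy2

variable {Y X : Scheme.{u}}

/-- If `Y` is the disjoint union of two opens, each finite over `X`, then `Y` is finite over `X`. -/
theorem isFinite_of_isCompl (g : Y ⟶ X) (S1 S2 : Y.Opens) (hc : IsCompl S1 S2)
    (h1 : IsFinite (S1.ι ≫ g)) (h2 : IsFinite (S2.ι ≫ g)) : IsFinite g := by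
  obtain ⟨hcol⟩ := nonempty_isColimit_binaryCofanMk_of_isCompl S1.ι S2.ι
    (by simpa [Scheme.Opens.opensRange_ι] using hc)
  let e : (S1 : Scheme.{u}) ⨿ (S2 : Scheme.{u}) ≅ Y :=
    (coprodIsCoprod _ _).coconePointUniqueUpToIso hcol
  have he : e.hom = coprod.desc S1.ι S2.ι := by
    apply coprod.hom_ext
    · rw [coprod.inl_desc]
      exact (coprodIsCoprod (S1 : Scheme.{u}) (S2 : Scheme.{u})).comp_coconePointUniqueUpToIso_hom
        hcol ⟨WalkingPair.left⟩
    · rw [coprod.inr_desc]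
      exact (coprodIsCoprod (S1 : Scheme.{u}) (S2 : Scheme.{u})).comp_coconePointUniqueUpToIso_hom
        hcol ⟨WalkingPair.right⟩
  have hg : g = e.inv ≫ coprod.desc (S1.ι ≫ g) (S2.ι ≫ g) := by
    rw [Iso.eq_inv_comp, he]
    apply coprod.hom_ext <;> simp
  rw [hg]
  infer_instance

/-- **Key lemma.**  If `Y` is covered by two open subschemes, each finite over `X`, then `Y` is
finite over a dense open of `X`. -/
theorem dense_finLocus_of_cover {W1 W2 : Scheme.{u}} (f : Y ⟶ X) (j1 : W1 ⟶ Y) (j2 : W2 ⟶ Y)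
    [IsOpenImmersion j1] [IsOpenImmersion j2]
    (hcov : Set.range j1 ∪ Set.range j2 = Set.univ)
    [IsFinite (j1 ≫ f)] [IsFinite (j2 ≫ f)] : Dense (finLocus f : Set X) := by
  set g1 := j1 ≫ f with hg1
  set g2 := j2 ≫ f with hg2
  have hopen : IsOpen (j1 ⁻¹' Set.range j2) :=
    j2.isOpenEmbedding.isOpen_range.preimage j1.continuous
  set T1 : Set W1 := frontier (j1 ⁻¹' Set.range j2) with hT1
  have hT1nd : IsNowhereDense T1 := isNowhereDense_frontier_of_isOpen hopen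
  have hZcl : IsClosed (g1 '' T1) := g1.isClosedMap _ isClosed_frontier
  have hZnd : IsNowhereDense (g1 '' T1) :=
    isNowhereDense_image_of_isFinite g1 T1 isClosed_frontier hT1nd
  let U : X.Opens := ⟨(g1 '' T1)ᶜ, hZcl.isOpen_compl⟩
  have hUd : Dense (U : Set X) := (isClosed_isNowhereDense_iff_compl.mp ⟨hZcl, hZnd⟩).2
  -- the topological claim
  have claim : ∀ y : Y, f y ∈ U → y ∈ closure (Set.range j2) → y ∈ Set.range j2 := by
    intro y hyU hycl
    by_contra hy2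
    have hy1 : y ∈ Set.range j1 := by
      have : y ∈ Set.range j1 ∪ Set.range j2 := hcov ▸ Set.mem_univ y
      exact this.resolve_right hy2
    obtain ⟨w, rfl⟩ := hy1
    have hw : w ∈ closure (j1 ⁻¹' Set.range j2) :=
      j1.isOpenEmbedding.isOpenMap.preimage_closure_subset_closure_preimage hycl
    have hwT : w ∈ T1 := by
      rw [hT1, hopen.frontier_eq]
      exact ⟨hw, hy2⟩
    exact hyU ⟨w, hwT, rfl⟩
  suffices h : IsFinite (f ∣_ U) from hUd.mono (le_finLocus f h)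
  let S2 : (f ⁻¹ᵁ U).toScheme.Opens := (f ⁻¹ᵁ U).ι ⁻¹ᵁ j2.opensRange
  let S1 : (f ⁻¹ᵁ U).toScheme.Opens :=
    (f ⁻¹ᵁ U).ι ⁻¹ᵁ ⟨interior (Set.range j2)ᶜ, isOpen_interior⟩
  have hS1 : ∀ x : (f ⁻¹ᵁ U).toScheme, x ∈ S1 ↔ (f ⁻¹ᵁ U).ι x ∈ interior (Set.range j2)ᶜ :=
    fun x => Iff.rfl
  have hS2 : ∀ x : (f ⁻¹ᵁ U).toScheme, x ∈ S2 ↔ (f ⁻¹ᵁ U).ι x ∈ Set.range j2 := fun x => Iff.rfl
  have hfU : ∀ x : (f ⁻¹ᵁ U).toScheme, f ((f ⁻¹ᵁ U).ι x) ∈ U := fun x => x.2
  have hcompl : IsCompl S1 S2 := by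
    constructor
    · rw [disjoint_iff, eq_bot_iff]
      rintro x ⟨hx1, hx2⟩
      exact (interior_subset ((hS1 x).mp hx1)) ((hS2 x).mp hx2)
    · rw [codisjoint_iff, eq_top_iff]
      rintro x -
      by_cases hx2 : (f ⁻¹ᵁ U).ι x ∈ Set.range j2
      · exact Or.inr ((hS2 x).mpr hx2)
      · refine Or.inl ((hS1 x).mpr ?_)
        rw [interior_compl]
        exact fun hcl => hx2 (claim _ (hfU x) hcl)
  -- the `W2` piece
  have hfin2 : IsFinite (S2.ι ≫ f ∣_ U) := by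
    have hr : Set.range (S2.ι ≫ (f ⁻¹ᵁ U).ι) ⊆ Set.range j2 := by
      rintro _ ⟨x, rfl⟩
      exact (hS2 x.1).mp x.2
    let k2 : S2.toScheme ⟶ W2 := IsOpenImmersion.lift j2 (S2.ι ≫ (f ⁻¹ᵁ U).ι) hr
    have hk2 : k2 ≫ j2 = S2.ι ≫ (f ⁻¹ᵁ U).ι := IsOpenImmersion.lift_fac _ _ _
    have hk2pt : ∀ x : S2.toScheme, j2 (k2 x) = (f ⁻¹ᵁ U).ι (S2.ι x) := fun x => by
      have := congrArg (fun φ : S2.toScheme ⟶ Y => φ x) hk2
      simpa using this
    have hrange : Set.range k2 = Set.range (g2 ⁻¹ᵁ U).ι := by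
      rw [Scheme.Opens.range_ι]
      ext w
      constructor
      · rintro ⟨x, rfl⟩
        change g2 (k2 x) ∈ U
        have : g2 (k2 x) = f ((f ⁻¹ᵁ U).ι (S2.ι x)) := by
          rw [← hk2pt x, hg2]; rfl
        rw [this]
        exact hfU _
      · intro hw
        have hw' : j2 w ∈ (f ⁻¹ᵁ U : Set Y) := hw
        let y' : (f ⁻¹ᵁ U).toScheme := ⟨j2 w, hw'⟩
        have hy' : y' ∈ S2 := (hS2 y').mpr ⟨w, rfl⟩
        let z : S2.toScheme := ⟨y', hy'⟩
        refine ⟨z, ?_⟩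
        apply j2.isOpenEmbedding.injective
        rw [hk2pt z]
        rfl
    let e2 := IsOpenImmersion.isoOfRangeEq k2 (g2 ⁻¹ᵁ U).ι hrange
    have he2 : S2.ι ≫ f ∣_ U = e2.hom ≫ g2 ∣_ U := by
      rw [← cancel_mono U.ι]
      simp only [Category.assoc, morphismRestrict_ι]
      rw [IsOpenImmersion.isoOfRangeEq_hom_fac_assoc, hg2, ← Category.assoc, ← hk2,
        Category.assoc]
    rw [he2]
    infer_instance
  -- the `W1 \ W2` piece
  have hfin1 : IsFinite (S1.ι ≫ f ∣_ U) := by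
    have hr : Set.range (S1.ι ≫ (f ⁻¹ᵁ U).ι) ⊆ Set.range j1 := by
      rintro _ ⟨x, rfl⟩
      have h1 : (f ⁻¹ᵁ U).ι x.1 ∉ Set.range j2 := interior_subset ((hS1 x.1).mp x.2)
      have : (f ⁻¹ᵁ U).ι x.1 ∈ Set.range j1 ∪ Set.range j2 := hcov ▸ Set.mem_univ _
      exact this.resolve_right h1
    let k1 : S1.toScheme ⟶ W1 := IsOpenImmersion.lift j1 (S1.ι ≫ (f ⁻¹ᵁ U).ι) hr
    have hk1 : k1 ≫ j1 = S1.ι ≫ (f ⁻¹ᵁ U).ι := IsOpenImmersion.lift_fac _ _ _
    have hk1pt : ∀ x : S1.toScheme, j1 (k1 x) = (f ⁻¹ᵁ U).ι (S1.ι x) := fun x => by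
      have := congrArg (fun φ : S1.toScheme ⟶ Y => φ x) hk1
      simpa using this
    have hk1U : ∀ x, g1 (k1 x) ∈ U := by
      intro x
      have : g1 (k1 x) = f ((f ⁻¹ᵁ U).ι (S1.ι x)) := by
        rw [← hk1pt x, hg1]; rfl
      rw [this]
      exact hfU _
    have hr' : Set.range k1 ⊆ Set.range (g1 ⁻¹ᵁ U).ι := by
      rw [Scheme.Opens.range_ι]
      rintro _ ⟨x, rfl⟩
      exact hk1U x
    let k1' : S1.toScheme ⟶ (g1 ⁻¹ᵁ U).toScheme := IsOpenImmersion.lift (g1 ⁻¹ᵁ U).ι k1 hr'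
    have hk1' : k1' ≫ (g1 ⁻¹ᵁ U).ι = k1 := IsOpenImmersion.lift_fac _ _ _
    have hk1'pt : ∀ x : S1.toScheme, (g1 ⁻¹ᵁ U).ι (k1' x) = k1 x := fun x => by
      have := congrArg (fun φ : S1.toScheme ⟶ W1 => φ x) hk1'
      simpa using this
    have hrange : Set.range k1' =
        (fun w => j1 ((g1 ⁻¹ᵁ U).ι w)) ⁻¹' (interior (Set.range j2)ᶜ) := by
      ext w
      constructor
      · rintro ⟨x, rfl⟩
        rw [Set.mem_preimage, hk1'pt, hk1pt]
        exact (hS1 _).mp x.2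
      · intro hw
        have hwU : f (j1 ((g1 ⁻¹ᵁ U).ι w)) ∈ U := w.2
        let y' : (f ⁻¹ᵁ U).toScheme := ⟨j1 ((g1 ⁻¹ᵁ U).ι w), hwU⟩
        have hy' : y' ∈ S1 := (hS1 y').mpr hw
        let z : S1.toScheme := ⟨y', hy'⟩
        refine ⟨z, ?_⟩
        apply (g1 ⁻¹ᵁ U).ι.isOpenEmbedding.injective
        apply j1.isOpenEmbedding.injective
        rw [hk1'pt, hk1pt z]
        rfl
    have hclosed : IsClosed (Set.range k1') := by
      rw [hrange, ← isOpen_compl_iff]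
      have : ((fun w => j1 ((g1 ⁻¹ᵁ U).ι w)) ⁻¹' (interior (Set.range j2)ᶜ))ᶜ =
          (fun w => j1 ((g1 ⁻¹ᵁ U).ι w)) ⁻¹' (Set.range j2) := by
        ext w
        simp only [Set.mem_compl_iff, Set.mem_preimage, interior_compl, not_not]
        constructor
        · intro hcl
          exact claim _ w.2 hcl
        · exact fun h => subset_closure h
      rw [this]
      exact j2.isOpenEmbedding.isOpen_range.preimage
        (j1.continuous.comp (g1 ⁻¹ᵁ U).ι.continuous)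
    haveI : IsClosedImmersion k1' := IsClosedImmersion.of_isPreimmersion k1' hclosed
    have he1 : S1.ι ≫ f ∣_ U = k1' ≫ g1 ∣_ U := by
      rw [← cancel_mono U.ι]
      simp only [Category.assoc, morphismRestrict_ι]
      rw [← Category.assoc k1', hk1', hg1, ← Category.assoc, ← hk1, Category.assoc]
    rw [he1]
    infer_instance
  exact isFinite_of_isCompl (f ∣_ U) S1 S2 hcompl hfin1 hfin2

end Groth.Agent.Lead.QFin
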