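import Mathlib
import Groth.Agent.Lead.QFinE

/-!
# Quasi-finite morphisms, part F: a quasi-finite morphism is finite over a dense open
-/

set_option autoImplicit false
set_option linter.style.haveILetI false
universe u

open AlgebraicGeometry CategoryTheory CategoryTheory.Limits TopologicalSpace

namespace Groth.Agent.Lead.QFin

variable {Y X : Scheme.{u}}

theorem isFinite_of_isEmpty {W : Scheme.{u}} (g : W ⟶ X) [IsEmpty W] : IsFinite g := by
  haveI : IsClosedImmersion g := IsClosedImmersion.of_isPreimmersion g (by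
    have : Set.range g = ∅ := Set.range_eq_empty _
    rw [this]; exact isClosed_empty)
  infer_instance

theorem finLocus_comp_iso_le {Y' : Scheme.{u}} (i : Y' ⟶ Y) [IsIso i] (f : Y ⟶ X) :
    finLocus (i ≫ f) ≤ finLocus f := by
  refine sSup_le fun V hV => le_finLocus f ?_
  have hV' : IsFinite ((i ≫ f) ∣_ V) := hV
  rw [morphismRestrict_comp] at hV'
  exact (MorphismProperty.cancel_left_of_respectsIso @IsFinite (i ∣_ f ⁻¹ᵁ V) (f ∣_ V)).mp hV'

/-- The key lemma with generic finiteness hypotheses. -/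
theorem dense_finLocus_of_cover' {W1 W2 : Scheme.{u}} (f : Y ⟶ X) (j1 : W1 ⟶ Y) (j2 : W2 ⟶ Y)
    [IsOpenImmersion j1] [IsOpenImmersion j2]
    (hcov : Set.range j1 ∪ Set.range j2 = Set.univ)
    (h1 : Dense (finLocus (j1 ≫ f) : Set X)) (h2 : Dense (finLocus (j2 ≫ f) : Set X)) :
    Dense (finLocus f : Set X) := by
  set g1 := j1 ≫ f with hg1
  set g2 := j2 ≫ f with hg2
  let U12 : X.Opens := finLocus g1 ⊓ finLocus g2
  have hU12 : Dense (U12 : Set X) := h1.inter_of_isOpen_left h2 (finLocus g1).isOpen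
  have hr1 : Set.range ((g1 ⁻¹ᵁ U12).ι ≫ j1) ⊆ Set.range (f ⁻¹ᵁ U12).ι := by
    rw [Scheme.Opens.range_ι]
    rintro _ ⟨w, rfl⟩
    exact w.2
  have hr2 : Set.range ((g2 ⁻¹ᵁ U12).ι ≫ j2) ⊆ Set.range (f ⁻¹ᵁ U12).ι := by
    rw [Scheme.Opens.range_ι]
    rintro _ ⟨w, rfl⟩
    exact w.2
  let j1' : (g1 ⁻¹ᵁ U12).toScheme ⟶ (f ⁻¹ᵁ U12).toScheme :=
    IsOpenImmersion.lift (f ⁻¹ᵁ U12).ι ((g1 ⁻¹ᵁ U12).ι ≫ j1) hr1
  let j2' : (g2 ⁻¹ᵁ U12).toScheme ⟶ (f ⁻¹ᵁ U12).toScheme :=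
    IsOpenImmersion.lift (f ⁻¹ᵁ U12).ι ((g2 ⁻¹ᵁ U12).ι ≫ j2) hr2
  have hj1' : j1' ≫ (f ⁻¹ᵁ U12).ι = (g1 ⁻¹ᵁ U12).ι ≫ j1 := IsOpenImmersion.lift_fac _ _ _
  have hj2' : j2' ≫ (f ⁻¹ᵁ U12).ι = (g2 ⁻¹ᵁ U12).ι ≫ j2 := IsOpenImmersion.lift_fac _ _ _
  have e1 : j1' ≫ f ∣_ U12 = g1 ∣_ U12 := by
    rw [← cancel_mono U12.ι]
    simp only [Category.assoc, morphismRestrict_ι]
    rw [← Category.assoc, hj1', Category.assoc]
  have e2 : j2' ≫ f ∣_ U12 = g2 ∣_ U12 := by
    rw [← cancel_mono U12.ι]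
    simp only [Category.assoc, morphismRestrict_ι]
    rw [← Category.assoc, hj2', Category.assoc]
  haveI : IsFinite (j1' ≫ f ∣_ U12) := by
    rw [e1]; exact isFinite_restrict_of_le_finLocus g1 inf_le_left
  haveI : IsFinite (j2' ≫ f ∣_ U12) := by
    rw [e2]; exact isFinite_restrict_of_le_finLocus g2 inf_le_right
  have hj1'pt : ∀ w, (f ⁻¹ᵁ U12).ι (j1' w) = j1 ((g1 ⁻¹ᵁ U12).ι w) := fun w => by
    have := congrArg (fun φ : (g1 ⁻¹ᵁ U12).toScheme ⟶ Y => φ w) hj1'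
    simpa using this
  have hj2'pt : ∀ w, (f ⁻¹ᵁ U12).ι (j2' w) = j2 ((g2 ⁻¹ᵁ U12).ι w) := fun w => by
    have := congrArg (fun φ : (g2 ⁻¹ᵁ U12).toScheme ⟶ Y => φ w) hj2'
    simpa using this
  have hcov' : Set.range j1' ∪ Set.range j2' = Set.univ := by
    rw [Set.eq_univ_iff_forall]
    intro y
    have hy : (f ⁻¹ᵁ U12).ι y ∈ Set.range j1 ∪ Set.range j2 := hcov ▸ Set.mem_univ _
    have hyU : f ((f ⁻¹ᵁ U12).ι y) ∈ U12 := y.2
    rcases hy with ⟨w, hw⟩ | ⟨w, hw⟩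
    · left
      have hwU : w ∈ g1 ⁻¹ᵁ U12 := by
        change f (j1 w) ∈ U12
        rw [hw]; exact hyU
      refine ⟨⟨w, hwU⟩, ?_⟩
      apply (f ⁻¹ᵁ U12).ι.isOpenEmbedding.injective
      rw [hj1'pt, ← hw]
      rfl
    · right
      have hwU : w ∈ g2 ⁻¹ᵁ U12 := by
        change f (j2 w) ∈ U12
        rw [hw]; exact hyU
      refine ⟨⟨w, hwU⟩, ?_⟩
      apply (f ⁻¹ᵁ U12).ι.isOpenEmbedding.injective
      rw [hj2'pt, ← hw]
      rfl
  have hd : Dense (finLocus (f ∣_ U12) : Set U12.toScheme) :=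
    dense_finLocus_of_cover (f ∣_ U12) j1' j2' hcov'
  have hle : U12.ι ''ᵁ finLocus (f ∣_ U12) ≤ finLocus f :=
    le_finLocus f (isFinite_restrict_image f U12 _ (isFinite_finLocus (f ∣_ U12)))
  have hdr : DenseRange U12.ι := by
    rw [DenseRange, Scheme.Opens.range_ι]
    exact hU12
  exact (hdr.dense_image U12.ι.continuous hd).mono hle

/-- A locally quasi-finite morphism, locally of finite type, from a quasi-compact scheme to an
affine scheme is finite over a dense open. -/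
theorem dense_finLocus_of_isAffine_target (f : Y ⟶ X) [IsAffine X] [LocallyQuasiFinite f]
    [LocallyOfFiniteType f] [CompactSpace Y] : Dense (finLocus f : Set X) := by
  have key : Dense (finLocus ((⊤ : Y.Opens).ι ≫ f) : Set X) := by
    refine compact_open_induction_on (P := fun S : Y.Opens => Dense (finLocus (S.ι ≫ f) : Set X))
      ⊤ isCompact_univ ?_ ?_
    · haveI : IsEmpty ((⊥ : Y.Opens) : Scheme.{u}) := by
        constructor
        rintro ⟨x, hx⟩
        exact hx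
      have hfin : IsFinite ((⊥ : Y.Opens).ι ≫ f) := isFinite_of_isEmpty _
      have : finLocus ((⊥ : Y.Opens).ι ≫ f) = ⊤ :=
        top_le_iff.mp (le_finLocus _ (inferInstance : IsFinite (((⊥ : Y.Opens).ι ≫ f) ∣_ ⊤)))
      rw [this]
      exact dense_univ
    · intro S _ U hS
      have hUaff : IsAffine (U.1 : Scheme.{u}) := U.2
      have hU : Dense (finLocus (U.1.ι ≫ f) : Set X) := dense_finLocus_of_isAffine (U.1.ι ≫ f)
      let j1 : (S : Scheme.{u}) ⟶ (S ⊔ U.1 : Y.Opens) := Y.homOfLE le_sup_left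
      let j2 : (U.1 : Scheme.{u}) ⟶ (S ⊔ U.1 : Y.Opens) := Y.homOfLE le_sup_right
      have hj1 : j1 ≫ (S ⊔ U.1).ι ≫ f = S.ι ≫ f := by
        rw [← Category.assoc, Scheme.homOfLE_ι]
      have hj2 : j2 ≫ (S ⊔ U.1).ι ≫ f = U.1.ι ≫ f := by
        rw [← Category.assoc, Scheme.homOfLE_ι]
      refine dense_finLocus_of_cover' ((S ⊔ U.1).ι ≫ f) j1 j2 ?_ (hj1 ▸ hS) (hj2 ▸ hU)
      rw [Set.eq_univ_iff_forall]
      rintro ⟨x, hx⟩
      rcases hx with hx | hx
      · left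
        exact ⟨⟨x, hx⟩, Subtype.ext (Y.homOfLE_apply _ _)⟩
      · right
        exact ⟨⟨x, hx⟩, Subtype.ext (Y.homOfLE_apply _ _)⟩
  haveI : IsIso (⊤ : Y.Opens).ι := (inferInstance : IsIso Y.topIso.hom)
  exact key.mono (finLocus_comp_iso_le _ f)

/-- **S0409.** A quasi-finite morphism is finite over a dense open of the target. -/
theorem dense_finLocus (f : Y ⟶ X) [LocallyQuasiFinite f] [LocallyOfFiniteType f]
    [QuasiCompact f] : Dense (finLocus f : Set X) := by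
  rw [dense_iff_inter_open]
  rintro N hN ⟨x, hxN⟩
  obtain ⟨W, hW, hxW, hWN⟩ : ∃ W : X.Opens, IsAffineOpen W ∧ x ∈ W ∧ (W : Set X) ⊆ N := by
    obtain ⟨_, ⟨W, hW, rfl⟩, hxW, hWN⟩ :=
      X.isBasis_affineOpens.exists_subset_of_mem_open hxN hN
    exact ⟨W, hW, hxW, hWN⟩
  haveI : IsAffine (W : Scheme.{u}) := hW
  haveI : CompactSpace (f ⁻¹ᵁ W : Scheme.{u}) :=
    isCompact_iff_compactSpace.mp (QuasiCompact.isCompact_preimage (f := f) _ W.isOpen hW.isCompact)
  have hd : Dense (finLocus (f ∣_ W) : Set (W : Scheme.{u})) :=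
    dense_finLocus_of_isAffine_target (f ∣_ W)
  haveI : Nonempty (W : Scheme.{u}) := ⟨⟨x, hxW⟩⟩
  obtain ⟨y, hy⟩ := hd.nonempty
  have hle : W.ι ''ᵁ finLocus (f ∣_ W) ≤ finLocus f :=
    le_finLocus f (isFinite_restrict_image f W _ (isFinite_finLocus (f ∣_ W)))
  exact ⟨W.ι y, hWN y.2, hle ⟨y, hy, rfl⟩⟩

theorem isNowhereDense_union {α : Type*} [TopologicalSpace α] {s t : Set α}
    (hs : IsNowhereDense s) (ht : IsNowhereDense t) : IsNowhereDense (s ∪ t) := by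
  rw [IsNowhereDense, closure_union, interior_eq_empty_iff_dense_compl, Set.compl_union]
  have h1 : Dense (closure s)ᶜ := interior_eq_empty_iff_dense_compl.mp hs
  have h2 : Dense (closure t)ᶜ := interior_eq_empty_iff_dense_compl.mp ht
  exact h1.inter_of_isOpen_left h2 isClosed_closure.isOpen_compl

/-- **S0439.** A quasi-finite morphism maps closed nowhere dense subsets to nowhere dense
subsets. -/
theorem isNowhereDense_image (f : Y ⟶ X) [LocallyQuasiFinite f] [LocallyOfFiniteType f]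
    [QuasiCompact f] (T : Set Y) (hT : IsClosed T) (hT' : IsNowhereDense T) :
    IsNowhereDense (f '' T) := by
  set U := finLocus f with hU
  have hUd : Dense (U : Set X) := dense_finLocus f
  haveI : IsFinite (f ∣_ U) := isFinite_finLocus f
  set j := (f ⁻¹ᵁ U).ι with hj
  let TU : Set (f ⁻¹ᵁ U : Scheme.{u}) := j ⁻¹' T
  have hTUcl : IsClosed TU := hT.preimage j.continuous
  have hTUnd : IsNowhereDense TU := by
    rw [hTUcl.isNowhereDense_iff, Set.eq_empty_iff_forall_notMem]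
    intro w hw
    have h2 : j w ∈ interior T :=
      interior_mono (Set.image_preimage_subset _ _)
        (j.isOpenEmbedding.isOpenMap.image_interior_subset _ ⟨w, hw, rfl⟩)
    rw [hT.isNowhereDense_iff.mp hT'] at h2
    exact h2
  have h1 : IsNowhereDense ((f ∣_ U) '' TU) :=
    isNowhereDense_image_of_isFinite (f ∣_ U) TU hTUcl hTUnd
  have h2 : IsNowhereDense (U.ι '' ((f ∣_ U) '' TU)) :=
    U.ι.isOpenEmbedding.isInducing.isNowhereDense_image h1
  have h3 : IsNowhereDense ((U : Set X)ᶜ) :=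
    (isClosed_isNowhereDense_iff_compl.mpr
      ⟨by rw [compl_compl]; exact U.isOpen, by rw [compl_compl]; exact hUd⟩).2
  refine (isNowhereDense_union h2 h3).mono ?_
  rintro _ ⟨t, ht, rfl⟩
  by_cases hft : f t ∈ U
  · left
    let t' : (f ⁻¹ᵁ U : Scheme.{u}) := ⟨t, hft⟩
    refine ⟨(f ∣_ U) t', ⟨t', ht, rfl⟩, ?_⟩
    exact morphismRestrict_base_coe f U t'
  · right
    exact hft

end Groth.Agent.Lead.QFin
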