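import Mathlib
import Groth.Agent.Helper1.ACech7
import Groth.Agent.Helper4.SubSum
import Groth.Agent.Helper4.StalkExact
import Groth.Agent.Helper4.AffineDict
import Groth.Agent.Lead.IdealMulB

/-!
# Cohomological dimension of quasi-coherent modules from that of coherent modules
(Noetherian separated schemes; via the Čech complex of a finite affine cover)
-/

set_option autoImplicit false
set_option linter.style.haveILetI false
universe u
open CategoryTheory AlgebraicGeometry Limits Opposite TopologicalSpace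

namespace Groth.Agent.Lead.QcohVan
open Groth.Agent.Helper1.ACech Groth.Agent.Helper1.Cech Groth.Agent.Helper1.TensSec
  Groth.Agent.Helper1.NatCech Groth.Agent.Helper4

section Cochains

variable (A : Type u) [CommRing A] {X : Scheme.{u}} [X.Over (Spec (CommRingCat.of A))]
  {ι : Type u} (U : ι → X.Opens)

/-- the map on Čech cochains induced by a morphism of modules -/
noncomputable def coMap {F G : X.Modules} (j : F ⟶ G) (n : ℕ) (c : Co A U F n) : Co A U G n :=
  fun x => (j.app (prodU U x) (show Γ(F, prodU U x) from c x) : Γ(G, prodU U x))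

lemma coMap_apply {F G : X.Modules} (j : F ⟶ G) (n : ℕ) (c : Co A U F n)
    (x : Fin (n + 1) → ι) :
    coMap A U j n c x = (j.app (prodU U x) (show Γ(F, prodU U x) from c x) : Γ(G, prodU U x)) :=
  rfl

lemma coMap_dA {F G : X.Modules} (j : F ⟶ G) (n : ℕ) (c : Co A U F n) :
    coMap A U j (n + 1) (dA A U F n c) = dA A U G n (coMap A U j n c) := by
  funext x
  rw [coMap_apply, dA_apply, dA_apply]
  change (j.app (prodU U x)).hom (∑ k : Fin (n + 2), (-1 : ℤ) ^ (k : ℕ) •
      (show Γ(F, prodU U x) from resA A F (face U k x) (c (x ∘ k.succAbove)))) = _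
  rw [map_sum]
  refine Finset.sum_congr rfl fun k _ => ?_
  rw [map_zsmul]
  congr 1
  exact Groth.Agent.Helper4.StalkExact.app_res j (face U k x) _

lemma coMap_injective {F G : X.Modules} (j : F ⟶ G) [Mono j] (n : ℕ) :
    Function.Injective (coMap A U j n) := by
  intro c c' h
  funext x
  have := congrFun h x
  exact Groth.Agent.Helper4.AffineDict.app_injective_of_mono j (prodU U x) this

/-- exactness of the Čech complex in degree `m + 1` in terms of cochains -/
lemma exact_iff (F : X.Modules) (m : ℕ) :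
    Subsingleton ((CA A U F).homology (m + 1)) ↔
      ∀ c : Co A U F (m + 1), dA A U F (m + 1) c = 0 → ∃ b : Co A U F m, dA A U F m b = c := by
  have h1 : Subsingleton ((CA A U F).homology (m + 1)) ↔ IsZero ((CA A U F).homology (m + 1)) :=
    (ModuleCat.isZero_iff_subsingleton).symm
  rw [h1, ← HomologicalComplex.exactAt_iff_isZero_homology,
    HomologicalComplex.exactAt_iff' _ m (m + 1) (m + 2) (by simp) (by simp),
    ShortComplex.moduleCat_exact_iff]
  constructor
  · intro h c hc
    obtain ⟨b, hb⟩ := h c (by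
      change ((CA A U F).d (m + 1) (m + 2)).hom c = 0
      rw [CA_d]
      exact hc)
    refine ⟨b, ?_⟩
    change ((CA A U F).d m (m + 1)).hom b = c at hb
    rw [CA_d] at hb
    exact hb
  · intro h c hc
    change ((CA A U F).d (m + 1) (m + 2)).hom c = 0 at hc
    rw [CA_d] at hc
    obtain ⟨b, hb⟩ := h c hc
    refine ⟨b, ?_⟩
    change ((CA A U F).d m (m + 1)).hom b = c
    rw [CA_d]
    exact hb

lemma coMap_zero {F G : X.Modules} (j : F ⟶ G) (n : ℕ) :
    coMap A U j n (0 : Co A U F n) = 0 := by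
  funext x
  rw [coMap_apply]
  exact map_zero (j.app (prodU U x)).hom

end Cochains

/-- a finite affine cover of a quasi-compact scheme, indexed by `Fin t` -/
theorem exists_fin_affine_cover (X : Scheme.{u}) [CompactSpace X] :
    ∃ (t : ℕ) (U : Fin t → X.Opens), (∀ i, IsAffineOpen (U i)) ∧ ⨆ i, U i = ⊤ := by
  classical
  obtain ⟨s, hs⟩ := Groth.Agent.Lead.IdealMul.exists_finite_affine_cover X
  refine ⟨s.card, fun j => ((s.equivFin.symm j : s) : X.affineOpens).1,
    fun j => ((s.equivFin.symm j : s) : X.affineOpens).2, ?_⟩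
  rw [eq_top_iff]
  intro x _
  obtain ⟨V, hVs, hxV⟩ := hs x
  exact TopologicalSpace.Opens.mem_iSup.2 ⟨s.equivFin ⟨V, hVs⟩, by simpa using hxV⟩

/-- **main**: on a Noetherian separated scheme, vanishing of cohomology above `n` for coherent
modules implies it for all quasi-coherent modules -/
theorem subsingleton_HH_of_coh (X : Scheme.{u}) [IsNoetherian X] [X.IsSeparated] (n : ℕ)
    (h : ∀ F : X.Modules, Coh.IsCoh F → ∀ i : ℕ, n < i → Subsingleton (Coh.HH X F i))
    (G : X.Modules) [G.IsQuasicoherent] (i : ℕ) (hi : n < i) :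
    Subsingleton (Coh.HH X G i) := by
  classical
  letI : X.Over (Spec (CommRingCat.of (ULift.{u} ℤ))) := ⟨specULiftZIsTerminal.from X⟩
  obtain ⟨t, U, hU, hcov⟩ := exists_fin_affine_cover X
  have hd : ∀ V W : X.Opens, IsAffineOpen V → IsAffineOpen W → IsAffineOpen (V ⊓ W) :=
    fun V W hV hW => hV.inf hW
  obtain ⟨m, rfl⟩ : ∃ m, i = m + 1 := ⟨i - 1, by omega⟩
  obtain ⟨φG, -⟩ := exists_equiv_HH (ULift.{u} ℤ) U hU hd hcov G (m + 1)
  suffices hs : Subsingleton ((CA (ULift.{u} ℤ) (Uc U) G).homology (m + 1)) from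
    φG.symm.injective.subsingleton
  rw [exact_iff]
  intro c hc
  obtain ⟨E, j, hjm, hEq, hEft, hlift⟩ := SubSum.exists_submodule_through_sections G
    (fun x : Fin (m + 2) → ULift.{u} (Fin t) => prodU (Uc U) x)
    (fun x => TopologicalSpace.NoetherianSpace.isCompact _)
    (fun x => (show Γ(G, prodU (Uc U) x) from c x)) Finset.univ
  haveI := hjm
  haveI := hEq
  choose c' hc' using fun x => hlift x (Finset.mem_univ x)
  have hcc : coMap (ULift.{u} ℤ) (Uc U) j (m + 1) c' = c := funext hc'
  have hdc' : dA (ULift.{u} ℤ) (Uc U) E (m + 1) c' = 0 := by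
    apply coMap_injective (ULift.{u} ℤ) (Uc U) j (m + 2)
    rw [coMap_dA, hcc, hc, coMap_zero]
  have hE : Coh.IsCoh E := ⟨hEq, hEft⟩
  obtain ⟨φE, -⟩ := exists_equiv_HH (ULift.{u} ℤ) U hU hd hcov E (m + 1)
  haveI : Subsingleton (Coh.HH X E (m + 1)) := h E hE (m + 1) hi
  have hsubE : Subsingleton ((CA (ULift.{u} ℤ) (Uc U) E).homology (m + 1)) :=
    φE.injective.subsingleton
  obtain ⟨b', hb'⟩ := (exact_iff (ULift.{u} ℤ) (Uc U) E m).1 hsubE c' hdc'
  exact ⟨coMap (ULift.{u} ℤ) (Uc U) j m b', by rw [← coMap_dA, hb', hcc]⟩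

end Groth.Agent.Lead.QcohVan
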