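import Mathlib
import Groth.Agent.Lead.HomShE
import Groth.Agent.Helper4.TensorLift
import Groth.Agent.Helper4.FinLocFree2
import Groth.Agent.Helper4.FinLocFree4
import Groth.Agent.Helper4.FTGlue
import Groth.Agent.Helper4.QcohLocal

/-!
# The sheaf Hom out of a finite locally free module: finite type, evaluation pairing
-/

set_option autoImplicit false
set_option linter.style.haveILetI false
set_option linter.unusedSectionVars false
set_option linter.unusedVariables false

universe u

open AlgebraicGeometry CategoryTheory CategoryTheory.Limits TopologicalSpace Opposite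

namespace Groth.Agent.Lead.RPDesc

open Groth.Agent.Helper4 Groth.Agent.Helper4.StalkDict Groth.Agent.Helper4.QcqsMod
  Groth.Agent.Helper4.TensorLift

variable {Y : Scheme.{u}} (A F : Y.Modules)

/-- the evaluation pairing `𝓗om(A, F) × A → F` -/
noncomputable def evBil : Bil (RefHull.homSh A F) A F where
  f V t a := HomShC.toLin A F t a
  add_left V t t' a := congrArg (fun l => l a) ((HomShE.toLinₗ A F V).map_add t t')
  add_right V t a a' := map_add _ _ _
  smul_left V r t a := congrArg (fun l => l a) ((HomShE.toLinₗ A F V).map_smul r t)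
  smul_right V r t a := map_smul _ _ _
  map {V V'} i t a := by
    apply section_ext
    intro y hy
    have h1 : F.presheaf.germ V' y hy (F.presheaf.map i.op (HomShC.toLin A F t a)) =
        F.presheaf.germ V y (i.le hy) (HomShC.toLin A F t a) :=
      TopCat.Presheaf.germ_res_apply F.presheaf i y hy _
    rw [h1, HomShC.germ_toLin, HomShC.germ_toLin]
    have h2 : A.presheaf.germ V' y hy (A.presheaf.map i.op a) = A.presheaf.germ V y (i.le hy) a :=
      TopCat.Presheaf.germ_res_apply A.presheaf i y hy _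
    rw [h2]
    rfl

theorem evBil_f (V : Y.Opens) (t : Γ(RefHull.homSh A F, V)) (a : Γ(A, V)) :
    (evBil A F).f V t a = HomShC.toLin A F t a := rfl

section lin

variable [A.IsQuasicoherent] {U : Y.Opens} (hU : IsAffineOpen U)

theorem map_id_apply (r : Γ(Y, U)) : Y.presheaf.map (homOfLE (le_refl U)).op r = r := by
  have : (homOfLE (le_refl U)).op = 𝟙 (op U) := rfl
  rw [this, Y.presheaf.map_id]
  rfl

include hU in
/-- over an affine open, sections of the sheaf Hom are the linear maps on sections -/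
theorem toLinₗ_surjective : Function.Surjective (HomShE.toLinₗ A F U) := by
  intro l
  have hl : ∀ (r : Γ(Y, U)) (m : Γ(A, U)), l.toAddMonoidHom (r • m) =
      Y.presheaf.map (homOfLE (le_refl U)).op r • l.toAddMonoidHom m := by
    intro r m
    rw [map_id_apply]
    exact l.map_smul r m
  refine ⟨HomShA.ofLin hU A F (le_refl U) l.toAddMonoidHom hl, ?_⟩
  ext m
  apply section_ext
  intro y hy
  change F.presheaf.germ U y hy (HomShC.toLin A F _ m) = _
  rw [HomShC.germ_toLin]
  exact HomShA.ofLin_apply_germ hU A F (le_refl U) l.toAddMonoidHom hl ⟨y, hy⟩ m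

include hU in
theorem finite_sections_homSh {n : ℕ} (b : Module.Basis (Fin n) Γ(Y, U) Γ(A, U))
    [Module.Finite Γ(Y, U) Γ(F, U)] : Module.Finite Γ(Y, U) Γ(RefHull.homSh A F, U) := by
  haveI : Module.Free Γ(Y, U) Γ(A, U) := Module.Free.of_basis b
  haveI : Module.Finite Γ(Y, U) Γ(A, U) := Module.Finite.of_basis b
  let e : Γ(RefHull.homSh A F, U) ≃ₗ[Γ(Y, U)] (Γ(A, U) →ₗ[Γ(Y, U)] Γ(F, U)) :=
    LinearEquiv.ofBijective (HomShE.toLinₗ A F U)
      ⟨HomShE.toLinₗ_injective A F hU, toLinₗ_surjective A F hU⟩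
  exact Module.Finite.equiv e.symm

end lin

/-- the sheaf Hom from a finite locally free module to a quasi-coherent module of finite type is
of finite type -/
theorem isFT_homSh [F.IsQuasicoherent] (hA : FlatMod.IsFinLocFree A)
    (hF : SheafOfModules.IsFiniteType (R := Y.ringCatSheaf) F) :
    (RefHull.homSh A F).IsQuasicoherent ∧
      SheafOfModules.IsFiniteType (R := Y.ringCatSheaf) (RefHull.homSh A F) := by
  haveI : A.IsQuasicoherent := FinLocFree4.isQuasicoherent_of_isFinLocFree A hA
  have hfp := FinLocFree2.isFinitePresentation_of_isFinLocFree A hA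
  haveI hq : (RefHull.homSh A F).IsQuasicoherent := HomShD.isQuasicoherent_homSh A F hfp
  refine ⟨hq, ?_⟩
  apply FTGlue.isFiniteType_of_finite_sections
  intro y
  obtain ⟨U, hU, n, hyU, ⟨b⟩⟩ := FinLocFree2.exists_affine_basis A hA y
  haveI : Module.Finite Γ(Y, U) Γ(F, U) := SecDict.finite_sections hU F inferInstance hF
  exact ⟨U, hU, hyU, finite_sections_homSh A F hU b⟩

/-- if `A` has, locally, a basis in which some coordinate of some section is invertible, the
evaluation `𝓗om(A, F) ⊗ A → F` is an epimorphism -/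
theorem epi_evLift [A.IsQuasicoherent] [F.IsQuasicoherent]
    (hsplit : ∀ y : Y, ∃ (U : Y.Opens) (_ : IsAffineOpen U) (n : ℕ)
      (b : Module.Basis (Fin n) Γ(Y, U) Γ(A, U)) (a : Γ(A, U)) (i : Fin n),
      y ∈ Y.basicOpen (b.repr a i)) : Epi (evBil A F).lift := by
  apply QcohLocal.epi_of_app_surjective_of_affine_cover
  intro y
  obtain ⟨U, hU, n, b, a, i, hy⟩ := hsplit y
  obtain ⟨c, hc⟩ : ∃ c : Γ(Y, U), c = b.repr a i := ⟨_, rfl⟩
  rw [← hc] at hy
  refine ⟨Y.basicOpen c, hU.basicOpen c, hy, ?_⟩
  intro s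
  have hWU : Y.basicOpen c ≤ U := Y.basicOpen_le c
  obtain ⟨v, hv⟩ : ∃ v : Γ(Y, Y.basicOpen c),
      Y.presheaf.map (homOfLE hWU).op c * v = 1 := by
    have hu : IsUnit (Y.presheaf.map (homOfLE hWU).op c) :=
      Y.toRingedSpace.isUnit_res_basicOpen c
    obtain ⟨w, hw⟩ := hu
    exact ⟨↑w⁻¹, by rw [← hw]; exact w.mul_inv⟩
  let l : Γ(A, U) →+ Γ(F, Y.basicOpen c) :=
    { toFun := fun m => Y.presheaf.map (homOfLE hWU).op (b.repr m i) • (v • s)
      map_zero' := by rw [map_zero, Finsupp.zero_apply, map_zero, zero_smul]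
      map_add' := fun m m' => by rw [map_add, Finsupp.add_apply, map_add, add_smul] }
  have hl : ∀ (r : Γ(Y, U)) (m : Γ(A, U)), l (r • m) =
      Y.presheaf.map (homOfLE hWU).op r • l m := by
    intro r m
    change Y.presheaf.map (homOfLE hWU).op (b.repr (r • m) i) • (v • s) =
      Y.presheaf.map (homOfLE hWU).op r • (Y.presheaf.map (homOfLE hWU).op (b.repr m i) • (v • s))
    rw [map_smul, Finsupp.smul_apply, smul_eq_mul, map_mul, mul_smul]
  let t : Γ(RefHull.homSh A F, Y.basicOpen c) := HomShA.ofLin hU A F hWU l hl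
  refine ⟨SecTwist.tmul (RefHull.homSh A F) A (Y.basicOpen c) t
    (A.presheaf.map (homOfLE hWU).op a), ?_⟩
  rw [Bil.lift_tmul, evBil_f]
  apply section_ext
  intro z hz
  rw [HomShC.germ_toLin]
  have h2 : A.presheaf.germ (Y.basicOpen c) z hz (A.presheaf.map (homOfLE hWU).op a) =
      A.presheaf.germ U z (hWU hz) a :=
    TopCat.Presheaf.germ_res_apply A.presheaf (homOfLE hWU) z hz _
  rw [h2]
  have h3 := HomShA.ofLin_apply_germ hU A F hWU l hl ⟨z, hz⟩ a
  refine h3.trans ?_
  congr 1
  change Y.presheaf.map (homOfLE hWU).op (b.repr a i) • (v • s) = s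
  rw [← hc, smul_smul, hv, one_smul]

end Groth.Agent.Lead.RPDesc
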