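import Mathlib
import Groth.Agent.Lead.BCMap5
import Groth.Agent.Helper4.TensorLift
import Groth.Agent.Helper4.QcohGlue

/-!
# The projection formula `H ⊗ f_* O_X ≅ f_* f^* H` for an affine morphism and quasi-coherent `H`
-/

set_option autoImplicit false
set_option linter.style.haveILetI false
set_option linter.unusedSectionVars false
set_option linter.unusedVariables false

universe u

open AlgebraicGeometry CategoryTheory CategoryTheory.Limits TopologicalSpace Opposite TensorProduct

namespace Groth.Agent.Lead.RPDesc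

open Groth.Agent.Helper4 Groth.Agent.Helper4.TensorLift Groth.Agent.Lead.BCMap Scheme.Modules

variable {X Y : Scheme.{u}} (f : X ⟶ Y) (H : Y.Modules)

/-- `f_* O_X` -/
noncomputable abbrev pushO : Y.Modules :=
  (Scheme.Modules.pushforward f).obj (Coh.structureModule X)

/-- `f_* f^* H` -/
noncomputable abbrev pushPull : Y.Modules :=
  (Scheme.Modules.pushforward f).obj ((Scheme.Modules.pullback f).obj H)

theorem appLE_self (V : Y.Opens) (r : Γ(Y, V)) :
    f.appLE V (f ⁻¹ᵁ V) (le_refl _) r = f.app V r := by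
  rw [Scheme.Hom.app_eq_appLE]

/-- the pullback of a section over `V` to `f⁻¹ V` -/
noncomputable abbrev pb (V : Y.Opens) : Γ(H, V) →+ Γ((Scheme.Modules.pullback f).obj H, f ⁻¹ᵁ V) :=
  pbSec f H V (f ⁻¹ᵁ V) (le_refl _)

theorem pb_smul (V : Y.Opens) (r : Γ(Y, V)) (h : Γ(H, V)) :
    pb f H V (r • h) = f.app V r • pb f H V h := by
  rw [pb, pbSec_smul, appLE_self]

theorem pb_res {V V' : Y.Opens} (i : V' ⟶ V) (h : Γ(H, V)) :
    pb f H V' (H.presheaf.map i.op h) =
      ((Scheme.Modules.pullback f).obj H).presheaf.map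
        (homOfLE (show f ⁻¹ᵁ V' ≤ f ⁻¹ᵁ V from fun _ hx => i.le hx)).op (pb f H V h) :=
  pbSec_res f H (le_refl _) (le_refl _) i.le _ h

/-- a section of `f^* H` over `f⁻¹ V`, as a section of `f_* f^* H` over `V` -/
def toPush (V : Y.Opens) (m : Γ((Scheme.Modules.pullback f).obj H, f ⁻¹ᵁ V)) :
    Γ(pushPull f H, V) := m

/-- a section of `f_* O_X` over `V`, as a function on `f⁻¹ V` -/
def ofPushO (V : Y.Opens) (a : Γ(pushO f, V)) : Γ(X, f ⁻¹ᵁ V) := a

theorem toPush_add (V : Y.Opens) (m m' : Γ((Scheme.Modules.pullback f).obj H, f ⁻¹ᵁ V)) :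
    toPush f H V (m + m') = toPush f H V m + toPush f H V m' := rfl

theorem toPush_smul (V : Y.Opens) (r : Γ(Y, V))
    (m : Γ((Scheme.Modules.pullback f).obj H, f ⁻¹ᵁ V)) :
    r • toPush f H V m = toPush f H V (f.app V r • m) := rfl

theorem toPush_injective (V : Y.Opens) : Function.Injective (toPush f H V) := fun _ _ h => h

theorem ofPushO_add (V : Y.Opens) (a a' : Γ(pushO f, V)) :
    ofPushO f V (a + a') = ofPushO f V a + ofPushO f V a' := rfl

theorem ofPushO_smul (V : Y.Opens) (r : Γ(Y, V)) (a : Γ(pushO f, V)) :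
    ofPushO f V (r • a) = f.app V r * ofPushO f V a := rfl

theorem toPush_res {V V' : Y.Opens} (i : V' ⟶ V)
    (m : Γ((Scheme.Modules.pullback f).obj H, f ⁻¹ᵁ V)) :
    (pushPull f H).presheaf.map i.op (toPush f H V m) =
      toPush f H V' (((Scheme.Modules.pullback f).obj H).presheaf.map
        (homOfLE (show f ⁻¹ᵁ V' ≤ f ⁻¹ᵁ V from fun _ hx => i.le hx)).op m) := rfl

theorem ofPushO_res {V V' : Y.Opens} (i : V' ⟶ V) (a : Γ(pushO f, V)) :
    ofPushO f V' ((pushO f).presheaf.map i.op a) =
      X.presheaf.map (homOfLE (show f ⁻¹ᵁ V' ≤ f ⁻¹ᵁ V from fun _ hx => i.le hx)).op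
        (ofPushO f V a) := rfl

/-- the projection formula pairing `H × f_* O_X → f_* f^* H`, `(h, a) ↦ a • f^* h` -/
noncomputable def projBil : Bil H (pushO f) (pushPull f H) where
  f V h a := toPush f H V (ofPushO f V a • pb f H V h)
  add_left V h h' a := by rw [map_add, smul_add, toPush_add]
  add_right V h a a' := by rw [ofPushO_add, add_smul, toPush_add]
  smul_left V r h a := by
    rw [pb_smul, toPush_smul, smul_comm]
  smul_right V r h a := by
    rw [ofPushO_smul, toPush_smul, mul_smul]
  map {V V'} i h a := by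
    rw [pb_res, toPush_res, ofPushO_res]
    exact congrArg (toPush f H V')
      (Scheme.Modules.map_smul ((Scheme.Modules.pullback f).obj H) _ _ _)

theorem projBil_f (V : Y.Opens) (h : Γ(H, V)) (a : Γ(pushO f, V)) :
    (projBil f H).f V h a = toPush f H V (ofPushO f V a • pb f H V h) := rfl

set_option maxHeartbeats 800000 in
/-- over an affine open the projection pairing induces a bijection on the presheaf tensor product -/
theorem projLin_bijective [IsAffineHom f] [H.IsQuasicoherent] {W : Y.Opens} (hW : IsAffineOpen W) :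
    Function.Bijective ((projBil f H).lin W) := by
  have hV : IsAffineOpen (f ⁻¹ᵁ W) := hW.preimage f
  have e : f ⁻¹ᵁ W ≤ f ⁻¹ᵁ W := le_refl _
  letI alg : Algebra Γ(Y, W) Γ(X, f ⁻¹ᵁ W) := (f.appLE W (f ⁻¹ᵁ W) e).hom.toAlgebra
  letI mN : Module Γ(Y, W) Γ((Scheme.Modules.pullback f).obj H, f ⁻¹ᵁ W) :=
    Module.compHom _ (f.appLE W (f ⁻¹ᵁ W) e).hom
  haveI : IsScalarTower Γ(Y, W) Γ(X, f ⁻¹ᵁ W) Γ((Scheme.Modules.pullback f).obj H, f ⁻¹ᵁ W) :=
    IsScalarTower.of_compHom _ _ _
  obtain ⟨ρ, hρ, hb⟩ := exists_isBaseChange_pbSec f H hW hV e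
  -- the map `S ⊗ M → TT`
  let Φ : Γ(X, f ⁻¹ᵁ W) ⊗[Γ(Y, W)] Γ(H, W) →+ TT H (pushO f) W :=
    TensorProduct.liftAddHom
      { toFun := fun s =>
          { toFun := fun m => pure H (pushO f) W m s
            map_zero' := by
              have := pure_add_left H (pushO f) W 0 0 s
              rw [add_zero] at this
              exact left_eq_add.mp this
            map_add' := fun m m' => pure_add_left H (pushO f) W m m' s }
        map_zero' := by
          ext m
          have := pure_add_right H (pushO f) W m 0 0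
          rw [add_zero] at this
          exact left_eq_add.mp this
        map_add' := fun s s' => by
          ext m
          exact pure_add_right H (pushO f) W m s s' }
      (fun r s m => by
        change pure H (pushO f) W m (r • s) = pure H (pushO f) W (r • m) s
        have h1 : (r • s : Γ(X, f ⁻¹ᵁ W)) = f.app W r * s := by
          change f.appLE W (f ⁻¹ᵁ W) e r * s = f.app W r * s
          rw [appLE_self]
        rw [pure_smul_left, h1]
        exact pure_smul_right H (pushO f) W r m s)
  have hΦ : ∀ s m, Φ (s ⊗ₜ m) = pure H (pushO f) W m s := fun s m =>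
    TensorProduct.liftAddHom_tmul _ _ _ _
  -- `lin ∘ Φ = equiv`
  have h1 : ∀ x, (projBil f H).lin W (Φ x) = hb.equiv x := by
    intro x
    induction x using TensorProduct.induction_on with
    | zero =>
      simp only [map_zero]
      rfl
    | add a b ha hb' =>
      simp only [map_add, ha, hb']
      rfl
    | tmul s m =>
      rw [hΦ, Bil.lin_pure, IsBaseChange.equiv_tmul, hρ]
      rfl
  -- `Φ` is surjective
  have hΦs : Function.Surjective Φ := by
    intro x
    induction x using TensorProduct.induction_on with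
    | zero => exact ⟨0, map_zero _⟩
    | add a b ha hb' =>
      obtain ⟨a', rfl⟩ := ha
      obtain ⟨b', rfl⟩ := hb'
      exact ⟨a' + b', map_add _ _ _⟩
    | tmul m s => exact ⟨s ⊗ₜ m, hΦ s m⟩
  constructor
  · intro x y hxy
    obtain ⟨x', rfl⟩ := hΦs x
    obtain ⟨y', rfl⟩ := hΦs y
    rw [h1, h1] at hxy
    rw [hb.equiv.injective hxy]
  · intro n
    obtain ⟨x, hx⟩ := hb.equiv.surjective n
    exact ⟨Φ x, by rw [h1, hx]⟩

/-- **projection formula**: `H ⊗ f_* O_X ≅ f_* f^* H` for `f` affine and `H` quasi-coherent -/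
theorem isIso_projLift [IsAffineHom f] [H.IsQuasicoherent] : IsIso (projBil f H).lift := by
  apply Bil.isIso_lift
  · intro V x y hxy p hp
    obtain ⟨W, hW, hpW, hWV⟩ := (Opens.isBasis_iff_nbhd.mp Y.isBasis_affineOpens) hp
    refine ⟨W, homOfLE hWV, hpW, ?_⟩
    apply (projLin_bijective f H hW).1
    rw [Bil.lin_map, Bil.lin_map, hxy]
  · intro V s p hp
    obtain ⟨W, hW, hpW, hWV⟩ := (Opens.isBasis_iff_nbhd.mp Y.isBasis_affineOpens) hp
    refine ⟨W, homOfLE hWV, hpW, ?_⟩
    exact (projLin_bijective f H hW).2 _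

end Groth.Agent.Lead.RPDesc
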