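import Mathlib
import Groth.Agent.Lead.RPDescA
import Groth.Agent.Lead.RPDescB
import Groth.Agent.Lead.RPDescC
import Groth.Agent.Lead.StalkPull
import Groth.Agent.Lead.LimPres
import Groth.Prelude.Def_Mor2
import Groth.Prelude.Def_PerfAux

/-!
# The resolution property descends along finite locally free surjective morphisms
-/

set_option autoImplicit false
set_option linter.style.haveILetI false
set_option linter.unusedSectionVars false
set_option linter.unusedVariables false

universe u

open AlgebraicGeometry CategoryTheory CategoryTheory.Limits TopologicalSpace Opposite TensorProduct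

namespace Groth.Agent.Lead.RPDesc

open Groth.Agent.Helper4 Groth.Agent.Helper4.TensorLift Groth.Agent.Lead.BCMap Scheme.Modules

variable {X Y : Scheme.{u}} (f : X ⟶ Y)

/-- a function on `f⁻¹ V` as a section of `f_* O_X` over `V` -/
def toPushO (V : Y.Opens) (r : Γ(X, f ⁻¹ᵁ V)) : Γ(pushO f, V) := r

theorem ofPushO_toPushO (V : Y.Opens) (r : Γ(X, f ⁻¹ᵁ V)) :
    ofPushO f V (toPushO f V r) = r := rfl

/-- the germ at `x` of a section of `f_* O_X` near `f x` -/
noncomputable def germO (V : Y.Opens) (x : X) (hx : x ∈ f ⁻¹ᵁ V) :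
    Γ(pushO f, V) →+ X.presheaf.stalk x where
  toFun m := X.presheaf.germ (f ⁻¹ᵁ V) x hx (ofPushO f V m)
  map_zero' := by
    have : ofPushO f V 0 = 0 := rfl
    rw [this, map_zero]
  map_add' m m' := by rw [ofPushO_add, map_add]

theorem germO_apply (V : Y.Opens) (x : X) (hx : x ∈ f ⁻¹ᵁ V) (m : Γ(pushO f, V)) :
    germO f V x hx m = X.presheaf.germ (f ⁻¹ᵁ V) x hx (ofPushO f V m) := rfl

theorem germO_smul (V : Y.Opens) (x : X) (hx : x ∈ f ⁻¹ᵁ V) (r : Γ(Y, V)) (m : Γ(pushO f, V)) :
    germO f V x hx (r • m) =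
      X.presheaf.germ (f ⁻¹ᵁ V) x hx (f.app V r) * germO f V x hx m := by
  rw [germO_apply, ofPushO_smul, map_mul, germO_apply]

/-- when `f` is finite locally free and surjective, `1 ∈ f_* O_X` has, locally, an invertible
coordinate -/
theorem exists_unit_coord [Surjective f] [IsFinite f] [Flat f] [LocallyOfFinitePresentation f]
    (y : Y) : ∃ (U : Y.Opens) (_ : IsAffineOpen U) (n : ℕ)
      (b : Module.Basis (Fin n) Γ(Y, U) Γ(pushO f, U)) (a : Γ(pushO f, U)) (i : Fin n),
      y ∈ Y.basicOpen (b.repr a i) := by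
  have hA : FlatMod.IsFinLocFree (pushO f) := FinLocFree6.isFinLocFree_push_of_finite_flat_lfp f
  haveI : (pushO f).IsQuasicoherent := FinLocFree4.isQuasicoherent_of_isFinLocFree _ hA
  obtain ⟨U, hU, n, hyU, ⟨b⟩⟩ := FinLocFree2.exists_affine_basis (pushO f) hA y
  obtain ⟨x, rfl⟩ := f.surjective y
  have hx : x ∈ f ⁻¹ᵁ U := hyU
  let a : Γ(pushO f, U) := toPushO f U 1
  by_contra hcon
  have hcon' : ∀ i : Fin n, f x ∉ Y.basicOpen (b.repr a i) := by
    intro i hi
    exact hcon ⟨U, hU, n, b, a, i, hi⟩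
  have h1 : germO f U x hx a = 1 := by
    rw [germO_apply, ofPushO_toPushO, map_one]
  have hmem : germO f U x hx a ∈ IsLocalRing.maximalIdeal (X.presheaf.stalk x) := by
    rw [← b.sum_repr a, map_sum]
    apply Ideal.sum_mem
    intro i _
    rw [germO_smul]
    apply Ideal.mul_mem_right
    rw [IsLocalRing.mem_maximalIdeal, mem_nonunits_iff]
    intro hu
    apply hcon' i
    have hxb : x ∈ X.basicOpen (f.app U (b.repr a i)) := (X.mem_basicOpen _ x hx).mpr hu
    rw [← Scheme.preimage_basicOpen] at hxb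
    exact hxb
  rw [h1] at hmem
  exact (Ideal.ne_top_iff_one _).mp (IsLocalRing.maximalIdeal.isMaximal _).ne_top hmem

/-- **Descent of the resolution property** along a finite locally free surjective morphism. -/
theorem main (hf : Mor2.IsFinLocFree f) [Surjective f]
    (hX : PerfAux.HasResolutionProperty X) : PerfAux.HasResolutionProperty Y := by
  obtain ⟨hfin, hflat, hlfp⟩ := hf
  haveI := hfin
  haveI := hflat
  haveI := hlfp
  intro F hFq hFt
  haveI : F.IsQuasicoherent := hFq
  have hA : FlatMod.IsFinLocFree (pushO f) := FinLocFree6.isFinLocFree_push_of_finite_flat_lfp f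
  haveI : (pushO f).IsQuasicoherent := FinLocFree4.isQuasicoherent_of_isFinLocFree _ hA
  obtain ⟨hHq, hHt⟩ := isFT_homSh (pushO f) F hA hFt
  haveI := hHq
  let H := RefHull.homSh (pushO f) F
  haveI hpq : ((Scheme.Modules.pullback f).obj H).IsQuasicoherent :=
    Groth.Agent.Lead.StalkPull.isQuasicoherent_pullbackObj f H
  have hpt := Groth.Agent.Lead.LimPres.isFT_pullback f H hHt
  obtain ⟨E, π, hE, hπ⟩ := hX ((Scheme.Modules.pullback f).obj H) hpq hpt
  haveI := hπ
  haveI : E.IsQuasicoherent := FinLocFree4.isQuasicoherent_of_isFinLocFree _ hE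
  haveI h1 : Epi ((Scheme.Modules.pushforward f).map π) := epi_pushforward_map f π
  haveI h2 : IsIso (projBil f H).lift := isIso_projLift f H
  haveI h3 : Epi (evBil (pushO f) F).lift := epi_evLift (pushO f) F (exists_unit_coord f)
  refine ⟨(Scheme.Modules.pushforward f).obj E,
    (Scheme.Modules.pushforward f).map π ≫ inv (projBil f H).lift ≫ (evBil (pushO f) F).lift,
    isFinLocFree_pushforward f E hE, ?_⟩
  infer_instance

end Groth.Agent.Lead.RPDesc
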