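import Mathlib
import Groth.Agent.Lead.RPDescD
import Groth.Agent.Lead.ResPropF
import Groth.Agent.Helper4.QcohLimits

/-!
# Generating families push forward along finite locally free surjective morphisms
-/

set_option autoImplicit false
set_option linter.style.haveILetI false
set_option linter.unusedSectionVars false
set_option linter.unusedVariables false

universe u

open AlgebraicGeometry CategoryTheory CategoryTheory.Limits TopologicalSpace Opposite TensorProduct

namespace Groth.Agent.Lead.RPDesc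

open Groth.Agent.Helper4 Groth.Agent.Helper4.StalkDict Groth.Agent.Helper4.TensorLift
  Groth.Agent.Lead.BCMap Groth.Agent.Lead.ResProp Scheme.Modules
  Groth.Agent.Helper9.SkyMod4 Groth.Agent.Helper9.SkyMod5

variable {X Y : Scheme.{u}}

/-- for a jointly epimorphic family of maps of quasi-coherent modules, the sections of the target
over an affine open are spanned by the images of the sections of the sources -/
theorem mem_span_of_jointlyEpi {I : Type*} {F : X.Modules} [F.IsQuasicoherent]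
    (A : I → X.Modules) (hA : ∀ i, (A i).IsQuasicoherent) (a : ∀ i, A i ⟶ F)
    (h : JointlyEpi A a) {U : X.Opens} (hU : IsAffineOpen U) (m : Γ(F, U)) :
    m ∈ Submodule.span Γ(X, U) (⋃ i, Set.range (fun t : Γ(A i, U) => (a i).app U t)) := by
  obtain ⟨N', hN'⟩ : ∃ N' : Submodule Γ(X, U) Γ(F, U), N' =
      Submodule.span Γ(X, U) (⋃ i, Set.range (fun t : Γ(A i, U) => (a i).app U t)) := ⟨_, rfl⟩
  rw [← hN']
  have hmem : ∀ i (t : Γ(A i, U)), (a i).app U t ∈ N' := by
    intro i t
    rw [hN']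
    exact Submodule.subset_span (Set.mem_iUnion.mpr ⟨i, t, rfl⟩)
  let J : Ideal Γ(X, U) := N'.comap (LinearMap.toSpanSingleton Γ(X, U) Γ(F, U) m)
  have hJ : ∀ r, r ∈ J ↔ r • m ∈ N' := fun r => Iff.rfl
  by_contra hm
  have hne : J ≠ ⊤ := by
    intro htop
    apply hm
    have h1 : (1 : Γ(X, U)) ∈ J := htop ▸ Submodule.mem_top
    rw [hJ, one_smul] at h1
    exact h1
  obtain ⟨P, hP, hle⟩ := Ideal.exists_le_maximal J hne
  haveI hPp : P.IsPrime := hP.isPrime
  let y : Spec Γ(X, U) := ⟨P, hPp⟩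
  obtain ⟨x, hxdef⟩ : ∃ x : X, x = hU.fromSpec y := ⟨_, rfl⟩
  have hx : x ∈ U := by
    have h1 : x ∈ Set.range hU.fromSpec := ⟨y, hxdef.symm⟩
    rwa [hU.range_fromSpec] at h1
  have hy : hU.primeIdealOf ⟨x, hx⟩ = y := by
    apply hU.fromSpec.isOpenEmbedding.injective
    rw [hU.fromSpec_primeIdealOf ⟨x, hx⟩]
    exact hxdef
  have hyP : (hU.primeIdealOf ⟨x, hx⟩).asIdeal = P := by rw [hy]
  -- the key local statement
  have key : ∀ n : F.presheaf.stalk x, ∃ (m' : Γ(F, U)) (s : Γ(X, U)), m' ∈ N' ∧ s ∉ P ∧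
      F.presheaf.germ U x hx m' = X.presheaf.germ U x hx s • n := by
    intro n
    have htop := iSup_range_St_map_eq_top A a h x
    have hn : (show ↑((St x).obj F) from n) ∈ ⨆ i, LinearMap.range ((St x).map (a i)).hom := by
      rw [htop]
      exact Submodule.mem_top
    refine Submodule.iSup_induction _ (motive := fun n : ↑((St x).obj F) =>
      ∃ (m' : Γ(F, U)) (s : Γ(X, U)), m' ∈ N' ∧ s ∉ P ∧
        F.presheaf.germ U x hx m' = X.presheaf.germ U x hx s • n) hn ?_ ?_ ?_
    · rintro i _ ⟨n0, rfl⟩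
      haveI := hA i
      letI := sectionModStalk (A i) x hx
      haveI := isLocalizedModule_germ hU (A i) x hx
      obtain ⟨⟨t, s⟩, hts⟩ := IsLocalizedModule.surj
        (hU.primeIdealOf ⟨x, hx⟩).asIdeal.primeCompl (germLin (A i) x hx) n0
      refine ⟨(a i).app U t, s.1, hmem i t, ?_, ?_⟩
      · have := s.2
        rw [← hyP]
        exact this
      · have h1 : X.presheaf.germ U x hx s.1 • n0 = (A i).presheaf.germ U x hx t := hts
        have h2 : ((St x).map (a i)).hom (X.presheaf.germ U x hx s.1 • n0) =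
            X.presheaf.germ U x hx s.1 • ((St x).map (a i)).hom n0 := map_smul _ _ _
        rw [← h2, h1, Groth.Agent.Lead.Ref1B.St_map_apply, RefHull.stalkMapₗ_germ]
    · exact ⟨0, 1, N'.zero_mem, fun h1 => hPp.ne_top ((Ideal.eq_top_iff_one P).mpr h1),
        by rw [map_zero, smul_zero]; rfl⟩
    · rintro n1 n2 ⟨m1, s1, hm1, hs1, h1⟩ ⟨m2, s2, hm2, hs2, h2⟩
      refine ⟨s2 • m1 + s1 • m2, s1 * s2, N'.add_mem (N'.smul_mem _ hm1) (N'.smul_mem _ hm2),
        fun h3 => (hPp.mem_or_mem h3).elim hs1 hs2, ?_⟩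
      rw [map_add, germ_smul, germ_smul, h1, h2, map_mul, smul_add]
      congr 1
      · rw [mul_comm, mul_smul]
        rfl
      · rw [mul_smul]
        rfl
  obtain ⟨m', s, hm', hs, he⟩ := key (F.presheaf.germ U x hx m)
  letI := sectionModStalk F x hx
  haveI hloc := isLocalizedModule_germ hU F x hx
  have h1 : germLin F x hx m' = germLin F x hx (s • m) := by
    rw [germLin_apply, germLin_apply, he, germ_smul]
  obtain ⟨c, hc⟩ := (IsLocalizedModule.eq_iff_exists
    (hU.primeIdealOf ⟨x, hx⟩).asIdeal.primeCompl (germLin F x hx)).mp h1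
  have hcs : c.1 * s ∈ J := by
    rw [hJ, mul_smul]
    have h2 : c.1 • s • m = c.1 • m' := hc.symm
    rw [h2]
    exact N'.smul_mem _ hm'
  have h3 : c.1 * s ∈ P := hle hcs
  have hc' : c.1 ∉ P := by
    have := c.2
    rw [← hyP]
    exact this
  exact (hPp.mem_or_mem h3).elim hc' hs

/-- additive-closure form of `mem_span_of_jointlyEpi` -/
theorem mem_closure_of_jointlyEpi {I : Type*} {F : X.Modules} [F.IsQuasicoherent]
    (A : I → X.Modules) (hA : ∀ i, (A i).IsQuasicoherent) (a : ∀ i, A i ⟶ F)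
    (h : JointlyEpi A a) {U : X.Opens} (hU : IsAffineOpen U) (m : Γ(F, U)) :
    m ∈ AddSubgroup.closure (⋃ i, Set.range (fun t : Γ(A i, U) => (a i).app U t)) := by
  have h0 := mem_span_of_jointlyEpi A hA a h hU m
  refine Submodule.span_induction (p := fun m _ => m ∈ AddSubgroup.closure
    (⋃ i, Set.range (fun t : Γ(A i, U) => (a i).app U t))) ?_ ?_ ?_ ?_ h0
  · intro m hm
    exact AddSubgroup.subset_closure hm
  · exact AddSubgroup.zero_mem _
  · intro m1 m2 _ _ h1 h2
    exact AddSubgroup.add_mem _ h1 h2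
  · intro r m1 _ h1
    refine AddSubgroup.closure_induction (p := fun m _ => r • m ∈ AddSubgroup.closure
      (⋃ i, Set.range (fun t : Γ(A i, U) => (a i).app U t))) ?_ ?_ ?_ ?_ h1
    · intro m2 hm2
      obtain ⟨i, t, rfl⟩ := Set.mem_iUnion.mp hm2
      apply AddSubgroup.subset_closure
      refine Set.mem_iUnion.mpr ⟨i, r • t, ?_⟩
      exact Scheme.Modules.Hom.app_smul (a i) r t
    · rw [smul_zero]
      exact AddSubgroup.zero_mem _
    · intro m2 m3 _ _ h2 h3
      rw [smul_add]
      exact AddSubgroup.add_mem _ h2 h3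
    · intro m2 _ h2
      rw [smul_neg]
      exact AddSubgroup.neg_mem _ h2

/-- the section map `Γ(f⁻¹V, f^*H) → Γ(V, f_* f^* H)` as an additive map -/
noncomputable def toPushHom (f : X ⟶ Y) (H : Y.Modules) (V : Y.Opens) :
    Γ((Scheme.Modules.pullback f).obj H, f ⁻¹ᵁ V) →+ Γ(pushPull f H, V) where
  toFun := toPush f H V
  map_zero' := rfl
  map_add' _ _ := rfl

/-- a generating family pushes forward to a generating family along a finite locally free
surjective morphism -/
theorem generating_pushforward (f : X ⟶ Y) [IsFinite f] [Flat f] [LocallyOfFinitePresentation f]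
    [Surjective f] {ι : Type u} (E : ι → X.Modules) (hE : ∀ i, (E i).IsQuasicoherent)
    (hgen : ∀ M : X.Modules, M.IsQuasicoherent →
      ∃ (κ : Type u) (j : κ → ι) (π : (∐ fun k : κ => E (j k)) ⟶ M), Epi π)
    (N : Y.Modules) (hN : N.IsQuasicoherent) :
    ∃ (κ : Type u) (j : κ → ι)
      (π : (∐ fun k : κ => (Scheme.Modules.pushforward f).obj (E (j k))) ⟶ N), Epi π := by
  haveI := hN
  have hA : FlatMod.IsFinLocFree (pushO f) := FinLocFree6.isFinLocFree_push_of_finite_flat_lfp f
  haveI : (pushO f).IsQuasicoherent := FinLocFree4.isQuasicoherent_of_isFinLocFree _ hA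
  have hfp := FinLocFree2.isFinitePresentation_of_isFinLocFree (pushO f) hA
  haveI hHq : (RefHull.homSh (pushO f) N).IsQuasicoherent :=
    HomShD.isQuasicoherent_homSh (pushO f) N hfp
  obtain ⟨H, hHdef⟩ : ∃ H : Y.Modules, H = RefHull.homSh (pushO f) N := ⟨_, rfl⟩
  haveI : H.IsQuasicoherent := hHdef ▸ hHq
  haveI hpq : ((Scheme.Modules.pullback f).obj H).IsQuasicoherent :=
    Groth.Agent.Lead.StalkPull.isQuasicoherent_pullbackObj f H
  obtain ⟨κ, j, π, hπ⟩ := hgen _ hpq
  haveI := hπ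
  haveI h2 : IsIso (projBil f H).lift := isIso_projLift f H
  haveI h3 : Epi (evBil (pushO f) N).lift := epi_evLift (pushO f) N (exists_unit_coord f)
  obtain ⟨θ, hθdef⟩ : ∃ θ : pushPull f H ⟶ N,
      θ = inv (projBil f H).lift ≫ eqToHom (by rw [hHdef]) ≫ (evBil (pushO f) N).lift :=
    ⟨_, rfl⟩
  haveI hθ : Epi θ := by
    rw [hθdef]
    infer_instance
  haveI : (pushPull f H).IsQuasicoherent := QcohGlue.isQuasicoherent_pushforward f _
  let πk : ∀ k : κ, E (j k) ⟶ (Scheme.Modules.pullback f).obj H := fun k =>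
    Sigma.ι (fun k : κ => E (j k)) k ≫ π
  have hπk : JointlyEpi (fun k : κ => E (j k)) πk := by
    rw [jointlyEpi_iff_epi_desc]
    have h4 : Sigma.desc πk = π := by
      apply Sigma.hom_ext
      intro k
      rw [Sigma.ι_desc]
    rw [h4]
    exact hπ
  let ψ : ∀ k : κ, (Scheme.Modules.pushforward f).obj (E (j k)) ⟶ N := fun k =>
    (Scheme.Modules.pushforward f).map (πk k) ≫ θ
  refine ⟨κ, j, Sigma.desc ψ, ?_⟩
  rw [← jointlyEpi_iff_epi_desc]
  intro Q q hq
  apply eq_zero_of_app_affine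
  intro V s
  obtain ⟨u, hu⟩ := QcohEpi.app_surjective_of_epi θ V.2 s
  have hcl := mem_closure_of_jointlyEpi (fun k : κ => E (j k)) (fun k => hE (j k)) πk hπk
    (V.2.preimage f) (show Γ((Scheme.Modules.pullback f).obj H, f ⁻¹ᵁ V.1) from u)
  let Φ : Γ((Scheme.Modules.pullback f).obj H, f ⁻¹ᵁ V.1) →+ Γ(Q, V.1) :=
    (q.app V.1).hom.comp ((θ.app V.1).hom.comp (toPushHom f H V.1))
  have hker : AddSubgroup.closure (⋃ k, Set.range (fun t : Γ(E (j k), f ⁻¹ᵁ V.1) =>
      (πk k).app (f ⁻¹ᵁ V.1) t)) ≤ Φ.ker := by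
    rw [AddSubgroup.closure_le]
    intro w hw
    obtain ⟨k, t, rfl⟩ := Set.mem_iUnion.mp hw
    have h0 : ((ψ k ≫ q).app V.1)
        (show Γ((Scheme.Modules.pushforward f).obj (E (j k)), V.1) from t) = 0 := by
      rw [hq k]
      rfl
    rw [SetLike.mem_coe, AddMonoidHom.mem_ker]
    exact h0
  have h5 : Φ (show Γ((Scheme.Modules.pullback f).obj H, f ⁻¹ᵁ V.1) from u) = 0 := hker hcl
  change (q.app V.1) s = 0
  rw [← hu]
  exact h5

end Groth.Agent.Lead.RPDesc
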