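import Mathlib

set_option autoImplicit false
open Polynomial Finset

namespace Groth.Agent.Lead.RankInt

/-- The shifted falling factorial polynomial `(X - a₀)(X - a₀ - 1)⋯(X - a₀ - g)` over `ℤ`. -/
noncomputable def Dg (g : ℕ) (a0 : ℤ) : ℤ[X] := (descPochhammer ℤ (g + 1)).comp (X - C a0)

theorem Dg_monic (g : ℕ) (a0 : ℤ) : (Dg g a0).Monic := by
  unfold Dg
  exact (monic_descPochhammer ℤ (g + 1)).comp_X_sub_C a0

theorem Dg_natDegree (g : ℕ) (a0 : ℤ) : (Dg g a0).natDegree = g + 1 := by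
  unfold Dg
  rw [natDegree_comp, natDegree_X_sub_C, mul_one, descPochhammer_natDegree]

theorem Dg_eval (g : ℕ) (a0 : ℤ) (i : ℕ) (hi : i ≤ g) :
    ((Dg g a0).map (Int.castRingHom ℚ)).eval ((a0 : ℚ) + i) = 0 := by
  unfold Dg
  rw [Polynomial.map_comp, descPochhammer_map, eval_comp]
  simp only [Polynomial.map_sub, map_X, Polynomial.map_intCast, eval_sub, eval_X, eval_intCast,
    eq_intCast, add_sub_cancel_left, Polynomial.map_C]
  rw [descPochhammer_eval_eq_descFactorial]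
  have : i.descFactorial (g + 1) = 0 := Nat.descFactorial_eq_zero_iff_lt.mpr (by omega)
  rw [this, Nat.cast_zero]

/-- `(g+1)!` times the top coefficient is an integer. -/
theorem top_coeff_int (g : ℕ) (R : ℚ[X]) (hR : R.natDegree ≤ g + 1) (a0 : ℤ)
    (hv : ∀ i ≤ g + 1, ∃ z : ℤ, R.eval ((a0 : ℚ) + (i : ℕ)) = z) :
    ∃ w : ℤ, ((g + 1).factorial : ℚ) * R.coeff (g + 1) = w := by
  have h1 : (fwdDiff (1 : ℚ))^[g + 1] R.eval (a0 : ℚ) = ((g + 1).factorial : ℚ) * R.coeff (g + 1) := by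
    rcases Nat.lt_or_ge R.natDegree (g + 1) with h | h
    · rw [Polynomial.fwdDiff_iter_eq_zero_of_degree_lt h, coeff_eq_zero_of_natDegree_lt h]
      simp
    · have h2 : R.natDegree = g + 1 := le_antisymm hR h
      have h3 := Polynomial.fwdDiff_iter_degree_eq_factorial R
      rw [h2] at h3
      rw [h3]
      simp [Polynomial.leadingCoeff, h2, mul_comm]
  rw [← h1, fwdDiff_iter_eq_sum_shift]
  choose! z hz using hv
  refine ⟨∑ k ∈ range (g + 1 + 1), ((-1 : ℤ) ^ (g + 1 - k) * ((g + 1).choose k : ℤ)) * z k, ?_⟩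
  push_cast
  refine Finset.sum_congr rfl fun k hk => ?_
  have hk' : k ≤ g + 1 := by
    have := Finset.mem_range.mp hk; omega
  rw [nsmul_eq_mul, mul_one, hz k hk', zsmul_eq_mul]
  push_cast
  ring

theorem exists_int_poly (g : ℕ) : ∀ (R : ℚ[X]), R.natDegree ≤ g → ∀ a0 : ℤ,
    (∀ i ≤ g, ∃ z : ℤ, R.eval ((a0 : ℚ) + (i : ℕ)) = z) →
    ∃ T : ℤ[X], T.map (Int.castRingHom ℚ) = C (g.factorial : ℚ) * R := by
  induction g with
  | zero =>
    intro R hR a0 hv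
    obtain ⟨z, hz⟩ := hv 0 le_rfl
    have hRC : R = C (R.coeff 0) := eq_C_of_natDegree_le_zero hR
    refine ⟨C z, ?_⟩
    rw [hRC] at hz ⊢
    simp only [eval_C] at hz
    simp [hz]
  | succ g ih =>
    intro R hR a0 hv
    obtain ⟨w, hw⟩ := top_coeff_int g R hR a0 hv
    obtain ⟨R', hR'⟩ : ∃ R' : ℚ[X], R' = R - C (R.coeff (g + 1)) * (Dg g a0).map (Int.castRingHom ℚ) :=
      ⟨_, rfl⟩
    have hDm : ((Dg g a0).map (Int.castRingHom ℚ)).Monic := (Dg_monic g a0).map _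
    have hDd : ((Dg g a0).map (Int.castRingHom ℚ)).natDegree = g + 1 := by
      rw [natDegree_map_eq_of_injective (RingHom.injective_int (Int.castRingHom ℚ)), Dg_natDegree]
    have hdeg : R'.natDegree ≤ g := by
      rw [natDegree_le_iff_coeff_eq_zero]
      intro N hN
      rw [hR', coeff_sub, coeff_C_mul]
      rcases Nat.lt_or_ge (g + 1) N with h | h
      · have hD0 : ((Dg g a0).map (Int.castRingHom ℚ)).coeff N = 0 :=
          coeff_eq_zero_of_natDegree_lt (by rw [hDd]; exact h)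
        rw [coeff_eq_zero_of_natDegree_lt (lt_of_le_of_lt hR h), hD0]
        simp
      · have hN' : N = g + 1 := by omega
        subst hN'
        have : ((Dg g a0).map (Int.castRingHom ℚ)).coeff (g + 1) = 1 := by
          have := hDm.coeff_natDegree
          rwa [hDd] at this
        rw [this, mul_one, sub_self]
    have hval : ∀ i ≤ g, ∃ z : ℤ, R'.eval ((a0 : ℚ) + (i : ℕ)) = z := by
      intro i hi
      obtain ⟨z, hz⟩ := hv i (by omega)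
      refine ⟨z, ?_⟩
      rw [hR', eval_sub, eval_mul, Dg_eval g a0 i hi, mul_zero, sub_zero, hz]
    obtain ⟨T', hT'⟩ := ih R' hdeg a0 hval
    refine ⟨C ((g + 1 : ℕ) : ℤ) * T' + C w * Dg g a0, ?_⟩
    have e1 : (C ((g + 1 : ℕ) : ℤ) * T' + C w * Dg g a0).map (Int.castRingHom ℚ) =
        C (((g + 1 : ℕ) : ℚ)) * T'.map (Int.castRingHom ℚ) +
          C (w : ℚ) * (Dg g a0).map (Int.castRingHom ℚ) := by
      rw [Polynomial.map_add, Polynomial.map_mul, Polynomial.map_mul, Polynomial.map_C,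
        Polynomial.map_C]
      simp
    rw [e1, hT', ← hw, hR', Nat.factorial_succ]
    simp only [Nat.cast_mul, Nat.cast_add, Nat.cast_one, C_mul, C_add, C_1]
    ring

/-- Integer-valued polynomials: `g! • coeff` is an integer. -/
theorem factorial_mul_coeff_int (g : ℕ) (R : ℚ[X]) (hR : R.natDegree ≤ g) (a0 : ℤ)
    (hv : ∀ i ≤ g, ∃ z : ℤ, R.eval ((a0 : ℚ) + (i : ℕ)) = z) (j : ℕ) :
    ∃ z : ℤ, (g.factorial : ℚ) * R.coeff j = z := by
  obtain ⟨T, hT⟩ := exists_int_poly g R hR a0 hv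
  refine ⟨T.coeff j, ?_⟩
  have := congrArg (fun p => p.coeff j) hT
  simp only [coeff_map, eq_intCast, coeff_C_mul] at this
  exact this.symm


theorem int_of_two_pow (x : ℚ) (b N : ℕ) (h1 : ∃ z : ℤ, x * (b : ℚ) ^ N = z)
    (h2 : ∃ z : ℤ, x * ((b + 1 : ℕ) : ℚ) ^ N = z) : ∃ z : ℤ, x = z := by
  obtain ⟨z1, hz1⟩ := h1
  obtain ⟨z2, hz2⟩ := h2
  have hc : IsCoprime ((b : ℤ) ^ N) (((b + 1 : ℕ) : ℤ) ^ N) := by
    apply IsCoprime.pow
    exact ⟨-1, 1, by push_cast; ring⟩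
  obtain ⟨s, t, hst⟩ := hc
  refine ⟨s * z1 + t * z2, ?_⟩
  have hst' : (s : ℚ) * (b : ℚ) ^ N + (t : ℚ) * ((b + 1 : ℕ) : ℚ) ^ N = 1 := by
    exact_mod_cast hst
  push_cast
  rw [← hz1, ← hz2]
  linear_combination (-x) * hst'

theorem key (g : ℕ) (u v : ℚ) (Q : ℚ[X]) (hQ : Q.natDegree ≤ g) (H : ℤ → ℕ → ℕ)
    (hpoly : ∀ (a : ℤ) (b : ℕ), 0 < b → u < (a : ℚ) / (b : ℚ) → (a : ℚ) / (b : ℚ) < v →
      (H a b : ℚ) / (b : ℚ) ^ (2 * g) = Q.eval ((a : ℚ) / (b : ℚ)))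
    (j : ℕ) (hj : j ≤ g) (b : ℕ) (hb : (g + 2 : ℚ) < (v - u) * b) :
    ∃ z : ℤ, ((g.factorial : ℚ) * Q.coeff j) * (b : ℚ) ^ (2 * g - j) = z := by
  have hb0 : 0 < b := by
    rcases Nat.eq_zero_or_pos b with h | h
    · subst h
      simp only [Nat.cast_zero, mul_zero] at hb
      have : (0 : ℚ) ≤ (g : ℚ) + 2 := by positivity
      linarith
    · exact h
  have hbQ : (0 : ℚ) < b := by exact_mod_cast hb0
  have hbne : (b : ℚ) ≠ 0 := ne_of_gt hbQ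
  obtain ⟨R, hRdef⟩ : ∃ R : ℚ[X], R = C ((b : ℚ) ^ (2 * g)) * Q.comp (C (b : ℚ)⁻¹ * X) := ⟨_, rfl⟩
  have hRdeg : R.natDegree ≤ g := by
    rw [hRdef]
    refine (natDegree_C_mul_le _ _).trans (natDegree_comp_le.trans ?_)
    calc Q.natDegree * (C (b : ℚ)⁻¹ * X).natDegree ≤ Q.natDegree * 1 :=
          Nat.mul_le_mul_left _ ((natDegree_C_mul_le _ _).trans natDegree_X_le)
      _ ≤ g := by rw [mul_one]; exact hQ
  have hval : ∀ i ≤ g, ∃ z : ℤ, R.eval (((⌊u * b⌋ + 1 : ℤ) : ℚ) + (i : ℕ)) = z := by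
    intro i hi
    obtain ⟨a, ha⟩ : ∃ a : ℤ, a = ⌊u * b⌋ + 1 + (i : ℤ) := ⟨_, rfl⟩
    have haQ : (a : ℚ) = ((⌊u * b⌋ + 1 : ℤ) : ℚ) + (i : ℕ) := by rw [ha]; push_cast; ring
    have hfl1 : u * b < (⌊u * b⌋ : ℚ) + 1 := Int.lt_floor_add_one _
    have hfl2 : (⌊u * b⌋ : ℚ) ≤ u * b := Int.floor_le _
    have hiQ : (i : ℚ) ≤ g := by exact_mod_cast hi
    have hi0 : (0 : ℚ) ≤ i := by positivity
    have hlow : u * b < (a : ℚ) := by rw [haQ]; push_cast; linarith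
    have hhigh : (a : ℚ) < v * b := by rw [haQ]; push_cast; nlinarith
    have h1 : u < (a : ℚ) / (b : ℚ) := (lt_div_iff₀ hbQ).mpr hlow
    have h2 : (a : ℚ) / (b : ℚ) < v := (div_lt_iff₀ hbQ).mpr hhigh
    have h3 := hpoly a b hb0 h1 h2
    refine ⟨(H a b : ℤ), ?_⟩
    rw [← haQ, hRdef, eval_mul, eval_C, eval_comp, eval_mul, eval_C, eval_X, ← div_eq_inv_mul, ← h3]
    push_cast
    field_simp
  obtain ⟨z, hz⟩ := factorial_mul_coeff_int g R hRdeg _ hval j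
  refine ⟨z, ?_⟩
  rw [← hz, hRdef, coeff_C_mul, comp_C_mul_X_coeff]
  have hj2 : j ≤ 2 * g := by omega
  rw [pow_sub₀ _ hbne hj2, inv_pow]
  ring

theorem main (g : ℕ) (u v : ℚ) (huv : u < v) (Q : ℚ[X]) (hQ : Q.natDegree ≤ g) (H : ℤ → ℕ → ℕ)
    (hpoly : ∀ (a : ℤ) (b : ℕ), 0 < b → u < (a : ℚ) / (b : ℚ) → (a : ℚ) / (b : ℚ) < v →
      (H a b : ℚ) / (b : ℚ) ^ (2 * g) = Q.eval ((a : ℚ) / (b : ℚ)))
    (j : ℕ) : ∃ z : ℤ, (g.factorial : ℚ) * Q.coeff j = z := by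
  rcases Nat.lt_or_ge g j with hj | hj
  · refine ⟨0, ?_⟩
    rw [coeff_eq_zero_of_natDegree_lt (lt_of_le_of_lt hQ hj)]
    simp
  · have hvu : 0 < v - u := sub_pos.mpr huv
    obtain ⟨b, hb⟩ : ∃ b : ℕ, b = ⌈((g : ℚ) + 2) / (v - u)⌉₊ + 1 := ⟨_, rfl⟩
    have h1 : ((g : ℚ) + 2) / (v - u) < b := by
      rw [hb]; push_cast
      have := Nat.le_ceil (((g : ℚ) + 2) / (v - u))
      linarith
    have h2 : (g + 2 : ℚ) < (v - u) * b := by
      rw [div_lt_iff₀ hvu] at h1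
      linarith
    have h3 : (g + 2 : ℚ) < (v - u) * ((b + 1 : ℕ) : ℚ) := by
      push_cast
      nlinarith
    exact int_of_two_pow _ b (2 * g - j) (key g u v Q hQ H hpoly j hj b h2)
      (key g u v Q hQ H hpoly j hj (b + 1) h3)

end Groth.Agent.Lead.RankInt
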