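import Mathlib

set_option autoImplicit false
set_option linter.style.haveILetI false
universe u
open CategoryTheory Limits AlgebraicGeometry IsLocalRing

namespace Groth.Agent.Lead.RatSec

/-- two maximal points specializing to a point with domain stalk coincide -/
theorem eq_of_isDomain_stalk {Y : Scheme.{u}} (y : Y) [IsDomain (Y.presheaf.stalk y)]
    (η₁ η₂ : Y) (h₁ : η₁ ⤳ y) (h₂ : η₂ ⤳ y)
    (m₁ : ∀ θ : Y, θ ⤳ η₁ → θ = η₁) (m₂ : ∀ θ : Y, θ ⤳ η₂ → θ = η₂) : η₁ = η₂ := by
  let q₀ : Spec (Y.presheaf.stalk y) := ⟨⊥, Ideal.isPrime_bot⟩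
  have key : ∀ η : Y, η ⤳ y → (∀ θ, θ ⤳ η → θ = η) → (Y.fromSpecStalk y) q₀ = η := by
    intro η h m
    have : η ∈ Set.range (Y.fromSpecStalk y) := by rw [Scheme.range_fromSpecStalk]; exact h
    obtain ⟨q, rfl⟩ := this
    apply m
    apply Specializes.map _ (Y.fromSpecStalk y).continuous
    exact (PrimeSpectrum.le_iff_specializes q₀ q).mp bot_le
  exact (key η₁ h₁ m₁).symm.trans (key η₂ h₂ m₂)

/-- the generic point of an irreducible component is a maximal point -/
theorem maximal_of_isGenericPoint {Y : Type*} [TopologicalSpace Y] [T0Space Y] {Z : Set Y}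
    (hZ : Z ∈ irreducibleComponents Y) {η : Y} (hη : IsGenericPoint η Z) (θ : Y) (h : θ ⤳ η) :
    θ = η := by
  have h1 : Z ⊆ closure {θ} := by
    rw [← hη.def]
    exact closure_minimal (Set.singleton_subset_iff.mpr (specializes_iff_mem_closure.mp h))
      isClosed_closure
  have h2 : closure ({θ} : Set Y) ⊆ Z :=
    hZ.2 isIrreducible_singleton.closure h1
  have h3 : IsGenericPoint θ Z := Set.Subset.antisymm h2 h1
  exact h3.eq hη

/-- **Lemma W**: a point with domain stalk on a scheme with locally finitely many irreducible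
components has an irreducible open neighbourhood. -/
theorem exists_irreducible_open_nhd {Y : Scheme.{u}}
    (hcomp : LocallyFinite (fun Z : ↥(irreducibleComponents ↥Y) => (Z : Set ↥Y)))
    (y : Y) [IsDomain (Y.presheaf.stalk y)] :
    ∃ W : Y.Opens, y ∈ W ∧ IsIrreducible (W : Set Y) := by
  classical
  obtain ⟨t, ht, hfin⟩ := hcomp y
  -- uniqueness of the component through y
  have huniq : ∀ Z ∈ irreducibleComponents ↥Y, y ∈ Z → Z = irreducibleComponent y := by
    intro Z hZ hyZ
    have hZ₀ := irreducibleComponent_mem_irreducibleComponents y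
    let η₁ := genericPoints.ofComponent (⟨Z, hZ⟩ : irreducibleComponents ↥Y)
    let η₂ := genericPoints.ofComponent (⟨_, hZ₀⟩ : irreducibleComponents ↥Y)
    have g₁ : IsGenericPoint (η₁ : Y) Z := genericPoints.isGenericPoint_ofComponent ⟨Z, hZ⟩
    have g₂ : IsGenericPoint (η₂ : Y) (irreducibleComponent y) :=
      genericPoints.isGenericPoint_ofComponent ⟨_, hZ₀⟩
    have e : (η₁ : Y) = η₂ := eq_of_isDomain_stalk y η₁ η₂
      (specializes_iff_mem_closure.mpr (by rw [g₁.def]; exact hyZ))
      (specializes_iff_mem_closure.mpr (by rw [g₂.def]; exact mem_irreducibleComponent))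
      (maximal_of_isGenericPoint hZ g₁) (maximal_of_isGenericPoint hZ₀ g₂)
    rw [← g₁.def, ← g₂.def, e]
  let C : Set Y := ⋃ Z ∈ {Z : ↥(irreducibleComponents ↥Y) | ((Z : Set Y) ∩ t).Nonempty ∧ y ∉ (Z : Set Y)},
    (Z : Set Y)
  have hC : IsClosed C := by
    apply Set.Finite.isClosed_biUnion (hfin.subset (fun Z hZ => hZ.1))
    intro Z _
    exact isClosed_of_mem_irreducibleComponents _ Z.2
  have hyC : y ∉ C := by
    simp only [C, Set.mem_iUnion, not_exists]
    rintro Z ⟨-, hZ⟩ hy
    exact hZ hy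
  refine ⟨⟨interior t ∩ Cᶜ, isOpen_interior.inter hC.isOpen_compl⟩,
    ⟨mem_interior_iff_mem_nhds.mpr ht, hyC⟩, ⟨⟨y, mem_interior_iff_mem_nhds.mpr ht, hyC⟩, ?_⟩⟩
  have hsub : interior t ∩ Cᶜ ⊆ irreducibleComponent y := by
    rintro a ⟨hat, haC⟩
    have hZa := irreducibleComponent_mem_irreducibleComponents a
    have hyZa : y ∈ irreducibleComponent a := by
      by_contra hcon
      apply haC
      simp only [C, Set.mem_iUnion]
      exact ⟨⟨_, hZa⟩, ⟨⟨a, mem_irreducibleComponent, interior_subset hat⟩, hcon⟩,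
        mem_irreducibleComponent⟩
    rw [← huniq _ hZa hyZa]
    exact mem_irreducibleComponent
  exact (isIrreducible_irreducibleComponent (x := y)).isPreirreducible.open_subset
    (isOpen_interior.inter hC.isOpen_compl) hsub

end Groth.Agent.Lead.RatSec
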