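import Mathlib
import Groth.Agent.Helper5.RedDesc

set_option autoImplicit false
set_option linter.style.haveILetI false
universe u
open CategoryTheory Limits AlgebraicGeometry IsLocalRing

namespace Groth.Agent.Lead.RatSec

/-- a section of a l.f.t. unramified morphism over an open is an open immersion -/
theorem isOpenImmersion_section {X Y : Scheme.{u}} (f : X ⟶ Y) [LocallyOfFiniteType f]
    [FormallyUnramified f] (U : Y.Opens) (u : (U : Scheme.{u}) ⟶ X) (hu : u ≫ f = U.ι) :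
    IsOpenImmersion u := by
  haveI : Etale (u ≫ f) := by rw [hu]; infer_instance
  haveI : Etale u := Etale.of_comp u f
  haveI : Mono (u ≫ f) := by rw [hu]; infer_instance
  haveI : Mono u := mono_of_mono u f
  exact IsOpenImmersion.of_flat_of_mono u

/-- **Lemma II**: an irreducible open `N` of `X`, étale over the reduced `Y`, meeting the image of a
section `u` over `U`, maps isomorphically onto an open `V` of `Y`, and the inverse is a section
agreeing with `u` on `U ⊓ V`. -/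
theorem exists_section_of_irreducible_etale {X Y : Scheme.{u}} [IsReduced Y] (f : X ⟶ Y)
    [IsSeparated f] [LocallyOfFiniteType f] [FormallyUnramified f]
    (U : Y.Opens) (u : (U : Scheme.{u}) ⟶ X) (hu : u ≫ f = U.ι)
    (N : X.Opens) (hN : IsIrreducible (N : Set X)) (hNet : Etale (N.ι ≫ f))
    (hmeet : ((N : Set X) ∩ Set.range u).Nonempty) (z : X) (hz : z ∈ N) :
    ∃ (V : Y.Opens) (v : (V : Scheme.{u}) ⟶ X), f z ∈ V ∧ v ≫ f = V.ι ∧
      Y.homOfLE (inf_le_left : U ⊓ V ≤ U) ≫ u = Y.homOfLE (inf_le_right : U ⊓ V ≤ V) ≫ v := by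
  haveI hui : IsOpenImmersion u := isOpenImmersion_section f U u hu
  obtain ⟨g, hg⟩ : ∃ g : (N : Scheme.{u}) ⟶ Y, g = N.ι ≫ f := ⟨_, rfl⟩
  haveI : Etale g := hg ▸ hNet
  haveI : IsSeparated g := by rw [hg]; infer_instance
  haveI : IrreducibleSpace ↥(N : Scheme.{u}) := Subtype.irreducibleSpace hN
  haveI : IsReduced (N : Scheme.{u}) := Groth.Agent.Helper5.RedDesc.isReduced_of_smooth g
  haveI : IsReduced (pullback g g) :=
    Groth.Agent.Helper5.RedDesc.isReduced_of_smooth (pullback.fst g g ≫ g)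
  obtain ⟨ξ, hξN, η', hη'⟩ := hmeet
  let O' : (N : Scheme.{u}).Opens := N.ι ⁻¹ᵁ u.opensRange
  have hO'ne : (O' : Set ↥(N : Scheme.{u})).Nonempty := ⟨⟨ξ, hξN⟩, ⟨η', hη'⟩⟩
  have hO'dense : Dense (O' : Set ↥(N : Scheme.{u})) := O'.2.dense hO'ne
  let P' : (pullback g g).Opens := pullback.fst g g ⁻¹ᵁ O' ⊓ pullback.snd g g ⁻¹ᵁ O'
  have hP'dense : Dense (P' : Set ↥(pullback g g)) := by
    have h1 : Dense ((pullback.fst g g) ⁻¹' (O' : Set ↥(N : Scheme.{u}))) :=
      hO'dense.preimage (pullback.fst g g).isOpenMap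
    have h2 : Dense ((pullback.snd g g) ⁻¹' (O' : Set ↥(N : Scheme.{u}))) :=
      hO'dense.preimage (pullback.snd g g).isOpenMap
    exact h1.inter_of_isOpen_left h2 (O'.2.preimage (pullback.fst g g).continuous)
  haveI : IsDominant P'.ι := ⟨by rw [DenseRange, Scheme.Opens.range_ι]; exact hP'dense⟩
  -- key equality on the dense open
  have hkey : P'.ι ≫ pullback.fst g g ≫ N.ι = P'.ι ≫ pullback.snd g g ≫ N.ι := by
    have r1 : Set.range (P'.ι ≫ pullback.fst g g ≫ N.ι) ⊆ Set.range u := by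
      rintro _ ⟨t, rfl⟩
      exact t.2.1
    have r2 : Set.range (P'.ι ≫ pullback.snd g g ≫ N.ι) ⊆ Set.range u := by
      rintro _ ⟨t, rfl⟩
      exact t.2.2
    have d1 := IsOpenImmersion.lift_fac u _ r1
    have d2 := IsOpenImmersion.lift_fac u _ r2
    have hd : IsOpenImmersion.lift u _ r1 = IsOpenImmersion.lift u _ r2 := by
      apply (cancel_mono U.ι).mp
      have m1 : (P'.ι ≫ pullback.fst g g ≫ N.ι) ≫ f = (P'.ι ≫ pullback.snd g g ≫ N.ι) ≫ f := by
        simp only [Category.assoc]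
        rw [← hg, pullback.condition]
      calc IsOpenImmersion.lift u _ r1 ≫ U.ι = (IsOpenImmersion.lift u _ r1 ≫ u) ≫ f := by
            rw [Category.assoc, hu]
        _ = (P'.ι ≫ pullback.fst g g ≫ N.ι) ≫ f := congrArg (· ≫ f) d1
        _ = (P'.ι ≫ pullback.snd g g ≫ N.ι) ≫ f := m1
        _ = (IsOpenImmersion.lift u _ r2 ≫ u) ≫ f := (congrArg (· ≫ f) d2).symm
        _ = IsOpenImmersion.lift u _ r2 ≫ U.ι := by rw [Category.assoc, hu]
    exact d1.symm.trans ((congrArg (· ≫ u) hd).trans d2)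
  have hpp : pullback.fst g g = pullback.snd g g := by
    apply ext_of_isDominant_of_isSeparated g pullback.condition P'.ι
    rw [← cancel_mono N.ι]
    simpa only [Category.assoc] using hkey
  haveI : Mono g := ⟨fun a b hab => by
    have h1 := pullback.lift_fst a b hab
    have h2 := pullback.lift_snd a b hab
    rw [← h1, hpp, h2]⟩
  haveI : IsOpenImmersion g := IsOpenImmersion.of_flat_of_mono g
  let V : Y.Opens := g.opensRange
  let v : (V : Scheme.{u}) ⟶ X := g.isoOpensRange.inv ≫ N.ι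
  have hv : v ≫ f = V.ι := by
    simp only [v, Category.assoc]
    rw [← hg]
    exact g.isoOpensRange_inv_comp
  have hzV : f z ∈ V := ⟨⟨z, hz⟩, by rw [hg]; rfl⟩
  refine ⟨V, v, hzV, hv, ?_⟩
  -- agreement
  obtain ⟨a, ha⟩ : ∃ a, a = Y.homOfLE (inf_le_left : U ⊓ V ≤ U) ≫ u := ⟨_, rfl⟩
  obtain ⟨b, hb⟩ : ∃ b, b = Y.homOfLE (inf_le_right : U ⊓ V ≤ V) ≫ v := ⟨_, rfl⟩
  rw [← ha, ← hb]
  have haf : a ≫ f = (U ⊓ V).ι := by rw [ha, Category.assoc, hu, Scheme.homOfLE_ι]
  have hbf : b ≫ f = (U ⊓ V).ι := by rw [hb, Category.assoc, hv, Scheme.homOfLE_ι]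
  let T : ((U ⊓ V : Y.Opens) : Scheme.{u}).Opens := a ⁻¹ᵁ N
  -- the preirreducibility of U ⊓ V
  have hpre : IsPreirreducible ((U ⊓ V : Y.Opens) : Set Y) := by
    have h1 : IsPreirreducible (Set.range g) := by
      rw [← Set.image_univ]
      exact (PreirreducibleSpace.isPreirreducible_univ).image g g.continuous.continuousOn
    exact h1.open_subset (U ⊓ V).2 (fun t ht => ht.2)
  haveI : PreirreducibleSpace ↥((U ⊓ V : Y.Opens) : Scheme.{u}) := Subtype.preirreducibleSpace hpre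
  have hfξ : f ξ = η'.1 := by
    rw [← hη', ← Scheme.Hom.comp_apply, hu]; rfl
  have hTne : (T : Set ↥((U ⊓ V : Y.Opens) : Scheme.{u})).Nonempty := by
    have hmem : η'.1 ∈ U ⊓ V := ⟨η'.2, ⟨⟨ξ, hξN⟩, by rw [hg]; exact hfξ⟩⟩
    refine ⟨⟨η'.1, hmem⟩, ?_⟩
    show a ⟨η'.1, hmem⟩ ∈ N
    have : a ⟨η'.1, hmem⟩ = ξ := by
      have e0 : (Y.homOfLE (inf_le_left : U ⊓ V ≤ U)) ⟨η'.1, hmem⟩ = η' :=
        Scheme.homOfLE_apply' _ _ _
      rw [ha, Scheme.Hom.comp_apply, e0, hη']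
    rw [this]; exact hξN
  haveI : IsDominant T.ι := ⟨by rw [DenseRange, Scheme.Opens.range_ι]; exact T.2.dense hTne⟩
  apply ext_of_isDominant_of_isSeparated f (haf.trans hbf.symm) T.ι
  have rT : Set.range (T.ι ≫ a) ⊆ Set.range N.ι := by
    rintro _ ⟨t, rfl⟩
    rw [Scheme.Opens.range_ι]
    exact t.2
  have e1 : IsOpenImmersion.lift N.ι (T.ι ≫ a) rT =
      T.ι ≫ Y.homOfLE (inf_le_right : U ⊓ V ≤ V) ≫ g.isoOpensRange.inv := by
    rw [← cancel_mono g]
    simp only [Category.assoc]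
    rw [g.isoOpensRange_inv_comp, Scheme.homOfLE_ι]
    conv_lhs => rw [hg, ← Category.assoc, IsOpenImmersion.lift_fac, Category.assoc, haf]
  calc T.ι ≫ a = IsOpenImmersion.lift N.ι (T.ι ≫ a) rT ≫ N.ι := (IsOpenImmersion.lift_fac _ _ rT).symm
    _ = T.ι ≫ b := by rw [e1, hb]; simp only [Category.assoc, v]

end Groth.Agent.Lead.RatSec
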