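import Mathlib
import Groth.Agent.Helper5.UnrGu5
import Groth.Agent.Helper5.UnrGu7
import Groth.Agent.Lead.RatSecA
import Groth.Agent.Lead.RatSecB

set_option autoImplicit false
set_option linter.style.haveILetI false
universe u
open CategoryTheory Limits AlgebraicGeometry IsLocalRing

namespace Groth.Agent.Lead.RatSec

open Groth.Agent.Helper5.UnrGu Groth.Agent.Helper5.GuBir

/-- **Lemma III**: an irreducible open neighbourhood of `z`, étale over `Y`, meeting the section. -/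
theorem exists_irreducible_etale_nhd {X Y : Scheme.{u}} [IsReduced Y]
    (f : X ⟶ Y) [LocallyOfFiniteType f] [FormallyUnramified f]
    (U : Y.Opens) (hU : Dense (U : Set Y)) (u : (U : Scheme.{u}) ⟶ X) (hu : u ≫ f = U.ι)
    (W : Y.Opens) (hW : IsIrreducible (W : Set Y))
    (z : X) (hzW : f z ∈ W) (hgu : CAlg2.IsGeomUnibranch (Y.presheaf.stalk (f z)))
    (hz : z ∈ closure (Set.range u)) :
    ∃ N : X.Opens, z ∈ N ∧ IsIrreducible (N : Set X) ∧ Etale (N.ι ≫ f) ∧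
      ((N : Set X) ∩ Set.range u).Nonempty := by
  haveI : IrreducibleSpace ↥(W : Scheme.{u}) := Subtype.irreducibleSpace hW
  haveI : IsIntegral (W : Scheme.{u}) := isIntegral_of_irreducibleSpace_of_isReduced _
  obtain ⟨η, hη⟩ : ∃ η : ↥(W : Scheme.{u}), η = genericPoint ↥(W : Scheme.{u}) := ⟨_, rfl⟩
  have hηspec : ∀ a : ↥(W : Scheme.{u}), η ⤳ a := fun a => by
    rw [hη]; exact genericPoint_specializes a
  -- the generic point lies in U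
  have hηU : η.1 ∈ U := by
    obtain ⟨a, haW, haU⟩ := hU.inter_open_nonempty W W.2 ⟨f z, hzW⟩
    have h1 : η ⤳ (⟨a, haW⟩ : ↥(W : Scheme.{u})) := hηspec _
    have h2 : η.1 ⤳ a := h1.map continuous_subtype_val
    exact h2.mem_open U.2 haU
  let ηU : ↥(U : Scheme.{u}) := ⟨η.1, hηU⟩
  obtain ⟨ξ, hξ⟩ : ∃ ξ, ξ = u ηU := ⟨_, rfl⟩
  have hfu : ∀ a : ↥(U : Scheme.{u}), f (u a) = a.1 := fun a => by
    rw [← Scheme.Hom.comp_apply, hu]; rfl
  have hfξ : f ξ = η.1 := by rw [hξ, hfu]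
  have hξW : ξ ∈ f ⁻¹ᵁ W := by show f ξ ∈ W; rw [hfξ]; exact η.2
  -- ξ specializes to z
  have hξz : ξ ⤳ z := by
    rw [specializes_iff_mem_closure]
    have h1 : z ∈ closure ((f ⁻¹ᵁ W : Set X) ∩ Set.range u) :=
      (f ⁻¹ᵁ W).2.inter_closure ⟨hzW, hz⟩
    refine closure_minimal ?_ isClosed_closure h1
    rintro _ ⟨haW, a, rfl⟩
    have haW' : a.1 ∈ W := by
      have h0 : f (u a) ∈ W := haW
      rwa [hfu] at h0
    have h2 : η ⤳ (⟨a.1, haW'⟩ : ↥(W : Scheme.{u})) := hηspec _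
    have h3 : η.1 ⤳ a.1 := h2.map continuous_subtype_val
    have h4 : ηU ⤳ a := (subtype_specializes_iff ηU a).mpr h3
    have h5 : u ηU ⤳ u a := h4.map u.continuous
    rw [hξ]
    exact specializes_iff_mem_closure.mp h5
  -- pass to the restriction over W
  obtain ⟨f', hf'⟩ : ∃ f' : ((f ⁻¹ᵁ W : X.Opens) : Scheme.{u}) ⟶ (W : Scheme.{u}), f' = f ∣_ W :=
    ⟨_, rfl⟩
  have hf'ι : f' ≫ W.ι = (f ⁻¹ᵁ W).ι ≫ f := by rw [hf']; exact morphismRestrict_ι f W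
  haveI : LocallyOfFiniteType f' := by rw [hf']; exact IsZariskiLocalAtTarget.restrict ‹_› _
  haveI : FormallyUnramified f' := by rw [hf']; exact IsZariskiLocalAtTarget.restrict ‹_› _
  have hf'pt : ∀ a : ↥((f ⁻¹ᵁ W : X.Opens) : Scheme.{u}), (f' a).1 = f a.1 := fun a => by
    have := congrArg (fun φ : ((f ⁻¹ᵁ W : X.Opens) : Scheme.{u}) ⟶ Y => φ a) hf'ι
    simpa [Scheme.Hom.comp_apply] using this
  let z' : ↥((f ⁻¹ᵁ W : X.Opens) : Scheme.{u}) := ⟨z, hzW⟩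
  let ξ' : ↥((f ⁻¹ᵁ W : X.Opens) : Scheme.{u}) := ⟨ξ, hξW⟩
  have hξz' : ξ' ⤳ z' := (subtype_specializes_iff ξ' z').mpr hξz
  have hfξ' : f' ξ' = genericPoint ↥(W : Scheme.{u}) := by
    rw [← hη]; exact Subtype.ext ((hf'pt ξ').trans hfξ)
  have hgu' : CAlg2.IsGeomUnibranch ((W : Scheme.{u}).presheaf.stalk (f' z')) := by
    have e1 : W.ι (f' z') = f z := hf'pt z'
    have h1 : CAlg2.IsGeomUnibranch (Y.presheaf.stalk (W.ι (f' z'))) := (gu_stalk_congr e1).mpr hgu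
    exact gu_of_ringEquiv (asIso (W.ι.stalkMap (f' z'))).commRingCatIsoToRingEquiv h1
  obtain ⟨U₁, hzU₁, hU₁⟩ := s1451 f' z' hgu' ⟨ξ', hξz', hfξ'⟩
    ⟨⊤, trivial, MorphismProperty.comp_mem _ _ _
      (inferInstance : FormallyUnramified (⊤ : ((f ⁻¹ᵁ W : X.Opens) : Scheme.{u}).Opens).ι)
      inferInstance⟩
  obtain ⟨N₁, hzN₁, hN₁U₁, hN₁cl⟩ :=
    exists_nhd_subset_closure f' z' ξ' hgu' hξz' hfξ' U₁ hzU₁ hU₁
  haveI hN₁et : Etale (N₁.ι ≫ f') := by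
    rw [← Scheme.homOfLE_ι _ hN₁U₁, Category.assoc]
    infer_instance
  have hξN₁ : ξ' ∈ N₁ := hξz'.mem_open N₁.2 hzN₁
  refine ⟨(f ⁻¹ᵁ W).ι ''ᵁ N₁, ⟨z', hzN₁, rfl⟩, ?_, ?_, ⟨ξ, ⟨ξ', hξN₁, rfl⟩, ηU, hξ.symm⟩⟩
  · refine ⟨⟨z, z', hzN₁, rfl⟩, ?_⟩
    refine (isIrreducible_singleton (x := ξ)).closure.isPreirreducible.open_subset
      ((f ⁻¹ᵁ W).ι ''ᵁ N₁).2 ?_
    rintro _ ⟨a', ha', rfl⟩
    have h1 : ξ' ⤳ a' := specializes_iff_mem_closure.mpr (hN₁cl ha')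
    have h2 : ξ ⤳ (f ⁻¹ᵁ W).ι a' := h1.map (f ⁻¹ᵁ W).ι.continuous
    exact specializes_iff_mem_closure.mp h2
  · have e : ((f ⁻¹ᵁ W).ι ''ᵁ N₁).ι ≫ f =
        ((f ⁻¹ᵁ W).ι.isoImage N₁).inv ≫ (N₁.ι ≫ f') ≫ W.ι := by
      rw [Category.assoc, hf'ι, ← Scheme.Hom.isoImage_inv_ι]
      simp only [Category.assoc]
    rw [e]
    infer_instance

end Groth.Agent.Lead.RatSec
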