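import Mathlib
import Groth.Agent.Lead.RatSecC

set_option autoImplicit false
set_option linter.style.haveILetI false
universe u
open CategoryTheory Limits AlgebraicGeometry IsLocalRing

namespace Groth.Agent.Lead.RatSec

open Groth.Agent.Helper5.UnrGu Groth.Agent.Helper5.GuBir

theorem main {X Y : Scheme.{u}} [IsReduced Y]
    (hcomp : LocallyFinite (fun Z : ↥(irreducibleComponents ↥Y) => (Z : Set ↥Y)))
    (f : X ⟶ Y) [IsSeparated f] [LocallyOfFiniteType f] [FormallyUnramified f]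
    (U : Y.Opens) (hU : Dense (U : Set ↥Y)) (u : (U : Scheme.{u}) ⟶ X) (hu : u ≫ f = U.ι)
    (y : Y) (hy : CAlg2.IsGeomUnibranch (Y.presheaf.stalk y))
    (hZ : (closure (Set.range u) ∩ f ⁻¹' {y}).Nonempty) :
    ∃ (V : Y.Opens) (v : (V : Scheme.{u}) ⟶ X), y ∈ V ∧ v ≫ f = V.ι ∧
      Y.homOfLE (inf_le_left : U ⊓ V ≤ U) ≫ u = Y.homOfLE (inf_le_right : U ⊓ V ≤ V) ≫ v := by
  obtain ⟨z, hzcl, hzy⟩ := hZ
  have hzy' : f z = y := hzy
  subst hzy'
  haveI : IsDomain (Y.presheaf.stalk (f z)) := isDomain_of_gu_of_isReduced _ hy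
  obtain ⟨W, hyW, hWirr⟩ := exists_irreducible_open_nhd hcomp (f z)
  obtain ⟨N, hzN, hNirr, hNet, hmeet⟩ :=
    exists_irreducible_etale_nhd f U hU u hu W hWirr z hyW hy hzcl
  exact exists_section_of_irreducible_etale f U u hu N hNirr hNet hmeet z hzN

/-- S5996 -/
theorem main_closed {X Y : Scheme.{u}} [IsReduced Y]
    (hcomp : LocallyFinite (fun Z : ↥(irreducibleComponents ↥Y) => (Z : Set ↥Y)))
    (f : X ⟶ Y) [IsSeparated f] [LocallyOfFiniteType f] [FormallyUnramified f]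
    (U : Y.Opens) (hU : Dense (U : Set ↥Y)) (u : (U : Scheme.{u}) ⟶ X) (hu : u ≫ f = U.ι)
    (hcl : ∀ T : Set ↥X, IsClosed T → IsIrreducible T → IsClosed (f '' T))
    (y : Y) (hy : CAlg2.IsGeomUnibranch (Y.presheaf.stalk y)) :
    ∃ (V : Y.Opens) (v : (V : Scheme.{u}) ⟶ X), y ∈ V ∧ v ≫ f = V.ι ∧
      Y.homOfLE (inf_le_left : U ⊓ V ≤ U) ≫ u = Y.homOfLE (inf_le_right : U ⊓ V ≤ V) ≫ v := by
  haveI : IsDomain (Y.presheaf.stalk y) := isDomain_of_gu_of_isReduced _ hy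
  obtain ⟨W, hyW, hWirr⟩ := exists_irreducible_open_nhd hcomp y
  haveI : IrreducibleSpace ↥(W : Scheme.{u}) := Subtype.irreducibleSpace hWirr
  obtain ⟨η, hη⟩ : ∃ η : ↥(W : Scheme.{u}), η = genericPoint ↥(W : Scheme.{u}) := ⟨_, rfl⟩
  have hηspec : ∀ a : ↥(W : Scheme.{u}), η ⤳ a := fun a => by
    rw [hη]; exact genericPoint_specializes a
  have hηU : η.1 ∈ U := by
    obtain ⟨a, haW, haU⟩ := hU.inter_open_nonempty W W.2 ⟨y, hyW⟩
    have h1 : η ⤳ (⟨a, haW⟩ : ↥(W : Scheme.{u})) := hηspec _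
    have h2 : η.1 ⤳ a := h1.map continuous_subtype_val
    exact h2.mem_open U.2 haU
  let ηU : ↥(U : Scheme.{u}) := ⟨η.1, hηU⟩
  have hfu : ∀ a : ↥(U : Scheme.{u}), f (u a) = a.1 := fun a => by
    rw [← Scheme.Hom.comp_apply, hu]; rfl
  have hηy : η.1 ⤳ y := (hηspec ⟨y, hyW⟩).map continuous_subtype_val
  apply main hcomp f U hU u hu y hy
  have hTcl : IsClosed (f '' closure {u ηU}) :=
    hcl _ isClosed_closure isIrreducible_singleton.closure
  have h1 : η.1 ∈ f '' closure {u ηU} := ⟨u ηU, subset_closure rfl, hfu ηU⟩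
  have h2 : y ∈ f '' closure {u ηU} := hηy.mem_closed hTcl h1
  obtain ⟨t, ht, hty⟩ := h2
  exact ⟨t, closure_mono (Set.singleton_subset_iff.mpr (Set.mem_range_self ηU)) ht, hty⟩

/-- S5995 -/
theorem main_clopen {X Y : Scheme.{u}} [IsReduced Y]
    (hcomp : LocallyFinite (fun Z : ↥(irreducibleComponents ↥Y) => (Z : Set ↥Y)))
    (f : X ⟶ Y) [IsSeparated f] [LocallyOfFiniteType f] [FormallyUnramified f]
    (U : Y.Opens) (hU : Dense (U : Set ↥Y)) (u : (U : Scheme.{u}) ⟶ X) (hu : u ≫ f = U.ι)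
    (hY : ∀ y : Y, CAlg2.IsGeomUnibranch (Y.presheaf.stalk y))
    (hmax : ∀ (V : Y.Opens) (v : (V : Scheme.{u}) ⟶ X), v ≫ f = V.ι →
      Y.homOfLE (inf_le_left : U ⊓ V ≤ U) ≫ u = Y.homOfLE (inf_le_right : U ⊓ V ≤ V) ≫ v → V ≤ U) :
    IsOpen (Set.range u) ∧ IsClosed (Set.range u) := by
  haveI hui : IsOpenImmersion u := isOpenImmersion_section f U u hu
  refine ⟨u.isOpenEmbedding.isOpen_range, ?_⟩
  -- the section as a closed immersion into f⁻¹ U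
  have hr : Set.range u ⊆ Set.range (f ⁻¹ᵁ U).ι := by
    rintro _ ⟨a, rfl⟩
    rw [Scheme.Opens.range_ι]
    show f (u a) ∈ U
    rw [← Scheme.Hom.comp_apply, hu]; exact a.2
  obtain ⟨u', hu'⟩ : ∃ u', u' = IsOpenImmersion.lift (f ⁻¹ᵁ U).ι u hr := ⟨_, rfl⟩
  have hu'ι : u' ≫ (f ⁻¹ᵁ U).ι = u := by rw [hu']; exact IsOpenImmersion.lift_fac _ _ _
  have hsec : u' ≫ (f ∣_ U) = 𝟙 _ := by
    rw [← cancel_mono U.ι, Category.assoc, morphismRestrict_ι, ← Category.assoc, hu'ι, hu,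
      Category.id_comp]
  haveI : IsSeparated (f ∣_ U) := IsZariskiLocalAtTarget.restrict ‹_› _
  haveI : IsClosedImmersion (u' ≫ (f ∣_ U)) := by rw [hsec]; infer_instance
  haveI : IsClosedImmersion u' := IsClosedImmersion.of_comp u' (f ∣_ U)
  have hclr : IsClosed (Set.range u') := u'.isClosedEmbedding.isClosed_range
  obtain ⟨C, hC, hCeq⟩ := isClosed_induced_iff.mp hclr
  have hsubC : Set.range u ⊆ C := by
    rintro _ ⟨a, rfl⟩
    have h1 : u' a ∈ Subtype.val ⁻¹' C := (Set.ext_iff.mp hCeq (u' a)).mpr ⟨a, rfl⟩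
    have h2 : (u' a).1 = u a := by
      rw [← hu'ι, Scheme.Hom.comp_apply]; rfl
    rw [← h2]; exact h1
  apply isClosed_of_closure_subset
  intro z hz
  obtain ⟨V, v, hyV, hv, hagree⟩ := main hcomp f U hU u hu (f z) (hY _) ⟨z, hz, rfl⟩
  have hVU : V ≤ U := hmax V v hv hagree
  have hzU : z ∈ f ⁻¹ᵁ U := hVU hyV
  have hzC : z ∈ C := closure_minimal hsubC hC hz
  have h1 : (⟨z, hzU⟩ : ↥((f ⁻¹ᵁ U : X.Opens) : Scheme.{u})) ∈ Set.range u' :=
    (Set.ext_iff.mp hCeq _).mp hzC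
  obtain ⟨a, ha⟩ := h1
  refine ⟨a, ?_⟩
  rw [← hu'ι, Scheme.Hom.comp_apply, ha]; rfl

end Groth.Agent.Lead.RatSec
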