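import Mathlib
import Groth.Agent.Lead.FD15

/-!
# RedAtA: Noetherian reduced models of flat finitely presented algebras carrying a given element
-/

set_option autoImplicit false
set_option linter.style.haveILetI false
set_option linter.deprecated false
universe u
open TensorProduct CategoryTheory

namespace Groth.Agent.Lead.RedAtA

/-- the comparison map of a model -/
noncomputable def betaMap {R₀ A B : Type u} (C Mod : Type u) [CommRing R₀] [CommRing A] [CommRing B]
    [CommRing C] [CommRing Mod] [Algebra A B] [Algebra R₀ A] [Algebra R₀ C] [Algebra C A]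
    [IsScalarTower R₀ C A] [Algebra R₀ Mod] (e : A ⊗[R₀] Mod ≃ₐ[A] B) : C ⊗[R₀] Mod →+* B :=
  (((Algebra.TensorProduct.cancelBaseChange R₀ C A A Mod).trans e).toAlgHom.toRingHom).comp
    (Algebra.TensorProduct.includeRight (R := C) (A := A) (B := C ⊗[R₀] Mod)).toRingHom

theorem betaMap_tmul {R₀ A B : Type u} (C Mod : Type u) [CommRing R₀] [CommRing A] [CommRing B]
    [CommRing C] [CommRing Mod] [Algebra A B] [Algebra R₀ A] [Algebra R₀ C] [Algebra C A]
    [IsScalarTower R₀ C A] [Algebra R₀ Mod] (e : A ⊗[R₀] Mod ≃ₐ[A] B) (c : C) (m : Mod) :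
    betaMap C Mod e (c ⊗ₜ m) = e (algebraMap C A c ⊗ₜ m) := by
  simp [betaMap, Algebra.smul_def]

theorem betaMap_injective {R₀ A B : Type u} (C Mod : Type u) [CommRing R₀] [CommRing A]
    [CommRing B] [CommRing C] [CommRing Mod] [Algebra A B] [Algebra R₀ A] [Algebra R₀ C]
    [Algebra C A] [IsScalarTower R₀ C A] [Algebra R₀ Mod] (e : A ⊗[R₀] Mod ≃ₐ[A] B)
    [Module.Flat C (C ⊗[R₀] Mod)] (hinj : Function.Injective (algebraMap C A)) :
    Function.Injective (betaMap C Mod e) := by
  have h1 : Function.Injective (Algebra.TensorProduct.includeRight (R := C) (A := A)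
      (B := C ⊗[R₀] Mod)) := Algebra.TensorProduct.includeRight_injective hinj
  exact ((Algebra.TensorProduct.cancelBaseChange R₀ C A A Mod).trans e).injective.comp h1

theorem isPushout_betaMap {R₀ A B : Type u} (C Mod : Type u) [CommRing R₀] [CommRing A]
    [CommRing B] [CommRing C] [CommRing Mod] [Algebra A B] [Algebra R₀ A] [Algebra R₀ C]
    [Algebra C A] [IsScalarTower R₀ C A] [Algebra R₀ Mod] (e : A ⊗[R₀] Mod ≃ₐ[A] B) :
    IsPushout (CommRingCat.ofHom (algebraMap C (C ⊗[R₀] Mod)))
        (CommRingCat.ofHom (algebraMap C A)) (CommRingCat.ofHom (betaMap C Mod e))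
        (CommRingCat.ofHom (algebraMap A B)) := by
  let E : A ⊗[C] (C ⊗[R₀] Mod) ≃ₐ[A] B :=
    (Algebra.TensorProduct.cancelBaseChange R₀ C A A Mod).trans e
  refine ((CommRingCat.isPushout_tensorProduct C A (C ⊗[R₀] Mod)).of_iso (Iso.refl _)
    (Iso.refl _) (Iso.refl _) E.toRingEquiv.toCommRingCatIso ?_ ?_ ?_ ?_).flip
  · simp
  · simp
  · ext x
    simp only [Iso.refl_hom, Category.id_comp]
    change E (x ⊗ₜ 1) = algebraMap A B x
    have : (x ⊗ₜ[C] (1 : C ⊗[R₀] Mod)) = algebraMap A _ x := by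
      rw [Algebra.TensorProduct.algebraMap_apply]; rfl
    rw [this, E.commutes]
  · refine CommRingCat.hom_ext (RingHom.ext fun x => ?_)
    simp only [Iso.refl_hom, Category.id_comp]
    rfl

/-- A flat finitely presented algebra `A → B` over a reduced ring, together with an element `b`,
is the base change of a flat finite type algebra `C → D` over a Noetherian reduced subring `C ⊆ A`,
with `D → B` injective and `b` in its image. -/
theorem exists_model {A B : Type u} [CommRing A] [CommRing B] [Algebra A B]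
    [Algebra.FinitePresentation A B] [Module.Flat A B] [IsReduced A] (b : B) :
    ∃ (C D : Type u) (_ : CommRing C) (_ : CommRing D) (φ : C →+* D) (α : C →+* A) (β : D →+* B),
      IsPushout (CommRingCat.ofHom φ) (CommRingCat.ofHom α) (CommRingCat.ofHom β)
        (CommRingCat.ofHom (algebraMap A B)) ∧
      IsNoetherianRing C ∧ IsReduced C ∧ φ.FiniteType ∧ φ.Flat ∧ Function.Injective β ∧
      b ∈ Set.range β := by
  classical
  let P := Algebra.Presentation.ofFinitePresentation A B
  haveI : IsNoetherianRing P.Core := Algebra.FiniteType.isNoetherianRing ℤ P.Core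
  let e : A ⊗[P.Core] P.ModelOfHasCoeffs P.Core ≃ₐ[A] B := P.tensorModelOfHasCoeffsEquiv P.Core
  haveI : Module.Flat A (A ⊗[P.Core] P.ModelOfHasCoeffs P.Core) :=
    Module.Flat.of_linearEquiv e.toLinearEquiv
  obtain ⟨T, hT⟩ := FD7.core_ft' (A₀ := P.Core) (P.ModelOfHasCoeffs P.Core)
    (P.ModelOfHasCoeffs P.Core) A
  obtain ⟨S, hS⟩ := TensorProduct.exists_finset (e.symm b)
  obtain ⟨G, hG⟩ : ∃ G : Finset A, G = T ∪ S.image Prod.fst := ⟨_, rfl⟩
  obtain ⟨C, hC⟩ : ∃ C : Subalgebra P.Core A, C = Algebra.adjoin P.Core (↑G : Set A) := ⟨_, rfl⟩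
  have hGC : (↑G : Set A) ⊆ C := hC ▸ Algebra.subset_adjoin
  haveI : Algebra.FiniteType P.Core C := (Subalgebra.fg_iff_finiteType C).mp ⟨G, hC.symm⟩
  haveI : Module.Flat C (C ⊗[P.Core] P.ModelOfHasCoeffs P.Core) := by
    refine hT C (fun t ht => hGC ?_)
    rw [hG]; exact Finset.mem_coe.mpr (Finset.mem_union_left _ (Finset.mem_coe.mp ht))
  haveI : IsNoetherianRing C := Algebra.FiniteType.isNoetherianRing P.Core C
  have hinj : Function.Injective (algebraMap C A) := Subtype.val_injective
  have hSC : ∀ s ∈ S, s.1 ∈ C := fun s hs => hGC (by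
    rw [hG]; exact Finset.mem_coe.mpr (Finset.mem_union_right _ (Finset.mem_image_of_mem _ hs)))
  refine ⟨C, C ⊗[P.Core] P.ModelOfHasCoeffs P.Core, inferInstance, inferInstance,
    algebraMap _ _, algebraMap C A, betaMap C _ e, isPushout_betaMap C _ e, inferInstance,
    isReduced_of_injective (algebraMap C A) hinj, ?_, ?_, betaMap_injective C _ e hinj, ?_⟩
  · exact RingHom.finiteType_algebraMap.mpr inferInstance
  · exact RingHom.flat_algebraMap_iff.mpr inferInstance
  · refine ⟨S.attach.sum fun s => (⟨s.1.1, hSC s.1 s.2⟩ : C) ⊗ₜ[P.Core] s.1.2, ?_⟩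
    rw [map_sum]
    simp only [betaMap_tmul]
    rw [← map_sum]
    have : (S.attach.sum fun s => (algebraMap C A ⟨s.1.1, hSC s.1 s.2⟩) ⊗ₜ[P.Core] s.1.2) =
        S.sum fun s => s.1 ⊗ₜ[P.Core] s.2 :=
      Finset.sum_attach S (fun s => s.1 ⊗ₜ[P.Core] s.2)
    rw [this, ← hS, AlgEquiv.apply_symm_apply]

end Groth.Agent.Lead.RedAtA
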