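import Mathlib
import Groth.Prelude
import Groth.Agent.Lead.RedAtA
import Groth.Agent.Lead.VanBCA
import Groth.Agent.Helper3.GRO5
import Groth.Agent.Helper5.RedFlat4
import Groth.Agent.Helper4.GeomRedPt

/-!
# RedAtB: reducedness ascends along flat finitely presented morphisms with geometrically
reduced fibre at the point (no Noetherian hypothesis)
-/

set_option autoImplicit false
set_option linter.style.haveILetI false
set_option linter.deprecated false
universe u
open TensorProduct CategoryTheory CategoryTheory.Limits AlgebraicGeometry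

namespace Groth.Agent.Lead.RedAtB

open Groth.Agent.Helper3

/-- a localization is reduced as soon as nilpotent elements of the base die in it -/
theorem isReduced_of_isLocalization {R L : Type*} [CommRing R] [CommRing L] [Algebra R L]
    (M : Submonoid R) [IsLocalization M L]
    (h : ∀ b : R, IsNilpotent b → algebraMap R L b = 0) : IsReduced L := by
  constructor
  intro t ht
  obtain ⟨b, s, rfl⟩ := IsLocalization.exists_mk'_eq M t
  obtain ⟨n, hn⟩ := ht
  rw [← IsLocalization.mk'_pow, IsLocalization.mk'_eq_zero_iff] at hn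
  obtain ⟨m, hm⟩ := hn
  have hnil : IsNilpotent ((m : R) * b) := by
    refine ⟨n + 1, ?_⟩
    have : ((m : R) * b) ^ (n + 1) = ((m : R) ^ n * b) * ((m : R) * b ^ n) := by ring
    rw [this, hm, mul_zero]
  have h0 := h _ hnil
  rw [map_mul] at h0
  have hu : IsUnit (algebraMap R L m) := IsLocalization.map_units L m
  have hb0 : algebraMap R L b = 0 := (hu.mul_right_eq_zero).mp h0
  rw [IsLocalization.mk'_eq_zero_iff]
  exact (IsLocalization.map_eq_zero_iff M L b).mp hb0

/-- the Noetherian reduced case -/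
theorem isReduced_stalk_of_noetherian {X S : Scheme.{u}} [IsAffine X] [IsAffine S]
    [IsLocallyNoetherian S] [IsReduced S]
    (f : X ⟶ S) [LocallyOfFiniteType f] [Flat f] (x : X) (hx : x ∈ GRO.E f) :
    _root_.IsReduced (X.presheaf.stalk x) := by
  let U : X.Opens := ⟨GRO.E f, GRO.isOpen_E_of_noetherian f⟩
  let h : (U : Scheme.{u}) ⟶ S := U.ι ≫ f
  haveI : Flat h := inferInstance
  have hfib : ∀ y : S, IsReduced (h.fiber y) := fun y =>
    VanBCA.isReduced_of_geomReduced (h.fiberToSpecResidueField y) (fun w =>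
      (GRO.mem_E_iff_fiber h y w).mp ((GRO.mem_E_comp_iff U.ι f _).mpr (h.fiberι y w).2))
  have hY : ∀ u : U, _root_.IsReduced (S.presheaf.stalk (h u)) := fun u => inferInstance
  have h1 := Groth.Agent.Helper5.RedFlat.isReduced_stalk h hY hfib ⟨x, hx⟩
  exact Groth.Agent.Helper5.StalkRed.isReduced_stalk_of_flat U.ι ⟨x, hx⟩ h1

/-- scheme-level model -/
theorem exists_scheme_model {X S : Scheme.{u}} (f : X ⟶ S) [IsAffine X] [IsAffine S]
    [LocallyOfFinitePresentation f] [Flat f] [IsReduced S] (b : Γ(X, ⊤)) :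
    ∃ (X₁ S₁ : Scheme.{u}) (f₁ : X₁ ⟶ S₁) (g : S ⟶ S₁) (g' : X ⟶ X₁), IsAffine X₁ ∧ IsAffine S₁ ∧
      IsPullback g' f f₁ g ∧ IsLocallyNoetherian S₁ ∧ IsReduced S₁ ∧ LocallyOfFiniteType f₁ ∧
      Flat f₁ ∧ Function.Injective g'.appTop.hom ∧ b ∈ Set.range g'.appTop.hom := by
  have h1 : f.appTop.hom.FinitePresentation :=
    (HasRingHomProperty.iff_of_isAffine (P := @LocallyOfFinitePresentation)).mp inferInstance
  have h2 : f.appTop.hom.Flat :=
    (HasRingHomProperty.iff_of_isAffine (P := @Flat)).mp inferInstance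
  algebraize [f.appTop.hom]
  obtain ⟨C, D, _, _, φ, α, β, hpo, hC, hCr, hφft, hφfl, hβ, b₁, hb₁⟩ :=
    RedAtA.exists_model (A := Γ(S, ⊤)) (B := Γ(X, ⊤)) b
  have hpb := isPullback_SpecMap_of_isPushout _ _ _ _ hpo
  have hg' : (X.isoSpec.hom ≫ Spec.map (CommRingCat.ofHom β)).appTop =
      (Scheme.ΓSpecIso (.of D)).hom ≫ CommRingCat.ofHom β := by
    rw [Scheme.Hom.comp_appTop, Scheme.isoSpec_hom, Scheme.toSpecΓ_appTop,
      Scheme.ΓSpecIso_naturality]
  refine ⟨Spec (.of D), Spec (.of C), Spec.map (CommRingCat.ofHom φ),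
    S.isoSpec.hom ≫ Spec.map (CommRingCat.ofHom α), X.isoSpec.hom ≫ Spec.map (CommRingCat.ofHom β),
    inferInstance, inferInstance, ?_, inferInstance, ?_, ?_, ?_, ?_, ?_⟩
  · refine hpb.of_iso X.isoSpec.symm (Iso.refl _) S.isoSpec.symm (Iso.refl _) ?_ ?_ ?_ ?_
    · simp
    · have : CommRingCat.ofHom (algebraMap Γ(S, ⊤) Γ(X, ⊤)) = f.appTop := rfl
      rw [this]
      exact Scheme.isoSpec_inv_naturality f
    · simp
    · simp
  · exact (affine_isReduced_iff _).mpr hCr
  · exact (HasRingHomProperty.Spec_iff (P := @LocallyOfFiniteType)).mpr hφft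
  · exact (HasRingHomProperty.Spec_iff (P := @Flat)).mpr hφfl
  · rw [hg']
    exact hβ.comp (Scheme.ΓSpecIso (.of D)).commRingCatIsoToRingEquiv.injective
  · rw [hg']
    exact ⟨(Scheme.ΓSpecIso (.of D)).inv b₁, by simp [hb₁]⟩

/-- nilpotent global sections of an affine flat finitely presented scheme over a reduced affine
base die in the stalks at points where the fibre is geometrically reduced -/
theorem germ_eq_zero_of_isNilpotent {X S : Scheme.{u}} (f : X ⟶ S) [IsAffine X] [IsAffine S]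
    [LocallyOfFinitePresentation f] [Flat f] [IsReduced S] (x : X) (hx : x ∈ GRO.E f)
    (b : Γ(X, ⊤)) (hb : IsNilpotent b) : X.presheaf.germ ⊤ x trivial b = 0 := by
  obtain ⟨X₁, S₁, f₁, g, g', _, _, hpb, _, _, _, _, hinj, ⟨b₁, rfl⟩⟩ := exists_scheme_model f b
  have hb₁ : IsNilpotent b₁ := (IsNilpotent.map_iff hinj).mp hb
  have hx₁ : g' x ∈ GRO.E f₁ := (GRO.mem_E_iff_of_isPullback hpb x).mp hx
  haveI := isReduced_stalk_of_noetherian f₁ (g' x) hx₁
  have h0 : X₁.presheaf.germ ⊤ (g' x) trivial b₁ = 0 := (hb₁.map _).eq_zero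
  have h3 := Scheme.Hom.germ_stalkMap_apply g' ⊤ x trivial b₁
  rw [h0, map_zero] at h3
  exact h3.symm

/-- the affine case -/
theorem isReduced_stalk_of_affine {X S : Scheme.{u}} (f : X ⟶ S) [IsAffine X] [IsAffine S]
    [LocallyOfFinitePresentation f] [Flat f] [IsReduced S] (x : X) (hx : x ∈ GRO.E f) :
    _root_.IsReduced (X.presheaf.stalk x) := by
  letI := X.presheaf.algebra_section_stalk (U := ⊤) ⟨x, trivial⟩
  haveI := (isAffineOpen_top X).isLocalization_stalk ⟨x, trivial⟩
  exact isReduced_of_isLocalization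
    ((isAffineOpen_top X).primeIdealOf ⟨x, trivial⟩).asIdeal.primeCompl
    (fun b hb => germ_eq_zero_of_isNilpotent f x hx b hb)

/-- S2567 -/
theorem main {X Y : Scheme.{u}} (f : X ⟶ Y) [Flat f] [LocallyOfFinitePresentation f] (x : X)
    (hy : _root_.IsReduced (Y.presheaf.stalk (f.base x))) (hx : x ∈ GRO.E f) :
    _root_.IsReduced (X.presheaf.stalk x) := by
  haveI := Groth.Agent.Helper5.RedFib.flat_fromSpecStalk Y (f.base x)
  let S : Scheme.{u} := Spec (Y.presheaf.stalk (f.base x))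
  let p : pullback f (Y.fromSpecStalk (f.base x)) ⟶ X := pullback.fst _ _
  let f' : pullback f (Y.fromSpecStalk (f.base x)) ⟶ S := pullback.snd _ _
  haveI : IsReduced S := (affine_isReduced_iff _).mpr hy
  obtain ⟨x', hx'1, -⟩ := Scheme.Pullback.exists_preimage_pullback (f := f)
    (g := Y.fromSpecStalk (f.base x)) x (IsLocalRing.closedPoint _)
    (Scheme.fromSpecStalk_closedPoint).symm
  have hx'E : x' ∈ GRO.E f' :=
    (GRO.mem_E_iff_of_isPullback (IsPullback.of_hasPullback f (Y.fromSpecStalk (f.base x))) x').mpr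
      (by rw [hx'1]; exact hx)
  obtain ⟨W, hW, hxW, -⟩ := exists_isAffineOpen_mem_and_subset
    (X := pullback f (Y.fromSpecStalk (f.base x))) (x := x') (U := ⊤) trivial
  haveI : IsAffine (W : Scheme.{u}) := hW
  have hwE : (⟨x', hxW⟩ : W) ∈ GRO.E (W.ι ≫ f') := (GRO.mem_E_comp_iff W.ι f' _).mpr hx'E
  have h1 := isReduced_stalk_of_affine (W.ι ≫ f') ⟨x', hxW⟩ hwE
  have h2 := Groth.Agent.Helper5.StalkRed.isReduced_stalk_of_flat W.ι ⟨x', hxW⟩ h1
  have h3 := Groth.Agent.Helper5.StalkRed.isReduced_stalk_of_flat p x' h2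
  rw [hx'1] at h3
  exact h3

end Groth.Agent.Lead.RedAtB
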