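import Mathlib
import Groth.Prelude.Def_W4c2filtblowupsingRees

set_option autoImplicit false
universe u

namespace Groth.Agent.Lead.ReesValA

open Polynomial

/-- `2^{-x}` on `ℤ ∪ {∞}`. -/
noncomputable def e : WithTop ℤ → ℝ
  | ⊤ => 0
  | (n : ℤ) => (2:ℝ) ^ (-n)

lemma e_top : e ⊤ = 0 := rfl
lemma e_coe (n : ℤ) : e (n : WithTop ℤ) = (2:ℝ) ^ (-n) := rfl

lemma e_nonneg (x : WithTop ℤ) : 0 ≤ e x := by
  induction x using WithTop.recTopCoe with
  | top => simp [e_top]
  | coe n => rw [e_coe]; positivity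

lemma e_add (x y : WithTop ℤ) : e (x + y) = e x * e y := by
  induction x using WithTop.recTopCoe with
  | top => simp [e_top]
  | coe n =>
    induction y using WithTop.recTopCoe with
    | top => simp [e_top]
    | coe m =>
      rw [← WithTop.coe_add, e_coe, e_coe, e_coe, neg_add, zpow_add₀ (by norm_num : (2:ℝ) ≠ 0)]

lemma e_eq_zero {x : WithTop ℤ} : e x = 0 ↔ x = ⊤ := by
  induction x using WithTop.recTopCoe with
  | top => simp [e_top]
  | coe n =>
    rw [e_coe]
    simp only [WithTop.coe_ne_top, iff_false]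
    positivity

lemma e_anti {x y : WithTop ℤ} (h : x ≤ y) : e y ≤ e x := by
  induction y using WithTop.recTopCoe with
  | top => rw [e_top]; exact e_nonneg x
  | coe m =>
    induction x using WithTop.recTopCoe with
    | top => exact absurd h (by simp)
    | coe n =>
      rw [e_coe, e_coe]
      have h' : n ≤ m := by exact_mod_cast h
      exact zpow_le_zpow_right₀ (by norm_num) (by omega)

variable {K : Type u} [Field K]

/-- The real absolute value `a ↦ (2^{-v a})^q` attached to a `ℤ ∪ {∞}`-valued valuation. -/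
noncomputable def absOf (v : AddValuation K (WithTop ℤ)) (q : ℕ) (hq : 0 < q) : AbsoluteValue K ℝ where
  toFun a := (e (v a)) ^ q
  map_mul' a b := by
    show (e (v (a * b))) ^ q = (e (v a)) ^ q * (e (v b)) ^ q
    rw [AddValuation.map_mul, e_add, mul_pow]
  nonneg' a := pow_nonneg (e_nonneg _) _
  eq_zero' a := by
    show (e (v a)) ^ q = 0 ↔ a = 0
    rw [pow_eq_zero_iff hq.ne', e_eq_zero, AddValuation.top_iff]
  add_le' a b := by
    show (e (v (a + b))) ^ q ≤ (e (v a)) ^ q + (e (v b)) ^ q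
    have h1 : min (v a) (v b) ≤ v (a + b) := AddValuation.map_add v a b
    rcases min_cases (v a) (v b) with ⟨h, -⟩ | ⟨h, -⟩
    · rw [h] at h1
      calc (e (v (a + b))) ^ q ≤ (e (v a)) ^ q := pow_le_pow_left₀ (e_nonneg _) (e_anti h1) q
        _ ≤ _ := le_add_of_nonneg_right (pow_nonneg (e_nonneg _) _)
    · rw [h] at h1
      calc (e (v (a + b))) ^ q ≤ (e (v b)) ^ q := pow_le_pow_left₀ (e_nonneg _) (e_anti h1) q
        _ ≤ _ := le_add_of_nonneg_left (pow_nonneg (e_nonneg _) _)

lemma absOf_apply (v : AddValuation K (WithTop ℤ)) (q : ℕ) (hq : 0 < q) (a : K) :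
    absOf v q hq a = (e (v a)) ^ q := rfl

lemma absOf_nonarch (v : AddValuation K (WithTop ℤ)) (q : ℕ) (hq : 0 < q) :
    IsNonarchimedean (absOf v q hq) := by
  intro a b
  rw [absOf_apply, absOf_apply, absOf_apply]
  have h1 : min (v a) (v b) ≤ v (a + b) := AddValuation.map_add v a b
  rcases min_cases (v a) (v b) with ⟨h, -⟩ | ⟨h, -⟩
  · rw [h] at h1
    exact le_max_of_le_left (pow_le_pow_left₀ (e_nonneg _) (e_anti h1) q)
  · rw [h] at h1
    exact le_max_of_le_right (pow_le_pow_left₀ (e_nonneg _) (e_anti h1) q)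

/-- the numerical translation -/
lemma cond_iff (v : AddValuation K (WithTop ℤ)) (p q : ℕ) (hq : 0 < q) (a : K) (k : ℕ) :
    (((k * p : ℕ) : WithTop ℤ) ≤ (q : WithTop ℤ) * v a) ↔
      absOf v q hq a * ((2:ℝ) ^ p) ^ k ≤ 1 := by
  rw [absOf_apply]
  generalize v a = x
  induction x using WithTop.recTopCoe with
  | top =>
    have hq' : (q : WithTop ℤ) ≠ 0 := by
      exact_mod_cast hq.ne'
    rw [WithTop.mul_top hq', e_top, zero_pow hq.ne', zero_mul]
    simp
  | coe n =>
    rw [e_coe]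
    have h1 : ((q : WithTop ℤ)) * (n : WithTop ℤ) = (((q : ℤ) * n : ℤ) : WithTop ℤ) := by
      push_cast
      rfl
    have h2 : ((k * p : ℕ) : WithTop ℤ) = (((k * p : ℕ) : ℤ) : WithTop ℤ) := by
      rfl
    rw [h1, h2, WithTop.coe_le_coe]
    have h3 : ((2:ℝ) ^ (-n)) ^ q * ((2:ℝ) ^ p) ^ k = (2:ℝ) ^ ((k * p : ℕ) - (q : ℤ) * n : ℤ) := by
      rw [← zpow_natCast ((2:ℝ) ^ (-n)) q, ← zpow_mul, ← pow_mul, ← zpow_natCast (2:ℝ) (p * k),
        ← zpow_add₀ (by norm_num : (2:ℝ) ≠ 0)]
      congr 1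
      push_cast
      ring
    rw [h3]
    constructor
    · intro h
      exact zpow_le_one_of_nonpos₀ (by norm_num) (by omega)
    · intro h
      by_contra hcon
      rw [not_le] at hcon
      have : (1:ℝ) < (2:ℝ) ^ ((k * p : ℕ) - (q : ℤ) * n : ℤ) :=
        one_lt_zpow₀ (by norm_num) (by omega)
      linarith


/-- The Gauss norm as a valuation with values in `ℝ≥0`. -/
noncomputable def gaussVal (v : AbsoluteValue K ℝ) (hna : IsNonarchimedean v) (c : ℝ) (hc : 0 < c) :
    Valuation K[X] NNReal where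
  toFun f := ⟨gaussNorm v c f, gaussNorm_nonneg v f hc.le⟩
  map_zero' := NNReal.eq (gaussNorm_zero v c)
  map_one' := by
    ext
    show gaussNorm v c (1 : K[X]) = 1
    rw [← C_1, gaussNorm_C]
    simp
  map_mul' f g := by
    ext
    show gaussNorm v c (f * g) = gaussNorm v c f * gaussNorm v c g
    exact gaussNorm_mul hna hc f g
  map_add_le_max' f g := by
    show (⟨gaussNorm v c (f + g), _⟩ : NNReal) ≤ max ⟨gaussNorm v c f, _⟩ ⟨gaussNorm v c g, _⟩
    have := isNonarchimedean_gaussNorm v hna hc.le f g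
    rcases le_max_iff.mp this with h | h
    · exact le_max_of_le_left h
    · exact le_max_of_le_right h

lemma gaussVal_le_one_iff (v : AbsoluteValue K ℝ) (hna : IsNonarchimedean v) (c : ℝ) (hc : 0 < c)
    (f : K[X]) : gaussVal v hna c hc f ≤ 1 ↔ ∀ n, v (f.coeff n) * c ^ n ≤ 1 := by
  have h0 : gaussVal v hna c hc f ≤ 1 ↔ gaussNorm v c f ≤ 1 := by
    rw [← NNReal.coe_le_coe, NNReal.coe_one]
    rfl
  rw [h0]
  constructor
  · intro h n
    exact (le_gaussNorm v f hc.le n).trans h
  · intro h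
    obtain ⟨i, hi⟩ := exists_eq_gaussNorm v c f
    rw [hi]
    exact h i

open FiltBl

theorem main (A K : Type u) [CommRing A] [IsDomain A]
    [IsNoetherianRing A] [IsIntegrallyClosed A] [Field K] [Algebra A K] [IsFractionRing A K]
    (ι : Type) [Finite ι] (v : ι → AddValuation K (WithTop ℤ))
    (hv : ∀ (i : ι) (x : A), 0 ≤ v i (algebraMap A K x)) (p q : ι → ℕ) (hp : ∀ i, 0 < p i)
    (hq : ∀ i, 0 < q i) (𝓕 : FiltBl.IdealFiltration A)
    (hF : ∀ (k : ℕ) (x : A), x ∈ 𝓕.F k ↔
      ∀ i, ((k * p i : ℕ) : WithTop ℤ) ≤ (q i : WithTop ℤ) * v i (algebraMap A K x)) :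
    IsIntegrallyClosed 𝓕.rees := by
  -- the Gauss valuations
  set V : ι → Valuation K[X] NNReal := fun i =>
    gaussVal (absOf (v i) (q i) (hq i)) (absOf_nonarch _ _ _) ((2:ℝ) ^ (p i)) (by positivity) with hV
  have hmem : ∀ h : A[X], h ∈ 𝓕.rees ↔ ∀ i, V i (h.map (algebraMap A K)) ≤ 1 := by
    intro h
    constructor
    · intro hh i
      rw [hV, gaussVal_le_one_iff]
      intro n
      rw [coeff_map, ← cond_iff]
      exact (hF n (h.coeff n)).mp (hh n) i
    · intro hh n
      rw [hF]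
      intro i
      have := (gaussVal_le_one_iff _ _ _ _ _).mp (hh i) n
      rw [coeff_map, ← cond_iff] at this
      exact this
  have : FaithfulSMul 𝓕.rees A[X] :=
    (faithfulSMul_iff_algebraMap_injective _ _).mpr Subtype.val_injective
  have : IsIntegrallyClosedIn 𝓕.rees A[X] := by
    rw [isIntegrallyClosedIn_iff]
    refine ⟨Subtype.val_injective, ?_⟩
    intro h hint
    suffices hh : h ∈ 𝓕.rees from ⟨⟨h, hh⟩, rfl⟩
    rw [hmem]
    intro i
    -- ring hom from the Rees algebra into the valuation ring of `V i`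
    let φ : 𝓕.rees →+* (V i).integer :=
      ((mapRingHom (algebraMap A K)).comp (𝓕.rees.val : 𝓕.rees →+* A[X])).codRestrict
        (V i).integer (fun r => (hmem r.1).mp r.2 i)
    have hint' : IsIntegral (V i).integer (mapRingHom (algebraMap A K) h) :=
      IsIntegral.map_of_comp_eq φ (mapRingHom (algebraMap A K)) (RingHom.ext fun _ => rfl) hint
    exact (Valuation.integer.integers (V i)).mem_of_integral hint'
  exact IsIntegrallyClosed.of_isIntegrallyClosed_of_isIntegrallyClosedIn 𝓕.rees A[X]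

end Groth.Agent.Lead.ReesValA
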