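import Mathlib
import Groth.Prelude.Def_RefPow
import Groth.Prelude.Def_Pi1
import Groth.Agent.Lead.Ref1F
import Groth.Agent.Lead.Ref1I
import Groth.Agent.Lead.Ref1J
import Groth.Agent.Lead.Hartogs2
import Groth.Agent.Lead.RatReflB

/-!
# Reflexive powers of a rank one reflexive module: stalk structure of the powers of a section
-/

set_option autoImplicit false
set_option linter.style.haveILetI false
set_option linter.unusedSectionVars false

universe u

open CategoryTheory CategoryTheory.Limits AlgebraicGeometry TopologicalSpace Opposite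

namespace Groth.Agent.Lead.RefPowA

open Groth.Agent.Lead.Ref1I Groth.Agent.Lead.WeakAss

variable {X : Scheme.{u}} [IsIntegral X] [IsLocallyNoetherian X]

theorem isRef1_refPow (F : X.Modules) (hF : RefHull.IsRef1 F) :
    ∀ n : ℕ, RefHull.IsRef1 (RefPow.refPow F n)
  | 0 => Ref1F.isRef1_unit
  | 1 => hF
  | n + 2 => Ref1F.isRef1_refTensor _ F (isRef1_refPow F hF (n + 1)) hF

omit [IsIntegral X] [IsLocallyNoetherian X] in
theorem isGen_one (x : X) : IsGen (Coh.structureModule X) x (germF ⊤ x trivial 1) :=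
  (Hartogs2.unitEquiv x).bijective

variable {F : X.Modules}

omit [IsIntegral X] [IsLocallyNoetherian X] in
theorem sPowGerm_zero (s : Coh.structureModule X ⟶ F) (x : X) :
    RefPow.sPowGerm s 0 x = germF ⊤ x trivial 1 := rfl

omit [IsIntegral X] [IsLocallyNoetherian X] in
theorem sPowGerm_one (s : Coh.structureModule X ⟶ F) (x : X) :
    RefPow.sPowGerm s 1 x = F.presheaf.germ ⊤ x trivial (SecTwist.val s ⊤) :=
  congrArg (fun φ : Coh.structureModule X ⟶ F => F.presheaf.germ ⊤ x trivial (SecTwist.val φ ⊤))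
    (RefPow.sPow_one s)

omit [IsIntegral X] [IsLocallyNoetherian X] in
theorem sPowGerm_succ_succ (s : Coh.structureModule X ⟶ F) (x : X) (n : ℕ) :
    RefPow.sPowGerm s (n + 1 + 1) x =
      Ref1I.pair (RefPow.refPow F (n + 1)) F x (RefPow.sPowGerm s (n + 1) x)
        (F.presheaf.germ ⊤ x trivial (SecTwist.val s ⊤)) := by
  have h2 : SecTwist.val (RefPow.sPow s (n + 1 + 1)) ⊤ =
      (RefPow.toRefTensor (RefPow.refPow F (n + 1)) F).app ⊤
        (SecTwist.tmul (RefPow.refPow F (n + 1)) F ⊤ (SecTwist.val (RefPow.sPow s (n + 1)) ⊤)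
          (SecTwist.val s ⊤)) :=
    RefPow.mulBy_succ_app s n ⊤ (SecTwist.val (RefPow.sPow s (n + 1)) ⊤)
  unfold Ref1I.pair
  rw [Ref1B.stalkTensorEquiv_germ, RefHull.stalkMapₗ_germ]
  exact congrArg ((RefPow.refPow F (n + 1 + 1)).presheaf.germ ⊤ x trivial) h2

/-- the stalk structure of the powers of a section at a point where `F` is free of rank one -/
theorem sPowGerm_structure (F : X.Modules) (hF : RefHull.IsRef1 F)
    (s : Coh.structureModule X ⟶ F) (x : X)
    (e : F.presheaf.stalk x) (he : IsGen F x e) (a : X.presheaf.stalk x)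
    (ha : F.presheaf.germ ⊤ x trivial (SecTwist.val s ⊤) = a • e) :
    ∀ n : ℕ, ∃ en : (RefPow.refPow F n).presheaf.stalk x,
      IsGen (RefPow.refPow F n) x en ∧ RefPow.sPowGerm s n x = a ^ n • en := by
  have hcoh := fun n => (isRef1_refPow F hF n).1
  have key : ∀ n : ℕ, ∃ en : (RefPow.refPow F (n + 1)).presheaf.stalk x,
      IsGen (RefPow.refPow F (n + 1)) x en ∧ RefPow.sPowGerm s (n + 1) x = a ^ (n + 1) • en := by
    intro n
    induction n with
    | zero =>
      refine ⟨e, he, ?_⟩
      show RefPow.sPowGerm s 1 x = a ^ 1 • e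
      rw [pow_one, ← ha]
      exact sPowGerm_one s x
    | succ n ih =>
      obtain ⟨en, hen, hs⟩ := ih
      refine ⟨Ref1I.pair (RefPow.refPow F (n + 1)) F x en e,
        isGen_pair _ F (hcoh (n + 1)) hF.1 x hen he, ?_⟩
      rw [sPowGerm_succ_succ, hs, ha, pair_smul_smul, ← pow_succ]
      rfl
  intro n
  cases n with
  | zero =>
    refine ⟨germF ⊤ x trivial 1, isGen_one x, ?_⟩
    rw [pow_zero, one_smul]
    rfl
  | succ n => exact key n

omit [IsIntegral X] [IsLocallyNoetherian X] in
theorem stalkMapₗ_germF_one (s : Coh.structureModule X ⟶ F) (x : X) :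
    RefHull.stalkMapₗ s x (germF ⊤ x trivial 1) =
      F.presheaf.germ ⊤ x trivial (SecTwist.val s ⊤) :=
  RefHull.stalkMapₗ_germ (U := ⊤) s x trivial _

omit [IsIntegral X] [IsLocallyNoetherian X] in
theorem isGen_of_mem_isoLocus (s : Coh.structureModule X ⟶ F) (x : X)
    (hx : x ∈ RefPow.isoLocus s) :
    IsGen F x (F.presheaf.germ ⊤ x trivial (SecTwist.val s ⊤)) := by
  have h := bijective_smul_map (RefHull.stalkMapₗ s x) hx (isGen_one x)
  rw [stalkMapₗ_germF_one] at h
  exact h

theorem mem_isoLocus_of_isGen (s : Coh.structureModule X ⟶ F) (x : X)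
    (h : IsGen F x (F.presheaf.germ ⊤ x trivial (SecTwist.val s ⊤))) :
    x ∈ RefPow.isoLocus s := by
  refine Ref1J.bijective_of_isGen (RefHull.stalkMapₗ s x) (isGen_one x) ?_
  rw [stalkMapₗ_germF_one]
  exact h

theorem bijective_stalkMapₗ_sPow (hF : RefHull.IsRef1 F) (s : Coh.structureModule X ⟶ F) (x : X)
    (hx : x ∈ RefPow.isoLocus s) (n : ℕ) :
    Function.Bijective (RefHull.stalkMapₗ (RefPow.sPow s n) x) := by
  obtain ⟨en, hen, he⟩ := sPowGerm_structure F hF s x _ (isGen_of_mem_isoLocus s x hx) 1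
    (one_smul _ _).symm n
  rw [one_pow, one_smul] at he
  refine Ref1J.bijective_of_isGen (RefHull.stalkMapₗ (RefPow.sPow s n) x) (isGen_one x) ?_
  have e : RefHull.stalkMapₗ (RefPow.sPow s n) x (germF ⊤ x trivial 1) =
      RefPow.sPowGerm s n x := RefHull.stalkMapₗ_germ (U := ⊤) _ x trivial _
  rw [e, he]
  exact hen

/-- at a point outside the iso locus the coordinate of `s` is not a unit -/
theorem mem_maximalIdeal_of_not_mem (s : Coh.structureModule X ⟶ F) (x : X)
    (hx : x ∉ RefPow.isoLocus s) (e : F.presheaf.stalk x) (he : IsGen F x e)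
    (a : X.presheaf.stalk x)
    (ha : F.presheaf.germ ⊤ x trivial (SecTwist.val s ⊤) = a • e) :
    a ∈ IsLocalRing.maximalIdeal (X.presheaf.stalk x) := by
  rw [IsLocalRing.mem_maximalIdeal, mem_nonunits_iff]
  intro hu
  apply hx
  apply mem_isoLocus_of_isGen
  rw [ha]
  exact Ref1J.isGen_unit_smul he a hu

/-- if the generic point is not in the iso locus, the section vanishes -/
theorem val_eq_zero_of_generic_not_mem (hX : Pi1.IsNormalScheme X) (hF : RefHull.IsRef1 F)
    (s : Coh.structureModule X ⟶ F) (hη : genericPoint X ∉ RefPow.isoLocus s) (V : X.Opens) :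
    SecTwist.val s V = 0 := by
  have htf := Ref1H.isTorsionFree_of_isReflexive F hF.1 hF.2.1
  haveI := hF.1.1
  have h0 : F.presheaf.germ ⊤ (genericPoint X) trivial (SecTwist.val s ⊤) = 0 := by
    by_contra hne
    exact hη (mem_isoLocus_of_isGen s _ (Ref1J.isGen_generic hX F hF _ hne))
  have h1 : SecTwist.val s ⊤ = 0 :=
    RatRefl.germ_generic_injective F htf ⊤ trivial (h0.trans (map_zero _).symm)
  have h2 := SecTwist.map_val s (homOfLE (le_top : V ≤ ⊤))
  rw [h1] at h2
  rw [← h2]
  exact map_zero _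

omit [IsIntegral X] [IsLocallyNoetherian X] in
theorem mulBy_succ_app_eq_zero (s : Coh.structureModule X ⟶ F)
    (h0 : ∀ V : X.Opens, SecTwist.val s V = 0) (n : ℕ) (V : X.Opens)
    (t : Γ(RefPow.refPow F (n + 1), V)) : (RefPow.mulBy s (n + 1)).app V t = 0 := by
  rw [RefPow.mulBy_succ_app, h0 V]
  have h : SecTwist.tmul (RefPow.refPow F (n + 1)) F V t 0 = 0 := by
    unfold SecTwist.tmul
    rw [TensorProduct.tmul_zero]
    exact map_zero _
  rw [h]
  exact map_zero _

omit [IsIntegral X] [IsLocallyNoetherian X] in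
theorem germ_val_sPow (s : Coh.structureModule X ⟶ F) (n : ℕ) (V : X.Opens) (x : X)
    (hx : x ∈ V) :
    (RefPow.refPow F n).presheaf.germ V x hx (SecTwist.val (RefPow.sPow s n) V) =
      RefPow.sPowGerm s n x := by
  rw [← SecTwist.map_val (RefPow.sPow s n) (homOfLE (le_top : V ≤ ⊤))]
  exact TopCat.Presheaf.germ_res_apply (RefPow.refPow F n).presheaf (homOfLE le_top) x hx _

omit [IsIntegral X] [IsLocallyNoetherian X] in
theorem germ_toF (W : X.Opens) (x : X) (hx : x ∈ W) (f : Γ(X, W)) :
    (Coh.structureModule X).presheaf.germ W x hx (toF W f) =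
      X.presheaf.germ W x hx f • germF W x hx 1 := by
  rw [germF_smul, mul_one]
  rfl

omit [IsIntegral X] [IsLocallyNoetherian X] in
theorem germ_app_sPow (s : Coh.structureModule X ⟶ F) (n : ℕ) (W : X.Opens) (x : X)
    (hx : x ∈ W) (f : Γ(X, W)) :
    (RefPow.refPow F n).presheaf.germ W x hx ((RefPow.sPow s n).app W (toF W f)) =
      X.presheaf.germ W x hx f • RefPow.sPowGerm s n x := by
  rw [← RefHull.stalkMapₗ_germ, germ_toF, map_smul]
  congr 1
  have e2 : RefHull.stalkMapₗ (RefPow.sPow s n) x (germF W x hx 1) =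
      (RefPow.refPow F n).presheaf.germ W x hx (SecTwist.val (RefPow.sPow s n) W) :=
    RefHull.stalkMapₗ_germ _ x hx _
  rw [e2, germ_val_sPow]

end Groth.Agent.Lead.RefPowA
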