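import Mathlib
import Groth.Prelude.Def_RefPow
import Groth.Prelude.Def_Pi1
import Groth.Agent.Lead.RefPowA
import Groth.Agent.Lead.Ref1N
import Groth.Agent.Lead.HomShK
import Groth.Agent.Lead.HomShL

/-!
# Reflexive powers: clearing poles along the complement of the iso locus
-/

set_option autoImplicit false
set_option linter.style.haveILetI false
set_option linter.unusedSectionVars false

universe u

open CategoryTheory CategoryTheory.Limits AlgebraicGeometry TopologicalSpace Opposite

namespace Groth.Agent.Lead.RefPowB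

open Groth.Agent.Lead.Ref1I Groth.Agent.Lead.WeakAss Groth.Agent.Lead.RefPowA

/-- in a discrete valuation ring, multiplying by a high power of a non-unit clears denominators -/
theorem dvr_clear {R : Type*} [CommRing R] [IsDomain R] [IsDiscreteValuationRing R]
    {K : Type*} [Field K] [Algebra R K] [IsFractionRing R K]
    (a : R) (ha : a ∈ IsLocalRing.maximalIdeal R) (g : K) :
    ∃ k : ℕ, ∀ n, k ≤ n → ∃ c : R, algebraMap R K c = g * algebraMap R K a ^ n := by
  obtain ⟨p, q, hq, rfl⟩ := IsFractionRing.div_surjective (A := R) g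
  have hq0 : q ≠ 0 := nonZeroDivisors.ne_zero hq
  obtain ⟨ϖ, hϖ⟩ := IsDiscreteValuationRing.exists_irreducible R
  obtain ⟨m, hm⟩ := IsDiscreteValuationRing.associated_pow_irreducible hq0 hϖ
  have hϖa : ϖ ∣ a := by
    rw [hϖ.maximalIdeal_eq] at ha
    exact Ideal.mem_span_singleton.mp ha
  refine ⟨m, fun n hn => ?_⟩
  have hdvd : q ∣ a ^ n := hm.dvd.trans ((pow_dvd_pow_of_dvd hϖa m).trans (pow_dvd_pow a hn))
  obtain ⟨c, hc⟩ := hdvd
  refine ⟨p * c, ?_⟩
  have hq' : algebraMap R K q ≠ 0 := by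
    intro h
    exact hq0 ((IsFractionRing.to_map_eq_zero_iff (K := K)).mp h)
  rw [← map_pow, hc, map_mul, map_mul]
  field_simp

variable {X : Scheme.{u}} [IsIntegral X] [IsLocallyNoetherian X]

/-- a generic germ of a reflexive module which extends to all codimension one points of an open
subset comes from a section over this open subset -/
theorem exists_section_of_generic_open (hX : Pi1.IsNormalScheme X) (H : X.Modules)
    (hH : Coh.IsCoh H) (hHr : RefHull.IsReflexive H) (V₁ : X.Opens)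
    (hη₁ : genericPoint X ∈ V₁) (τ : H.presheaf.stalk (genericPoint X))
    (hτ : ∀ x : X, x ∈ V₁ → ringKrullDim (X.presheaf.stalk x) = 1 →
      τ ∈ Set.range (H.presheaf.stalkSpecializes (genericPoint_specializes x)).hom) :
    ∃ t : Γ(H, V₁), H.presheaf.germ V₁ (genericPoint X) hη₁ t = τ := by
  classical
  haveI := hH.1
  have htf := Ref1H.isTorsionFree_of_isReflexive H hH hHr
  let ι := {p : Σ V : X.Opens, Γ(H, V) // p.1 ≤ V₁ ∧
    ∃ hη : genericPoint X ∈ p.1, H.presheaf.germ p.1 (genericPoint X) hη p.2 = τ}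
  let U : ι → X.Opens := fun i => i.1.1
  let sf : ∀ i : ι, Γ(H, U i) := fun i => i.1.2
  have hle : ∀ i, U i ≤ V₁ := fun i => i.2.1
  have hηU : ∀ i, genericPoint X ∈ U i := fun i => i.2.2.choose
  have hsf : ∀ i, H.presheaf.germ (U i) (genericPoint X) (hηU i) (sf i) = τ :=
    fun i => i.2.2.choose_spec
  have hcompat : TopCat.Presheaf.IsCompatible H.presheaf U sf := by
    intro i j
    rw [← sub_eq_zero]
    have hη : genericPoint X ∈ U i ⊓ U j := ⟨hηU i, hηU j⟩
    have h0 : H.presheaf.germ (U i ⊓ U j) (genericPoint X) hη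
        (H.presheaf.map (Opens.infLELeft (U i) (U j)).op (sf i) -
          H.presheaf.map (Opens.infLERight (U i) (U j)).op (sf j)) = 0 := by
      rw [map_sub, TopCat.Presheaf.germ_res_apply, TopCat.Presheaf.germ_res_apply, hsf, hsf,
        sub_self]
    obtain ⟨W, hW, hηW, hW0⟩ := Ref1G.exists_res_eq_zero H _ hη _ h0
    exact HomShL.eq_zero_of_torsionFree H htf hW ⟨_, hηW⟩ _ hW0
  obtain ⟨s, hs, -⟩ := TopCat.Sheaf.existsUnique_gluing'
    (⟨H.presheaf, H.isSheaf⟩ : TopCat.Sheaf Ab X)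
    U (iSup U) (fun i => homOfLE (le_iSup U i)) le_rfl sf hcompat
  -- the generic point
  obtain ⟨V₀, hηV₀, s₀, hs₀⟩ := TopCat.Presheaf.exists_germ_eq H.presheaf τ
  let i₀ : ι := ⟨⟨V₀ ⊓ V₁, H.presheaf.map (homOfLE (inf_le_left : V₀ ⊓ V₁ ≤ V₀)).op s₀⟩,
    inf_le_right, ⟨hηV₀, hη₁⟩, by
      rw [TopCat.Presheaf.germ_res_apply]
      exact hs₀⟩
  have hηW : genericPoint X ∈ iSup U := le_iSup U i₀ (hηU i₀)
  have hsη : H.presheaf.germ (iSup U) (genericPoint X) hηW s = τ := by
    rw [← hsf i₀, ← hs i₀]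
    exact (TopCat.Presheaf.germ_res_apply H.presheaf (homOfLE (le_iSup U i₀)) _ (hηU i₀) s).symm
  -- the depth condition
  have hd : ∀ x : X, x ∈ V₁ → x ∉ iSup U →
      (2 : ℕ∞) ≤ LocCoh.depth (X.presheaf.stalk x) (X.presheaf.stalk x) := by
    intro x hxV₁ hxW
    haveI := (hX x).1
    haveI := (hX x).2
    apply ReflExtB.depth_two_of_normal
    by_contra hcon
    apply hxW
    have h1 := Ref1A.dim_le_one_of_not_two_le _ hcon
    by_cases h11 : ringKrullDim (X.presheaf.stalk x) = 1
    · obtain ⟨θ, hθ⟩ := hτ x hxV₁ h11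
      obtain ⟨V, hxV, g, rfl⟩ := TopCat.Presheaf.exists_germ_eq H.presheaf θ
      rw [Ref1H.sp_germ] at hθ
      let i : ι := ⟨⟨V ⊓ V₁, H.presheaf.map (homOfLE (inf_le_left : V ⊓ V₁ ≤ V)).op g⟩,
        inf_le_right, ⟨(genericPoint_specializes x).mem_open V.isOpen hxV, hη₁⟩, by
          rw [TopCat.Presheaf.germ_res_apply]
          exact hθ⟩
      exact le_iSup U i ⟨hxV, hxV₁⟩
    · have h00 : ringKrullDim (X.presheaf.stalk x) ≤ 0 := by
        apply Ref1G.dim_le_zero_of_not_one_le
        intro h1'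
        exact h11 (le_antisymm h1 h1')
      rw [Ref1H.eq_genericPoint_of_dim_le_zero x h00]
      exact hηW
  have hbij := HomShK.normal_of_isReflexive H hH hHr V₁ (iSup U) (iSup_le hle) hd
  obtain ⟨t, ht⟩ := hbij.2 s
  refine ⟨t, ?_⟩
  rw [← hsη, ← ht]
  exact (TopCat.Presheaf.germ_res_apply H.presheaf (homOfLE (iSup_le hle)) _ hηW t).symm

variable {F : X.Modules}

/-- clearing the pole at one codimension one point outside the iso locus -/
theorem exists_clear_at (hX : Pi1.IsNormalScheme X) (hF : RefHull.IsRef1 F)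
    (s : Coh.structureModule X ⟶ F) (x : X) (hx : ringKrullDim (X.presheaf.stalk x) = 1)
    (hxU : x ∉ RefPow.isoLocus s) (W : X.Opens) (hηW : genericPoint X ∈ W) (f : Γ(X, W)) :
    ∃ k : ℕ, ∀ n, k ≤ n →
      (RefPow.refPow F n).presheaf.germ W (genericPoint X) hηW
          ((RefPow.sPow s n).app W (toF W f)) ∈
        Set.range ((RefPow.refPow F n).presheaf.stalkSpecializes
          (genericPoint_specializes x)).hom := by
  haveI := Ref1J.isDiscreteValuationRing_stalk hX x hx
  obtain ⟨e, he⟩ := Ref1D.fr1At_of_isRef1 hX F hF x hx.le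
  obtain ⟨a, ha⟩ := he.2 (F.presheaf.germ ⊤ x trivial (SecTwist.val s ⊤))
  replace ha : F.presheaf.germ ⊤ x trivial (SecTwist.val s ⊤) = a • e := ha.symm
  have ham := mem_maximalIdeal_of_not_mem s x hxU e he a ha
  obtain ⟨k, hk⟩ := dvr_clear (R := X.presheaf.stalk x) (K := X.functionField) a ham
    (X.presheaf.germ W (genericPoint X) hηW f)
  refine ⟨k, fun n hn => ?_⟩
  obtain ⟨c, hc⟩ := hk n hn
  obtain ⟨en, -, hsn⟩ := sPowGerm_structure F hF s x e he a ha n
  refine ⟨c • en, ?_⟩
  have hsp : RefPow.sPowGerm s n (genericPoint X) =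
      ((RefPow.refPow F n).presheaf.stalkSpecializes (genericPoint_specializes x)).hom
        (RefPow.sPowGerm s n x) :=
    (Ref1H.sp_germ (RefPow.refPow F n) (genericPoint_specializes x) (U := ⊤) trivial _).symm
  rw [germ_app_sPow, hsp, hsn, Ref1H.sp_smul, Ref1H.sp_smul, smul_smul, map_pow]
  congr 1

/-- sections of `O` over the iso locus inside `V` become sections of `F^[n]` over `V` after
multiplication by `s^n`, for all large `n` -/
theorem exists_section_clearing (hX : Pi1.IsNormalScheme X) (hF : RefHull.IsRef1 F)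
    (s : Coh.structureModule X ⟶ F) (V W : X.Opens) (hWV : W ≤ V)
    (hVN : NoetherianSpace (V : Set X))
    (hWU : ∀ x ∈ V, x ∉ W → x ∉ RefPow.isoLocus s)
    (hηW : genericPoint X ∈ W) (f : Γ(X, W)) :
    ∃ n₀ : ℕ, ∀ n, n₀ ≤ n → ∃ t : Γ(RefPow.refPow F n, V),
      (RefPow.refPow F n).presheaf.map (homOfLE hWV).op t =
        (RefPow.sPow s n).app W (toF W f) := by
  classical
  have href := isRef1_refPow F hF
  have hT : {x : X | x ∈ V ∧ Order.coheight x = 1 ∧ x ∉ W}.Finite :=
    Ref1N.finite_codim_one_compl W ⟨_, hηW⟩ V hVN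
  have hpt : ∀ x : X, ringKrullDim (X.presheaf.stalk x) = 1 ∧ x ∉ RefPow.isoLocus s →
      ∃ k : ℕ, ∀ n, k ≤ n →
        (RefPow.refPow F n).presheaf.germ W (genericPoint X) hηW
            ((RefPow.sPow s n).app W (toF W f)) ∈
          Set.range ((RefPow.refPow F n).presheaf.stalkSpecializes
            (genericPoint_specializes x)).hom :=
    fun x hx => exists_clear_at hX hF s x hx.1 hx.2 W hηW f
  let k : X → ℕ := fun x =>
    if h : ringKrullDim (X.presheaf.stalk x) = 1 ∧ x ∉ RefPow.isoLocus s then (hpt x h).choose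
    else 0
  refine ⟨hT.toFinset.sup k, fun n hn => ?_⟩
  haveI := (href n).1.1
  have htf := Ref1H.isTorsionFree_of_isReflexive _ (href n).1 (href n).2.1
  obtain ⟨t, ht⟩ := exists_section_of_generic_open hX (RefPow.refPow F n) (href n).1 (href n).2.1
    V (hWV hηW) ((RefPow.refPow F n).presheaf.germ W (genericPoint X) hηW
      ((RefPow.sPow s n).app W (toF W f))) (by
    intro x hxV hx1
    by_cases hxW : x ∈ W
    · exact ⟨_, Ref1H.sp_germ (RefPow.refPow F n) (genericPoint_specializes x) hxW _⟩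
    · have hxU := hWU x hxV hxW
      have hxT : x ∈ hT.toFinset := by
        rw [Set.Finite.mem_toFinset]
        exact ⟨hxV, Ref1J.coheight_eq_one_of_dim hx1, hxW⟩
      have hkx : k x ≤ n := (Finset.le_sup hxT).trans hn
      have hk' : k x = (hpt x ⟨hx1, hxU⟩).choose := dif_pos ⟨hx1, hxU⟩
      rw [hk'] at hkx
      exact (hpt x ⟨hx1, hxU⟩).choose_spec n hkx)
  refine ⟨t, ?_⟩
  apply RatRefl.germ_generic_injective (RefPow.refPow F n) htf W hηW
  rw [TopCat.Presheaf.germ_res_apply]
  exact ht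

end Groth.Agent.Lead.RefPowB
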