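import Mathlib
import Groth.Prelude.Def_RefPow
import Groth.Prelude.Def_Pi1
import Groth.Agent.Lead.RefPowA
import Groth.Agent.Lead.RefPowB
import Groth.Agent.Lead.ReflExtB
import Groth.Agent.Helper1.EpiColim
import Groth.Agent.Helper4.AcycLocal
import Groth.Agent.Helper4.AssMono

/-!
# `j_* O_U` as the colimit of the reflexive powers (S16150)
-/

set_option autoImplicit false
set_option linter.style.haveILetI false
set_option linter.unusedSectionVars false

universe u

open CategoryTheory CategoryTheory.Limits AlgebraicGeometry TopologicalSpace Opposite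

namespace Groth.Agent.Lead.RefPowC

open Groth.Agent.Lead.Ref1I Groth.Agent.Lead.WeakAss Groth.Agent.Lead.RefPowA
  Groth.Agent.Lead.RefPowB Groth.Agent.Helper4.StalkDict Groth.Agent.Helper4.StalkExact

/-! ### general lemmas -/

section general

variable {X : Scheme.{u}}

/-- sections over affine opens of a colimit of a sequence come from a stage -/
theorem exists_rep_nat (D : ℕ ⥤ X.Modules) (c : Cocone D) (hc : IsColimit c) {V : X.Opens}
    (hV : IsAffineOpen V) (σ : Γ(c.pt, V)) :
    ∃ (n : ℕ) (t : Γ(D.obj n, V)), (c.ι.app n).app V t = σ := by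
  let E : AsSmall.{u} ℕ ≌ ℕ := AsSmall.equiv.symm
  haveI : IsFiltered (AsSmall.{u} ℕ) := IsFiltered.of_equivalence AsSmall.equiv
  have hc' : IsColimit (c.whisker E.functor) := IsColimit.whiskerEquivalence hc E
  obtain ⟨j, t, ht⟩ := Groth.Agent.Helper1.EpiColim.exists_rep (E.functor ⋙ D)
    (c.whisker E.functor) hc' hV σ
  exact ⟨E.functor.obj j, t, ht⟩

/-- a morphism which is injective on sections over nonempty affine opens is a monomorphism -/
theorem mono_of_app_injective_affine {M N : X.Modules} (φ : M ⟶ N)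
    (h : ∀ V : X.Opens, IsAffineOpen V → (V : Set X).Nonempty →
      ∀ m : Γ(M, V), φ.app V m = 0 → m = 0) : Mono φ := by
  apply Groth.Agent.Helper4.AssMono.mono_of_stalkLin_injective
  intro x
  rw [injective_iff_map_eq_zero]
  intro τ hτ
  obtain ⟨V₀, hxV₀, m₀, rfl⟩ := TopCat.Presheaf.exists_germ_eq M.presheaf τ
  rw [stalkLin_germ] at hτ
  obtain ⟨W₀, hW₀, hxW₀, h0⟩ := Ref1G.exists_res_eq_zero N x hxV₀ _ hτ
  obtain ⟨W, hW, hxW, hWW₀⟩ := (Opens.isBasis_iff_nbhd.mp X.isBasis_affineOpens) hxW₀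
  rw [HomShK.app_res] at h0
  have h1 : φ.app W (M.presheaf.map (homOfLE hWW₀).op (M.presheaf.map (homOfLE hW₀).op m₀)) =
      0 := by
    rw [← HomShK.app_res, h0, map_zero]
  have h2 := h W hW ⟨x, hxW⟩ _ h1
  rw [← TopCat.Presheaf.germ_res_apply M.presheaf (homOfLE hW₀) x hxW₀ m₀,
    ← TopCat.Presheaf.germ_res_apply M.presheaf (homOfLE hWW₀) x hxW _, h2, map_zero]

end general

variable {X : Scheme.{u}} [IsIntegral X] [IsLocallyNoetherian X] {F : X.Modules}

/-- `j_* (O_X|_U)` -/
noncomputable abbrev jO (U : X.Opens) : X.Modules :=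
  (Scheme.Modules.pushforward U.ι).obj ((Coh.structureModule X).restrict U.ι)

theorem isIso_restrict_sPow (hF : RefHull.IsRef1 F) (s : Coh.structureModule X ⟶ F)
    (U : X.Opens) (hU : (U : Set X) = RefPow.isoLocus s) (n : ℕ) :
    IsIso ((Scheme.Modules.restrictFunctor U.ι).map (RefPow.sPow s n)) :=
  ReflExtB.isIso_restrict_map U _ (fun x hx => bijective_stalkMapₗ_sPow hF s x
    (by rw [← hU]; exact hx) n)

/-- the inverse of the restriction of `s^n` to `U` -/
noncomputable def phi (hF : RefHull.IsRef1 F) (s : Coh.structureModule X ⟶ F)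
    (U : X.Opens) (hU : (U : Set X) = RefPow.isoLocus s) (n : ℕ) :
    (RefPow.refPow F n).restrict U.ι ⟶ (Coh.structureModule X).restrict U.ι :=
  haveI := isIso_restrict_sPow hF s U hU n
  inv ((Scheme.Modules.restrictFunctor U.ι).map (RefPow.sPow s n))

variable (hF : RefHull.IsRef1 F) (s : Coh.structureModule X ⟶ F)
    (U : X.Opens) (hU : (U : Set X) = RefPow.isoLocus s)

theorem map_sPow_comp_phi (n : ℕ) :
    (Scheme.Modules.restrictFunctor U.ι).map (RefPow.sPow s n) ≫ phi hF s U hU n = 𝟙 _ := by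
  haveI := isIso_restrict_sPow hF s U hU n
  exact IsIso.hom_inv_id _

theorem phi_comp_map_sPow (n : ℕ) :
    phi hF s U hU n ≫ (Scheme.Modules.restrictFunctor U.ι).map (RefPow.sPow s n) = 𝟙 _ := by
  haveI := isIso_restrict_sPow hF s U hU n
  exact IsIso.inv_hom_id _

theorem map_mulBy_comp_phi (n : ℕ) :
    (Scheme.Modules.restrictFunctor U.ι).map (RefPow.mulBy s n) ≫ phi hF s U hU (n + 1) =
      phi hF s U hU n := by
  haveI := isIso_restrict_sPow hF s U hU n
  haveI := isIso_restrict_sPow hF s U hU (n + 1)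
  unfold phi
  rw [IsIso.comp_inv_eq, IsIso.eq_inv_comp, ← Functor.map_comp, ← RefPow.sPow_succ]

/-- the comparison maps `F^[n] ⟶ j_* O_U` -/
noncomputable def iota (n : ℕ) : RefPow.refPow F n ⟶ jO U :=
  (Scheme.Modules.restrictAdjunction U.ι).homEquiv _ _ (phi hF s U hU n)

theorem sPow_comp_iota (n : ℕ) :
    RefPow.sPow s n ≫ iota hF s U hU n =
      (Scheme.Modules.restrictAdjunction U.ι).unit.app (Coh.structureModule X) := by
  unfold iota
  rw [← Adjunction.homEquiv_naturality_left, map_sPow_comp_phi, Adjunction.homEquiv_id]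

theorem mulBy_comp_iota (n : ℕ) :
    RefPow.mulBy s n ≫ iota hF s U hU (n + 1) = iota hF s U hU n := by
  unfold iota
  rw [← Adjunction.homEquiv_naturality_left, map_mulBy_comp_phi]

theorem iota_zero :
    iota hF s U hU 0 =
      (Scheme.Modules.restrictAdjunction U.ι).unit.app (Coh.structureModule X) := by
  have h := sPow_comp_iota hF s U hU 0
  exact (Category.id_comp (iota hF s U hU 0)).symm.trans h

theorem iota_app (n : ℕ) (V : X.Opens) (t : Γ(RefPow.refPow F n, V)) :
    (iota hF s U hU n).app V t =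
      (phi hF s U hU n).app (U.ι ⁻¹ᵁ V)
        ((RefPow.refPow F n).presheaf.map (homOfLE (U.ι.image_preimage_le V)).op t) := by
  unfold iota
  rw [Adjunction.homEquiv_unit]
  rfl

theorem phi_app_sPow_app (n : ℕ) (Wu : (U : Scheme.{u}).Opens)
    (f : Γ(Coh.structureModule X, U.ι ''ᵁ Wu)) :
    (phi hF s U hU n).app Wu ((RefPow.sPow s n).app (U.ι ''ᵁ Wu) f) = f := by
  have h := map_sPow_comp_phi hF s U hU n
  exact congrArg (fun φ : (Coh.structureModule X).restrict U.ι ⟶
    (Coh.structureModule X).restrict U.ι => φ.app Wu f) h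

theorem sPow_app_phi_app (n : ℕ) (Wu : (U : Scheme.{u}).Opens)
    (t : Γ(RefPow.refPow F n, U.ι ''ᵁ Wu)) :
    (RefPow.sPow s n).app (U.ι ''ᵁ Wu) ((phi hF s U hU n).app Wu t) = t := by
  have h := phi_comp_map_sPow hF s U hU n
  exact congrArg (fun φ : (RefPow.refPow F n).restrict U.ι ⟶
    (RefPow.refPow F n).restrict U.ι => φ.app Wu t) h

omit [IsIntegral X] [IsLocallyNoetherian X] in
theorem image_preimage_eq (U V : X.Opens) : U.ι ''ᵁ U.ι ⁻¹ᵁ V = U ⊓ V := by
  rw [Scheme.Hom.image_preimage_eq_opensRange_inf, Scheme.Opens.opensRange_ι]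

/-- surjectivity of the comparison maps on sections over affine opens -/
theorem exists_iota_app_eq (hX : Pi1.IsNormalScheme X) (V : X.Opens) (hV : IsAffineOpen V)
    (f : Γ(jO U, V)) :
    ∃ (n : ℕ) (t : Γ(RefPow.refPow F n, V)), (iota hF s U hU n).app V t = f := by
  have hW'V : U.ι ''ᵁ U.ι ⁻¹ᵁ V ≤ V := U.ι.image_preimage_le V
  by_cases hη : genericPoint X ∈ U.ι ''ᵁ U.ι ⁻¹ᵁ V
  · haveI : IsNoetherianRing Γ(X, V) := IsLocallyNoetherian.component_noetherian ⟨V, hV⟩
    have hVN : NoetherianSpace (V : Set X) := noetherianSpace_of_isAffineOpen V hV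
    have hWU : ∀ x ∈ V, x ∉ U.ι ''ᵁ U.ι ⁻¹ᵁ V → x ∉ RefPow.isoLocus s := by
      intro x hxV hxW hxs
      apply hxW
      rw [image_preimage_eq]
      refine ⟨?_, hxV⟩
      show x ∈ (U : Set X)
      rw [hU]
      exact hxs
    obtain ⟨n₀, h⟩ := exists_section_clearing hX hF s V (U.ι ''ᵁ U.ι ⁻¹ᵁ V) hW'V hVN hWU hη f
    obtain ⟨t, ht⟩ := h n₀ le_rfl
    refine ⟨n₀, t, ?_⟩
    rw [iota_app, ht]
    exact phi_app_sPow_app hF s U hU n₀ (U.ι ⁻¹ᵁ V) f
  · have hbot : U.ι ''ᵁ U.ι ⁻¹ᵁ V = ⊥ := by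
      by_contra hne
      exact hη (Ref1D.genericPoint_mem _ ((Opens.ne_bot_iff_nonempty _).mp hne))
    have hf : f = 0 := by
      let f' : Γ(X, U.ι ''ᵁ U.ι ⁻¹ᵁ V) := f
      have h1 : X.basicOpen f' = ⊥ := by
        rw [eq_bot_iff, ← hbot]
        exact X.basicOpen_le f'
      have h2 : f' = 0 := (basicOpen_eq_bot_iff f').mp h1
      exact h2
    refine ⟨0, 0, ?_⟩
    rw [map_zero, hf]

/-- injectivity of the comparison maps on sections over nonempty opens -/
theorem iota_app_eq_zero (hηU : genericPoint X ∈ U) (n : ℕ) (V : X.Opens)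
    (hVne : (V : Set X).Nonempty) (t : Γ(RefPow.refPow F n, V))
    (ht : (iota hF s U hU n).app V t = 0) : t = 0 := by
  have href := isRef1_refPow F hF n
  haveI := href.1.1
  have htf := Ref1H.isTorsionFree_of_isReflexive _ href.1 href.2.1
  have hηW : genericPoint X ∈ U.ι ''ᵁ U.ι ⁻¹ᵁ V := by
    rw [image_preimage_eq]
    exact ⟨hηU, Ref1D.genericPoint_mem V hVne⟩
  rw [iota_app] at ht
  have h2 := sPow_app_phi_app hF s U hU n (U.ι ⁻¹ᵁ V)
    ((RefPow.refPow F n).presheaf.map (homOfLE (U.ι.image_preimage_le V)).op t)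
  have h3 : (RefPow.sPow s n).app (U.ι ''ᵁ U.ι ⁻¹ᵁ V) ((phi hF s U hU n).app (U.ι ⁻¹ᵁ V)
      ((RefPow.refPow F n).presheaf.map (homOfLE (U.ι.image_preimage_le V)).op t)) = 0 :=
    (congrArg (fun z => (RefPow.sPow s n).app (U.ι ''ᵁ U.ι ⁻¹ᵁ V) z) ht).trans (map_zero _)
  have h1 : (RefPow.refPow F n).presheaf.map (homOfLE (U.ι.image_preimage_le V)).op t = 0 :=
    h2.symm.trans h3
  exact RatRefl.res_injective_of_generic (RefPow.refPow F n) htf (U.ι.image_preimage_le V) hηW
    (h1.trans (map_zero _).symm)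

/-- **S16150** -/
theorem s16150 (X : Scheme.{u}) [IsIntegral X] [IsLocallyNoetherian X]
    (hX : Pi1.IsNormalScheme X) (F : X.Modules) (hF : RefHull.IsRef1 F)
    (s : Coh.structureModule X ⟶ F) (U : X.Opens) (hU : (U : Set X) = RefPow.isoLocus s) :
    ∃ ι : RefPow.diagram F s ⟶ (Functor.const ℕ).obj
        ((Scheme.Modules.pushforward U.ι).obj ((Coh.structureModule X).restrict U.ι)),
      ι.app 0 = (Scheme.Modules.restrictAdjunction U.ι).unit.app (Coh.structureModule X) ∧
        Nonempty (IsColimit (Cocone.mk _ ι)) := by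
  let ιN : RefPow.diagram F s ⟶ (Functor.const ℕ).obj (jO U) :=
    NatTrans.ofSequence (fun n => iota hF s U hU n) (fun n => by
      have h1 : (RefPow.diagram F s).map (homOfLE (n.le_add_right 1)) = RefPow.mulBy s n :=
        RefPow.diagram_map F s n
      exact (congrArg (fun z => z ≫ iota hF s U hU (n + 1)) h1).trans
        ((mulBy_comp_iota hF s U hU n).trans (Category.comp_id (iota hF s U hU n)).symm))
  refine ⟨ιN, iota_zero hF s U hU, ?_⟩
  let c₁ : Cocone (RefPow.diagram F s) := Cocone.mk _ ιN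
  have hdesc : ∀ n, colimit.ι (RefPow.diagram F s) n ≫ colimit.desc (RefPow.diagram F s) c₁ =
      iota hF s U hU n := fun n => colimit.ι_desc c₁ n
  haveI : Epi (colimit.desc (RefPow.diagram F s) c₁) := by
    apply Groth.Agent.Helper4.AcycLocal.epi_of_app_surjective_affine
    intro V hV f
    obtain ⟨n, t, ht⟩ := exists_iota_app_eq hF s U hU hX V hV f
    refine ⟨(colimit.ι (RefPow.diagram F s) n).app V t, ?_⟩
    rw [← ht, ← hdesc n]
    rfl
  haveI : Mono (colimit.desc (RefPow.diagram F s) c₁) := by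
    apply mono_of_app_injective_affine
    intro V hV hVne σ hσ
    obtain ⟨n, t, rfl⟩ := exists_rep_nat (RefPow.diagram F s) _
      (colimit.isColimit (RefPow.diagram F s)) hV σ
    by_cases hηU : genericPoint X ∈ U
    · have h1 : (iota hF s U hU n).app V t = 0 := by
        rw [← hdesc n]
        exact hσ
      have ht0 : t = 0 := iota_app_eq_zero hF s U hU hηU n V hVne t h1
      subst ht0
      exact map_zero _
    · have h0 := val_eq_zero_of_generic_not_mem hX hF s (by rw [← hU]; exact hηU)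
      have w : ∀ k, (RefPow.mulBy s k : (RefPow.diagram F s).obj k ⟶
          (RefPow.diagram F s).obj (k + 1)) ≫ colimit.ι (RefPow.diagram F s) (k + 1) =
          colimit.ι (RefPow.diagram F s) k := fun k =>
        (congrArg (fun z : (RefPow.diagram F s).obj k ⟶ (RefPow.diagram F s).obj (k + 1) =>
          z ≫ colimit.ι (RefPow.diagram F s) (k + 1)) (RefPow.diagram_map F s k)).symm.trans
          (colimit.w (RefPow.diagram F s) (homOfLE (Nat.le_succ k)))
      have e1 : colimit.ι (RefPow.diagram F s) n =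
          (RefPow.mulBy s n : (RefPow.diagram F s).obj n ⟶ (RefPow.diagram F s).obj (n + 1)) ≫
          (RefPow.mulBy s (n + 1) : (RefPow.diagram F s).obj (n + 1) ⟶
            (RefPow.diagram F s).obj (n + 1 + 1)) ≫
            colimit.ι (RefPow.diagram F s) (n + 1 + 1) :=
        (w n).symm.trans (congrArg (fun z : (RefPow.diagram F s).obj (n + 1) ⟶
          colimit (RefPow.diagram F s) => (RefPow.mulBy s n : (RefPow.diagram F s).obj n ⟶
            (RefPow.diagram F s).obj (n + 1)) ≫ z) (w (n + 1)).symm)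
      have e2 : (colimit.ι (RefPow.diagram F s) n).app V t =
          (colimit.ι (RefPow.diagram F s) (n + 1 + 1)).app V
            ((RefPow.mulBy s (n + 1)).app V ((RefPow.mulBy s n).app V t)) :=
        congrArg (fun φ : (RefPow.diagram F s).obj n ⟶ colimit (RefPow.diagram F s) =>
          φ.app V t) e1
      have e3 : (RefPow.mulBy s (n + 1)).app V ((RefPow.mulBy s n).app V t) = 0 :=
        mulBy_succ_app_eq_zero s h0 n V _
      exact e2.trans ((congrArg (fun z => (colimit.ι (RefPow.diagram F s) (n + 1 + 1)).app V z)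
        e3).trans (map_zero _))
  haveI : IsIso ((colimit.isColimit (RefPow.diagram F s)).desc c₁) :=
    isIso_of_mono_of_epi (colimit.desc (RefPow.diagram F s) c₁)
  exact ⟨IsColimit.ofPointIso (colimit.isColimit (RefPow.diagram F s))⟩

end Groth.Agent.Lead.RefPowC
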