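import Mathlib
import Groth.Prelude.Def_RefPow
import Groth.Prelude.Def_Pi1
import Groth.Agent.Lead.RefPowA
import Groth.Agent.Lead.RefPowB
import Groth.Agent.Lead.RefPowC

/-!
# Affineness of the iso locus of a section of a rank one reflexive module (S16151)
-/

set_option autoImplicit false
set_option linter.style.haveILetI false
set_option linter.unusedSectionVars false

universe u

open CategoryTheory CategoryTheory.Limits AlgebraicGeometry TopologicalSpace Opposite

namespace Groth.Agent.Lead.RefPowD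

open Groth.Agent.Lead.Ref1I Groth.Agent.Lead.WeakAss Groth.Agent.Lead.RefPowA
  Groth.Agent.Lead.RefPowB Groth.Agent.Lead.RefPowC Groth.Agent.Helper4.StalkDict

/-! ### commutative algebra -/

/-- if every prime containing `I` generates, after extension, an ideal meeting the image of its
complement, then `I` generates the unit ideal -/
theorem map_eq_top_of_forall_prime {A B : Type*} [CommRing A] [CommRing B] [IsNoetherianRing A]
    (ρ : A →+* B) (I : Ideal A)
    (H : ∀ p : Ideal A, p.IsPrime → I ≤ p → ∃ a : A, a ∉ p ∧ ρ a ∈ Ideal.map ρ p) :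
    Ideal.map ρ I = ⊤ := by
  by_contra hne
  have h𝔞ne : Ideal.comap ρ (Ideal.map ρ I) ≠ ⊤ := by
    intro h
    apply hne
    rw [Ideal.eq_top_iff_one] at h ⊢
    have h1 := Ideal.mem_comap.mp h
    rwa [map_one] at h1
  haveI : Nontrivial (A ⧸ Ideal.comap ρ (Ideal.map ρ I)) := Ideal.Quotient.nontrivial_iff.mpr h𝔞ne
  obtain ⟨p, hp⟩ := associatedPrimes.nonempty A (A ⧸ Ideal.comap ρ (Ideal.map ρ I))
  obtain ⟨hpp, m, hm⟩ := isAssociatedPrime_iff.mp hp
  obtain ⟨c, rfl⟩ := Ideal.Quotient.mk_surjective m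
  have hmem : ∀ r, r ∈ p ↔ r * c ∈ Ideal.comap ρ (Ideal.map ρ I) := by
    intro r
    rw [hm, Submodule.mem_colon_singleton, Submodule.mem_bot, ← Ideal.Quotient.eq_zero_iff_mem]
    rfl
  have hIp : I ≤ p := fun r hr =>
    (hmem r).mpr (Ideal.mul_mem_right c _ (Ideal.le_comap_map hr))
  obtain ⟨a, hap, ha⟩ := H p hpp hIp
  apply hap
  rw [hmem, Ideal.mem_comap, map_mul]
  have key : ∀ b ∈ Ideal.map ρ p, b * ρ c ∈ Ideal.map ρ I := by
    intro b hb
    induction hb using Submodule.span_induction with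
    | mem b hb =>
      obtain ⟨r, hr, rfl⟩ := hb
      rw [← map_mul]
      exact Ideal.mem_comap.mp ((hmem r).mp hr)
    | zero => rw [zero_mul]; exact zero_mem _
    | add b₁ b₂ _ _ h₁ h₂ => rw [add_mul]; exact add_mem h₁ h₂
    | smul r b _ h => rw [smul_eq_mul, mul_assoc]; exact Ideal.mul_mem_left _ _ h
  exact key _ ha

/-! ### localization -/

/-- a section over an affine open whose germ at `x` lies in `m_x M_x` is, up to a function not
vanishing at `x`, a combination of sections with coefficients vanishing at `x` -/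
theorem exists_smul_mem_of_germ_mem {X : Scheme.{u}} (M : X.Modules) [M.IsQuasicoherent]
    {V : X.Opens} (hV : IsAffineOpen V) (x : X) (hxV : x ∈ V) (σ : Γ(M, V))
    (hσ : M.presheaf.germ V x hxV σ ∈ IsLocalRing.maximalIdeal (X.presheaf.stalk x) •
      (⊤ : Submodule (X.presheaf.stalk x) (M.presheaf.stalk x))) :
    ∃ a : Γ(X, V), x ∈ X.basicOpen a ∧
      a • σ ∈ (hV.primeIdealOf ⟨x, hxV⟩).asIdeal • (⊤ : Submodule Γ(X, V) Γ(M, V)) := by
  letI := sectionModStalk M x hxV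
  haveI := isLocalizedModule_germ hV M x hxV
  letI := X.presheaf.algebra_section_stalk ⟨x, hxV⟩
  haveI := hV.isLocalization_stalk ⟨x, hxV⟩
  have key : ∀ τ ∈ IsLocalRing.maximalIdeal (X.presheaf.stalk x) •
      (⊤ : Submodule (X.presheaf.stalk x) (M.presheaf.stalk x)),
      ∃ (a : Γ(X, V)) (μ : Γ(M, V)), x ∈ X.basicOpen a ∧
        μ ∈ (hV.primeIdealOf ⟨x, hxV⟩).asIdeal • (⊤ : Submodule Γ(X, V) Γ(M, V)) ∧
        X.presheaf.germ V x hxV a • τ = M.presheaf.germ V x hxV μ := by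
    intro τ hτ
    refine Submodule.smul_induction_on hτ ?_ ?_
    · intro c hc τ _
      obtain ⟨⟨f, u⟩, hfu⟩ := IsLocalization.surj
        (hV.primeIdealOf ⟨x, hxV⟩).asIdeal.primeCompl c
      obtain ⟨⟨t, w⟩, htw⟩ := IsLocalizedModule.surj
        (hV.primeIdealOf ⟨x, hxV⟩).asIdeal.primeCompl (germLin M x hxV) τ
      have hfu' : c * X.presheaf.germ V x hxV (u : Γ(X, V)) = X.presheaf.germ V x hxV f := hfu
      have htw' : X.presheaf.germ V x hxV (w : Γ(X, V)) • τ = M.presheaf.germ V x hxV t := htw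
      have hfp : f ∈ (hV.primeIdealOf ⟨x, hxV⟩).asIdeal := by
        rw [← IsLocalization.AtPrime.to_map_mem_maximal_iff (X.presheaf.stalk x)
          (hV.primeIdealOf ⟨x, hxV⟩).asIdeal f]
        have : algebraMap Γ(X, V) (X.presheaf.stalk x) f = c * X.presheaf.germ V x hxV
            (u : Γ(X, V)) := hfu.symm
        rw [this]
        exact Ideal.mul_mem_right _ _ hc
      refine ⟨(u : Γ(X, V)) * (w : Γ(X, V)), f • t, ?_, Submodule.smul_mem_smul hfp trivial, ?_⟩
      · rw [mem_basicOpen_iff_notMem_primeIdealOf hV x hxV]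
        exact ((hV.primeIdealOf ⟨x, hxV⟩).asIdeal.primeCompl.mul_mem u.2 w.2)
      · rw [Mero.germ_smul, ← hfu', ← htw', map_mul, smul_smul, smul_smul]
        congr 1
        ring
    · intro τ₁ τ₂ h₁ h₂
      obtain ⟨a₁, μ₁, ha₁, hμ₁, e₁⟩ := h₁
      obtain ⟨a₂, μ₂, ha₂, hμ₂, e₂⟩ := h₂
      refine ⟨a₁ * a₂, a₂ • μ₁ + a₁ • μ₂, ?_, ?_, ?_⟩
      · rw [Scheme.basicOpen_mul]
        exact ⟨ha₁, ha₂⟩
      · exact add_mem (Submodule.smul_mem _ _ hμ₁) (Submodule.smul_mem _ _ hμ₂)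
      · rw [map_add, Mero.germ_smul, Mero.germ_smul, ← e₁, ← e₂, map_mul, smul_add, smul_smul,
          smul_smul, mul_comm]
  obtain ⟨a, μ, ha, hμ, e⟩ := key _ hσ
  have h0 : germLin M x hxV (a • σ - μ) = 0 := by
    rw [germLin_apply, map_sub, Mero.germ_smul, e, sub_self]
  obtain ⟨a', ha'⟩ := (IsLocalizedModule.eq_zero_iff
    (hV.primeIdealOf ⟨x, hxV⟩).asIdeal.primeCompl (germLin M x hxV)).mp h0
  refine ⟨(a' : Γ(X, V)) * a, ?_, ?_⟩
  · rw [Scheme.basicOpen_mul]
    exact ⟨(mem_basicOpen_iff_notMem_primeIdealOf hV x hxV _).mpr a'.2, ha⟩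
  · have h1 : (a' : Γ(X, V)) • (a • σ - μ) = 0 := ha'
    rw [smul_sub, sub_eq_zero] at h1
    rw [mul_smul, h1]
    exact Submodule.smul_mem _ _ hμ


/-! ### the unit module -/

section unit

variable {X : Scheme.{u}}

theorem toF_smul (W : X.Opens) (r b : Γ(X, W)) : toF W (r * b) = r • toF W b := rfl

theorem toF_add (W : X.Opens) (b₁ b₂ : Γ(X, W)) : toF W (b₁ + b₂) = toF W b₁ + toF W b₂ := rfl

theorem app_toF_one {F : X.Modules} (φ : Coh.structureModule X ⟶ F) (W : X.Opens) :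
    φ.app W (toF W 1) = SecTwist.val φ W := rfl

end unit

variable {X : Scheme.{u}} [IsIntegral X] [IsLocallyNoetherian X] {F : X.Modules}

/-! ### (1) implies (2) -/

/-- elements of the ideal generated by functions vanishing at `x` become, after multiplication by
`s^n`, sections of `F^[n]` whose germ at `x` lies in `m_x F^[n]_x` -/
theorem key12 (hX : Pi1.IsNormalScheme X) (hF : RefHull.IsRef1 F)
    (s : Coh.structureModule X ⟶ F) (V W : X.Opens) (hWV : W ≤ V)
    (hVN : NoetherianSpace (V : Set X))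
    (hWU : ∀ y ∈ V, y ∉ W → y ∉ RefPow.isoLocus s)
    (hηW : genericPoint X ∈ W) (x : X) (hxV : x ∈ V) (b : Γ(X, W))
    (hb : b ∈ Ideal.span ((X.presheaf.map (homOfLE hWV).op).hom ''
      {f : Γ(X, V) | x ∉ X.basicOpen f})) :
    ∃ n₀ : ℕ, ∀ n, n₀ ≤ n → ∃ T : Γ(RefPow.refPow F n, V),
      (RefPow.refPow F n).presheaf.germ V x hxV T ∈
        IsLocalRing.maximalIdeal (X.presheaf.stalk x) •
          (⊤ : Submodule (X.presheaf.stalk x) ((RefPow.refPow F n).presheaf.stalk x)) ∧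
      (RefPow.refPow F n).presheaf.map (homOfLE hWV).op T =
        (RefPow.sPow s n).app W (toF W b) := by
  induction hb using Submodule.closure_induction with
  | zero =>
    refine ⟨0, fun n _ => ⟨0, ?_, ?_⟩⟩
    · rw [map_zero]
      exact zero_mem _
    · rw [map_zero]
      exact (map_zero _).symm
  | add b₁ b₂ _ _ h₁ h₂ =>
    obtain ⟨n₁, h₁⟩ := h₁
    obtain ⟨n₂, h₂⟩ := h₂
    refine ⟨max n₁ n₂, fun n hn => ?_⟩
    obtain ⟨T₁, hT₁, e₁⟩ := h₁ n ((le_max_left _ _).trans hn)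
    obtain ⟨T₂, hT₂, e₂⟩ := h₂ n ((le_max_right _ _).trans hn)
    refine ⟨T₁ + T₂, ?_, ?_⟩
    · rw [map_add]
      exact add_mem hT₁ hT₂
    · rw [map_add, e₁, e₂, toF_add]
      exact (map_add _ _ _).symm
  | smul_mem r g hg =>
    obtain ⟨f, hf, rfl⟩ := hg
    obtain ⟨n₁, h₁⟩ := exists_section_clearing hX hF s V W hWV hVN hWU hηW r
    refine ⟨n₁, fun n hn => ?_⟩
    obtain ⟨t, ht⟩ := h₁ n hn
    refine ⟨f • t, ?_, ?_⟩
    · rw [Mero.germ_smul]
      refine Submodule.smul_mem_smul ?_ trivial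
      rw [IsLocalRing.mem_maximalIdeal, mem_nonunits_iff]
      intro hu
      exact hf ((X.mem_basicOpen f x hxV).mpr hu)
    · rw [Scheme.Modules.map_smul, ht, smul_eq_mul, mul_comm, toF_smul]
      exact (Scheme.Modules.Hom.app_smul _ _ _).symm

theorem cond_of_isAffineHom (hX : Pi1.IsNormalScheme X) (hF : RefHull.IsRef1 F)
    (s : Coh.structureModule X ⟶ F) (U : X.Opens) (hU : (U : Set X) = RefPow.isoLocus s)
    [IsAffineHom U.ι] (x : X) (hxU : x ∉ U) :
    ∃ n : ℕ, 0 < n ∧ RefPow.sPowGerm s n x ∈ IsLocalRing.maximalIdeal (X.presheaf.stalk x) •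
      (⊤ : Submodule (X.presheaf.stalk x) ((RefPow.refPow F n).presheaf.stalk x)) := by
  by_cases hηU : genericPoint X ∈ U
  · obtain ⟨V, hV, hxV, -⟩ := (Opens.isBasis_iff_nbhd.mp X.isBasis_affineOpens)
      (show x ∈ (⊤ : X.Opens) from trivial)
    have hW' : IsAffineOpen (U.ι ''ᵁ U.ι ⁻¹ᵁ V) :=
      (IsAffineHom.isAffine_preimage V hV).image_of_isOpenImmersion U.ι
    have hW'V : U.ι ''ᵁ U.ι ⁻¹ᵁ V ≤ V := U.ι.image_preimage_le V
    haveI : IsNoetherianRing Γ(X, V) := IsLocallyNoetherian.component_noetherian ⟨V, hV⟩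
    have hVN : NoetherianSpace (V : Set X) := noetherianSpace_of_isAffineOpen V hV
    have hWU : ∀ y ∈ V, y ∉ U.ι ''ᵁ U.ι ⁻¹ᵁ V → y ∉ RefPow.isoLocus s := by
      intro y hyV hyW hys
      apply hyW
      rw [image_preimage_eq]
      refine ⟨?_, hyV⟩
      show y ∈ (U : Set X)
      rw [hU]
      exact hys
    have hηW : genericPoint X ∈ U.ι ''ᵁ U.ι ⁻¹ᵁ V := by
      rw [image_preimage_eq]
      exact ⟨hηU, Ref1D.genericPoint_mem V ⟨x, hxV⟩⟩
    have hspan : Ideal.span ((X.presheaf.map (homOfLE hW'V).op).hom ''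
        {f : Γ(X, V) | x ∉ X.basicOpen f}) = ⊤ := by
      rw [← hW'.self_le_iSup_basicOpen_iff]
      intro y hy
      have hy' : y ∈ U ⊓ V := by
        rw [← image_preimage_eq]
        exact hy
      obtain ⟨f, hfU, hyf⟩ := hV.exists_basicOpen_le (⟨y, hy'.1⟩ : U) hy'.2
      have hfS : f ∈ {f : Γ(X, V) | x ∉ X.basicOpen f} := fun hxf => hxU (hfU hxf)
      refine Opens.mem_iSup.mpr ⟨⟨_, f, hfS, rfl⟩, ?_⟩
      show y ∈ X.basicOpen ((X.presheaf.map (homOfLE hW'V).op).hom f)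
      have hres := X.basicOpen_res f (homOfLE hW'V).op
      rw [show (X.presheaf.map (homOfLE hW'V).op).hom f = X.presheaf.map (homOfLE hW'V).op f
        from rfl, hres]
      exact ⟨hy, hyf⟩
    have h1 : (1 : Γ(X, U.ι ''ᵁ U.ι ⁻¹ᵁ V)) ∈ Ideal.span
        ((X.presheaf.map (homOfLE hW'V).op).hom '' {f : Γ(X, V) | x ∉ X.basicOpen f}) := by
      rw [hspan]
      trivial
    obtain ⟨n₀, hn₀⟩ := key12 hX hF s V _ hW'V hVN hWU hηW x hxV 1 h1
    obtain ⟨T, hT1, hT2⟩ := hn₀ (n₀ + 1) (Nat.le_succ _)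
    refine ⟨n₀ + 1, Nat.succ_pos _, ?_⟩
    have href := isRef1_refPow F hF (n₀ + 1)
    haveI := href.1.1
    have htf := Ref1H.isTorsionFree_of_isReflexive _ href.1 href.2.1
    have hTv : T = SecTwist.val (RefPow.sPow s (n₀ + 1)) V := by
      apply RatRefl.res_injective_of_generic (RefPow.refPow F (n₀ + 1)) htf hW'V hηW
      rw [hT2, app_toF_one]
      exact (SecTwist.map_val (RefPow.sPow s (n₀ + 1)) (homOfLE hW'V)).symm
    rw [← germ_val_sPow s (n₀ + 1) V x hxV, ← hTv]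
    exact hT1
  · refine ⟨1, one_pos, ?_⟩
    have h0 := val_eq_zero_of_generic_not_mem hX hF s (by rw [← hU]; exact hηU) ⊤
    have h1 : RefPow.sPowGerm s 1 x = 0 := by
      rw [sPowGerm_one, h0]
      exact map_zero _
    rw [h1]
    exact zero_mem _


/-! ### (2) implies (1) -/

section two_one

variable (hF : RefHull.IsRef1 F) (s : Coh.structureModule X ⟶ F) (U : X.Opens)
  (hU : (U : Set X) = RefPow.isoLocus s)

/-- `t ↦ t / s^n` on sections over `V` -/
noncomputable def psi (n : ℕ) (V : X.Opens) (t : Γ(RefPow.refPow F n, V)) :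
    Γ(X, U.ι ''ᵁ U.ι ⁻¹ᵁ V) :=
  (phi hF s U hU n).app (U.ι ⁻¹ᵁ V)
    ((RefPow.refPow F n).presheaf.map (homOfLE (U.ι.image_preimage_le V)).op t)

theorem psi_spec (n : ℕ) (V : X.Opens) (t : Γ(RefPow.refPow F n, V)) :
    (RefPow.sPow s n).app (U.ι ''ᵁ U.ι ⁻¹ᵁ V) (toF _ (psi hF s U hU n V t)) =
      (RefPow.refPow F n).presheaf.map (homOfLE (U.ι.image_preimage_le V)).op t :=
  sPow_app_phi_app hF s U hU n (U.ι ⁻¹ᵁ V) _

theorem psi_of_eq (n : ℕ) (V : X.Opens) (t : Γ(RefPow.refPow F n, V))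
    (b : Γ(X, U.ι ''ᵁ U.ι ⁻¹ᵁ V))
    (h : (RefPow.refPow F n).presheaf.map (homOfLE (U.ι.image_preimage_le V)).op t =
      (RefPow.sPow s n).app (U.ι ''ᵁ U.ι ⁻¹ᵁ V) (toF _ b)) :
    psi hF s U hU n V t = b :=
  (congrArg (fun z => (phi hF s U hU n).app (U.ι ⁻¹ᵁ V) z) h).trans
    (phi_app_sPow_app hF s U hU n (U.ι ⁻¹ᵁ V) (toF _ b))

theorem psi_add (n : ℕ) (V : X.Opens) (t₁ t₂ : Γ(RefPow.refPow F n, V)) :
    psi hF s U hU n V (t₁ + t₂) = psi hF s U hU n V t₁ + psi hF s U hU n V t₂ := by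
  apply psi_of_eq
  rw [map_add, ← psi_spec hF s U hU n V t₁, ← psi_spec hF s U hU n V t₂, toF_add]
  exact (map_add _ _ _).symm

theorem psi_smul (n : ℕ) (V : X.Opens) (f : Γ(X, V)) (t : Γ(RefPow.refPow F n, V)) :
    psi hF s U hU n V (f • t) =
      (X.presheaf.map (homOfLE (U.ι.image_preimage_le V)).op).hom f * psi hF s U hU n V t := by
  apply psi_of_eq
  rw [Scheme.Modules.map_smul, ← psi_spec hF s U hU n V t, toF_smul]
  exact (Scheme.Modules.Hom.app_smul _ _ _).symm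

theorem psi_val (n : ℕ) (V : X.Opens) :
    psi hF s U hU n V (SecTwist.val (RefPow.sPow s n) V) = 1 := by
  apply psi_of_eq
  rw [app_toF_one]
  exact SecTwist.map_val (RefPow.sPow s n) (homOfLE (U.ι.image_preimage_le V))

include hF hU in
theorem isAffineHom_of_cond (hX : Pi1.IsNormalScheme X)
    (H2 : ∀ x : X, x ∉ U → ∃ n : ℕ, 0 < n ∧
      RefPow.sPowGerm s n x ∈ IsLocalRing.maximalIdeal (X.presheaf.stalk x) •
        (⊤ : Submodule (X.presheaf.stalk x) ((RefPow.refPow F n).presheaf.stalk x))) :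
    IsAffineHom U.ι := by
  refine ⟨fun V hV => ?_⟩
  rw [← U.ι.isAffineOpen_iff_of_isOpenImmersion]
  have hW'V : U.ι ''ᵁ U.ι ⁻¹ᵁ V ≤ V := U.ι.image_preimage_le V
  haveI : IsNoetherianRing Γ(X, V) := IsLocallyNoetherian.component_noetherian ⟨V, hV⟩
  apply isAffineOpen_of_isAffineOpen_basicOpen _
    ((X.presheaf.map (homOfLE hW'V).op).hom '' {f : Γ(X, V) | X.basicOpen f ≤ U})
  · rw [← Ideal.map_span]
    apply map_eq_top_of_forall_prime
    intro p hpp hIp
    obtain ⟨x', hx'⟩ : ∃ x' : V, hV.primeIdealOf x' = ⟨p, hpp⟩ := by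
      refine ⟨hV.isoSpec.inv ⟨p, hpp⟩, ?_⟩
      show hV.isoSpec.hom (hV.isoSpec.inv _) = _
      rw [← Scheme.Hom.comp_apply, Iso.inv_hom_id]
      rfl
    obtain ⟨x, hxV⟩ := x'
    have hpx : (hV.primeIdealOf ⟨x, hxV⟩).asIdeal = p := congrArg PrimeSpectrum.asIdeal hx'
    have hxU : x ∉ U := by
      intro hxU
      obtain ⟨f, hfU, hxf⟩ := hV.exists_basicOpen_le (⟨x, hxU⟩ : U) hxV
      have hfp : f ∈ p := hIp (Ideal.subset_span hfU)
      rw [mem_basicOpen_iff_notMem_primeIdealOf hV x hxV, hpx] at hxf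
      exact hxf hfp
    obtain ⟨n, -, hn⟩ := H2 x hxU
    have href := isRef1_refPow F hF n
    haveI := href.1.1
    rw [← germ_val_sPow s n V x hxV] at hn
    obtain ⟨a, hxa, ha⟩ := exists_smul_mem_of_germ_mem (RefPow.refPow F n) hV x hxV _ hn
    rw [hpx] at ha
    refine ⟨a, ?_, ?_⟩
    · rw [← hpx]
      exact (mem_basicOpen_iff_notMem_primeIdealOf hV x hxV a).mp hxa
    · have hQ : ∀ μ ∈ p • (⊤ : Submodule Γ(X, V) Γ(RefPow.refPow F n, V)),
          psi hF s U hU n V μ ∈ Ideal.map (X.presheaf.map (homOfLE hW'V).op).hom p := by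
        intro μ hμ
        refine Submodule.smul_induction_on hμ ?_ ?_
        · intro f hf t _
          rw [psi_smul]
          exact Ideal.mul_mem_right _ _ (Ideal.mem_map_of_mem _ hf)
        · intro μ₁ μ₂ h₁ h₂
          rw [psi_add]
          exact add_mem h₁ h₂
      have h3 := hQ _ ha
      rwa [psi_smul, psi_val, mul_one] at h3
  · rintro _ ⟨f, hf, rfl⟩
    have hres := X.basicOpen_res f (homOfLE hW'V).op
    have h4 : X.basicOpen ((X.presheaf.map (homOfLE hW'V).op).hom f) = X.basicOpen f := by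
      rw [show (X.presheaf.map (homOfLE hW'V).op).hom f = X.presheaf.map (homOfLE hW'V).op f
        from rfl, hres, inf_eq_right, image_preimage_eq]
      exact le_inf hf (X.basicOpen_le f)
    rw [h4]
    exact hV.basicOpen f

end two_one

/-- **S16151** -/
theorem s16151 (X : Scheme.{u}) [IsIntegral X] [IsLocallyNoetherian X]
    (hX : Pi1.IsNormalScheme X) (F : X.Modules) (hF : RefHull.IsRef1 F)
    (s : Coh.structureModule X ⟶ F) (U : X.Opens) (hU : (U : Set X) = RefPow.isoLocus s) :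
    IsAffineHom U.ι ↔
      ∀ x : X, x ∉ U → ∃ n : ℕ, 0 < n ∧
        RefPow.sPowGerm s n x ∈ IsLocalRing.maximalIdeal (X.presheaf.stalk x) •
          (⊤ : Submodule (X.presheaf.stalk x) ((RefPow.refPow F n).presheaf.stalk x)) := by
  constructor
  · intro h x hxU
    exact cond_of_isAffineHom hX hF s U hU x hxU
  · exact isAffineHom_of_cond hF s U hU hX

end Groth.Agent.Lead.RefPowD
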