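import Mathlib
import Groth.Prelude.Def_RefHull
import Groth.Prelude.Def_RefFun
import Groth.Prelude.Def_Pi1
import Groth.Agent.Lead.Ref1A
import Groth.Agent.Lead.ReflExtC
import Groth.Agent.Lead.PerfLib5
import Groth.Agent.Helper4.FTLocal
import Groth.Agent.Helper4.SubSec
import Groth.Agent.Helper4.StalkExact

/-!
# The reflexive hull of a finite type submodule of a flat module on a normal scheme
-/

set_option autoImplicit false
set_option linter.style.haveILetI false
set_option linter.unusedSectionVars false

universe u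

open CategoryTheory CategoryTheory.Limits AlgebraicGeometry TopologicalSpace Opposite

namespace Groth.Agent.Lead.ReflExtD

variable {X : Scheme.{u}}

theorem mono_restrict (U : X.Opens) {F A : X.Modules} (ι : F ⟶ A) [Mono ι] :
    Mono ((Scheme.Modules.restrictFunctor U.ι).map ι) := by
  apply Groth.Agent.Helper4.SubSec.mono_of_app_injective
  intro T
  exact Groth.Agent.Helper4.AffineDict.app_injective_of_mono ι (U.ι ''ᵁ T)

/-- **a finite type submodule of a quasi-coherent module is quasi-coherent** -/
theorem isQuasicoherent_of_mono_of_isFT (A F : X.Modules) [A.IsQuasicoherent] (ι : F ⟶ A)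
    [Mono ι] (hF : SheafOfModules.IsFiniteType (R := X.ringCatSheaf) F) : F.IsQuasicoherent := by
  apply Groth.Agent.Lead.PerfLib.isQuasicoherent_of_locally
  intro x
  obtain ⟨W, hxW, hgen⟩ := Groth.Agent.Helper4.FTLocal.exists_generatingSections_restrict F hF x
  obtain ⟨σ, hσ⟩ := hgen W le_rfl
  refine ⟨W, W.ι, inferInstance, by simpa using hxW, ?_⟩
  haveI := mono_restrict W ι
  let ι' : F.restrict W.ι ⟶ A.restrict W.ι := (Scheme.Modules.restrictFunctor W.ι).map ι
  haveI : Mono ι' := mono_restrict W ι
  haveI hu : (Coh.structureModule (W : Scheme.{u})).IsQuasicoherent := (HomShH.isCoh_unit _).1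
  haveI : (SheafOfModules.free (R := (W : Scheme.{u}).ringCatSheaf) σ.I).IsQuasicoherent :=
    Groth.Agent.Helper4.QcohLimits.isQuasicoherent_sigma _ (fun _ => hu)
  haveI : (A.restrict W.ι).IsQuasicoherent := inferInstance
  let P : (W : Scheme.{u}).Modules := SheafOfModules.free (R := (W : Scheme.{u}).ringCatSheaf) σ.I
  let π' : P ⟶ F.restrict W.ι := σ.π
  haveI : P.IsQuasicoherent := ‹_›
  haveI := Groth.Agent.Helper4.QcohLimits.isQuasicoherent_image (π' ≫ ι')
  haveI : Epi π' := σ.epi
  haveI : StrongEpi π' := strongEpi_of_epi π'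
  let e : F.restrict W.ι ≅ Abelian.image (π' ≫ ι') :=
    Limits.image.isoStrongEpiMono π' ι' rfl ≪≫ (Abelian.imageIsoImage (π' ≫ ι')).symm
  exact Groth.Agent.Helper4.QcohLimits.isQuasicoherent_of_iso e.symm

theorem isReflexive_stalk_dual' [IsLocallyNoetherian X] (G : X.Modules) (hG : Coh.IsCoh G)
    (x : X) [IsDomain (X.presheaf.stalk x)] :
    Module.IsReflexive (X.presheaf.stalk x) ((RefHull.dual G).presheaf.stalk x) := by
  have hFP := Groth.Agent.Helper4.CohFP.isFP_of_isCoh G hG.1 hG.2
  haveI := hG.1
  haveI := hFP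
  haveI : Module.Finite (X.presheaf.stalk x) (G.presheaf.stalk x) :=
    Groth.Agent.Helper4.FinLocFree2.finite_stalk G hG.2 x
  have hE : Function.Bijective (RefHull.evalStalk G (Coh.structureModule X) x) :=
    ⟨Groth.Agent.Lead.HomSh.evalStalk_injective_of_isFT G _ inferInstance x,
      Groth.Agent.Lead.HomShB.evalStalk_surjective G _ hFP x⟩
  haveI : Module.IsReflexive (X.presheaf.stalk x) ((Coh.structureModule X).presheaf.stalk x) :=
    Module.equiv (Groth.Agent.Lead.Hartogs2.unitEquiv x)
  haveI : Module.Finite (X.presheaf.stalk x) ((Coh.structureModule X).presheaf.stalk x) :=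
    Module.Finite.equiv (Groth.Agent.Lead.Hartogs2.unitEquiv x)
  haveI : Module.IsReflexive (X.presheaf.stalk x)
      (G.presheaf.stalk x →ₗ[X.presheaf.stalk x] (Coh.structureModule X).presheaf.stalk x) :=
    ReflAlgB.isReflexive_linearMap (X.presheaf.stalk x) _ _
  exact Module.equiv (LinearEquiv.ofBijective (RefHull.evalStalk G (Coh.structureModule X) x) hE).symm

/-- **S16486** -/
theorem s16486 [IsLocallyNoetherian X] (hS : Pi1.IsNormalScheme X) (A F : X.Modules)
    (hA : Coh.IsQCoh A) (hAfl : FlatMod.IsFlat A) (ι : F ⟶ A) [Mono ι] (hF : CohB1.IsFT F)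
    (U : X.Opens) (hU : (U : Set X) = {s : X | FlatMod.IsFlatAt F s}) :
    ∃ e : RefHull.ddual F ≅ (Scheme.Modules.pushforward U.ι).obj (F.restrict U.ι),
      RefHull.bidualMap F ≫ e.hom = (Scheme.Modules.restrictAdjunction U.ι).unit.app F := by
  haveI : A.IsQuasicoherent := hA
  haveI hFq : F.IsQuasicoherent := isQuasicoherent_of_mono_of_isFT A F ι hF
  have hFc : Coh.IsCoh F := ⟨hFq, hF⟩
  have hFP := Groth.Agent.Helper4.CohFP.isFP_of_isCoh F hFc.1 hFc.2
  have hfin : ∀ x : X, Module.Finite (X.presheaf.stalk x) (F.presheaf.stalk x) :=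
    fun x => Groth.Agent.Helper4.FinLocFree2.finite_stalk F hF x
  -- the stalks of `F` are torsion free
  have htf : ∀ x : X, Module.IsTorsionFree (X.presheaf.stalk x) (F.presheaf.stalk x) := by
    intro x
    haveI := (hS x).1
    haveI : Module.Flat (X.presheaf.stalk x) (A.presheaf.stalk x) := hAfl x
    exact Function.Injective.moduleIsTorsionFree
      (Groth.Agent.Helper4.StalkDict.stalkLin ι x)
      (Groth.Agent.Helper4.StalkExact.stalkLin_injective ι x) (fun r m => map_smul _ r m)
  -- the points outside `U` have depth at least two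
  have hdepth : ∀ x : X, x ∉ U →
      (2 : ℕ∞) ≤ LocCoh.depth (X.presheaf.stalk x) (X.presheaf.stalk x) := by
    intro x hx
    haveI := (hS x).1
    haveI := (hS x).2
    apply ReflExtB.depth_two_of_normal
    by_contra hcon
    apply hx
    have h1 := Ref1A.dim_le_one_of_not_two_le _ hcon
    haveI : IsPrincipalIdealRing (X.presheaf.stalk x) :=
      ReflExtB.isPrincipalIdealRing_of_normal_dim_le_one _ h1
    haveI := htf x
    haveI := hfin x
    haveI : Module.Free (X.presheaf.stalk x) (F.presheaf.stalk x) :=
      Module.free_of_finite_type_torsion_free'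
    have : x ∈ (U : Set X) := by
      rw [hU]
      exact (inferInstance : Module.Flat (X.presheaf.stalk x) (F.presheaf.stalk x))
    exact this
  -- the stalks at the points of `U` are reflexive
  have hrefl : ∀ x ∈ U, Module.IsReflexive (X.presheaf.stalk x) (F.presheaf.stalk x) := by
    intro x hx
    have hfl : Module.Flat (X.presheaf.stalk x) (F.presheaf.stalk x) := by
      have : x ∈ (U : Set X) := hx
      rw [hU] at this
      exact this
    haveI := hfin x
    haveI : Module.FinitePresentation (X.presheaf.stalk x) (F.presheaf.stalk x) :=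
      Module.finitePresentation_of_finite _ _
    haveI : Module.Free (X.presheaf.stalk x) (F.presheaf.stalk x) :=
      Module.free_of_flat_of_isLocalRing
    infer_instance
  haveI h1 := ReflExtC.isIso_restrict_bidualMap U F hFc hrefl
  have hDc := Ref1A.isCoh_dual F hFc
  haveI h2 : IsIso ((Scheme.Modules.restrictAdjunction U.ι).unit.app (RefHull.ddual F)) :=
    ReflExtA.isIso_unit U hdepth (RefHull.ddual F) (ReflExtC.isCoh_ddual F hFc)
      (fun x => by
        haveI := (hS x).1
        exact isReflexive_stalk_dual' (RefHull.dual F) hDc x)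
  let e : RefHull.ddual F ≅ (Scheme.Modules.pushforward U.ι).obj (F.restrict U.ι) :=
    asIso ((Scheme.Modules.restrictAdjunction U.ι).unit.app (RefHull.ddual F)) ≪≫
      (Scheme.Modules.pushforward U.ι).mapIso
        (asIso ((Scheme.Modules.restrictFunctor U.ι).map (RefHull.bidualMap F))).symm
  refine ⟨e, ?_⟩
  have nat := (Scheme.Modules.restrictAdjunction U.ι).unit.naturality (RefHull.bidualMap F)
  change RefHull.bidualMap F ≫
    ((Scheme.Modules.restrictAdjunction U.ι).unit.app (RefHull.ddual F) ≫
      (Scheme.Modules.pushforward U.ι).map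
        (inv ((Scheme.Modules.restrictFunctor U.ι).map (RefHull.bidualMap F)))) = _
  rw [← Category.assoc]
  have nat' : RefHull.bidualMap F ≫
      (Scheme.Modules.restrictAdjunction U.ι).unit.app (RefHull.ddual F) =
      (Scheme.Modules.restrictAdjunction U.ι).unit.app F ≫
        (Scheme.Modules.pushforward U.ι).map
          ((Scheme.Modules.restrictFunctor U.ι).map (RefHull.bidualMap F)) := nat
  rw [nat', Category.assoc, ← CategoryTheory.Functor.map_comp, IsIso.hom_inv_id,
    CategoryTheory.Functor.map_id]
  exact Category.comp_id _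

end Groth.Agent.Lead.ReflExtD
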