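import Mathlib
import Groth.Agent.Helper9.IdealComap

/-!
# Krull's height theorem for the preimage of a locally-closed subscheme cut out by `c` equations
-/

set_option autoImplicit false
universe u
open CategoryTheory CategoryTheory.Limits AlgebraicGeometry TopologicalSpace

namespace Groth.Agent.Lead.RegDimA

/-- if the restriction of `f` over the open `U` is a closed immersion, then the closure of the range
of `f` meets `U` only in the range of `f`. -/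
theorem closure_range_inter_subset {X Y : Scheme.{u}} (f : X ⟶ Y) (U : Y.Opens)
    [hcl : IsClosedImmersion (f ∣_ U)] (y : Y) (hyU : y ∈ U) (hy : y ∈ closure (Set.range f)) :
    y ∈ Set.range f := by
  have h1 : IsClosed (Set.range (f ∣_ U)) := (f ∣_ U).isClosedEmbedding.isClosed_range
  have h2 : Set.range (f ∣_ U) = U.ι ⁻¹' Set.range f := by
    ext ⟨w, hw⟩
    constructor
    · rintro ⟨a, ha⟩
      refine ⟨(f ⁻¹ᵁ U).ι a, ?_⟩
      have := congrArg (fun t => U.ι t) ha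
      simp only at this
      rw [← this, ← Scheme.Hom.comp_apply, ← Scheme.Hom.comp_apply, morphismRestrict_ι]
    · rintro ⟨a, ha⟩
      have haU : a ∈ f ⁻¹ᵁ U := by
        show f a ∈ U
        rw [ha]; exact hw
      refine ⟨⟨a, haU⟩, ?_⟩
      apply U.ι.injective
      rw [← Scheme.Hom.comp_apply, morphismRestrict_ι, Scheme.Hom.comp_apply]
      exact ha
  rw [h2] at h1
  obtain ⟨D, hD, hDU⟩ := isClosed_induced_iff.1 h1
  by_contra hyC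
  have hyD : y ∉ D := by
    intro hyD
    exact hyC ((Set.ext_iff.1 hDU ⟨y, hyU⟩).1 hyD)
  have hopen : IsOpen ((U : Set Y) ∩ Dᶜ) := U.isOpen.inter hD.isOpen_compl
  obtain ⟨c, ⟨hcU, hcD⟩, hcC⟩ := mem_closure_iff.1 hy _ hopen ⟨hyU, hyD⟩
  exact hcD ((Set.ext_iff.1 hDU ⟨c, hcU⟩).2 hcC)

/-- Krull's height theorem: at the image in `Z` of a maximal point of `X ×_Y Z`, where `f : X ⟶ Y` is
cut out near the point by `c` equations, the local ring of `Z` has dimension at most `c`. -/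
theorem stalk_dim_le {X Y Z : Scheme.{u}} [IsLocallyNoetherian Z] (f : X ⟶ Y) [QuasiCompact f]
    [IsImmersion f] (ι : Z ⟶ Y) [IsAffineHom ι] (ξ : ↥(pullback f ι))
    (hξ : ∀ ξ' : ↥(pullback f ι), ξ' ⤳ ξ → ξ' = ξ)
    (U : Y.affineOpens) (hxU : f (pullback.fst f ι ξ) ∈ U.1) [hcl : IsClosedImmersion (f ∣_ U.1)]
    (rs : List Γ(Y, U.1)) (hker : RingHom.ker (f.app U.1).hom = Ideal.ofList rs) :
    ringKrullDim (Z.presheaf.stalk (pullback.snd f ι ξ)) ≤ rs.length := by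
  classical
  set p₂ := pullback.snd f ι with hp₂
  set z := p₂ ξ with hz
  have hcond : ι z = f (pullback.fst f ι ξ) := by
    rw [hz, hp₂, ← Scheme.Hom.comp_apply, ← pullback.condition, Scheme.Hom.comp_apply]
  have hV : IsAffineOpen (ι ⁻¹ᵁ U.1) := U.2.preimage ι
  have hzV : z ∈ ι ⁻¹ᵁ U.1 := by
    show ι z ∈ U.1
    rw [hcond]; exact hxU
  haveI : IsNoetherianRing Γ(Z, ι ⁻¹ᵁ U.1) :=
    IsLocallyNoetherian.component_noetherian ⟨ι ⁻¹ᵁ U.1, hV⟩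
  set 𝓙 : Z.IdealSheafData := f.ker.comap ι with h𝓙
  have hideal : 𝓙.ideal ⟨ι ⁻¹ᵁ U.1, hV⟩ = Ideal.ofList (rs.map (ι.app U.1).hom) := by
    rw [h𝓙, Groth.Agent.Helper9.IdealComap.ideal_comap ι f.ker U ⟨ι ⁻¹ᵁ U.1, hV⟩ le_rfl,
      Scheme.Hom.ker_apply, hker, Ideal.map_ofList, Scheme.Hom.app_eq_appLE]
  -- support of 𝓙 inside the chart is the range of p₂
  have hsupp : ∀ z' : Z, z' ∈ ι ⁻¹ᵁ U.1 → (z' ∈ 𝓙.support ↔ z' ∈ Set.range p₂) := by
    intro z' hz'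
    rw [hp₂, Scheme.Pullback.range_snd, h𝓙, Scheme.IdealSheafData.support_comap]
    show ι z' ∈ (f.ker.support : Set Y) ↔ ι z' ∈ Set.range f
    rw [Scheme.Hom.support_ker]
    constructor
    · intro h
      exact closure_range_inter_subset f U.1 (ι z') hz' h
    · intro h
      exact subset_closure h
  set 𝔮 := hV.primeIdealOf ⟨z, hzV⟩ with h𝔮
  have hfs : hV.fromSpec 𝔮 = z := hV.fromSpec_primeIdealOf ⟨z, hzV⟩
  have hzl : ∀ 𝔭 : PrimeSpectrum Γ(Z, ι ⁻¹ᵁ U.1),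
      (hV.fromSpec 𝔭 ∈ 𝓙.support ↔ 𝓙.ideal ⟨ι ⁻¹ᵁ U.1, hV⟩ ≤ 𝔭.asIdeal) := by
    intro 𝔭
    have hmem : hV.fromSpec 𝔭 ∈ ι ⁻¹ᵁ U.1 := by
      have := hV.range_fromSpec
      have h2 : hV.fromSpec 𝔭 ∈ Set.range hV.fromSpec := ⟨𝔭, rfl⟩
      rw [this] at h2
      exact h2
    rw [Scheme.IdealSheafData.mem_support_iff_of_mem (U := ⟨ι ⁻¹ᵁ U.1, hV⟩) hmem]
    have h3 := hV.fromSpec_preimage_zeroLocus (𝓙.ideal ⟨ι ⁻¹ᵁ U.1, hV⟩ : Set Γ(Z, ι ⁻¹ᵁ U.1))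
    have h4 : hV.fromSpec 𝔭 ∈ Z.zeroLocus (U := ι ⁻¹ᵁ U.1)
        (𝓙.ideal ⟨ι ⁻¹ᵁ U.1, hV⟩ : Set Γ(Z, ι ⁻¹ᵁ U.1)) ↔
        𝔭 ∈ hV.fromSpec ⁻¹' Z.zeroLocus (U := ι ⁻¹ᵁ U.1)
          (𝓙.ideal ⟨ι ⁻¹ᵁ U.1, hV⟩ : Set Γ(Z, ι ⁻¹ᵁ U.1)) := Iff.rfl
    rw [h4, h3]
    exact (PrimeSpectrum.mem_zeroLocus 𝔭 _).trans SetLike.coe_subset_coe
  have hmin : 𝔮.asIdeal ∈ (𝓙.ideal ⟨ι ⁻¹ᵁ U.1, hV⟩).minimalPrimes := by
    refine ⟨⟨𝔮.2, ?_⟩, ?_⟩
    · rw [← hzl 𝔮, hfs, hsupp z hzV]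
      exact ⟨ξ, rfl⟩
    · rintro p' ⟨hp'prime, hp'le⟩ hp'q
      set 𝔭' : PrimeSpectrum Γ(Z, ι ⁻¹ᵁ U.1) := ⟨p', hp'prime⟩ with h𝔭'
      have hspec : 𝔭' ⤳ 𝔮 := (PrimeSpectrum.le_iff_specializes 𝔭' 𝔮).1 hp'q
      have hspec2 : hV.fromSpec 𝔭' ⤳ z := by
        rw [← hfs]
        exact hspec.map hV.fromSpec.continuous
      have hmem : hV.fromSpec 𝔭' ∈ ι ⁻¹ᵁ U.1 := by
        have := hV.range_fromSpec
        have h2 : hV.fromSpec 𝔭' ∈ Set.range hV.fromSpec := ⟨𝔭', rfl⟩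
        rw [this] at h2
        exact h2
      have hin : hV.fromSpec 𝔭' ∈ Set.range p₂ := by
        rw [← hsupp _ hmem, hzl 𝔭']
        exact hp'le
      obtain ⟨ξ', hξ'⟩ := hin
      have hspec3 : ξ' ⤳ ξ := by
        rw [← p₂.isEmbedding.isInducing.specializes_iff, hξ']
        exact hspec2
      have hξeq := hξ ξ' hspec3
      have : hV.fromSpec 𝔭' = hV.fromSpec 𝔮 := by
        rw [hfs, ← hξ', hξeq]
      have h𝔭eq : 𝔭' = 𝔮 := hV.fromSpec.isOpenEmbedding.injective this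
      rw [← h𝔭eq]
  have hht : 𝔮.asIdeal.height ≤ rs.length := by
    rw [hideal] at hmin
    have h1 := Ideal.height_le_card_of_mem_minimalPrimes_span_finset
      (s := (rs.map (ι.app U.1).hom).toFinset) (p := 𝔮.asIdeal) (by
        rw [Ideal.ofList] at hmin
        convert hmin using 2
        ext a
        simp)
    refine h1.trans ?_
    have h2 : (rs.map (ι.app U.1).hom).toFinset.card ≤ rs.length :=
      (List.toFinset_card_le _).trans (by rw [List.length_map])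
    exact_mod_cast h2
  letI algBT : Algebra Γ(Z, ι ⁻¹ᵁ U.1) (Z.presheaf.stalk z) :=
    (Z.presheaf.germ (ι ⁻¹ᵁ U.1) z hzV).hom.toAlgebra
  haveI locT : IsLocalization.AtPrime (Z.presheaf.stalk z)
      (hV.primeIdealOf ⟨z, hzV⟩).asIdeal := hV.isLocalization_stalk ⟨z, hzV⟩
  rw [IsLocalization.AtPrime.ringKrullDim_eq_height 𝔮.asIdeal (Z.presheaf.stalk z)]
  exact_mod_cast hht

end Groth.Agent.Lead.RegDimA
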