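import Mathlib
import Groth.Prelude.Def_RegImm
import Groth.Agent.Helper5.VarDim7
import Groth.Agent.Lead.RegDimA

/-!
# Dimension of the components of the preimage of a subvariety under a regular immersion
-/

set_option autoImplicit false
universe u
open CategoryTheory CategoryTheory.Limits AlgebraicGeometry TopologicalSpace

namespace Groth.Agent.Lead.RegDimB

open Groth.Agent.Helper5.VarDim

theorem main (K : Type u) [Field K] (X Y Z : Scheme.{u})
    (gY : Y ⟶ Spec (CommRingCat.of K)) [LocallyOfFiniteType gY] [IsNoetherian X]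
    (f : X ⟶ Y) (c : ℕ)
    (hreg : RegImm.IsRegularImmersionOfCodim RegImm.Kind.regular c f) (ι : Z ⟶ Y)
    [IsClosedImmersion ι] [IsIntegral Z] (d : ℕ) (hd : topologicalKrullDim Z = d)
    (T : Set ↥(pullback f ι)) (hT : T ∈ irreducibleComponents ↥(pullback f ι)) :
    ((d : ℕ) : WithBot ℕ∞) ≤ topologicalKrullDim ↥T + c := by
  haveI : IsImmersion f := hreg.1
  haveI : QuasiCompact f := inferInstance
  haveI : LocallyOfFiniteType (ι ≫ gY) := inferInstance
  haveI : IsLocallyNoetherian Z := LocallyOfFiniteType.isLocallyNoetherian (ι ≫ gY)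
  -- generic point of T
  have hTirr : IsIrreducible T := hT.1
  have hTcl : IsClosed T := isClosed_of_mem_irreducibleComponents T hT
  obtain ⟨ξ, hξ⟩ := QuasiSober.sober hTirr hTcl
  have hξT : closure ({ξ} : Set ↥(pullback f ι)) = T := hξ.def
  have hξmax : ∀ ξ' : ↥(pullback f ι), ξ' ⤳ ξ → ξ' = ξ := by
    intro ξ' h
    have h1 : closure ({ξ} : Set ↥(pullback f ι)) ⊆ closure ({ξ'} : Set ↥(pullback f ι)) :=
      (specializes_iff_closure_subset).1 h
    have h2 : IsIrreducible (closure ({ξ'} : Set ↥(pullback f ι))) :=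
      isIrreducible_singleton.closure
    have h3 : closure ({ξ'} : Set ↥(pullback f ι)) ≤ T := hT.2 h2 (hξT ▸ h1)
    have h4 : closure ({ξ'} : Set ↥(pullback f ι)) = closure {ξ} :=
      le_antisymm (hξT ▸ h3) h1
    have h5 : IsGenericPoint ξ' (closure ({ξ} : Set ↥(pullback f ι))) := h4
    exact h5.eq isGenericPoint_closure
  -- the chart
  obtain ⟨U, hxU, hcl, rs, hlen, -, hker⟩ := hreg.2 (pullback.fst f ι ξ)
  haveI := hcl
  have hdimz := RegDimA.stalk_dim_le f ι ξ hξmax U hxU rs hker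
  rw [hlen] at hdimz
  -- dimension formulas
  set p₂ := pullback.snd f ι with hp₂
  set z := p₂ ξ with hz
  obtain ⟨n₂, htr₂, hloc, -⟩ := localDim_formula K (ι ≫ gY) z
  rw [localDim_eq_dim_of_irreducible K (ι ≫ gY) z, hd] at hloc
  haveI : LocallyOfFiniteType (p₂ ≫ ι ≫ gY) := inferInstance
  obtain ⟨n₁, hdim₁, htr₁⟩ := dim_closure_point K (p₂ ≫ ι ≫ gY) ξ
  rw [hξT] at hdim₁
  have hn : n₂ = n₁ := by
    have h1 := trdeg_resHom_of_bijective K p₂ (ι ≫ gY) ξ
      (residueFieldMap_bijective_of_surjectiveOnStalks p₂ ξ)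
    rw [htr₁] at h1
    rw [htr₂] at h1
    exact_mod_cast h1
  rw [hdim₁, hloc, hn]
  calc ringKrullDim ↑(Z.presheaf.stalk z) + (n₁ : WithBot ℕ∞) ≤ (c : WithBot ℕ∞) + n₁ := by
        gcongr
    _ = (n₁ : WithBot ℕ∞) + c := add_comm _ _

end Groth.Agent.Lead.RegDimB
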