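import Mathlib
open AlgebraicGeometry CategoryTheory
universe u

namespace Groth.Agent.Lead.RegEmb

theorem stalk_regular (P : Type u) [CommRing P] [IsRegularRing P] (y : Spec (CommRingCat.of P)) :
    IsRegularLocalRing ((Spec (CommRingCat.of P)).presheaf.stalk y) := by
  haveI : IsRegularLocalRing (Localization.AtPrime y.asIdeal) := inferInstance
  exact IsRegularLocalRing.of_ringEquiv
    (StructureSheaf.stalkIso P y).toRingEquiv

theorem main (k : Type u) [Field k] {X : Scheme.{u}}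
    (f : X ⟶ Spec (CommRingCat.of k)) [LocallyOfFiniteType f] (x : X) :
    ∃ (U : X.Opens) (_ : x ∈ U) (Y : Scheme.{u}) (g : Y ⟶ Spec (CommRingCat.of k)) (i : (U : Scheme.{u}) ⟶ Y),
      IsImmersion i ∧ i ≫ g = U.ι ≫ f ∧ ∀ y : Y, IsRegularLocalRing (Y.presheaf.stalk y) := by
  obtain ⟨U, hU, hxU, -⟩ : ∃ U : X.Opens, IsAffineOpen U ∧ x ∈ U ∧ U ≤ ⊤ :=
    (TopologicalSpace.Opens.isBasis_iff_nbhd.1 X.isBasis_affineOpens)
      (show x ∈ (⊤ : X.Opens) from trivial)
  haveI : IsAffine (U : Scheme.{u}) := hU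
  obtain ⟨h, hh⟩ : ∃ h : (U : Scheme.{u}) ⟶ Spec (CommRingCat.of k), h = U.ι ≫ f := ⟨_, rfl⟩
  haveI : LocallyOfFiniteType h := by rw [hh]; infer_instance
  -- the ring map
  let ψ : CommRingCat.of k ⟶ Γ((U : Scheme.{u}), ⊤) :=
    (Scheme.ΓSpecIso (CommRingCat.of k)).inv ≫ h.appTop
  have hψ : h = (U : Scheme.{u}).isoSpec.hom ≫ Spec.map ψ := by
    rw [Spec.map_comp, ← Scheme.isoSpec_Spec_inv, ← Category.assoc,
      Scheme.isoSpec_hom_naturality, Category.assoc, Iso.hom_inv_id, Category.comp_id]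
  have hft : ψ.hom.FiniteType := by
    have h1 : (h.appTop).hom.FiniteType :=
      (HasRingHomProperty.iff_of_isAffine (P := @LocallyOfFiniteType)).mp inferInstance
    have h2 : ψ.hom = (h.appTop).hom.comp (Scheme.ΓSpecIso (CommRingCat.of k)).inv.hom := rfl
    rw [h2]
    refine h1.comp (RingHom.FiniteType.of_surjective _ ?_)
    exact (ConcreteCategory.bijective_of_isIso (Scheme.ΓSpecIso (CommRingCat.of k)).inv).2
  letI alg : Algebra k Γ((U : Scheme.{u}), ⊤) := ψ.hom.toAlgebra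
  haveI : Algebra.FiniteType k Γ((U : Scheme.{u}), ⊤) := hft
  obtain ⟨n, π, hπ⟩ := Algebra.FiniteType.iff_quotient_mvPolynomial''.mp
    (inferInstance : Algebra.FiniteType k Γ((U : Scheme.{u}), ⊤))
  haveI : IsClosedImmersion (Spec.map (CommRingCat.ofHom π.toRingHom)) :=
    IsClosedImmersion.spec_of_surjective _ hπ
  haveI : IsIso (U : Scheme.{u}).isoSpec.hom := inferInstance
  haveI : IsClosedImmersion (U : Scheme.{u}).isoSpec.hom := inferInstance
  haveI : IsClosedImmersion ((U : Scheme.{u}).isoSpec.hom ≫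
      Spec.map (CommRingCat.ofHom π.toRingHom)) :=
    MorphismProperty.comp_mem _ _ _ ‹IsClosedImmersion (U : Scheme.{u}).isoSpec.hom›
      ‹IsClosedImmersion (Spec.map (CommRingCat.ofHom π.toRingHom))›
  haveI : IsImmersion ((U : Scheme.{u}).isoSpec.hom ≫
      Spec.map (CommRingCat.ofHom π.toRingHom)) := inferInstance
  refine ⟨U, hxU, Spec (CommRingCat.of (MvPolynomial (Fin n) k)),
    Spec.map (CommRingCat.ofHom (algebraMap k (MvPolynomial (Fin n) k))),
    (U : Scheme.{u}).isoSpec.hom ≫ Spec.map (CommRingCat.ofHom π.toRingHom), inferInstance, ?_,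
    fun y => stalk_regular _ y⟩
  rw [← hh, hψ, Category.assoc, ← Spec.map_comp]
  congr 2
  ext a
  exact π.commutes a

end Groth.Agent.Lead.RegEmb
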