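import Mathlib
import Groth.Prelude.Def_CAlg
import Groth.Prelude.Def_RegImm
import Groth.Agent.Helper2.DepthCM
import Groth.Agent.Helper8.RegSeqC

/-!
# Regularly immersed closed subschemes of CM schemes have no embedded points (S15824)
-/

set_option autoImplicit false
universe u
open CategoryTheory AlgebraicGeometry IsLocalRing RingTheory.Sequence Submodule

namespace Groth.Agent.Lead.RegImmCM

open Groth.Agent.Helper2 Groth.Agent.Helper8

/-- cancellation of a natural number in `WithBot ℕ∞`. -/
theorem cancel_nat (x : WithBot ℕ∞) (n : ℕ)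
    (h : x + ((n : ℕ∞) : WithBot ℕ∞) = ((n : ℕ∞) : WithBot ℕ∞)) : x = 0 := by
  induction x using WithBot.recBotCoe with
  | bot => simp at h
  | coe y =>
    rw [← WithBot.coe_add, WithBot.coe_inj] at h
    induction y using ENat.recTopCoe with
    | top =>
      exfalso
      rw [top_add] at h
      exact ENat.top_ne_natCast n h
    | coe m =>
      have h2 : m + n = n := by exact_mod_cast h
      have h3 : m = 0 := by omega
      subst h3
      rfl

/-- a quotient `B` of a CM local ring by a regular sequence in which the maximal ideal is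
associated has dimension `0` -/
theorem dim_zero_of_ass {R B : Type u} [CommRing R] [CommRing B]
    [hR : LocCoh.IsCohenMacaulayLocalRing R] [IsLocalRing B]
    (φ : R →+* B) (hφ : Function.Surjective φ) (rs : List R) (hrs : IsRegular R rs)
    (hker : RingHom.ker φ = Ideal.ofList rs)
    (hass : IsAssociatedPrime (maximalIdeal B) B) : ringKrullDim B = 0 := by
  haveI : IsNoetherianRing R := hR.toIsNoetherian
  haveI : IsLocalRing R := hR.toIsLocalRing
  haveI : IsNoetherianRing B := isNoetherianRing_of_surjective R B φ hφ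
  haveI : IsLocalHom φ := hφ.isLocalHom
  have hkm : RingHom.ker φ ≤ maximalIdeal R :=
    IsLocalRing.le_maximalIdeal (RingHom.ker_ne_top φ)
  have mem : ∀ r ∈ rs, r ∈ maximalIdeal R := by
    intro r hr
    apply hkm
    rw [hker]
    exact Ideal.subset_span hr
  have hIM : (maximalIdeal R) • (⊤ : Submodule R R) ≠ ⊤ := by
    rw [smul_eq_mul, Ideal.mul_top]
    exact (maximalIdeal.isMaximal R).ne_top
  have hdepth := DepthCM.idealDepth_quot_ofList (maximalIdeal R) R hIM rs
    hrs.toIsWeaklyRegular mem
  -- the witness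
  obtain ⟨-, b, hb⟩ := isAssociatedPrime_iff.mp hass
  have hb0 : b ≠ 0 := by
    rintro rfl
    have : (1 : B) ∈ maximalIdeal B := by
      rw [hb, mem_colon_singleton]
      simp
    exact (maximalIdeal.isMaximal B).ne_top ((Ideal.eq_top_iff_one _).mpr this)
  obtain ⟨r₀, hr₀⟩ := hφ b
  have hIM' := DepthCM.smul_top_quot_ne_top hIM (Ideal.ofList rs) (DepthCM.ofList_le rs mem)
  have hzero : LocCoh.idealDepth (maximalIdeal R)
      (R ⧸ Ideal.ofList rs • (⊤ : Submodule R R)) = 0 := by
    unfold LocCoh.idealDepth
    rw [if_neg hIM']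
    apply le_antisymm _ bot_le
    apply iSup_le
    intro l
    apply iSup_le
    rintro ⟨hl, hlm⟩
    cases l with
    | nil => simp
    | cons r t =>
      exfalso
      have hreg := ((isWeaklyRegular_cons_iff _ r t).mp hl).1
      have hrm : r ∈ maximalIdeal R := hlm r (List.mem_cons_self)
      have h1 : φ r ∈ maximalIdeal B := by
        rw [mem_maximalIdeal, mem_nonunits_iff] at hrm ⊢
        exact fun h => hrm (IsLocalHom.map_nonunit r h)
      have h2 : φ r • b = 0 := by
        rw [hb, mem_colon_singleton, mem_bot] at h1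
        exact h1
      have h3 : r • (Submodule.Quotient.mk r₀ : R ⧸ Ideal.ofList rs • (⊤ : Submodule R R)) = 0 := by
        rw [← Submodule.Quotient.mk_smul, Submodule.Quotient.mk_eq_zero, smul_eq_mul, Ideal.mul_top,
          ← hker, RingHom.mem_ker, smul_eq_mul, map_mul, hr₀]
        exact h2
      have h4 : (Submodule.Quotient.mk r₀ : R ⧸ Ideal.ofList rs • (⊤ : Submodule R R)) = 0 :=
        hreg (by show r • _ = r • _; rw [h3, smul_zero])
      rw [Submodule.Quotient.mk_eq_zero, smul_eq_mul, Ideal.mul_top, ← hker, RingHom.mem_ker,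
        hr₀] at h4
      exact hb0 h4
  rw [hzero, zero_add] at hdepth
  have hcm := hR.supportDim_eq_depth
  rw [Module.supportDim_self_eq_ringKrullDim] at hcm
  have hdimR : ringKrullDim R = ((rs.length : ℕ∞) : WithBot ℕ∞) := by
    rw [hcm]
    unfold LocCoh.depth
    rw [← hdepth]
  have hsum := ringKrullDim_add_length_eq_ringKrullDim_of_isRegular rs hrs
  rw [hdimR] at hsum
  have h0 : ringKrullDim (R ⧸ Ideal.ofList rs) = 0 :=
    cancel_nat _ rs.length (by exact_mod_cast hsum)
  rw [← hker] at h0
  rw [← h0]
  exact (ringKrullDim_eq_of_ringEquiv (RingHom.quotientKerEquivOfSurjective hφ)).symm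

theorem s15824 {X Z : Scheme.{u}}
    (hCM : ∀ x : X, LocCoh.IsCohenMacaulayLocalRing (X.presheaf.stalk x))
    (i : Z ⟶ X) [IsClosedImmersion i] (hi : RegImm.IsRegularImmersion RegImm.Kind.regular i) (z : Z)
    (hz : IsAssociatedPrime (IsLocalRing.maximalIdeal (Z.presheaf.stalk z)) (Z.presheaf.stalk z)) :
    ringKrullDim (Z.presheaf.stalk z) = 0 := by
  obtain ⟨rs, hrs, hker⟩ := RegSeqC.s18944 i hi z
  haveI := hCM (i z)
  exact dim_zero_of_ass (i.stalkMap z).hom (i.stalkMap_surjective z) rs hrs hker hz

end Groth.Agent.Lead.RegImmCM
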