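import Mathlib
import Groth.Prelude.Def_DTor2
import Groth.Agent.Lead.FlatLib5
import Groth.Agent.Helper6.RegPdFin

/-!
# Bounded coherent complexes on regular schemes are perfect (S1005)
-/

set_option autoImplicit false
universe u
open CategoryTheory CategoryTheory.Limits AlgebraicGeometry ZeroObject

attribute [local instance] HasDerivedCategory.standard

namespace Groth.Agent.Lead.RegLib
open Scheme.Modules Groth.Agent.Lead.LocLift Groth.Agent.Lead.PerfLib Groth.Agent.Lead.PcLib
  Groth.Agent.Lead.FlatLib

theorem isPerfect_inD_of_isFinLocFree {Y : Scheme.{u}} (F : Y.Modules)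
    (hF : FlatMod.IsFinLocFree F) : DCoh.IsPerfect (DCoh.inD Y F) := by
  rw [isPerfect_iff_locSP _ (sg F) (sgIso F)]
  intro y
  exact ⟨Y, 𝟙 Y, inferInstance, ⟨y, rfl⟩, (Rc (𝟙 Y)).obj (sg F),
    isStrictlyPerfect_restrict _ (isStrictlyPerfect_sg F hF), ⟨Iso.refl _⟩⟩

open Groth.Agent.Helper4.TildeExact in
theorem isPerfect_inD_tilde_of_pd : ∀ (d : ℕ) (A : CommRingCat.{u}) [IsNoetherianRing A]
    (M : ModuleCat.{u} A) [Module.Finite A M], HasProjectiveDimensionLT M (d + 1) →
    DCoh.IsPerfect (DCoh.inD (Spec A) (tilde M)) := by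
  intro d
  induction d with
  | zero =>
    intro A _ M _ h
    haveI : Module.FinitePresentation A M := Module.finitePresentation_of_finite A M
    simp only [zero_add] at h
    rw [← projective_iff_hasProjectiveDimensionLT_one, ← IsProjective.iff_projective] at h
    exact isPerfect_inD_of_isFinLocFree _
      (Groth.Agent.Helper4.FinLocFree3.isFinLocFree_tilde_of_fp_of_freeLocus A M
        (Module.freeLocus_eq_univ_iff.mpr h))
  | succ d ih =>
    intro A _ M _ h
    obtain ⟨n, f, hf⟩ := Module.Finite.exists_fin' A M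
    let P : ModuleCat.{u} A := ModuleCat.of A (Fin n → A)
    let g : P ⟶ M := ModuleCat.ofHom f
    haveI : Epi g := (ModuleCat.epi_iff_surjective g).mpr hf
    let S : ShortComplex (ModuleCat.{u} A) := ShortComplex.mk (kernel.ι g) g (kernel.condition g)
    have hS : S.ShortExact :=
      { exact := ShortComplex.exact_of_f_is_kernel _ (kernelIsKernel g)
        mono_f := inferInstanceAs (Mono (kernel.ι g))
        epi_g := inferInstanceAs (Epi g) }
    haveI : Module.Finite A (kernel g : ModuleCat.{u} A) := by
      haveI : Module.Finite A (LinearMap.ker g.hom) := inferInstance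
      exact Module.Finite.equiv (ModuleCat.kernelIsoKer g).symm.toLinearEquiv
    haveI : Projective S.X₂ := by
      show Projective P
      rw [← IsProjective.iff_projective]
      exact Module.Projective.of_free
    have hK : HasProjectiveDimensionLT (kernel g) (d + 1) :=
      (hS.hasProjectiveDimensionLT_X₃_iff d inferInstance).mp h
    have h₁ := ih A (kernel g) hK
    have h₂ : DCoh.IsPerfect (DCoh.inD (Spec A) (tilde P)) := by
      apply isPerfect_inD_of_isFinLocFree
      haveI : Module.FinitePresentation A P := Module.finitePresentation_of_finite A P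
      exact Groth.Agent.Helper4.FinLocFree3.isFinLocFree_tilde_of_fp_of_freeLocus A P
        (Module.freeLocus_eq_univ_iff.mpr Module.Projective.of_free)
    have hS' : (S.map (tilde.functor A)).ShortExact := hS.map_of_exact (tilde.functor A)
    exact isPerfect_obj₃ hS'.singleTriangle hS'.singleTriangle_distinguished h₁ h₂

set_option backward.isDefEq.respectTransparency false in
/-- on a regular locally Noetherian scheme a coherent module is perfect. -/
theorem isPerfect_inD_of_coh_of_regular (X : Scheme.{u}) [IsLocallyNoetherian X]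
    (hreg : ∀ x : X, IsRegularLocalRing (X.presheaf.stalk x)) (F : X.Modules) (hF : Coh.IsCoh F) :
    DCoh.IsPerfect (DCoh.inD X F) := by
  rw [isPerfect_iff_locSP _ (sg F) (sgIso F)]
  intro x
  obtain ⟨U, hU, hxU⟩ := Groth.Agent.Helper4.QcohLimits.exists_affine_nhd x
  let A : CommRingCat.{u} := Γ(X, U)
  haveI : IsNoetherianRing A := IsLocallyNoetherian.component_noetherian ⟨U, hU⟩
  let j : Spec A ⟶ X := hU.fromSpec
  let N : (Spec A).Modules := F.restrict j
  have hN : Coh.IsCoh N := isCoh_restrict j hF
  haveI : N.IsQuasicoherent := hN.1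
  haveI : IsIso N.fromTildeΓ := inferInstance
  let ΓN : ModuleCat.{u} A := moduleSpecΓFunctor.obj N
  let e : tilde ΓN ≅ N := asIso N.fromTildeΓ
  have hT : SheafOfModules.IsFiniteType (R := (Spec A).ringCatSheaf) (tilde ΓN) :=
    haveI := hN.2
    Groth.Agent.Helper4.FTRestrict.SoM.isFiniteType_of_iso (R := (Spec A).ringCatSheaf)
      (M := N) (N := tilde ΓN) e.symm
  haveI : Module.Finite A ΓN := Groth.Agent.Helper4.FTTilde.finite_of_isFT_tilde A ΓN hT
  have hregA : ∀ p : PrimeSpectrum A, IsRegularLocalRing (Localization.AtPrime p.asIdeal) := by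
    intro p
    have hp : hU.fromSpec p ∈ U := by
      have h1 : hU.fromSpec p ∈ hU.fromSpec.opensRange := ⟨p, rfl⟩
      rwa [hU.opensRange_fromSpec] at h1
    letI := TopCat.Presheaf.algebra_section_stalk X.presheaf ⟨hU.fromSpec p, hp⟩
    haveI := hU.isLocalization_stalk' p hp
    haveI := hreg (hU.fromSpec p)
    exact IsRegularLocalRing.of_ringEquiv (IsLocalization.algEquiv p.asIdeal.primeCompl
      (X.presheaf.stalk (hU.fromSpec p)) (Localization.AtPrime p.asIdeal)).toRingEquiv
  obtain ⟨d, hd⟩ := Groth.Agent.Helper6.RegPdFin.exists_pd_le hregA ΓN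
  have hperf := isPerfect_inD_tilde_of_pd d A ΓN hd
  rw [isPerfect_iff_locSP _ (sg (tilde ΓN)) (sgIso _)] at hperf
  let p : Spec A := hU.primeIdealOf ⟨x, hxU⟩
  have hp : j p = x := hU.fromSpec_primeIdealOf ⟨x, hxU⟩
  have h1 : LocSP (sg (tilde ΓN)) p := hperf p
  have h2 : LocSP ((Rc j).obj (sg F)) p := by
    refine LocSP.of_iso ?_ h1
    exact DerivedCategory.Q.mapIso ((HomologicalComplex.single _ _ 0).mapIso e ≪≫
      ((HomologicalComplex.singleMapHomologicalComplex (restrictFunctor j)
        (ComplexShape.up ℤ) 0).app F).symm)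
  have h3 := LocSP.of_restrict j h2
  rwa [hp] at h3

theorem isPerfect_of_isZero {X : Scheme.{u}} {K : DCoh.D X} (hK : IsZero K) : DCoh.IsPerfect K := by
  have h0 : IsZero (DCoh.inD X (0 : X.Modules)) :=
    (DerivedCategory.singleFunctor X.Modules 0).map_isZero (isZero_zero _)
  exact isPerfect_of_iso (h0.iso hK)
    (isPerfect_inD_of_isFinLocFree _ (isFinLocFree_of_isZero (isZero_zero _)))

theorem isPerfect_of_coh_bounded_regular (X : Scheme.{u}) [IsLocallyNoetherian X]
    (hreg : ∀ x : X, IsRegularLocalRing (X.presheaf.stalk x)) (a : ℤ) :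
    ∀ (n : ℕ) (E : DCoh.D X) (b : ℤ), E.IsGE a → E.IsLE b → b < a + n → DCoh.IsCohD E →
      DCoh.IsPerfect E := by
  intro n
  induction n with
  | zero =>
    intro E b ha hb hlt _
    haveI := ha
    haveI := hb
    exact isPerfect_of_isZero (DerivedCategory.TStructure.t.isZero E b a (by simpa using hlt))
  | succ n ih =>
    intro E b ha hb hlt hcoh
    haveI := ha
    haveI := hb
    obtain ⟨T, hT, e, Y, h1le, ⟨eY⟩, hH, ⟨eH⟩⟩ := exists_trunc_triangle E b
    have hYcoh : Coh.IsCoh Y := isCoh_of_iso eH.symm (hcoh b)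
    have h3 : DCoh.IsPerfect T.obj₃ := by
      refine isPerfect_of_iso eY.symm ?_
      refine isPerfect_of_iso
        (((DerivedCategory.singleFunctors X.Modules).shiftIso (-b) b 0 (by omega)).app Y) ?_
      exact isPerfect_shift (isPerfect_inD_of_coh_of_regular X hreg Y hYcoh) (-b)
    have h1 : DCoh.IsPerfect T.obj₁ := by
      refine ih T.obj₁ (b - 1) ?_ h1le (by push_cast at hlt; omega) (fun i => ?_)
      · rw [DerivedCategory.isGE_iff]
        intro i hi
        by_cases hib : i ≤ b - 1
        · exact IsZero.of_iso (E.isZero_of_isGE a i hi) (hH i hib).some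
        · haveI := h1le
          exact T.obj₁.isZero_of_isLE (b - 1) i (by omega)
      · by_cases hib : i ≤ b - 1
        · exact isCoh_of_iso (hH i hib).some.symm (hcoh i)
        · haveI := h1le
          exact isCoh_of_isFinLocFree
            (isFinLocFree_of_isZero (T.obj₁.isZero_of_isLE (b - 1) i (by omega)))
    exact isPerfect_of_iso e ((isPerfect_two_out_of_three T hT).2.1 h1 h3)

end Groth.Agent.Lead.RegLib
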