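import Mathlib
import Groth.Agent.Lead.FLFDual3
import Groth.Agent.Helper9.SpRelExt
import Groth.Agent.Helper1.FunLES
import Groth.Agent.Helper1.DerLES
import Groth.Agent.Helper1.ExtSh2

/-!
# The contravariant long exact sequence of relative `ℰxt` sheaves
-/

set_option autoImplicit false
set_option linter.style.haveILetI false
set_option linter.unusedSectionVars false

universe u

open CategoryTheory CategoryTheory.Limits AlgebraicGeometry TopologicalSpace Opposite Abelian

namespace Groth.Agent.Lead.RelExt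

open Groth.Agent.Lead.FLFDual Groth.Agent.Helper1 Groth.Agent.Helper1.ExtSh

variable {X Y : Scheme.{u}} (f : X ⟶ Y)

/-- the relative Hom functor `G ↦ f_* ℋom(F, G)` -/
noncomputable abbrev RH (F : X.Modules) [ModSite.HasSheafHom (O := X.sheaf) F] :
    X.Modules ⥤ Y.Modules :=
  SH F ⋙ Scheme.Modules.pushforward f

/-- contravariance of the relative Hom functor -/
noncomputable abbrev rhMap {M M' : X.Modules} [ModSite.HasSheafHom (O := X.sheaf) M]
    [ModSite.HasSheafHom (O := X.sheaf) M'] (g : M' ⟶ M) : RH f M ⟶ RH f M' :=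
  Functor.whiskerRight (ExtSupp.sheafHomMap (O := X.sheaf) g) (Scheme.Modules.pushforward f)

theorem preservesFiniteLimits_pushforward' :
    PreservesFiniteLimits (Scheme.Modules.pushforward f) := by
  haveI : PreservesLimitsOfSize.{0, 0} (Scheme.Modules.pushforward f) :=
    (Scheme.Modules.pullbackPushforwardAdjunction f).rightAdjoint_preservesLimits
  exact PreservesLimitsOfSize.preservesFiniteLimits _

theorem preservesFiniteLimits_RH (F : X.Modules) [ModSite.HasSheafHom (O := X.sheaf) F] :
    PreservesFiniteLimits (RH f F) := by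
  haveI := preservesFiniteLimits_pushforward' f
  haveI : PreservesFiniteLimits (SH F) := by
    haveI : PreservesLimitsOfSize.{0, 0} (SH F) := (adjX F).rightAdjoint_preservesLimits
    exact PreservesLimitsOfSize.preservesFiniteLimits _
  exact comp_preservesFiniteLimits _ _

/-- `ℋom(F, Q)` is acyclic for `f_*` when `Q` is injective -/
theorem isZero_Rpush_sheafHom [HasInjectiveResolutions X.Modules] (F Q : X.Modules)
    [ModSite.HasSheafHom (O := X.sheaf) F] [Injective Q] (q : ℕ) (hq : 0 < q) :
    IsZero ((Coh.Rpush f q).obj ((SH F).obj Q)) := by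
  haveI hQ : Injective (C := ModSite.Mod X.sheaf) Q := ‹Injective Q›
  have h := @Groth.Agent.Helper9.SpRelExt.isZero_Rpush X X Y (𝟙 X) f _ F Q _ hQ q hq
  exact IsZero.of_iso h ((Coh.Rpush f q).mapIso ((Scheme.Modules.pushforwardId X).app _).symm)

section ses

variable (S : ShortComplex X.Modules) [ModSite.HasSheafHom (O := X.sheaf) S.X₁]
  [ModSite.HasSheafHom (O := X.sheaf) S.X₂] [ModSite.HasSheafHom (O := X.sheaf) S.X₃]

lemma w_rhMap : rhMap f S.g ≫ rhMap f S.f = 0 := by
  have h := w_sheafHomMap (O := X.sheaf) S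
  show Functor.whiskerRight (ExtSupp.sheafHomMap (O := X.sheaf) S.g) _ ≫
    Functor.whiskerRight (ExtSupp.sheafHomMap (O := X.sheaf) S.f) _ = 0
  rw [← Functor.whiskerRight_comp, h]
  apply NatTrans.ext
  funext G
  show (Scheme.Modules.pushforward f).map (0 : _ ⟶ _) = 0
  exact Functor.map_zero _ _ _

theorem sc_shortExact_rel [HasInjectiveResolutions X.Modules] (hS : S.ShortExact) (I : X.Modules)
    [Injective I] :
    (FunLES.sc (rhMap f S.g) (rhMap f S.f) (w_rhMap f S) I).ShortExact := by
  haveI := preservesFiniteLimits_pushforward' f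
  haveI hI : Injective (C := ModSite.Mod X.sheaf) I := ‹Injective I›
  have h1 : (homSC (O := X.sheaf) S I).ShortExact := homSC_shortExact (O := X.sheaf) S hS I
  exact DerLES.shortExact_map (Scheme.Modules.pushforward f) (homSC (O := X.sheaf) S I) h1
    (isZero_Rpush_sheafHom f S.X₃ I 1 one_pos)

end ses

/-- **the contravariant long exact sequence of relative `ℰxt` sheaves** -/
theorem relExtSh_contravariant_longExact (S : ShortComplex X.Modules) (hS : S.ShortExact)
    (G : X.Modules)
    [ModSite.HasSheafHom (O := X.sheaf) S.X₁] [ModSite.HasSheafHom (O := X.sheaf) S.X₂]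
    [ModSite.HasSheafHom (O := X.sheaf) S.X₃]
    [HasInjectiveResolutions (ModSite.Mod X.sheaf)]
    [(ModSite.sheafHom (O := X.sheaf) S.X₁ ⋙ Scheme.Modules.pushforward f).Additive]
    [(ModSite.sheafHom (O := X.sheaf) S.X₂ ⋙ Scheme.Modules.pushforward f).Additive]
    [(ModSite.sheafHom (O := X.sheaf) S.X₃ ⋙ Scheme.Modules.pushforward f).Additive] :
    Mono ((NatTrans.rightDerived (Functor.whiskerRight (ExtSupp.sheafHomMap (O := X.sheaf) S.g)
      (Scheme.Modules.pushforward f)) 0).app G) ∧
    (∀ p : ℕ, ∃ w : (NatTrans.rightDerived (Functor.whiskerRight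
        (ExtSupp.sheafHomMap (O := X.sheaf) S.g) (Scheme.Modules.pushforward f)) p).app G ≫
        (NatTrans.rightDerived (Functor.whiskerRight (ExtSupp.sheafHomMap (O := X.sheaf) S.f)
          (Scheme.Modules.pushforward f)) p).app G = 0,
      (ShortComplex.mk _ _ w).Exact) ∧
    ∃ δ : ∀ p : ℕ, ((ModSite.sheafHom (O := X.sheaf) S.X₁ ⋙
        Scheme.Modules.pushforward f).rightDerived p).obj G ⟶
      ((ModSite.sheafHom (O := X.sheaf) S.X₃ ⋙
        Scheme.Modules.pushforward f).rightDerived (p + 1)).obj G,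
      ∀ p : ℕ,
        (∃ w : (NatTrans.rightDerived (Functor.whiskerRight
            (ExtSupp.sheafHomMap (O := X.sheaf) S.f) (Scheme.Modules.pushforward f)) p).app G ≫
            δ p = 0, (ShortComplex.mk _ _ w).Exact) ∧
        (∃ w : δ p ≫ (NatTrans.rightDerived (Functor.whiskerRight
            (ExtSupp.sheafHomMap (O := X.sheaf) S.g) (Scheme.Modules.pushforward f))
            (p + 1)).app G = 0, (ShortComplex.mk _ _ w).Exact) := by
  haveI hir : HasInjectiveResolutions X.Modules := ‹HasInjectiveResolutions (ModSite.Mod X.sheaf)›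
  have h : ∀ (I : X.Modules) [Injective I],
      (FunLES.sc (rhMap f S.g) (rhMap f S.f) (w_rhMap f S) I).ShortExact :=
    fun I _ => sc_shortExact_rel f S hS I
  refine ⟨FunLES.mono₀ (rhMap f S.g) (rhMap f S.f) (w_rhMap f S) h G,
    fun p => FunLES.les₂ (rhMap f S.g) (rhMap f S.f) (w_rhMap f S) h p G,
    fun p => (FunLES.δ (rhMap f S.g) (rhMap f S.f) (w_rhMap f S) h p).app G, fun p => ⟨?_, ?_⟩⟩
  · exact FunLES.les₃ (rhMap f S.g) (rhMap f S.f) (w_rhMap f S) h p G
  · exact FunLES.les₁ (rhMap f S.g) (rhMap f S.f) (w_rhMap f S) h p G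

end Groth.Agent.Lead.RelExt
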