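import Mathlib
import Groth.Agent.Lead.RelExtLES
import Groth.Agent.Lead.SpProp
import Groth.Agent.Helper9.SpGS

/-!
# The local-to-global spectral sequence of relative `ℰxt` sheaves and coherence
-/

set_option autoImplicit false
set_option linter.style.haveILetI false
set_option linter.unusedSectionVars false

universe u

open CategoryTheory CategoryTheory.Limits AlgebraicGeometry TopologicalSpace Opposite Abelian ZeroObject

namespace Groth.Agent.Lead.RelExt

open Groth.Agent.Lead.FLFDual Groth.Agent.Helper1 Groth.Agent.Helper9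

variable {X Y : Scheme.{u}} (f : X ⟶ Y)

/-- **The local-to-global spectral sequence** `R^p f_* ℰxt^q(F, G) ⇒ ℰxt^{p+q}_f(F, G)`. -/
theorem exists_localToGlobal (F G : X.Modules) [ModSite.HasSheafHom (O := X.sheaf) F]
    [HasInjectiveResolutions (ModSite.Mod X.sheaf)]
    [(ModSite.sheafHom (O := X.sheaf) F ⋙ Scheme.Modules.pushforward f).Additive] :
    ∃ (E : E₂CohomologicalSpectralSequence Y.Modules)
      (a : SpSeq.Abutment E (fun n : ℤ =>
        if 0 ≤ n then ((ModSite.sheafHom (O := X.sheaf) F ⋙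
          Scheme.Modules.pushforward f).rightDerived n.toNat).obj G else (0 : Y.Modules))),
      (∀ n : ℤ, a.IsFinite n) ∧ SpSeq.IsBounded E ∧
      ∀ p q : ℤ, Nonempty ((E.page 2 le_rfl).X (p, q) ≅
        (if 0 ≤ p ∧ 0 ≤ q then
          (@Coh.Rpush X Y f ‹HasInjectiveResolutions (ModSite.Mod X.sheaf)› p.toNat).obj
            ((ModSite.extSh (O := X.sheaf) F q.toNat).obj G)
          else (0 : Y.Modules))) := by
  haveI hir : HasInjectiveResolutions X.Modules := ‹HasInjectiveResolutions (ModSite.Mod X.sheaf)›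
  haveI := preservesFiniteLimits_pushforward' f
  exact SpGS.grothendieck (C := X.Modules) (C' := X.Modules) (C'' := Y.Modules)
    (SH F) (Scheme.Modules.pushforward f)
    (fun Q hQ q hq => by
      haveI : Injective (C := X.Modules) Q := hQ
      exact isZero_Rpush_sheafHom f F Q q hq) G

/-- coherence of the relative `ℰxt` sheaves, from coherence of the local `ℰxt` sheaves and of the
higher direct images -/
theorem isCoh_relExt_of (F G : X.Modules) [ModSite.HasSheafHom (O := X.sheaf) F]
    [HasInjectiveResolutions (ModSite.Mod X.sheaf)]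
    [(ModSite.sheafHom (O := X.sheaf) F ⋙ Scheme.Modules.pushforward f).Additive]
    (hWS : SpProp.WeakSerre (fun M : Y.Modules => Coh.IsCoh M))
    (hExt : ∀ q : ℕ, Coh.IsCoh ((ModSite.extSh (O := X.sheaf) F q).obj G))
    (hR : ∀ M : X.Modules, Coh.IsCoh M → ∀ p : ℕ,
      Coh.IsCoh ((@Coh.Rpush X Y f ‹HasInjectiveResolutions (ModSite.Mod X.sheaf)› p).obj M))
    (p : ℕ) :
    Coh.IsCoh (((ModSite.sheafHom (O := X.sheaf) F ⋙
      Scheme.Modules.pushforward f).rightDerived p).obj G) := by
  obtain ⟨E, a, hfin, -, hE⟩ := exists_localToGlobal f F G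
  have hE2 : ∀ pq : ℤ × ℤ, Coh.IsCoh ((E.page 2 le_rfl).X pq) := by
    rintro ⟨p', q'⟩
    obtain ⟨e⟩ := hE p' q'
    refine hWS.iso e.symm ?_
    split_ifs with h
    · exact hR _ (hExt _) _
    · exact hWS.zero _ (isZero_zero _)
  have h := SpProp.prop_abutment hWS E _ a hfin hE2 (p : ℤ)
  simpa using h

end Groth.Agent.Lead.RelExt
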