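import Mathlib
import Groth.Agent.Lead.RelExtCoh
import Groth.Agent.Lead.PerfLib7
import Groth.Agent.Helper2.CohQ1
import Groth.Agent.Helper6.HProj
import Groth.Agent.Helper1.RpCoh2
import Groth.Agent.Helper1.ExtRes3

/-!
# Coherence of relative `ℰxt` sheaves for projective morphisms
-/

set_option autoImplicit false
set_option linter.style.haveILetI false
set_option linter.unusedSectionVars false

universe u

open CategoryTheory CategoryTheory.Limits AlgebraicGeometry TopologicalSpace Opposite Abelian

namespace Groth.Agent.Lead.RelExt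

open Groth.Agent.Helper4 Groth.Agent.Helper2

/-- coherent modules on a locally Noetherian scheme form a weak Serre class -/
theorem weakSerre_isCoh (Y : Scheme.{u}) [IsLocallyNoetherian Y] :
    SpProp.WeakSerre (fun M : Y.Modules => Coh.IsCoh M) where
  iso e h := CohQ1.isCoh_of_iso e h
  zero M hM := Groth.Agent.Lead.PerfLib.isCoh_of_isFinLocFree
    (Groth.Agent.Lead.PerfLib.isFinLocFree_of_isZero hM)
  ker {F G} φ hF hG := by
    haveI : F.IsQuasicoherent := hF.1
    haveI : G.IsQuasicoherent := hG.1
    exact CohQ1.isCoh_of_mono (kernel.ι φ) (QcohLimits.isQuasicoherent_kernel φ) hF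
  coker {F G} φ hF hG := by
    haveI : F.IsQuasicoherent := hF.1
    haveI : G.IsQuasicoherent := hG.1
    exact CohQ1.isCoh_of_epi (cokernel.π φ) hG (QcohLimits.isQuasicoherent_cokernel φ)
  ext S hS h1 h3 := by
    haveI : S.X₁.IsQuasicoherent := h1.1
    haveI : S.X₃.IsQuasicoherent := h3.1
    exact CohQ1.isCoh_of_shortExact S hS h1 (QcohExt.isQuasicoherent_of_shortExact S hS) h3

/-- **Coherence of the relative `ℰxt` sheaves** of coherent modules along a proper morphism to a
Noetherian scheme. -/
theorem isCoh_relExt_of_isProper {X Y : Scheme.{u}} [IsNoetherian Y] (f : X ⟶ Y) [IsProper f]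
    (F G : X.Modules) (hF : Coh.IsCoh F) (hG : Coh.IsCoh G)
    [ModSite.HasSheafHom (O := X.sheaf) F] [HasInjectiveResolutions (ModSite.Mod X.sheaf)]
    [(ModSite.sheafHom (O := X.sheaf) F ⋙ Scheme.Modules.pushforward f).Additive] (p : ℕ) :
    Coh.IsCoh (((ModSite.sheafHom (O := X.sheaf) F ⋙
      Scheme.Modules.pushforward f).rightDerived p).obj G) := by
  haveI : IsLocallyNoetherian X := LocallyOfFiniteType.isLocallyNoetherian f
  haveI : CompactSpace X := QuasiCompact.compactSpace_of_compactSpace f
  haveI : IsNoetherian X := {}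
  haveI hir : HasInjectiveResolutions X.Modules := ‹HasInjectiveResolutions (ModSite.Mod X.sheaf)›
  exact isCoh_relExt_of f F G (weakSerre_isCoh Y)
    (fun q => Groth.Agent.Helper1.ExtRes.isCoh_extSh F G hF hG q)
    (fun M hM p => Groth.Agent.Helper1.RpCoh.s0036 f M hM p) p

/-- the projective case -/
theorem isCoh_relExt_of_closedImmersion_projSpace (X Y : Scheme.{u}) [IsNoetherian Y] (f : X ⟶ Y)
    (n : ℕ) (e : X ⟶ CohB1.ProjSpaceOver n Y) [IsClosedImmersion e]
    (he : e ≫ CohB1.ProjSpaceOver.toBase n Y = f)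
    (F G : X.Modules) (hF : Coh.IsCoh F) (hG : Coh.IsCoh G)
    [ModSite.HasSheafHom (O := X.sheaf) F] [HasInjectiveResolutions (ModSite.Mod X.sheaf)]
    [(ModSite.sheafHom (O := X.sheaf) F ⋙ Scheme.Modules.pushforward f).Additive] (p : ℕ) :
    Coh.IsCoh (((ModSite.sheafHom (O := X.sheaf) F ⋙
      Scheme.Modules.pushforward f).rightDerived p).obj G) := by
  haveI := Groth.Agent.Helper6.HProj.isProper_toBase n Y
  haveI : IsProper f := by
    rw [← he]
    infer_instance
  exact isCoh_relExt_of_isProper f F G hF hG p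

end Groth.Agent.Lead.RelExt
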