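import Mathlib
import Groth.Agent.Lead.RelExtLES
import Groth.Agent.Helper1.ExtRes2
import Groth.Agent.Helper4.OpenBC

/-!
# Restriction of relative `ℰxt` sheaves to an open subscheme of the base
-/

set_option autoImplicit false
set_option linter.style.haveILetI false
set_option linter.unusedSectionVars false

universe u

open CategoryTheory CategoryTheory.Limits AlgebraicGeometry TopologicalSpace Opposite Abelian

namespace Groth.Agent.Lead.RelExt

open Groth.Agent.Lead.FLFDual Groth.Agent.Helper1 Groth.Agent.Helper1.ExtSh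
  Groth.Agent.Helper1.ExtRes Groth.Agent.Helper1.DeltaFun

variable {X Y : Scheme.{u}} (f : X ⟶ Y) (W : Y.Opens) (F : X.Modules)
  [ModSite.HasSheafHom (O := X.sheaf) F]
  [ModSite.HasSheafHom (O := (↑(f ⁻¹ᵁ W) : Scheme.{u}).sheaf) (F.restrict (f ⁻¹ᵁ W).ι)]

/-- `(f_* ℋom(F, -))|_W ≅ (f|_W)_* ℋom(F|, (-)|)` -/
noncomputable def rhResIso :
    RH f F ⋙ Scheme.Modules.restrictFunctor W.ι ≅
      Scheme.Modules.restrictFunctor (f ⁻¹ᵁ W).ι ⋙ RH (f ∣_ W) (F.restrict (f ⁻¹ᵁ W).ι) :=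
  Functor.associator _ _ _ ≪≫
    Functor.isoWhiskerLeft (FLFDual.SH F) (Groth.Agent.Helper4.OpenBC.iso f W) ≪≫
    (Functor.associator _ _ _).symm ≪≫
    Functor.isoWhiskerRight (resSheafHomIso (f ⁻¹ᵁ W).ι F)
      (Scheme.Modules.pushforward (f ∣_ W)) ≪≫
    Functor.associator _ _ _

/-- **S16281** -/
theorem nonempty_relExt_res_iso [HasInjectiveResolutions (ModSite.Mod X.sheaf)]
    [(ModSite.sheafHom (O := X.sheaf) F ⋙ Scheme.Modules.pushforward f).Additive]
    [HasInjectiveResolutions (ModSite.Mod (↑(f ⁻¹ᵁ W) : Scheme.{u}).sheaf)]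
    [(ModSite.sheafHom (O := (↑(f ⁻¹ᵁ W) : Scheme.{u}).sheaf) (F.restrict (f ⁻¹ᵁ W).ι) ⋙
      Scheme.Modules.pushforward (f ∣_ W)).Additive] (p : ℕ) :
    Nonempty ((ModSite.sheafHom (O := X.sheaf) F ⋙ Scheme.Modules.pushforward f).rightDerived p ⋙
        Scheme.Modules.restrictFunctor W.ι ≅
      Scheme.Modules.restrictFunctor (f ⁻¹ᵁ W).ι ⋙
        (ModSite.sheafHom (O := (↑(f ⁻¹ᵁ W) : Scheme.{u}).sheaf) (F.restrict (f ⁻¹ᵁ W).ι) ⋙
          Scheme.Modules.pushforward (f ∣_ W)).rightDerived p) := by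
  haveI hir : HasInjectiveResolutions X.Modules := ‹HasInjectiveResolutions (ModSite.Mod X.sheaf)›
  haveI hir' : HasInjectiveResolutions (↑(f ⁻¹ᵁ W) : Scheme.{u}).Modules :=
    ‹HasInjectiveResolutions (ModSite.Mod (↑(f ⁻¹ᵁ W) : Scheme.{u}).sheaf)›
  haveI : EnoughInjectives X.Modules :=
    Groth.Agent.Helper9.ModCechExt.enoughInjectives_mod X.ringCatSheaf
  haveI := preservesFiniteLimits_RH f F
  haveI := preservesFiniteLimits_RH (f ∣_ W) (F.restrict (f ⁻¹ᵁ W).ι)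
  haveI : PreservesFiniteLimits (Scheme.Modules.restrictFunctor W.ι) := inferInstance
  haveI : PreservesFiniteColimits (Scheme.Modules.restrictFunctor W.ι) := inferInstance
  haveI : PreservesFiniteLimits (Scheme.Modules.restrictFunctor (f ⁻¹ᵁ W).ι) := inferInstance
  haveI : PreservesFiniteColimits (Scheme.Modules.restrictFunctor (f ⁻¹ᵁ W).ι) := inferInstance
  obtain ⟨i1⟩ := nonempty_iso_rightDerived_postcomp (RH f F)
    (Scheme.Modules.restrictFunctor W.ι) p
  haveI : PreservesFiniteLimits (RH f F ⋙ Scheme.Modules.restrictFunctor W.ι) :=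
    comp_preservesFiniteLimits _ _
  obtain ⟨i2⟩ := nonempty_iso_rightDerived_comp (Scheme.Modules.restrictFunctor (f ⁻¹ᵁ W).ι)
    (fun S hS => hS.map_of_exact (Scheme.Modules.restrictFunctor (f ⁻¹ᵁ W).ι))
    (RH (f ∣_ W) (F.restrict (f ⁻¹ᵁ W).ι))
    (RH f F ⋙ Scheme.Modules.restrictFunctor W.ι) (rhResIso f W F).symm
    (fun I _ n => by
      haveI : Injective ((Scheme.Modules.restrictFunctor (f ⁻¹ᵁ W).ι).obj I) :=
        injective_res (f ⁻¹ᵁ W).ι I
      exact Functor.isZero_rightDerived_obj_injective_succ _ n _) p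
  exact ⟨i1.symm ≪≫ i2⟩

end Groth.Agent.Lead.RelExt
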