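import Mathlib
import Groth.Agent.Lead.RelExtLES
import Groth.Agent.Helper1.ExtSh4

/-!
# Relative `ℰxt` sheaves computed by a resolution of the first variable
-/

set_option autoImplicit false
set_option linter.style.haveILetI false
set_option linter.unusedSectionVars false

universe u v₂ u₂

open CategoryTheory CategoryTheory.Limits AlgebraicGeometry TopologicalSpace Opposite Abelian

namespace Groth.Agent.Lead.RelExt

open Groth.Agent.Helper1 Groth.Agent.Helper1.ExtSh

attribute [local instance] Groth.Agent.Helper9.TensorAdj.hasSheafHom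

section generic

variable {C : Type u} [SmallCategory C] {J : GrothendieckTopology C} {O : Sheaf J CommRingCat.{u}}
  [HasInjectiveResolutions (ModSite.Mod O)]
  {D : Type u₂} [Category.{v₂} D] [Abelian D] (P : ModSite.Mod O ⥤ D) [P.Additive]
  [PreservesFiniteLimits P]

/-- the functor `G ↦ P (ℋom(M, G))` -/
noncomputable abbrev gRH (M : ModSite.Mod O) : ModSite.Mod O ⥤ D := ModSite.sheafHom M ⋙ P

/-- contravariance of `gRH` -/
noncomputable abbrev gMap {M M' : ModSite.Mod O} (g : M' ⟶ M) : gRH P M ⟶ gRH P M' :=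
  Functor.whiskerRight (ExtSupp.sheafHomMap g) P

lemma w_gMap (S : ShortComplex (ModSite.Mod O)) : gMap P S.g ≫ gMap P S.f = 0 := by
  have h := w_sheafHomMap S
  show Functor.whiskerRight (ExtSupp.sheafHomMap S.g) _ ≫
    Functor.whiskerRight (ExtSupp.sheafHomMap S.f) _ = 0
  rw [← Functor.whiskerRight_comp, h]
  apply NatTrans.ext
  funext G
  show P.map (0 : _ ⟶ _) = 0
  exact Functor.map_zero _ _ _

instance preservesFiniteLimits_gRH (M : ModSite.Mod O) : PreservesFiniteLimits (gRH P M) :=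
  comp_preservesFiniteLimits _ _

/-- the hypothesis: `P` keeps `0 → ℋom(M'', I) → ℋom(M, I) → ℋom(M', I) → 0` exact -/
def HP : Prop :=
  ∀ (S : ShortComplex (ModSite.Mod O)) (_ : S.ShortExact) (I : ModSite.Mod O) [Injective I],
    (FunLES.sc (gMap P S.g) (gMap P S.f) (w_gMap P S) I).ShortExact

variable (hP : HP P)

/-- the relative `ℰxt` functor -/
noncomputable abbrev gRE (M : ModSite.Mod O) (q : ℕ) : ModSite.Mod O ⥤ D :=
  (gRH P M).rightDerived q

section obj

variable (S : ShortComplex (ModSite.Mod O)) (hS : S.ShortExact) (G : ModSite.Mod O)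

include hP hS in
/-- dimension shifting at an object -/
theorem nonempty_shift (n : ℕ) (h0 : IsZero ((gRE P S.X₂ (n + 1)).obj G))
    (h1 : IsZero ((gRE P S.X₂ (n + 2)).obj G)) :
    Nonempty ((gRE P S.X₁ (n + 1)).obj G ≅ (gRE P S.X₃ (n + 2)).obj G) := by
  have h : ∀ (I : ModSite.Mod O) [Injective I],
      (FunLES.sc (gMap P S.g) (gMap P S.f) (w_gMap P S) I).ShortExact :=
    fun I _ => hP S hS I
  haveI := FunLES.isIso_δ_app (gMap P S.g) (gMap P S.f) (w_gMap P S) h (n + 1) G h0 h1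
  exact ⟨asIso ((FunLES.δ (gMap P S.g) (gMap P S.f) (w_gMap P S) h (n + 1)).app G)⟩

include hP hS in
/-- the first relative `ℰxt` as a cokernel, at an object -/
theorem nonempty_one_iso_cokernel (h1 : IsZero ((gRE P S.X₂ 1).obj G)) :
    Nonempty ((gRE P S.X₃ 1).obj G ≅ cokernel ((gMap P S.f).app G)) := by
  have h : ∀ (I : ModSite.Mod O) [Injective I],
      (FunLES.sc (gMap P S.g) (gMap P S.f) (w_gMap P S) I).ShortExact :=
    fun I _ => hP S hS I
  obtain ⟨w₃, e₃⟩ := FunLES.les₃ (gMap P S.g) (gMap P S.f) (w_gMap P S) h 0 G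
  obtain ⟨w₁, e₁⟩ := FunLES.les₁ (gMap P S.g) (gMap P S.f) (w_gMap P S) h 0 G
  have hepi : Epi ((FunLES.δ (gMap P S.g) (gMap P S.f) (w_gMap P S) h 0).app G) :=
    e₁.epi_f (h1.eq_of_tgt _ _)
  obtain ⟨w', e⟩ := FunLES.exact_of_conj (asIso ((gRH P S.X₂).toRightDerivedZero.app G))
    (asIso ((gRH P S.X₁).toRightDerivedZero.app G)) (Iso.refl _) ((gMap P S.f).app G)
    ((FunLES.γ (gMap P S.g) (gMap P S.f) (w_gMap P S) h).app G) _ _
    (by
      rw [← Category.assoc, asIso_hom, ← FunLES.toRightDerivedZero_naturality (gMap P S.f) G,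
        Category.assoc, asIso_inv, IsIso.hom_inv_id, Category.comp_id])
    (by
      rw [Iso.refl_inv, Category.comp_id, asIso_hom]
      rfl) w₃ e₃
  haveI : Epi ((FunLES.γ (gMap P S.g) (gMap P S.f) (w_gMap P S) h).app G) := by
    change Epi ((gRH P S.X₁).toRightDerivedZero.app G ≫
      (FunLES.δ (gMap P S.g) (gMap P S.f) (w_gMap P S) h 0).app G)
    infer_instance
  haveI : Epi (ShortComplex.mk ((gMap P S.f).app G)
      ((FunLES.γ (gMap P S.g) (gMap P S.f) (w_gMap P S) h).app G) w').g := by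
    assumption
  exact ⟨IsColimit.coconePointUniqueUpToIso e.gIsCokernel (colimit.isColimit _)⟩

end obj

section resolution

variable (A : ChainComplex (ModSite.Mod O) ℕ) [Epi (A.d 1 0)]
  (hA : ∀ j : ℕ, (A.sc' (j + 2) (j + 1) j).Exact) (G : ModSite.Mod O)
  (hacyc : ∀ (j q : ℕ), IsZero ((gRE P (A.X (j + 1)) (q + 1)).obj G))

include hP hA hacyc in
/-- dimension shifting along the syzygies -/
theorem nonempty_W_iso : ∀ (i q m : ℕ), m = q + 1 + i →
    Nonempty ((gRE P (W A i) (q + 1)).obj G ≅ (gRE P (W A 0) m).obj G) := by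
  intro i
  induction i with
  | zero =>
    intro q m hm
    subst hm
    exact ⟨Iso.refl _⟩
  | succ i ih =>
    intro q m hm
    obtain ⟨e1⟩ := nonempty_shift P hP (scW A i) (scW_shortExact A hA i) G q (hacyc i q)
      (hacyc i (q + 1))
    obtain ⟨e2⟩ := ih (q + 1) m (by omega)
    exact ⟨e1 ≪≫ e2⟩

include hP hA hacyc in
theorem nonempty_W_one_iso_cokernel (i : ℕ) :
    Nonempty ((gRE P (W A i) 1).obj G ≅ cokernel ((gMap P (ιW A i)).app G)) :=
  nonempty_one_iso_cokernel P hP (scW A i) (scW_shortExact A hA i) G (hacyc i 0)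

include hA in
theorem nonempty_homology_homT_iso_cokernel (i : ℕ) :
    Nonempty (((homT A G i).map P).homology ≅ cokernel ((gMap P (ιW A i)).app G)) := by
  haveI := epi_pW A hA (i + 1)
  haveI := epi_pW A hA (i + 2)
  haveI hm0 : Mono ((ExtSupp.sheafHomMap (pW A (i + 2))).app G) := mono_sheafHomMap_app _ G
  have hm : Mono (P.map ((ExtSupp.sheafHomMap (pW A (i + 2))).app G)) := inferInstance
  have hS := scW_shortExact A hA (i + 1)
  haveI : Epi (scW A (i + 1)).g := hS.epi_g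
  have hk0 := homSC_exact_mono (scW A (i + 1)) hS.exact G
  haveI : Mono (homSC (scW A (i + 1)) G).f := hk0.2
  have hk1 : ((homSC (scW A (i + 1)) G).map P).Exact :=
    hk0.1.map_of_mono_of_preservesKernel _ inferInstance inferInstance
  haveI : Mono ((homSC (scW A (i + 1)) G).map P).f :=
    inferInstanceAs (Mono (P.map (homSC (scW A (i + 1)) G).f))
  have hk : ((homSC (scW A (i + 1)) G).map P).Exact ∧
      Mono ((homSC (scW A (i + 1)) G).map P).f := ⟨hk1, inferInstance⟩
  rw [ShortComplex.exact_and_mono_f_iff_f_is_kernel] at hk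
  obtain ⟨hk⟩ := hk
  have h1 : P.map ((ExtSupp.sheafHomMap (ιW A (i + 1))).app G) ≫
      P.map ((ExtSupp.sheafHomMap (pW A (i + 1 + 1))).app G) =
      P.map ((ExtSupp.sheafHomMap (A.d (i + 1 + 2) (i + 1 + 1))).app G) := by
    rw [← Functor.map_comp, ← NatTrans.comp_app, sheafHomMap_comp, pW_succ_ιW]
  have h2 : P.map ((ExtSupp.sheafHomMap (ιW A i)).app G) ≫
      P.map ((ExtSupp.sheafHomMap (pW A (i + 1))).app G) =
      P.map ((ExtSupp.sheafHomMap (A.d (i + 2) (i + 1))).app G) := by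
    rw [← Functor.map_comp, ← NatTrans.comp_app, sheafHomMap_comp, pW_succ_ιW]
  have wi : P.map ((ExtSupp.sheafHomMap (pW A (i + 1))).app G) ≫
      P.map ((ExtSupp.sheafHomMap (ιW A (i + 1))).app G) = 0 :=
    ((homSC (scW A (i + 1)) G).map P).zero
  have hk' : IsLimit (KernelFork.ofι (P.map ((ExtSupp.sheafHomMap (pW A (i + 1))).app G)) wi) :=
    hk
  have hg : ((homT A G i).map P).g = P.map ((ExtSupp.sheafHomMap (ιW A (i + 1))).app G) ≫
      P.map ((ExtSupp.sheafHomMap (pW A (i + 2))).app G) := h1.symm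
  have ha : P.map ((ExtSupp.sheafHomMap (ιW A i)).app G) ≫
      P.map ((ExtSupp.sheafHomMap (pW A (i + 1))).app G) = ((homT A G i).map P).f := h2
  exact nonempty_homology_iso_cokernel ((homT A G i).map P)
    (P.map ((ExtSupp.sheafHomMap (pW A (i + 1))).app G))
    (P.map ((ExtSupp.sheafHomMap (ιW A (i + 1))).app G))
    (P.map ((ExtSupp.sheafHomMap (pW A (i + 2))).app G)) hm hg wi hk'
    (P.map ((ExtSupp.sheafHomMap (ιW A i)).app G)) ha

include hP hA hacyc in
/-- **positive degrees** -/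
theorem nonempty_homology_homT_iso_gRE (i : ℕ) :
    Nonempty (((homT A G i).map P).homology ≅ (gRE P (A.X 0) (i + 1)).obj G) := by
  obtain ⟨e1⟩ := nonempty_homology_homT_iso_cokernel P A hA G i
  obtain ⟨e2⟩ := nonempty_W_one_iso_cokernel P hP A hA G hacyc i
  obtain ⟨e3⟩ := nonempty_W_iso P hP A hA G hacyc i 0 (i + 1) (by omega)
  exact ⟨e1 ≪≫ e2.symm ≪≫ e3⟩

include hA in
/-- **degree zero** -/
theorem nonempty_kernel_iso_gRH :
    Nonempty (kernel (P.map ((ExtSupp.sheafHomMap (A.d (0 + 2) (0 + 1))).app G)) ≅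
      (gRH P (A.X 0)).obj G) := by
  obtain ⟨e⟩ := nonempty_kernel_iso_sheafHom A hA G
  exact ⟨(PreservesKernel.iso P _).symm ≪≫ P.mapIso e⟩

end resolution

section main

variable (F G : ModSite.Mod O) (E : ChainComplex (ModSite.Mod O) ℕ) (π : E.X 0 ⟶ F) [Epi π]
  (hπ : E.d 1 0 ≫ π = 0) (hex0 : (ShortComplex.mk (E.d 1 0) π hπ).Exact)
  (hex : ∀ j : ℕ, E.ExactAt (j + 1))
  (hacyc : ∀ (j q : ℕ), IsZero ((gRE P (E.X j) (q + 1)).obj G))
  (K : CochainComplex D ℕ)
  (e : ∀ j : ℕ, K.X j ≅ P.obj ((ModSite.sheafHom (E.X j)).obj G))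
  (hK : ∀ j : ℕ, K.d j (j + 1) ≫ (e (j + 1)).hom =
    (e j).hom ≫ P.map ((ExtSupp.sheafHomMap (E.d (j + 1) j)).app G))

include hP hex0 hex hacyc hK in
/-- **`Hⁱ(P ℋom(E_•, G)) ≅ Rⁱ(P ℋom(F, -))(G)`** -/
theorem nonempty_homology_iso_gRE (i : ℕ) :
    Nonempty (K.homology i ≅ (gRE P F i).obj G) := by
  haveI : Epi ((E.augment π hπ).d 1 0) := inferInstanceAs (Epi π)
  have hA := augment_exact F E π hπ hex0 hex
  have hacyc' : ∀ (j q : ℕ), IsZero ((gRE P ((E.augment π hπ).X (j + 1)) (q + 1)).obj G) :=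
    fun j q => hacyc j q
  cases i with
  | zero =>
    obtain ⟨e1⟩ := nonempty_kernel_iso_gRH P (E.augment π hπ) hA G
    have e0 : K.homology 0 ≅ (K.sc' 0 0 1).homology :=
      K.homologyIsoSc' 0 0 1 (CochainComplex.prev_nat_zero) (CochainComplex.next _ _)
    have hf : (K.sc' 0 0 1).f = 0 := K.shape 0 0 (by simp)
    have e2 : (K.sc' 0 0 1).homology ≅ kernel (K.d 0 1) :=
      (ShortComplex.LeftHomologyData.ofHasKernel (K.sc' 0 0 1) hf).homologyIso
    have e3 : kernel (K.d 0 1) ≅ kernel (P.map ((ExtSupp.sheafHomMap (E.d (0 + 1) 0)).app G)) :=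
      kernelIsoOfSq _ _ (e 0) (e 1) (hK 0)
    exact ⟨e0 ≪≫ e2 ≪≫ e3 ≪≫ e1 ≪≫ ((gRH P F).rightDerivedZeroIsoSelf.symm.app G)⟩
  | succ i =>
    obtain ⟨e1⟩ := nonempty_homology_homT_iso_gRE P hP (E.augment π hπ) hA G hacyc' i
    have e0 : K.homology (i + 1) ≅ (K.sc' i (i + 1) (i + 2)).homology :=
      K.homologyIsoSc' i (i + 1) (i + 2) (CochainComplex.prev_nat_succ _)
        (CochainComplex.next _ _)
    have e2 : K.sc' i (i + 1) (i + 2) ≅ (homT (E.augment π hπ) G i).map P :=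
      ShortComplex.isoMk (e i) (e (i + 1)) (e (i + 2)) (hK i).symm (hK (i + 1)).symm
    exact ⟨e0 ≪≫ ShortComplex.homologyMapIso e2 ≪≫ e1⟩

end main

end generic

section scheme

variable {X Y : Scheme.{u}} (f : X ⟶ Y)

/-- the direct image functor, on `ModSite.Mod X.sheaf` -/
noncomputable abbrev PF : ModSite.Mod X.sheaf ⥤ Y.Modules := Scheme.Modules.pushforward f

instance additive_PF : (PF f).Additive :=
  inferInstanceAs ((Scheme.Modules.pushforward f).Additive)

instance preservesFiniteLimits_PF : PreservesFiniteLimits (PF f) :=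
  preservesFiniteLimits_pushforward' f

theorem hP_PF [HasInjectiveResolutions (ModSite.Mod X.sheaf)] : HP (PF f) := by
  intro S hS I _
  haveI hir : HasInjectiveResolutions X.Modules := ‹HasInjectiveResolutions (ModSite.Mod X.sheaf)›
  haveI hI : Injective (C := X.Modules) I := ‹Injective I›
  exact sc_shortExact_rel f S hS I

/-- **`Hⁱ(f_* ℋom(L_•, G)) ≅ ℰxtⁱ_f(F, G)` for a resolution `L_• → F` with
`ℰxt^p_f(L_j, G) = 0` for `p ≥ 1`** -/
theorem nonempty_homology_push_sheafHom_iso_relExtSh (F G : X.Modules)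
    (L : ChainComplex X.Modules ℕ) (π : L.X 0 ⟶ F) [Epi π] (hπ : L.d 1 0 ≫ π = 0)
    (hex0 : (ShortComplex.mk (L.d 1 0) π hπ).Exact) (hex : ∀ j : ℕ, L.ExactAt (j + 1))
    [∀ j : ℕ, ModSite.HasSheafHom (O := X.sheaf) (L.X j)] [ModSite.HasSheafHom (O := X.sheaf) F]
    [HasInjectiveResolutions (ModSite.Mod X.sheaf)]
    [∀ j : ℕ, (ModSite.sheafHom (O := X.sheaf) (L.X j) ⋙ Scheme.Modules.pushforward f).Additive]
    [(ModSite.sheafHom (O := X.sheaf) F ⋙ Scheme.Modules.pushforward f).Additive]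
    (hL : ∀ (j : ℕ) (p : ℕ), 1 ≤ p → IsZero (((ModSite.sheafHom (O := X.sheaf) (L.X j) ⋙
      Scheme.Modules.pushforward f).rightDerived p).obj G))
    (C : CochainComplex Y.Modules ℕ)
    (e : ∀ j : ℕ, C.X j ≅ (Scheme.Modules.pushforward f).obj
      ((ModSite.sheafHom (O := X.sheaf) (L.X j)).obj G))
    (hC : ∀ j : ℕ, C.d j (j + 1) ≫ (e (j + 1)).hom =
      (e j).hom ≫ (Scheme.Modules.pushforward f).map
        ((ExtSupp.sheafHomMap (O := X.sheaf) (L.d (j + 1) j)).app G))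
    (i : ℕ) :
    Nonempty (C.homology i ≅ ((ModSite.sheafHom (O := X.sheaf) F ⋙
      Scheme.Modules.pushforward f).rightDerived i).obj G) := by
  haveI hepi : @Epi (ModSite.Mod X.sheaf) _ (L.X 0) F π := ‹Epi π›
  exact @nonempty_homology_iso_gRE _ _ _ X.sheaf _ _ _ _ (PF f) _ _ (hP_PF f) F G L π hepi hπ hex0
    hex (fun j q => hL j (q + 1) (by omega)) C e hC i

end scheme

end Groth.Agent.Lead.RelExt
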