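import Mathlib
import Groth.Agent.Lead.RelExtCoh2
import Groth.Agent.Lead.SpProp2
import Groth.Agent.Lead.FLFProj2
import Groth.Agent.Helper9.SpRelExt
import Groth.Agent.Helper9.RpushCmp
import Groth.Agent.Helper1.FlatTw2
import Groth.Agent.Helper1.VA14
import Groth.Agent.Helper1.SV2

/-!
# Relative `ℰxt` sheaves of large twists along a composite of projective morphisms
-/

set_option autoImplicit false
set_option linter.style.haveILetI false
set_option linter.unusedSectionVars false

universe u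

open CategoryTheory CategoryTheory.Limits AlgebraicGeometry TopologicalSpace Opposite Abelian
  ZeroObject

namespace Groth.Agent.Lead.RelExt

open Groth.Agent.Lead.FLFDual Groth.Agent.Helper1 Groth.Agent.Helper9

theorem isFinLocFree_of_isInvertible' {X : Scheme.{u}} (L : X.Modules)
    (hL : PicF.IsInvertible L) : FlatMod.IsFinLocFree L := by
  intro x
  obtain ⟨U, hxU, ⟨e⟩⟩ := hL x
  exact ⟨U, 1, hxU, ⟨e ≪≫ (Limits.coproductUniqueIso
    (fun _ : Fin 1 => Coh.structureModule (↑U))).symm⟩⟩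

/-- relative Serre vanishing for a closed subscheme of a projective space over a Noetherian
scheme, for the derived functors of the direct image of modules -/
theorem exists_isZero_Rpush_twist {Y Z : Scheme.{u}} [IsNoetherian Z] (m : ℕ) (g : Y ⟶ Z)
    (e' : Y ⟶ CohB1.ProjSpaceOver m Z) [IsClosedImmersion e']
    (he' : e' ≫ CohB1.ProjSpaceOver.toBase m Z = g) [HasInjectiveResolutions Y.Modules]
    (M : Y.Modules) (hM : Coh.IsCoh M) :
    ∃ l₀ : ℕ, ∀ l : ℕ, l₀ ≤ l → ∀ a : ℕ, 0 < a →
      IsZero ((Coh.Rpush g a).obj (CohB1.tensorMod M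
        ((Scheme.Modules.pullback e').obj (Twist.twistOver m Z (l : ℤ))))) := by
  subst he'
  haveI := Groth.Agent.Helper6.HProj.isProper_toBase m Z
  haveI : IsProper (e' ≫ CohB1.ProjSpaceOver.toBase m Z) := inferInstance
  have hL := Groth.Agent.Helper1.FlatTw.isInvertible_pullback_twistOver e' 1
  have ha : ∀ W : Z.Opens, IsAffineOpen W → CohB1.IsAmple
      (((Scheme.Modules.pullback e').obj (Twist.twistOver m Z 1)).restrict
        ((e' ≫ CohB1.ProjSpaceOver.toBase m Z) ⁻¹ᵁ W).ι) :=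
    fun W hW => (Groth.Agent.Helper1.VA.isRelAmple_of_immersion e').2 ⟨W, hW⟩
  obtain ⟨n₀, hn₀⟩ := Groth.Agent.Helper1.SV.exists_isZero_RpushAb_twist
    (e' ≫ CohB1.ProjSpaceOver.toBase m Z) _ hL ha M hM
  refine ⟨n₀, fun l hl a ha' => ?_⟩
  obtain ⟨q, rfl⟩ : ∃ q, a = q + 1 := ⟨a - 1, by omega⟩
  obtain ⟨ε⟩ := Groth.Agent.Helper1.FlatTw.nonempty_pullback_twistOver_iso_tensorPow e' l
  apply Groth.Agent.Helper9.SpRelExt.isZero_of_isZero_tA
  obtain ⟨e3⟩ := Groth.Agent.Helper9.RpushCmp.nonempty_iso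
    (e' ≫ CohB1.ProjSpaceOver.toBase m Z) (q + 1)
    (CohB1.tensorMod M ((Scheme.Modules.pullback e').obj (Twist.twistOver m Z (l : ℤ))))
  refine IsZero.of_iso ?_ e3
  exact IsZero.of_iso (hn₀ l hl q)
    ((Coh.RpushAb _ (q + 1)).mapIso ((Groth.Agent.Helper9.RpushCmp.tA Y).mapIso
      (PicGrp.tensorModIso (Iso.refl M) ε)))

section twist

variable {X Y : Scheme.{u}} (f : X ⟶ Y)

/-- `ℰxt^b_f(F, G ⊗ f^* N) ≅ ℰxt^b_f(F, G) ⊗ N` for `N` finite locally free -/
theorem nonempty_relExt_tensor_pullback_iso' (F G : X.Modules) (N : Y.Modules)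
    (hN : FlatMod.IsFinLocFree N) (b : ℕ)
    [ModSite.HasSheafHom (O := X.sheaf) F] [HasInjectiveResolutions (ModSite.Mod X.sheaf)]
    [(ModSite.sheafHom (O := X.sheaf) F ⋙ Scheme.Modules.pushforward f).Additive] :
    Nonempty (((ModSite.sheafHom (O := X.sheaf) F ⋙
        Scheme.Modules.pushforward f).rightDerived b).obj
        (CohB1.tensorMod G ((Scheme.Modules.pullback f).obj N)) ≅
      CohB1.tensorMod (((ModSite.sheafHom (O := X.sheaf) F ⋙
        Scheme.Modules.pushforward f).rightDerived b).obj G) N) := by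
  haveI hir : HasInjectiveResolutions X.Modules := ‹HasInjectiveResolutions (ModSite.Mod X.sheaf)›
  obtain ⟨iB⟩ := nonempty_relExt_pullback_natIso f F N hN b
  have j0 : ((SH F ⋙ Scheme.Modules.pushforward f).rightDerived b).obj
        (CohB1.tensorMod G ((Scheme.Modules.pullback f).obj N)) ≅
      ((SH F ⋙ Scheme.Modules.pushforward f).rightDerived b).obj
        (CohB1.tensorMod ((Scheme.Modules.pullback f).obj N) G) :=
    ((SH F ⋙ Scheme.Modules.pushforward f).rightDerived b).mapIso (Ref1B.braid _ _)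
  have j1 : ((SH F ⋙ Scheme.Modules.pushforward f).rightDerived b).obj
        (CohB1.tensorMod ((Scheme.Modules.pullback f).obj N) G) ≅
      CohB1.tensorMod N (((SH F ⋙ Scheme.Modules.pushforward f).rightDerived b).obj G) :=
    iB.app G
  exact ⟨j0 ≪≫ j1 ≪≫ Ref1B.braid _ _⟩

end twist

/-- **S16284** -/
theorem exists_push_relExt_twist_iso (Z : Scheme.{u}) [IsNoetherian Z] (m : ℕ)
    (Y : Scheme.{u}) (g : Y ⟶ Z) (e' : Y ⟶ CohB1.ProjSpaceOver m Z) [IsClosedImmersion e']
    (he' : e' ≫ CohB1.ProjSpaceOver.toBase m Z = g)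
    (n : ℕ) (X : Scheme.{u}) (f : X ⟶ Y) (e : X ⟶ CohB1.ProjSpaceOver n Y) [IsClosedImmersion e]
    (he : e ≫ CohB1.ProjSpaceOver.toBase n Y = f)
    (F G : X.Modules) (hF : Coh.IsCoh F) (hG : Coh.IsCoh G) (p : ℕ)
    [ModSite.HasSheafHom (O := X.sheaf) F] [HasInjectiveResolutions (ModSite.Mod X.sheaf)]
    [(ModSite.sheafHom (O := X.sheaf) F ⋙ Scheme.Modules.pushforward f).Additive]
    [(ModSite.sheafHom (O := X.sheaf) F ⋙ Scheme.Modules.pushforward (f ≫ g)).Additive] :
    ∃ l₀ : ℕ, ∀ l : ℕ, l₀ ≤ l →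
      Nonempty ((Scheme.Modules.pushforward g).obj (((ModSite.sheafHom (O := X.sheaf) F ⋙
          Scheme.Modules.pushforward f).rightDerived p).obj
          (CohB1.tensorMod G ((Scheme.Modules.pullback f).obj
            ((Scheme.Modules.pullback e').obj (Twist.twistOver m Z (l : ℤ)))))) ≅
        ((ModSite.sheafHom (O := X.sheaf) F ⋙ Scheme.Modules.pushforward (f ≫ g)).rightDerived p).obj
          (CohB1.tensorMod G ((Scheme.Modules.pullback f).obj
            ((Scheme.Modules.pullback e').obj (Twist.twistOver m Z (l : ℤ)))))) := by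
  haveI := Groth.Agent.Helper6.HProj.isProper_toBase m Z
  haveI hg : IsProper g := by
    rw [← he']
    infer_instance
  haveI : IsLocallyNoetherian Y := LocallyOfFiniteType.isLocallyNoetherian g
  haveI : CompactSpace Y := QuasiCompact.compactSpace_of_compactSpace g
  haveI : IsNoetherian Y := {}
  haveI := Groth.Agent.Helper4.SchAdj.isGrothendieckAbelian_modules Y
  haveI hirY : HasInjectiveResolutions Y.Modules := inferInstance
  haveI hir : HasInjectiveResolutions X.Modules := ‹HasInjectiveResolutions (ModSite.Mod X.sheaf)›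
  have hM : ∀ b : ℕ, Coh.IsCoh (((ModSite.sheafHom (O := X.sheaf) F ⋙
      Scheme.Modules.pushforward f).rightDerived b).obj G) := fun b =>
    isCoh_relExt_of_closedImmersion_projSpace X Y f n e he F G hF hG b
  have hv := fun b : ℕ => exists_isZero_Rpush_twist m g e' he' _ (hM b)
  choose L0 hL0 using hv
  refine ⟨(Finset.range (p + 1)).sup L0, fun l hl => ?_⟩
  have hl' : ∀ b : ℕ, b ≤ p → L0 b ≤ l := fun b hb =>
    (Finset.le_sup (f := L0) (Finset.mem_range.2 (by omega))).trans hl
  have hN : FlatMod.IsFinLocFree ((Scheme.Modules.pullback e').obj (Twist.twistOver m Z (l : ℤ))) :=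
    isFinLocFree_of_isInvertible' _
      (Groth.Agent.Helper1.FlatTw.isInvertible_pullback_twistOver e' (l : ℤ))
  have hL0' : ∀ b : ℕ, b ≤ p → ∀ a : ℕ, 0 < a → IsZero ((Coh.Rpush g a).obj
      (CohB1.tensorMod (((ModSite.sheafHom (O := X.sheaf) F ⋙
        Scheme.Modules.pushforward f).rightDerived b).obj G)
        ((Scheme.Modules.pullback e').obj (Twist.twistOver m Z (l : ℤ))))) :=
    fun b hb a ha => hL0 b l (hl' b hb) a ha
  clear hL0
  generalize (Scheme.Modules.pullback e').obj (Twist.twistOver m Z (l : ℤ)) = N at hN hL0' ⊢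
  have hz : ∀ a b : ℕ, 0 < a → b ≤ p → IsZero ((Coh.Rpush g a).obj
      (((ModSite.sheafHom (O := X.sheaf) F ⋙ Scheme.Modules.pushforward f).rightDerived b).obj
        (CohB1.tensorMod G ((Scheme.Modules.pullback f).obj N)))) := by
    intro a b ha hb
    obtain ⟨eb⟩ := nonempty_relExt_tensor_pullback_iso' f F G N hN b
    exact IsZero.of_iso (hL0' b hb a ha) ((Coh.Rpush g a).mapIso eb)
  obtain ⟨E, ab, hfin, -, hE⟩ := SpRelExt.main f g F
    (CohB1.tensorMod G ((Scheme.Modules.pullback f).obj N))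
  -- vanishing of the second page
  have hE0 : ∀ a b : ℤ, (a < 0 ∨ b < 0 ∨ (0 < a ∧ b ≤ p)) →
      IsZero ((E.page 2 le_rfl).X (a, b)) := by
    intro a b h
    obtain ⟨ε⟩ := hE a b
    refine IsZero.of_iso ?_ ε
    split_ifs with h'
    · obtain ⟨h1, h2⟩ := h'
      rcases h with h | h | ⟨h3, h4⟩
      · omega
      · omega
      · exact hz a.toNat b.toNat (by omega) (by omega)
    · exact isZero_zero _
  have hst : SpSeq.StationaryAt E ((0 : ℤ), (p : ℤ) - 0) 2 := by
    apply SpProp.stationary_of_isZero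
    · intro r hr
      exact hE0 _ _ (Or.inl (by simp; omega))
    · intro r hr
      exact hE0 _ _ (Or.inr (Or.inr ⟨by simp; omega, by simp; omega⟩))
  obtain ⟨e1⟩ := SpProp.iso_of_single E ab (p : ℤ) 0 (hfin p)
    (fun a ha => by
      rcases lt_or_gt_of_ne ha with h | h
      · exact hE0 _ _ (Or.inl h)
      · exact hE0 _ _ (Or.inr (Or.inr ⟨h, by omega⟩))) hst
  have key : ∀ q : ℤ, q = (p : ℤ) → Nonempty ((E.page 2 le_rfl).X ((0 : ℤ), q) ≅
      (Coh.Rpush g 0).obj (((ModSite.sheafHom (O := X.sheaf) F ⋙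
        Scheme.Modules.pushforward f).rightDerived p).obj
        (CohB1.tensorMod G ((Scheme.Modules.pullback f).obj N)))) := by
    rintro q rfl
    obtain ⟨ε⟩ := hE 0 (p : ℤ)
    rw [if_pos ⟨le_rfl, Int.natCast_nonneg p⟩] at ε
    exact ⟨by simpa using ε⟩
  obtain ⟨e2⟩ := key ((p : ℤ) - 0) (by omega)
  haveI := preservesFiniteLimits_pushforward' g
  have e3 : (Coh.Rpush g 0).obj (((ModSite.sheafHom (O := X.sheaf) F ⋙
        Scheme.Modules.pushforward f).rightDerived p).obj
        (CohB1.tensorMod G ((Scheme.Modules.pullback f).obj N))) ≅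
      (Scheme.Modules.pushforward g).obj (((ModSite.sheafHom (O := X.sheaf) F ⋙
        Scheme.Modules.pushforward f).rightDerived p).obj
        (CohB1.tensorMod G ((Scheme.Modules.pullback f).obj N))) :=
    (Scheme.Modules.pushforward g).rightDerivedZeroIsoSelf.app _
  have e4 : (if 0 ≤ (p : ℤ) then ((ModSite.sheafHom (O := X.sheaf) F ⋙
          Scheme.Modules.pushforward (f ≫ g)).rightDerived (p : ℤ).toNat).obj
          (CohB1.tensorMod G ((Scheme.Modules.pullback f).obj N)) else (0 : Z.Modules)) ≅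
      ((ModSite.sheafHom (O := X.sheaf) F ⋙
          Scheme.Modules.pushforward (f ≫ g)).rightDerived p).obj
          (CohB1.tensorMod G ((Scheme.Modules.pullback f).obj N)) :=
    eqToIso (by simp)
  exact ⟨e3.symm ≪≫ e2.symm ≪≫ e1.symm ≪≫ e4⟩

end Groth.Agent.Lead.RelExt
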