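import Mathlib
import Groth.Agent.Lead.ClLib
import Groth.Prelude.Def_PicRel2

set_option autoImplicit false
universe u
open CategoryTheory CategoryTheory.Limits AlgebraicGeometry

namespace Groth.Agent.Lead.RelPicBC
open Groth.Agent.Lead.ClLib

theorem pullCl_id {Y : Scheme.{u}} (c : PicF.Cl Y) : PicF.pullCl (𝟙 Y) c = c := by
  induction c using Quot.ind with
  | mk L => exact (PicGrp.cl_eq_cl_iff _ _).mpr ⟨(Scheme.Modules.pullbackId Y).app L⟩

theorem isInvertibleCl_pullCl {Y Y' : Scheme.{u}} (h : Y' ⟶ Y) {c : PicF.Cl Y}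
    (hc : PicF.IsInvertibleCl c) : PicF.IsInvertibleCl (PicF.pullCl h c) := by
  obtain ⟨L, rfl, hL⟩ := hc
  exact ⟨_, rfl, Groth.Agent.Lead.ParaDesc.isInvertible_pullback h hL⟩

variable {X S S' : Scheme.{u}} (f : X ⟶ S) (g : S' ⟶ S)

theorem XTmap_fst {T T' : Over S} (k : T' ⟶ T) :
    PicF.XTmap f k ≫ pullback.fst f T.hom = pullback.fst f T'.hom := by
  unfold PicF.XTmap
  rw [pullback.lift_fst, Category.comp_id]

theorem XTmap_snd {T T' : Over S} (k : T' ⟶ T) :
    PicF.XTmap f k ≫ pullback.snd f T.hom = pullback.snd f T'.hom ≫ k.left := by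
  unfold PicF.XTmap
  rw [pullback.lift_snd]

theorem XTmap_comp {T T' T'' : Over S} (k' : T'' ⟶ T') (k : T' ⟶ T) :
    PicF.XTmap f (k' ≫ k) = PicF.XTmap f k' ≫ PicF.XTmap f k := by
  apply pullback.hom_ext
  · rw [XTmap_fst, Category.assoc, XTmap_fst, XTmap_fst]
  · rw [XTmap_snd, Category.assoc, XTmap_snd, ← Category.assoc, XTmap_snd, Category.assoc,
      Over.comp_left]

/-- Regard an `S'`-scheme as an `S`-scheme. -/
noncomputable abbrev dn (T : Over S') : Over S := Over.mk (T.hom ≫ g)

noncomputable abbrev dnHom {T' T : Over S'} (h : T' ⟶ T) : dn g T' ⟶ dn g T :=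
  Over.homMk h.left (by
    show h.left ≫ T.hom ≫ g = T'.hom ≫ g
    rw [← Category.assoc, Over.w h])

noncomputable abbrev e (T : Over S') :
    PicF.XT (pullback.snd f g) T ≅ PicF.XT f (dn g T) :=
  pullbackLeftPullbackSndIso f g T.hom

theorem sq {T' T : Over S'} (h : T' ⟶ T) :
    PicF.XTmap (pullback.snd f g) h ≫ (e f g T).hom =
      (e f g T').hom ≫ PicF.XTmap f (dnHom g h) := by
  have h1 : (e f g T).hom ≫ pullback.fst f (dn g T).hom =
      pullback.fst _ _ ≫ pullback.fst _ _ := pullbackLeftPullbackSndIso_hom_fst f g T.hom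
  have h2 : (e f g T').hom ≫ pullback.fst f (dn g T').hom =
      pullback.fst _ _ ≫ pullback.fst _ _ := pullbackLeftPullbackSndIso_hom_fst f g T'.hom
  have h3 : (e f g T).hom ≫ pullback.snd f (dn g T).hom = pullback.snd _ _ :=
    pullbackLeftPullbackSndIso_hom_snd f g T.hom
  have h4 : (e f g T').hom ≫ pullback.snd f (dn g T').hom = pullback.snd _ _ :=
    pullbackLeftPullbackSndIso_hom_snd f g T'.hom
  apply pullback.hom_ext
  · rw [Category.assoc, Category.assoc, XTmap_fst, h1, h2, ← Category.assoc, XTmap_fst]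
  · rw [Category.assoc, Category.assoc, XTmap_snd, h3, ← Category.assoc, h4, XTmap_snd]
    rfl

theorem sq_inv {T' T : Over S'} (h : T' ⟶ T) :
    (e f g T').inv ≫ PicF.XTmap (pullback.snd f g) h =
      PicF.XTmap f (dnHom g h) ≫ (e f g T).inv := by
  rw [Iso.inv_comp_eq, ← Category.assoc, Iso.eq_comp_inv]
  exact sq f g h

theorem main (P : Over S) (φ : ∀ T : Over S, PicF.Cl (PicF.XT f T) → (T ⟶ P))
    (hP : PicRel.IsRelPic f P φ) :
    PicRel.IsRelPic (pullback.snd f g) (Over.mk (pullback.snd P.hom g))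
      (fun T c => Over.homMk
        (pullback.lift (φ (Over.mk (T.hom ≫ g))
          (PicF.pullCl (pullbackLeftPullbackSndIso f g T.hom).inv c)).left T.hom
          (Over.w (φ (Over.mk (T.hom ≫ g))
            (PicF.pullCl (pullbackLeftPullbackSndIso f g T.hom).inv c))))
        (pullback.lift_snd _ _ _)) := by
  refine ⟨?_, ?_, ?_⟩
  · intro T T' h c hc
    apply Over.OverMorphism.ext
    apply pullback.hom_ext
    · have h1 := hP.natural (dn g T) (dn g T') (dnHom g h) (PicF.pullCl (e f g T).inv c)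
        (isInvertibleCl_pullCl _ hc)
      rw [← pullCl_comp, ← sq_inv, pullCl_comp] at h1
      have h2 := congrArg CommaMorphism.left h1
      simp only [Over.homMk_left, Over.comp_left, pullback.lift_fst, Category.assoc]
      exact h2
    · simp only [Over.homMk_left, Over.comp_left, pullback.lift_snd, Category.assoc]
      exact (Over.w h).symm
  · intro T q
    have hq : q.left ≫ pullback.snd P.hom g = T.hom := Over.w q
    let qd : dn g T ⟶ P := Over.homMk (q.left ≫ pullback.fst P.hom g) (by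
      show (q.left ≫ pullback.fst P.hom g) ≫ P.hom = T.hom ≫ g
      rw [Category.assoc, pullback.condition, ← Category.assoc, hq])
    obtain ⟨ι, U, hU, hc⟩ := hP.locallySurjective (dn g T) qd
    refine ⟨ι, U, hU, fun i => ?_⟩
    obtain ⟨c, hci, hceq⟩ := hc i
    let ιAB : dn g (PicRel.ovr T (U i)) ⟶ PicRel.ovr (dn g T) (U i) :=
      Over.homMk (𝟙 _) (by
        show 𝟙 _ ≫ (U i).hom ≫ T.hom ≫ g = ((U i).hom ≫ T.hom) ≫ g
        rw [Category.id_comp, Category.assoc])
    refine ⟨PicF.pullCl (e f g (PicRel.ovr T (U i))).hom (PicF.pullCl (PicF.XTmap f ιAB) c),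
      isInvertibleCl_pullCl _ (isInvertibleCl_pullCl _ hci), ?_⟩
    apply Over.OverMorphism.ext
    apply pullback.hom_ext
    · have h1 := hP.natural _ _ ιAB c hci
      have h2 := congrArg CommaMorphism.left h1
      rw [hceq] at h2
      simp only [Over.homMk_left, Over.comp_left, pullback.lift_fst, Category.assoc]
      rw [← pullCl_comp, Iso.inv_hom_id, pullCl_id]
      refine h2.trans ?_
      simp only [Over.homMk_left, Over.comp_left, Category.id_comp, ιAB, qd]
    · simp only [Over.homMk_left, Over.comp_left, pullback.lift_snd, Category.assoc]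
      rw [hq]
      rfl
  · intro T c c' hc hc' heq
    have h1 : φ (dn g T) (PicF.pullCl (e f g T).inv c) =
        φ (dn g T) (PicF.pullCl (e f g T).inv c') := by
      apply Over.OverMorphism.ext
      have := congrArg (fun m => CommaMorphism.left m ≫ pullback.fst P.hom g) heq
      simpa only [Over.homMk_left, pullback.lift_fst] using this
    obtain ⟨ι, U, hU, hcc⟩ := hP.locallyInjective (dn g T) _ _
      (isInvertibleCl_pullCl _ hc) (isInvertibleCl_pullCl _ hc') h1
    refine ⟨ι, U, hU, fun i => ?_⟩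
    let ιAB : dn g (PicRel.ovr T (U i)) ⟶ PicRel.ovr (dn g T) (U i) :=
      Over.homMk (𝟙 _) (by
        show 𝟙 _ ≫ (U i).hom ≫ T.hom ≫ g = ((U i).hom ≫ T.hom) ≫ g
        rw [Category.id_comp, Category.assoc])
    have hd : dnHom g (PicRel.ovrHom T (U i)) = ιAB ≫ PicRel.ovrHom (dn g T) (U i) := by
      apply Over.OverMorphism.ext
      simp only [Over.homMk_left, Over.comp_left, Category.id_comp, ιAB]
    have key : PicF.XTmap (pullback.snd f g) (PicRel.ovrHom T (U i)) =
        (e f g (PicRel.ovr T (U i))).hom ≫ PicF.XTmap f ιAB ≫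
          PicF.XTmap f (PicRel.ovrHom (dn g T) (U i)) ≫ (e f g T).inv := by
      have s := sq f g (PicRel.ovrHom T (U i))
      rw [hd, XTmap_comp] at s
      rw [(Iso.eq_comp_inv (e f g T)).mpr s]
      simp only [Category.assoc]
    rw [key]
    simp only [pullCl_comp]
    rw [hcc i]

end Groth.Agent.Lead.RelPicBC
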