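import Mathlib
import Groth.Agent.Lead.ExtFree

/-!
# Lead: sections of a locally free module are generated by sections over a trivialising open
-/

set_option autoImplicit false
universe u
open CategoryTheory CategoryTheory.Limits AlgebraicGeometry TopologicalSpace Opposite

namespace Groth.Agent.Lead.ResDiag
open Groth.Agent.Helper4 Groth.Agent.Helper4.QcqsMod Groth.Agent.Lead.ExtFree

variable {X : Scheme.{u}}

/-- the submodule of `Γ(E, W)` generated by the restrictions of sections over `D` -/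
noncomputable def genSub (E : X.Modules) {W D : X.Opens} (h : W ≤ D) : Submodule Γ(X, W) Γ(E, W) :=
  Submodule.span Γ(X, W) (Set.range fun t : Γ(E, D) => E.presheaf.map (homOfLE h).op t)

theorem res_mem_genSub (E : X.Modules) {W D : X.Opens} (h : W ≤ D) (t : Γ(E, D)) :
    E.presheaf.map (homOfLE h).op t ∈ genSub E h :=
  Submodule.subset_span ⟨t, rfl⟩

/-- sections of a free module are generated by global sections -/
theorem genSub_freeMod (n : ℕ) (W : X.Opens) :
    genSub (FlatMod.freeMod X n) (le_top : W ≤ ⊤) = ⊤ := by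
  classical
  rw [eq_top_iff]
  intro s _
  set A : X.Modules := Coh.structureModule X with hA
  set f : Fin n → X.Modules := fun _ => A with hf
  set P : X.Modules := ∐ f with hP
  let inj : ∀ i : Fin n, A ⟶ P := fun i => Sigma.ι f i
  let prj : ∀ i : Fin n, P ⟶ A := fun i => Sigma.desc (fun j => if j = i then 𝟙 A else 0)
  have hip : ∀ i j : Fin n, inj j ≫ prj i = if j = i then 𝟙 A else 0 := by
    intro i j
    exact Sigma.ι_desc _ _
  have hid : ∑ i : Fin n, prj i ≫ inj i = 𝟙 P := by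
    apply Sigma.hom_ext
    intro j
    change inj j ≫ _ = inj j ≫ _
    rw [Preadditive.comp_sum]
    simp_rw [← Category.assoc, hip]
    rw [Category.comp_id]
    rw [Finset.sum_eq_single j]
    · simp
    · intro b _ hb
      rw [if_neg (Ne.symm hb)]
      simp
    · intro hj
      exact absurd (Finset.mem_univ j) hj
  have hdecomp : s = ∑ i : Fin n,
      (Scheme.Modules.Hom.app (inj i) W) ((Scheme.Modules.Hom.app (prj i) W) s) := by
    have := congrArg (fun φ : P ⟶ P => (Scheme.Modules.Hom.app φ W) s) hid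
    simp only at this
    rw [sum_app] at this
    exact this.symm
  rw [hdecomp]
  refine Submodule.sum_mem _ (fun i _ => ?_)
  obtain ⟨b, hb⟩ : ∃ b : Γ(A, W), b = (Scheme.Modules.Hom.app (prj i) W) s := ⟨_, rfl⟩
  rw [← hb]
  let oneT : Γ(A, ⊤) := (1 : Γ(X, ⊤))
  let oneW : Γ(A, W) := (1 : Γ(X, W))
  have h1 : A.presheaf.map (homOfLE (le_top : W ≤ ⊤)).op oneT = oneW :=
    map_one (X.presheaf.map (homOfLE (le_top : W ≤ ⊤)).op).hom
  have h2 : b = (show Γ(X, W) from b) • oneW := (mul_one (show Γ(X, W) from b)).symm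
  rw [h2, Scheme.Modules.Hom.app_smul, ← h1, StalkExact.app_res (inj i) (homOfLE (le_top : W ≤ ⊤)) oneT]
  exact Submodule.smul_mem _ _ (res_mem_genSub P le_top _)

theorem genSub_of_iso {E E' : X.Modules} (φ : E ≅ E') {W D : X.Opens} (h : W ≤ D)
    (hE' : genSub E' h = ⊤) : genSub E h = ⊤ := by
  rw [eq_top_iff]
  intro s _
  have hinv : (Scheme.Modules.Hom.app φ.inv W) ((Scheme.Modules.Hom.app φ.hom W) s) = s := by
    have := congrArg (fun ψ : E ⟶ E => (Scheme.Modules.Hom.app ψ W) s) φ.hom_inv_id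
    exact this
  rw [← hinv]
  have hmem : (Scheme.Modules.Hom.app φ.hom W) s ∈ genSub E' h := by rw [hE']; trivial
  have hle : genSub E' h ≤ (genSub E h).comap (QcohEpi.appLin φ.inv W) := by
    apply Submodule.span_le.mpr
    rintro _ ⟨t, rfl⟩
    change (Scheme.Modules.Hom.app φ.inv W) (E'.presheaf.map (homOfLE h).op t) ∈ genSub E h
    rw [StalkExact.app_res φ.inv (homOfLE h) t]
    exact res_mem_genSub E h _
  exact hle hmem

theorem genSub_congr (E : X.Modules) {W W' D D' : X.Opens} (e1 : D = D') (e2 : W = W')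
    (h : W ≤ D) (h' : W' ≤ D') : genSub E h = ⊤ ↔ genSub E h' = ⊤ := by
  subst e1 e2
  rfl

/-- sections of `E` over opens of a trivialising open `D` are generated by sections over `D` -/
theorem genSub_of_free (E : X.Modules) (D : X.Opens) (n : ℕ)
    (φ : E.restrict D.ι ≅ FlatMod.freeMod (↑D) n) {W : X.Opens} (h : W ≤ D) :
    genSub E h = ⊤ := by
  have e1 : D.ι ''ᵁ ⊤ = D := by
    rw [Scheme.Hom.image_top_eq_opensRange, Scheme.Opens.opensRange_ι]
  have e2 : D.ι ''ᵁ (D.ι ⁻¹ᵁ W) = W := by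
    rw [Scheme.Hom.image_preimage_eq_opensRange_inf, Scheme.Opens.opensRange_ι]
    exact inf_eq_right.mpr h
  have hle : D.ι ''ᵁ (D.ι ⁻¹ᵁ W) ≤ D.ι ''ᵁ ⊤ := Scheme.Hom.image_mono _ le_top
  have h1 : genSub (E.restrict D.ι) (le_top : D.ι ⁻¹ᵁ W ≤ ⊤) = ⊤ :=
    genSub_of_iso φ _ (genSub_freeMod (X := (D : Scheme.{u})) n _)
  have h2 : genSub E hle = ⊤ := by
    rw [eq_top_iff]
    intro s _
    have hs' : (show Γ(E.restrict D.ι, D.ι ⁻¹ᵁ W) from s) ∈
        genSub (E.restrict D.ι) (le_top : D.ι ⁻¹ᵁ W ≤ ⊤) := by rw [h1]; trivial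
    refine Submodule.span_induction (p := fun (x : Γ(E.restrict D.ι, D.ι ⁻¹ᵁ W)) _ =>
      (show Γ(E, D.ι ''ᵁ (D.ι ⁻¹ᵁ W)) from x) ∈ genSub E hle) ?_ ?_ ?_ ?_ hs'
    · rintro _ ⟨t, rfl⟩
      exact res_mem_genSub E hle (show Γ(E, D.ι ''ᵁ ⊤) from t)
    · exact Submodule.zero_mem _
    · intro x y _ _ hx hy
      exact Submodule.add_mem _ hx hy
    · intro b x _ hx
      have hbx : (show Γ(E, D.ι ''ᵁ (D.ι ⁻¹ᵁ W)) from b • x) =
          (show Γ(X, D.ι ''ᵁ (D.ι ⁻¹ᵁ W)) from b) • (show Γ(E, D.ι ''ᵁ (D.ι ⁻¹ᵁ W)) from x) := by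
        have h0 : (show Γ(E, D.ι ''ᵁ (D.ι ⁻¹ᵁ W)) from b • x) =
          ((D.ι.appIso (D.ι ⁻¹ᵁ W)).inv b) • (show Γ(E, D.ι ''ᵁ (D.ι ⁻¹ᵁ W)) from x) := rfl
        rw [h0, Scheme.Opens.ι_appIso]
        rfl
      change (show Γ(E, D.ι ''ᵁ (D.ι ⁻¹ᵁ W)) from b • x) ∈ genSub E hle
      rw [hbx]
      exact Submodule.smul_mem _ (show Γ(X, D.ι ''ᵁ (D.ι ⁻¹ᵁ W)) from b) hx
  exact (genSub_congr E e1 e2 hle h).mp h2

end Groth.Agent.Lead.ResDiag
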