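import Mathlib
import Groth.Agent.Lead.ResDiagA

/-!
# Lead: on a quasi-compact open `W` of an affine open `V`, the sections of a finite locally free
module are generated by the sections over `V`
-/

set_option autoImplicit false
universe u
open CategoryTheory CategoryTheory.Limits AlgebraicGeometry TopologicalSpace Opposite

namespace Groth.Agent.Lead.ResDiag
open Groth.Agent.Helper4 Groth.Agent.Helper4.QcqsMod Groth.Agent.Lead.ExtFree

variable {X : Scheme.{u}}

theorem resO_resO {V₁ V₂ V₃ : X.Opens} (h₁ : V₂ ≤ V₁) (h₂ : V₃ ≤ V₂) (s : Γ(X, V₁)) :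
    X.presheaf.map (homOfLE h₂).op (X.presheaf.map (homOfLE h₁).op s) =
      X.presheaf.map (homOfLE (h₂.trans h₁)).op s := by
  rw [← ConcreteCategory.comp_apply, ← Functor.map_comp]
  rfl

/-- the local step: for `g` with `D(g)` inside a trivialising open, a power of `g` brings any
section of the generated module over `W ∩ D(g)` into the module generated over `W`. -/
theorem exists_pow_smul_mem_aux (E : X.Modules) [E.IsQuasicoherent] {V W : X.Opens}
    (hV : IsAffineOpen V) (hWV : W ≤ V) (hW : IsCompact (W : Set X))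
    (hW' : IsQuasiSeparated (W : Set X)) (D : X.Opens) (g : Γ(X, V))
    (hgD : X.basicOpen g ≤ D) (ρg : Γ(X, W)) (hρg : ρg = X.presheaf.map (homOfLE hWV).op g)
    (hWgD : X.basicOpen ρg ≤ D)
    (m' : Γ(E, X.basicOpen ρg)) (hm' : m' ∈ genSub E hWgD) :
    ∃ (k : ℕ) (y : Γ(E, W)), y ∈ genSub E hWV ∧
      X.presheaf.map (homOfLE (X.basicOpen_le ρg)).op (ρg ^ k) • m' =
      E.presheaf.map (homOfLE (X.basicOpen_le ρg)).op y := by
  have hWgDg : X.basicOpen ρg ≤ X.basicOpen g := by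
    rw [hρg, Scheme.basicOpen_res]; exact inf_le_right
  have key : ∀ n : ℕ, X.presheaf.map (homOfLE (X.basicOpen_le ρg)).op (ρg ^ n) =
      X.presheaf.map (homOfLE (hWgDg.trans (X.basicOpen_le g))).op (g ^ n) := by
    subst hρg
    intro n
    rw [← map_pow, resO_resO]
  refine Submodule.span_induction (p := fun m' _ => ∃ (k : ℕ) (y : Γ(E, W)), y ∈ genSub E hWV ∧
      X.presheaf.map (homOfLE (X.basicOpen_le ρg)).op (ρg ^ k) • m' =
      E.presheaf.map (homOfLE (X.basicOpen_le ρg)).op y) ?_ ?_ ?_ ?_ hm'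
  · rintro _ ⟨e, rfl⟩
    obtain ⟨n, t, ht⟩ := (isLocalizingOn_of_isAffineOpen E hV).surj g
      (E.presheaf.map (homOfLE hgD).op e)
    refine ⟨n, E.presheaf.map (homOfLE hWV).op t, res_mem_genSub E hWV t, ?_⟩
    have h1 := congrArg (E.presheaf.map (homOfLE hWgDg).op) ht
    rw [Scheme.Modules.map_smul, res_res, res_res, resO_resO] at h1
    rw [res_res, key]
    exact h1
  · exact ⟨0, 0, Submodule.zero_mem _, by simp⟩
  · rintro a b _ _ ⟨k₁, y₁, hy₁, e₁⟩ ⟨k₂, y₂, hy₂, e₂⟩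
    refine ⟨k₁ + k₂, ρg ^ k₂ • y₁ + ρg ^ k₁ • y₂,
      Submodule.add_mem _ (Submodule.smul_mem _ _ hy₁) (Submodule.smul_mem _ _ hy₂), ?_⟩
    rw [map_add, Scheme.Modules.map_smul, Scheme.Modules.map_smul, ← e₁, ← e₂, smul_add,
      ← mul_smul, ← mul_smul, ← map_mul, ← map_mul, ← pow_add, ← pow_add, add_comm k₂ k₁]
  · rintro b a _ ⟨k, y, hy, e⟩
    obtain ⟨n, β, hβ⟩ := exists_eq_pow_mul_of_isCompact_of_isQuasiSeparated X W hW hW' ρg b
    refine ⟨n + k, β • y, Submodule.smul_mem _ _ hy, ?_⟩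
    have hβ' : X.presheaf.map (homOfLE (X.basicOpen_le ρg)).op β =
        (X.presheaf.map (homOfLE (X.basicOpen_le ρg)).op ρg) ^ n * b := hβ
    rw [Scheme.Modules.map_smul, ← e, hβ', pow_add, map_mul, map_pow, map_pow, ← mul_smul,
      ← mul_smul]
    congr 1
    ring

/-- on a quasi-compact open `W` of an affine open `V`, the sections of a quasi-coherent finite
locally free module are generated by the sections over `V` -/
theorem genSub_eq_top (E : X.Modules) [E.IsQuasicoherent] (hE : FlatMod.IsFinLocFree E)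
    {V W : X.Opens} (hV : IsAffineOpen V) (hWV : W ≤ V) (hW : IsCompact (W : Set X)) :
    genSub E hWV = ⊤ := by
  have hW' : IsQuasiSeparated (W : Set X) := hV.isQuasiSeparated.of_subset hWV
  rw [eq_top_iff]
  intro m _
  have hloc : ∀ x : V, ∃ (g : Γ(X, V)) (k : ℕ), (x : X) ∈ X.basicOpen g ∧
      (X.presheaf.map (homOfLE hWV).op g) ^ (k + 1) • m ∈ genSub E hWV := by
    intro x
    obtain ⟨D, n, hxD, ⟨φ⟩⟩ := hE x
    obtain ⟨g, hgD, hxg⟩ := hV.exists_basicOpen_le (V := D) ⟨x, hxD⟩ x.2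
    obtain ⟨ρg, hρg⟩ : ∃ ρg : Γ(X, W), ρg = X.presheaf.map (homOfLE hWV).op g := ⟨_, rfl⟩
    have hWgD : X.basicOpen ρg ≤ D := by
      rw [hρg, Scheme.basicOpen_res]; exact inf_le_right.trans hgD
    have hm' : E.presheaf.map (homOfLE (X.basicOpen_le ρg)).op m ∈ genSub E hWgD := by
      rw [genSub_of_free E D n φ hWgD]; trivial
    obtain ⟨k, y, hy, e⟩ := exists_pow_smul_mem_aux E hV hWV hW hW' D g hgD ρg hρg hWgD _ hm'
    have hδ : E.presheaf.map (homOfLE (X.basicOpen_le ρg)).op (ρg ^ k • m - y) = 0 := by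
      rw [map_sub, Scheme.Modules.map_smul, e, sub_self]
    obtain ⟨k', hk'⟩ := exists_pow_smul_eq_zero_of_isCompact E hW ρg _ hδ
    refine ⟨g, k' + k, hxg, ?_⟩
    rw [← hρg]
    have h2 : ρg ^ (k' + k + 1) • m = (ρg * ρg ^ k') • y := by
      rw [smul_sub, sub_eq_zero] at hk'
      rw [mul_smul, ← hk', ← mul_smul, ← mul_smul]
      congr 1
      ring
    rw [h2]
    exact Submodule.smul_mem _ _ hy
  choose g k hxg hmem using hloc
  have hspan : Ideal.span (Set.range fun x : V => g x ^ (k x + 1)) = ⊤ := by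
    rw [← hV.self_le_iSup_basicOpen_iff]
    intro x hx
    rw [Opens.mem_iSup]
    refine ⟨⟨g ⟨x, hx⟩ ^ (k ⟨x, hx⟩ + 1), ⟨⟨x, hx⟩, rfl⟩⟩, ?_⟩
    change x ∈ X.basicOpen (g ⟨x, hx⟩ ^ (k ⟨x, hx⟩ + 1))
    rw [Scheme.basicOpen_pow _ _ (Nat.succ_pos _)]
    exact hxg ⟨x, hx⟩
  let 𝔠 : Ideal Γ(X, W) := (genSub E hWV).colon {m}
  have hle : Ideal.map (X.presheaf.map (homOfLE hWV).op).hom
      (Ideal.span (Set.range fun x : V => g x ^ (k x + 1))) ≤ 𝔠 := by
    rw [Ideal.map_le_iff_le_comap, Ideal.span_le]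
    rintro _ ⟨x, rfl⟩
    change (X.presheaf.map (homOfLE hWV).op).hom (g x ^ (k x + 1)) ∈ (genSub E hWV).colon {m}
    rw [map_pow, Submodule.mem_colon_singleton]
    exact hmem x
  rw [hspan, Ideal.map_top] at hle
  have h1 : (1 : Γ(X, W)) ∈ (genSub E hWV).colon {m} := hle Submodule.mem_top
  rw [Submodule.mem_colon_singleton, one_smul] at h1
  exact h1

end Groth.Agent.Lead.ResDiag
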