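import Mathlib
import Groth.Agent.Lead.ResDiagB
import Groth.Agent.Lead.IdealModDict
import Groth.Agent.Helper4.SubExt3
import Groth.Agent.Helper4.QcohEpi
import Groth.Agent.Helper4.FinLocFree4
import Groth.Prelude.Def_PerfAux

/-!
# Lead: the resolution property implies affine diagonal
-/

set_option autoImplicit false
universe u
open CategoryTheory CategoryTheory.Limits AlgebraicGeometry TopologicalSpace Opposite

namespace Groth.Agent.Lead.ResDiag
open Groth.Agent.Helper4 Groth.Agent.Helper4.QcqsMod Groth.Agent.Lead.ExtFree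

variable {X : Scheme.{u}}

/-- an affine open `U` which is the non-vanishing locus of a cosection of a finite locally free
module (in the sense below) meets every affine open in an affine open -/
theorem isAffineOpen_inf_of_cosection (E : X.Modules) [E.IsQuasicoherent]
    (hE : FlatMod.IsFinLocFree E) (σ : E ⟶ Coh.structureModule X) {U V : X.Opens}
    (hV : IsAffineOpen V) (hW : IsCompact ((U ⊓ V : X.Opens) : Set X))
    (e : Γ(E, U)) (he : σ.app U e = (1 : Γ(X, U)))
    (hσ : ∀ t : Γ(E, V), X.basicOpen (show Γ(X, V) from σ.app V t) ≤ U) :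
    IsAffineOpen (U ⊓ V) := by
  have hWV : U ⊓ V ≤ V := inf_le_right
  have hWU : U ⊓ V ≤ U := inf_le_left
  let s : Set Γ(X, U ⊓ V) :=
    Set.range fun t : Γ(E, V) => X.presheaf.map (homOfLE hWV).op (show Γ(X, V) from σ.app V t)
  apply isAffineOpen_of_isAffineOpen_basicOpen (U ⊓ V) s
  · -- the sections span the unit ideal
    have hmem : ∀ m : Γ(E, U ⊓ V), m ∈ genSub E hWV →
        (show Γ(X, U ⊓ V) from σ.app (U ⊓ V) m) ∈ Ideal.span s := by
      intro m hm
      refine Submodule.span_induction (p := fun m _ =>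
        (show Γ(X, U ⊓ V) from σ.app (U ⊓ V) m) ∈ Ideal.span s) ?_ ?_ ?_ ?_ hm
      · rintro _ ⟨t, rfl⟩
        apply Ideal.subset_span
        refine ⟨t, ?_⟩
        exact (StalkExact.app_res σ (homOfLE hWV) t).symm
      · rw [map_zero]; exact Submodule.zero_mem _
      · intro a b _ _ ha hb
        rw [map_add]; exact Submodule.add_mem _ ha hb
      · intro b a _ ha
        rw [Scheme.Modules.Hom.app_smul]
        exact Ideal.mul_mem_left _ b ha
    have h1 := hmem (E.presheaf.map (homOfLE hWU).op e)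
      (by rw [genSub_eq_top E hE hV hWV hW]; trivial)
    rw [StalkExact.app_res σ (homOfLE hWU) e, he] at h1
    have h2 : (Coh.structureModule X).presheaf.map (homOfLE hWU).op (1 : Γ(X, U)) =
        (1 : Γ(X, U ⊓ V)) := map_one (X.presheaf.map (homOfLE hWU).op).hom
    rw [h2] at h1
    exact (Ideal.eq_top_iff_one _).mpr h1
  · rintro _ ⟨t, rfl⟩
    rw [Scheme.basicOpen_res]
    have : (U ⊓ V) ⊓ X.basicOpen (show Γ(X, V) from σ.app V t) =
        X.basicOpen (show Γ(X, V) from σ.app V t) :=
      inf_eq_right.mpr (le_inf (hσ t) (X.basicOpen_le _))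
    rw [this]
    exact hV.basicOpen _

/-- **the resolution property implies affine diagonal** -/
theorem main (X : Scheme.{u}) [CompactSpace ↥X] [QuasiSeparatedSpace ↥X]
    (hX : PerfAux.HasResolutionProperty X) (U V : X.Opens) (hU : IsAffineOpen U)
    (hV : IsAffineOpen V) : IsAffineOpen (U ⊓ V) := by
  let Z : Closeds X := ⟨(U : Set X)ᶜ, U.isOpen.isClosed_compl⟩
  let 𝓘 : X.IdealSheafData := Scheme.IdealSheafData.vanishingIdeal Z
  have hsupp : ∀ x : X, x ∈ 𝓘.support ↔ x ∉ U := by
    intro x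
    rw [← SetLike.mem_coe, Scheme.IdealSheafData.coe_support_vanishingIdeal]
    rfl
  -- the unit section of the ideal over `U`
  have h1mem : (1 : Γ(X, U)) ∈ 𝓘.ideal ⟨U, hU⟩ := by
    have h0 : 𝓘.ideal ⟨U, hU⟩ = ⊤ := by
      rw [Scheme.IdealSheafData.vanishingIdeal_ideal, eq_top_iff]
      intro f _
      rw [PrimeSpectrum.mem_vanishingIdeal]
      intro p hp
      exfalso
      have h2 : hU.fromSpec p ∈ (U : Set X) := by
        rw [← hU.range_fromSpec]; exact ⟨p, rfl⟩
      exact hp h2
    rw [h0]; trivial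
  obtain ⟨τ, hτ⟩ := (IdealModDict.exists_section_iff 𝓘 ⟨U, hU⟩ 1).mpr h1mem
  obtain ⟨G, i, hi, hGq, hGft, g, hg⟩ := SubExt.exists_submodule_through_section
    (ClSub.idealMod 𝓘) U hU.isCompact τ
  obtain ⟨E, π, hE, hπ⟩ := hX G hGq hGft
  have : E.IsQuasicoherent := FinLocFree4.isQuasicoherent_of_isFinLocFree E hE
  have : G.IsQuasicoherent := hGq
  let σ : E ⟶ Coh.structureModule X := π ≫ i ≫ ClSub.idealModι 𝓘
  obtain ⟨e, he⟩ := QcohEpi.app_surjective_of_epi π hU g
  have hW : IsCompact ((U ⊓ V : X.Opens) : Set X) := by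
    rw [Opens.coe_inf]
    exact QuasiSeparatedSpace.inter_isCompact _ _ U.isOpen hU.isCompact V.isOpen hV.isCompact
  refine isAffineOpen_inf_of_cosection E hE σ hV hW e ?_ ?_
  · change (ClSub.idealModι 𝓘).app U (i.app U (π.app U e)) = _
    rw [he]
    have : i.app U g = τ := hg
    rw [this]
    exact hτ
  · intro t x hx
    have hxV : x ∈ V := X.basicOpen_le _ hx
    by_contra hxU
    have h3 : x ∈ 𝓘.support := (hsupp x).mpr hxU
    rw [Scheme.IdealSheafData.mem_support_iff_of_mem (U := ⟨V, hV⟩) hxV,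
      Scheme.mem_zeroLocus_iff] at h3
    refine h3 _ ?_ hx
    exact (IdealModDict.exists_section_iff 𝓘 ⟨V, hV⟩ _).mp ⟨i.app V (π.app V t), rfl⟩

end Groth.Agent.Lead.ResDiag
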