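import Groth.Agent.Lead.ThickBC
import Groth.Agent.Lead.Thick4
import Groth.Prelude
import Mathlib

set_option autoImplicit false
set_option linter.style.haveILetI false
set_option linter.unusedSectionVars false
set_option linter.unusedVariables false
open CategoryTheory CategoryTheory.Limits AlgebraicGeometry Opposite TopologicalSpace
universe u

namespace Groth.Agent.Lead.RibbonCI

section Alg

theorem surj_of_sq_zero {A B B' : Type u} [CommRing A] [CommRing B] [CommRing B']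
    (φ : A →+* B) (π : B →+* B')
    (hπφ : Function.Surjective (π.comp φ)) (hsq : (RingHom.ker π) ^ 2 = ⊥)
    (hgen : RingHom.ker π = (RingHom.ker (π.comp φ)).map φ) : Function.Surjective φ := by
  have hdecomp : ∀ b : B, ∃ a : A, b - φ a ∈ RingHom.ker π := by
    intro b
    obtain ⟨a, ha⟩ := hπφ (π b)
    refine ⟨a, ?_⟩
    rw [RingHom.mem_ker, map_sub, sub_eq_zero]
    exact ha.symm
  have hJ : ∀ x ∈ RingHom.ker π, x ∈ φ.range := by
    intro x hx
    have hx' : x ∈ Submodule.span B (φ '' (RingHom.ker (π.comp φ) : Set A)) := by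
      rw [hgen] at hx
      exact hx
    induction hx' using Submodule.span_induction with
    | mem y hy =>
      obtain ⟨k, -, rfl⟩ := hy
      exact ⟨k, rfl⟩
    | zero => exact Subring.zero_mem _
    | add y z _ _ hy hz =>
      have hyJ : y ∈ RingHom.ker π := by rw [hgen]; assumption
      have hzJ : z ∈ RingHom.ker π := by rw [hgen]; assumption
      exact Subring.add_mem _ (hy hyJ) (hz hzJ)
    | smul b y hy hyr =>
      have hyJ : y ∈ RingHom.ker π := by rw [hgen]; exact hy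
      obtain ⟨a, ha⟩ := hdecomp b
      obtain ⟨a', rfl⟩ := hyr hyJ
      have hz : (b - φ a) * φ a' = 0 := by
        have h1 : (b - φ a) * φ a' ∈ (RingHom.ker π) ^ 2 := by
          rw [pow_two]
          exact Ideal.mul_mem_mul ha hyJ
        rw [hsq] at h1
        exact h1
      refine ⟨a * a', ?_⟩
      rw [map_mul, smul_eq_mul]
      linear_combination -hz
  intro b
  obtain ⟨a, ha⟩ := hdecomp b
  obtain ⟨a', ha'⟩ := hJ _ ha
  exact ⟨a + a', by rw [map_add, ha']; ring⟩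

theorem map_ker_comp {A B B' : Type u} [CommRing A] [CommRing B] [CommRing B']
    (φ : A →+* B) (π : B →+* B') (hφ : Function.Surjective φ) :
    (RingHom.ker (π.comp φ)).map φ = RingHom.ker π := by
  rw [← RingHom.comap_ker, Ideal.map_comap_of_surjective _ hφ]

end Alg

variable {D C X : Scheme.{u}} (i : D ⟶ C) (f : C ⟶ X)

theorem ideal_comap_preimage [QuasiCompact (i ≫ f)] (V : X.affineOpens)
    (hU : IsAffineOpen (f ⁻¹ᵁ V.1)) :
    ((i ≫ f).ker.comap f).ideal ⟨f ⁻¹ᵁ V.1, hU⟩ =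
      (RingHom.ker ((i ≫ f).app V.1).hom).map (f.app V.1).hom := by
  rw [ThickBC.ideal_comap_appLE f (i ≫ f).ker V ⟨f ⁻¹ᵁ V.1, hU⟩ le_rfl, Scheme.Hom.ker_apply,
    Scheme.Hom.appLE_eq_app]

theorem hcomp (V : X.Opens) :
    ((i ≫ f).app V).hom = (i.app (f ⁻¹ᵁ V)).hom.comp (f.app V).hom := by
  rw [Scheme.Hom.comp_app]
  rfl

theorem fwd (hi : IsClosedImmersion i) [IsClosedImmersion f] :
    (i ≫ f).ker.comap f = i.ker := by
  haveI := hi
  apply Scheme.IdealSheafData.ext_of_iSup_eq_top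
    (fun V : X.affineOpens => (⟨f ⁻¹ᵁ V.1, V.2.preimage f⟩ : C.affineOpens))
  · rw [eq_top_iff]
    intro c _
    obtain ⟨_, ⟨V, hV : IsAffineOpen V, rfl⟩, hcV, -⟩ :=
      X.isBasis_affineOpens.exists_subset_of_mem_open (Set.mem_univ (f c)) isOpen_univ
    exact Opens.mem_iSup.mpr ⟨⟨V, hV⟩, hcV⟩
  · intro V
    rw [ideal_comap_preimage i f V _, Scheme.Hom.ker_apply i ⟨_, _⟩, hcomp i f V.1]
    exact map_ker_comp _ _ (f.app_surjective V.1 V.2)

theorem bwd (hi : IsClosedImmersion i) (hsq : i.ker ^ 2 = ⊥) (hcl : IsClosedImmersion (i ≫ f))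
    (h' : (i ≫ f).ker.comap f = i.ker) : IsClosedImmersion f := by
  haveI := hi
  haveI := hcl
  have hsurj : Function.Surjective i := by
    have h1 := Scheme.IdealSheafData.support_pow_succ i.ker 1
    rw [show (1 + 1 : ℕ) = 2 from rfl, hsq, Scheme.IdealSheafData.support_bot] at h1
    have h2 := i.support_ker
    rw [← h1] at h2
    rw [← Set.range_eq_univ, ← i.isClosedEmbedding.isClosed_range.closure_eq, ← h2]
    rfl
  have haff : ∀ V : X.Opens, IsAffineOpen V → IsAffineOpen (f ⁻¹ᵁ V) := by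
    intro V hV
    have hO : IsAffineOpen (i ⁻¹ᵁ (f ⁻¹ᵁ V)) := hV.preimage (i ≫ f)
    haveI : IsAffine ↑(i ⁻¹ᵁ (f ⁻¹ᵁ V)) := hO
    haveI : IsClosedImmersion (i ∣_ (f ⁻¹ᵁ V)) := inferInstance
    have hs : Function.Surjective (i ∣_ (f ⁻¹ᵁ V)) := by
      rintro ⟨c, hc⟩
      obtain ⟨d, rfl⟩ := hsurj c
      exact ⟨⟨d, hc⟩, Subtype.ext (by simp)⟩
    exact Thick.isAffine_of_thickening (i ∣_ (f ⁻¹ᵁ V)) hs
  rw [isClosedImmersion_iff_isAffineHom]
  refine ⟨⟨haff⟩, fun V hV => ?_⟩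
  have hU := haff V hV
  apply surj_of_sq_zero (f.app V).hom (i.app (f ⁻¹ᵁ V)).hom
  · rw [← hcomp i f V]
    exact (i ≫ f).app_surjective V hV
  · rw [← Scheme.Hom.ker_apply i ⟨_, hU⟩]
    have := congrArg (fun J : C.IdealSheafData => J.ideal ⟨_, hU⟩) hsq
    exact this
  · rw [← hcomp i f V, ← Scheme.Hom.ker_apply i ⟨_, hU⟩, ← h',
      ideal_comap_preimage i f ⟨V, hV⟩ hU]
    rfl

theorem main (hR : MultCurve.IsRibbon i) :
    IsClosedImmersion f ↔ (IsClosedImmersion (i ≫ f) ∧ (i ≫ f).ker.comap f = i.ker) := by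
  obtain ⟨⟨hi, hsq, -⟩, -⟩ := hR
  constructor
  · intro hf
    haveI := hf
    haveI := hi
    exact ⟨inferInstance, fwd i f hi⟩
  · rintro ⟨hcl, h'⟩
    exact bwd i f hi hsq hcl h'

end Groth.Agent.Lead.RibbonCI
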