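import Mathlib
import Groth.Prelude.Def_SpSeq
import Groth.Agent.Helper8.SpSeqOne
import Groth.Agent.Lead.SpProp

/-!
# Weak Serre classes and abutments of first quadrant spectral sequences: a truncated version

If the `E₂^{p,q}` terms of a first quadrant spectral sequence lie in a weak Serre class for
`q ≤ n`, then the abutment objects `H^i` lie in it for `i ≤ n`.
-/

set_option autoImplicit false

namespace Groth.Agent.Lead.SpProp

open CategoryTheory Limits Groth.Agent.Helper8

universe v u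

variable {C : Type u} [Category.{v} C] [Abelian C] {P : C → Prop}

theorem prop_page_le (hP : WeakSerre P) (E : E₂CohomologicalSpectralSequence C) (n : ℤ)
    (hz : ∀ pq : ℤ × ℤ, (pq.1 < 0 ∨ pq.2 < 0) → IsZero ((E.page 2 le_rfl).X pq))
    (hE : ∀ pq : ℤ × ℤ, pq.2 ≤ n → P ((E.page 2 le_rfl).X pq)) :
    ∀ (r : ℤ) (hr : 2 ≤ r) (pq : ℤ × ℤ) (j : ℤ), 0 ≤ j → pq.1 + pq.2 ≤ n + j →
      pq.2 + j * (r - 1) ≤ n → P ((E.page r hr).X pq) := by
  intro r hr
  induction r, hr using Int.leInduction with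
  | base =>
    intro pq j hj _ h2
    apply hE
    nlinarith
  | succ r hr ih =>
    intro pq j hj h1 h2
    have hzr : ∀ pq' : ℤ × ℤ, (pq'.1 < 0 ∨ pq'.2 < 0) → IsZero ((E.page r hr).X pq') :=
      fun pq' h => SpSeqOne.isZero_page_of_le E pq' 2 le_rfl (hz pq' h) r hr hr
    have hjr : j * (r + 1 - 1) = j * (r - 1) + j := by ring
    rw [hjr] at h2
    by_cases hquad : pq.1 < 0 ∨ pq.2 < 0
    · exact hP.zero _ (SpSeqOne.isZero_page_of_le E pq 2 le_rfl (hz pq hquad) (r + 1)
        (hr.trans (by lia)) (by lia))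
    · push_neg at hquad
      obtain ⟨hp0, hq0⟩ := hquad
      refine hP.iso (E.iso r (r + 1) pq rfl hr) ?_
      have hprev : (ComplexShape.up' (⟨r, 1 - r⟩ : ℤ × ℤ)).prev pq = pq - (r, 1 - r) :=
        (ComplexShape.up' (⟨r, 1 - r⟩ : ℤ × ℤ)).prev_eq'
          (show (ComplexShape.up' (⟨r, 1 - r⟩ : ℤ × ℤ)).Rel (pq - (r, 1 - r)) pq from
            sub_add_cancel pq (r, 1 - r))
      have hnext : (ComplexShape.up' (⟨r, 1 - r⟩ : ℤ × ℤ)).next pq = pq + (r, 1 - r) :=
        (ComplexShape.up' (⟨r, 1 - r⟩ : ℤ × ℤ)).next_eq' (j := pq + (r, 1 - r)) rfl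
      refine prop_homology hP ((E.page r hr).sc pq) ?_ ?_ ?_
      · show P ((E.page r hr).X ((ComplexShape.up' (⟨r, 1 - r⟩ : ℤ × ℤ)).prev pq))
        rw [hprev]
        by_cases hpr : pq.1 - r < 0
        · exact hP.zero _ (hzr _ (Or.inl (by simpa using hpr)))
        · push_neg at hpr
          by_cases hj0 : j = 0
          · subst hj0
            refine ih (pq - (r, 1 - r)) 0 le_rfl ?_ ?_
            · simp only [Prod.fst_sub, Prod.snd_sub]
              lia
            · simp only [Prod.fst_sub, Prod.snd_sub]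
              lia
          · refine ih (pq - (r, 1 - r)) (j - 1) (by lia) ?_ ?_
            · simp only [Prod.fst_sub, Prod.snd_sub]
              lia
            · simp only [Prod.fst_sub, Prod.snd_sub]
              have : (j - 1) * (r - 1) = j * (r - 1) - (r - 1) := by ring
              rw [this]
              lia
      · exact ih pq j hj h1 (by lia)
      · show P ((E.page r hr).X ((ComplexShape.up' (⟨r, 1 - r⟩ : ℤ × ℤ)).next pq))
        rw [hnext]
        refine ih (pq + (r, 1 - r)) (j + 1) (by lia) ?_ ?_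
        · simp only [Prod.fst_add, Prod.snd_add]
          lia
        · simp only [Prod.fst_add, Prod.snd_add]
          have : (j + 1) * (r - 1) = j * (r - 1) + (r - 1) := by ring
          rw [this]
          lia

theorem prop_gr_le (hP : WeakSerre P) (E : E₂CohomologicalSpectralSequence C) (H : ℤ → C)
    (a : SpSeq.Abutment E H) (n : ℤ)
    (hz : ∀ pq : ℤ × ℤ, (pq.1 < 0 ∨ pq.2 < 0) → IsZero ((E.page 2 le_rfl).X pq))
    (hE : ∀ pq : ℤ × ℤ, pq.2 ≤ n → P ((E.page 2 le_rfl).X pq)) (i : ℤ) (hi : i ≤ n) (p : ℤ) :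
    P (SpSeq.grPiece (a.fil i) (a.anti i) p) := by
  have hpage : P ((E.page (a.rk (p, i - p)) (a.stat (p, i - p)).1).X (p, i - p)) := by
    by_cases hp : p < 0
    · exact hP.zero _ (SpSeqOne.isZero_page_of_le E (p, i - p) 2 le_rfl
        (hz (p, i - p) (Or.inl hp)) _ _ (a.stat (p, i - p)).1)
    · push_neg at hp
      refine prop_page_le hP E n hz hE _ _ (p, i - p) 0 le_rfl ?_ ?_
      · simp only []
        lia
      · simp only []
        lia
  exact hP.iso (SpSeqOne.β' a (p, i - p) i (by simp)) hpage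

/-- **Weak Serre classes pass to abutments, truncated version.** -/
theorem prop_abutment_le (hP : WeakSerre P) (E : E₂CohomologicalSpectralSequence C) (H : ℤ → C)
    (a : SpSeq.Abutment E H) (hfin : ∀ n, a.IsFinite n) (n : ℤ)
    (hz : ∀ pq : ℤ × ℤ, (pq.1 < 0 ∨ pq.2 < 0) → IsZero ((E.page 2 le_rfl).X pq))
    (hE : ∀ pq : ℤ × ℤ, pq.2 ≤ n → P ((E.page 2 le_rfl).X pq)) (i : ℤ) (hi : i ≤ n) : P (H i) :=
  prop_of_finite hP (a.fil i) (a.anti i) (fun p => prop_gr_le hP E H a n hz hE i hi p)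
    (hfin i).1 (hfin i).2

end Groth.Agent.Lead.SpProp
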