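import Mathlib
import Groth.Agent.Lead.RelExtCoh2
import Groth.Agent.Lead.SpProp3
import Groth.Agent.Helper9.SpRelExt
import Groth.Agent.Helper9.ModCechExt
import Groth.Agent.Helper1.RpCoh2
import Groth.Agent.Helper1.DeltaComp

/-!
# Coherence of the higher direct images of a composite `U ⟶ X ⟶ S` with `X ⟶ S` proper, in a range
-/

set_option autoImplicit false
set_option linter.style.haveILetI false
set_option linter.unusedSectionVars false

universe u

open CategoryTheory CategoryTheory.Limits AlgebraicGeometry TopologicalSpace Opposite Abelian ZeroObject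

namespace Groth.Agent.Lead.RpOpen

open Groth.Agent.Helper1 Groth.Agent.Helper9

variable {U X S : Scheme.{u}} (g : U ⟶ X) (f : X ⟶ S)

/-- the direct image of an injective module is acyclic for the direct image functors -/
theorem isZero_Rpush_push_injective [HasInjectiveResolutions X.Modules]
    (Q : U.Modules) [Injective Q] (q : ℕ) (hq : 0 < q) :
    IsZero ((Coh.Rpush f q).obj ((Coh.push g).obj Q)) := by
  obtain ⟨q, rfl⟩ : ∃ q' : ℕ, q = q' + 1 := ⟨q - 1, by lia⟩
  apply SpRelExt.isZero_of_isZero_tA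
  obtain ⟨e⟩ := RpushCmp.nonempty_iso f (q + 1) ((Coh.push g).obj Q)
  refine IsZero.of_iso ?_ e
  have h1 : CohCx.IsTotallyAcyclic ((RpushCmp.tA U).obj Q) :=
    @ModCechExt.totallyAcyclic_of_injective_mod _ _ _ U.ringCatSheaf Q ‹Injective Q›
  have h2 := PushAcyc.totallyAcyclic_push (K := Opens.grothendieckTopology X)
    (Opens.map g.base) _ h1
  exact SiteCoh.isZero_Rpush_of_isTotallyAcyclic
    (Opens.grothendieckTopology X) (Opens.grothendieckTopology S) (Opens.map f.base) h2 q

/-- **The Leray spectral sequence** `R^p f_* R^q g_* F ⇒ R^{p+q} (g ≫ f)_* F`, for modules. -/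
theorem exists_leray [HasInjectiveResolutions U.Modules] [HasInjectiveResolutions X.Modules]
    (F : U.Modules) :
    ∃ (E : E₂CohomologicalSpectralSequence S.Modules)
      (a : SpSeq.Abutment E (fun n : ℤ =>
        if 0 ≤ n then ((Coh.push g ⋙ Coh.push f).rightDerived n.toNat).obj F
          else (0 : S.Modules))),
      (∀ n : ℤ, a.IsFinite n) ∧ SpSeq.IsBounded E ∧
      ∀ p q : ℤ, Nonempty ((E.page 2 le_rfl).X (p, q) ≅
        (if 0 ≤ p ∧ 0 ≤ q then
          (Coh.Rpush f p.toNat).obj ((Coh.Rpush g q.toNat).obj F)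
          else (0 : S.Modules))) :=
  SpGS.grothendieck (C := U.Modules) (C' := X.Modules) (C'' := S.Modules)
    (Coh.push g) (Coh.push f)
    (fun Q hQ q hq => by
      haveI : Injective (C := U.Modules) Q := hQ
      exact isZero_Rpush_push_injective g f Q q hq) F

/-- coherence in a range of the higher direct images of a composite with a proper morphism -/
theorem isCoh_Rpush_comp [IsProper f] [IsLocallyNoetherian S]
    [HasInjectiveResolutions U.Modules] [HasInjectiveResolutions X.Modules]
    (F : U.Modules) (n : ℕ) (hg : ∀ i : ℕ, i ≤ n → Coh.IsCoh ((Coh.Rpush g i).obj F))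
    (i : ℕ) (hi : i ≤ n) : Coh.IsCoh ((Coh.Rpush (g ≫ f) i).obj F) := by
  obtain ⟨E, a, hfin, -, hE⟩ := exists_leray g f F
  have hWS := Groth.Agent.Lead.RelExt.weakSerre_isCoh S
  have hz : ∀ pq : ℤ × ℤ, (pq.1 < 0 ∨ pq.2 < 0) → IsZero ((E.page 2 le_rfl).X pq) := by
    rintro ⟨p', q'⟩ h
    obtain ⟨e⟩ := hE p' q'
    have hn : ¬ ((0 : ℤ) ≤ p' ∧ (0 : ℤ) ≤ q') := by
      simp only at h
      lia
    rw [if_neg hn] at e
    exact IsZero.of_iso (isZero_zero _) e
  have hE2 : ∀ pq : ℤ × ℤ, pq.2 ≤ (n : ℤ) → Coh.IsCoh ((E.page 2 le_rfl).X pq) := by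
    rintro ⟨p', q'⟩ hq
    obtain ⟨e⟩ := hE p' q'
    refine hWS.iso e.symm ?_
    split_ifs with h
    · refine RpCoh.s0036 f _ (hg _ ?_) _
      simp only at hq
      lia
    · exact hWS.zero _ (isZero_zero _)
  have h := SpProp.prop_abutment_le hWS E _ a hfin (n : ℤ) hz hE2 (i : ℤ) (by exact_mod_cast hi)
  have h' : Coh.IsCoh (((Coh.push g ⋙ Coh.push f).rightDerived i).obj F) := by simpa using h
  exact hWS.iso ((DeltaFun.rightDerivedIso (Scheme.Modules.pushforwardComp g f) i).app F) h'

end Groth.Agent.Lead.RpOpen
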