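import Mathlib

/-! Pushouts of schemes, part A: maps into affine schemes from fibre squares of global sections. -/

set_option autoImplicit false
open CategoryTheory AlgebraicGeometry TopologicalSpace Opposite
universe u

namespace Groth.Agent.Lead.SchPushout

lemma exists_ringHom_of_fibre {R A B T : Type*} [CommRing R] [CommRing A] [CommRing B] [CommRing T]
    (α : R →+* A) (β : R →+* B) (inj : ∀ s t, α s = α t → β s = β t → s = t)
    (u : T →+* A) (v : T →+* B) (hs : ∀ t, ∃ s, α s = u t ∧ β s = v t) :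
    ∃ φ : T →+* R, α.comp φ = u ∧ β.comp φ = v := by
  choose φ₀ hφ₁ hφ₂ using hs
  refine ⟨{ toFun := φ₀, map_one' := ?_, map_mul' := ?_, map_zero' := ?_, map_add' := ?_ }, ?_, ?_⟩
  · exact inj _ _ (by rw [hφ₁, map_one, map_one]) (by rw [hφ₂, map_one, map_one])
  · intro x y
    exact inj _ _ (by rw [hφ₁, map_mul, map_mul, hφ₁, hφ₁]) (by rw [hφ₂, map_mul, map_mul, hφ₂, hφ₂])
  · exact inj _ _ (by rw [hφ₁, map_zero, map_zero]) (by rw [hφ₂, map_zero, map_zero])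
  · intro x y
    exact inj _ _ (by rw [hφ₁, map_add, map_add, hφ₁, hφ₁]) (by rw [hφ₂, map_add, map_add, hφ₂, hφ₂])
  · ext t; exact hφ₁ t
  · ext t; exact hφ₂ t

/-- the morphism to an affine scheme given by a map on global sections -/
noncomputable def homOfΓ {Q V : Scheme.{u}} [IsAffine V] (φ : Γ(V, ⊤) ⟶ Γ(Q, ⊤)) : Q ⟶ V :=
  Q.toSpecΓ ≫ Spec.map φ ≫ V.isoSpec.inv

lemma homOfΓ_appTop {Q V : Scheme.{u}} [IsAffine V] (φ : Γ(V, ⊤) ⟶ Γ(Q, ⊤)) :
    (homOfΓ φ).appTop = φ := by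
  have h : V.isoSpec.inv.appTop ≫ (Scheme.ΓSpecIso Γ(V, ⊤)).hom = 𝟙 _ := by
    rw [← Scheme.toSpecΓ_appTop, ← Scheme.Hom.comp_appTop]
    have : V.toSpecΓ ≫ V.isoSpec.inv = 𝟙 V := V.isoSpec.hom_inv_id
    rw [this]
    rfl
  simp only [homOfΓ, Scheme.Hom.comp_appTop, Scheme.toSpecΓ_appTop, Category.assoc]
  have h2 : (Spec.map φ).appTop ≫ (Scheme.ΓSpecIso Γ(Q, ⊤)).hom =
      (Scheme.ΓSpecIso Γ(V, ⊤)).hom ≫ φ := by
    simp
  rw [h2, ← Category.assoc, h, Category.id_comp]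

theorem affTarget {Z' X' Y' W' : Scheme.{u}} (i' : Z' ⟶ X') (j' : Z' ⟶ Y') (a' : X' ⟶ W')
    (b' : Y' ⟶ W')
    (inj : ∀ s t : Γ(W', ⊤), a'.appTop s = a'.appTop t → b'.appTop s = b'.appTop t → s = t)
    (surj : ∀ (sX : Γ(X', ⊤)) (sY : Γ(Y', ⊤)), i'.appTop sX = j'.appTop sY →
      ∃ s, a'.appTop s = sX ∧ b'.appTop s = sY)
    (V : Scheme.{u}) [IsAffine V] (f' : X' ⟶ V) (g' : Y' ⟶ V) (hfg : i' ≫ f' = j' ≫ g') :
    ∃! h' : W' ⟶ V, a' ≫ h' = f' ∧ b' ≫ h' = g' := by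
  obtain ⟨φ, hφ₁, hφ₂⟩ := exists_ringHom_of_fibre a'.appTop.hom b'.appTop.hom inj
    f'.appTop.hom g'.appTop.hom (fun t => surj _ _ (by
      have := congrArg (fun m => m.appTop t) hfg
      simpa [Scheme.Hom.comp_appTop] using this))
  have hφ₁' : CommRingCat.ofHom φ ≫ a'.appTop = f'.appTop := by
    ext t; exact congrArg (fun m => m t) hφ₁
  have hφ₂' : CommRingCat.ofHom φ ≫ b'.appTop = g'.appTop := by
    ext t; exact congrArg (fun m => m t) hφ₂
  refine ⟨homOfΓ (CommRingCat.ofHom φ), ⟨?_, ?_⟩, ?_⟩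
  · apply ext_of_isAffine
    rw [Scheme.Hom.comp_appTop, homOfΓ_appTop, hφ₁']
  · apply ext_of_isAffine
    rw [Scheme.Hom.comp_appTop, homOfΓ_appTop, hφ₂']
  · rintro h'' ⟨h1, h2⟩
    apply ext_of_isAffine
    rw [homOfΓ_appTop]
    ext t
    apply inj
    · have e1 := congrArg (fun m => m.appTop t) h1
      have e2 := congrArg (fun m => m t) hφ₁'
      simp only [Scheme.Hom.comp_appTop, CommRingCat.comp_apply] at e1 e2
      rw [e1]; exact e2.symm
    · have e1 := congrArg (fun m => m.appTop t) h2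
      have e2 := congrArg (fun m => m t) hφ₂'
      simp only [Scheme.Hom.comp_appTop, CommRingCat.comp_apply] at e1 e2
      rw [e1]; exact e2.symm

end Groth.Agent.Lead.SchPushout
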