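import Groth.Agent.Lead.SchPushoutA
import Mathlib

/-! Pushouts of schemes, part B: a criterion for a commutative square of schemes to be a pushout. -/

set_option autoImplicit false
open CategoryTheory AlgebraicGeometry TopologicalSpace Opposite Limits
universe u

namespace Groth.Agent.Lead.SchPushout

section HomExt
variable {P T : Scheme.{u}}

/-- morphisms out of an open subscheme agree if they agree on opens covering it -/
theorem hom_ext_of_cover {O : P.Opens} (u v : O.toScheme ⟶ T)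
    (H : ∀ p ∈ O, ∃ (W' : P.Opens) (h : W' ≤ O), p ∈ W' ∧ P.homOfLE h ≫ u = P.homOfLE h ≫ v) :
    u = v := by
  let 𝒰 : O.toScheme.OpenCover :=
    { I₀ := {W' : P.Opens // ∃ h : W' ≤ O, P.homOfLE h ≫ u = P.homOfLE h ≫ v}
      X := fun k => k.1.toScheme
      f := fun k => P.homOfLE k.2.choose
      mem₀ := by
        rw [Scheme.presieve₀_mem_precoverage_iff]
        refine ⟨fun x => ?_, inferInstance⟩
        obtain ⟨W', h, hp, he⟩ := H x.1 x.2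
        refine ⟨⟨W', h, he⟩, ⟨x.1, hp⟩, ?_⟩
        apply Subtype.ext
        simp }
  exact 𝒰.hom_ext u v (fun k => k.2.choose_spec)

/-- morphisms agree if they agree on a family of opens covering the source -/
theorem hom_ext_of_opens (u v : P ⟶ T)
    (H : ∀ p : P, ∃ (W : P.Opens), p ∈ W ∧ W.ι ≫ u = W.ι ≫ v) : u = v := by
  let 𝒰 : P.OpenCover :=
    { I₀ := {W : P.Opens // W.ι ≫ u = W.ι ≫ v}
      X := fun k => k.1.toScheme
      f := fun k => k.1.ι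
      mem₀ := by
        rw [Scheme.presieve₀_mem_precoverage_iff]
        refine ⟨fun x => ?_, inferInstance⟩
        obtain ⟨W, hp, he⟩ := H x
        exact ⟨⟨W, he⟩, ⟨x, hp⟩, rfl⟩ }
  exact 𝒰.hom_ext u v (fun k => k.2)

end HomExt

section Square
variable {X Y Z P : Scheme.{u}} (i : Z ⟶ X) (j : Z ⟶ Y) (a : X ⟶ P) (b : Y ⟶ P)
  (w : i ≫ a = j ≫ b)

include w in
lemma preimage_le (W : P.Opens) : i ⁻¹ᵁ a ⁻¹ᵁ W ≤ j ⁻¹ᵁ b ⁻¹ᵁ W := by
  rw [← Scheme.Hom.comp_preimage, ← Scheme.Hom.comp_preimage, w]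

/-- the restriction of `a` over `W` -/
noncomputable abbrev rA (W : P.Opens) : (a ⁻¹ᵁ W).toScheme ⟶ W.toScheme := a.resLE W (a ⁻¹ᵁ W) le_rfl

noncomputable abbrev rI (W : P.Opens) : (i ⁻¹ᵁ a ⁻¹ᵁ W).toScheme ⟶ (a ⁻¹ᵁ W).toScheme :=
  i.resLE (a ⁻¹ᵁ W) (i ⁻¹ᵁ a ⁻¹ᵁ W) le_rfl

noncomputable abbrev rJ (W : P.Opens) : (i ⁻¹ᵁ a ⁻¹ᵁ W).toScheme ⟶ (b ⁻¹ᵁ W).toScheme :=
  j.resLE (b ⁻¹ᵁ W) (i ⁻¹ᵁ a ⁻¹ᵁ W) (preimage_le i j a b w W)

lemma resLE_congr_hom {A B : Scheme.{u}} {m m' : A ⟶ B} (h : m = m') (U : B.Opens) (V : A.Opens)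
    (e : V ≤ m ⁻¹ᵁ U) (e' : V ≤ m' ⁻¹ᵁ U) : m.resLE U V e = m'.resLE U V e' := by
  subst h; rfl

lemma rI_rA (W : P.Opens) : rI i a W ≫ rA a W = rJ i j a b w W ≫ rA b W := by
  simp only [rI, rA, rJ, Scheme.Hom.resLE_comp_resLE]
  exact resLE_congr_hom w _ _ _ _

/-- the affine-target pushout property of the square restricted over `W` -/
def AT (W : P.Opens) : Prop :=
  ∀ (V : Scheme.{u}) [IsAffine V] (f' : (a ⁻¹ᵁ W).toScheme ⟶ V) (g' : (b ⁻¹ᵁ W).toScheme ⟶ V),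
    rI i a W ≫ f' = rJ i j a b w W ≫ g' →
    ∃! h' : W.toScheme ⟶ V, rA a W ≫ h' = f' ∧ rA b W ≫ h' = g'

lemma rA_homOfLE {W' W : P.Opens} (h : W' ≤ W) :
    rA a W' ≫ P.homOfLE h = X.homOfLE (a.preimage_mono h) ≫ rA a W := by
  simp only [rA, Scheme.Hom.resLE_map, Scheme.Hom.map_resLE]

variable (hS : ∀ p : P, (∃ x, a x = p) ∨ (∃ y, b y = p))

include hS in
lemma surj_res (W : P.Opens) (p : W.toScheme) :
    (∃ x, rA a W x = p) ∨ (∃ y, rA b W y = p) := by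
  rcases hS p.1 with ⟨x, hx⟩ | ⟨y, hy⟩
  · left
    refine ⟨⟨x, ?_⟩, ?_⟩
    · show a x ∈ W
      rw [hx]; exact p.2
    · apply Subtype.ext
      rw [Scheme.Hom.coe_resLE_apply]
      exact hx
  · right
    refine ⟨⟨y, ?_⟩, ?_⟩
    · show b y ∈ W
      rw [hy]; exact p.2
    · apply Subtype.ext
      rw [Scheme.Hom.coe_resLE_apply]
      exact hy

variable (𝔅 : Set P.Opens) (h𝔅 : Opens.IsBasis 𝔅) (hAT : ∀ W ∈ 𝔅, AT i j a b w W)

include hS h𝔅 hAT in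
/-- uniqueness of morphisms out of a member of the basis -/
theorem uniq_on {T : Scheme.{u}} (W : P.Opens) (u v : W.toScheme ⟶ T)
    (h1 : rA a W ≫ u = rA a W ≫ v) (h2 : rA b W ≫ u = rA b W ≫ v) : u = v := by
  have hpt : ∀ p : W.toScheme, u p = v p := by
    intro p
    rcases surj_res a b hS W p with ⟨x, rfl⟩ | ⟨y, rfl⟩
    · rw [← Scheme.Hom.comp_apply, ← Scheme.Hom.comp_apply, h1]
    · rw [← Scheme.Hom.comp_apply, ← Scheme.Hom.comp_apply, h2]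
  apply hom_ext_of_cover
  intro p hp
  obtain ⟨V, hV, hpV⟩ : ∃ V : T.Opens, IsAffineOpen V ∧ u ⟨p, hp⟩ ∈ V := by
    obtain ⟨V, hV, hpV, -⟩ := Opens.isBasis_iff_nbhd.mp T.isBasis_affineOpens
      (U := ⊤) (x := u ⟨p, hp⟩) trivial
    exact ⟨V, hV, hpV⟩
  have hp2 : p ∈ W.ι ''ᵁ (u ⁻¹ᵁ V) := ⟨⟨p, hp⟩, hpV, rfl⟩
  obtain ⟨W', hW', hpW', hle⟩ : ∃ W' : P.Opens, W' ∈ 𝔅 ∧ p ∈ W' ∧ W' ≤ W.ι ''ᵁ (u ⁻¹ᵁ V) :=
    Opens.isBasis_iff_nbhd.mp h𝔅 hp2
  have hW'W : W' ≤ W := hle.trans (W.ι_image_le _)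
  refine ⟨W', hW'W, hpW', ?_⟩
  have hmem : ∀ q : W'.toScheme, u (P.homOfLE hW'W q) ∈ V := by
    intro q
    obtain ⟨r, hr, hrq⟩ := hle q.2
    have : P.homOfLE hW'W q = r := by
      apply Subtype.ext
      rw [Scheme.homOfLE_apply]
      exact hrq.symm
    rw [this]
    exact hr
  have hru : Set.range (P.homOfLE hW'W ≫ u) ⊆ Set.range V.ι := by
    rintro _ ⟨q, rfl⟩
    rw [Scheme.Opens.range_ι]
    exact hmem q
  have hrv : Set.range (P.homOfLE hW'W ≫ v) ⊆ Set.range V.ι := by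
    rintro _ ⟨q, rfl⟩
    rw [Scheme.Opens.range_ι]
    show v (P.homOfLE hW'W q) ∈ V
    rw [← hpt]
    exact hmem q
  haveI : IsAffine V.toScheme := hV
  have hcomm : rI i a W' ≫ (rA a W' ≫ IsOpenImmersion.lift V.ι _ hru) =
      rJ i j a b w W' ≫ (rA b W' ≫ IsOpenImmersion.lift V.ι _ hru) := by
    rw [← Category.assoc, ← Category.assoc, rI_rA i j a b w W']
  obtain ⟨h', -, huniq⟩ := hAT W' hW' V.toScheme _ _ hcomm
  have e1 : IsOpenImmersion.lift V.ι _ hru = h' := huniq _ ⟨rfl, rfl⟩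
  have e2 : IsOpenImmersion.lift V.ι _ hrv = h' := by
    apply huniq
    constructor
    · rw [← cancel_mono V.ι]
      simp only [Category.assoc, IsOpenImmersion.lift_fac]
      rw [← Category.assoc, ← Category.assoc, rA_homOfLE, Category.assoc, Category.assoc, h1]
    · rw [← cancel_mono V.ι]
      simp only [Category.assoc, IsOpenImmersion.lift_fac]
      rw [← Category.assoc, ← Category.assoc, rA_homOfLE, Category.assoc, Category.assoc, h2]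
  rw [← IsOpenImmersion.lift_fac V.ι _ hru, ← IsOpenImmersion.lift_fac V.ι _ hrv, e1, e2]

end Square

end Groth.Agent.Lead.SchPushout
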