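import Groth.Agent.Lead.SchPushoutB
import Mathlib

/-! Pushouts of schemes, part C: existence of the descended morphism and the criterion. -/

set_option autoImplicit false
open CategoryTheory AlgebraicGeometry TopologicalSpace Opposite Limits
universe u

namespace Groth.Agent.Lead.SchPushout

section Main
variable {X Y Z P : Scheme.{u}} (i : Z ⟶ X) (j : Z ⟶ Y) (a : X ⟶ P) (b : Y ⟶ P)
  (w : i ≫ a = j ≫ b)
  (hT : ∀ (T : Type u) [TopologicalSpace T] (f : X → T) (g : Y → T), Continuous f → Continuous g →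
    (∀ z, f (i z) = g (j z)) →
    ∃ h : P → T, Continuous h ∧ (∀ x, h (a x) = f x) ∧ (∀ y, h (b y) = g y))
  (hS : ∀ p : P, (∃ x, a x = p) ∨ (∃ y, b y = p))
  (𝔅 : Set P.Opens) (h𝔅 : Opens.IsBasis 𝔅) (hAT : ∀ W ∈ 𝔅, AT i j a b w W)

include hT hS h𝔅 hAT in
set_option maxHeartbeats 800000 in
theorem exists_desc {T : Scheme.{u}} (f : X ⟶ T) (g : Y ⟶ T) (hfg : i ≫ f = j ≫ g) :
    ∃ h : P ⟶ T, a ≫ h = f ∧ b ≫ h = g := by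
  obtain ⟨h₀, hh₀, hh₀a, hh₀b⟩ := hT T f g f.continuous g.continuous (fun z => by
    have := congrArg (fun m : Z ⟶ T => m z) hfg
    simpa using this)
  -- the good opens
  have hbasis : ∀ (O : P.Opens) (p : P), p ∈ O → ∃ W : P.Opens, W ∈ 𝔅 ∧
      (∃ V : T.Opens, IsAffineOpen V ∧ ∀ q ∈ W, h₀ q ∈ V) ∧ p ∈ W ∧ W ≤ O := by
    intro O p hp
    obtain ⟨V, hV, hpV⟩ : ∃ V : T.Opens, IsAffineOpen V ∧ h₀ p ∈ V := by
      obtain ⟨V, hV, hpV, -⟩ := Opens.isBasis_iff_nbhd.mp T.isBasis_affineOpens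
        (U := ⊤) (x := h₀ p) trivial
      exact ⟨V, hV, hpV⟩
    have hp2 : p ∈ O ⊓ ⟨h₀ ⁻¹' (V : Set T), V.isOpen.preimage hh₀⟩ := ⟨hp, hpV⟩
    obtain ⟨W, hW, hpW, hle⟩ : ∃ W : P.Opens, W ∈ 𝔅 ∧ p ∈ W ∧
        W ≤ O ⊓ ⟨h₀ ⁻¹' (V : Set T), V.isOpen.preimage hh₀⟩ :=
      Opens.isBasis_iff_nbhd.mp h𝔅 hp2
    exact ⟨W, hW, ⟨V, hV, fun q hq => (hle hq).2⟩, hpW, hle.trans inf_le_left⟩
  let 𝒥 := {W : P.Opens // W ∈ 𝔅 ∧ ∃ V : T.Opens, IsAffineOpen V ∧ ∀ q ∈ W, h₀ q ∈ V}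
  have key : ∀ k : 𝒥, ∃ gk : k.1.toScheme ⟶ T, rA a k.1 ≫ gk = (a ⁻¹ᵁ k.1).ι ≫ f ∧
      rA b k.1 ≫ gk = (b ⁻¹ᵁ k.1).ι ≫ g := by
    intro k
    obtain ⟨hk𝔅, V, hV, hWV⟩ := k.2
    have : IsAffine V.toScheme := hV
    have hfV : a ⁻¹ᵁ k.1 ≤ f ⁻¹ᵁ V := by
      intro x hx
      show f x ∈ V
      rw [← hh₀a]
      exact hWV _ hx
    have hgV : b ⁻¹ᵁ k.1 ≤ g ⁻¹ᵁ V := by
      intro y hy
      show g y ∈ V
      rw [← hh₀b]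
      exact hWV _ hy
    have hcomm : rI i a k.1 ≫ f.resLE V (a ⁻¹ᵁ k.1) hfV =
        rJ i j a b w k.1 ≫ g.resLE V (b ⁻¹ᵁ k.1) hgV := by
      simp only [rI, rJ, Scheme.Hom.resLE_comp_resLE]
      exact resLE_congr_hom hfg _ _ _ _
    obtain ⟨h', ⟨e1, e2⟩, -⟩ := hAT k.1 hk𝔅 V.toScheme _ _ hcomm
    refine ⟨h' ≫ V.ι, ?_, ?_⟩
    · rw [← Category.assoc, e1, Scheme.Hom.resLE_comp_ι]
    · rw [← Category.assoc, e2, Scheme.Hom.resLE_comp_ι]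
  choose gk hgk1 hgk2 using key
  let 𝒰 : P.OpenCover :=
    { I₀ := 𝒥
      X := fun k => k.1.toScheme
      f := fun k => k.1.ι
      mem₀ := by
        rw [Scheme.presieve₀_mem_precoverage_iff]
        refine ⟨fun p => ?_, inferInstance⟩
        obtain ⟨W, hW, hWV, hpW, -⟩ := hbasis ⊤ p trivial
        exact ⟨⟨W, hW, hWV⟩, ⟨p, hpW⟩, rfl⟩ }
  let _ : Preorder 𝒰.I₀ := Subtype.preorder _
  have hle : ∀ {k₁ k₂ : 𝒰.I₀}, k₁ ≤ k₂ ↔ (𝒰.f k₁).opensRange ≤ (𝒰.f k₂).opensRange := by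
    intro k₁ k₂
    show k₁.1 ≤ k₂.1 ↔ (k₁.1.ι).opensRange ≤ (k₂.1.ι).opensRange
    rw [Scheme.Opens.opensRange_ι, Scheme.Opens.opensRange_ι]
  have H : Opens.IsBasis (Set.range fun k : 𝒰.I₀ => (𝒰.f k).opensRange) := by
    rw [Opens.isBasis_iff_nbhd]
    intro O p hp
    obtain ⟨W, hW, hWV, hpW, hWO⟩ := hbasis O p hp
    refine ⟨W, ⟨⟨W, hW, hWV⟩, ?_⟩, hpW, hWO⟩
    show (W.ι).opensRange = W
    exact Scheme.Opens.opensRange_ι W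
  let _ : 𝒰.LocallyDirected := Scheme.Cover.LocallyDirected.ofIsBasisOpensRange hle H
  have htrans : ∀ {k₁ k₂ : 𝒰.I₀} (hij : k₁ ⟶ k₂),
      𝒰.trans hij = P.homOfLE (show k₁.1 ≤ k₂.1 from leOfHom hij) := by
    intro k₁ k₂ hij
    rw [← cancel_mono k₂.1.ι, Scheme.homOfLE_ι]
    exact 𝒰.trans_map hij
  have hcompat : ∀ {k₁ k₂ : 𝒰.I₀} (hij : k₁ ⟶ k₂), 𝒰.trans hij ≫ gk k₂ = gk k₁ := by
    intro k₁ k₂ hij
    rw [htrans hij]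
    apply uniq_on i j a b w hS 𝔅 h𝔅 hAT k₁.1
    · rw [← Category.assoc, rA_homOfLE, Category.assoc, hgk1, hgk1, ← Category.assoc,
        Scheme.homOfLE_ι]
    · rw [← Category.assoc, rA_homOfLE, Category.assoc, hgk2, hgk2, ← Category.assoc,
        Scheme.homOfLE_ι]
  let h : P ⟶ T := 𝒰.glueMorphismsOfLocallyDirected gk hcompat
  have hh : ∀ k : 𝒥, k.1.ι ≫ h = gk k := fun k =>
    𝒰.map_glueMorphismsOfLocallyDirected gk hcompat k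
  refine ⟨h, ?_, ?_⟩
  · apply hom_ext_of_opens
    intro x
    obtain ⟨W, hW, hWV, hpW, -⟩ := hbasis ⊤ (a x) trivial
    refine ⟨a ⁻¹ᵁ W, hpW, ?_⟩
    have e : (a ⁻¹ᵁ W).ι ≫ a = rA a W ≫ W.ι := (Scheme.Hom.resLE_comp_ι a le_rfl).symm
    rw [← Category.assoc, e, Category.assoc, hh ⟨W, hW, hWV⟩]
    exact hgk1 ⟨W, hW, hWV⟩
  · apply hom_ext_of_opens
    intro y
    obtain ⟨W, hW, hWV, hpW, -⟩ := hbasis ⊤ (b y) trivial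
    refine ⟨b ⁻¹ᵁ W, hpW, ?_⟩
    have e : (b ⁻¹ᵁ W).ι ≫ b = rA b W ≫ W.ι := (Scheme.Hom.resLE_comp_ι b le_rfl).symm
    rw [← Category.assoc, e, Category.assoc, hh ⟨W, hW, hWV⟩]
    exact hgk2 ⟨W, hW, hWV⟩

include hS h𝔅 hAT in
theorem desc_uniq {T : Scheme.{u}} (m m' : P ⟶ T) (h1 : a ≫ m = a ≫ m') (h2 : b ≫ m = b ≫ m') :
    m = m' := by
  apply hom_ext_of_opens
  intro p
  obtain ⟨W, hW, hpW, -⟩ : ∃ W : P.Opens, W ∈ 𝔅 ∧ p ∈ W ∧ W ≤ ⊤ :=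
    Opens.isBasis_iff_nbhd.mp h𝔅 (U := ⊤) (x := p) trivial
  refine ⟨W, hpW, ?_⟩
  apply uniq_on i j a b w hS 𝔅 h𝔅 hAT W
  · have e : rA a W ≫ W.ι = (a ⁻¹ᵁ W).ι ≫ a := Scheme.Hom.resLE_comp_ι a le_rfl
    rw [← Category.assoc, ← Category.assoc, e, Category.assoc, Category.assoc, h1]
  · have e : rA b W ≫ W.ι = (b ⁻¹ᵁ W).ι ≫ b := Scheme.Hom.resLE_comp_ι b le_rfl
    rw [← Category.assoc, ← Category.assoc, e, Category.assoc, Category.assoc, h2]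

include hT hS h𝔅 hAT in
/-- the criterion -/
theorem isPushout : IsPushout i j a b := by
  refine ⟨⟨w⟩, ⟨PushoutCocone.IsColimit.mk w
    (fun s => (exists_desc i j a b w hT hS 𝔅 h𝔅 hAT s.inl s.inr s.condition).choose)
    (fun s => (exists_desc i j a b w hT hS 𝔅 h𝔅 hAT s.inl s.inr s.condition).choose_spec.1)
    (fun s => (exists_desc i j a b w hT hS 𝔅 h𝔅 hAT s.inl s.inr s.condition).choose_spec.2) ?_⟩⟩
  intro s m h1 h2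
  apply desc_uniq i j a b w hS 𝔅 h𝔅 hAT
  · rw [h1, (exists_desc i j a b w hT hS 𝔅 h𝔅 hAT s.inl s.inr s.condition).choose_spec.1]
  · rw [h2, (exists_desc i j a b w hT hS 𝔅 h𝔅 hAT s.inl s.inr s.condition).choose_spec.2]

end Main

end Groth.Agent.Lead.SchPushout
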