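import Groth.Agent.Lead.SchPushoutC
import Mathlib

/-! Pushouts of schemes, part D: the affine-target property from sections. -/

set_option autoImplicit false
open CategoryTheory AlgebraicGeometry TopologicalSpace Opposite Limits
universe u

namespace Groth.Agent.Lead.SchPushout

section Sections
variable {X Y Z P : Scheme.{u}} (i : Z ⟶ X) (j : Z ⟶ Y) (a : X ⟶ P) (b : Y ⟶ P)
  (w : i ≫ a = j ≫ b)

lemma resLE_appTop_apply {A B : Scheme.{u}} (m : A ⟶ B) (U : B.Opens) (V : A.Opens)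
    (e : V ≤ m ⁻¹ᵁ U) (s : Γ(U.toScheme, ⊤)) :
    V.topIso.hom ((m.resLE U V e).appTop s) = m.appLE U V e (U.topIso.hom s) := by
  have h : (m.resLE U V e).appTop = U.topIso.hom ≫ m.appLE U V e ≫ V.topIso.inv :=
    Scheme.Hom.resLE_app_top m e
  have h2 : (m.resLE U V e).appTop ≫ V.topIso.hom = U.topIso.hom ≫ m.appLE U V e := by
    rw [h, Category.assoc, Category.assoc, Iso.inv_hom_id, Category.comp_id]
  exact congrArg (fun k => k s) h2

theorem AT_of_sections (W : P.Opens)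
    (inj : ∀ s t : Γ(P, W), a.app W s = a.app W t → b.app W s = b.app W t → s = t)
    (surj : ∀ (sX : Γ(X, a ⁻¹ᵁ W)) (sY : Γ(Y, b ⁻¹ᵁ W)),
      i.app (a ⁻¹ᵁ W) sX = j.appLE (b ⁻¹ᵁ W) (i ⁻¹ᵁ a ⁻¹ᵁ W) (preimage_le i j a b w W) sY →
      ∃ s, a.app W s = sX ∧ b.app W s = sY) : AT i j a b w W := by
  intro V _ f' g' hfg
  refine affTarget (rI i a W) (rJ i j a b w W) (rA a W) (rA b W) ?_ ?_ V f' g' hfg
  · intro s t h1 h2
    have h1' := congrArg (fun k => (a ⁻¹ᵁ W).topIso.hom k) h1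
    have h2' := congrArg (fun k => (b ⁻¹ᵁ W).topIso.hom k) h2
    simp only [rA, resLE_appTop_apply, Scheme.Hom.appLE_eq_app] at h1' h2'
    have := inj _ _ h1' h2'
    exact (ConcreteCategory.bijective_of_isIso W.topIso.hom).1 this
  · intro sX sY h
    have h' := congrArg (fun k => (i ⁻¹ᵁ a ⁻¹ᵁ W).topIso.hom k) h
    simp only [rI, rJ, resLE_appTop_apply, Scheme.Hom.appLE_eq_app] at h'
    obtain ⟨s₀, hs1, hs2⟩ := surj _ _ h'
    refine ⟨W.topIso.inv s₀, ?_, ?_⟩
    · apply (ConcreteCategory.bijective_of_isIso (a ⁻¹ᵁ W).topIso.hom).1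
      rw [resLE_appTop_apply, Scheme.Hom.appLE_eq_app,
        show W.topIso.hom (W.topIso.inv s₀) = s₀ from Iso.inv_hom_id_apply _ _]
      exact hs1
    · apply (ConcreteCategory.bijective_of_isIso (b ⁻¹ᵁ W).topIso.hom).1
      rw [resLE_appTop_apply, Scheme.Hom.appLE_eq_app,
        show W.topIso.hom (W.topIso.inv s₀) = s₀ from Iso.inv_hom_id_apply _ _]
      exact hs2

end Sections

end Groth.Agent.Lead.SchPushout
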