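import Groth.Agent.Lead.SchPushoutD
import Groth.Agent.Lead.FibreLoc
import Groth.Agent.Helper2.SpecPushout
import Mathlib

/-! Pushouts of schemes, part E: the spectrum of a fibre product of rings. -/

set_option autoImplicit false
open CategoryTheory AlgebraicGeometry TopologicalSpace Opposite Limits
universe u

namespace Groth.Agent.Lead.SchPushout

section Compat
variable {R S : CommRingCat.{u}} (φ : R ⟶ S)

lemma compat (V : (Spec R).Opens) (U : (Spec S).Opens) (e : U ≤ Spec.map φ ⁻¹ᵁ V) (x : R) :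
    (Spec.map φ).appLE V U e (algebraMap R Γ(Spec R, V) x) = algebraMap S Γ(Spec S, U) (φ x) := by
  have h1 : ((Scheme.ΓSpecIso R).inv ≫ (Spec R).presheaf.map (homOfLE le_top).op) ≫
      (Spec.map φ).appLE V U e = φ ≫ (Scheme.ΓSpecIso S).inv ≫
        (Spec S).presheaf.map (homOfLE le_top).op := by
    rw [Category.assoc, Scheme.Hom.map_appLE, Scheme.Hom.appLE, ← Category.assoc,
      ← Category.assoc φ]
    have := Scheme.ΓSpecIso_inv_naturality φ
    rw [Scheme.Hom.appTop] at this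
    rw [this]
    rfl
  have h2 := congrArg (fun k => k.hom x) h1
  rw [IsAffineOpen.algebraMap_Spec_obj, IsAffineOpen.algebraMap_Spec_obj]
  exact h2

lemma compat_app (V : (Spec R).Opens) (x : R) :
    (Spec.map φ).app V (algebraMap R Γ(Spec R, V) x) =
      algebraMap S Γ(Spec S, Spec.map φ ⁻¹ᵁ V) (φ x) := by
  rw [← Scheme.Hom.appLE_eq_app]
  exact compat φ V _ le_rfl x

end Compat

section SpecSquare
variable {R B A' A : CommRingCat.{u}} (π₁ : R ⟶ B) (π₂ : R ⟶ A') (q : B ⟶ A) (p : A' ⟶ A)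
  (comm : π₁ ≫ q = π₂ ≫ p)
  (Rinj : ∀ x y : R, π₁ x = π₁ y → π₂ x = π₂ y → x = y)
  (Rsurj : ∀ (b : B) (a' : A'), q b = p a' → ∃ x : R, π₁ x = b ∧ π₂ x = a')

include comm in
lemma spec_w : Spec.map p ≫ Spec.map π₂ = Spec.map q ≫ Spec.map π₁ := by
  rw [← Spec.map_comp, ← Spec.map_comp, comm]

include comm in
lemma comm_apply (x : R) : q (π₁ x) = p (π₂ x) := by
  have := congrArg (fun k => k.hom x) comm
  simpa using this

include Rinj Rsurj in
set_option maxHeartbeats 1000000 in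
theorem spec_AT (r : R) :
    AT (Spec.map p) (Spec.map q) (Spec.map π₂) (Spec.map π₁) (spec_w π₁ π₂ q p comm)
      (PrimeSpectrum.basicOpen r : (Spec R).Opens) := by
  have cx := comm_apply π₁ π₂ q p comm
  haveI I1 : IsLocalization.Away (π₁.hom r)
      Γ(Spec B, Spec.map π₁ ⁻¹ᵁ (PrimeSpectrum.basicOpen r : (Spec R).Opens)) :=
    inferInstanceAs (IsLocalization.Away (π₁.hom r) Γ(Spec B, PrimeSpectrum.basicOpen (π₁.hom r)))
  haveI I2 : IsLocalization.Away (π₂.hom r)
      Γ(Spec A', Spec.map π₂ ⁻¹ᵁ (PrimeSpectrum.basicOpen r : (Spec R).Opens)) :=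
    inferInstanceAs (IsLocalization.Away (π₂.hom r) Γ(Spec A', PrimeSpectrum.basicOpen (π₂.hom r)))
  haveI I3 : IsLocalization.Away (p.hom (π₂.hom r))
      Γ(Spec A, Spec.map p ⁻¹ᵁ Spec.map π₂ ⁻¹ᵁ (PrimeSpectrum.basicOpen r : (Spec R).Opens)) :=
    inferInstanceAs (IsLocalization.Away (p.hom (π₂.hom r))
      Γ(Spec A, PrimeSpectrum.basicOpen (p.hom (π₂.hom r))))
  apply AT_of_sections
  · intro s t h1 h2
    exact FibreLoc.inj π₁.hom π₂.hom r
      ((Spec.map π₁).app (PrimeSpectrum.basicOpen r : (Spec R).Opens)).hom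
      ((Spec.map π₂).app (PrimeSpectrum.basicOpen r : (Spec R).Opens)).hom
      (fun x => compat_app π₁ _ x) (fun x => compat_app π₂ _ x) Rinj s t h2 h1
  · intro sX sY h
    obtain ⟨s, hs1, hs2⟩ := FibreLoc.surj π₁.hom π₂.hom q.hom p.hom cx r
      ((Spec.map π₁).app (PrimeSpectrum.basicOpen r : (Spec R).Opens)).hom
      ((Spec.map π₂).app (PrimeSpectrum.basicOpen r : (Spec R).Opens)).hom
      ((Spec.map q).appLE (Spec.map π₁ ⁻¹ᵁ (PrimeSpectrum.basicOpen r : (Spec R).Opens))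
        (Spec.map p ⁻¹ᵁ Spec.map π₂ ⁻¹ᵁ (PrimeSpectrum.basicOpen r : (Spec R).Opens))
        (preimage_le _ _ _ _ (spec_w π₁ π₂ q p comm) _)).hom
      ((Spec.map p).app (Spec.map π₂ ⁻¹ᵁ (PrimeSpectrum.basicOpen r : (Spec R).Opens))).hom
      (fun x => compat_app π₁ _ x) (fun x => compat_app π₂ _ x)
      (fun x => compat q _ _ _ x) (fun x => compat_app p _ x) Rsurj sY sX h.symm
    exact ⟨s, hs2, hs1⟩

end SpecSquare

end Groth.Agent.Lead.SchPushout
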