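import Groth.Agent.Lead.SchPushoutD
import Groth.Agent.Helper2.SpecPushout
import Mathlib

/-! Pushouts of schemes, part G: the union of two closed subschemes is a pushout. -/

set_option autoImplicit false
open CategoryTheory AlgebraicGeometry TopologicalSpace Opposite Limits
universe u

namespace Groth.Agent.Lead.SchPushout

section AppComm
variable {X Y Z P : Scheme.{u}} (i : Z ⟶ X) (j : Z ⟶ Y) (a : X ⟶ P) (b : Y ⟶ P)
  (w : i ≫ a = j ≫ b)

lemma app_eq_appLE_of_eq {A B : Scheme.{u}} {m m' : A ⟶ B} (h : m = m') (U : B.Opens) :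
    m.app U = m'.appLE U (m ⁻¹ᵁ U) (by rw [h]) := by
  subst h
  rw [Scheme.Hom.appLE_eq_app]

lemma app_comm (W : P.Opens) :
    a.app W ≫ i.app (a ⁻¹ᵁ W) =
      b.app W ≫ j.appLE (b ⁻¹ᵁ W) (i ⁻¹ᵁ a ⁻¹ᵁ W) (preimage_le i j a b w W) := by
  have h1 : (i ≫ a).app W = a.app W ≫ i.app (a ⁻¹ᵁ W) := rfl
  rw [← h1, app_eq_appLE_of_eq w W, Scheme.Hom.comp_appLE]
  rfl

end AppComm

section Closed
variable {S : Scheme.{u}} (I J : S.IdealSheafData)

lemma support_inf' : (I ⊓ J).support = I.support ⊔ J.support := by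
  rw [← Scheme.IdealSheafData.support_radical, Scheme.IdealSheafData.radical_inf,
    ← Scheme.IdealSheafData.radical_mul, Scheme.IdealSheafData.support_radical,
    Scheme.IdealSheafData.support_mul]

/-- sections of a closed subscheme over the preimage of an affine open, through a map into
another scheme over `S` -/
lemma app_props {X' : Scheme.{u}} (m : X' ⟶ S) (I' : S.IdealSheafData)
    (e : X' = I'.subscheme) (hm : m = eqToHom e ≫ I'.subschemeι) (U : S.affineOpens) :
    Function.Surjective (m.app U) ∧ RingHom.ker (m.app U).hom = I'.ideal U := by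
  subst e
  rw [eqToHom_refl, Category.id_comp] at hm
  subst hm
  exact ⟨I'.subschemeι_app_surjective U, I'.ker_subschemeι_app U⟩

end Closed

end Groth.Agent.Lead.SchPushout

namespace Groth.Agent.Lead.SchPushout

section Union
variable {S : Scheme.{u}} (I J : S.IdealSheafData)

/-- the four inclusions -/
noncomputable abbrev mi : (I ⊔ J).subscheme ⟶ I.subscheme :=
  Scheme.IdealSheafData.inclusion (le_sup_left : I ≤ I ⊔ J)
noncomputable abbrev mj : (I ⊔ J).subscheme ⟶ J.subscheme :=
  Scheme.IdealSheafData.inclusion (le_sup_right : J ≤ I ⊔ J)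
noncomputable abbrev ma : I.subscheme ⟶ (I ⊓ J).subscheme :=
  Scheme.IdealSheafData.inclusion (inf_le_left : I ⊓ J ≤ I)
noncomputable abbrev mb : J.subscheme ⟶ (I ⊓ J).subscheme :=
  Scheme.IdealSheafData.inclusion (inf_le_right : I ⊓ J ≤ J)

lemma union_w : mi I J ≫ ma I J = mj I J ≫ mb I J := by
  rw [Scheme.IdealSheafData.inclusion_comp, Scheme.IdealSheafData.inclusion_comp]

instance : IsClosedImmersion (ma I J) :=
  have : IsClosedImmersion (ma I J ≫ (I ⊓ J).subschemeι) := by
    rw [Scheme.IdealSheafData.inclusion_subschemeι]; infer_instance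
  IsClosedImmersion.of_comp (ma I J) (I ⊓ J).subschemeι

instance : IsClosedImmersion (mb I J) :=
  have : IsClosedImmersion (mb I J ≫ (I ⊓ J).subschemeι) := by
    rw [Scheme.IdealSheafData.inclusion_subschemeι]; infer_instance
  IsClosedImmersion.of_comp (mb I J) (I ⊓ J).subschemeι

lemma ιP_ma (x : I.subscheme) : (I ⊓ J).subschemeι (ma I J x) = I.subschemeι x := by
  rw [← Scheme.Hom.comp_apply, Scheme.IdealSheafData.inclusion_subschemeι]

lemma ιP_mb (y : J.subscheme) : (I ⊓ J).subschemeι (mb I J y) = J.subschemeι y := by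
  rw [← Scheme.Hom.comp_apply, Scheme.IdealSheafData.inclusion_subschemeι]

lemma ιX_mi (z : (I ⊔ J).subscheme) : I.subschemeι (mi I J z) = (I ⊔ J).subschemeι z := by
  rw [← Scheme.Hom.comp_apply, Scheme.IdealSheafData.inclusion_subschemeι]

lemma ιY_mj (z : (I ⊔ J).subscheme) : J.subschemeι (mj I J z) = (I ⊔ J).subschemeι z := by
  rw [← Scheme.Hom.comp_apply, Scheme.IdealSheafData.inclusion_subschemeι]

lemma inj_ι (K : S.IdealSheafData) : Function.Injective K.subschemeι :=
  K.subschemeι.isClosedEmbedding.injective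

theorem union_surj (p : (I ⊓ J).subscheme) :
    (∃ x, ma I J x = p) ∨ (∃ y, mb I J y = p) := by
  have hp : (I ⊓ J).subschemeι p ∈ ((I ⊓ J).support : Set S) := by
    rw [← Scheme.IdealSheafData.range_subschemeι]; exact ⟨p, rfl⟩
  rw [support_inf'] at hp
  rcases hp with hp | hp
  · left
    rw [SetLike.mem_coe, ← SetLike.mem_coe, ← Scheme.IdealSheafData.range_subschemeι] at hp
    obtain ⟨x, hx⟩ := hp
    exact ⟨x, inj_ι _ (by rw [ιP_ma, hx])⟩
  · right
    rw [SetLike.mem_coe, ← SetLike.mem_coe, ← Scheme.IdealSheafData.range_subschemeι] at hp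
    obtain ⟨y, hy⟩ := hp
    exact ⟨y, inj_ι _ (by rw [ιP_mb, hy])⟩

theorem union_top (T : Type u) [TopologicalSpace T] (f : I.subscheme → T) (g : J.subscheme → T)
    (hf : Continuous f) (hg : Continuous g) (hfg : ∀ z, f (mi I J z) = g (mj I J z)) :
    ∃ h : (I ⊓ J).subscheme → T, Continuous h ∧ (∀ x, h (ma I J x) = f x) ∧
      (∀ y, h (mb I J y) = g y) := by
  refine Groth.Agent.Helper2.SpecPushout.exists_desc (mi I J) (mj I J) (ma I J) (mb I J)
    (union_surj I J) (ma I J).isClosedEmbedding.injective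
    (fun y₁ y₂ h => Or.inl ((mb I J).isClosedEmbedding.injective h)) ?_ ?_ f g hf hg hfg
  · intro x y hxy
    have hs : I.subschemeι x = J.subschemeι y := by
      rw [← ιP_ma I J x, ← ιP_mb I J y, hxy]
    have hmem : I.subschemeι x ∈ ((I ⊔ J).support : Set S) := by
      rw [Scheme.IdealSheafData.support_sup]
      refine ⟨?_, ?_⟩
      · rw [SetLike.mem_coe, ← SetLike.mem_coe, ← Scheme.IdealSheafData.range_subschemeι]
        exact ⟨x, rfl⟩
      · rw [SetLike.mem_coe, ← SetLike.mem_coe, ← Scheme.IdealSheafData.range_subschemeι, hs]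
        exact ⟨y, rfl⟩
    rw [← Scheme.IdealSheafData.range_subschemeι] at hmem
    obtain ⟨z, hz⟩ := hmem
    refine ⟨z, inj_ι _ ?_, inj_ι _ ?_⟩
    · rw [ιX_mi, hz]
    · rw [ιY_mj, hz, hs]
  · intro C h1 h2
    have hC : C = ma I J '' (ma I J ⁻¹' C) ∪ mb I J '' (mb I J ⁻¹' C) := by
      ext p
      constructor
      · intro hp
        rcases union_surj I J p with ⟨x, rfl⟩ | ⟨y, rfl⟩
        · exact Or.inl ⟨x, hp, rfl⟩
        · exact Or.inr ⟨y, hp, rfl⟩
      · rintro (⟨x, hx, rfl⟩ | ⟨y, hy, rfl⟩)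
        · exact hx
        · exact hy
    rw [hC]
    exact ((ma I J).isClosedEmbedding.isClosedMap _ h1).union
      ((mb I J).isClosedEmbedding.isClosedMap _ h2)

end Union

end Groth.Agent.Lead.SchPushout
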