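import Groth.Agent.Lead.SchPushoutG
import Mathlib

/-! Pushouts of schemes, part H: the union of two closed subschemes is a pushout (sections). -/

set_option autoImplicit false
open CategoryTheory AlgebraicGeometry TopologicalSpace Opposite Limits
universe u

namespace Groth.Agent.Lead.SchPushout

section UnionAT
variable {S : Scheme.{u}} (I J : S.IdealSheafData)

set_option maxHeartbeats 1000000 in
theorem union_AT (U : S.affineOpens) :
    AT (mi I J) (mj I J) (ma I J) (mb I J) (union_w I J) ((I ⊓ J).subschemeι ⁻¹ᵁ U.1) := by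
  obtain ⟨hPs, hPk⟩ := app_props (I ⊓ J).subschemeι (I ⊓ J) rfl (by simp) U
  obtain ⟨hXs, hXk⟩ := app_props (ma I J ≫ (I ⊓ J).subschemeι) I rfl
    (by simp [Scheme.IdealSheafData.inclusion_subschemeι]) U
  obtain ⟨hYs, hYk⟩ := app_props (mb I J ≫ (I ⊓ J).subschemeι) J rfl
    (by simp [Scheme.IdealSheafData.inclusion_subschemeι]) U
  obtain ⟨-, hZk⟩ := app_props ((mi I J ≫ ma I J) ≫ (I ⊓ J).subschemeι) (I ⊔ J) rfl
    (by simp [Scheme.IdealSheafData.inclusion_subschemeι]) U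
  have hX' : ∀ σ, (ma I J ≫ (I ⊓ J).subschemeι).app U.1 σ =
      (ma I J).app ((I ⊓ J).subschemeι ⁻¹ᵁ U.1) ((I ⊓ J).subschemeι.app U.1 σ) := fun σ => rfl
  have hY' : ∀ σ, (mb I J ≫ (I ⊓ J).subschemeι).app U.1 σ =
      (mb I J).app ((I ⊓ J).subschemeι ⁻¹ᵁ U.1) ((I ⊓ J).subschemeι.app U.1 σ) := fun σ => rfl
  have hZ' : ∀ σ, ((mi I J ≫ ma I J) ≫ (I ⊓ J).subschemeι).app U.1 σ =
      (mi I J).app (ma I J ⁻¹ᵁ (I ⊓ J).subschemeι ⁻¹ᵁ U.1)
        ((ma I J).app ((I ⊓ J).subschemeι ⁻¹ᵁ U.1) ((I ⊓ J).subschemeι.app U.1 σ)) :=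
    fun σ => rfl
  have hcomm := app_comm (mi I J) (mj I J) (ma I J) (mb I J) (union_w I J)
    ((I ⊓ J).subschemeι ⁻¹ᵁ U.1)
  apply AT_of_sections
  · intro s t h1 h2
    obtain ⟨σ, rfl⟩ := hPs s
    obtain ⟨τ, rfl⟩ := hPs t
    have e1 : σ - τ ∈ I.ideal U := by
      rw [← hXk, RingHom.mem_ker, map_sub, sub_eq_zero]
      exact h1
    have e2 : σ - τ ∈ J.ideal U := by
      rw [← hYk, RingHom.mem_ker, map_sub, sub_eq_zero]
      exact h2
    have e3 : σ - τ ∈ (I ⊓ J).ideal U := ⟨e1, e2⟩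
    rw [← hPk, RingHom.mem_ker, map_sub, sub_eq_zero] at e3
    exact e3
  · intro sX sY h
    obtain ⟨σ, hσ⟩ := hXs sX
    obtain ⟨τ, hτ⟩ := hYs sY
    rw [hX'] at hσ
    rw [hY'] at hτ
    have e : σ - τ ∈ (I ⊔ J).ideal U := by
      rw [← hZk, RingHom.mem_ker, map_sub, sub_eq_zero]
      show ((mi I J ≫ ma I J) ≫ (I ⊓ J).subschemeι).app U.1 σ =
        ((mi I J ≫ ma I J) ≫ (I ⊓ J).subschemeι).app U.1 τ
      rw [hZ', hZ', hσ, h, ← hτ]
      exact (congrArg (fun k => k ((I ⊓ J).subschemeι.app U.1 τ)) hcomm).symm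
    obtain ⟨α, hα, β, hβ, hαβ⟩ := Submodule.mem_sup.mp e
    refine ⟨(I ⊓ J).subschemeι.app U.1 (σ - α), ?_, ?_⟩
    · have hα0 : (ma I J).app ((I ⊓ J).subschemeι ⁻¹ᵁ U.1) ((I ⊓ J).subschemeι.app U.1 α) = 0 := by
        rw [← hX']
        have : α ∈ RingHom.ker ((ma I J ≫ (I ⊓ J).subschemeι).app U.1).hom := by rw [hXk]; exact hα
        exact this
      rw [map_sub, map_sub, hα0, sub_zero, hσ]
    · have hστ : σ - α = τ + β := by
        have : σ - τ = α + β := hαβ.symm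
        linear_combination this
      have hβ0 : (mb I J).app ((I ⊓ J).subschemeι ⁻¹ᵁ U.1) ((I ⊓ J).subschemeι.app U.1 β) = 0 := by
        rw [← hY']
        have : β ∈ RingHom.ker ((mb I J ≫ (I ⊓ J).subschemeι).app U.1).hom := by rw [hYk]; exact hβ
        exact this
      rw [hστ, map_add, map_add, hβ0, add_zero, hτ]

theorem union_basis :
    Opens.IsBasis (Set.range fun U : S.affineOpens => (I ⊓ J).subschemeι ⁻¹ᵁ U.1) := by
  rw [Opens.isBasis_iff_nbhd]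
  intro O p hp
  obtain ⟨O', hO', hOO'⟩ := (I ⊓ J).subschemeι.isClosedEmbedding.isInducing.isOpen_iff.mp O.2
  have hp' : (I ⊓ J).subschemeι p ∈ (⟨O', hO'⟩ : S.Opens) := by
    show p ∈ (I ⊓ J).subschemeι ⁻¹' O'
    rw [hOO']; exact hp
  obtain ⟨U, hU, hpU, hUO⟩ := Opens.isBasis_iff_nbhd.mp S.isBasis_affineOpens hp'
  refine ⟨_, ⟨⟨U, hU⟩, rfl⟩, hpU, ?_⟩
  intro x hx
  have : x ∈ (I ⊓ J).subschemeι ⁻¹' O' := hUO hx
  rw [hOO'] at this
  exact this

theorem union_isPushout : IsPushout (mi I J) (mj I J) (ma I J) (mb I J) := by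
  refine isPushout (mi I J) (mj I J) (ma I J) (mb I J) (union_w I J) (union_top I J)
    (union_surj I J) _ (union_basis I J) ?_
  rintro _ ⟨U, rfl⟩
  exact union_AT I J U

end UnionAT

end Groth.Agent.Lead.SchPushout
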