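import Mathlib

/-!
# The fibre local ring at a section cut out by a nonzerodivisor is a DVR (ring level)
-/

set_option autoImplicit false
open IsLocalRing
universe u

namespace Groth.Agent.Lead.SecDvrA

/-- A Noetherian local ring whose maximal ideal is generated by a nonzerodivisor is a DVR. -/
theorem dvr_of_principal {F : Type u} [CommRing F] [IsLocalRing F] [IsNoetherianRing F] (τ : F)
    (hτ : τ ∈ nonZeroDivisors F) (hm : maximalIdeal F = Ideal.span {τ}) :
    ∃ _ : IsDomain F, IsDiscreteValuationRing F := by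
  have hpow : ∀ n : ℕ, maximalIdeal F ^ n = Ideal.span {τ ^ n} := by
    intro n
    rw [hm, Ideal.span_singleton_pow]
  have hτm : τ ∈ maximalIdeal F := by
    rw [hm]
    exact Ideal.mem_span_singleton_self τ
  -- every nonzero element is a unit times a power of `τ`
  have hfact : ∀ f : F, f ≠ 0 → ∃ (n : ℕ) (c : F), IsUnit c ∧ f = c * τ ^ n := by
    intro f hf
    have hinf : (⨅ n : ℕ, maximalIdeal F ^ n) = ⊥ :=
      Ideal.iInf_pow_eq_bot_of_isLocalRing _ (maximalIdeal.isMaximal F).ne_top
    have hex : ∃ n : ℕ, f ∉ maximalIdeal F ^ n := by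
      by_contra hall
      push Not at hall
      have : f ∈ (⨅ n : ℕ, maximalIdeal F ^ n) := by
        rw [Ideal.mem_iInf]
        exact hall
      rw [hinf] at this
      exact hf this
    classical
    have hn0 : Nat.find hex ≠ 0 := by
      intro h0
      have := Nat.find_spec hex
      rw [h0, pow_zero, Ideal.one_eq_top] at this
      exact this trivial
    obtain ⟨n, hn⟩ := Nat.exists_eq_succ_of_ne_zero hn0
    have h1 : f ∈ maximalIdeal F ^ n := by
      by_contra h
      have := Nat.find_min' hex h
      omega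
    have h2 : f ∉ maximalIdeal F ^ (n + 1) := by
      have := Nat.find_spec hex
      rwa [hn] at this
    rw [hpow n, Ideal.mem_span_singleton'] at h1
    obtain ⟨c, hc⟩ := h1
    refine ⟨n, c, ?_, hc.symm⟩
    by_contra hcu
    have hcm : c ∈ maximalIdeal F := hcu
    rw [hm, Ideal.mem_span_singleton'] at hcm
    obtain ⟨d, hd⟩ := hcm
    apply h2
    rw [hpow (n + 1), Ideal.mem_span_singleton']
    refine ⟨d, ?_⟩
    rw [← hc, ← hd]
    ring
  have hτpow : ∀ n : ℕ, τ ^ n ∈ nonZeroDivisors F := fun n => pow_mem hτ n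
  haveI hdom : IsDomain F := by
    haveI : NoZeroDivisors F := by
      constructor
      intro a b hab
      by_contra hne
      push Not at hne
      obtain ⟨n, c, hc, rfl⟩ := hfact a hne.1
      obtain ⟨m, c', hc', rfl⟩ := hfact b hne.2
      have h3 : (c * c') * (τ ^ n * τ ^ m) = 0 := by
        rw [← hab]
        ring
      have h4 : τ ^ n * τ ^ m = 0 := (hc.mul hc').mul_right_eq_zero.mp h3
      have h5 : τ ^ n = 0 := (mul_right_mem_nonZeroDivisors_eq_zero_iff (hτpow m)).mp h4
      apply hne.1
      rw [h5, mul_zero]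
    exact NoZeroDivisors.to_isDomain F
  refine ⟨hdom, ?_⟩
  have hτ0 : τ ≠ 0 := nonZeroDivisors.ne_zero hτ
  have hnf : ¬ IsField F := by
    intro hf
    have : maximalIdeal F = ⊥ := isField_iff_maximalIdeal_eq.mp hf
    rw [this] at hτm
    exact hτ0 hτm
  have htfae := IsDiscreteValuationRing.TFAE F hnf
  have : (maximalIdeal F).IsPrincipal := ⟨⟨τ, hm⟩⟩
  exact (htfae.out 0 4).mpr this

variable {A B A' F : Type u} [CommRing A] [CommRing B] [CommRing A'] [CommRing F]
  [IsLocalRing A] [IsLocalRing B] [Algebra A B] [IsLocalHom (algebraMap A B)]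

theorem dvr_of_section (σ : B →+* A')
    (hσφ : Function.Bijective (σ.comp (algebraMap A B)))
    (t : B) (ht : t ∈ nonZeroDivisors B) (hker : RingHom.ker σ = Ideal.span {t})
    (ρ : B →+* F) (hρ : Function.Surjective ρ)
    (hkρ : RingHom.ker ρ = (maximalIdeal A).map (algebraMap A B)) [IsNoetherianRing F] :
    ∃ _ : IsDomain F, IsDiscreteValuationRing F := by
  have hmB : (maximalIdeal A).map (algebraMap A B) ≤ maximalIdeal B := by
    have h0 : IsLocalHom (algebraMap A B) := inferInstance
    exact ((IsLocalRing.local_hom_TFAE (algebraMap A B)).out 0 2).1 h0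
  haveI : Nontrivial F := by
    rw [← not_subsingleton_iff_nontrivial]
    intro hs
    have h1 : (1 : B) ∈ RingHom.ker ρ := by
      rw [RingHom.mem_ker]
      exact Subsingleton.elim _ _
    rw [hkρ] at h1
    exact (maximalIdeal.isMaximal B).ne_top ((Ideal.eq_top_iff_one _).mpr (hmB h1))
  haveI : IsLocalRing F := IsLocalRing.of_surjective' ρ hρ
  haveI : Nontrivial A' := by
    exact hσφ.1.nontrivial
  -- flatness of `B ⧸ (t)` over `A`
  let ℓ : A →ₗ[A] (B ⧸ Ideal.span {t}) := Algebra.linearMap A (B ⧸ Ideal.span {t})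
  have hℓ : ∀ a, ℓ a = Ideal.Quotient.mk (Ideal.span {t}) (algebraMap A B a) := fun a => rfl
  have hℓbij : Function.Bijective ℓ := by
    constructor
    · rw [injective_iff_map_eq_zero]
      intro a ha
      rw [hℓ, Ideal.Quotient.eq_zero_iff_mem, ← hker, RingHom.mem_ker] at ha
      exact (injective_iff_map_eq_zero _).mp hσφ.1 a ha
    · intro c
      obtain ⟨b, rfl⟩ := Ideal.Quotient.mk_surjective c
      obtain ⟨a, ha⟩ := hσφ.2 (σ b)
      refine ⟨a, ?_⟩
      rw [hℓ, Ideal.Quotient.eq, ← hker, RingHom.mem_ker, map_sub]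
      have : σ (algebraMap A B a) = σ b := ha
      rw [this, sub_self]
  haveI hflat : Module.Flat A (B ⧸ Ideal.span {t}) :=
    Module.Flat.of_linearEquiv (LinearEquiv.ofBijective ℓ hℓbij).symm
  -- `t` is not a unit
  have htm : t ∈ maximalIdeal B := by
    rw [mem_maximalIdeal, mem_nonunits_iff]
    intro hu
    have h1 : t ∈ RingHom.ker σ := by
      rw [hker]
      exact Ideal.mem_span_singleton_self t
    rw [RingHom.mem_ker] at h1
    have h2 := hu.map σ
    rw [h1] at h2
    exact not_isUnit_zero h2
  -- `ρ t` is a nonzerodivisor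
  have hτ : ρ t ∈ nonZeroDivisors F := by
    rw [mem_nonZeroDivisors_iff_right]
    intro f hf
    obtain ⟨b, rfl⟩ := hρ f
    rw [← map_mul, ← RingHom.mem_ker, hkρ] at hf
    rw [← RingHom.mem_ker, hkρ]
    let q : B →ₗ[A] (B ⧸ Ideal.span {t}) :=
      (Ideal.Quotient.mkₐ A (Ideal.span {t})).toLinearMap
    have hq : Function.Surjective q := Ideal.Quotient.mk_surjective
    have hfl := LinearMap.ker_inf_smul_top_eq_smul_of_flat (maximalIdeal A) q hq
    have h1 : b * t ∈ LinearMap.ker q ⊓ (maximalIdeal A) • (⊤ : Submodule A B) := by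
      refine ⟨?_, ?_⟩
      · show q (b * t) = 0
        show Ideal.Quotient.mk (Ideal.span {t}) (b * t) = 0
        rw [Ideal.Quotient.eq_zero_iff_mem]
        exact Ideal.mul_mem_left _ _ (Ideal.mem_span_singleton_self t)
      · rw [Ideal.smul_top_eq_map]
        exact hf
    rw [hfl] at h1
    -- every element of `𝔪 • (t)` is `t` times an element of `𝔪 B`
    have h2 : ∃ w ∈ (maximalIdeal A).map (algebraMap A B), b * t = w * t := by
      refine Submodule.smul_induction_on h1 ?_ ?_
      · intro r hr z hz
        rw [LinearMap.mem_ker] at hz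
        have hz' : Ideal.Quotient.mk (Ideal.span {t}) z = 0 := hz
        rw [Ideal.Quotient.eq_zero_iff_mem, Ideal.mem_span_singleton'] at hz'
        obtain ⟨c, rfl⟩ := hz'
        refine ⟨algebraMap A B r * c, Ideal.mul_mem_right _ _ (Ideal.mem_map_of_mem _ hr), ?_⟩
        rw [Algebra.smul_def]
        ring
      · rintro x y ⟨w, hw, hx⟩ ⟨w', hw', hy⟩
        exact ⟨w + w', add_mem hw hw', by rw [hx, hy]; ring⟩
    obtain ⟨w, hw, hbw⟩ := h2
    have h3 : (b - w) * t = 0 := by rw [sub_mul, hbw, sub_self]
    have h4 : b - w = 0 := (mul_right_mem_nonZeroDivisors_eq_zero_iff ht).mp h3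
    rw [sub_eq_zero] at h4
    rw [h4]
    exact hw
  -- the maximal ideal of `F` is generated by `ρ t`
  have hm : maximalIdeal F = Ideal.span {ρ t} := by
    apply le_antisymm
    · intro f hf
      obtain ⟨b, rfl⟩ := hρ f
      have hb : b ∈ maximalIdeal B := by
        rw [mem_maximalIdeal, mem_nonunits_iff]
        intro hu
        exact hf (hu.map ρ)
      obtain ⟨a, ha⟩ := hσφ.2 (σ b)
      have ha' : σ (algebraMap A B a) = σ b := ha
      have h1 : b - algebraMap A B a ∈ Ideal.span {t} := by
        rw [← hker, RingHom.mem_ker, map_sub, ha', sub_self]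
      rw [Ideal.mem_span_singleton'] at h1
      obtain ⟨c, hc⟩ := h1
      have ham : a ∈ maximalIdeal A := by
        rw [mem_maximalIdeal, mem_nonunits_iff]
        intro hu
        have h2 : algebraMap A B a ∈ maximalIdeal B := by
          have : algebraMap A B a = b - c * t := by rw [hc]; ring
          rw [this]
          exact sub_mem hb (Ideal.mul_mem_left _ _ htm)
        exact h2 (hu.map (algebraMap A B))
      have h3 : ρ (algebraMap A B a) = 0 := by
        rw [← RingHom.mem_ker, hkρ]
        exact Ideal.mem_map_of_mem _ ham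
      have h4 : ρ b = ρ c * ρ t := by
        have : b = c * t + algebraMap A B a := by rw [hc]; ring
        rw [this, map_add, map_mul, h3, add_zero]
      rw [h4]
      exact Ideal.mul_mem_left _ _ (Ideal.mem_span_singleton_self _)
    · rw [Ideal.span_singleton_le_iff_mem, mem_maximalIdeal, mem_nonunits_iff]
      intro hu
      -- then `t` would be a unit modulo `𝔪 B`
      obtain ⟨f, hf⟩ := hu.exists_right_inv
      obtain ⟨b, rfl⟩ := hρ f
      have h1 : t * b - 1 ∈ RingHom.ker ρ := by
        rw [RingHom.mem_ker, map_sub, map_mul, hf, map_one, sub_self]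
      rw [hkρ] at h1
      have h2 : t * b - 1 ∈ maximalIdeal B := hmB h1
      have h3 : (1 : B) ∈ maximalIdeal B := by
        have : (1 : B) = t * b - (t * b - 1) := by ring
        rw [this]
        exact sub_mem (Ideal.mul_mem_right _ _ htm) h2
      exact (maximalIdeal.isMaximal B).ne_top ((Ideal.eq_top_iff_one _).mpr h3)
  exact dvr_of_principal (ρ t) hτ hm

end Groth.Agent.Lead.SecDvrA
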