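import Mathlib
import Groth.Prelude.Def_BlowUp2
import Groth.Agent.Helper5.FibStalk
import Groth.Agent.Lead.SubStalk
import Groth.Agent.Lead.SecDvrA

/-!
# The fibre local ring at a section cut out by an effective Cartier divisor is a DVR: S8283
-/

set_option autoImplicit false
universe u
open CategoryTheory CategoryTheory.Limits AlgebraicGeometry TopologicalSpace IsLocalRing

namespace Groth.Agent.Lead.SecDvrB

theorem ker_transport {X V : Scheme.{u}} (f g : X ⟶ V) (e : f = g) (I : V.IdealSheafData)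
    (H : ∀ (x : X) (U : V.affineOpens) (hx : f x ∈ U.1),
      RingHom.ker (f.stalkMap x).hom = (I.ideal U).map (V.presheaf.germ U.1 (f x) hx).hom) :
    ∀ (x : X) (U : V.affineOpens) (hx : g x ∈ U.1),
      RingHom.ker (g.stalkMap x).hom = (I.ideal U).map (V.presheaf.germ U.1 (g x) hx).hom := by
  subst e
  exact H

/-- the kernel of the stalk map of a closed immersion is generated by its ideal. -/
theorem ker_stalkMap {X V : Scheme.{u}} (j : X ⟶ V) [IsClosedImmersion j] (x : X)
    (U : V.affineOpens) (hx : j x ∈ U.1) :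
    RingHom.ker (j.stalkMap x).hom = (j.ker.ideal U).map (V.presheaf.germ U.1 (j x) hx).hom := by
  refine ker_transport (j.toImage ≫ j.imageι) j j.toImage_imageι j.ker ?_ x U hx
  intro x U hx
  have hinj : Function.Injective (j.toImage.stalkMap x).hom :=
    (ConcreteCategory.bijective_of_isIso (j.toImage.stalkMap x)).1
  have h1 := SubStalk.ker_stalkMap_subschemeι j.ker (j.toImage x) U hx
  ext z
  have hz : ((j.toImage ≫ j.imageι).stalkMap x).hom z =
      (j.toImage.stalkMap x).hom ((j.imageι.stalkMap (j.toImage x)).hom z) := by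
    rw [Scheme.Hom.stalkMap_comp]
    rfl
  rw [RingHom.mem_ker, hz]
  exact Iff.trans (map_eq_zero_iff _ hinj)
    (Iff.trans RingHom.mem_ker.symm (Ideal.ext_iff.mp h1 z))

theorem fib_surj {V X : Scheme.{u}} (π : V ⟶ X) (s : X) (y : ↥(π.fiber s)) (v : V)
    (h : π.fiberι s y = v) :
    ∃ ρ : V.presheaf.stalk v →+* (π.fiber s).presheaf.stalk y, Function.Surjective ρ ∧
      RingHom.ker ρ = Ideal.map (π.stalkMap v).hom (maximalIdeal (X.presheaf.stalk (π v))) := by
  subst h
  exact ⟨_, Groth.Agent.Helper5.FibStalk.s9501 π s y⟩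

set_option maxHeartbeats 1000000 in
theorem main {X V : Scheme.{u}} (π : V ⟶ X) [LocallyOfFiniteType π]
    (j : X ⟶ V) [IsClosedImmersion j] (hj : j ≫ π = 𝟙 X) (hJ : BlowUp.IsEffCartierIdeal j.ker)
    (x : X) :
    ∃ _ : IsDomain ((π.fiber (π (j x))).presheaf.stalk (π.asFiber (j x))),
      IsDiscreteValuationRing ((π.fiber (π (j x))).presheaf.stalk (π.asFiber (j x))) := by
  obtain ⟨ρ, hρ, hkρ⟩ := fib_surj π (π (j x)) (π.asFiber (j x)) (j x) (π.fiberι_asFiber (j x))
  obtain ⟨U, hxU, t, ht, hU⟩ := hJ (j x)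
  letI alg : Algebra (X.presheaf.stalk (π (j x))) (V.presheaf.stalk (j x)) :=
    (π.stalkMap (j x)).hom.toAlgebra
  haveI : IsLocalHom (algebraMap (X.presheaf.stalk (π (j x))) (V.presheaf.stalk (j x))) := by
    show IsLocalHom (π.stalkMap (j x)).hom
    infer_instance
  have hft : LocallyOfFiniteType (π.fiberToSpecResidueField (π (j x))) :=
    inferInstanceAs (LocallyOfFiniteType (Limits.pullback.snd π (X.fromSpecResidueField (π (j x)))))
  haveI hF : IsLocallyNoetherian (π.fiber (π (j x))) :=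
    LocallyOfFiniteType.isLocallyNoetherian (π.fiberToSpecResidueField (π (j x)))
  haveI : IsNoetherianRing ((π.fiber (π (j x))).presheaf.stalk (π.asFiber (j x))) := inferInstance
  refine SecDvrA.dvr_of_section (A := X.presheaf.stalk (π (j x))) (B := V.presheaf.stalk (j x))
    (σ := (j.stalkMap x).hom) ?_ (V.presheaf.germ U.1 (j x) hxU t) ?_ ?_ ρ hρ hkρ
  · have h1 : (j.stalkMap x).hom.comp (algebraMap (X.presheaf.stalk (π (j x)))
        (V.presheaf.stalk (j x))) = ((j ≫ π).stalkMap x).hom := by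
      rw [Scheme.Hom.stalkMap_comp]
      rfl
    rw [h1]
    haveI : IsIso (j ≫ π) := by rw [hj]; infer_instance
    exact ConcreteCategory.bijective_of_isIso ((j ≫ π).stalkMap x)
  · letI algW : Algebra Γ(V, U.1) (V.presheaf.stalk (j x)) :=
      (V.presheaf.germ U.1 (j x) hxU).hom.toAlgebra
    haveI : IsLocalization.AtPrime (V.presheaf.stalk (j x))
        (U.2.primeIdealOf ⟨j x, hxU⟩).asIdeal := U.2.isLocalization_stalk ⟨j x, hxU⟩
    exact IsLocalization.map_nonZeroDivisors_le (U.2.primeIdealOf ⟨j x, hxU⟩).asIdeal.primeCompl _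
      (Submonoid.mem_map_of_mem _ ht)
  · rw [ker_stalkMap j x U hxU, hU, Ideal.map_span, Set.image_singleton]

end Groth.Agent.Lead.SecDvrB
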