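import Mathlib
import Groth.Agent.Lead.FlatPull
import Groth.Agent.Lead.StalkPull
import Groth.Prelude.Def_Coh

set_option autoImplicit false
universe u
open CategoryTheory CategoryTheory.Limits AlgebraicGeometry TopologicalSpace Opposite TensorProduct

namespace Groth.Agent.Lead.SepFlat
open Groth.Agent.Lead.ModDict Scheme.Modules Groth.Agent.Helper4

variable {X : Scheme.{u}}

/-- evaluation of morphisms at a section, as an additive map -/
noncomputable def appHom (M N : X.Modules) (V : X.Opens) (s : Γ(M, V)) : (M ⟶ N) →+ Γ(N, V) where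
  toFun φ := φ.app V s
  map_zero' := rfl
  map_add' _ _ := rfl

theorem mono_of_app_injective {M N : X.Modules} (φ : M ⟶ N)
    (h : ∀ V : X.Opens, Function.Injective (φ.app V)) : Mono φ := by
  haveI : ∀ V : (X.Opens)ᵒᵖ, Mono (((Scheme.Modules.toPresheaf X).map φ).app V) := by
    intro V
    rw [AddCommGrpCat.mono_iff_injective]
    exact h V.unop
  haveI : Mono ((Scheme.Modules.toPresheaf X).map φ) := NatTrans.mono_of_mono_app _
  exact (Scheme.Modules.toPresheaf X).mono_of_mono_map this

theorem sep_of_mono {M P : X.Modules} {ι : Type*} [Fintype ι] {N : ι → X.Modules} (L : M ⟶ P)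
    [Mono L] (p : ∀ i, P ⟶ N i) (q : ∀ i, N i ⟶ P) (htot : ∑ i, p i ≫ q i = 𝟙 P)
    (V : X.Opens) (t : Γ(M, V)) (ht : ∀ i, (L ≫ p i).app V t = 0) : t = 0 := by
  apply AffineDict.app_injective_of_mono L V
  rw [map_zero]
  have h1 : appHom P P V (L.app V t) (∑ i, p i ≫ q i) = L.app V t := by
    rw [htot]
    rfl
  rw [map_sum] at h1
  rw [← h1]
  apply Finset.sum_eq_zero
  intro i _
  change (q i).app V ((L ≫ p i).app V t) = 0
  rw [ht i, map_zero]

theorem mono_lift_of_sep {F : X.Modules} {ι : Type*} [Finite ι] (G : ι → X.Modules)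
    [HasBiproduct G] (u : ∀ i, F ⟶ G i)
    (h : ∀ (V : X.Opens) (t : Γ(F, V)), (∀ i, (u i).app V t = 0) → t = 0) :
    Mono (biproduct.lift u) := by
  apply mono_of_app_injective
  intro V
  rw [injective_iff_map_eq_zero]
  intro t ht
  apply h V t
  intro i
  have : u i = biproduct.lift u ≫ biproduct.π G i := (biproduct.lift_π u i).symm
  rw [this]
  change (biproduct.π G i).app V ((biproduct.lift u).app V t) = 0
  rw [ht, map_zero]

/-- S5909 -/
theorem main {X X' : Scheme.{u}} (F : X.Modules) [Coh.IsQCoh F] {ι : Type u} [Finite ι]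
    (G : ι → X.Modules) [∀ i, Coh.IsQCoh (G i)] (u : ∀ i, F ⟶ G i) (g : X' ⟶ X) [Flat g]
    (h : ∀ (V : (X).Opens) (t : ↑((F).presheaf.obj (Opposite.op V))),
      (∀ i, (Scheme.Modules.Hom.mapPresheaf (u i)).app (Opposite.op V) t = 0) → t = 0) :
    ∀ (V : (X').Opens) (t : ↑(((Scheme.Modules.pullback g).obj F).presheaf.obj (Opposite.op V))),
      (∀ i, (Scheme.Modules.Hom.mapPresheaf ((Scheme.Modules.pullback g).map (u i))).app
        (Opposite.op V) t = 0) → t = 0 := by
  classical
  haveI : Fintype ι := Fintype.ofFinite ι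
  haveI : HasFiniteBiproducts X.Modules := HasFiniteBiproducts.of_hasFiniteProducts
  haveI : HasBiproductsOfShape ι X.Modules := hasBiproductsOfShape_finite X.Modules
  haveI : F.IsQuasicoherent := ‹Coh.IsQCoh F›
  haveI hGq : ∀ i, (G i).IsQuasicoherent := fun i => ‹∀ i, Coh.IsQCoh (G i)› i
  haveI : (⨁ G).IsQuasicoherent := by
    haveI := QcohLimits.isQuasicoherent_sigma G hGq
    exact QcohLimits.isQuasicoherent_of_iso (biproduct.isoCoproduct G).symm
  haveI hm : Mono (biproduct.lift u) := mono_lift_of_sep G u h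
  haveI hm' : Mono ((Scheme.Modules.pullback g).map (biproduct.lift u)) :=
    FlatPull.mono_pullback_of_flat g (biproduct.lift u)
  intro V t ht
  refine sep_of_mono ((Scheme.Modules.pullback g).map (biproduct.lift u))
    (fun i => (Scheme.Modules.pullback g).map (biproduct.π G i))
    (fun i => (Scheme.Modules.pullback g).map (biproduct.ι G i)) ?_ V t ?_
  · simp only [← Functor.map_comp]
    have htot : ∑ j, biproduct.π G j ≫ biproduct.ι G j = 𝟙 (⨁ G) :=
      IsBilimit.total (biproduct.isBilimit G)
    rw [← CategoryTheory.Functor.map_sum, htot, CategoryTheory.Functor.map_id]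
  · intro i
    rw [← Functor.map_comp, biproduct.lift_π]
    exact ht i

end Groth.Agent.Lead.SepFlat
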