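import Mathlib
import Groth.Agent.Lead.FlatPull
import Groth.Agent.Lead.StalkPull
import Groth.Agent.Lead.LocLift
import Groth.Agent.Helper4.PullUnit
import Groth.Agent.Helper4.FinLocFree6
import Groth.Prelude.Def_Coh

set_option autoImplicit false
universe u
open CategoryTheory CategoryTheory.Limits AlgebraicGeometry TopologicalSpace Opposite TensorProduct

namespace Groth.Agent.Lead.SepFlat
open Groth.Agent.Lead.ModDict Scheme.Modules Groth.Agent.Helper4

/-- faithfully flat descent of vanishing of a morphism of quasi-coherent modules -/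
theorem eq_zero_of_pullback_eq_zero {Y Y' : Scheme.{u}} (q : Y' ⟶ Y) [Flat q] [Surjective q]
    {M N : Y.Modules} [M.IsQuasicoherent] [N.IsQuasicoherent] (σ : M ⟶ N)
    (hz : (Scheme.Modules.pullback q).map σ = 0) : σ = 0 := by
  haveI : ∀ _ : PUnit.{1}, Flat q := fun _ => inferInstance
  exact FlatPull.eq_zero_of_forall_pullback_eq_zero (fun _ : PUnit.{1} => Y') (fun _ => q)
    (fun z => ⟨PUnit.unit, q.surjective z⟩) σ (fun _ => hz)

/-- S4908 -/
theorem main_descent {X X' : Scheme.{u}} (F : X.Modules) [Coh.IsQCoh F] {ι : Type u}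
    (G : ι → X.Modules) [∀ i, Coh.IsQCoh (G i)] (u : ∀ i, F ⟶ G i) (g : X' ⟶ X) [Flat g]
    [Surjective g]
    (h : (∀ (V : (X').Opens) (t : ↑(((Scheme.Modules.pullback g).obj F).presheaf.obj (Opposite.op V))),
      (∀ i, (Scheme.Modules.Hom.mapPresheaf ((Scheme.Modules.pullback g).map (u i))).app
        (Opposite.op V) t = 0) → t = 0)) :
    (∀ (V : (X).Opens) (t : ↑((F).presheaf.obj (Opposite.op V))),
      (∀ i, (Scheme.Modules.Hom.mapPresheaf (u i)).app (Opposite.op V) t = 0) → t = 0) := by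
  haveI : F.IsQuasicoherent := ‹Coh.IsQCoh F›
  intro V t ht
  have eV : V.ι ''ᵁ ⊤ = V := V.ι_image_top
  -- the section over `V.ι ''ᵁ ⊤`
  let t0 : Γ(F.restrict V.ι, ⊤) := F.presheaf.map (homOfLE (le_of_eq eV)).op t
  suffices h0 : t0 = 0 by
    have h1 : F.presheaf.map (homOfLE (le_of_eq eV.symm)).op t0 = 0 := by
      rw [h0]
      exact map_zero _
    rw [← h1]
    exact (StalkDict.map_map_eq_self F (le_of_eq eV) (le_of_eq eV.symm) t).symm
  let σ : Coh.structureModule (V : Scheme.{u}) ⟶ F.restrict V.ι := LocLift.homOfTop (F.restrict V.ι) t0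
  have hσ1 : σ.app ⊤ (1 : Γ((V : Scheme.{u}), ⊤)) = t0 := LocLift.homOfTop_app_one _ t0
  have hσu : ∀ i, σ ≫ (Scheme.Modules.restrictFunctor V.ι).map (u i) = 0 := by
    intro i
    apply LocLift.hom_unit_ext
    rw [Scheme.Modules.Hom.comp_app, Scheme.Modules.Hom.zero_app]
    change ((Scheme.Modules.restrictFunctor V.ι).map (u i)).app ⊤
      (σ.app ⊤ (1 : Γ((V : Scheme.{u}), ⊤))) = 0
    rw [hσ1]
    change (u i).app (V.ι ''ᵁ ⊤) (F.presheaf.map (homOfLE (le_of_eq eV)).op t) = 0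
    rw [StalkExact.app_res]
    have := ht i
    change (u i).app V t = 0 at this
    rw [this, map_zero]
  -- the restriction of `g` over `V`
  let q : ((g ⁻¹ᵁ V : X'.Opens) : Scheme.{u}) ⟶ (V : Scheme.{u}) := g ∣_ V
  have w : (g ⁻¹ᵁ V).ι ≫ g = q ≫ V.ι := (morphismRestrict_ι g V).symm
  haveI : Flat q := inferInstance
  haveI : Surjective q := IsZariskiLocalAtTarget.restrict (P := @Surjective) ‹Surjective g› V
  let Ψ := PullUnit.restrictPullbackIso (g ⁻¹ᵁ V).ι V.ι g q w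
  let η := Groth.Agent.Helper8.TildeBC.pullbackUnitIso q
  let σ'' : Coh.structureModule ((g ⁻¹ᵁ V : X'.Opens) : Scheme.{u}) ⟶
      (Scheme.Modules.restrictFunctor (g ⁻¹ᵁ V).ι).obj ((Scheme.Modules.pullback g).obj F) :=
    η.inv ≫ (Scheme.Modules.pullback q).map σ ≫ Ψ.inv.app F
  have hσ''u : ∀ i, σ'' ≫ (Scheme.Modules.restrictFunctor (g ⁻¹ᵁ V).ι).map
      ((Scheme.Modules.pullback g).map (u i)) = 0 := by
    intro i
    have hnat := Ψ.inv.naturality (u i)
    simp only [Functor.comp_map] at hnat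
    change (η.inv ≫ (Scheme.Modules.pullback q).map σ ≫ Ψ.inv.app F) ≫ _ = 0
    rw [Category.assoc, Category.assoc, ← hnat, ← Category.assoc ((Scheme.Modules.pullback q).map σ),
      ← Functor.map_comp, hσu i, Functor.map_zero, zero_comp, comp_zero]
  have hσ''0 : σ'' = 0 := by
    apply LocLift.hom_unit_ext
    rw [Scheme.Modules.Hom.zero_app]
    change σ''.app ⊤ (1 : Γ(((g ⁻¹ᵁ V : X'.Opens) : Scheme.{u}), ⊤)) = 0
    apply h ((g ⁻¹ᵁ V).ι ''ᵁ ⊤)
    intro i
    have h1 := congrArg (fun φ : Coh.structureModule ((g ⁻¹ᵁ V : X'.Opens) : Scheme.{u}) ⟶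
        (Scheme.Modules.restrictFunctor (g ⁻¹ᵁ V).ι).obj ((Scheme.Modules.pullback g).obj (G i)) =>
      Scheme.Modules.Hom.app φ ⊤ (1 : Γ(((g ⁻¹ᵁ V : X'.Opens) : Scheme.{u}), ⊤))) (hσ''u i)
    exact h1
  have hq0 : (Scheme.Modules.pullback q).map σ = 0 := by
    have h2 : η.hom ≫ σ'' ≫ Ψ.hom.app F = (Scheme.Modules.pullback q).map σ := by
      change η.hom ≫ (η.inv ≫ (Scheme.Modules.pullback q).map σ ≫ Ψ.inv.app F) ≫ Ψ.hom.app F = _
      simp
    rw [← h2, hσ''0, zero_comp, comp_zero]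
  haveI : (F.restrict V.ι).IsQuasicoherent := inferInstance
  haveI : (Coh.structureModule (V : Scheme.{u})).IsQuasicoherent :=
    FinLocFree4.isQuasicoherent_of_isFinLocFree _ FinLocFree6.isFinLocFree_unit
  have hσ0 : σ = 0 := eq_zero_of_pullback_eq_zero q σ hq0
  rw [← hσ1, hσ0]
  rfl

end Groth.Agent.Lead.SepFlat
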