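import Mathlib

set_option autoImplicit false
universe w v u
open CategoryTheory CategoryTheory.Limits

namespace Groth.Agent.Lead.SigmaConstProd

variable {C : Type u} [Category.{v} C] [HasFiniteProducts C] [HasCoproducts.{w} C]

/-- the index pairing -/
noncomputable def pr (I J : Type w) (i : I) (j : J) : (I ⨯ J : Type w) :=
  (Types.binaryProductIso I J).inv (i, j)

theorem fst_pr (I J : Type w) (i : I) (j : J) : (prod.fst : I ⨯ J ⟶ I) (pr I J i j) = i := by
  have := congrArg (fun φ => φ (i, j)) (Types.binaryProductIso_inv_comp_fst I J)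
  exact this

theorem snd_pr (I J : Type w) (i : I) (j : J) : (prod.snd : I ⨯ J ⟶ J) (pr I J i j) = j := by
  have := congrArg (fun φ => φ (i, j)) (Types.binaryProductIso_inv_comp_snd I J)
  exact this

theorem pr_eta (I J : Type w) (k : (I ⨯ J : Type w)) :
    pr I J ((prod.fst : I ⨯ J ⟶ I) k) ((prod.snd : I ⨯ J ⟶ J) k) = k := by
  apply (Types.binaryProductIso I J).toEquiv.injective
  change (Types.binaryProductIso I J).hom ((Types.binaryProductIso I J).inv _) = _
  rw [← types_comp_apply ((Types.binaryProductIso I J).inv) ((Types.binaryProductIso I J).hom),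
    Iso.inv_hom_id]
  apply Prod.ext
  · have := congrArg (fun φ => φ k) (Types.binaryProductIso_hom_comp_fst I J)
    exact this.symm
  · have := congrArg (fun φ => φ k) (Types.binaryProductIso_hom_comp_snd I J)
    exact this.symm

variable (h : ∀ (I : Type w) (U : C), IsIso (Sigma.desc fun i : I =>
      prod.lift (terminal.from U ≫ Sigma.ι (fun _ : I => ⊤_ C) i) (𝟙 U)))

/-- `∐_I pt` -/
noncomputable abbrev P (C : Type u) [Category.{v} C] [HasFiniteProducts C] [HasCoproducts.{w} C]
    (I : Type w) : C := ∐ fun _ : I => ⊤_ C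

/-- `∐_{I×J} pt ⟶ ∐_{i∈I} ∐_J pt` -/
noncomputable def d (I J : Type w) : P C (I ⨯ J : Type w) ⟶ ∐ fun _ : I => P C J :=
  Sigma.desc fun k => Sigma.ι (fun _ : J => ⊤_ C) ((prod.snd : I ⨯ J ⟶ J) k) ≫
    Sigma.ι (fun _ : I => P C J) ((prod.fst : I ⨯ J ⟶ I) k)

/-- the inverse of `d` -/
noncomputable def e (I J : Type w) : (∐ fun _ : I => P C J) ⟶ P C (I ⨯ J : Type w) :=
  Sigma.desc fun i => Sigma.desc fun j => Sigma.ι (fun _ : (I ⨯ J : Type w) => ⊤_ C) (pr I J i j)

theorem ι_congr {K : Type w} (X : C) {a b : K} (hab : a = b) :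
    Sigma.ι (fun _ : K => X) a = Sigma.ι (fun _ : K => X) b := by
  subst hab; rfl

theorem d_e (I J : Type w) : d (C := C) I J ≫ e I J = 𝟙 _ := by
  apply Sigma.hom_ext
  intro k
  rw [d, Sigma.ι_desc_assoc, Category.assoc, e, Sigma.ι_desc, Sigma.ι_desc, Category.comp_id]
  exact ι_congr _ (pr_eta I J k)

theorem e_d (I J : Type w) : e (C := C) I J ≫ d I J = 𝟙 _ := by
  apply Sigma.hom_ext
  intro i
  apply Sigma.hom_ext
  intro j
  rw [e, Sigma.ι_desc_assoc, Sigma.ι_desc_assoc, d, Sigma.ι_desc, Category.comp_id,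
    ι_congr _ (snd_pr I J i j), ι_congr _ (fst_pr I J i j)]

include h in
theorem isIso_prodComparison (I J : Type w) :
    IsIso (prodComparison (sigmaConst.{w}.obj (⊤_ C)) I J) := by
  haveI := h I (P C J)
  have hfac : prodComparison (sigmaConst.{w}.obj (⊤_ C)) I J =
      d I J ≫ (Sigma.desc fun i : I =>
        prod.lift (terminal.from (P C J) ≫ Sigma.ι (fun _ : I => ⊤_ C) i) (𝟙 (P C J))) := by
    apply Sigma.hom_ext
    intro k
    rw [d, Sigma.ι_desc_assoc, Category.assoc, Sigma.ι_desc]
    apply Limits.prod.hom_ext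
    · rw [Category.assoc, prodComparison_fst, Category.assoc]
      erw [prod.lift_fst]
      change Sigma.ι _ k ≫ Sigma.map' _ _ = _
      rw [Sigma.ι_comp_map', Category.id_comp, ← Category.assoc]
      have : Sigma.ι (fun _ : J => ⊤_ C) ((prod.snd : I ⨯ J ⟶ J) k) ≫ terminal.from (P C J) =
          𝟙 _ := Subsingleton.elim _ _
      rw [this, Category.id_comp]
    · rw [Category.assoc, prodComparison_snd, Category.assoc]
      erw [prod.lift_snd]
      rw [Category.comp_id]
      change Sigma.ι _ k ≫ Sigma.map' _ _ = _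
      rw [Sigma.ι_comp_map', Category.id_comp]
  rw [hfac]
  haveI : IsIso (d (C := C) I J) := ⟨e I J, d_e I J, e_d I J⟩
  infer_instance

include h in
theorem main : PreservesFiniteProducts (sigmaConst.{w}.obj (⊤_ C)) := by
  haveI : PreservesLimitsOfShape (Discrete WalkingPair) (sigmaConst.{w}.obj (⊤_ C)) := by
    haveI : ∀ {X Y : Type w}, IsIso (prodComparison (sigmaConst.{w}.obj (⊤_ C)) X Y) :=
      fun {X Y} => isIso_prodComparison h X Y
    exact preservesBinaryProducts_of_isIso_prodComparison _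
  haveI : PreservesLimitsOfShape (Discrete.{0} PEmpty) (sigmaConst.{w}.obj (⊤_ C)) := by
    haveI : PreservesLimit (Functor.empty.{0} (Type w)) (sigmaConst.{w}.obj (⊤_ C)) := by
      apply preservesTerminal_of_iso
      refine ⟨terminal.from _, Sigma.ι (fun _ : (⊤_ Type w) => ⊤_ C) default, ?_,
        Subsingleton.elim _ _⟩
      apply Sigma.hom_ext
      intro k
      erw [Category.comp_id]
      rw [← Category.assoc]
      have : Sigma.ι (fun _ : (⊤_ Type w) => ⊤_ C) k ≫ terminal.from _ = 𝟙 _ :=
        Subsingleton.elim _ _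
      erw [this]
      rw [Category.id_comp]
      exact ι_congr _ (Subsingleton.elim _ _)
    exact preservesLimitsOfShape_pempty_of_preservesTerminal _
  exact PreservesFiniteProducts.of_preserves_binary_and_terminal _

end Groth.Agent.Lead.SigmaConstProd
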