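import Mathlib
import Groth.Prelude
import Groth.Agent.Helper2.EssFP
import Groth.Agent.Helper8.SliceA
import Groth.Agent.Helper8.SliceB
import Groth.Agent.Helper8.SliceC

/-!
# Slicing by one fibrewise nonzerodivisor (ring level)

`ring_one`: `R → A` of finite presentation, `q` a prime of `A`, `T = A_q` flat over `R`,
`h ∈ m_T` regular on the fibre ring `T / pT`.  Then on a basic open `D(g) ∋ q` there is `a ∈ q`
which is a nonzerodivisor on `A_g` with `A_g/(a)` flat over `R`.
-/

set_option autoImplicit false
open IsLocalRing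
universe u

namespace Groth.Agent.Lead.SliceOne

open Groth.Agent.Helper2 Groth.Agent.Helper8

variable {R A T : Type u} [CommRing R] [CommRing A] [CommRing T] [Algebra R A] [Algebra A T]
  [Algebra R T] [IsScalarTower R A T] [Algebra.FinitePresentation R A] (q : Ideal A) [q.IsPrime]
  [IsLocalization.AtPrime T q]

set_option maxHeartbeats 2000000 in
theorem ring_one (hflat : Module.Flat R T) (h : T) (hh : ¬ IsUnit h)
    (hreg : ∀ t : T, h * t ∈ (q.comap (algebraMap R A)).map (algebraMap R T) →
      t ∈ (q.comap (algebraMap R A)).map (algebraMap R T)) :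
    ∃ (g a : A), g ∉ q ∧ a ∈ q ∧ Ideal.span {algebraMap A T a} = Ideal.span {h} ∧
      ∀ (A' : Type u) [CommRing A'] [Algebra A A'] [Algebra R A'] [IsScalarTower R A A']
        [IsLocalization.Away g A'],
        algebraMap A A' a ∈ nonZeroDivisors A' ∧
        Module.Flat R (A' ⧸ Ideal.span {algebraMap A A' a}) := by
  classical
  haveI : IsLocalRing T := IsLocalization.AtPrime.isLocalRing T q
  obtain ⟨p, hp⟩ : ∃ p : Ideal R, p = q.comap (algebraMap R A) := ⟨_, rfl⟩
  haveI hpp : p.IsPrime := hp ▸ Ideal.comap_isPrime _ _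
  rw [← hp] at hreg
  -- the structure of `R_p`-algebra on `T`
  have hunits : ∀ y : p.primeCompl, IsUnit (algebraMap R T (y : R)) := by
    intro y
    rw [IsScalarTower.algebraMap_apply R A T]
    refine IsLocalization.map_units T (⟨algebraMap R A y, ?_⟩ : q.primeCompl)
    intro h
    have h6 : (y : R) ∈ q.comap (algebraMap R A) := h
    rw [← hp] at h6
    exact y.2 h6
  letI algRpT : Algebra (Localization.AtPrime p) T :=
    (IsLocalization.lift (M := p.primeCompl) (g := algebraMap R T) hunits).toAlgebra
  haveI tw : IsScalarTower R (Localization.AtPrime p) T :=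
    IsScalarTower.of_algebraMap_eq (fun r => by
      show algebraMap R T r =
        IsLocalization.lift hunits (algebraMap R (Localization.AtPrime p) r)
      rw [IsLocalization.lift_eq])
  haveI hlochom : IsLocalHom (algebraMap (Localization.AtPrime p) T) := by
    constructor
    intro z hz
    obtain ⟨r, s, rfl⟩ := IsLocalization.exists_mk'_eq p.primeCompl z
    have h1 : IsUnit (algebraMap R T r) := by
      have h2 : algebraMap (Localization.AtPrime p) T (IsLocalization.mk' _ r s) *
          algebraMap R T (s : R) = algebraMap R T r := by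
        rw [IsScalarTower.algebraMap_apply R (Localization.AtPrime p) T (s : R),
          IsScalarTower.algebraMap_apply R (Localization.AtPrime p) T r, ← map_mul,
          IsLocalization.mk'_spec]
      rw [← h2]
      exact hz.mul (hunits s)
    have h3 : r ∈ p.primeCompl := by
      intro hr
      rw [IsScalarTower.algebraMap_apply R A T] at h1
      have h4 := (IsLocalization.AtPrime.isUnit_to_map_iff T q _).mp h1
      apply h4
      rw [hp] at hr
      exact hr
    exact (IsLocalization.AtPrime.isUnit_mk'_iff (Localization.AtPrime p) p r s).mpr h3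
  have hess : CAlgX.IsEssFinitePresentation (Localization.AtPrime p) T :=
    EssFP.essFP_of_atPrime p q (fun a ha h => ha (by rw [hp]; exact h)) _ _
  have hpT : (maximalIdeal (Localization.AtPrime p)).map
      (algebraMap (Localization.AtPrime p) T) = p.map (algebraMap R T) := by
    rw [← Localization.AtPrime.map_eq_maximalIdeal, Ideal.map_map,
      ← IsScalarTower.algebraMap_eq]
  -- flatness of `T ⧸ ⊥` over `R_p`
  haveI hF0 : Module.Flat (Localization.AtPrime p) (T ⧸ (⊥ : Ideal T)) := by
    haveI : Module.Flat (Localization.AtPrime p) T :=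
      (Module.flat_iff_of_isLocalization (Localization.AtPrime p) p.primeCompl _).mpr hflat
    exact Module.Flat.of_linearEquiv
      ((Submodule.quotEquivOfEqBot (⊥ : Ideal T) rfl).restrictScalars (Localization.AtPrime p))
  have hregx : ∀ t : T, h * t ∈ (⊥ : Ideal T) ⊔
      (maximalIdeal (Localization.AtPrime p)).map (algebraMap (Localization.AtPrime p) T) →
      t ∈ (⊥ : Ideal T) ⊔
        (maximalIdeal (Localization.AtPrime p)).map (algebraMap (Localization.AtPrime p) T) := by
    rw [hpT, bot_sup_eq]
    exact hreg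
  obtain ⟨hReg, hFl'⟩ := SliceA.local_step hess (⊥ : Ideal T) Submodule.fg_bot h hregx
  rw [bot_sup_eq] at hFl'
  -- write `h` as a fraction
  obtain ⟨⟨a, s⟩, has⟩ := IsLocalization.surj q.primeCompl h
  have hu : IsUnit (algebraMap A T (s : A)) := IsLocalization.map_units T s
  have has' : h * algebraMap A T (s : A) = algebraMap A T a := has
  have hx : h ∈ maximalIdeal T := hh
  have ha : a ∈ q := by
    have h3 : algebraMap A T a ∈ maximalIdeal T := by
      rw [← has']
      exact Ideal.mul_mem_right _ _ hx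
    exact (IsLocalization.AtPrime.to_map_mem_maximal_iff T q a).mp h3
  have hspan : Ideal.span {algebraMap A T a} = Ideal.span {h} := by
    rw [← has']
    exact Ideal.span_singleton_mul_right_unit hu h
  have hbot : (⊥ : Ideal A).map (algebraMap A T) = ⊥ := Ideal.map_bot
  have hI'T : ((⊥ : Ideal A) ⊔ Ideal.span {a}).map (algebraMap A T) = Ideal.span {h} := by
    rw [bot_sup_eq, Ideal.map_span, Set.image_singleton, hspan]
  have hF' : Module.Flat R (T ⧸ ((⊥ : Ideal A) ⊔ Ideal.span {a}).map (algebraMap A T)) := by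
    rw [hI'T]
    exact (Module.flat_iff_of_isLocalization (Localization.AtPrime p) p.primeCompl _).mp hFl'
  have hreg' : ∀ t : T, algebraMap A T a * t ∈ (⊥ : Ideal A).map (algebraMap A T) →
      t ∈ (⊥ : Ideal A).map (algebraMap A T) := by
    intro t ht
    rw [hbot] at ht ⊢
    rw [← has', mul_assoc] at ht
    have h3 := hReg _ ht
    exact (Ideal.unit_mul_mem_iff_mem _ hu).mp h3
  obtain ⟨g₂, hg₂, hstep⟩ := SliceC.one_step (R := R) q ⊥ Submodule.fg_bot bot_le a ha hF' hreg'
  have hF'' : Module.Flat R (T ⧸ (Ideal.span {a}).map (algebraMap A T)) := by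
    rw [bot_sup_eq] at hF'
    exact hF'
  obtain ⟨g₁, hg₁, hspread⟩ := SliceB.flat_spread q (Ideal.span {a})
    (Submodule.fg_span_singleton a) ((Ideal.span_singleton_le_iff_mem _).mpr ha) hF''
  refine ⟨g₁ * g₂, a, fun h => (Ideal.IsPrime.mem_or_mem inferInstance h).elim hg₁ hg₂, ha,
    hspan, ?_⟩
  intro A' _ _ _ _ _
  refine ⟨?_, ?_⟩
  · rw [mem_nonZeroDivisors_iff_right]
    intro m hm
    obtain ⟨b, ⟨_, k, rfl⟩, rfl⟩ := IsLocalization.exists_mk'_eq (Submonoid.powers (g₁ * g₂)) m
    rw [mul_comm, IsLocalization.mul_mk'_eq_mk'_of_mul,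
      IsLocalization.mk'_eq_zero_iff] at hm
    obtain ⟨⟨_, j, rfl⟩, hj⟩ := hm
    have h4 : a * ((g₁ * g₂) ^ j * b) ∈ (⊥ : Ideal A) := by
      have : a * ((g₁ * g₂) ^ j * b) = (g₁ * g₂) ^ j * (a * b) := by ring
      rw [this]
      exact hj
    obtain ⟨n, hn⟩ := hstep _ h4
    rw [IsLocalization.mk'_eq_zero_iff]
    refine ⟨⟨(g₁ * g₂) ^ (n + j), n + j, rfl⟩, ?_⟩
    have h5 : g₂ ^ n * ((g₁ * g₂) ^ j * b) = 0 := hn
    show (g₁ * g₂) ^ (n + j) * b = 0
    have : (g₁ * g₂) ^ (n + j) * b = g₁ ^ n * (g₂ ^ n * ((g₁ * g₂) ^ j * b)) := by ring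
    rw [this, h5, mul_zero]
  · have h6 := hspread (g₁ * g₂) (Dvd.intro _ rfl) A'
    rw [Ideal.map_span, Set.image_singleton] at h6
    exact h6

end Groth.Agent.Lead.SliceOne
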