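import Mathlib
import Groth.Prelude
import Groth.Agent.Helper5.FibStalk
import Groth.Agent.Helper2.Depth
import Groth.Agent.Lead.SliceOne

/-!
# Slicing by one fibrewise nonzerodivisor (scheme level): S9756
-/

set_option autoImplicit false
open AlgebraicGeometry CategoryTheory Limits TopologicalSpace IsLocalRing
universe u

namespace Groth.Agent.Lead.SliceOneSch

/-- a nonzerodivisor of the maximal ideal of the fibre local ring lifts to an element of the
maximal ideal of `O_{X,x}` regular modulo `m_s O_{X,x}`. -/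
theorem exists_lift {X S : Scheme.{u}} (f : X ⟶ S) (x : X)
    (hdepth : 1 ≤ LocCoh.depth ↑((f.fiber (f x)).presheaf.stalk (f.asFiber x))
      ↑((f.fiber (f x)).presheaf.stalk (f.asFiber x))) :
    ∃ h : X.presheaf.stalk x, h ∈ maximalIdeal (X.presheaf.stalk x) ∧
      ∀ t : X.presheaf.stalk x,
        h * t ∈ Ideal.map (f.stalkMap x).hom (maximalIdeal (S.presheaf.stalk (f x))) →
        t ∈ Ideal.map (f.stalkMap x).hom (maximalIdeal (S.presheaf.stalk (f x))) := by
  have key : ∀ (x' : X) (_ : x' = x),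
      (∃ h : X.presheaf.stalk x', h ∈ maximalIdeal (X.presheaf.stalk x') ∧
      ∀ t : X.presheaf.stalk x',
        h * t ∈ Ideal.map (f.stalkMap x').hom (maximalIdeal (S.presheaf.stalk (f x'))) →
        t ∈ Ideal.map (f.stalkMap x').hom (maximalIdeal (S.presheaf.stalk (f x')))) →
      ∃ h : X.presheaf.stalk x, h ∈ maximalIdeal (X.presheaf.stalk x) ∧
      ∀ t : X.presheaf.stalk x,
        h * t ∈ Ideal.map (f.stalkMap x).hom (maximalIdeal (S.presheaf.stalk (f x))) →
        t ∈ Ideal.map (f.stalkMap x).hom (maximalIdeal (S.presheaf.stalk (f x))) := by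
    intro x' hx' h'
    subst hx'
    exact h'
  apply key (f.fiberι (f x) (f.asFiber x)) (f.fiberι_asFiber x)
  obtain ⟨hsurj, hker⟩ := Groth.Agent.Helper5.FibStalk.s9501 f (f x) (f.asFiber x)
  rw [← hker]
  -- the regular element of the fibre local ring
  have hne : LocCoh.depth ↑((f.fiber (f x)).presheaf.stalk (f.asFiber x))
      ↑((f.fiber (f x)).presheaf.stalk (f.asFiber x)) ≠ 0 := by
    intro h0
    rw [h0] at hdepth
    exact absurd hdepth (by simp)
  rw [Ne, Groth.Agent.Helper2.Depth.depth_eq_zero_iff] at hne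
  push Not at hne
  obtain ⟨hbar, hbarm, hbarreg⟩ := hne
  obtain ⟨h, hh⟩ := hsurj hbar
  refine ⟨h, ?_, ?_⟩
  · rw [mem_maximalIdeal, mem_nonunits_iff] at hbarm ⊢
    intro hu
    apply hbarm
    rw [← hh]
    exact hu.map _
  · intro t ht
    rw [RingHom.mem_ker] at ht ⊢
    rw [map_mul, hh] at ht
    have h1 : hbar • ((f.fiberι (f x)).stalkMap (f.asFiber x)).hom t = hbar • 0 := by
      rw [smul_zero]
      exact ht
    exact hbarreg h1

set_option maxHeartbeats 4000000 in
/-- **S9756**. -/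
theorem main {X S : Scheme.{u}} (f : X ⟶ S) [LocallyOfFinitePresentation f] (x : X)
    (hflat : (f.stalkMap x).hom.Flat)
    (hdepth : 1 ≤ LocCoh.depth ↑((f.fiber (f x)).presheaf.stalk (f.asFiber x))
      ↑((f.fiber (f x)).presheaf.stalk (f.asFiber x))) :
    ∃ (U : X.Opens) (hU : IsAffineOpen U) (hx : x ∈ U) (h' : Γ(X, U)),
      h' ∈ nonZeroDivisors Γ(X, U) ∧
      X.presheaf.germ U x hx h' ∈ IsLocalRing.maximalIdeal ↑(X.presheaf.stalk x) ∧
      Flat (Spec.map (CommRingCat.ofHom (Ideal.Quotient.mk (Ideal.span {h'}))) ≫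
        hU.fromSpec ≫ f) ∧
      LocallyOfFinitePresentation (Spec.map (CommRingCat.ofHom
        (Ideal.Quotient.mk (Ideal.span {h'}))) ≫ hU.fromSpec ≫ f) := by
  obtain ⟨h, hhm, hhreg⟩ := exists_lift f x hdepth
  obtain ⟨W, hW, hfxW, -⟩ := (Opens.isBasis_iff_nbhd.1 S.isBasis_affineOpens)
    (show f x ∈ (⊤ : S.Opens) from trivial)
  obtain ⟨U, hU, hxU, e⟩ := (Opens.isBasis_iff_nbhd.1 X.isBasis_affineOpens)
    (show x ∈ f ⁻¹ᵁ W from hfxW)
  letI algRA : Algebra Γ(S, W) Γ(X, U) := (f.appLE W U e).hom.toAlgebra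
  have hfp0 : (f.appLE W U e).hom.FinitePresentation :=
    HasRingHomProperty.appLE @LocallyOfFinitePresentation f inferInstance ⟨W, hW⟩ ⟨U, hU⟩ e
  haveI hfp : Algebra.FinitePresentation Γ(S, W) Γ(X, U) := hfp0
  letI algAT : Algebra Γ(X, U) (X.presheaf.stalk x) := X.presheaf.algebra_section_stalk ⟨x, hxU⟩
  letI algRT : Algebra Γ(S, W) (X.presheaf.stalk x) :=
    ((S.presheaf.germ W (f x) hfxW) ≫ f.stalkMap x).hom.toAlgebra
  haveI tw1 : IsScalarTower Γ(S, W) Γ(X, U) (X.presheaf.stalk x) :=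
    IsScalarTower.of_algebraMap_eq (fun a => by
      show (f.stalkMap x).hom (S.presheaf.germ W (f x) hfxW a) =
        X.presheaf.germ U x hxU ((f.appLE W U e).hom a)
      rw [Scheme.Hom.germ_stalkMap_apply, Scheme.Hom.appLE, CommRingCat.comp_apply,
        TopCat.Presheaf.germ_res_apply])
  haveI hlocT : IsLocalization.AtPrime (X.presheaf.stalk x)
      (hU.primeIdealOf ⟨x, hxU⟩).asIdeal := hU.isLocalization_stalk ⟨x, hxU⟩
  -- flatness of the local ring over the base ring
  have hflatRT : Module.Flat Γ(S, W) (X.presheaf.stalk x) := by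
    letI a3 : Algebra (S.presheaf.stalk (f x)) (X.presheaf.stalk x) :=
      (f.stalkMap x).hom.toAlgebra
    letI a4 : Algebra Γ(S, W) (S.presheaf.stalk (f x)) :=
      (S.presheaf.germ W (f x) hfxW).hom.toAlgebra
    haveI : IsScalarTower Γ(S, W) (S.presheaf.stalk (f x)) (X.presheaf.stalk x) :=
      IsScalarTower.of_algebraMap_eq (fun a => rfl)
    haveI : IsLocalization.AtPrime (S.presheaf.stalk (f x))
        (hW.primeIdealOf ⟨f x, hfxW⟩).asIdeal := hW.isLocalization_stalk ⟨f x, hfxW⟩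
    have hflat' : Module.Flat (S.presheaf.stalk (f x)) (X.presheaf.stalk x) := hflat
    exact (Module.flat_iff_of_isLocalization (S.presheaf.stalk (f x))
      (hW.primeIdealOf ⟨f x, hfxW⟩).asIdeal.primeCompl _).mp hflat'
  -- the fibre ideal
  have hideal : Ideal.map (f.stalkMap x).hom (maximalIdeal (S.presheaf.stalk (f x))) =
      ((hU.primeIdealOf ⟨x, hxU⟩).asIdeal.comap (algebraMap Γ(S, W) Γ(X, U))).map
        (algebraMap Γ(S, W) (X.presheaf.stalk x)) := by
    letI a4 : Algebra Γ(S, W) (S.presheaf.stalk (f x)) :=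
      (S.presheaf.germ W (f x) hfxW).hom.toAlgebra
    haveI : IsLocalization.AtPrime (S.presheaf.stalk (f x))
        (hW.primeIdealOf ⟨f x, hfxW⟩).asIdeal := hW.isLocalization_stalk ⟨f x, hfxW⟩
    have hq_comap : (hU.primeIdealOf ⟨x, hxU⟩).asIdeal.comap (algebraMap Γ(S, W) Γ(X, U)) =
        (hW.primeIdealOf ⟨f x, hfxW⟩).asIdeal :=
      congrArg PrimeSpectrum.asIdeal (IsAffineOpen.comap_primeIdealOf_appLE W hW U hU e hxU)
    rw [hq_comap, ← IsLocalization.AtPrime.map_eq_maximalIdeal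
      (hW.primeIdealOf ⟨f x, hfxW⟩).asIdeal (S.presheaf.stalk (f x)), Ideal.map_map]
    rfl
  rw [hideal] at hhreg
  have hhnu : ¬ IsUnit h := hhm
  -- the ring-level statement
  obtain ⟨g, a, hg, ha, hspan, H⟩ := SliceOne.ring_one (R := Γ(S, W)) (A := Γ(X, U))
    (T := X.presheaf.stalk x) (hU.primeIdealOf ⟨x, hxU⟩).asIdeal hflatRT h hhnu hhreg
  have hVU : X.basicOpen g ≤ U := X.basicOpen_le g
  have hV : IsAffineOpen (X.basicOpen g) := hU.basicOpen g
  have hxV : x ∈ X.basicOpen g := by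
    rw [X.mem_basicOpen g x hxU]
    exact (IsLocalization.AtPrime.isUnit_to_map_iff (X.presheaf.stalk x)
      (hU.primeIdealOf ⟨x, hxU⟩).asIdeal g).mpr hg
  have e' : X.basicOpen g ≤ f ⁻¹ᵁ W := hVU.trans e
  letI algRA' : Algebra Γ(S, W) Γ(X, X.basicOpen g) :=
    (f.appLE W (X.basicOpen g) e').hom.toAlgebra
  haveI tw2 : IsScalarTower Γ(S, W) Γ(X, U) Γ(X, X.basicOpen g) :=
    IsScalarTower.of_algebraMap_eq (fun r => by
      show (f.appLE W (X.basicOpen g) e').hom r =
        (X.presheaf.map (homOfLE hVU).op).hom ((f.appLE W U e).hom r)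
      rw [← Scheme.Hom.appLE_map f e (homOfLE hVU).op]
      rfl)
  haveI hloc' : IsLocalization.Away g Γ(X, X.basicOpen g) := hU.isLocalization_basicOpen g
  obtain ⟨hnzd, hfl⟩ := H Γ(X, X.basicOpen g)
  obtain ⟨a', ha'⟩ : ∃ a' : Γ(X, X.basicOpen g),
      a' = algebraMap Γ(X, U) Γ(X, X.basicOpen g) a := ⟨_, rfl⟩
  rw [← ha'] at hnzd hfl
  have h2 : Spec.map (f.appLE W (X.basicOpen g) e' ≫
      CommRingCat.ofHom (Ideal.Quotient.mk (Ideal.span {a'}))) ≫ hW.fromSpec =
      Spec.map (CommRingCat.ofHom (Ideal.Quotient.mk (Ideal.span {a'}))) ≫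
        hV.fromSpec ≫ f := by
    rw [Spec.map_comp, Category.assoc, hW.SpecMap_appLE_fromSpec f hV e']
  refine ⟨X.basicOpen g, hV, hxV, a', hnzd, ?_, ?_, ?_⟩
  · have h3 : X.presheaf.germ (X.basicOpen g) x hxV a' = X.presheaf.germ U x hxU a := by
      rw [ha']
      exact TopCat.Presheaf.germ_res_apply X.presheaf (homOfLE hVU) x hxV a
    rw [h3]
    exact (IsLocalization.AtPrime.to_map_mem_maximal_iff (X.presheaf.stalk x)
      (hU.primeIdealOf ⟨x, hxU⟩).asIdeal a).mpr ha
  · rw [← h2]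
    haveI : Flat (Spec.map (f.appLE W (X.basicOpen g) e' ≫
        CommRingCat.ofHom (Ideal.Quotient.mk (Ideal.span {a'})))) := by
      rw [Flat.SpecMap_iff]
      have h3 : (algebraMap Γ(S, W) (Γ(X, X.basicOpen g) ⧸ Ideal.span {a'})).Flat :=
        RingHom.flat_algebraMap_iff.mpr hfl
      exact h3
    infer_instance
  · haveI : LocallyOfFinitePresentation (Spec.map (CommRingCat.ofHom
        (Ideal.Quotient.mk (Ideal.span {a'})))) := by
      rw [HasRingHomProperty.Spec_iff (P := @LocallyOfFinitePresentation)]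
      refine RingHom.FinitePresentation.of_surjective _ Ideal.Quotient.mk_surjective ?_
      rw [CommRingCat.hom_ofHom, Ideal.mk_ker]
      exact Submodule.fg_span_singleton a'
    infer_instance

end Groth.Agent.Lead.SliceOneSch
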