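import Mathlib

set_option autoImplicit false
set_option linter.style.haveILetI false
universe u
open CategoryTheory Limits AlgebraicGeometry IsLocalRing

namespace Groth.Agent.Lead.SmExt

variable {X : Scheme.{u}}

/-- a morphism from a local scheme sending the closed point to `x` factors through the stalk -/
theorem exists_of_closedPoint {R : CommRingCat.{u}} [IsLocalRing R] (γ : Spec R ⟶ X) (x : X)
    (hx : γ (closedPoint R) = x) :
    ∃ g : X.presheaf.stalk x ⟶ R, IsLocalHom g.hom ∧ Spec.map g ≫ X.fromSpecStalk x = γ := by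
  subst hx
  exact ⟨Scheme.stalkClosedPointTo γ, inferInstance, Scheme.Spec_stalkClosedPointTo_fromSpecStalk γ⟩

/-- uniqueness of the factorization through the stalk -/
theorem eq_of_specMap_fromSpecStalk_eq {R : CommRingCat.{u}} [IsLocalRing R] (x : X)
    (g g' : X.presheaf.stalk x ⟶ R) [IsLocalHom g.hom] [IsLocalHom g'.hom]
    (h : Spec.map g ≫ X.fromSpecStalk x = Spec.map g' ≫ X.fromSpecStalk x) : g = g' := by
  have h1 : (⟨x, g, inferInstance⟩ : Σ x, { f : X.presheaf.stalk x ⟶ R // IsLocalHom f.hom }) =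
      ⟨x, g', inferInstance⟩ := by
    apply (SpecToEquivOfLocalRing X R).symm.injective
    exact h
  obtain ⟨h₁, h₂⟩ := SpecToEquivOfLocalRing_eq_iff.mp h1
  simp only [TopCat.Presheaf.stalkCongr_hom] at h₂
  rw [h₂]
  have : X.presheaf.stalkSpecializes (x := x) (y := x) specializes_rfl = 𝟙 _ :=
    TopCat.Presheaf.stalkSpecializes_refl _ _
  simp

/-- smooth morphisms have the infinitesimal lifting property for local rings -/
theorem lift_of_smooth {S : Scheme.{u}} (f : X ⟶ S) [Smooth f]
    (B B' : Type u) [CommRing B] [CommRing B'] [IsLocalRing B] [IsLocalRing B']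
    (φ : B' →+* B) (hφ : Function.Surjective φ) (hnil : IsNilpotent (RingHom.ker φ))
    (α : Spec (CommRingCat.of B) ⟶ X) (β : Spec (CommRingCat.of B') ⟶ S)
    (hsq : Spec.map (CommRingCat.ofHom φ) ≫ β = α ≫ f) :
    ∃ γ : Spec (CommRingCat.of B') ⟶ X,
      Spec.map (CommRingCat.ofHom φ) ≫ γ = α ∧ γ ≫ f = β := by
  haveI : IsLocalHom φ := IsLocalHom.of_surjective φ hφ
  haveI : IsLocalHom (CommRingCat.ofHom φ).hom := ‹IsLocalHom φ›
  -- the point
  obtain ⟨x, hx⟩ : ∃ x, α (closedPoint B) = x := ⟨_, rfl⟩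
  obtain ⟨a, hal, ha⟩ := exists_of_closedPoint α x hx
  have hβ : β (closedPoint B') = f x := by
    rw [← hx]
    have h1 : (Spec.map (CommRingCat.ofHom φ)) (closedPoint (CommRingCat.of B)) =
        closedPoint (CommRingCat.of B') := Spec_closedPoint
    have h2 := congrArg (fun g => g (closedPoint (CommRingCat.of B))) hsq
    simp only [Scheme.Hom.comp_apply] at h2
    rw [← h2, h1]
  obtain ⟨b, hbl, hb⟩ := exists_of_closedPoint β (f x) hβ
  -- commutation on stalks
  have hcomm : f.stalkMap x ≫ a = b ≫ CommRingCat.ofHom φ := by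
    haveI : IsLocalHom (f.stalkMap x ≫ a).hom := by
      rw [CommRingCat.hom_comp]; exact RingHom.isLocalHom_comp _ _
    haveI : IsLocalHom (b ≫ CommRingCat.ofHom φ).hom := by
      rw [CommRingCat.hom_comp]; exact RingHom.isLocalHom_comp _ _
    apply eq_of_specMap_fromSpecStalk_eq (f x)
    rw [Spec.map_comp, Category.assoc, Scheme.SpecMap_stalkMap_fromSpecStalk,
      ← Category.assoc, ha, Spec.map_comp, Category.assoc, hb, hsq]
  -- formal smoothness of the stalk map
  have hfs : (f.stalkMap x).hom.FormallySmooth := by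
    have : x ∈ f.smoothLocus := by rw [f.smoothLocus_eq_top]; trivial
    exact this
  letI : Algebra (S.presheaf.stalk (f x)) (X.presheaf.stalk x) := (f.stalkMap x).hom.toAlgebra
  haveI : Algebra.FormallySmooth (S.presheaf.stalk (f x)) (X.presheaf.stalk x) := hfs
  letI : Algebra (S.presheaf.stalk (f x)) B' := b.hom.toAlgebra
  letI : Algebra (S.presheaf.stalk (f x)) B := (φ.comp b.hom).toAlgebra
  let φa : B' →ₐ[S.presheaf.stalk (f x)] B := { φ with commutes' := fun _ => rfl }
  let aa : X.presheaf.stalk x →ₐ[S.presheaf.stalk (f x)] B :=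
    { a.hom with
      commutes' := fun r => by
        have := congrArg (fun g => g.hom r) hcomm
        exact this }
  have hnil' : IsNilpotent (RingHom.ker (φa : B' →+* B)) := hnil
  let l := Algebra.FormallySmooth.liftOfSurjective aa φa hφ hnil'
  have hl : φa.comp l = aa := Algebra.FormallySmooth.comp_liftOfSurjective aa φa hφ hnil'
  obtain ⟨lc, hl1, hl2⟩ : ∃ lc : X.presheaf.stalk x ⟶ CommRingCat.of B',
      lc ≫ CommRingCat.ofHom φ = a ∧ f.stalkMap x ≫ lc = b := by
    refine ⟨CommRingCat.ofHom l.toRingHom, ?_, ?_⟩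
    · ext r
      exact AlgHom.congr_fun hl r
    · ext r
      exact l.commutes r
  refine ⟨Spec.map lc ≫ X.fromSpecStalk x, ?_, ?_⟩
  · rw [← Category.assoc, ← Spec.map_comp, hl1, ha]
  · rw [Category.assoc, ← Scheme.SpecMap_stalkMap_fromSpecStalk, ← Category.assoc,
      ← Spec.map_comp, hl2, hb]

end Groth.Agent.Lead.SmExt
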