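import Mathlib
import Groth.Agent.Lead.SmExtA

set_option autoImplicit false
set_option linter.style.haveILetI false
universe u
open CategoryTheory Limits AlgebraicGeometry IsLocalRing

namespace Groth.Agent.Lead.SmExt

/-- the lifting hypothesis of S1417 -/
def SmallLift {X S : Scheme.{u}} (f : X ⟶ S) : Prop :=
  ∀ (B B' : Type u) [CommRing B] [CommRing B'] [IsArtinianRing B] [IsArtinianRing B']
    [IsLocalRing B] [IsLocalRing B']
    (φ : B' →+* B) (ε : B'), Function.Surjective φ → RingHom.ker φ = Ideal.span {ε} →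
    (∀ m ∈ IsLocalRing.maximalIdeal B', ε * m = 0) →
    ∀ (α : Spec (CommRingCat.of B) ⟶ X) (β : Spec (CommRingCat.of B') ⟶ S),
      LocallyOfFiniteType β →
      Spec.map (CommRingCat.ofHom φ) ≫ β = α ≫ f →
      ∃ γ : Spec (CommRingCat.of B') ⟶ X,
        Spec.map (CommRingCat.ofHom φ) ≫ γ = α ∧ γ ≫ f = β

theorem isLocalRing_quotient {A : Type u} [CommRing A] [IsLocalRing A] (I : Ideal A)
    (hI : I ≠ ⊤) : IsLocalRing (A ⧸ I) := by
  haveI : Nontrivial (A ⧸ I) := Ideal.Quotient.nontrivial_iff.mpr hI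
  exact IsLocalRing.of_surjective' (Ideal.Quotient.mk I) Ideal.Quotient.mk_surjective

variable {X S : Scheme.{u}} (f : X ⟶ S)

/-- one small extension step -/
theorem step_lift (H : SmallLift f) (A' : Type u) [CommRing A'] [IsLocalRing A']
    [IsArtinianRing A'] (I₁ I : Ideal A') (e : A') (hle : I₁ ≤ I)
    (hIeq : I = I₁ ⊔ Ideal.span {e}) (hI : I ≠ ⊤) (he : ∀ m ∈ maximalIdeal A', e * m = 0)
    (α : Spec (CommRingCat.of (A' ⧸ I)) ⟶ X)
    (β : Spec (CommRingCat.of A') ⟶ S) (hβ : LocallyOfFiniteType β)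
    (hsq : Spec.map (CommRingCat.ofHom (Ideal.Quotient.mk I)) ≫ β = α ≫ f) :
    ∃ γ₁ : Spec (CommRingCat.of (A' ⧸ I₁)) ⟶ X,
      Spec.map (CommRingCat.ofHom (Ideal.Quotient.factor hle)) ≫ γ₁ = α ∧
        γ₁ ≫ f = Spec.map (CommRingCat.ofHom (Ideal.Quotient.mk I₁)) ≫ β := by
  have hI₁ : I₁ ≠ ⊤ := fun h => hI (top_le_iff.mp (h ▸ hle))
  haveI := isLocalRing_quotient _ hI
  haveI := isLocalRing_quotient _ hI₁
  have hφ : Function.Surjective (Ideal.Quotient.factor hle) := Ideal.Quotient.factor_surjective hle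
  have hφmk : (Ideal.Quotient.factor hle).comp (Ideal.Quotient.mk I₁) = Ideal.Quotient.mk I :=
    Ideal.Quotient.factor_comp_mk hle
  have hker : RingHom.ker (Ideal.Quotient.factor hle) = Ideal.span {Ideal.Quotient.mk I₁ e} := by
    rw [Ideal.Quotient.factor_ker hle, hIeq, Ideal.map_sup, Ideal.map_quotient_self, bot_sup_eq,
      Ideal.map_span, Set.image_singleton]
  have hε : ∀ m ∈ maximalIdeal (A' ⧸ I₁), Ideal.Quotient.mk I₁ e * m = 0 := by
    intro m hm
    obtain ⟨m₀, rfl⟩ := Ideal.Quotient.mk_surjective m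
    have hm₀ : m₀ ∈ maximalIdeal A' := by
      rw [IsLocalRing.mem_maximalIdeal, mem_nonunits_iff]
      intro hu
      exact (IsLocalRing.mem_maximalIdeal _).mp hm (hu.map _)
    rw [← map_mul, he m₀ hm₀, map_zero]
  haveI : IsClosedImmersion (Spec.map (CommRingCat.ofHom (Ideal.Quotient.mk I₁))) :=
    IsClosedImmersion.spec_of_surjective _ Ideal.Quotient.mk_surjective
  haveI := hβ
  have hβ₁ : LocallyOfFiniteType (Spec.map (CommRingCat.ofHom (Ideal.Quotient.mk I₁)) ≫ β) :=
    inferInstance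
  have hsq₁ : Spec.map (CommRingCat.ofHom (Ideal.Quotient.factor hle)) ≫
      (Spec.map (CommRingCat.ofHom (Ideal.Quotient.mk I₁)) ≫ β) = α ≫ f := by
    rw [← hsq, ← Category.assoc, ← Spec.map_comp, ← CommRingCat.ofHom_comp, hφmk]
  exact H (A' ⧸ I) (A' ⧸ I₁) (Ideal.Quotient.factor hle) (Ideal.Quotient.mk I₁ e) hφ hker hε α _
    hβ₁ hsq₁

/-- lifting along a chain of small extensions -/
theorem chain_lift (H : SmallLift f) (A' : Type u) [CommRing A'] [IsLocalRing A']
    [IsArtinianRing A'] :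
    ∀ (n : ℕ) (v : Fin n → A') (_ : ∀ i, ∀ m ∈ maximalIdeal A', v i * m = 0)
      (_ : Ideal.span (Set.range v) ≠ ⊤)
      (α : Spec (CommRingCat.of (A' ⧸ Ideal.span (Set.range v))) ⟶ X)
      (β : Spec (CommRingCat.of A') ⟶ S), LocallyOfFiniteType β →
      Spec.map (CommRingCat.ofHom (Ideal.Quotient.mk (Ideal.span (Set.range v)))) ≫ β = α ≫ f →
      ∃ γ : Spec (CommRingCat.of A') ⟶ X,
        Spec.map (CommRingCat.ofHom (Ideal.Quotient.mk (Ideal.span (Set.range v)))) ≫ γ = α ∧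
          γ ≫ f = β := by
  intro n
  induction n with
  | zero =>
    intro v hv hI α β hβ hsq
    haveI := isLocalRing_quotient _ hI
    refine H (A' ⧸ Ideal.span (Set.range v)) A' (Ideal.Quotient.mk _) 0
      Ideal.Quotient.mk_surjective ?_ (fun m _ => zero_mul m) α β hβ hsq
    rw [Ideal.mk_ker]
    have : Set.range v = ∅ := Set.range_eq_empty v
    rw [this, Ideal.span_empty]
    simp
  | succ n ih =>
    intro v hv hI α β hβ hsq
    have hle : Ideal.span (Set.range (fun i : Fin n => v (Fin.castSucc i))) ≤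
        Ideal.span (Set.range v) := by
      apply Ideal.span_mono
      rintro _ ⟨i, rfl⟩
      exact ⟨Fin.castSucc i, rfl⟩
    have hI₁ : Ideal.span (Set.range (fun i : Fin n => v (Fin.castSucc i))) ≠ ⊤ :=
      fun h => hI (top_le_iff.mp (h ▸ hle))
    have hIeq : Ideal.span (Set.range v) =
        Ideal.span (Set.range (fun i : Fin n => v (Fin.castSucc i))) ⊔
          Ideal.span {v (Fin.last n)} := by
      apply le_antisymm
      · apply Ideal.span_le.mpr
        rintro _ ⟨i, rfl⟩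
        induction i using Fin.lastCases with
        | last => exact Ideal.mem_sup_right (Ideal.subset_span rfl)
        | cast i => exact Ideal.mem_sup_left (Ideal.subset_span ⟨i, rfl⟩)
      · refine sup_le hle ?_
        rw [Ideal.span_singleton_le_iff_mem]
        exact Ideal.subset_span ⟨Fin.last n, rfl⟩
    obtain ⟨γ₁, hγ₁, hγ₁f⟩ := step_lift f H A' _ _ (v (Fin.last n)) hle hIeq hI
      (hv (Fin.last n)) α β hβ hsq
    obtain ⟨γ, hγ, hγf⟩ := ih (fun i : Fin n => v (Fin.castSucc i)) (fun i m hm => hv _ m hm)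
      hI₁ γ₁ β hβ hγ₁f.symm
    refine ⟨γ, ?_, hγf⟩
    rw [← hγ₁, ← hγ, ← Category.assoc, ← Spec.map_comp, ← CommRingCat.ofHom_comp,
      Ideal.Quotient.factor_comp_mk hle]

/-- lifting along a quotient by an ideal killed by the maximal ideal -/
theorem ideal_lift (H : SmallLift f) (A' : Type u) [CommRing A'] [IsLocalRing A']
    [IsArtinianRing A'] (I : Ideal A') (hI : I ≠ ⊤) (hIm : I * maximalIdeal A' = ⊥)
    (α : Spec (CommRingCat.of (A' ⧸ I)) ⟶ X)
    (β : Spec (CommRingCat.of A') ⟶ S) (hβ : LocallyOfFiniteType β)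
    (hsq : Spec.map (CommRingCat.ofHom (Ideal.Quotient.mk I)) ≫ β = α ≫ f) :
    ∃ γ : Spec (CommRingCat.of A') ⟶ X,
      Spec.map (CommRingCat.ofHom (Ideal.Quotient.mk I)) ≫ γ = α ∧ γ ≫ f = β := by
  have hfg : I.FG := IsNoetherian.noetherian I
  obtain ⟨n, v, rfl⟩ := Submodule.fg_iff_exists_fin_generating_family.mp hfg
  refine chain_lift f H A' n v ?_ hI α β hβ hsq
  intro i m hm
  have : v i * m ∈ Ideal.span (Set.range v) * maximalIdeal A' :=
    Ideal.mul_mem_mul (Ideal.subset_span ⟨i, rfl⟩) hm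
  rw [hIm] at this
  exact this

end Groth.Agent.Lead.SmExt
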