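import Mathlib
import Groth.Agent.Lead.ThickBC

set_option autoImplicit false
set_option linter.style.haveILetI false
universe u
open IsLocalRing

namespace Groth.Agent.Lead.SmExt

/-- an Artinian local algebra is of finite type as soon as its residue field is generated by
finitely many elements -/
theorem finiteType_of_adjoin_sup {R A' : Type u} [CommRing R] [CommRing A'] [IsLocalRing A']
    [IsArtinianRing A'] [Algebra R A'] (s : Finset A')
    (hs : ∀ a : A', ∃ b ∈ Algebra.adjoin R (s : Set A'), a - b ∈ maximalIdeal A') :
    Algebra.FiniteType R A' := by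
  classical
  obtain ⟨t, ht⟩ : (maximalIdeal A').FG := IsNoetherian.noetherian _
  obtain ⟨n, hn⟩ : IsNilpotent (maximalIdeal A') :=
    (isArtinianRing_iff_isNilpotent_maximalIdeal A').mp inferInstance
  let E' : Subalgebra R A' := Algebra.adjoin R ((s ∪ t : Finset A') : Set A')
  have htE : ∀ x ∈ t, x ∈ E' := fun x hx => Algebra.subset_adjoin (by simp [hx])
  have hle : Algebra.adjoin R (s : Set A') ≤ E' := Algebra.adjoin_mono (by simp)
  let J' : Ideal E' := Ideal.span {x : E' | (x : A') ∈ t}
  -- `J'` is nilpotent
  have hJmem : ∀ k : ℕ, ∀ x ∈ J' ^ k, (x : A') ∈ maximalIdeal A' ^ k := by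
    intro k
    have hJle : J' ≤ (maximalIdeal A').comap E'.val.toRingHom := by
      apply Ideal.span_le.mpr
      intro x hx
      change (x : A') ∈ maximalIdeal A'
      rw [← ht]
      exact Ideal.subset_span hx
    intro x hx
    have h1 : J' ^ k ≤ ((maximalIdeal A') ^ k).comap E'.val.toRingHom :=
      (Ideal.pow_right_mono hJle k).trans (Ideal.le_comap_pow _ k)
    exact h1 hx
  have hJn : J' ^ n = ⊥ := by
    rw [eq_bot_iff]
    intro x hx
    have := hJmem n x hx
    rw [hn] at this
    have h0 : (x : A') = 0 := this
    exact Subtype.ext h0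
  -- the Nakayama argument
  let N : Submodule E' A' := LinearMap.range (Algebra.linearMap E' A')
  have hmJ : ∀ a ∈ maximalIdeal A', a ∈ J' • (⊤ : Submodule E' A') := by
    intro a ha
    rw [← ht] at ha
    refine Submodule.span_induction ?_ ?_ ?_ ?_ ha
    · intro x hx
      have : x = (⟨x, htE x hx⟩ : E') • (1 : A') := by
        change x = x * 1
        rw [mul_one]
      rw [this]
      exact Submodule.smul_mem_smul (Ideal.subset_span hx) trivial
    · exact Submodule.zero_mem _
    · intro x y _ _ hx hy
      exact Submodule.add_mem _ hx hy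
    · intro c x _ hx
      refine Submodule.smul_induction_on hx ?_ ?_
      · intro j hj m _
        have : c • (j • m) = j • (c * m) := by
          change c * ((j : A') * m) = (j : A') * (c * m)
          ring
        rw [this]
        exact Submodule.smul_mem_smul hj trivial
      · intro x y hx hy
        rw [smul_add]
        exact Submodule.add_mem _ hx hy
  have hsup : N ⊔ J' • (⊤ : Submodule E' A') = ⊤ := by
    apply eq_top_iff.mpr
    intro a _
    obtain ⟨b, hb, hab⟩ := hs a
    have : a = b + (a - b) := by ring
    rw [this]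
    exact Submodule.add_mem_sup ⟨⟨b, hle hb⟩, rfl⟩ (hmJ _ hab)
  have hN := ThickBC.eq_top_of_sup_smul_top J' n hJn N hsup
  refine ⟨⟨s ∪ t, ?_⟩⟩
  rw [eq_top_iff]
  intro a _
  have ha : a ∈ N := by rw [hN]; trivial
  obtain ⟨b, rfl⟩ := ha
  exact b.2

end Groth.Agent.Lead.SmExt
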