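import Mathlib
import Groth.Agent.Lead.SmExtB
import Groth.Agent.Lead.SmExtC
import Groth.Agent.Helper2.ArtSch

set_option autoImplicit false
set_option linter.style.haveILetI false
universe u
open CategoryTheory Limits AlgebraicGeometry IsLocalRing

namespace Groth.Agent.Lead.SmExt

/-- at a closed point of an affine open, sections surject onto the residue field -/
theorem exists_section_sub_mem {X : Scheme.{u}} {U : X.Opens} (hU : IsAffineOpen U) (x : X)
    (hxU : x ∈ U) (hcl : IsClosed ({⟨x, hxU⟩} : Set U)) (b : X.presheaf.stalk x) :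
    ∃ t : Γ(X, U), b - X.presheaf.germ U x hxU t ∈ maximalIdeal (X.presheaf.stalk x) := by
  have hmax : (hU.primeIdealOf ⟨x, hxU⟩).asIdeal.IsMaximal := by
    apply (hU.primeIdealOf ⟨x, hxU⟩).isClosed_singleton_iff_isMaximal.mp
    rw [IsAffineOpen.primeIdealOf, ← Set.image_singleton]
    refine (Topology.IsClosedEmbedding.isClosed_iff_image_isClosed <|
      IsHomeomorph.isClosedEmbedding ?_).mp hcl
    apply (TopCat.isIso_iff_isHomeomorph _).mp
    infer_instance
  letI := X.presheaf.algebra_section_stalk ⟨x, hxU⟩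
  haveI := hU.isLocalization_stalk ⟨x, hxU⟩
  obtain ⟨⟨t, s⟩, hts⟩ := IsLocalization.surj (hU.primeIdealOf ⟨x, hxU⟩).asIdeal.primeCompl b
  obtain ⟨s', i, hi, hsi⟩ := hmax.exists_inv s.2
  refine ⟨t * s', ?_⟩
  have hgerm : ∀ r : Γ(X, U), X.presheaf.germ U x hxU r =
      algebraMap Γ(X, U) (X.presheaf.stalk x) r := fun r => rfl
  rw [hgerm, map_mul, ← hts]
  have h1 : b - b * algebraMap Γ(X, U) (X.presheaf.stalk x) (s : Γ(X, U)) *
      algebraMap Γ(X, U) (X.presheaf.stalk x) s' =
      b * algebraMap Γ(X, U) (X.presheaf.stalk x) i := by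
    have : algebraMap Γ(X, U) (X.presheaf.stalk x) (s' * (s : Γ(X, U)) + i) = 1 := by
      rw [hsi, map_one]
    rw [map_add, map_mul] at this
    linear_combination (-b) * this
  rw [h1]
  apply Ideal.mul_mem_left
  exact (IsLocalization.AtPrime.to_map_mem_maximal_iff (X.presheaf.stalk x)
    (hU.primeIdealOf ⟨x, hxU⟩).asIdeal i).mpr hi


/-- the base map of a test object at a closed point of an affine open is locally of finite type -/
theorem lft_beta {X S : Scheme.{u}} (f : X ⟶ S) [LocallyOfFiniteType f] {U : X.Opens}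
    (hU : IsAffineOpen U) {V : S.Opens} (hV : IsAffineOpen V) (e : U ≤ f ⁻¹ᵁ V) (x : X)
    (hxU : x ∈ U) (hcl : IsClosed ({⟨x, hxU⟩} : Set U))
    (A' : Type u) [CommRing A'] [IsLocalRing A'] [IsArtinianRing A']
    (h : S.presheaf.stalk (f x) →+* A') (I : Ideal A') (hI : I ≠ ⊤)
    (g₀ : X.presheaf.stalk x →+* A' ⧸ I)
    (hg₀ : g₀.comp (f.stalkMap x).hom = (Ideal.Quotient.mk I).comp h)
    (hloc : ∀ b ∈ maximalIdeal (X.presheaf.stalk x),
      g₀ b ∈ (maximalIdeal A').map (Ideal.Quotient.mk I))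
    (hres : ∀ a' : A', ∃ b : X.presheaf.stalk x,
      g₀ b - Ideal.Quotient.mk I a' ∈ (maximalIdeal A').map (Ideal.Quotient.mk I)) :
    LocallyOfFiniteType (Spec.map (CommRingCat.ofHom h) ≫ S.fromSpecStalk (f x)) := by
  classical
  have hfxV : f x ∈ V := e hxU
  rw [← hV.fromSpecStalk_eq_fromSpecStalk hfxV, IsAffineOpen.fromSpecStalk, ← Category.assoc,
    ← Spec.map_comp]
  suffices hψ : (S.presheaf.germ V (f x) hfxV ≫ CommRingCat.ofHom h).hom.FiniteType by
    haveI : LocallyOfFiniteType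
        (Spec.map (S.presheaf.germ V (f x) hfxV ≫ CommRingCat.ofHom h)) :=
      (HasRingHomProperty.Spec_iff (P := @LocallyOfFiniteType)).mpr hψ
    infer_instance
  have hT : (f.appLE V U e).hom.FiniteType := f.finiteType_appLE hV hU e
  have hsq : f.appLE V U e ≫ X.presheaf.germ U x hxU =
      S.presheaf.germ V (f x) hfxV ≫ f.stalkMap x := by
    rw [Scheme.Hom.germ_stalkMap, Scheme.Hom.appLE, Category.assoc, X.presheaf.germ_res]
  generalize hψdef : (S.presheaf.germ V (f x) hfxV ≫ CommRingCat.ofHom h).hom = ψ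
  have hψ' : ∀ r, ψ r = h (S.presheaf.germ V (f x) hfxV r) := by
    intro r; rw [← hψdef]; rfl
  algebraize [ψ, (f.appLE V U e).hom]
  obtain ⟨τ, hτ⟩ := (Algebra.FiniteType.out : (⊤ : Subalgebra Γ(S, V) Γ(X, U)).FG)
  let θ : Γ(X, U) →ₐ[Γ(S, V)] A' ⧸ I :=
    { toRingHom := g₀.comp (X.presheaf.germ U x hxU).hom
      commutes' := fun r => by
        change g₀ (X.presheaf.germ U x hxU ((f.appLE V U e) r)) = Ideal.Quotient.mk I (ψ r)
        have h1 : X.presheaf.germ U x hxU ((f.appLE V U e) r) =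
            (f.stalkMap x) (S.presheaf.germ V (f x) hfxV r) := by
          have := congrArg (fun g => g.hom r) hsq
          exact this
        rw [h1, hψ']
        exact RingHom.congr_fun hg₀ _ }
  let π : A' →ₐ[Γ(S, V)] A' ⧸ I := Ideal.Quotient.mkₐ Γ(S, V) I
  have hπ : Function.Surjective π := Ideal.Quotient.mk_surjective
  let lift : A' ⧸ I → A' := Function.surjInv hπ
  have hlift : ∀ y, π (lift y) = y := Function.surjInv_eq hπ
  let s : Finset A' := τ.image (fun t => lift (θ t))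
  have hmap : (Algebra.adjoin Γ(S, V) (s : Set A')).map π = θ.range := by
    rw [AlgHom.map_adjoin]
    have : π '' (s : Set A') = θ '' (τ : Set Γ(X, U)) := by
      ext y
      simp only [Finset.coe_image, Set.mem_image, Finset.mem_coe, s]
      constructor
      · rintro ⟨_, ⟨t, ht, rfl⟩, rfl⟩
        exact ⟨t, ht, (hlift _).symm⟩
      · rintro ⟨t, ht, rfl⟩
        exact ⟨lift (θ t), ⟨t, ht, rfl⟩, hlift _⟩
    rw [this, ← AlgHom.map_adjoin, hτ, Algebra.map_top]
  have hIle : I ≤ maximalIdeal A' := IsLocalRing.le_maximalIdeal hI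
  have hs : ∀ a' : A', ∃ b ∈ Algebra.adjoin Γ(S, V) (s : Set A'), a' - b ∈ maximalIdeal A' := by
    intro a'
    obtain ⟨b₀, hb₀⟩ := hres a'
    obtain ⟨t, ht⟩ := exists_section_sub_mem hU x hxU hcl b₀
    have hθt : θ t ∈ (Algebra.adjoin Γ(S, V) (s : Set A')).map π := by
      rw [hmap]; exact ⟨t, rfl⟩
    obtain ⟨b, hb, hbt⟩ := hθt
    refine ⟨b, hb, ?_⟩
    have h1 : Ideal.Quotient.mk I (a' - b) ∈ (maximalIdeal A').map (Ideal.Quotient.mk I) := by
      have hbt' : Ideal.Quotient.mk I b = g₀ (X.presheaf.germ U x hxU t) := hbt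
      have h2 := hloc _ ht
      rw [map_sub] at h2
      have h3 : Ideal.Quotient.mk I (a' - b) =
          -(g₀ b₀ - Ideal.Quotient.mk I a') + (g₀ b₀ - g₀ (X.presheaf.germ U x hxU t)) := by
        rw [map_sub, hbt']; ring
      rw [h3]
      exact Ideal.add_mem _ (Ideal.neg_mem_iff _ |>.mpr hb₀) h2
    obtain ⟨y, hy, hyab⟩ := (Ideal.mem_map_iff_of_surjective _ Ideal.Quotient.mk_surjective).mp h1
    have h4 : y - (a' - b) ∈ I := by
      rw [← Ideal.Quotient.eq]; exact hyab
    have h5 : a' - b = y - (y - (a' - b)) := by ring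
    rw [h5]
    exact Ideal.sub_mem _ hy (hIle h4)
  exact finiteType_of_adjoin_sup s hs

end Groth.Agent.Lead.SmExt
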