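import Mathlib
import Groth.Agent.Lead.SmExtD

set_option autoImplicit false
set_option linter.style.haveILetI false
universe u
open CategoryTheory Limits AlgebraicGeometry IsLocalRing

namespace Groth.Agent.Lead.SmExt

/-- the Artinian lifting property at closed points of affine opens -/
theorem artLiftHom_of_smallLift {X S : Scheme.{u}} (f : X ⟶ S) [LocallyOfFiniteType f]
    (H : SmallLift f) {U : X.Opens} (hU : IsAffineOpen U) {V : S.Opens} (hV : IsAffineOpen V)
    (e : U ≤ f ⁻¹ᵁ V) (x : X) (hxU : x ∈ U) (hcl : IsClosed ({⟨x, hxU⟩} : Set U)) :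
    Groth.Agent.Helper2.ArtStalk.ArtLiftHom (f.stalkMap x).hom := by
  intro A' _ _ _ h _ I hI hIm g₀ hg₀ hloc hres
  haveI : IsLocalRing (A' ⧸ I) := isLocalRing_quotient I hI
  haveI hg₀loc : IsLocalHom g₀ := ⟨fun b hb => by
    by_contra hnb
    exact Groth.Agent.Helper2.ArtStalk.not_isUnit_of_mem_map_maximalIdeal I hI _
      (hloc b ((mem_maximalIdeal b).mpr hnb)) hb⟩
  have hβ := lft_beta f hU hV e x hxU hcl A' h I hI g₀ hg₀ hloc hres
  -- the square
  have hsq : Spec.map (CommRingCat.ofHom (Ideal.Quotient.mk I)) ≫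
      (Spec.map (CommRingCat.ofHom h) ≫ S.fromSpecStalk (f x)) =
      (Spec.map (CommRingCat.ofHom g₀) ≫ X.fromSpecStalk x) ≫ f := by
    rw [Category.assoc, ← Scheme.SpecMap_stalkMap_fromSpecStalk, ← Category.assoc,
      ← Category.assoc, ← Spec.map_comp, ← Spec.map_comp]
    congr 2
    ext r
    exact (RingHom.congr_fun hg₀ r).symm
  obtain ⟨γ, hγ, hγf⟩ := ideal_lift f H A' I hI hIm _ _ hβ hsq
  -- the closed point goes to `x`
  haveI : IsLocalHom (CommRingCat.ofHom (Ideal.Quotient.mk I)).hom :=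
    IsLocalHom.of_surjective _ Ideal.Quotient.mk_surjective
  haveI : IsLocalHom (CommRingCat.ofHom g₀).hom := hg₀loc
  have hx : γ (closedPoint A') = x := by
    have h1 : (Spec.map (CommRingCat.ofHom (Ideal.Quotient.mk I)))
        (closedPoint (CommRingCat.of (A' ⧸ I))) = closedPoint (CommRingCat.of A') :=
      Spec_closedPoint
    have h2 := congrArg (fun g => g (closedPoint (CommRingCat.of (A' ⧸ I)))) hγ
    simp only [Scheme.Hom.comp_apply] at h2
    rw [h1] at h2
    rw [h2]
    have h3 : (Spec.map (CommRingCat.ofHom g₀)) (closedPoint (CommRingCat.of (A' ⧸ I))) =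
        closedPoint (X.presheaf.stalk x) := Spec_closedPoint
    rw [h3, Scheme.fromSpecStalk_closedPoint]
  obtain ⟨g, hgl, hg⟩ := exists_of_closedPoint (R := CommRingCat.of A') γ x hx
  refine ⟨g.hom, ?_, ?_⟩
  · -- compatibility with `h`
    haveI : IsLocalHom (f.stalkMap x ≫ g).hom := by
      rw [CommRingCat.hom_comp]; exact RingHom.isLocalHom_comp _ _
    haveI : IsLocalHom (CommRingCat.ofHom h).hom := ‹IsLocalHom h›
    have : f.stalkMap x ≫ g = CommRingCat.ofHom h := by
      apply eq_of_specMap_fromSpecStalk_eq (f x)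
      rw [Spec.map_comp, Category.assoc, Scheme.SpecMap_stalkMap_fromSpecStalk,
        ← Category.assoc, hg, hγf]
    exact congrArg CommRingCat.Hom.hom this
  · haveI : IsLocalHom (g ≫ CommRingCat.ofHom (Ideal.Quotient.mk I)).hom := by
      rw [CommRingCat.hom_comp]; exact RingHom.isLocalHom_comp _ _
    have : g ≫ CommRingCat.ofHom (Ideal.Quotient.mk I) = CommRingCat.ofHom g₀ := by
      apply eq_of_specMap_fromSpecStalk_eq x
      rw [Spec.map_comp, Category.assoc, hg, hγ]
    exact congrArg CommRingCat.Hom.hom this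

end Groth.Agent.Lead.SmExt
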