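import Mathlib
import Groth.Agent.Lead.SmExtE

set_option autoImplicit false
set_option linter.style.haveILetI false
universe u
open CategoryTheory Limits AlgebraicGeometry IsLocalRing

namespace Groth.Agent.Lead.SmExt

theorem main {X S : Scheme.{u}} (f : X ⟶ S) [IsLocallyNoetherian S] [LocallyOfFiniteType f] :
    Smooth f ↔ SmallLift f := by
  constructor
  · intro hs B B' _ _ _ _ _ _ φ ε hφ hker hε α β _ hsq
    refine lift_of_smooth f B B' φ hφ ?_ α β hsq
    have hεm : ε ∈ maximalIdeal B' := by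
      rw [mem_maximalIdeal, mem_nonunits_iff]
      intro hu
      have h1 : ε ∈ RingHom.ker φ := by rw [hker]; exact Ideal.subset_span rfl
      have h2 : φ ε = 0 := h1
      have h3 := hu.map φ
      rw [h2] at h3
      exact not_isUnit_zero h3
    refine ⟨2, ?_⟩
    rw [hker, Ideal.span_singleton_pow, pow_two, hε ε hεm]
    simp
  · intro H
    haveI : LocallyOfFinitePresentation f := Groth.Agent.Helper2.ArtSch.lfp_of_lft_noeth f
    rw [← Scheme.Hom.smoothLocus_eq_top_iff]
    by_contra hne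
    have hZ : ((f.smoothLocus : Set X)ᶜ).Nonempty := by
      rw [Set.nonempty_compl]
      intro h
      exact hne (TopologicalSpace.Opens.ext h)
    obtain ⟨z, hz⟩ := hZ
    obtain ⟨_, ⟨V, hV, rfl⟩, hzV, -⟩ := S.isBasis_affineOpens.exists_subset_of_mem_open
      (Set.mem_univ (f z)) isOpen_univ
    obtain ⟨_, ⟨U, hU, rfl⟩, hzU, hUV⟩ := X.isBasis_affineOpens.exists_subset_of_mem_open
      (show z ∈ (f ⁻¹ᵁ V : Set X) from hzV) (f ⁻¹ᵁ V).2
    haveI : CompactSpace ↥U := isCompact_iff_compactSpace.mp hU.isCompact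
    have hZ' : IsClosed ((Subtype.val : U → X) ⁻¹' (f.smoothLocus : Set X)ᶜ) :=
      (f.smoothLocus.2.isClosed_compl).preimage continuous_subtype_val
    obtain ⟨⟨x, hxU⟩, hxZ, hcl⟩ := hZ'.exists_closed_singleton ⟨⟨z, hzU⟩, hz⟩
    apply hxZ
    have h1 := artLiftHom_of_smallLift f H hU hV hUV x hxU hcl
    have h2 := (Groth.Agent.Helper2.ArtSch.smooth_nbhd_iff_artLiftHom f x).mpr h1
    exact (Groth.Agent.Helper2.PtDesc.smooth_nbhd_iff f x).mp h2

end Groth.Agent.Lead.SmExt
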