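import Mathlib

set_option autoImplicit false
set_option linter.style.haveILetI false
universe u

namespace Groth.Agent.Lead.SmLiftA

open MvPolynomial

/-- an element mapping to a unit under a surjection whose kernel has square zero is a unit -/
theorem isUnit_of_map {R S : Type*} [CommRing R] [CommRing S] (ρ : R →+* S)
    (hρ : Function.Surjective ρ) (hsq : RingHom.ker ρ ^ 2 = ⊥) (x : R) (hx : IsUnit (ρ x)) :
    IsUnit x := by
  obtain ⟨w, hw⟩ := hx.exists_right_inv
  obtain ⟨w', rfl⟩ := hρ w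
  have hn : x * w' - 1 ∈ RingHom.ker ρ := by
    rw [RingHom.mem_ker, map_sub, map_mul, hw, map_one, sub_self]
  have hnn : (x * w' - 1) * (x * w' - 1) = 0 := by
    have h1 : (x * w' - 1) * (x * w' - 1) ∈ RingHom.ker ρ ^ 2 := by
      rw [pow_two]
      exact Ideal.mul_mem_mul hn hn
    rw [hsq] at h1
    exact h1
  refine isUnit_iff_exists_inv.mpr ⟨w' * (1 - (x * w' - 1)), ?_⟩
  have : x * (w' * (1 - (x * w' - 1))) = 1 - (x * w' - 1) * (x * w' - 1) := by ring
  rw [this, hnn, sub_zero]

/-- flat lifting of a standard smooth algebra along a surjection with square-zero kernel -/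
theorem exists_flat_lift {B' B P : Type u} [CommRing B'] [CommRing B] [CommRing P] [Algebra B P]
    [Algebra.IsStandardSmooth B P] (π : B' →+* B) (hπ : Function.Surjective π)
    (hsq : RingHom.ker π ^ 2 = ⊥) :
    ∃ (P' : Type u) (_ : CommRing P') (_ : Algebra B' P') (_ : Module.Flat B' P') (ρ : P' →+* P),
      Function.Surjective ρ ∧ ρ.comp (algebraMap B' P') = (algebraMap B P).comp π ∧
      RingHom.ker ρ = Ideal.map (algebraMap B' P') (RingHom.ker π) := by
  classical
  obtain ⟨ι, σ, hσ, hι, ⟨Pr⟩⟩ := (inferInstance : Algebra.IsStandardSmooth B P).out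
  haveI := hσ
  haveI := hι
  haveI : Fintype σ := Fintype.ofFinite σ
  let Φ : MvPolynomial ι B' →+* MvPolynomial ι B := MvPolynomial.map π
  have hΦ : Function.Surjective Φ := MvPolynomial.map_surjective π hπ
  choose v' hv' using fun j : σ => hΦ (Pr.relation j)
  let I' : Ideal (MvPolynomial ι B') := Ideal.span (Set.range v')
  let Pre' : Algebra.PreSubmersivePresentation B' (MvPolynomial ι B' ⧸ I') ι σ :=
    Algebra.PreSubmersivePresentation.naive (v := v') Pr.map Pr.map_inj
  let ρ₀ : MvPolynomial ι B' →+* P :=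
    (MvPolynomial.aeval Pr.val : MvPolynomial ι B →ₐ[B] P).toRingHom.comp Φ
  have hρ₀ : ∀ x, ρ₀ x = MvPolynomial.aeval Pr.val (Φ x) := fun x => rfl
  have hρ₀v : ∀ j, ρ₀ (v' j) = 0 := by
    intro j
    rw [hρ₀, hv']
    exact Pr.aeval_val_relation j
  have hI'le : I' ≤ RingHom.ker ρ₀ := Ideal.span_le.mpr (by rintro _ ⟨j, rfl⟩; exact hρ₀v j)
  let ρ : (MvPolynomial ι B' ⧸ I') →+* P := Ideal.Quotient.lift I' ρ₀ (fun a ha => hI'le ha)
  have hρmk : ∀ x, ρ (Ideal.Quotient.mk I' x) = ρ₀ x := fun x => Ideal.Quotient.lift_mk _ _ _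
  have hρsurj : Function.Surjective ρ := by
    intro y
    obtain ⟨x, hx⟩ := Pr.algebraMap_surjective y
    obtain ⟨x', rfl⟩ := hΦ x
    refine ⟨Ideal.Quotient.mk I' x', ?_⟩
    rw [hρmk, hρ₀, ← hx, Algebra.Generators.algebraMap_apply]
  have hcomp : ρ.comp (algebraMap B' (MvPolynomial ι B' ⧸ I')) = (algebraMap B P).comp π := by
    ext b
    have h1 : algebraMap B' (MvPolynomial ι B' ⧸ I') b = Ideal.Quotient.mk I' (C b) := rfl
    change ρ (algebraMap B' (MvPolynomial ι B' ⧸ I') b) = algebraMap B P (π b)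
    rw [h1, hρmk, hρ₀]
    change MvPolynomial.aeval Pr.val (MvPolynomial.map π (C b)) = _
    rw [MvPolynomial.map_C, MvPolynomial.aeval_C]
  have hker : RingHom.ker ρ =
      Ideal.map (algebraMap B' (MvPolynomial ι B' ⧸ I')) (RingHom.ker π) := by
    apply le_antisymm
    · intro x hx
      obtain ⟨q, rfl⟩ := Ideal.Quotient.mk_surjective x
      rw [RingHom.mem_ker, hρmk, hρ₀] at hx
      have h1 : Φ q ∈ Pr.ker := by
        rw [Algebra.Generators.ker_eq_ker_aeval_val]
        exact hx
      rw [← Pr.span_range_relation_eq_ker] at h1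
      have h2 : Ideal.span (Set.range Pr.relation) = Ideal.map Φ I' := by
        rw [Ideal.map_span]
        congr 1
        ext y
        constructor
        · rintro ⟨j, rfl⟩
          exact ⟨v' j, ⟨j, rfl⟩, hv' j⟩
        · rintro ⟨_, ⟨j, rfl⟩, rfl⟩
          exact ⟨j, (hv' j).symm⟩
      rw [h2] at h1
      obtain ⟨y, hy, hyq⟩ := (Ideal.mem_map_iff_of_surjective Φ hΦ).mp h1
      have h3 : q - y ∈ RingHom.ker Φ := by
        rw [RingHom.mem_ker, map_sub, hyq, sub_self]
      rw [MvPolynomial.ker_map] at h3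
      have h4 : Ideal.Quotient.mk I' q = Ideal.Quotient.mk I' (q - y) := by
        rw [map_sub, Ideal.Quotient.eq_zero_iff_mem.mpr hy, sub_zero]
      rw [h4]
      have h5 : algebraMap B' (MvPolynomial ι B' ⧸ I') =
          (Ideal.Quotient.mk I').comp (C : B' →+* MvPolynomial ι B') := rfl
      rw [h5, ← Ideal.map_map]
      exact Ideal.mem_map_of_mem _ h3
    · rw [Ideal.map_le_iff_le_comap]
      intro b hb
      rw [Ideal.mem_comap, RingHom.mem_ker]
      have h1 := congrArg (fun f => f b) hcomp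
      change ρ (algebraMap B' _ b) = algebraMap B P (π b) at h1
      rw [h1, (RingHom.mem_ker).mp hb, map_zero]
  have hkersq : RingHom.ker ρ ^ 2 = ⊥ := by
    rw [hker, ← Ideal.map_pow, hsq, Ideal.map_bot]
  have hjac : ρ Pre'.jacobian = Pr.jacobian := by
    rw [Pre'.jacobian_eq_jacobiMatrix_det, Pr.jacobian_eq_jacobiMatrix_det]
    have h1 : algebraMap Pre'.Ring (MvPolynomial ι B' ⧸ I') Pre'.jacobiMatrix.det =
        Ideal.Quotient.mk I' Pre'.jacobiMatrix.det := rfl
    rw [h1, hρmk, hρ₀, Algebra.Generators.algebraMap_apply]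
    congr 1
    rw [RingHom.map_det]
    congr 1
    apply Matrix.ext
    intro i j
    rw [RingHom.mapMatrix_apply, Matrix.map_apply,
      Algebra.PreSubmersivePresentation.jacobiMatrix_naive,
      Algebra.PreSubmersivePresentation.jacobiMatrix_apply]
    change MvPolynomial.map π (pderiv (Pr.map i) (v' j)) = _
    rw [← MvPolynomial.pderiv_map]
    change pderiv (Pr.map i) (Φ (v' j)) = _
    rw [hv']
  have hunit : IsUnit Pre'.jacobian := by
    apply isUnit_of_map ρ hρsurj hkersq
    rw [hjac]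
    exact Pr.jacobian_isUnit
  let SP' : Algebra.SubmersivePresentation B' (MvPolynomial ι B' ⧸ I') ι σ :=
    { toPreSubmersivePresentation := Pre', jacobian_isUnit := hunit }
  haveI : Algebra.IsStandardSmooth B' (MvPolynomial ι B' ⧸ I') := SP'.isStandardSmooth
  exact ⟨MvPolynomial ι B' ⧸ I', inferInstance, inferInstance, inferInstance, ρ, hρsurj, hcomp, hker⟩

end Groth.Agent.Lead.SmLiftA
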