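import Groth.Prelude
import Groth.Agent.Lead.SmNbhdC
import Groth.Agent.Helper5.CMAff5
import Groth.Agent.Helper5.ChevD
import Groth.Agent.Helper2.RegCM
import Mathlib

set_option autoImplicit false
set_option linter.style.haveILetI false
universe u
open CategoryTheory CategoryTheory.Limits AlgebraicGeometry TopologicalSpace

namespace Groth.Agent.Lead.SmNbhd

variable {X Y : Scheme.{u}} (f : X ⟶ Y) (x : X)

/-- geometric regularity of the fibre ring makes the stalk of the fibre Cohen–Macaulay -/
theorem isCM_of_geomReg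
    (hreg : letI := fibAlg f x
      CAlg.IsGeometricallyRegular (IsLocalRing.ResidueField (Y.presheaf.stalk (f.base x)))
        (X.presheaf.stalk x ⧸ (IsLocalRing.maximalIdeal (Y.presheaf.stalk (f.base x))).map
          (f.stalkMap x).hom)) :
    LocCoh.IsCohenMacaulayLocalRing ((f.fiber (f.base x)).presheaf.stalk (f.asFiber x)) := by
  letI := fibAlg f x
  have h1 : IsRegularRing (TensorProduct (IsLocalRing.ResidueField (Y.presheaf.stalk (f.base x)))
      (IsLocalRing.ResidueField (Y.presheaf.stalk (f.base x)))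
      (X.presheaf.stalk x ⧸ (IsLocalRing.maximalIdeal (Y.presheaf.stalk (f.base x))).map
        (f.stalkMap x).hom)) := hreg _ (Module.Finite.self _)
  haveI h2 : IsRegularRing (X.presheaf.stalk x ⧸
      (IsLocalRing.maximalIdeal (Y.presheaf.stalk (f.base x))).map (f.stalkMap x).hom) :=
    @IsRegularRing.of_ringEquiv _ _ _ _
      (Algebra.TensorProduct.lid (IsLocalRing.ResidueField (Y.presheaf.stalk (f.base x)))
        (X.presheaf.stalk x ⧸ (IsLocalRing.maximalIdeal (Y.presheaf.stalk (f.base x))).map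
          (f.stalkMap x).hom)).toRingEquiv h1
  haveI h3 : IsRegularRing ((f.fiber (f.base x)).presheaf.stalk (f.asFiber x)) :=
    IsRegularRing.of_ringEquiv (fibEquiv f x)
  haveI h4 : IsRegularLocalRing ((f.fiber (f.base x)).presheaf.stalk (f.asFiber x)) :=
    IsRegularLocalRing.of_isRegularRing_of_isLocalRing _
  exact { supportDim_eq_depth := Groth.Agent.Helper2.RegCM.cm_of_isRegularLocalRing _ }

theorem main' [IsLocallyNoetherian Y] [LocallyOfFiniteType f]
    (hred : _root_.IsReduced (Y.presheaf.stalk (f.base x)))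
    (hgu : CAlg2.IsGeomUnibranch (Y.presheaf.stalk (f.base x))) :
    letI := fibAlg f x
    (∃ U : X.Opens, x ∈ U ∧ Smooth (U.ι ≫ f)) ↔
      EGA43.IsEquidimAt f x ∧
        CAlg.IsGeometricallyRegular (IsLocalRing.ResidueField (Y.presheaf.stalk (f.base x)))
          (X.presheaf.stalk x ⧸ (IsLocalRing.maximalIdeal (Y.presheaf.stalk (f.base x))).map
            (f.stalkMap x).hom) := by
  have hM := main f x hred
  constructor
  · intro h
    have hreg := (hM.mp h).2
    refine ⟨?_, hreg⟩
    have hfl := Groth.Agent.Helper2.FiberSmooth2.flat_stalk_of_smooth_nbhd f x h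
    exact Groth.Agent.Helper5.CMAff.s2595 f x hfl (isCM_of_geomReg f x hreg)
  · rintro ⟨heq, hreg⟩
    refine hM.mpr ⟨?_, hreg⟩
    obtain ⟨U, hxU, hU⟩ := Groth.Agent.Helper5.Chev.isEquidimAt_of_mem f x heq
    refine ⟨U, hxU, fun x' hx' hfx' => ?_⟩
    exact Groth.Agent.Helper5.Chev.isUnivOpenAt_of_isEquidimAt f x' (hU x' hx' hfx')
      (Groth.Agent.Helper5.Chev.geomUnibranch_congr Y (f x) (f x') hfx'.symm hgu)

end Groth.Agent.Lead.SmNbhd
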