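import Groth.Agent.Lead.VirtDim
import Mathlib

/-!
# Lead: conormal module of a smooth quotient of a smooth algebra is locally free (algebra)
-/

set_option autoImplicit false
set_option linter.style.haveILetI false
open TensorProduct KaehlerDifferential Function
universe u

namespace Groth.Agent.Lead.SmSub
open Groth.Agent.Lead.VirtDim

variable {R P T : Type u} [CommRing R] [CommRing P] [CommRing T]
  [Algebra R P] [Algebra R T] [Algebra P T] [IsScalarTower R P T]
  [Algebra.FormallySmooth R P] [Algebra.FormallySmooth R T]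

/-- the split conormal sequence `T ⊗ Ω_{P/R} ≃ I/I² × Ω_{T/R}` -/
theorem cotangentSpace_split (hP : Surjective (algebraMap P T)) :
    Nonempty ((T ⊗[P] Ω[P⁄R]) ≃ₗ[T] ((ext R hP).Cotangent × Ω[T⁄R])) := by
  let E := ext R hP
  haveI : Algebra.FormallySmooth R E.Ring := inferInstanceAs (Algebra.FormallySmooth R P)
  have hinj : Injective E.cotangentComplex :=
    (Algebra.Extension.cotangentComplex_injective_iff E).mpr
      Algebra.FormallySmooth.subsingleton_h1Cotangent
  haveI : Module.Projective T Ω[T⁄R] := inferInstance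
  obtain ⟨l, hl⟩ := Module.projective_lifting_property E.toKaehler LinearMap.id
    E.toKaehler_surjective
  exact ⟨(E.exact_cotangentComplex_toKaehler.splitSurjectiveEquiv hinj ⟨l, hl⟩).1⟩

/-- **the conormal module of a smooth quotient of a smooth algebra is locally free of the
expected rank** -/
theorem locally_free
    (hP : Surjective (algebraMap P T))
    {M N W : Type u} [AddCommGroup M] [Module P M] [AddCommGroup N] [Module T N] [Module P N]
    [IsScalarTower P T N] [AddCommGroup W] [Module T W]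
    (ι : M →ₗ[P] P) (hιr : ∀ p, algebraMap P T p = 0 → ∃ m, ι m = p)
    (hιk : ∀ m, algebraMap P T (ι m) = 0)
    (c : M →ₗ[P] N) (hc : Surjective c)
    (hck : ∀ m, c m = 0 ↔ ι m ∈ (RingHom.ker (algebraMap P T)) ^ 2)
    (eW : W ≃ₗ[T] T ⊗[P] Ω[P⁄R])
    {n₁ n₂ : ℕ} (bW : Module.Basis (Fin n₁) T W) (bΩ : Module.Basis (Fin n₂) T Ω[T⁄R])
    (𝔭 : Ideal T) [𝔭.IsPrime] :
    n₂ ≤ n₁ ∧ ∃ g : T, g ∉ 𝔭 ∧ Nonempty (LocalizedModule.Away g N ≃ₗ[Localization.Away g]
      (Fin (n₁ - n₂) →₀ Localization.Away g)) := by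
  haveI : Nontrivial T := ⟨⟨0, 1, fun h => (‹𝔭.IsPrime›.ne_top)
    ((Ideal.eq_top_iff_one 𝔭).mpr (h ▸ 𝔭.zero_mem))⟩⟩
  obtain ⟨eN⟩ := cotangent_model R hP ι hιr hιk c hc hck
  obtain ⟨Φ⟩ := cotangentSpace_split (R := R) hP
  let Ψ : W ≃ₗ[T] (N × Ω[T⁄R]) := (eW.trans Φ).trans (eN.symm.prodCongr (LinearEquiv.refl T _))
  haveI : Module.Free T W := Module.Free.of_basis bW
  haveI : Module.Finite T W := Module.Finite.of_basis bW
  haveI : Module.Free T Ω[T⁄R] := Module.Free.of_basis bΩ
  haveI : Module.Finite T Ω[T⁄R] := Module.Finite.of_basis bΩ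
  let s : W →ₗ[T] N := (LinearMap.fst T N Ω[T⁄R]).comp Ψ.toLinearMap
  let i : N →ₗ[T] W := Ψ.symm.toLinearMap.comp (LinearMap.inl T N Ω[T⁄R])
  have hsi : s.comp i = LinearMap.id := by
    ext x
    simp [s, i]
  have hs : Surjective s := fun x => ⟨i x, LinearMap.congr_fun hsi x⟩
  haveI : Module.Finite T N := Module.Finite.of_surjective s hs
  haveI : Module.Projective T N := Module.Projective.of_split i s hsi
  haveI : Module.Flat T N := inferInstance
  have hrank : ∀ q : PrimeSpectrum T, Module.rankAtStalk N q + n₂ = n₁ := by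
    intro q
    have h1 := congrFun (Module.rankAtStalk_eq_of_equiv Ψ) q
    rw [Module.rankAtStalk_prod, Module.rankAtStalk_eq_finrank_of_free,
      Module.rankAtStalk_eq_finrank_of_free (M := Ω[T⁄R])] at h1
    simp only [Pi.add_apply] at h1
    rw [Module.finrank_eq_card_basis bW, Module.finrank_eq_card_basis bΩ] at h1
    simpa using h1.symm
  have hle : n₂ ≤ n₁ := by
    have := hrank ⟨𝔭, inferInstance⟩
    omega
  refine ⟨hle, ?_⟩
  obtain ⟨a, ha, hfree⟩ := Module.Free.away_of_finite_of_flat_of_rankAtStalk_constant N 𝔭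
    (fun m _ => by
      have h1 := hrank ⟨m, inferInstance⟩
      have h2 := hrank ⟨𝔭, inferInstance⟩
      omega)
  refine ⟨a, ha, ?_⟩
  haveI := hfree
  haveI : Nontrivial (Localization.Away a) := by
    refine (IsLocalization.subsingleton_iff (M := Submonoid.powers a)
      (S := Localization.Away a)).not.mpr ?_ |> not_subsingleton_iff_nontrivial.mp
    rintro ⟨n, hn⟩
    have hn' : a ^ n = 0 := hn
    exact ha (‹𝔭.IsPrime›.mem_of_pow_mem n (hn' ▸ 𝔭.zero_mem))
  haveI : Module.Finite (Localization.Away a) (LocalizedModule.Away a N) := inferInstance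
  obtain ⟨q⟩ : Nonempty (PrimeSpectrum (Localization.Away a)) := inferInstance
  have h3 := Module.rankAtStalk_isBaseChange
    (LocalizedModule.isBaseChange (Submonoid.powers a) N) q
  have h4 := hrank (PrimeSpectrum.comap (algebraMap T (Localization (Submonoid.powers a))) q)
  have h5 : Module.finrank (Localization.Away a) (LocalizedModule.Away a N) = n₁ - n₂ := by
    have h6 := congrFun (Module.rankAtStalk_eq_finrank_of_free
      (R := Localization.Away a) (M := LocalizedModule.Away a N)) q
    simp only [Pi.natCast_def] at h6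
    have h7 : Module.rankAtStalk (R := Localization.Away a) (LocalizedModule.Away a N) q =
        n₁ - n₂ := by
      rw [h3]
      omega
    rw [← h7]
    exact_mod_cast h6.symm
  exact ⟨(Module.finBasisOfFinrankEq _ _ h5).repr⟩

end Groth.Agent.Lead.SmSub
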