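import Groth.Agent.Lead.SmSub
import Groth.Agent.Lead.SmOmegaA
import Groth.Agent.Lead.CnSplitB
import Groth.Agent.Lead.CartProdA
import Groth.Agent.Helper4.FinLocFree2
import Mathlib

/-!
# Lead: conormal sheaf of a smooth subscheme of a smooth scheme (scheme side)
-/

set_option autoImplicit false
set_option linter.style.haveILetI false
open CategoryTheory CategoryTheory.Limits AlgebraicGeometry Opposite TopologicalSpace TensorProduct
  KaehlerDifferential Function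
universe u

namespace Groth.Agent.Lead.SmSubB

open Scheme.Modules OmegaSh Groth.Agent.Lead Groth.Agent.Helper4 Groth.Agent.Helper4.FinLocFree

/-- the fibre dimension read off a standard smooth chart -/
theorem fibreDimAt_of_chart {X Y : Scheme.{u}} (f : X ⟶ Y) {U : X.Opens} {V : Y.Opens}
    (hU : IsAffineOpen U) (hV : IsAffineOpen V) (e : U ≤ f ⁻¹ᵁ V) (n : ℕ)
    (h : (f.appLE V U e).hom.IsStandardSmoothOfRelativeDimension n) (x : X) (hx : x ∈ U) :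
    FlatMor.fibreDimAt f x = (n : WithBot ℕ∞) := by
  haveI := SmOmegaA.smoothRelDim_resLE f hU hV e n h
  have h1 := Groth.Agent.S7408.result f (f.resLE V U e) U.ι V.ι (by simp) ⟨x, hx⟩
  have h2 := Groth.Agent.S2768.result n (f.resLE V U e) ⟨x, hx⟩
  rw [← h2, ← h1]
  rfl

/-- a standard smooth ring map has some relative dimension -/
theorem exists_relDim {A B : Type u} [CommRing A] [CommRing B] (φ : A →+* B)
    (h : φ.IsStandardSmooth) : ∃ n : ℕ, φ.IsStandardSmoothOfRelativeDimension n := by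
  letI := φ.toAlgebra
  have h' : Algebra.IsStandardSmooth A B := h
  obtain ⟨ι, σ, hσ, hι, ⟨P⟩⟩ := h'.out
  exact ⟨P.dimension, P.isStandardSmoothOfRelativeDimension rfl⟩

/-- localising the source of a standard smooth chart -/
theorem stdSmooth_basicOpen {X Y : Scheme.{u}} (f : X ⟶ Y) {U : X.Opens} {V : Y.Opens}
    (hU : IsAffineOpen U) (e : U ≤ f ⁻¹ᵁ V) (n : ℕ)
    (h : (f.appLE V U e).hom.IsStandardSmoothOfRelativeDimension n) (g : Γ(X, U))
    (e' : X.basicOpen g ≤ f ⁻¹ᵁ V) :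
    (f.appLE V (X.basicOpen g) e').hom.IsStandardSmoothOfRelativeDimension n := by
  have hDW : X.basicOpen g ≤ U := X.basicOpen_le g
  have heq : f.appLE V (X.basicOpen g) e' =
      f.appLE V U e ≫ X.presheaf.map (homOfLE hDW).op := by
    rw [Scheme.Hom.appLE_map]
  rw [heq, CommRingCat.hom_comp]
  haveI := hU.isLocalization_basicOpen g
  exact (RingHom.isStandardSmoothOfRelativeDimension_stableUnderCompositionWithLocalizationAway
    n).right Γ(X, X.basicOpen g) g (f.appLE V U e).hom h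

/-- a chart standard smooth both for `f` around `j x` and for `j ≫ f` around `x` -/
theorem exists_chart {X' X Y : Scheme.{u}} (f : X ⟶ Y) [Smooth f] (j : X' ⟶ X) [IsImmersion j]
    [Smooth (j ≫ f)] (x : X') :
    ∃ (V : Y.Opens) (U : X.Opens) (X₀ : X'.Opens) (n₁ n₂ : ℕ) (_ : IsAffineOpen V)
      (_ : IsAffineOpen U) (e : U ≤ f ⁻¹ᵁ V) (e' : X₀ ≤ (j ≫ f) ⁻¹ᵁ V),
      X₀ = j ⁻¹ᵁ U ∧ j x ∈ U ∧ U ≤ j.coborderRange ∧
      (f.appLE V U e).hom.IsStandardSmoothOfRelativeDimension n₁ ∧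
      ((j ≫ f).appLE V X₀ e').hom.IsStandardSmoothOfRelativeDimension n₂ := by
  obtain ⟨V, hV, U₀, hU₀, hxU₀, e₀, hss⟩ := Smooth.exists_isStandardSmooth f (j x)
  obtain ⟨n₁, hstd₀⟩ := exists_relDim _ hss
  have hic : j x ∈ j.coborderRange := subset_coborder ⟨x, rfl⟩
  obtain ⟨h, hle, hxh⟩ := hU₀.exists_basicOpen_le (V := j.coborderRange) ⟨j x, hic⟩ hxU₀
  have hU₁ : IsAffineOpen (X.basicOpen h) := hU₀.basicOpen h
  have e₁ : X.basicOpen h ≤ f ⁻¹ᵁ V := (X.basicOpen_le h).trans e₀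
  have hstd₁ := stdSmooth_basicOpen f hU₀ e₀ n₁ hstd₀ h e₁
  obtain ⟨hX₁, hsurj₁⟩ := OmegaCnD.affine_of_le_coborderRange j hU₁ hle
  have e₁' : j ⁻¹ᵁ (X.basicOpen h) ≤ (j ≫ f) ⁻¹ᵁ V := fun y hy => e₁ hy
  have hsm : ((j ≫ f).appLE V (j ⁻¹ᵁ (X.basicOpen h)) e₁').hom.Smooth :=
    HasRingHomProperty.appLE (P := @Smooth) (j ≫ f) inferInstance ⟨V, hV⟩ ⟨_, hX₁⟩ e₁'
  obtain ⟨s, hs, H⟩ := hsm.locally_isStandardSmooth
  have hx₁ : x ∈ j ⁻¹ᵁ (X.basicOpen h) := hxh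
  obtain ⟨t, hts, htx⟩ : ∃ t ∈ s, x ∈ X'.basicOpen t := by
    by_contra hcon
    push Not at hcon
    have hsub : Ideal.span s ≤ (hX₁.primeIdealOf ⟨x, hx₁⟩).asIdeal := by
      rw [Ideal.span_le]
      intro t ht
      exact (CartProdA.mem_primeIdealOf_iff ⟨_, hX₁⟩ x hx₁ t).mpr (hcon t ht)
    rw [hs] at hsub
    exact (hX₁.primeIdealOf ⟨x, hx₁⟩).2.ne_top (top_le_iff.mp hsub)
  obtain ⟨p, hp⟩ := hsurj₁ t
  have hpre : j ⁻¹ᵁ (X.basicOpen p) = X'.basicOpen t := by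
    rw [Scheme.preimage_basicOpen, hp]
  have hU : IsAffineOpen (X.basicOpen p) := hU₁.basicOpen p
  have hpU₁ : X.basicOpen p ≤ X.basicOpen h := X.basicOpen_le p
  have e : X.basicOpen p ≤ f ⁻¹ᵁ V := hpU₁.trans e₁
  have hstd := stdSmooth_basicOpen f hU₁ e₁ n₁ hstd₁ p e
  have htle : X'.basicOpen t ≤ j ⁻¹ᵁ (X.basicOpen h) := X'.basicOpen_le t
  have e' : X'.basicOpen t ≤ (j ≫ f) ⁻¹ᵁ V := htle.trans e₁'
  have hss₂ : ((j ≫ f).appLE V (X'.basicOpen t) e').hom.IsStandardSmooth := by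
    have heq : (j ≫ f).appLE V (X'.basicOpen t) e' =
        (j ≫ f).appLE V (j ⁻¹ᵁ (X.basicOpen h)) e₁' ≫ X'.presheaf.map (homOfLE htle).op := by
      rw [Scheme.Hom.appLE_map]
    rw [heq, CommRingCat.hom_comp]
    haveI := hX₁.isLocalization_basicOpen t
    let ε : Localization.Away t ≃ₐ[Γ(X', j ⁻¹ᵁ (X.basicOpen h))] Γ(X', X'.basicOpen t) :=
      IsLocalization.algEquiv (Submonoid.powers t) _ _
    have h1 := RingHom.isStandardSmooth_respectsIso.1 _ ε.toRingEquiv (H t hts)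
    have h2 : ε.toRingEquiv.toRingHom.comp
        (algebraMap Γ(X', j ⁻¹ᵁ (X.basicOpen h)) (Localization.Away t)) =
        (X'.presheaf.map (homOfLE htle).op).hom := by
      ext a
      exact ε.commutes a
    rw [← RingHom.comp_assoc, h2] at h1
    exact h1
  obtain ⟨n₂, hstd₂⟩ := exists_relDim _ hss₂
  exact ⟨V, X.basicOpen p, X'.basicOpen t, n₁, n₂, hV, hU, e, e', hpre.symm,
    by
      change x ∈ j ⁻¹ᵁ (X.basicOpen p)
      rw [hpre]
      exact htx,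
    hpU₁.trans hle, hstd, hstd₂⟩

/-- a basis of the differentials of a standard smooth algebra of relative dimension `n` -/
theorem exists_basis_kaehler (A B : Type u) [CommRing A] [CommRing B] [Algebra A B] [Nontrivial B]
    (n : ℕ) [Algebra.IsStandardSmoothOfRelativeDimension n A B] :
    Nonempty (Module.Basis (Fin n) B Ω[B⁄A]) := by
  haveI : Algebra.IsStandardSmooth A B :=
    Algebra.IsStandardSmoothOfRelativeDimension.isStandardSmooth n
  have hrank : Module.rank B Ω[B⁄A] = n :=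
    Algebra.IsStandardSmoothOfRelativeDimension.rank_kaehlerDifferential n
  haveI : Algebra.FinitePresentation A B := inferInstance
  haveI : Module.Finite B Ω[B⁄A] := inferInstance
  have hfin : Module.finrank B Ω[B⁄A] = n := Module.finrank_eq_of_rank_eq hrank
  exact ⟨Module.finBasisOfFinrankEq _ _ hfin⟩

set_option backward.isDefEq.respectTransparency false in
/-- **the conormal sheaf of a smooth subscheme of a smooth scheme is locally free of rank the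
difference of the fibre dimensions** -/
theorem main {X' X Y : Scheme.{u}} (f : X ⟶ Y) [Smooth f] (j : X' ⟶ X) [IsImmersion j]
    [QuasiCompact j] [Smooth (j ≫ f)] (x : X') :
    ∃ (U : X'.Opens) (n : ℕ), x ∈ U ∧
      Nonempty ((Omega.conormal j).restrict U.ι ≅ FlatMod.freeMod (↑U) n) ∧
      FlatMor.fibreDimAt f (j.base x) = FlatMor.fibreDimAt (j ≫ f) x + (n : WithBot ℕ∞) := by
  obtain ⟨V, U, X₀, n₁, n₂, hV, hU, e, e', hX₀eq, hxU, hUc, hstd₁, hstd₂⟩ := exists_chart f j x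
  subst hX₀eq
  obtain ⟨hX₀, hsurj⟩ := OmegaCnD.affine_of_le_coborderRange j hU hUc
  have hxX₀ : x ∈ j ⁻¹ᵁ U := hxU
  have hd1 := fibreDimAt_of_chart f hU hV e n₁ hstd₁ (j x) hxU
  have hd2 := fibreDimAt_of_chart (j ≫ f) hX₀ hV e' n₂ hstd₂ x hxX₀
  letI algRT := ((j ≫ f).appLE V (j ⁻¹ᵁ U) e').hom.toAlgebra
  letI algRP := (f.appLE V U e).hom.toAlgebra
  letI algPT := (j.appLE U (j ⁻¹ᵁ U) le_rfl).hom.toAlgebra
  haveI tower : IsScalarTower Γ(Y, V) Γ(X, U) Γ(X', j ⁻¹ᵁ U) :=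
    IsScalarTower.of_algebraMap_eq' (by
      change ((j ≫ f).appLE V (j ⁻¹ᵁ U) e').hom =
        (j.appLE U (j ⁻¹ᵁ U) le_rfl).hom.comp (f.appLE V U e).hom
      rw [← CommRingCat.hom_comp, Scheme.Hom.appLE_comp_appLE])
  haveI s1 : Algebra.IsStandardSmoothOfRelativeDimension n₁ Γ(Y, V) Γ(X, U) := hstd₁
  haveI s2 : Algebra.IsStandardSmoothOfRelativeDimension n₂ Γ(Y, V) Γ(X', j ⁻¹ᵁ U) := hstd₂
  haveI : Algebra.IsStandardSmooth Γ(Y, V) Γ(X, U) :=
    Algebra.IsStandardSmoothOfRelativeDimension.isStandardSmooth n₁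
  haveI : Algebra.IsStandardSmooth Γ(Y, V) Γ(X', j ⁻¹ᵁ U) :=
    Algebra.IsStandardSmoothOfRelativeDimension.isStandardSmooth n₂
  haveI : Algebra.FormallySmooth Γ(Y, V) Γ(X, U) := inferInstance
  haveI : Algebra.FormallySmooth Γ(Y, V) Γ(X', j ⁻¹ᵁ U) := inferInstance
  haveI : Nonempty (U : X.Opens) := ⟨⟨j x, hxU⟩⟩
  haveI : Nontrivial Γ(X, U) := Scheme.component_nontrivial X U
  haveI : Nonempty (j ⁻¹ᵁ U : X'.Opens) := ⟨⟨x, hxX₀⟩⟩
  haveI : Nontrivial Γ(X', j ⁻¹ᵁ U) := Scheme.component_nontrivial X' _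
  obtain ⟨b₀⟩ := exists_basis_kaehler Γ(Y, V) Γ(X, U) n₁
  obtain ⟨bΩ⟩ := exists_basis_kaehler Γ(Y, V) Γ(X', j ⁻¹ᵁ U) n₂
  let bW : Module.Basis (Fin n₁) Γ(X', j ⁻¹ᵁ U) (Γ(X', j ⁻¹ᵁ U) ⊗[Γ(X, U)] Ω[Γ(X, U)⁄Γ(Y, V)]) :=
    b₀.baseChange Γ(X', j ⁻¹ᵁ U)
  have surj : Surjective (algebraMap Γ(X, U) Γ(X', j ⁻¹ᵁ U)) := by
    intro t
    obtain ⟨s, hs⟩ := hsurj t
    refine ⟨s, ?_⟩
    change j.appLE U (j ⁻¹ᵁ U) le_rfl s = t
    rw [Scheme.Hom.appLE_eq_app]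
    exact hs
  have halg : ∀ p : Γ(X, U), algebraMap Γ(X, U) Γ(X', j ⁻¹ᵁ U) p = j.app U p := by
    intro p
    change j.appLE U (j ⁻¹ᵁ U) le_rfl p = _
    rw [Scheme.Hom.appLE_eq_app]
  have hker : RingHom.ker (algebraMap Γ(X, U) Γ(X', j ⁻¹ᵁ U)) = RingHom.ker (j.app U).hom := by
    ext p
    rw [RingHom.mem_ker, RingHom.mem_ker, halg]
  letI modPN : Module Γ(X, U) Γ(Omega.conormal j, j ⁻¹ᵁ U) :=
    Module.compHom _ (j.appLE U (j ⁻¹ᵁ U) le_rfl).hom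
  haveI towerN : IsScalarTower Γ(X, U) Γ(X', j ⁻¹ᵁ U) Γ(Omega.conormal j, j ⁻¹ᵁ U) :=
    IsScalarTower.of_compHom _ _ _
  let ι : Γ(ClSub.idealMod j.ker, U) →ₗ[Γ(X, U)] Γ(X, U) :=
    { toFun := fun m => idealSect j.ker U m
      map_add' := fun m n => map_add _ m n
      map_smul' := fun t m => by
        rw [OmegaCnC.idealSect_smul]
        rfl }
  let c : Γ(ClSub.idealMod j.ker, U) →ₗ[Γ(X, U)] Γ(Omega.conormal j, j ⁻¹ᵁ U) :=
    { toFun := fun m => conormalSect j U m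
      map_add' := fun m n => map_add _ m n
      map_smul' := fun t m => by
        rw [OmegaCnG.conormalSect_smul]
        rfl }
  have hιr : ∀ p, algebraMap Γ(X, U) Γ(X', j ⁻¹ᵁ U) p = 0 → ∃ m, ι m = p := by
    intro p hp
    rw [halg] at hp
    exact OmegaCnB.exists_idealSect j hU p hp
  have hιk : ∀ m, algebraMap Γ(X, U) Γ(X', j ⁻¹ᵁ U) (ι m) = 0 := by
    intro m
    rw [halg]
    exact OmegaCnB.app_idealSect j hU m
  have hc : Surjective c := fun n => OmegaCnH.exists_conormalSect j hU hX₀ hsurj n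
  have hck : ∀ m, c m = 0 ↔ ι m ∈ (RingHom.ker (algebraMap Γ(X, U) Γ(X', j ⁻¹ᵁ U))) ^ 2 := by
    intro m
    rw [hker]
    exact ⟨fun h => OmegaCnF.idealSect_mem_sq j hU hX₀ hsurj m h,
      fun h => OmegaCnC.conormalSect_eq_zero j hU m h⟩
  obtain ⟨hle, g, hg, ⟨ε⟩⟩ := SmSub.locally_free (R := Γ(Y, V)) surj ι hιr hιk c hc hck
    (LinearEquiv.refl _ _) bW bΩ (hX₀.primeIdealOf ⟨x, hxX₀⟩).asIdeal
  have hxg : x ∈ X'.basicOpen g := by
    by_contra h
    exact hg ((CartProdA.mem_primeIdealOf_iff ⟨_, hX₀⟩ x hxX₀ g).mpr h)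
  haveI : (Omega.conormal j).IsQuasicoherent :=
    StalkPull.isQuasicoherent_pullbackObj j (ClSub.idealMod j.ker)
  obtain ⟨V', hxV', hfree⟩ := exists_isFreeAlong_of_free_away (Omega.conormal j) hX₀ g
    (n₁ - n₂) ε x hxg
  refine ⟨V', n₁ - n₂, hxV', hfree, ?_⟩
  rw [hd1, hd2]
  norm_cast
  omega

end Groth.Agent.Lead.SmSubB
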