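import Groth.Agent.Lead.OmegaCnC
import Groth.Agent.Lead.OmegaCnF
import Groth.Agent.Lead.SmSubB
import Groth.Agent.Lead.SmOmegaC
import Mathlib

set_option autoImplicit false
set_option backward.isDefEq.respectTransparency false
set_option backward.isDefEq.respectTransparency.types false
set_option linter.style.haveILetI false
open CategoryTheory CategoryTheory.Limits AlgebraicGeometry Opposite TopologicalSpace TensorProduct
universe u

namespace Groth.Agent.Lead.SmSubC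

open Scheme.Modules OmegaSh Groth.Agent.Helper4 Groth.Agent.Lead.BCMap

section Conormal
variable {X Y Z : Scheme.{u}} (f : Y ⟶ Z) (j : X ⟶ Y) [IsImmersion j] [QuasiCompact j]
  {ΩY : Y.Modules} (dY : Der f ΩY) (hY : IsUniversal dY)
  (φ : Omega.conormal j ⟶ (Scheme.Modules.pullback j).obj ΩY) (hφ : IsConormalDiff j dY φ)

include hφ hY in
/-- converse of `OmegaCnC.app_injective`. -/
theorem kerCotangent_injective {U : Y.Opens} {W : Z.Opens} (hU : IsAffineOpen U)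
    (hU' : IsAffineOpen (j ⁻¹ᵁ U)) (hW : IsAffineOpen W) (hUW : U ≤ f ⁻¹ᵁ W)
    (hsurj : Function.Surjective (j.app U))
    (hinj : Function.Injective (φ.app (j ⁻¹ᵁ U))) :
    letI := (f.appLE W U hUW).hom.toAlgebra
    letI := (j.appLE U (j ⁻¹ᵁ U) le_rfl).hom.toAlgebra
    Function.Injective (KaehlerDifferential.kerCotangentToTensor Γ(Z, W) Γ(Y, U)
      Γ(X, j ⁻¹ᵁ U)) := by
  haveI := OmegaLocB.isQuasicoherent_of_isUniversal f dY hY
  have e : j ⁻¹ᵁ U ≤ j ⁻¹ᵁ U := le_rfl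
  letI algAB := (f.appLE W U hUW).hom.toAlgebra
  letI algBC := (j.appLE U (j ⁻¹ᵁ U) e).hom.toAlgebra
  obtain ⟨εY, hεY⟩ := OmegaLocC.exists_sectionsEquiv f dY hY hU hW hUW
  letI : Module Γ(Y, U) Γ((Scheme.Modules.pullback j).obj ΩY, j ⁻¹ᵁ U) :=
    Module.compHom _ (j.appLE U (j ⁻¹ᵁ U) e).hom
  haveI : IsScalarTower Γ(Y, U) Γ(X, j ⁻¹ᵁ U) Γ((Scheme.Modules.pullback j).obj ΩY, j ⁻¹ᵁ U) :=
    IsScalarTower.of_compHom _ _ _
  obtain ⟨ρ, hρ, hb⟩ := exists_isBaseChange_pbSec j ΩY hU hU' e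
  have hb' : IsBaseChange Γ(X, j ⁻¹ᵁ U) (ρ ∘ₗ εY.symm.toLinearMap) :=
    IsBaseChange.comp_equiv εY.symm ρ hb
  rw [injective_iff_map_eq_zero]
  intro z hz
  obtain ⟨⟨b, hbk⟩, rfl⟩ := Ideal.toCotangent_surjective _ z
  have hb0 : j.app U b = 0 := by
    have h0 : j.appLE U (j ⁻¹ᵁ U) e b = 0 := hbk
    rwa [Scheme.Hom.appLE_eq_app] at h0
  obtain ⟨σ, hσ⟩ := OmegaCnB.exists_idealSect j hU b hb0
  rw [KaehlerDifferential.kerCotangentToTensor_toCotangent] at hz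
  have h1 : φ.app (j ⁻¹ᵁ U) (conormalSect j U σ) = 0 := by
    rw [hφ U σ, ← OmegaCnB.pbSec_self, ← hρ, hσ]
    have h2 := congrArg hb'.equiv hz
    rw [IsBaseChange.equiv_tmul, one_smul, map_zero] at h2
    change ρ (εY.symm _) = 0 at h2
    rw [← hεY, LinearEquiv.symm_apply_apply] at h2
    exact h2
  have h2 := hinj (h1.trans (map_zero _).symm)
  have h3 := OmegaCnF.idealSect_mem_sq j hU hU' hsurj σ h2
  rw [Ideal.toCotangent_eq_zero]
  have h5 : RingHom.ker (j.app U).hom = RingHom.ker (algebraMap Γ(Y, U) Γ(X, j ⁻¹ᵁ U)) := by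
    change _ = RingHom.ker (j.appLE U (j ⁻¹ᵁ U) e).hom
    rw [Scheme.Hom.appLE_eq_app]
  change b ∈ _
  rw [← hσ]
  exact h5 ▸ h3

include hφ hY in
/-- `OmegaCnC.mono_of_formallySmooth` with `Smooth` in place of the lifting property. -/
theorem mono_of_smooth [Smooth (j ≫ f)] : Mono φ := by
  haveI : (Omega.conormal j).IsQuasicoherent :=
    StalkPull.isQuasicoherent_pullbackObj j (ClSub.idealMod j.ker)
  haveI := OmegaLocB.isQuasicoherent_of_isUniversal f dY hY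
  haveI := StalkPull.isQuasicoherent_pullbackObj j ΩY
  apply QcohLocal.mono_of_app_injective_of_affine_cover
  intro x
  obtain ⟨V, W, hV, hW, hxV, hVW⟩ := OmegaSecB.exists_affine_pair f (j x)
  obtain ⟨U, hU, hxU, hUV, hU', -, hsurj⟩ :=
    OmegaCnA.exists_affine_immersion j x ⊤ trivial V hxV
  refine ⟨j ⁻¹ᵁ U, hU', hxU, ?_⟩
  have hUW : U ≤ f ⁻¹ᵁ W := fun y hy => hVW (hUV hy)
  have hU'W : j ⁻¹ᵁ U ≤ (j ≫ f) ⁻¹ᵁ W := fun y hy => hUW hy
  apply OmegaCnC.app_injective f j dY hY φ hφ hU hU' hW hUW hsurj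
  letI algAB := (f.appLE W U hUW).hom.toAlgebra
  letI algBC := (j.appLE U (j ⁻¹ᵁ U) le_rfl).hom.toAlgebra
  letI algAC := ((j ≫ f).appLE W (j ⁻¹ᵁ U) hU'W).hom.toAlgebra
  haveI : IsScalarTower Γ(Z, W) Γ(Y, U) Γ(X, j ⁻¹ᵁ U) := IsScalarTower.of_algebraMap_eq' (by
    change ((j ≫ f).appLE W (j ⁻¹ᵁ U) hU'W).hom =
      (j.appLE U (j ⁻¹ᵁ U) le_rfl).hom.comp (f.appLE W U hUW).hom
    rw [← CommRingCat.hom_comp, Scheme.Hom.appLE_comp_appLE])
  have hsm : ((j ≫ f).appLE W (j ⁻¹ᵁ U) hU'W).hom.Smooth :=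
    HasRingHomProperty.appLE @Smooth (j ≫ f) inferInstance ⟨W, hW⟩ ⟨j ⁻¹ᵁ U, hU'⟩ hU'W
  haveI : Algebra.Smooth Γ(Z, W) Γ(X, j ⁻¹ᵁ U) := hsm
  haveI : Algebra.FormallySmooth Γ(Z, W) Γ(X, j ⁻¹ᵁ U) := inferInstance
  have hsurj' : Function.Surjective (algebraMap Γ(Y, U) Γ(X, j ⁻¹ᵁ U)) := by
    intro t
    obtain ⟨s, hs⟩ := hsurj t
    refine ⟨s, ?_⟩
    change j.appLE U (j ⁻¹ᵁ U) le_rfl s = t
    rw [Scheme.Hom.appLE_eq_app]
    exact hs
  exact OmegaCnC.kerCotangentToTensor_injective _ _ _ hsurj'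

end Conormal

section Field
variable (k : Type u) [Field k] {X Y : Scheme.{u}} (f : Y ⟶ Spec (CommRingCat.of k)) [Smooth f]
  (j : X ⟶ Y) [IsClosedImmersion j]
  {ΩY : Y.Modules} (dY : Der f ΩY) (hY : IsUniversal dY)
  {ΩX : X.Modules} (dX : Der (j ≫ f) ΩX) (hX : IsUniversal dX)
  (φ : Omega.conormal j ⟶ (Scheme.Modules.pullback j).obj ΩY) (hφ : IsConormalDiff j dY φ)

include hY hX hφ in
/-- Hartshorne II.8.17, the converse: if `0 → I/I² → Ω_Y ⊗ O_X → Ω_X → 0` is left exact and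
`Ω_X` is locally free, the closed subscheme `X` of the smooth `Y` is smooth. -/
theorem mem_smoothLocus_of_mono [Mono φ] (x : X) (T : X.Opens) (n : ℕ) (hxT : x ∈ T)
    (hfree : FinLocFree.IsFreeAlong ΩX T.ι n) : x ∈ (j ≫ f).smoothLocus := by
  have hW : IsAffineOpen (⊤ : (Spec (CommRingCat.of k)).Opens) := isAffineOpen_top _
  obtain ⟨U, hU, hxU, -, hU', hU'T, hsurj⟩ :=
    OmegaCnA.exists_affine_immersion j x T hxT ⊤ trivial
  have hUW : U ≤ f ⁻¹ᵁ ⊤ := le_top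
  have hU'W : j ⁻¹ᵁ U ≤ (j ≫ f) ⁻¹ᵁ ⊤ := le_top
  letI algAB := (f.appLE ⊤ U hUW).hom.toAlgebra
  letI algBC := (j.appLE U (j ⁻¹ᵁ U) le_rfl).hom.toAlgebra
  letI algAC := ((j ≫ f).appLE ⊤ (j ⁻¹ᵁ U) hU'W).hom.toAlgebra
  haveI : IsScalarTower Γ(Spec (CommRingCat.of k), ⊤) Γ(Y, U) Γ(X, j ⁻¹ᵁ U) :=
    IsScalarTower.of_algebraMap_eq' (by
      change ((j ≫ f).appLE ⊤ (j ⁻¹ᵁ U) hU'W).hom =
        (j.appLE U (j ⁻¹ᵁ U) le_rfl).hom.comp (f.appLE ⊤ U hUW).hom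
      rw [← CommRingCat.hom_comp, Scheme.Hom.appLE_comp_appLE])
  have hsmB : (f.appLE ⊤ U hUW).hom.Smooth :=
    HasRingHomProperty.appLE @Smooth f inferInstance ⟨⊤, hW⟩ ⟨U, hU⟩ hUW
  haveI : Algebra.Smooth Γ(Spec (CommRingCat.of k), ⊤) Γ(Y, U) := hsmB
  haveI : Algebra.FormallySmooth Γ(Spec (CommRingCat.of k), ⊤) Γ(Y, U) := inferInstance
  have hsurj' : Function.Surjective (algebraMap Γ(Y, U) Γ(X, j ⁻¹ᵁ U)) := by
    intro t
    obtain ⟨s, hs⟩ := hsurj t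
    refine ⟨s, ?_⟩
    change j.appLE U (j ⁻¹ᵁ U) le_rfl s = t
    rw [Scheme.Hom.appLE_eq_app]
    exact hs
  have hinj := kerCotangent_injective f j dY hY φ hφ hU hU' hW hUW hsurj
    (AffineDict.app_injective_of_mono φ _)
  have hH1 : Subsingleton (Algebra.H1Cotangent Γ(Spec (CommRingCat.of k), ⊤) Γ(X, j ⁻¹ᵁ U)) :=
    (Algebra.FormallySmooth.kerCotangentToTensor_injective_iff hsurj').mp hinj
  haveI := OmegaLocB.isQuasicoherent_of_isUniversal (j ≫ f) dX hX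
  obtain ⟨bas⟩ := (FinLocFree.isFreeAlong_ι_iff_basis hU' ΩX).mp (hfree.of_le hU'T)
  obtain ⟨εX, -⟩ := OmegaLocC.exists_sectionsEquiv (j ≫ f) dX hX hU' hW hU'W
  haveI : Module.Free Γ(X, j ⁻¹ᵁ U) Ω[Γ(X, j ⁻¹ᵁ U)⁄Γ(Spec (CommRingCat.of k), ⊤)] :=
    Module.Free.of_basis (bas.map εX)
  haveI : Algebra.FormallySmooth Γ(Spec (CommRingCat.of k), ⊤) Γ(X, j ⁻¹ᵁ U) :=
    ⟨inferInstance, hH1⟩
  haveI : LocallyOfFiniteType (j ≫ f) := inferInstance
  haveI : LocallyOfFinitePresentation (j ≫ f) := inferInstance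
  have hfp : ((j ≫ f).appLE ⊤ (j ⁻¹ᵁ U) hU'W).hom.FinitePresentation :=
    (j ≫ f).finitePresentation_appLE hW hU' hU'W
  haveI : Algebra.FinitePresentation Γ(Spec (CommRingCat.of k), ⊤) Γ(X, j ⁻¹ᵁ U) := hfp
  haveI : Algebra.Smooth Γ(Spec (CommRingCat.of k), ⊤) Γ(X, j ⁻¹ᵁ U) := ⟨inferInstance, inferInstance⟩
  rw [Scheme.Hom.mem_smoothLocus, formallySmooth_stalkMap_iff ⊤ hW (j ⁻¹ᵁ U) hU' hU'W hxU,
    Algebra.smoothLocus_eq_univ]
  trivial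

end Field

open Groth.Agent.Helper2.SmoothDense in
/-- S12423: Hartshorne II.8.17. -/
theorem s12423 (k : Type u) [Field k] [IsAlgClosed k] (n q : ℕ) (X : Scheme.{u})
    (f : X ⟶ Spec (CommRingCat.of k)) [IsIntegral X] [LocallyOfFiniteType f]
    (hreg : ∀ x : ↥X, IsRegularLocalRing ↑(X.presheaf.stalk x))
    (hn : topologicalKrullDim ↥X = (n : WithBot ℕ∞)) (Y : Scheme.{u}) (i : Y ⟶ X)
    [IsClosedImmersion i] [IrreducibleSpace ↥Y] (hq : topologicalKrullDim ↥Y = (q : WithBot ℕ∞))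
    (ΩX : X.Modules) (dX : OmegaSh.Der f ΩX) (hX : OmegaSh.IsUniversal dX)
    (ΩY : Y.Modules) (dY : OmegaSh.Der (i ≫ f) ΩY) (hY : OmegaSh.IsUniversal dY)
    (φ : Omega.conormal i ⟶ (Scheme.Modules.pullback i).obj ΩX)
    (hφ : OmegaSh.IsConormalDiff i dX φ) :
    ((∀ y : ↥Y, IsRegularLocalRing ↑(Y.presheaf.stalk y)) ↔
      (FlatMod.IsFinLocFree ΩY ∧ Mono φ)) ∧
    ((∀ y : ↥Y, IsRegularLocalRing ↑(Y.presheaf.stalk y)) →
      FlatMod.IsFinLocFreeOfRank (n - q) (Omega.conormal i)) := by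
  haveI : PerfectField k := inferInstance
  haveI : LocallyOfFinitePresentation f := inferInstance
  haveI : LocallyOfFiniteType (i ≫ f) := inferInstance
  haveI : LocallyOfFinitePresentation (i ≫ f) := inferInstance
  haveI : Smooth f := by
    rw [← Scheme.Hom.smoothLocus_eq_top_iff]
    exact top_unique (fun x _ => (mem_smoothLocus_iff_regular k X f x).mpr (hreg x))
  have hsmY : (∀ y : ↥Y, IsRegularLocalRing ↑(Y.presheaf.stalk y)) → Smooth (i ≫ f) := by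
    intro h
    rw [← Scheme.Hom.smoothLocus_eq_top_iff]
    exact top_unique (fun y _ => (mem_smoothLocus_iff_regular k Y (i ≫ f) y).mpr (h y))
  refine ⟨⟨fun h => ?_, fun ⟨hfree, hmono⟩ y => ?_⟩, fun h y => ?_⟩
  · haveI := hsmY h
    refine ⟨fun y => ?_, mono_of_smooth f i dX hX φ hφ⟩
    have hy : y ∈ (i ≫ f).smoothLocus := by
      rw [Scheme.Hom.smoothLocus_eq_top]; trivial
    obtain ⟨-, U, m, hyU, e, -⟩ := SmOmegaB.fwd (i ≫ f) ΩY dY hY y hy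
    exact ⟨U, m, hyU, e⟩
  · obtain ⟨T, m, hyT, hT⟩ := hfree y
    haveI := hmono
    have hy := mem_smoothLocus_of_mono k f i dX hX dY hY φ hφ y T m hyT hT
    exact (mem_smoothLocus_iff_regular k Y (i ≫ f) y).mp hy
  · haveI := hsmY h
    obtain ⟨U, m, hyU, e, hdim⟩ := SmSubB.main f i y
    rw [SmOmegaC.fibreDimAt_eq_of_field k X f (i y),
      SmOmegaC.fibreDimAt_eq_of_field k Y (i ≫ f) y, hn, hq] at hdim
    have hm' : n = q + m := by exact_mod_cast hdim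
    have hm : m = n - q := by omega
    subst hm
    exact ⟨U, hyU, e⟩

end Groth.Agent.Lead.SmSubC
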