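import Mathlib
import Groth.Agent.Lead.NatLerayC
import Groth.Agent.Lead.BlH1B

/-!
# Top degree base change, part C: right exactness of the top cohomology and generation
-/

set_option autoImplicit false
set_option linter.unusedSectionVars false
set_option linter.style.haveILetI false

open CategoryTheory Limits AlgebraicGeometry TopologicalSpace Opposite

universe u

namespace Groth.Agent.Lead.TopBC

open Groth.Agent.Lead.NatLeray Groth.Agent.Helper1.SerreCrit

theorem HHmap_comp {X : Scheme.{u}} {M N K : X.Modules} (a : M ⟶ N) (b : N ⟶ K) (n : ℕ)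
    (x : Coh.HH X M n) : HHmap (a ≫ b) n x = HHmap b n (HHmap a n x) := by
  change Sheaf.H.map ((SheafOfModules.toSheaf X.ringCatSheaf).map (a ≫ b)) n x = _
  rw [Functor.map_comp, Sheaf.H.map_comp_apply]

theorem HHmap_id {X : Scheme.{u}} (M : X.Modules) (n : ℕ) (x : Coh.HH X M n) :
    HHmap (𝟙 M) n x = x := by
  have h : (SheafOfModules.toSheaf X.ringCatSheaf).map (𝟙 M) = 𝟙 (Coh.toAb M) :=
    (SheafOfModules.toSheaf X.ringCatSheaf).map_id M
  exact (congrArg (fun φ => Sheaf.H.map φ n x) h).trans (Sheaf.H.map_id_apply x)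

/-- in a short exact sequence, `H^n(g)` is surjective when `H^{n+1}` of the kernel vanishes -/
theorem HHmap_surjective {X : Scheme.{u}} (S : ShortComplex X.Modules) (hS : S.ShortExact)
    (n : ℕ) (h1 : Subsingleton (Coh.HH X S.X₁ (n + 1))) :
    Function.Surjective (HHmap S.g n) := by
  have hS' : (S.map (toAbF X)).ShortExact := hS.map_of_exact (toAbF X)
  intro x
  obtain ⟨x₂, hx₂⟩ := Abelian.Ext.covariant_sequence_exact₃ _ hS'
    (show Abelian.Ext _ (S.map (toAbF X)).X₃ n from x) rfl (@Subsingleton.elim _ h1 _ _)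
  exact ⟨x₂, hx₂⟩

/-- for an epimorphism with `H^{n+1}` of the kernel zero, `H^n` is surjective -/
theorem HHmap_surjective_of_epi {X : Scheme.{u}} {P Q : X.Modules} (φ : P ⟶ Q) [Epi φ]
    (n : ℕ) (h1 : Subsingleton (Coh.HH X (kernel φ) (n + 1))) :
    Function.Surjective (HHmap φ n) := by
  let S : ShortComplex X.Modules := ShortComplex.mk (kernel.ι φ) φ (kernel.condition _)
  have hS : S.ShortExact :=
    { exact := ShortComplex.exact_kernel _
      mono_f := inferInstanceAs (Mono (kernel.ι φ))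
      epi_g := inferInstanceAs (Epi φ) }
  exact HHmap_surjective S hS n h1

/-- **generation**: if `φ : ∐ E ⟶ Q` is an epimorphism with `H^{n+1}(ker φ) = 0`, then `H^n(Q)` is
generated by the images of the `H^n(E j)` -/
theorem mem_closure_of_epi_sigma {X : Scheme.{u}} [CompactSpace X] [QuasiSeparatedSpace X]
    {J : Type u} (E : J → X.Modules) {Q : X.Modules} (φ : (∐ E) ⟶ Q) [Epi φ] (n : ℕ)
    (h1 : Subsingleton (Coh.HH X (kernel φ) (n + 1))) (z : Coh.HH X Q n) :
    z ∈ AddSubgroup.closure {z : Coh.HH X Q n | ∃ (j : J) (x : Coh.HH X (E j) n),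
      z = HHmap (Sigma.ι E j ≫ φ) n x} := by
  obtain ⟨y, rfl⟩ := HHmap_surjective_of_epi φ n h1 z
  have hy : y ∈ AddSubgroup.closure {x : Coh.HH X (∐ E) n | ∃ (j : J) (y : Coh.HH X (E j) n),
      x = Sheaf.H.map ((SheafOfModules.toSheaf X.ringCatSheaf).map (Sigma.ι E j)) n y} := by
    rw [Groth.Agent.Helper1.DualSh.closure_eq_top n E]
    trivial
  have hmap := AddSubgroup.mem_map_of_mem (HHmap φ n) hy
  rw [AddMonoidHom.map_closure] at hmap
  refine AddSubgroup.closure_mono ?_ hmap
  rintro _ ⟨_, ⟨j, x, rfl⟩, rfl⟩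
  exact ⟨j, x, (HHmap_comp _ _ n x).symm⟩

end Groth.Agent.Lead.TopBC
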