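import Mathlib
import Groth.Agent.Lead.TopBCC
import Groth.Agent.Helper1.BD6
import Groth.Prelude.Def_KLin

/-!
# Top degree base change, part D: transfer of finite generation of the top cohomology
-/

set_option autoImplicit false
set_option linter.unusedSectionVars false
set_option linter.style.haveILetI false

open CategoryTheory Limits AlgebraicGeometry TopologicalSpace Opposite

universe u

namespace Groth.Agent.Lead.TopBC

open Groth.Agent.Lead.NatLeray

/-- the scalar action on cohomology is induced by multiplication on the module -/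
theorem smul_eq_HHmap {A : Type u} [CommRing A] {X : Scheme.{u}} [X.Over (Spec (CommRingCat.of A))]
    (F : X.Modules) (n : ℕ) (a : A) (x : Coh.HH X F n) :
    a • x = HHmap (Formal.smulMod A F a) n x := rfl

/-- compatibility of the structure maps to global functions -/
theorem appTop_toGlobal {A₀ A : Type u} [CommRing A₀] [CommRing A] (ρ : A₀ →+* A)
    {X X' : Scheme.{u}} (p₀ : X ⟶ Spec (CommRingCat.of A₀)) (p : X' ⟶ Spec (CommRingCat.of A))
    (g' : X' ⟶ X) (hcomm : g' ≫ p₀ = p ≫ Spec.map (CommRingCat.ofHom ρ)) (c : A₀) :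
    g'.appTop.hom (Coh.toGlobal p₀ c) = Coh.toGlobal p (ρ c) := by
  have h1 : p₀.appTop ≫ g'.appTop = (Spec.map (CommRingCat.ofHom ρ)).appTop ≫ p.appTop := by
    rw [← Scheme.Hom.comp_appTop, ← Scheme.Hom.comp_appTop, hcomm]
  have h2 := Scheme.ΓSpecIso_inv_naturality (CommRingCat.ofHom ρ)
  have h3 : (Scheme.ΓSpecIso (CommRingCat.of A₀)).inv ≫ p₀.appTop ≫ g'.appTop =
      CommRingCat.ofHom ρ ≫ (Scheme.ΓSpecIso (CommRingCat.of A)).inv ≫ p.appTop := by
    rw [h1, ← Category.assoc, ← h2, Category.assoc]
  exact congrArg (fun φ => φ.hom c) h3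


/-- **transfer of finite generation of the top cohomology** along an affine morphism `g'`
covering a ring map `ρ : A₀ → A`, for a map `η : F ⟶ g'_* F'` whose `A`-translates generate -/
theorem finite_HH_of_epi {A₀ A : Type u} [CommRing A₀] [CommRing A] (ρ : A₀ →+* A)
    {X X' : Scheme.{u}} [X.Over (Spec (CommRingCat.of A₀))] [X'.Over (Spec (CommRingCat.of A))]
    (g' : X' ⟶ X) [IsAffineHom g']
    (hcomm : g' ≫ (X ↘ Spec (CommRingCat.of A₀)) =
      (X' ↘ Spec (CommRingCat.of A)) ≫ Spec.map (CommRingCat.ofHom ρ))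
    [CompactSpace X] [QuasiSeparatedSpace X]
    (F : X.Modules) (F' : X'.Modules) [F'.IsQuasicoherent]
    (η : F ⟶ (Scheme.Modules.pushforward g').obj F')
    (hepi : Epi (Sigma.desc (fun a : A =>
      η ≫ (Scheme.Modules.pushforward g').map (Formal.smulMod A F' a)) :
        (∐ fun _ : A => F) ⟶ (Scheme.Modules.pushforward g').obj F'))
    (d : ℕ)
    (hvan : Subsingleton (Coh.HH X (kernel (Sigma.desc (fun a : A =>
      η ≫ (Scheme.Modules.pushforward g').map (Formal.smulMod A F' a)) :
        (∐ fun _ : A => F) ⟶ (Scheme.Modules.pushforward g').obj F')) (d + 1)))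
    (hfin : Module.Finite A₀ (Coh.HH X F d)) :
    Module.Finite A (Coh.HH X' F' d) := by
  classical
  obtain ⟨e, he⟩ := exists_addEquiv_HH_push g' F' d
  have he' : ∀ (ψ : F' ⟶ F') (z : Coh.HH X ((Scheme.Modules.pushforward g').obj F') d),
      e.symm (HHmap ((Scheme.Modules.pushforward g').map ψ) d z) = HHmap ψ d (e.symm z) := by
    intro ψ z
    apply e.injective
    rw [he, e.apply_symm_apply, e.apply_symm_apply]
  obtain ⟨s, hs⟩ := hfin.fg_top
  let N : Submodule A (Coh.HH X' F' d) :=
    Submodule.span A ((fun x => e.symm (HHmap η d x)) '' (s : Set (Coh.HH X F d)))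
  -- step 1
  have step1 : ∀ x : Coh.HH X F d, e.symm (HHmap η d x) ∈ N := by
    intro x
    have hx : x ∈ Submodule.span A₀ (s : Set (Coh.HH X F d)) := by rw [hs]; trivial
    induction hx using Submodule.span_induction with
    | mem x hx => exact Submodule.subset_span ⟨x, hx, rfl⟩
    | zero => rw [map_zero, map_zero]; exact N.zero_mem
    | add x y _ _ hx hy => rw [map_add, map_add]; exact N.add_mem hx hy
    | smul c x _ hx =>
      have hmor : Formal.smulMod A₀ F c ≫ η =
          η ≫ (Scheme.Modules.pushforward g').map (Formal.smulMod A F' (ρ c)) := by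
        have h1 := KLin.comp_smulModΓ η (Coh.toGlobal (X ↘ Spec (CommRingCat.of A₀)) c)
        have h2 := Groth.Agent.Helper1.BD.pushforward_map_smulModΓ g' F'
          (Coh.toGlobal (X ↘ Spec (CommRingCat.of A₀)) c)
        have h3 := appTop_toGlobal ρ (X ↘ Spec (CommRingCat.of A₀))
          (X' ↘ Spec (CommRingCat.of A)) g' hcomm c
        change Formal.smulModΓ F _ ≫ η = η ≫ (Scheme.Modules.pushforward g').map
          (Formal.smulModΓ F' (Coh.toGlobal (X' ↘ Spec (CommRingCat.of A)) (ρ c)))
        rw [← h1, ← h2]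
        rw [h3]
      have : e.symm (HHmap η d (c • x)) = ρ c • e.symm (HHmap η d x) := by
        rw [smul_eq_HHmap, smul_eq_HHmap, ← HHmap_comp, hmor, HHmap_comp, he']
      rw [this]
      exact N.smul_mem _ hx
  -- step 2
  have step2 : ∀ z : Coh.HH X ((Scheme.Modules.pushforward g').obj F') d, e.symm z ∈ N := by
    intro z
    have hz := mem_closure_of_epi_sigma (fun _ : A => F) _ d hvan z
    have hle : AddSubgroup.closure {z : Coh.HH X ((Scheme.Modules.pushforward g').obj F') d |
        ∃ (j : A) (x : Coh.HH X F d), z = HHmap (Sigma.ι (fun _ : A => F) j ≫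
          Sigma.desc (fun a : A =>
            η ≫ (Scheme.Modules.pushforward g').map (Formal.smulMod A F' a))) d x} ≤
        (N.toAddSubgroup).comap (e.symm : _ →+ Coh.HH X' F' d) := by
      rw [AddSubgroup.closure_le]
      rintro _ ⟨a, x, rfl⟩
      show e.symm _ ∈ N
      rw [Sigma.ι_desc, HHmap_comp, he', ← smul_eq_HHmap]
      exact N.smul_mem a (step1 x)
    exact hle hz
  refine ⟨⟨s.image (fun x => e.symm (HHmap η d x)), ?_⟩⟩
  rw [Finset.coe_image, eq_top_iff]
  intro y _
  have := step2 (e y)
  rwa [e.symm_apply_apply] at this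

end Groth.Agent.Lead.TopBC
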