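import Mathlib
import Groth.Prelude.Def_ModelsG
import Groth.Agent.Lead.IdealMulA
import Groth.Agent.Lead.IdealModDict
import Groth.Agent.Lead.ThickBC
import Groth.Agent.Lead.TopBCD
import Groth.Agent.Lead.QuotSeq
import Groth.Agent.Lead.BlH1B

/-!
# The closed fibre of a flat scheme over a DVR

`O_X ≅ 𝔪 O_X` via a uniformizer, and the resulting criterion for surjectivity of
`H^0(X, O_X) → H^0(X_s, O_{X_s})`.
-/

set_option autoImplicit false
set_option linter.unusedSectionVars false
set_option linter.style.haveILetI false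

open CategoryTheory Limits AlgebraicGeometry TopologicalSpace Opposite

universe u w

namespace Groth.Agent.Lead.SpFib

open Groth.Agent.Lead.TopBC Groth.Agent.Lead.NatLeray Groth.Agent.Helper4
open Groth.Agent.Helper1.SerreCrit

/-- over a DVR, torsion-freeness is tested on a uniformizer -/
theorem noZeroSMulDivisors_iff {R : Type*} [CommRing R] [IsDomain R] [IsDiscreteValuationRing R]
    {H : Type*} [AddCommGroup H] [Module R H] (ϖ : R) (hϖ : Irreducible ϖ) :
    NoZeroSMulDivisors R H ↔ ∀ x : H, ϖ • x = 0 → x = 0 := by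
  constructor
  · intro h x hx
    exact (h.eq_zero_or_eq_zero_of_smul_eq_zero hx).resolve_left hϖ.ne_zero
  · intro h
    refine ⟨fun {c x} hcx => ?_⟩
    by_cases hc : c = 0
    · exact Or.inl hc
    · right
      obtain ⟨n, u, rfl⟩ := IsDiscreteValuationRing.eq_unit_mul_pow_irreducible hc hϖ
      have h1 : ϖ ^ n • x = 0 := by
        have h2 := congrArg (fun y => (↑u⁻¹ : R) • y) hcx
        simp only [smul_zero] at h2
        rwa [← mul_smul, ← mul_assoc, Units.inv_mul, one_mul] at h2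
      clear hcx hc
      induction n with
      | zero => simpa using h1
      | succ n ih =>
        apply ih
        apply h
        rw [← mul_smul, ← pow_succ']
        exact h1

section Ext

open Abelian

variable {C : Type*} [Category C] [Abelian C] [HasExt.{w} C] {S : ShortComplex C}
  (hS : S.ShortExact) (Y : C)

theorem ext_aux₁ (x₂ : Ext Y S.X₂ 0) :
    (x₂.comp (Ext.mk₀ S.g) (add_zero 0)).comp hS.extClass (rfl : 0 + 1 = 1) = 0 := by
  simp only [Ext.comp_assoc_of_second_deg_zero, ShortComplex.ShortExact.comp_extClass,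
    Ext.comp_zero]

theorem ext_aux₂ (x₃ : Ext Y S.X₃ 0) :
    (x₃.comp hS.extClass (rfl : 0 + 1 = 1)).comp (Ext.mk₀ S.f) (add_zero 1) = 0 := by
  simp only [Ext.comp_assoc_of_third_deg_zero, ShortComplex.ShortExact.extClass_comp,
    Ext.comp_zero]

end Ext

variable {R : Type u} [CommRing R] [IsDomain R] [IsDiscreteValuationRing R]
  {X : Scheme.{u}} [X.Over (Spec (CommRingCat.of R))]

/-- the image of a scalar in the sections over `U` -/
noncomputable def ρ (U : X.Opens) : R →+* Γ(X, U) :=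
  (Coh.resTop X (op U)).comp (Coh.toGlobal (X ↘ Spec (CommRingCat.of R)))

theorem smulMod_app (M : X.Modules) (a : R) (U : X.Opens) (m : Γ(M, U)) :
    (Formal.smulMod R M a).app U m = (ρ (R := R) U a) • m := rfl

theorem le_preimage_top (U : X.Opens) :
    U ≤ (X ↘ Spec (CommRingCat.of R)) ⁻¹ᵁ (⊤ : (Spec (CommRingCat.of R)).Opens) :=
  fun _ _ => trivial

theorem ρ_eq (U : X.Opens) :
    ρ (R := R) U = ((X ↘ Spec (CommRingCat.of R)).appLE ⊤ U (le_preimage_top U)).hom.comp
      (Scheme.ΓSpecIso (CommRingCat.of R)).inv.hom := rfl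

theorem ideal_specialFibre (ϖ : R) (hϖ : Irreducible ϖ) (U : X.affineOpens) :
    (Models.specialFibreIdeal R (Over.mk (X ↘ Spec (CommRingCat.of R)))).ideal U =
      Ideal.span {ρ (R := R) U.1 ϖ} := by
  have h := Groth.Agent.Lead.ThickBC.ideal_comap_appLE (X ↘ Spec (CommRingCat.of R))
    (Curv2.idealSheaf R (IsLocalRing.maximalIdeal R)) ⟨⊤, isAffineOpen_top _⟩ U
    (le_preimage_top U.1)
  change ((Curv2.idealSheaf R (IsLocalRing.maximalIdeal R)).comap
    (X ↘ Spec (CommRingCat.of R))).ideal U = _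
  rw [h]
  have h2 : (Curv2.idealSheaf R (IsLocalRing.maximalIdeal R)).ideal ⟨⊤, isAffineOpen_top _⟩ =
      (IsLocalRing.maximalIdeal R).map (Scheme.ΓSpecIso (CommRingCat.of R)).inv.hom :=
    Scheme.IdealSheafData.equivOfIsAffine.apply_symm_apply _
  rw [h2, Ideal.map_map, hϖ.maximalIdeal_eq, Ideal.map_span, Set.image_singleton]
  rfl

theorem mono_smulMod [Flat (X ↘ Spec (CommRingCat.of R))] (ϖ : R) (hϖ : ϖ ≠ 0) :
    Mono (Formal.smulMod R (Coh.structureModule X) ϖ) := by
  haveI := Groth.Agent.Lead.BlH1B.isQuasicoherent_unit X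
  apply QcohLocal.mono_of_app_injective_of_affine_cover
  intro x
  obtain ⟨W, hxW, -⟩ := Groth.Agent.Lead.QuotSeq.exists_affine_nhd (T := (⊤ : X.Opens))
    (x := x) trivial
  refine ⟨W.1, W.2, hxW, ?_⟩
  have hfl : ((X ↘ Spec (CommRingCat.of R)).appLE ⊤ W.1 (le_preimage_top W.1)).hom.Flat :=
    HasRingHomProperty.appLE (P := @Flat) (X ↘ Spec (CommRingCat.of R)) inferInstance
      ⟨⊤, isAffineOpen_top _⟩ W (le_preimage_top W.1)
  have hfl2 : (ρ (R := R) W.1).Flat := by
    rw [ρ_eq]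
    refine RingHom.Flat.comp (RingHom.Flat.of_bijective ?_) hfl
    exact (ConcreteCategory.bijective_of_isIso (Scheme.ΓSpecIso (CommRingCat.of R)).inv)
  letI : Algebra R Γ(X, W.1) := (ρ (R := R) W.1).toAlgebra
  haveI : Module.Flat R Γ(X, W.1) := hfl2
  have hreg0 : IsSMulRegular R ϖ := (isRegular_of_ne_zero hϖ).left.isSMulRegular
  have hreg : IsSMulRegular Γ(X, W.1) (algebraMap R Γ(X, W.1) ϖ) := IsSMulRegular.of_flat hreg0
  intro s t hst
  rw [smulMod_app, smulMod_app] at hst
  exact hreg hst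

theorem exists_iso_idealMod [Flat (X ↘ Spec (CommRingCat.of R))] (ϖ : R) (hϖ : Irreducible ϖ) :
    ∃ e : Coh.structureModule X ≅
        ClSub.idealMod (Models.specialFibreIdeal R (Over.mk (X ↘ Spec (CommRingCat.of R)))),
      e.hom ≫ ClSub.idealModι _ = Formal.smulMod R (Coh.structureModule X) ϖ := by
  haveI := Groth.Agent.Lead.BlH1B.isQuasicoherent_unit X
  haveI := mono_smulMod (X := X) ϖ hϖ.ne_zero
  apply Groth.Agent.Lead.IdealMul.exists_iso_of_cover
  intro x
  obtain ⟨W, hxW, -⟩ := Groth.Agent.Lead.QuotSeq.exists_affine_nhd (T := (⊤ : X.Opens))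
    (x := x) trivial
  refine ⟨W.1, W.2, hxW, ?_⟩
  refine Submodule.ext (fun (s : Γ(Coh.structureModule X, W.1)) => ?_)
  rw [Groth.Agent.Lead.IdealMul.mem_secR, Groth.Agent.Lead.IdealMul.mem_secR]
  have h1 := Groth.Agent.Lead.IdealModDict.exists_section_iff
    (Models.specialFibreIdeal R (Over.mk (X ↘ Spec (CommRingCat.of R)))) W s
  rw [ideal_specialFibre ϖ hϖ W, Ideal.mem_span_singleton'] at h1
  constructor
  · rintro ⟨t, rfl⟩
    apply h1.mpr
    refine ⟨t, ?_⟩
    rw [smulMod_app]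
    exact mul_comm _ _
  · intro hs
    obtain ⟨t, ht⟩ := h1.mp hs
    refine ⟨t, ?_⟩
    rw [smulMod_app]
    exact (mul_comm _ _).trans ht

theorem main_aux (I : X.IdealSheafData) (ϖ : R) (hϖ : Irreducible ϖ)
    (e : Coh.structureModule X ≅ ClSub.idealMod I)
    (he : e.hom ≫ ClSub.idealModι I = Formal.smulMod R (Coh.structureModule X) ϖ) :
    Function.Surjective (HHmap (ClSub.toSubscheme I) 0) ↔
      NoZeroSMulDivisors R (Coh.HH X (Coh.structureModule X) 1) := by
  let S : ShortComplex X.Modules :=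
    ShortComplex.mk (ClSub.idealModι I) (ClSub.toSubscheme I) (kernel.condition _)
  have hS : S.ShortExact :=
    { exact := ShortComplex.exact_kernel _
      mono_f := inferInstanceAs (Mono (kernel.ι _))
      epi_g := Groth.Agent.Lead.QuotSeq.epi_toSubscheme I }
  have hS' : (S.map (toAbF X)).ShortExact := hS.map_of_exact (toAbF X)
  rw [noZeroSMulDivisors_iff ϖ hϖ]
  have key : ∀ ξ : Coh.HH X (Coh.structureModule X) 1,
      ϖ • ξ = HHmap (ClSub.idealModι I) 1 (HHmap e.hom 1 ξ) := by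
    intro ξ
    rw [smul_eq_HHmap, ← he, HHmap_comp]
  have hinj : Function.Injective (HHmap e.hom 1) := by
    intro a b hab
    have := congrArg (HHmap e.inv 1) hab
    rwa [← HHmap_comp, ← HHmap_comp, e.hom_inv_id, HHmap_id, HHmap_id] at this
  constructor
  · intro hsurj ξ hξ
    rw [key] at hξ
    obtain ⟨x₃, hx₃⟩ := Abelian.Ext.covariant_sequence_exact₁ _ hS'
      (HHmap e.hom 1 ξ : Abelian.Ext _ (S.map (toAbF X)).X₁ 1) hξ (rfl : 0 + 1 = 1)
    obtain ⟨x₂, hx₂⟩ := hsurj x₃
    have h0 : HHmap e.hom 1 ξ = 0 := by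
      rw [← hx₃, ← hx₂]
      exact ext_aux₁ hS' _ x₂
    apply hinj
    rw [h0, map_zero]
  · intro htf x₃
    apply Abelian.Ext.covariant_sequence_exact₃ _ hS'
      (x₃ : Abelian.Ext _ (S.map (toAbF X)).X₃ 0) (rfl : 0 + 1 = 1)
    have h3 : HHmap e.inv 1 (Abelian.Ext.comp (x₃ : Abelian.Ext _ (S.map (toAbF X)).X₃ 0)
        hS'.extClass (rfl : 0 + 1 = 1)) = 0 := by
      apply htf
      rw [key, ← HHmap_comp e.inv e.hom, e.inv_hom_id, HHmap_id]
      exact ext_aux₂ hS' _ x₃
    have h4 := congrArg (HHmap e.hom 1) h3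
    rwa [← HHmap_comp, e.inv_hom_id, HHmap_id, map_zero] at h4

theorem main [Flat (X ↘ Spec (CommRingCat.of R))] :
    Function.Surjective (HHmap (ClSub.toSubscheme
      (Models.specialFibreIdeal R (Over.mk (X ↘ Spec (CommRingCat.of R))))) 0) ↔
      NoZeroSMulDivisors R (Coh.HH X (Coh.structureModule X) 1) := by
  obtain ⟨ϖ, hϖ⟩ := IsDiscreteValuationRing.exists_irreducible R
  obtain ⟨e, he⟩ := exists_iso_idealMod (X := X) ϖ hϖ
  exact main_aux _ ϖ hϖ e he

end Groth.Agent.Lead.SpFib
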