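import Mathlib

/-!
# SpreadAbs: formal comparison of a two-sided adjoint endofunctor with a reflective-like
localization `R ∘ L`
-/

set_option autoImplicit false
universe v₁ v₂ u₁ u₂
open CategoryTheory

namespace Groth.Agent.Lead.Spread

section Abstract

variable {C : Type u₁} [Category.{v₁} C] {C' : Type u₂} [Category.{v₂} C'] {L : C ⥤ C'}
  {R : C' ⥤ C} (adj : L ⊣ R) (P : C → Prop) (hα : ∀ Z, P Z → IsIso (adj.unit.app Z))

include hα in
/-- on a local object `R L M` the unit is `R L` of the unit of `M` -/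
theorem unit_RL (M : C) (hM : P (R.obj (L.obj M))) :
    adj.unit.app (R.obj (L.obj M)) = R.map (L.map (adj.unit.app M)) := by
  haveI := hα _ hM
  have h1 := adj.right_triangle_components (L.obj M)
  have h2 : R.map (L.map (adj.unit.app M)) ≫ R.map (adj.counit.app (L.obj M)) = 𝟙 _ := by
    rw [← R.map_comp]
    erw [adj.left_triangle_components]
    exact R.map_id _
  have h3 : R.map (adj.counit.app (L.obj M)) = inv (adj.unit.app (R.obj (L.obj M))) :=
    IsIso.eq_inv_of_hom_inv_id h1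
  rw [h3, IsIso.comp_inv_eq, Category.id_comp] at h2
  exact h2.symm

include hα in
/-- morphisms from `R L M` to a local object are determined by their restriction to `M` -/
theorem hom_ext_RL (M Z : C) (hM : P (R.obj (L.obj M))) (hZ : P Z)
    (k₁ k₂ : R.obj (L.obj M) ⟶ Z) (hk : adj.unit.app M ≫ k₁ = adj.unit.app M ≫ k₂) :
    k₁ = k₂ := by
  haveI := hα _ hZ
  have key : ∀ k : R.obj (L.obj M) ⟶ Z,
      k ≫ adj.unit.app Z = R.map (L.map (adj.unit.app M ≫ k)) := by
    intro k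
    have h1 := adj.unit.naturality k
    simp only [Functor.id_map, Functor.comp_map] at h1
    rw [h1, unit_RL adj P hα M hM, ← R.map_comp, ← L.map_comp]
  rw [← cancel_mono (adj.unit.app Z), key k₁, key k₂, hk]

include hα in
/-- the comparison `R L Θ N ⟶ Θ R L N` -/
theorem exists_cmp (Θ : C ⥤ C) (N : C) (h : P (Θ.obj (R.obj (L.obj N)))) :
    ∃ c : R.obj (L.obj (Θ.obj N)) ⟶ Θ.obj (R.obj (L.obj N)),
      adj.unit.app (Θ.obj N) ≫ c = Θ.map (adj.unit.app N) := by
  haveI := hα _ h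
  refine ⟨R.map (L.map (Θ.map (adj.unit.app N))) ≫ inv (adj.unit.app (Θ.obj (R.obj (L.obj N)))),
    ?_⟩
  have h1 : Θ.map (adj.unit.app N) ≫ adj.unit.app (Θ.obj (R.obj (L.obj N))) =
      adj.unit.app (Θ.obj N) ≫ R.map (L.map (Θ.map (adj.unit.app N))) :=
    adj.unit.naturality (Θ.map (adj.unit.app N))
  rw [← Category.assoc]
  erw [← h1]
  rw [Category.assoc, IsIso.hom_inv_id, Category.comp_id]

include hα in
/-- **the comparison has a section**: for a two-sided adjoint `T` -/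
theorem exists_cmp_section {T T'' : C ⥤ C} (adjT' : T ⊣ T'') (G : C)
    (h1 : P (R.obj (L.obj G))) (h2 : P (T.obj (R.obj (L.obj G))))
    (h3 : P (T''.obj (R.obj (L.obj (T.obj G)))))
    (h4 : P (T''.obj (T.obj (R.obj (L.obj G))))) :
    ∃ (c : R.obj (L.obj (T.obj G)) ⟶ T.obj (R.obj (L.obj G)))
      (c' : T.obj (R.obj (L.obj G)) ⟶ R.obj (L.obj (T.obj G))),
      adj.unit.app (T.obj G) ≫ c = T.map (adj.unit.app G) ∧ c' ≫ c = 𝟙 _ := by
  obtain ⟨c, hc⟩ := exists_cmp adj P hα T G h2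
  obtain ⟨c'', hc''⟩ := exists_cmp adj P hα T'' (T.obj G) h3
  obtain ⟨c', hc'⟩ : ∃ c' : T.obj (R.obj (L.obj G)) ⟶ R.obj (L.obj (T.obj G)),
      adjT'.homEquiv (R.obj (L.obj G)) (R.obj (L.obj (T.obj G))) c' =
        R.map (L.map (adjT'.unit.app G)) ≫ c'' :=
    ⟨(adjT'.homEquiv _ _).symm (R.map (L.map (adjT'.unit.app G)) ≫ c''),
      Equiv.apply_symm_apply _ _⟩
  have hA : T.map (adj.unit.app G) ≫ c' = adj.unit.app (T.obj G) := by
    apply (adjT'.homEquiv G (R.obj (L.obj (T.obj G)))).injective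
    have e1 : adjT'.homEquiv G (R.obj (L.obj (T.obj G))) (T.map (adj.unit.app G) ≫ c') =
        adj.unit.app G ≫ adjT'.homEquiv (R.obj (L.obj G)) (R.obj (L.obj (T.obj G))) c' :=
      adjT'.homEquiv_naturality_left (adj.unit.app G) c'
    have e2 : adjT'.homEquiv G (R.obj (L.obj (T.obj G))) (adj.unit.app (T.obj G)) =
        adjT'.unit.app G ≫ T''.map (adj.unit.app (T.obj G)) := adjT'.homEquiv_unit _ _ _
    have h5 : adjT'.unit.app G ≫ adj.unit.app (T''.obj (T.obj G)) =
        adj.unit.app G ≫ R.map (L.map (adjT'.unit.app G)) :=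
      adj.unit.naturality (adjT'.unit.app G)
    rw [e1, e2, hc', ← hc'', ← Category.assoc, ← Category.assoc]
    exact congrArg (· ≫ c'') h5.symm
  refine ⟨c, c', hc, ?_⟩
  apply (adjT'.homEquiv (R.obj (L.obj G)) (T.obj (R.obj (L.obj G)))).injective
  apply hom_ext_RL adj P hα G _ h1 h4
  have e3 : ∀ k : T.obj (R.obj (L.obj G)) ⟶ T.obj (R.obj (L.obj G)),
      adj.unit.app G ≫ adjT'.homEquiv (R.obj (L.obj G)) (T.obj (R.obj (L.obj G))) k =
      adjT'.homEquiv G (T.obj (R.obj (L.obj G))) (T.map (adj.unit.app G) ≫ k) :=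
    fun k => (adjT'.homEquiv_naturality_left (adj.unit.app G) k).symm
  rw [e3, e3, ← Category.assoc, hA, hc]
  erw [Category.comp_id]

end Abstract

end Groth.Agent.Lead.Spread
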