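import Mathlib
import Groth.Prelude
import Groth.Agent.Lead.BCMap11
import Groth.Agent.Helper1.PicSpread1
import Groth.Agent.Helper1.PicLoc1
import Groth.Agent.Helper1.TensorLin1
import Groth.Agent.Lead.QcohTensor
import Groth.Agent.Helper4.QcohLocal
import Groth.Agent.Helper4.QcohGlue
import Groth.Agent.Lead.LocLift
import Groth.Agent.Lead.StalkPull
import Groth.Agent.Lead.SpreadAbs
import Groth.Agent.Lead.FLFDual2
import Groth.Agent.Lead.PerfLib5

/-!
# SpreadA: spreading out morphisms along a flat localization of the base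
-/

set_option autoImplicit false
set_option linter.style.haveILetI false
universe u
open CategoryTheory CategoryTheory.Limits AlgebraicGeometry TopologicalSpace Opposite TensorProduct

namespace Groth.Agent.Lead.Spread

open Scheme.Modules Groth.Agent.Helper4 Groth.Agent.Lead.BCMap Groth.Agent.Helper1.PicLoc

section Basic

variable {X X' : Scheme.{u}}

/-- multiplication by a unit global function is an isomorphism -/
theorem isIso_smulModΓ_of_isUnit (M : X.Modules) (r : Coh.Γtop X) (hr : IsUnit r) :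
    IsIso (Formal.smulModΓ M r) := by
  obtain ⟨v, rfl⟩ := hr
  refine ⟨Formal.smulModΓ M ((v⁻¹ : (Coh.Γtop X)ˣ) : Coh.Γtop X), ?_, ?_⟩
  · rw [← KLin.smulModΓ_mul, Units.mul_inv, KLin.smulModΓ_one]
  · rw [← KLin.smulModΓ_mul, Units.inv_mul, KLin.smulModΓ_one]

/-- multiplication by a global function on a direct image -/
theorem smulModΓ_pushforward (g' : X' ⟶ X) (N : X'.Modules) (r : Coh.Γtop X) :
    Formal.smulModΓ ((Scheme.Modules.pushforward g').obj N) r =
      (Scheme.Modules.pushforward g').map (Formal.smulModΓ N (g'.appTop.hom r)) := by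
  refine Scheme.Modules.hom_ext _ _ fun U => ?_
  ext m
  rw [Scheme.Modules.pushforward_map_app]
  change (Formal.smulModΓ ((Scheme.Modules.pushforward g').obj N) r).app U m =
    (Formal.smulModΓ N (g'.appTop.hom r)).app (g' ⁻¹ᵁ U) m
  rw [KLin.smulModΓ_app_apply, KLin.smulModΓ_app_apply]
  have h2 : (g'.app U).hom (X.presheaf.map (homOfLE (le_top : U ≤ ⊤)).op r) =
      X'.presheaf.map (homOfLE (le_top : g' ⁻¹ᵁ U ≤ ⊤)).op (g'.appTop.hom r) := by
    have := congrArg (fun φ => φ.hom r) (g'.naturality (homOfLE (le_top : U ≤ ⊤)).op)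
    exact this
  rw [← h2]
  rfl

/-- a localization-like ring map is a localization at the elements becoming units -/
theorem isLocalization_of_hloc {B A : Type*} [CommRing B] [CommRing A] [Algebra B A]
    (hloc1 : ∀ a : A, ∃ b c : B, IsUnit (algebraMap B A c) ∧
      a * algebraMap B A c = algebraMap B A b)
    (hloc2 : ∀ b : B, algebraMap B A b = 0 → ∃ c : B, IsUnit (algebraMap B A c) ∧ c * b = 0) :
    IsLocalization ((IsUnit.submonoid A).comap (algebraMap B A)) A := by
  refine (isLocalization_iff _ _).mpr ⟨?_, ?_, ?_⟩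
  · rintro ⟨c, hc⟩
    exact hc
  · intro a
    obtain ⟨b, c, hc, h⟩ := hloc1 a
    exact ⟨(b, ⟨c, hc⟩), h⟩
  · intro x y hxy
    obtain ⟨c, hc, h⟩ := hloc2 (x - y) (by rw [map_sub, hxy, sub_self])
    refine ⟨⟨c, hc⟩, ?_⟩
    rw [mul_sub, sub_eq_zero] at h
    exact h

/-- a base change map along a localization, from a module on which the multiplicative set acts
invertibly, is bijective -/
theorem bijective_of_isBaseChange_of_isLocalization {B A M N : Type*} [CommRing B] [CommRing A]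
    [Algebra B A] (Sg : Submonoid B) [IsLocalization Sg A] [AddCommGroup M] [Module B M]
    [AddCommGroup N] [Module B N] [Module A N] [IsScalarTower B A N] (ρ : M →ₗ[B] N)
    (hb : IsBaseChange A ρ)
    (hM : ∀ s : Sg, Function.Bijective (fun m : M => (s : B) • m)) : Function.Bijective ρ := by
  haveI h1 : IsLocalizedModule Sg ρ := (isLocalizedModule_iff_isBaseChange Sg A ρ).mpr hb
  haveI h2 : IsLocalizedModule Sg (LinearMap.id : M →ₗ[B] M) :=
    { map_units := fun s => by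
        rw [Module.End.isUnit_iff]
        exact hM s
      surj := fun m => ⟨(m, 1), one_smul _ _⟩
      exists_of_eq := fun h => ⟨1, congr_arg _ h⟩ }
  have h3 : ∀ m, IsLocalizedModule.linearEquiv Sg (LinearMap.id : M →ₗ[B] M) ρ m = ρ m :=
    fun m => IsLocalizedModule.linearEquiv_apply Sg (LinearMap.id : M →ₗ[B] M) ρ m
  have h4 : (ρ : M → N) = IsLocalizedModule.linearEquiv Sg (LinearMap.id : M →ₗ[B] M) ρ := by
    funext m
    exact (h3 m).symm
  rw [h4]
  exact (IsLocalizedModule.linearEquiv Sg (LinearMap.id : M →ₗ[B] M) ρ).bijective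

end Basic

/-- `appLE ⊤ ⊤` is `appTop` -/
lemma appLE_top_top {W V : Scheme.{u}} (g : W ⟶ V) (e : (⊤ : W.Opens) ≤ g ⁻¹ᵁ ⊤) :
    g.appLE ⊤ ⊤ e = g.appTop := by
  have h : (homOfLE e) = 𝟙 (⊤ : W.Opens) := Subsingleton.elim _ _
  unfold Scheme.Hom.appLE
  rw [h]
  erw [op_id, W.presheaf.map_id, Category.comp_id]

section Loc

attribute [local instance] modRestr towerRestr

variable {X S X' S' : Scheme.{u}} (f : X ⟶ S) (g : S' ⟶ S) (g' : X' ⟶ X) (f' : X' ⟶ S')
  (h : IsPullback g' f' f g)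

/-- the functions on the base `S` which become invertible on `S'` act invertibly on `Z` -/
def InvOn (Z : X.Modules) : Prop :=
  ∀ c : Γ(S, ⊤), IsUnit (g.appTop.hom c) → IsIso (Formal.smulModΓ Z (f.appTop.hom c))

include h in
/-- direct images from `X'` are local -/
theorem invOn_pushforward (N : X'.Modules) :
    InvOn f g ((Scheme.Modules.pushforward g').obj N) := by
  intro c hc
  rw [smulModΓ_pushforward]
  have hu : IsUnit (g'.appTop.hom (f.appTop.hom c)) := by
    have h1 : g'.appTop.hom (f.appTop.hom c) = f'.appTop.hom (g.appTop.hom c) := by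
      have h2 : f.appTop ≫ g'.appTop = g.appTop ≫ f'.appTop := by
        rw [← Scheme.Hom.comp_appTop, ← Scheme.Hom.comp_appTop, h.w]
      exact congrArg (fun φ => φ.hom c) h2
    rw [h1]
    exact hc.map _
  haveI := isIso_smulModΓ_of_isUnit N _ hu
  infer_instance

/-- tensoring preserves locality -/
theorem invOn_tensor (D Z : X.Modules) (hZ : InvOn f g Z) :
    InvOn f g (((DCoh.tensorBi (X := X)).obj D).obj Z) := by
  intro c hc
  rw [← Groth.Agent.Helper1.TensorLin.tensor_map_smulModΓ]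
  haveI := hZ c hc
  infer_instance

include h in
/-- **(α)**: the unit `Z ⟶ g'_* g'^* Z` is an isomorphism for a local quasi-coherent `Z` -/
theorem isIso_unitN_of_invOn [IsAffine S] [IsAffine S']
    (hloc1 : ∀ a : Γ(S', ⊤), ∃ b c : Γ(S, ⊤), IsUnit (g.appTop.hom c) ∧
      a * g.appTop.hom c = g.appTop.hom b)
    (hloc2 : ∀ b : Γ(S, ⊤), g.appTop.hom b = 0 → ∃ c : Γ(S, ⊤), IsUnit (g.appTop.hom c) ∧
      c * b = 0)
    (Z : X.Modules) [Z.IsQuasicoherent] (hZ : InvOn f g Z) : IsIso (unitN g' Z) := by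
  haveI : ((Scheme.Modules.pullback g').obj Z).IsQuasicoherent :=
    Groth.Agent.Lead.StalkPull.isQuasicoherent_pullbackObj g' Z
  haveI : IsAffineHom g' := MorphismProperty.of_isPullback h.flip inferInstance
  haveI : ((Scheme.Modules.pushforward g').obj
      ((Scheme.Modules.pullback g').obj Z)).IsQuasicoherent :=
    QcohGlue.isQuasicoherent_pushforward g' _
  apply QcohLocal.isIso_of_app_bijective_of_affine_cover
  intro x
  obtain ⟨W, hW, hx⟩ := QcohLimits.exists_affine_nhd x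
  refine ⟨W, hW, hx, ?_⟩
  have e : (⊤ : S'.Opens) ≤ g ⁻¹ᵁ ⊤ := fun _ _ => trivial
  have hU : W ≤ f ⁻¹ᵁ ⊤ := fun _ _ => trivial
  have hU' : g' ⁻¹ᵁ W ≤ f' ⁻¹ᵁ ⊤ := fun _ _ => trivial
  letI alg : Algebra Γ(S, ⊤) Γ(S', ⊤) := (g.appLE ⊤ ⊤ e).hom.toAlgebra
  have halg : ∀ c : Γ(S, ⊤), algebraMap Γ(S, ⊤) Γ(S', ⊤) c = g.appTop.hom c := by
    intro c
    have := congrArg (fun φ => φ.hom c) (appLE_top_top g e)
    exact this
  have hb := cT_isBaseChange_of_affine f g g' f' h Z e (isAffineOpen_top S)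
    (isAffineOpen_top S') hW hU hU' le_rfl (by ext y; simp)
  haveI hL : IsLocalization ((IsUnit.submonoid Γ(S', ⊤)).comap (algebraMap Γ(S, ⊤) Γ(S', ⊤)))
      Γ(S', ⊤) := by
    apply isLocalization_of_hloc
    · intro a
      obtain ⟨b, c, hc, hbc⟩ := hloc1 a
      exact ⟨b, c, by rw [halg]; exact hc, by rw [halg, halg]; exact hbc⟩
    · intro b hb0
      rw [halg] at hb0
      obtain ⟨c, hc, hcb⟩ := hloc2 b hb0
      exact ⟨c, by rw [halg]; exact hc, hcb⟩
  have hbij := bijective_of_isBaseChange_of_isLocalization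
    ((IsUnit.submonoid Γ(S', ⊤)).comap (algebraMap Γ(S, ⊤) Γ(S', ⊤))) _ hb (by
      rintro ⟨c, hc⟩
      have hc' : IsUnit (g.appTop.hom c) := by
        rw [← halg]
        exact hc
      haveI := hZ c hc'
      have h1 : Function.Bijective ((Formal.smulModΓ Z (f.appTop.hom c)).app W) :=
        ConcreteCategory.bijective_of_isIso ((Formal.smulModΓ Z (f.appTop.hom c)).app W)
      exact h1)
  have heq : ∀ m : Γ(Z, W), (unitN g' Z).app W m = cT f g g' f' h Z e hU hU' le_rfl m := by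
    intro m
    rw [unitN_app]
    rfl
  constructor
  · intro a b hab
    apply hbij.1
    rw [← heq, ← heq]
    exact hab
  · intro y
    obtain ⟨m, hm⟩ := hbij.2 y
    exact ⟨m, (heq m).trans hm⟩

omit h in
lemma res_top_self (Z : Scheme.{u}) (e : (⊤ : Z.Opens) ≤ ⊤) (x : Γ(Z, ⊤)) :
    Z.presheaf.map (homOfLE e).op x = x := by
  have h0 : homOfLE e = 𝟙 (⊤ : Z.Opens) := Subsingleton.elim _ _
  rw [h0, op_id, Z.presheaf.map_id]
  rfl

include h in
/-- **lifting global sections up to a unit from the base** -/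
theorem exists_lift_section [Flat g] [IsAffine S] [IsAffine S'] [QuasiCompact f]
    [QuasiSeparated f]
    (hloc1 : ∀ a : Γ(S', ⊤), ∃ b c : Γ(S, ⊤), IsUnit (g.appTop.hom c) ∧
      a * g.appTop.hom c = g.appTop.hom b)
    (M : X.Modules) [M.IsQuasicoherent]
    (z : Γ((Scheme.Modules.pushforward g').obj ((Scheme.Modules.pullback g').obj M), ⊤)) :
    ∃ (c₀ : Γ(S, ⊤)) (m : Γ(M, ⊤)), IsUnit (g.appTop.hom c₀) ∧
      (unitN g' M).app ⊤ m =
        (Formal.smulModΓ ((Scheme.Modules.pushforward g').obj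
          ((Scheme.Modules.pullback g').obj M)) (f.appTop.hom c₀)).app ⊤ z := by
  have e : (⊤ : S'.Opens) ≤ g ⁻¹ᵁ ⊤ := fun _ _ => trivial
  have hU : (⊤ : X.Opens) ≤ f ⁻¹ᵁ ⊤ := fun _ _ => trivial
  have hU' : (⊤ : X'.Opens) ≤ f' ⁻¹ᵁ ⊤ := fun _ _ => trivial
  have eU : (⊤ : X'.Opens) ≤ g' ⁻¹ᵁ ⊤ := fun _ _ => trivial
  haveI : CompactSpace X := QuasiCompact.compactSpace_of_compactSpace f
  haveI : QuasiSeparatedSpace X := quasiSeparatedSpace_of_quasiSeparated f
  letI alg : Algebra Γ(S, ⊤) Γ(S', ⊤) := (g.appLE ⊤ ⊤ e).hom.toAlgebra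
  have halg : ∀ c : Γ(S, ⊤), algebraMap Γ(S, ⊤) Γ(S', ⊤) c = g.appTop.hom c := by
    intro c
    have := congrArg (fun φ => φ.hom c) (appLE_top_top g e)
    exact this
  have hb := cT_isBaseChange_of_qcqs f g g' f' h M e (isAffineOpen_top S) (isAffineOpen_top S')
    (U := ⊤) isCompact_univ (isQuasiSeparated_univ) hU (U' := ⊤) hU' eU (by ext x; simp)
  obtain ⟨c, m, hu, hm⟩ := Groth.Agent.Helper1.PicSpread.exists_smul_eq_of_isBaseChange _ hb
    (fun a => by
      obtain ⟨b, c, hc, hbc⟩ := hloc1 a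
      exact ⟨b, c, by rw [halg]; exact hc, by rw [halg, halg]; exact hbc⟩) z
  refine ⟨c, m, by rw [← halg]; exact hu, ?_⟩
  rw [unitN_app, KLin.smulModΓ_app_apply]
  have hm' : pbSec g' M ⊤ ⊤ eU m =
      (X'.presheaf.map (homOfLE hU').op ((f'.app ⊤).hom (algebraMap Γ(S, ⊤) Γ(S', ⊤) c))) •
        (show Γ((Scheme.Modules.pullback g').obj M, ⊤) from z) := hm.symm
  have hr : (g'.app ⊤).hom (X.presheaf.map (homOfLE (le_top : (⊤ : X.Opens) ≤ ⊤)).op
      (f.appTop.hom c)) =
      X'.presheaf.map (homOfLE hU').op ((f'.app ⊤).hom (algebraMap Γ(S, ⊤) Γ(S', ⊤) c)) := by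
    have h2 : f.appTop ≫ g'.appTop = g.appTop ≫ f'.appTop := by
      rw [← Scheme.Hom.comp_appTop, ← Scheme.Hom.comp_appTop, h.w]
    have hA : X.presheaf.map (homOfLE (le_top : (⊤ : X.Opens) ≤ ⊤)).op (f.appTop.hom c) =
        f.appTop.hom c := res_top_self X _ _
    have hB : X'.presheaf.map (homOfLE hU').op
        ((f'.app ⊤).hom (algebraMap Γ(S, ⊤) Γ(S', ⊤) c)) =
        (f'.app ⊤).hom (algebraMap Γ(S, ⊤) Γ(S', ⊤) c) := res_top_self X' hU' _
    rw [hA, hB, halg]
    exact congrArg (fun φ => φ.hom c) h2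
  exact hm'.trans (congrArg (fun r => r • (show Γ((Scheme.Modules.pullback g').obj M, ⊤) from z))
    hr.symm)

include h in
/-- **spreading out a morphism**, abstract form: `T` is a right adjoint of `F ⊗ -` which is also
a left adjoint, both compatible with quasi-coherence and multiplication by global functions -/
theorem exists_spread_aux [Flat g] [IsAffine S] [IsAffine S'] [QuasiCompact f]
    [QuasiSeparated f]
    (hloc1 : ∀ a : Γ(S', ⊤), ∃ b c : Γ(S, ⊤), IsUnit (g.appTop.hom c) ∧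
      a * g.appTop.hom c = g.appTop.hom b)
    (hloc2 : ∀ b : Γ(S, ⊤), g.appTop.hom b = 0 → ∃ c : Γ(S, ⊤), IsUnit (g.appTop.hom c) ∧
      c * b = 0)
    (F G : X.Modules) (T T'' : X.Modules ⥤ X.Modules)
    (adjT : (DCoh.tensorBi (X := X)).obj F ⊣ T) (adjT' : T ⊣ T'')
    (hTq : ∀ Z : X.Modules, Z.IsQuasicoherent → (T.obj Z).IsQuasicoherent)
    (hTq'' : ∀ Z : X.Modules, Z.IsQuasicoherent → (T''.obj Z).IsQuasicoherent)
    (hTs : ∀ (Z : X.Modules) (r : Coh.Γtop X),
      T.map (Formal.smulModΓ Z r) = Formal.smulModΓ (T.obj Z) r)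
    (hTs'' : ∀ (Z : X.Modules) (r : Coh.Γtop X),
      T''.map (Formal.smulModΓ Z r) = Formal.smulModΓ (T''.obj Z) r)
    [G.IsQuasicoherent]
    (u₁ : (Scheme.Modules.pullback g').obj F ⟶ (Scheme.Modules.pullback g').obj G) :
    ∃ (w : F ⟶ G) (σ : (Scheme.Modules.pullback g').obj G ⟶ (Scheme.Modules.pullback g').obj G),
      IsIso σ ∧ (Scheme.Modules.pullback g').map w = u₁ ≫ σ := by
  haveI : IsAffineHom g' := MorphismProperty.of_isPullback h.flip inferInstance
  obtain ⟨adj, hadj⟩ : ∃ adj : Scheme.Modules.pullback g' ⊣ Scheme.Modules.pushforward g',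
      adj = Scheme.Modules.pullbackPushforwardAdjunction g' := ⟨_, rfl⟩
  let P : X.Modules → Prop := fun Z => Z.IsQuasicoherent ∧ InvOn f g Z
  have hα : ∀ Z, P Z → IsIso (adj.unit.app Z) := by
    intro Z hZ
    haveI := hZ.1
    rw [hadj]
    exact isIso_unitN_of_invOn f g g' f' h hloc1 hloc2 Z hZ.2
  have hRL : ∀ M : X.Modules, M.IsQuasicoherent →
      P ((Scheme.Modules.pushforward g').obj ((Scheme.Modules.pullback g').obj M)) := by
    intro M hM
    haveI := hM
    haveI : ((Scheme.Modules.pullback g').obj M).IsQuasicoherent :=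
      Groth.Agent.Lead.StalkPull.isQuasicoherent_pullbackObj g' M
    exact ⟨QcohGlue.isQuasicoherent_pushforward g' _, invOn_pushforward f g g' f' h _⟩
  have hPT : ∀ Z, P Z → P (T.obj Z) := by
    intro Z hZ
    refine ⟨hTq Z hZ.1, fun c hc => ?_⟩
    rw [← hTs]
    haveI := hZ.2 c hc
    infer_instance
  have hPT'' : ∀ Z, P Z → P (T''.obj Z) := by
    intro Z hZ
    refine ⟨hTq'' Z hZ.1, fun c hc => ?_⟩
    rw [← hTs'']
    haveI := hZ.2 c hc
    infer_instance
  haveI hTGq : (T.obj G).IsQuasicoherent := hTq G inferInstance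
  obtain ⟨c, c', hc, hcc'⟩ := exists_cmp_section adj P hα adjT' G (hRL G inferInstance)
    (hPT _ (hRL G inferInstance)) (hPT'' _ (hRL (T.obj G) hTGq))
    (hPT'' _ (hPT _ (hRL G inferInstance)))
  -- the data
  obtain ⟨ρF, -⟩ : ∃ ρF : ((DCoh.tensorBi (X := X)).obj F).obj (Coh.structureModule X) ≅ F, True :=
    ⟨SecTwist.unitorR F, trivial⟩
  obtain ⟨v, hv⟩ : ∃ v : F ⟶ (Scheme.Modules.pushforward g').obj
      ((Scheme.Modules.pullback g').obj G),
      v = adj.homEquiv F ((Scheme.Modules.pullback g').obj G) u₁ := ⟨_, rfl⟩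
  obtain ⟨v', hv'⟩ : ∃ v' : Coh.structureModule X ⟶
      T.obj ((Scheme.Modules.pushforward g').obj ((Scheme.Modules.pullback g').obj G)),
      v' = adjT.homEquiv (Coh.structureModule X)
        ((Scheme.Modules.pushforward g').obj ((Scheme.Modules.pullback g').obj G))
        (ρF.hom ≫ v) := ⟨_, rfl⟩
  obtain ⟨c₀, m, hc₀, hm⟩ := exists_lift_section f g g' f' h hloc1 (T.obj G)
    (c'.app ⊤ (v'.app ⊤ (1 : Γ(X, ⊤))))
  obtain ⟨r, hr⟩ : ∃ r : Coh.Γtop X, r = f.appTop.hom c₀ := ⟨_, rfl⟩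
  have hm' : (adj.unit.app (T.obj G)).app ⊤ m =
      (Formal.smulModΓ ((Scheme.Modules.pushforward g').obj
        ((Scheme.Modules.pullback g').obj (T.obj G))) r).app ⊤
        (c'.app ⊤ (v'.app ⊤ (1 : Γ(X, ⊤)))) := by
    rw [hadj, hr]
    exact hm
  obtain ⟨φ, hφdef⟩ : ∃ φ : Coh.structureModule X ⟶ T.obj G,
      φ = Groth.Agent.Lead.LocLift.homOfTop (T.obj G) m := ⟨_, rfl⟩
  have hφ : φ ≫ T.map (adj.unit.app G) = v' ≫ Formal.smulModΓ _ r := by
    apply Groth.Agent.Lead.LocLift.hom_unit_ext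
    have e1 : (φ ≫ T.map (adj.unit.app G)).app ⊤ (1 : Γ(X, ⊤)) =
        c.app ⊤ ((adj.unit.app (T.obj G)).app ⊤ (φ.app ⊤ (1 : Γ(X, ⊤)))) := by
      rw [← hc]
      rfl
    have e2 : (v' ≫ Formal.smulModΓ _ r).app ⊤ (1 : Γ(X, ⊤)) =
        (Formal.smulModΓ _ r).app ⊤ (v'.app ⊤ (1 : Γ(X, ⊤))) := rfl
    have e3 : c.app ⊤ ((Formal.smulModΓ _ r).app ⊤ (c'.app ⊤ (v'.app ⊤ (1 : Γ(X, ⊤))))) =
        (Formal.smulModΓ _ r).app ⊤ (c.app ⊤ (c'.app ⊤ (v'.app ⊤ (1 : Γ(X, ⊤))))) := by
      have := congrArg (fun k => (Scheme.Modules.Hom.app k ⊤) (c'.app ⊤ (v'.app ⊤ (1 : Γ(X, ⊤)))))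
        (KLin.comp_smulModΓ c r)
      exact this.symm
    have e4 : c.app ⊤ (c'.app ⊤ (v'.app ⊤ (1 : Γ(X, ⊤)))) = v'.app ⊤ (1 : Γ(X, ⊤)) := by
      have := congrArg (fun k => (Scheme.Modules.Hom.app k ⊤) (v'.app ⊤ (1 : Γ(X, ⊤)))) hcc'
      exact this
    rw [e1, e2, hφdef, Groth.Agent.Lead.LocLift.homOfTop_app_one]
    erw [hm']
    rw [e3, e4]
  obtain ⟨w, hwdef⟩ : ∃ w : F ⟶ G,
      w = ρF.inv ≫ (adjT.homEquiv (Coh.structureModule X) G).symm φ := ⟨_, rfl⟩
  have hw : w ≫ adj.unit.app G = v ≫ Formal.smulModΓ _ r := by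
    have h4 : (adjT.homEquiv (Coh.structureModule X) ((Scheme.Modules.pushforward g').obj
        ((Scheme.Modules.pullback g').obj G))).symm (φ ≫ T.map (adj.unit.app G)) =
        (adjT.homEquiv (Coh.structureModule X) G).symm φ ≫ adj.unit.app G :=
      adjT.homEquiv_naturality_right_symm φ (adj.unit.app G)
    have h5 := adjT.homEquiv_naturality_right_symm v' (Formal.smulModΓ
      ((Scheme.Modules.pushforward g').obj ((Scheme.Modules.pullback g').obj G)) r)
    rw [hwdef, Category.assoc, ← h4, hφ, ← hTs, h5, hv', Equiv.symm_apply_apply,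
      ← Category.assoc, ← Category.assoc, Iso.inv_hom_id, Category.id_comp]
  -- the automorphism
  have hu : IsUnit (g'.appTop.hom r) := by
    have h1 : g'.appTop.hom (f.appTop.hom c₀) = f'.appTop.hom (g.appTop.hom c₀) := by
      have h2 : f.appTop ≫ g'.appTop = g.appTop ≫ f'.appTop := by
        rw [← Scheme.Hom.comp_appTop, ← Scheme.Hom.comp_appTop, h.w]
      exact congrArg (fun φ => φ.hom c₀) h2
    rw [hr, h1]
    exact hc₀.map _
  refine ⟨w, Formal.smulModΓ _ (g'.appTop.hom r), isIso_smulModΓ_of_isUnit _ _ hu, ?_⟩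
  apply (adj.homEquiv F ((Scheme.Modules.pullback g').obj G)).injective
  have e5 : adj.homEquiv F ((Scheme.Modules.pullback g').obj G)
      ((Scheme.Modules.pullback g').map w) = w ≫ adj.unit.app G := by
    rw [Adjunction.homEquiv_unit]
    exact (adj.unit.naturality w).symm
  have e6 : adj.homEquiv F ((Scheme.Modules.pullback g').obj G)
      (u₁ ≫ Formal.smulModΓ ((Scheme.Modules.pullback g').obj G) (g'.appTop.hom r)) =
      v ≫ (Scheme.Modules.pushforward g').map
        (Formal.smulModΓ ((Scheme.Modules.pullback g').obj G) (g'.appTop.hom r)) := by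
    rw [Adjunction.homEquiv_naturality_right, ← hv]
  rw [e5, e6, hw, smulModΓ_pushforward]

include h in
/-- **spreading out a morphism from a finite locally free module** along a flat localization of
the affine base: every `u₁ : g'^* F ⟶ g'^* G` is, up to an automorphism of `g'^* G`, the pullback
of a morphism `F ⟶ G` -/
theorem exists_spread [Flat g] [IsAffine S] [IsAffine S'] [QuasiCompact f] [QuasiSeparated f]
    (hloc1 : ∀ a : Γ(S', ⊤), ∃ b c : Γ(S, ⊤), IsUnit (g.appTop.hom c) ∧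
      a * g.appTop.hom c = g.appTop.hom b)
    (hloc2 : ∀ b : Γ(S, ⊤), g.appTop.hom b = 0 → ∃ c : Γ(S, ⊤), IsUnit (g.appTop.hom c) ∧
      c * b = 0)
    (F G : X.Modules) (hF : FlatMod.IsFinLocFree F) [G.IsQuasicoherent]
    (u₁ : (Scheme.Modules.pullback g').obj F ⟶ (Scheme.Modules.pullback g').obj G) :
    ∃ (w : F ⟶ G) (σ : (Scheme.Modules.pullback g').obj G ⟶ (Scheme.Modules.pullback g').obj G),
      IsIso σ ∧ (Scheme.Modules.pullback g').map w = u₁ ≫ σ := by
  have hD : FlatMod.IsFinLocFree (RefHull.dual F) :=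
    Groth.Agent.Lead.FLFDual.isFinLocFree_dual F hF
  haveI : F.IsQuasicoherent := (Groth.Agent.Lead.PerfLib.isCoh_of_isFinLocFree hF).1
  haveI : (RefHull.dual F).IsQuasicoherent :=
    (Groth.Agent.Lead.PerfLib.isCoh_of_isFinLocFree hD).1
  exact exists_spread_aux f g g' f' h hloc1 hloc2 F G
    ((DCoh.tensorBi (X := X)).obj (RefHull.dual F)) ((DCoh.tensorBi (X := X)).obj F)
    (Groth.Agent.Lead.FLFDual.adjDual' F hF) (Groth.Agent.Lead.FLFDual.adjDual F hF)
    (fun Z hZ => by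
      haveI := hZ
      exact Groth.Agent.Lead.QcohTensor.isQuasicoherent_tensorMod (RefHull.dual F) Z)
    (fun Z hZ => by
      haveI := hZ
      exact Groth.Agent.Lead.QcohTensor.isQuasicoherent_tensorMod F Z)
    (fun Z r => Groth.Agent.Helper1.TensorLin.tensor_map_smulModΓ (RefHull.dual F) Z r)
    (fun Z r => Groth.Agent.Helper1.TensorLin.tensor_map_smulModΓ F Z r) u₁

end Loc

end Groth.Agent.Lead.Spread
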