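import Mathlib
import Groth.Prelude
import Groth.Agent.Lead.SpreadA
import Groth.Agent.Lead.FibLiftD
import Groth.Agent.Lead.StalkNhd
import Groth.Agent.Helper1.PicSpread4
import Groth.Agent.Lead.LocLift6
import Groth.Agent.Lead.LocLift3

/-!
# SpreadB: isomorphic on a fibre with `H¹(End) = 0` ⟹ isomorphic over a neighbourhood (`S4477`)
-/

set_option autoImplicit false
set_option linter.style.haveILetI false
universe u
open CategoryTheory CategoryTheory.Limits AlgebraicGeometry TopologicalSpace Opposite TensorProduct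

namespace Groth.Agent.Lead.Spread

open Scheme.Modules Groth.Agent.Helper4 Groth.Agent.Helper4.StalkDict

section General

variable {X : Scheme.{u}}

/-- the sheaf Hom is invariant under isomorphisms in both variables -/
noncomputable def sheafHomCongr {M M' N N' : X.Modules} [DCoh.HasSheafHom M]
    [DCoh.HasSheafHom M'] (e : M ≅ M') (e' : N ≅ N') :
    (DCoh.sheafHom M).obj N ≅ (DCoh.sheafHom M').obj N' :=
  ((conjugateIsoEquiv (DCoh.sheafHomAdj M) (DCoh.sheafHomAdj M'))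
    ((DCoh.tensorBi (X := X)).mapIso e.symm)).app N ≪≫ (DCoh.sheafHom M').mapIso e'

/-- finite locally free modules have a sheaf Hom -/
theorem hasSheafHom_of_isFinLocFree {M : X.Modules} (hM : FlatMod.IsFinLocFree M) :
    DCoh.HasSheafHom M :=
  (Groth.Agent.Lead.FLFDual.adjDual' M hM).isLeftAdjoint

/-- an epimorphic endomorphism of a quasi-coherent module of finite type is an isomorphism -/
theorem isIso_of_epi_endo (M : X.Modules) [M.IsQuasicoherent]
    (hM : SheafOfModules.IsFiniteType (R := X.ringCatSheaf) M) (e : M ⟶ M) [Epi e] :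
    IsIso e := by
  apply QcohLocal.isIso_of_stalkLin_bijective
  intro x
  have hs := EpiStalk.stalkLin_surjective_of_epi e x
  haveI : Module.Finite (X.presheaf.stalk x) (M.presheaf.stalk x) :=
    FinLocFree2.finite_stalk M hM x
  exact ⟨OrzechProperty.injective_of_surjective_endomorphism (stalkLin e x) hs, hs⟩

/-- a pair of morphisms whose two composites have cokernels vanishing along an open `W` restricts
to an isomorphism over `W` -/
theorem isIso_restrict_of_cokernels {P Q : X.Modules} (hP : FlatMod.IsFinLocFree P)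
    (hQ : FlatMod.IsFinLocFree Q) (w : P ⟶ Q) (w' : Q ⟶ P) (W : X.Opens)
    (h₁ : ∀ x ∈ W, Subsingleton ((cokernel (w ≫ w')).presheaf.stalk x))
    (h₂ : ∀ x ∈ W, Subsingleton ((cokernel (w' ≫ w)).presheaf.stalk x)) :
    IsIso ((Scheme.Modules.restrictFunctor W.ι).map w) := by
  have key : ∀ {M : X.Modules} (_ : FlatMod.IsFinLocFree M) (e : M ⟶ M),
      (∀ x ∈ W, Subsingleton ((cokernel e).presheaf.stalk x)) →
      IsIso ((Scheme.Modules.restrictFunctor W.ι).map e) := by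
    intro M hM e he
    have hMW : FlatMod.IsFinLocFree (M.restrict W.ι) :=
      Groth.Agent.Lead.LocLift.isFinLocFree_restrict hM W.ι
    have hcoh := Groth.Agent.Lead.PerfLib.isCoh_of_isFinLocFree hMW
    haveI : (M.restrict W.ι).IsQuasicoherent := hcoh.1
    haveI : Epi ((Scheme.Modules.restrictFunctor W.ι).map e) := by
      have hz : IsZero ((Scheme.Modules.restrictFunctor W.ι).obj (cokernel e)) :=
        Groth.Agent.Lead.StalkNhd.isZero_restrict_of_subsingleton_stalks _ _ he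
      have e' := PreservesCokernel.iso (Scheme.Modules.restrictFunctor W.ι) e
      exact Preadditive.epi_of_isZero_cokernel _ (hz.of_iso e'.symm)
    exact isIso_of_epi_endo (M.restrict W.ι) hcoh.2 _
  haveI i1 := key hP (w ≫ w') h₁
  haveI i2 := key hQ (w' ≫ w) h₂
  rw [Functor.map_comp] at i1 i2
  set a := (Scheme.Modules.restrictFunctor W.ι).map w with ha
  set b := (Scheme.Modules.restrictFunctor W.ι).map w' with hb
  refine ⟨b ≫ inv (a ≫ b), ?_, ?_⟩
  · rw [← Category.assoc, IsIso.hom_inv_id]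
  · -- `b ≫ inv (a ≫ b) ≫ a = 𝟙`: use that `b ≫ a` is invertible
    have h3 : (b ≫ inv (a ≫ b) ≫ a) ≫ (b ≫ a) = b ≫ a := by
      simp only [Category.assoc]
      rw [← Category.assoc a b a, IsIso.inv_hom_id_assoc]
    have h4 := congrArg (· ≫ inv (b ≫ a)) h3
    simp only [Category.assoc, IsIso.hom_inv_id, Category.comp_id] at h4
    simpa [Category.assoc] using h4

/-- transport of an isomorphism through a double restriction -/
theorem nonempty_restrict_image_iso₂ (W : X.Opens) (W' : (W : Scheme.{u}).Opens)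
    (P Q : X.Modules) (θ : (P.restrict W.ι).restrict W'.ι ≅ (Q.restrict W.ι).restrict W'.ι) :
    Nonempty (P.restrict (W.ι ''ᵁ W').ι ≅ Q.restrict (W.ι ''ᵁ W').ι) := by
  let k : ((W.ι ''ᵁ W' : X.Opens) : Scheme.{u}) ⟶ (W' : Scheme.{u}) := (W.ι.isoImage W').inv
  have hk : k ≫ W'.ι ≫ W.ι = (W.ι ''ᵁ W').ι := Scheme.Hom.isoImage_inv_ι W.ι W'
  haveI : IsOpenImmersion (k ≫ W'.ι ≫ W.ι) := by rw [hk]; infer_instance
  let a : ∀ P : X.Modules, P.restrict (W.ι ''ᵁ W').ι ≅
      (Scheme.Modules.restrictFunctor k).obj ((P.restrict W.ι).restrict W'.ι) := fun P =>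
    (Scheme.Modules.restrictFunctorCongr hk.symm).app P ≪≫
      (Scheme.Modules.restrictFunctorComp k (W'.ι ≫ W.ι)).app P ≪≫
      (Scheme.Modules.restrictFunctor k).mapIso
        ((Scheme.Modules.restrictFunctorComp W'.ι W.ι).app P)
  exact ⟨a P ≪≫ (Scheme.Modules.restrictFunctor k).mapIso θ ≪≫ (a Q).symm⟩

end General

section Chart

open Groth.Agent.Helper1.BaseChart Groth.Agent.Helper1.StalkBC Groth.Agent.Helper1.FibDimVan
  Groth.Agent.Helper1.PicSpread

/-- the kernel part of the localization property of the germ map, on global sections of spectra -/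
theorem hloc2_germ {Y : Scheme.{u}} {V : Y.Opens} (hV : IsAffineOpen V) (y : Y) (hy : y ∈ V)
    (b : Γ(Spec Γ(Y, V), ⊤))
    (hb : (Spec.map (Y.presheaf.germ V y hy)).appTop.hom b = 0) :
    ∃ c : Γ(Spec Γ(Y, V), ⊤),
      IsUnit ((Spec.map (Y.presheaf.germ V y hy)).appTop.hom c) ∧ c * b = 0 := by
  letI := Y.presheaf.algebra_section_stalk ⟨y, hy⟩
  haveI := hV.isLocalization_stalk ⟨y, hy⟩
  set p := (hV.primeIdealOf ⟨y, hy⟩).asIdeal with hp
  have hnat : ∀ r : Γ(Y, V), (Spec.map (Y.presheaf.germ V y hy)).appTop.hom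
      ((Scheme.ΓSpecIso Γ(Y, V)).inv.hom r) =
      (Scheme.ΓSpecIso (Y.presheaf.stalk y)).inv.hom ((Y.presheaf.germ V y hy).hom r) := by
    intro r
    have := congrArg (fun φ => φ.hom r) (Scheme.ΓSpecIso_inv_naturality (Y.presheaf.germ V y hy))
    exact this.symm
  have hinvB : ∀ x, (Scheme.ΓSpecIso Γ(Y, V)).inv.hom
      ((Scheme.ΓSpecIso Γ(Y, V)).hom.hom x) = x := fun x => by
    have := congrArg (fun φ => φ.hom x) (Scheme.ΓSpecIso Γ(Y, V)).hom_inv_id
    exact this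
  have hinjA : Function.Injective (Scheme.ΓSpecIso (Y.presheaf.stalk y)).inv.hom :=
    (ConcreteCategory.bijective_of_isIso (Scheme.ΓSpecIso (Y.presheaf.stalk y)).inv).1
  have hb' : algebraMap Γ(Y, V) (Y.presheaf.stalk y)
      ((Scheme.ΓSpecIso Γ(Y, V)).hom.hom b) = 0 := by
    apply hinjA
    have h1 := hnat ((Scheme.ΓSpecIso Γ(Y, V)).hom.hom b)
    rw [hinvB, hb] at h1
    rw [map_zero]
    exact h1.symm
  obtain ⟨c', hc'⟩ := (IsLocalization.map_eq_zero_iff p.primeCompl (Y.presheaf.stalk y) _).mp hb'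
  refine ⟨(Scheme.ΓSpecIso Γ(Y, V)).inv.hom c'.1, ?_, ?_⟩
  · rw [hnat]
    exact (IsLocalization.map_units (Y.presheaf.stalk y) c').map
      (Scheme.ΓSpecIso (Y.presheaf.stalk y)).inv.hom
  · rw [← hinvB b, ← map_mul, hc', map_zero]

variable {X Y : Scheme.{u}} (f : X ⟶ Y) (V : Y.Opens) (y : Y) (hy : y ∈ V)
  {X₁ : Scheme.{u}} (q : X₁ ⟶ Spec (Y.presheaf.stalk y)) (g : X₁ ⟶ X)
  (hsq : IsPullback g q f (Y.fromSpecStalk y))

/-- a finite type module on the chart vanishing on `X₁` vanishes over a neighbourhood of `y` -/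
theorem exists_nhd_of_isZero_pullback [IsProper f] (C : (XV f V).Modules) [C.IsQuasicoherent]
    (hC : SheafOfModules.IsFiniteType (R := (XV f V).ringCatSheaf) C)
    (hz : IsZero ((Scheme.Modules.pullback (gLift₁ f V y hy q g hsq)).obj C)) :
    ∃ UV : (V : Scheme.{u}).Opens, (⟨y, hy⟩ : V) ∈ UV ∧
      ∀ x ∈ (f ∣_ V) ⁻¹ᵁ UV, Subsingleton (C.presheaf.stalk x) := by
  have hcl : IsClosedMap (f ∣_ V) :=
    MorphismProperty.universally_le (P := topologically @IsClosedMap) _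
      (IsProper.toUniversallyClosed (f := f ∣_ V)).universally_isClosedMap
  have hD : IsClosed (CohB1.support C) := Groth.Agent.S0020.result _ C hC
  have hT : IsClosed ((f ∣_ V) '' (CohB1.support C)) := hcl _ hD
  refine ⟨⟨((f ∣_ V) '' (CohB1.support C))ᶜ, hT.isOpen_compl⟩, ?_, ?_⟩
  · rintro ⟨x, hxD, hxy⟩
    apply hxD
    have hx : x ∈ Set.range (gLift₁ f V y hy q g hsq) := by
      rw [Groth.Agent.Helper1.PicLoc.range_of_isPullback (isPullback_top₁ f V y hy q g hsq)]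
      refine ⟨IsLocalRing.closedPoint _, ?_⟩
      rw [hxy]
      apply (Scheme.Opens.ι V).isOpenEmbedding.injective
      rw [← Scheme.Hom.comp_apply, Scheme.Opens.fromSpecStalkOfMem_ι]
      exact Scheme.fromSpecStalk_closedPoint
    obtain ⟨x₁, rfl⟩ := hx
    exact Groth.Agent.Lead.FibLift.subsingleton_stalk_of_isZero_pullback C hC _ hz x₁
  · intro x hx
    by_contra hns
    exact hx ⟨x, hns, rfl⟩

end Chart

section Main

open Groth.Agent.Helper1.BaseChart Groth.Agent.Helper1.StalkBC Groth.Agent.Helper1.FibDimVan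
  Groth.Agent.Helper1.PicSpread Groth.Agent.Lead.FibLift

variable {X Y : Scheme.{u}} (f : X ⟶ Y)

/-- **S4477** -/
theorem main [IsProper f] [Flat f] [IsLocallyNoetherian Y] (y : Y) (F G : X.Modules)
    (hF : FlatMod.IsFinLocFree F) (hG : FlatMod.IsFinLocFree G)
    [DCoh.HasSheafHom (CohIII.fiberMod f F y)]
    (h1 : Subsingleton (Coh.HH (f.fiber y)
      ((DCoh.sheafHom (CohIII.fiberMod f F y)).obj (CohIII.fiberMod f F y)) 1))
    (hy : Nonempty (CohIII.fiberMod f F y ≅ CohIII.fiberMod f G y)) :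
    ∃ U : Y.Opens, y ∈ U ∧ Nonempty (F.restrict (f ⁻¹ᵁ U).ι ≅ G.restrict (f ⁻¹ᵁ U).ι) := by
  obtain ⟨e_y⟩ := hy
  obtain ⟨_, ⟨V, hV : IsAffineOpen V, rfl⟩, hyV, -⟩ :=
    Y.isBasis_affineOpens.exists_subset_of_mem_open (Set.mem_univ y) isOpen_univ
  haveI : IsAffine (V : Scheme.{u}) := hV
  -- base change to the local ring
  let A : Type u := Y.presheaf.stalk y
  let X₁ : Scheme.{u} := pullback f (Y.fromSpecStalk y)
  let g : X₁ ⟶ X := pullback.fst f (Y.fromSpecStalk y)
  let q : X₁ ⟶ Spec (Y.presheaf.stalk y) := pullback.snd f (Y.fromSpecStalk y)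
  letI : X₁.Over (Spec (CommRingCat.of A)) := ⟨q⟩
  have hsq : IsPullback g (X₁ ↘ Spec (CommRingCat.of A)) f (Y.fromSpecStalk y) :=
    IsPullback.of_hasPullback _ _
  haveI : IsProper (X₁ ↘ Spec (CommRingCat.of A)) :=
    MorphismProperty.of_isPullback (P := @IsProper) hsq inferInstance
  haveI : Flat (X₁ ↘ Spec (CommRingCat.of A)) :=
    MorphismProperty.of_isPullback (P := @Flat) hsq inferInstance
  haveI : IsNoetherianRing A := inferInstanceAs (IsNoetherianRing (Y.presheaf.stalk y))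
  -- the modules on the chart and on `X₁`
  have hFV : FlatMod.IsFinLocFree (FV f V F) :=
    Groth.Agent.Lead.LocLift.isFinLocFree_restrict hF (f ⁻¹ᵁ V).ι
  have hGV : FlatMod.IsFinLocFree (FV f V G) :=
    Groth.Agent.Lead.LocLift.isFinLocFree_restrict hG (f ⁻¹ᵁ V).ι
  have hcF := Groth.Agent.Lead.PerfLib.isCoh_of_isFinLocFree hFV
  have hcG := Groth.Agent.Lead.PerfLib.isCoh_of_isFinLocFree hGV
  haveI : (FV f V F).IsQuasicoherent := hcF.1
  haveI : (FV f V G).IsQuasicoherent := hcG.1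
  set g₁ := gLift₁ f V y hyV q g hsq with hg₁
  obtain ⟨F₁, hF₁def⟩ : ∃ F₁ : X₁.Modules, F₁ = (Scheme.Modules.pullback g₁).obj (FV f V F) :=
    ⟨_, rfl⟩
  obtain ⟨G₁, hG₁def⟩ : ∃ G₁ : X₁.Modules, G₁ = (Scheme.Modules.pullback g₁).obj (FV f V G) :=
    ⟨_, rfl⟩
  have hF₁ : FlatMod.IsFinLocFree F₁ := by
    rw [hF₁def]
    exact Groth.Agent.Lead.LocLift.isFinLocFree_pullback g₁ hFV
  have hG₁ : FlatMod.IsFinLocFree G₁ := by
    rw [hG₁def]
    exact Groth.Agent.Lead.LocLift.isFinLocFree_pullback g₁ hGV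
  haveI : F₁.IsQuasicoherent := (Groth.Agent.Lead.PerfLib.isCoh_of_isFinLocFree hF₁).1
  haveI : G₁.IsQuasicoherent := (Groth.Agent.Lead.PerfLib.isCoh_of_isFinLocFree hG₁).1
  -- the closed fibre
  let j := jFib f y g hsq
  have hsq' := isPullback_jFib f y g hsq
  have haF : Nonempty ((Scheme.Modules.pullback j).obj F₁ ≅ CohIII.fiberMod f F y) := by
    rw [hF₁def]
    exact ⟨(Scheme.Modules.pullback j).mapIso (pullbackChartIso f V y hyV q g hsq F) ≪≫
      (Scheme.Modules.pullbackComp j g).app F ≪≫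
      (Scheme.Modules.pullbackCongr (jFib_fst f y g hsq)).app F⟩
  have haG : Nonempty ((Scheme.Modules.pullback j).obj G₁ ≅ CohIII.fiberMod f G y) := by
    rw [hG₁def]
    exact ⟨(Scheme.Modules.pullback j).mapIso (pullbackChartIso f V y hyV q g hsq G) ≪≫
      (Scheme.Modules.pullbackComp j g).app G ≪≫
      (Scheme.Modules.pullbackCongr (jFib_fst f y g hsq)).app G⟩
  obtain ⟨aF⟩ := haF
  obtain ⟨aG⟩ := haG
  obtain ⟨u₀, -⟩ : ∃ u₀ : (Scheme.Modules.pullback j).obj F₁ ≅ (Scheme.Modules.pullback j).obj G₁,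
      True := ⟨aF ≪≫ e_y ≪≫ aG.symm, trivial⟩
  haveI iF : DCoh.HasSheafHom ((Scheme.Modules.pullback j).obj F₁) :=
    hasSheafHom_of_isFinLocFree (Groth.Agent.Lead.LocLift.isFinLocFree_pullback j hF₁)
  haveI iG : DCoh.HasSheafHom ((Scheme.Modules.pullback j).obj G₁) :=
    hasSheafHom_of_isFinLocFree (Groth.Agent.Lead.LocLift.isFinLocFree_pullback j hG₁)
  have h1F : Subsingleton (Coh.HH (f.fiber y)
      ((DCoh.sheafHom ((Scheme.Modules.pullback j).obj F₁)).obj
        ((Scheme.Modules.pullback j).obj G₁)) 1) :=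
    Groth.Agent.Lead.StratB.subsingleton_HH_of_iso
      (sheafHomCongr aF (aG ≪≫ e_y.symm)).symm 1 h1
  have h1G : Subsingleton (Coh.HH (f.fiber y)
      ((DCoh.sheafHom ((Scheme.Modules.pullback j).obj G₁)).obj
        ((Scheme.Modules.pullback j).obj F₁)) 1) :=
    Groth.Agent.Lead.StratB.subsingleton_HH_of_iso
      (sheafHomCongr (aG ≪≫ e_y.symm) aF).symm 1 h1
  obtain ⟨u₁, hu₁⟩ := exists_lift A X₁ hsq' F₁ G₁ hF₁ hG₁ h1F u₀.hom
  obtain ⟨v₁, hv₁⟩ := exists_lift A X₁ hsq' G₁ F₁ hG₁ hF₁ h1G u₀.inv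
  haveI eu : Epi u₁ := epi_of_epi_pullback A X₁ hsq'
    (Groth.Agent.Lead.PerfLib.isCoh_of_isFinLocFree hG₁).2 u₁ (by rw [hu₁]; infer_instance)
  haveI ev : Epi v₁ := epi_of_epi_pullback A X₁ hsq'
    (Groth.Agent.Lead.PerfLib.isCoh_of_isFinLocFree hF₁).2 v₁ (by rw [hv₁]; infer_instance)
  -- spreading out
  haveI : IsIso (Scheme.Opens.toSpecΓ V) := by
    unfold Scheme.Opens.toSpecΓ
    infer_instance
  haveI : QuasiCompact (chartHomΓ f V) := by
    change QuasiCompact ((f ∣_ V) ≫ Scheme.Opens.toSpecΓ V)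
    infer_instance
  haveI : QuasiSeparated (chartHomΓ f V) := by
    change QuasiSeparated ((f ∣_ V) ≫ Scheme.Opens.toSpecΓ V)
    infer_instance
  haveI : Flat (Spec.map (Y.presheaf.germ V y hyV)) := by
    rw [HasRingHomProperty.Spec_iff (P := @Flat)]
    letI : Algebra Γ(Y, V) (Y.presheaf.stalk y) := (Y.presheaf.germ V y hyV).hom.toAlgebra
    haveI := hV.isLocalization_stalk ⟨y, hyV⟩
    exact RingHom.flat_algebraMap_iff.mpr
      (IsLocalization.flat _ (hV.primeIdealOf ⟨y, hyV⟩).asIdeal.primeCompl)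
  have hl1 : ∀ a : Γ(Spec (Y.presheaf.stalk y), ⊤), ∃ b c : Γ(Spec Γ(Y, V), ⊤),
      IsUnit ((Spec.map (Y.presheaf.germ V y hyV)).appTop.hom c) ∧
      a * (Spec.map (Y.presheaf.germ V y hyV)).appTop.hom c =
        (Spec.map (Y.presheaf.germ V y hyV)).appTop.hom b := by
    intro a
    have := hloc_germ hV y hyV a
    rw [Groth.Agent.Helper1.PicSpread.appLE_top_top] at this
    exact this
  have hchart := isPullback_chartΓ f V y hyV q g hsq
  rw [← hg₁] at hchart
  subst hF₁def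
  subst hG₁def
  obtain ⟨w, σ, hσ, hw⟩ := exists_spread (chartHomΓ f V) (Spec.map (Y.presheaf.germ V y hyV))
    g₁ q hchart hl1 (hloc2_germ hV y hyV) (FV f V F) (FV f V G) hFV u₁
  obtain ⟨w', σ', hσ', hw'⟩ := exists_spread (chartHomΓ f V)
    (Spec.map (Y.presheaf.germ V y hyV)) g₁ q hchart hl1 (hloc2_germ hV y hyV)
    (FV f V G) (FV f V F) hGV v₁
  -- the cokernels of the composites vanish near the fibre
  have hzero : ∀ {P : (XV f V).Modules} (e : P ⟶ P),
      Epi ((Scheme.Modules.pullback g₁).map e) →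
      IsZero ((Scheme.Modules.pullback g₁).obj (cokernel e)) := by
    intro P e he
    haveI := he
    haveI : PreservesColimitsOfSize.{0, 0} (Scheme.Modules.pullback g₁) :=
      (Scheme.Modules.pullbackPushforwardAdjunction g₁).leftAdjoint_preservesColimits
    exact IsZero.of_iso (isZero_cokernel_of_epi _)
      (PreservesCokernel.iso (Scheme.Modules.pullback g₁) e)
  have he1 : Epi ((Scheme.Modules.pullback g₁).map (w ≫ w')) := by
    rw [Functor.map_comp, hw, hw']
    infer_instance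
  have he2 : Epi ((Scheme.Modules.pullback g₁).map (w' ≫ w)) := by
    rw [Functor.map_comp, hw, hw']
    infer_instance
  haveI : (cokernel (w ≫ w')).IsQuasicoherent := QcohLimits.isQuasicoherent_cokernel _
  haveI : (cokernel (w' ≫ w)).IsQuasicoherent := QcohLimits.isQuasicoherent_cokernel _
  obtain ⟨UV₁, hy₁, hU₁⟩ := exists_nhd_of_isZero_pullback f V y hyV q g hsq (cokernel (w ≫ w'))
    (Groth.Agent.Lead.PerfLib.isCoh_cokernel hcF hcF (w ≫ w')).2 (hzero _ he1)
  obtain ⟨UV₂, hy₂, hU₂⟩ := exists_nhd_of_isZero_pullback f V y hyV q g hsq (cokernel (w' ≫ w))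
    (Groth.Agent.Lead.PerfLib.isCoh_cokernel hcG hcG (w' ≫ w)).2 (hzero _ he2)
  haveI hiso : IsIso ((Scheme.Modules.restrictFunctor ((f ∣_ V) ⁻¹ᵁ (UV₁ ⊓ UV₂)).ι).map w) :=
    isIso_restrict_of_cokernels hFV hGV w w' _ (fun x hx => hU₁ x hx.1) (fun x hx => hU₂ x hx.2)
  refine ⟨(Scheme.Opens.ι V) ''ᵁ (UV₁ ⊓ UV₂), ⟨⟨y, hyV⟩, ⟨hy₁, hy₂⟩, rfl⟩, ?_⟩
  rw [← image_morphismRestrict_preimage f V (UV₁ ⊓ UV₂)]
  exact nonempty_restrict_image_iso₂ (f ⁻¹ᵁ V) ((f ∣_ V) ⁻¹ᵁ (UV₁ ⊓ UV₂)) F G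
    (asIso ((Scheme.Modules.restrictFunctor ((f ∣_ V) ⁻¹ᵁ (UV₁ ⊓ UV₂)).ι).map w))

end Main

end Groth.Agent.Lead.Spread
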