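import Mathlib
import Groth.Agent.Lead.ThickBC2

set_option autoImplicit false
universe u
open CategoryTheory AlgebraicGeometry Limits

namespace Groth.Agent.Lead.SqZeroEndo
open Groth.Agent.Lead

theorem bijective_of_squareZero {R A : Type*} [CommRing R] [CommRing A] (ρ : R →+* A) (J : Ideal R)
    (hJ : J * J = ⊥) (φ : A →+* A) (hφρ : φ.comp ρ = ρ)
    (hφ : ∀ a, φ a - a ∈ J.map ρ) : Function.Bijective φ := by
  have hKK : J.map ρ * J.map ρ = ⊥ := by rw [← Ideal.map_mul, hJ, Ideal.map_bot]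
  have hfix : ∀ z ∈ J.map ρ, φ z = z := by
    intro z hz
    refine Submodule.span_induction (p := fun z _ => φ z = z) ?_ ?_ ?_ ?_ hz
    · rintro _ ⟨j, hj, rfl⟩
      exact congrArg (fun g : R →+* A => g j) hφρ
    · simp
    · intro x y _ _ hx hy; rw [map_add, hx, hy]
    · intro a x hx hx'
      have h1 : φ (a • x) = φ a * x := by rw [smul_eq_mul, map_mul, hx']
      rw [h1, smul_eq_mul]
      have h2 : (φ a - a) * x ∈ J.map ρ * J.map ρ := Ideal.mul_mem_mul (hφ a) hx
      rw [hKK] at h2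
      have h3 : (φ a - a) * x = 0 := h2
      linear_combination h3
  constructor
  · rw [injective_iff_map_eq_zero]
    intro a ha
    have h1 : a ∈ J.map ρ := by
      have := hφ a
      rw [ha, zero_sub] at this
      simpa using (J.map ρ).neg_mem this
    rw [← hfix a h1]; exact ha
  · intro a
    refine ⟨a - (φ a - a), ?_⟩
    rw [map_sub, hfix _ (hφ a)]; ring

theorem appLE_congr {X Y : Scheme.{u}} (a b : X ⟶ Y) (hab : a = b) (V : Y.Opens) (U : X.Opens)
    (e1 : U ≤ a ⁻¹ᵁ V) (e2 : U ≤ b ⁻¹ᵁ V) : a.appLE V U e1 = b.appLE V U e2 := by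
  subst hab; rfl

/-- scheme version: an endomorphism `u` of `X'` over `S'` with `iX ≫ u = iX` where `iX` is the base
change of a square-zero thickening `iS` of the affine `S'` is an isomorphism. -/
theorem isIso_of_comp_eq {X X' S S' : Scheme.{u}} {iX : X ⟶ X'} {iS : S ⟶ S'} {f : X ⟶ S}
    {f' : X' ⟶ S'} (hc : IsPullback iX f f' iS) [IsClosedImmersion iS] [Surjective iS] [IsAffine S']
    (hsq : RingHom.ker (iS.app ⊤).hom * RingHom.ker (iS.app ⊤).hom = ⊥)
    (u : X' ⟶ X') (hu : u ≫ f' = f') (hiu : iX ≫ u = iX) : IsIso u := by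
  haveI : IsClosedImmersion iX := ThickBC.isClosedImmersion_of_isPullback hc
  haveI : Surjective iX := MorphismProperty.of_isPullback (P := @Surjective) hc.flip inferInstance
  have hpt : ∀ x : X', u x = x := by
    intro x
    obtain ⟨x0, rfl⟩ := iX.surjective x
    rw [← Scheme.Hom.comp_apply, hiu]
  have hpre : ∀ U : X'.Opens, u ⁻¹ᵁ U = U := by
    intro U
    ext x
    simp only [TopologicalSpace.Opens.map_coe, Set.mem_preimage, SetLike.mem_coe]
    rw [hpt]
  have key : ∀ W : X'.Opens, IsAffineOpen W → IsIso (u.app W) := by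
    intro W hW
    have e' : W ≤ u ⁻¹ᵁ W := (hpre W).ge
    have e : W ≤ f' ⁻¹ᵁ ⊤ := le_top
    obtain ⟨-, -, -, hker⟩ := ThickBC.square_facts hc ⟨⊤, isAffineOpen_top S'⟩ ⟨W, hW⟩ e
    have h1 : f'.appLE ⊤ W e ≫ u.appLE W W e' = f'.appLE ⊤ W e := by
      rw [Scheme.Hom.appLE_comp_appLE]
      exact appLE_congr _ _ hu _ _ _ _
    have h2 : u.appLE W W e' ≫ iX.app W = iX.app W := by
      have : iX.app W = iX.appLE W (iX ⁻¹ᵁ W) le_rfl := Scheme.Hom.app_eq_appLE iX
      rw [this, Scheme.Hom.appLE_comp_appLE]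
      exact appLE_congr _ _ hiu _ _ _ _
    have hbij : Function.Bijective (u.appLE W W e').hom := by
      refine bijective_of_squareZero (f'.appLE ⊤ W e).hom _ hsq _ ?_ ?_
      · rw [← CommRingCat.hom_comp, h1]
      · intro a
        rw [← hker, RingHom.mem_ker, map_sub, sub_eq_zero]
        exact congrArg (fun g => g.hom a) h2
    have hiso : IsIso (u.appLE W W e') := by
      rw [ConcreteCategory.isIso_iff_bijective]
      exact hbij
    have h3 : u.appLE W W e' = u.app W ≫ X'.presheaf.map (eqToHom (hpre W).symm).op := rfl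
    rw [h3] at hiso
    exact IsIso.of_isIso_comp_right _ (X'.presheaf.map (eqToHom (hpre W).symm).op)
  change MorphismProperty.isomorphisms Scheme u
  refine HasAffineProperty.of_iSup_eq_top (P := MorphismProperty.isomorphisms Scheme)
    (fun U : X'.affineOpens => U) (iSup_affineOpens_eq_top X') (fun U => ⟨?_, ?_⟩)
  · exact (hpre U.1).symm ▸ U.2
  · rw [morphismRestrict_appTop]
    have : IsAffineOpen (U.1.ι ''ᵁ ⊤) := by rw [Scheme.Opens.ι_image_top]; exact U.2
    have hk := key _ this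
    exact @IsIso.comp_isIso' _ _ _ _ _ _ _ hk (Functor.map_isIso _ _)

end Groth.Agent.Lead.SqZeroEndo
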