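import Mathlib
import Groth.Prelude.Def_MoreMor
import Groth.Agent.S0440

set_option autoImplicit false
set_option linter.style.haveILetI false
open CategoryTheory AlgebraicGeometry Limits Opposite
universe u

namespace Groth.Agent.Lead.StratA

variable {X : Scheme.{u}}

/-- a surjective immersion from an affine scheme has affine target -/
theorem isAffine_of_surjective_immersion {Z : Scheme.{u}} (f : Z ⟶ X) [IsImmersion f] [IsAffine Z]
    (hf : Function.Surjective f) : IsAffine X := by
  haveI : IsClosedImmersion f := by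
    apply IsClosedImmersion.of_isPreimmersion
    rw [Set.range_eq_univ.2 hf]
    exact isClosed_univ
  exact Groth.Agent.S0440.result f hf

/-- an open set which is the range of an immersion from an affine scheme is affine -/
theorem isAffineOpen_of_range_eq {Z : Scheme.{u}} (f : Z ⟶ X) [IsImmersion f] [IsAffine Z]
    (V : X.Opens) (hV : Set.range f = (V : Set X)) : IsAffineOpen V := by
  have hsub : Set.range f ⊆ Set.range V.ι := by
    rw [Scheme.Opens.range_ι]
    exact hV.le
  let f' : Z ⟶ V := IsOpenImmersion.lift V.ι f hsub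
  have hfac : f' ≫ V.ι = f := IsOpenImmersion.lift_fac _ _ _
  haveI : IsImmersion (f' ≫ V.ι) := by
    rw [hfac]
    infer_instance
  haveI : IsImmersion f' := IsImmersion.of_comp f' V.ι
  have hsurj : Function.Surjective f' := by
    intro v
    have hv : V.ι v ∈ Set.range f := by
      rw [hV, ← Scheme.Opens.range_ι]
      exact ⟨v, rfl⟩
    obtain ⟨z, hz⟩ := hv
    refine ⟨z, ?_⟩
    apply V.ι.isOpenEmbedding.injective
    rw [← hz, ← hfac]
    rfl
  exact isAffine_of_surjective_immersion f' hsurj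

/-- ... and its inclusion is affine if the immersion is -/
theorem isAffineHom_ι_of_range_eq {Z : Scheme.{u}} (f : Z ⟶ X) [IsImmersion f] [IsAffine Z]
    [IsAffineHom f] (V : X.Opens) (hV : Set.range f = (V : Set X)) : IsAffineHom V.ι := by
  constructor
  intro W hW
  have hpre : IsAffineOpen (f ⁻¹ᵁ W) := hW.preimage f
  haveI : IsAffine (f ⁻¹ᵁ W) := hpre
  have hg : Set.range ((f ⁻¹ᵁ W).ι ≫ f) = ((V ⊓ W : X.Opens) : Set X) := by
    ext x
    constructor
    · rintro ⟨z, rfl⟩
      refine ⟨?_, ?_⟩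
      · show _ ∈ (V : Set X)
        rw [← hV]
        exact ⟨(f ⁻¹ᵁ W).ι z, rfl⟩
      · exact z.2
    · rintro ⟨hxV, hxW⟩
      have : x ∈ Set.range f := by
        rw [hV]
        exact hxV
      obtain ⟨z, rfl⟩ := this
      exact ⟨⟨z, hxW⟩, rfl⟩
  have h1 : IsAffineOpen (V ⊓ W) := isAffineOpen_of_range_eq ((f ⁻¹ᵁ W).ι ≫ f) (V ⊓ W) hg
  rw [← Scheme.Hom.isAffineOpen_iff_of_isOpenImmersion V.ι,
    Scheme.Hom.image_preimage_eq_opensRange_inf, Scheme.Opens.opensRange_ι]
  exact h1

section Strat

variable {n : ℕ} (s : X → Fin (n + 1))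
  (hst : ∀ i : Fin (n + 1), ∃ (Z : Scheme.{u}) (ι : Z ⟶ X),
      IsImmersion ι ∧ IsAffine Z ∧ IsAffineHom ι ∧ Set.range ι = {x : X | s x = i})

include hst in
theorem compactSpace_of_strat : CompactSpace X := by
  constructor
  have : (Set.univ : Set X) = ⋃ i : Fin (n + 1), {x | s x = i} := by
    ext x
    simp
  rw [this]
  apply isCompact_iUnion
  intro i
  obtain ⟨Z, ι, _, hZ, _, hr⟩ := hst i
  rw [← hr]
  exact isCompact_range ι.continuous

include hst in
theorem quasiSeparatedSpace_of_strat : QuasiSeparatedSpace X := by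
  constructor
  intro V W hV hVc hW hWc
  have : V ∩ W = ⋃ i : Fin (n + 1), (V ∩ W ∩ {x | s x = i}) := by
    ext x
    simp
  rw [this]
  apply isCompact_iUnion
  intro i
  obtain ⟨Z, ι, _, hZ, hι, hr⟩ := hst i
  have h1 : V ∩ W ∩ {x | s x = i} = ι '' (ι ⁻¹' V ∩ ι ⁻¹' W) := by
    rw [← hr]
    ext x
    constructor
    · rintro ⟨⟨hv, hw⟩, z, rfl⟩
      exact ⟨z, ⟨hv, hw⟩, rfl⟩
    · rintro ⟨z, ⟨hv, hw⟩, rfl⟩
      exact ⟨⟨hv, hw⟩, z, rfl⟩
  rw [h1]
  apply IsCompact.image _ ι.continuous
  haveI : QuasiSeparatedSpace Z := inferInstance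
  apply QuasiSeparatedSpace.inter_isCompact
  · exact hV.preimage ι.continuous
  · exact QuasiCompact.isCompact_preimage (f := ι) V hV hVc
  · exact hW.preimage ι.continuous
  · exact QuasiCompact.isCompact_preimage (f := ι) W hW hWc

end Strat

section Step

variable {n : ℕ} (s : X → Fin (n + 2))
  (hcl : ∀ i : Fin (n + 2), IsClosed {x : X | s x ≤ i})
  (hst : ∀ i : Fin (n + 2), ∃ (Z : Scheme.{u}) (ι : Z ⟶ X),
      IsImmersion ι ∧ IsAffine Z ∧ IsAffineHom ι ∧ Set.range ι = {x : X | s x = i})

include hcl in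
theorem isOpen_top : IsOpen {x : X | s x = Fin.last (n + 1)} := by
  have : {x : X | s x = Fin.last (n + 1)} = {x | s x ≤ (Fin.last n).castSucc}ᶜ := by
    ext x
    have := (s x).isLt
    simp only [Set.mem_setOf_eq, Set.mem_compl_iff, not_le, Fin.ext_iff, Fin.lt_def, Fin.val_last,
      Fin.val_castSucc]
    omega
  rw [this]
  exact (hcl _).isOpen_compl

include hcl hst in
/-- the induced stratification on a closed subscheme avoiding the top stratum -/
theorem hasAffineStratification_of_closedImmersion {Z' : Scheme.{u}} (i : Z' ⟶ X)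
    [IsClosedImmersion i] (h : ∀ z, s (i z) ≠ Fin.last (n + 1)) :
    MoreMor.HasAffineStratification Z' n := by
  refine ⟨fun z => (s (i z)).castPred (h z), ?_, ?_⟩
  · intro k
    have : {z : Z' | (s (i z)).castPred (h z) ≤ k} = i ⁻¹' {x | s x ≤ k.castSucc} := by
      ext z
      simp only [Set.mem_setOf_eq, Set.mem_preimage, Fin.le_def, Fin.coe_castPred,
        Fin.val_castSucc]
    rw [this]
    exact (hcl _).preimage i.continuous
  · intro k
    obtain ⟨Z, ι, hι, hZ, hιa, hr⟩ := hst k.castSucc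
    haveI := hι
    haveI := hZ
    haveI := hιa
    refine ⟨pullback ι i, pullback.snd ι i, inferInstance, ?_,
      MorphismProperty.pullback_snd (P := @IsAffineHom) _ _ inferInstance, ?_⟩
    · exact isAffine_of_isAffineHom (pullback.fst ι i)
    · rw [Scheme.Pullback.range_snd, hr]
      ext z
      simp only [Set.mem_setOf_eq, Set.mem_preimage, Fin.ext_iff, Fin.coe_castPred,
        Fin.val_castSucc]

end Step

end Groth.Agent.Lead.StratA
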