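import Mathlib
import Groth.Agent.Lead.Thick1
import Groth.Agent.Helper4.QcqsMod
import Groth.Agent.Helper4.SecDict

set_option autoImplicit false
set_option linter.style.haveILetI false
open CategoryTheory AlgebraicGeometry Limits Opposite
universe u

namespace Groth.Agent.Lead.StratC
open Groth.Agent.Helper4 Groth.Agent.Lead.Thick

variable {X : Scheme.{u}}

/-- sections over affine opens inside `U` vanish -/
def VanishesOn (K : X.Modules) (U : X.Opens) : Prop :=
  ∀ V : X.Opens, IsAffineOpen V → V ≤ U → ∀ t : Γ(K, V), t = 0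

theorem basicOpen_le_of_mem (I : X.IdealSheafData) (U : X.Opens)
    (hI : (I.support : Set X) = (U : Set X)ᶜ) (W : X.affineOpens) (f : Γ(X, W.1))
    (hf : f ∈ I.ideal W) : X.basicOpen f ≤ U := by
  intro x hx
  by_contra hxU
  have hxs : x ∈ I.support := by
    show x ∈ (I.support : Set X)
    rw [hI]
    exact hxU
  have hxW : x ∈ W.1 := X.basicOpen_le f hx
  rw [Scheme.IdealSheafData.mem_support_iff_of_mem hxW] at hxs
  exact (X.mem_zeroLocus_iff _ x).1 hxs f hf hx

/-- a power of a finitely generated ideal kills a section supported on its zero locus -/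
theorem exists_pow_kill (K : X.Modules) [K.IsQuasicoherent] (I : X.IdealSheafData) (U : X.Opens)
    (hI : (I.support : Set X) = (U : Set X)ᶜ) (hK : VanishesOn K U)
    (W : X.affineOpens) (hfg : (I.ideal W).FG) (t : Γ(K, W.1)) :
    ∃ N : ℕ, ∀ a ∈ I.ideal W ^ N, a • t = 0 := by
  let J : Ideal Γ(X, W.1) := (Submodule.span Γ(X, W.1) {t}).annihilator
  have hle : I.ideal W ≤ J.radical := by
    intro f hf
    have h1 : X.basicOpen f ≤ U := basicOpen_le_of_mem I U hI W f hf
    have h2 : K.presheaf.map (homOfLE (X.basicOpen_le f)).op t = 0 :=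
      hK _ (W.2.basicOpen f) h1 _
    obtain ⟨n, hn⟩ := QcqsMod.exists_pow_smul_eq_zero_of_isCompact K W.2.isCompact f t h2
    exact ⟨n, (Submodule.mem_annihilator_span_singleton _ _).2 hn⟩
  obtain ⟨N, hN⟩ := Ideal.exists_pow_le_of_le_radical_of_fg hle hfg
  exact ⟨N, fun a ha => (Submodule.mem_annihilator_span_singleton _ _).1 (hN ha)⟩

theorem exists_pow_kill_all (D K : X.Modules) [D.IsQuasicoherent] [K.IsQuasicoherent]
    (hD : SheafOfModules.IsFiniteType (R := X.ringCatSheaf) D) (φ : D ⟶ K)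
    (I : X.IdealSheafData) (U : X.Opens)
    (hI : (I.support : Set X) = (U : Set X)ᶜ) (hK : VanishesOn K U)
    (W : X.affineOpens) (hfg : (I.ideal W).FG) :
    ∃ N : ℕ, ∀ a ∈ I.ideal W ^ N, ∀ d : Γ(D, W.1), a • φ.app W.1 d = 0 := by
  haveI : Module.Finite Γ(X, W.1) Γ(D, W.1) :=
    SecDict.finite_sections W.2 D inferInstance hD
  obtain ⟨S, hS⟩ := (Module.Finite.fg_top : (⊤ : Submodule Γ(X, W.1) Γ(D, W.1)).FG)
  choose! N hN using fun d : Γ(D, W.1) => exists_pow_kill K I U hI hK W hfg (φ.app W.1 d)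
  refine ⟨S.sup N, fun a ha d => ?_⟩
  have hd : d ∈ Submodule.span Γ(X, W.1) (S : Set Γ(D, W.1)) := by
    rw [hS]
    trivial
  induction hd using Submodule.span_induction with
  | mem x hx => exact hN x a (Ideal.pow_le_pow_right (Finset.le_sup hx) ha)
  | zero => rw [map_zero, smul_zero]
  | add x y _ _ hx hy => rw [map_add, smul_add, hx, hy, add_zero]
  | smul r x _ hx => rw [Scheme.Modules.Hom.app_smul, smul_comm, hx, smul_zero]

theorem exists_factor [CompactSpace X] (D K : X.Modules) [D.IsQuasicoherent] [K.IsQuasicoherent]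
    (hD : SheafOfModules.IsFiniteType (R := X.ringCatSheaf) D) (φ : D ⟶ K)
    (I : X.IdealSheafData) (hfg : ∀ W : X.affineOpens, (I.ideal W).FG) (U : X.Opens)
    (hI : (I.support : Set X) = (U : Set X)ᶜ) (hK : VanishesOn K U) :
    ∃ (m : ℕ) (_ : m ≠ 0) (ψ : (Scheme.Modules.pushforward (I ^ m).subschemeι).obj
        ((Scheme.Modules.pullback (I ^ m).subschemeι).obj D) ⟶ K),
      η (I ^ m).subschemeι D ≫ ψ = φ := by
  obtain ⟨t, ht⟩ := isCompact_univ.elim_finite_subcover (fun V : X.affineOpens => (V.1 : Set X))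
    (fun V => V.1.isOpen) (by
      intro x _
      obtain ⟨V, hV, hx⟩ := QcohLimits.exists_affine_nhd x
      exact Set.mem_iUnion.2 ⟨⟨V, hV⟩, hx⟩)
  choose N hN using fun W : X.affineOpens => exists_pow_kill_all D K hD φ I U hI hK W (hfg W)
  refine ⟨t.sup N + 1, Nat.succ_ne_zero _, ?_⟩
  have hzero : kernel.ι (η (I ^ (t.sup N + 1)).subschemeι D) ≫ φ = 0 := by
    apply QcohLocal.eq_zero_of_app_eq_zero_of_affine_cover
    intro x
    obtain ⟨W, hWt, hxW⟩ : ∃ W ∈ t, x ∈ (W.1 : Set X) := by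
      have := ht (Set.mem_univ x)
      simpa using this
    refine ⟨W.1, W.2, hxW, fun z => ?_⟩
    have h1 : (η (I ^ (t.sup N + 1)).subschemeι D).app W.1
        ((kernel.ι (η (I ^ (t.sup N + 1)).subschemeι D)).app W.1 z) = 0 := by
      have := congrArg (fun φ => (Scheme.Modules.Hom.app φ W.1) z)
        (kernel.condition (η (I ^ (t.sup N + 1)).subschemeι D))
      exact this
    have h2 := η_app_ker (I ^ (t.sup N + 1)).subschemeι D W.2 _ h1
    have hker : RingHom.ker ((I ^ (t.sup N + 1)).subschemeι.app W.1).hom =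
        I.ideal W ^ (t.sup N + 1) :=
      Scheme.IdealSheafData.ker_subschemeι_app (I ^ (t.sup N + 1)) W
    rw [hker] at h2
    show φ.app W.1 ((kernel.ι (η (I ^ (t.sup N + 1)).subschemeι D)).app W.1 z) = 0
    refine Submodule.smul_induction_on h2 ?_ ?_
    · intro a ha d _
      rw [Scheme.Modules.Hom.app_smul]
      exact hN W a (Ideal.pow_le_pow_right
        (le_trans (Finset.le_sup hWt) (Nat.le_succ _)) ha) d
    · intro x y hx hy
      rw [map_add, hx, hy, add_zero]
  exact ⟨Abelian.epiDesc (η (I ^ (t.sup N + 1)).subschemeι D) φ hzero,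
    Abelian.comp_epiDesc _ _ _⟩

end Groth.Agent.Lead.StratC
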