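import Mathlib
import Groth.Agent.Lead.StratA
import Groth.Agent.Lead.StratB
import Groth.Agent.Lead.StratC
import Groth.Agent.Lead.StalkPull
import Groth.Agent.Helper4.FTIdealSheaf
import Groth.Agent.Helper4.QcohEpi
import Groth.Agent.S2128
import Groth.Agent.S0012
import Groth.Agent.S0007

set_option autoImplicit false
set_option linter.style.haveILetI false
open CategoryTheory AlgebraicGeometry Limits Opposite TopologicalSpace
universe u
open Coherent

namespace Groth.Agent.Lead.StratD
open Groth.Agent.Helper4 Groth.Agent.Lead.Thick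

variable {X : Scheme.{u}}

/-- quasi-coherent modules supported on `V(I)` are acyclic in degree `q` if all quasi-coherent
modules on the infinitesimal neighbourhoods are -/
theorem subsingleton_HH_of_vanishesOn [CompactSpace X] [QuasiSeparatedSpace X]
    (I : X.IdealSheafData) (hfg : ∀ W : X.affineOpens, (I.ideal W).FG) (U : X.Opens)
    (hI : (I.support : Set X) = (U : Set X)ᶜ) (q : ℕ)
    (hZ : ∀ m : ℕ, m ≠ 0 → ∀ N : (I ^ m).subscheme.Modules, N.IsQuasicoherent →
      Subsingleton (Coh.HH (I ^ m).subscheme N q))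
    (K : X.Modules) [hKq : K.IsQuasicoherent] (hK : StratC.VanishesOn K U) :
    Subsingleton (Coh.HH X K q) := by
  obtain ⟨J, _, _, D, c, hc, hfp, hpt⟩ := Groth.Agent.S2128.result X K hKq
  subst hpt
  apply StratB.subsingleton_HH_of_colimit D c hc q
  intro j
  haveI : SheafOfModules.IsFinitePresentation (R := X.ringCatSheaf) (D.obj j) := hfp j
  haveI : (D.obj j).IsQuasicoherent := inferInstance
  obtain ⟨m, hm, ψ, hψ⟩ := StratC.exists_factor (D.obj j) c.pt inferInstance (c.ι.app j) I hfg U
    hI hK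
  refine ⟨_, Thick.η (I ^ m).subschemeι (D.obj j), ψ, hψ, ?_⟩
  have hq : ((Scheme.Modules.pullback (I ^ m).subschemeι).obj (D.obj j)).IsQuasicoherent :=
    StalkPull.isQuasicoherent_pullbackObj _ _
  obtain ⟨e⟩ := Groth.Agent.S0012.result (I ^ m).subschemeι
    ((Scheme.Modules.pullback (I ^ m).subschemeι).obj (D.obj j)) q
  have := hZ m hm _ hq
  exact e.symm.toEquiv.subsingleton

theorem step (X : Scheme.{u}) (n : ℕ)
    (IH : ∀ (Y : Scheme.{u}), MoreMor.HasAffineStratification Y n → ∀ (F : Y.Modules),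
      F.IsQuasicoherent → ∀ p, n < p → Subsingleton (Coh.HH Y F p))
    (hX : MoreMor.HasAffineStratification X (n + 1)) (F : X.Modules) (hF : F.IsQuasicoherent)
    (p : ℕ) (hp : n + 1 < p) : Subsingleton (Coh.HH X F p) := by
  obtain ⟨s, hcl, hst⟩ := hX
  haveI : CompactSpace X := StratA.compactSpace_of_strat s hst
  haveI : QuasiSeparatedSpace X := StratA.quasiSeparatedSpace_of_strat s hst
  let U : X.Opens := ⟨{x | s x = Fin.last (n + 1)}, StratA.isOpen_top s hcl⟩
  obtain ⟨Zt, ιt, hιt, hZt, hιta, hrt⟩ := hst (Fin.last (n + 1))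
  haveI := hιt
  haveI := hZt
  haveI := hιta
  have hUaff : IsAffineOpen U := StratA.isAffineOpen_of_range_eq ιt U hrt
  haveI : IsAffineHom U.ι := StratA.isAffineHom_ι_of_range_eq ιt U hrt
  haveI : IsAffine U := hUaff
  obtain ⟨I, hfg, hI⟩ := FTIdealSheaf.exists_ft_idealSheafData U hUaff.isCompact
  -- the closed part
  have hZ : ∀ q, n < q → ∀ m : ℕ, m ≠ 0 → ∀ N : (I ^ m).subscheme.Modules, N.IsQuasicoherent →
      Subsingleton (Coh.HH (I ^ m).subscheme N q) := by
    intro q hq m hm N hN
    apply IH _ ?_ N hN q hq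
    apply StratA.hasAffineStratification_of_closedImmersion s hcl hst (I ^ m).subschemeι
    intro z
    have hz : (I ^ m).subschemeι z ∈ ((I ^ m).support : Set X) := by
      rw [← Scheme.IdealSheafData.range_subschemeι]
      exact ⟨z, rfl⟩
    rw [Scheme.IdealSheafData.support_pow I m hm, hI] at hz
    exact hz
  have hclosed : ∀ (K : X.Modules) [K.IsQuasicoherent], StratC.VanishesOn K U → ∀ q, n < q →
      Subsingleton (Coh.HH X K q) :=
    fun K _ hK q hq => subsingleton_HH_of_vanishesOn I hfg U hI q (hZ q hq) K hK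
  -- the unit
  haveI := hF
  haveI : (F.restrict U.ι).IsQuasicoherent := inferInstance
  haveI : ((Scheme.Modules.pushforward U.ι).obj (F.restrict U.ι)).IsQuasicoherent :=
    QcohGlue.isQuasicoherent_pushforward U.ι _
  obtain ⟨η, hη⟩ : ∃ η : F ⟶ (Scheme.Modules.pushforward U.ι).obj (F.restrict U.ι),
      η = (Scheme.Modules.restrictAdjunction U.ι).unit.app F := ⟨_, rfl⟩
  have hηbij : ∀ V : X.Opens, V ≤ U → Function.Bijective (η.app V) := by
    intro V hVU
    have himg : U.ι ''ᵁ (U.ι ⁻¹ᵁ V) = V := by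
      rw [Scheme.Hom.image_preimage_eq_opensRange_inf, Scheme.Opens.opensRange_ι]
      exact inf_eq_right.2 hVU
    have h1 : η.app V = F.presheaf.map (homOfLE (U.ι.image_preimage_le V)).op := by
      rw [hη]
      exact Scheme.Modules.restrictAdjunction_unit_app_app U.ι F V
    rw [h1]
    haveI : IsIso (homOfLE (U.ι.image_preimage_le V)) :=
      ⟨⟨homOfLE himg.ge, Subsingleton.elim _ _, Subsingleton.elim _ _⟩⟩
    exact ConcreteCategory.bijective_of_isIso
      (F.presheaf.map (homOfLE (U.ι.image_preimage_le V)).op)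
  have hG : ∀ q, 0 < q →
      Subsingleton (Coh.HH X ((Scheme.Modules.pushforward U.ι).obj (F.restrict U.ι)) q) := by
    intro q hq
    obtain ⟨e⟩ := Groth.Agent.S0012.result U.ι (F.restrict U.ι) q
    have := Groth.Agent.S0007.result U (F.restrict U.ι) q hq
    exact e.symm.toEquiv.subsingleton
  haveI : (kernel η).IsQuasicoherent := QcohLimits.isQuasicoherent_kernel η
  haveI : (cokernel η).IsQuasicoherent := QcohLimits.isQuasicoherent_cokernel η
  have hK1 : StratC.VanishesOn (kernel η) U := by
    intro V hV hVU t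
    apply AffineDict.app_injective_of_mono (kernel.ι η) V
    apply (hηbij V hVU).1
    rw [map_zero, map_zero]
    exact congrArg (fun φ => (Scheme.Modules.Hom.app φ V) t) (kernel.condition η)
  have hK2 : StratC.VanishesOn (cokernel η) U := by
    intro V hV hVU t
    obtain ⟨g, rfl⟩ := QcohEpi.app_surjective_of_epi (cokernel.π η) hV t
    obtain ⟨f, rfl⟩ := (hηbij V hVU).2 g
    exact congrArg (fun φ => (Scheme.Modules.Hom.app φ V) f) (cokernel.condition η)
  obtain ⟨q, rfl⟩ : ∃ q, p = q + 1 := ⟨p - 1, by omega⟩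
  have hq : n < q := by omega
  -- `0 → image → G → cokernel → 0`
  let S₂ : ShortComplex X.Modules :=
    ShortComplex.mk (kernel.ι (cokernel.π η)) (cokernel.π η) (kernel.condition _)
  have hS₂ : S₂.ShortExact :=
    { exact := ShortComplex.exact_of_f_is_kernel _ (kernelIsKernel (cokernel.π η))
      mono_f := inferInstanceAs (Mono (kernel.ι (cokernel.π η)))
      epi_g := inferInstanceAs (Epi (cokernel.π η)) }
  have hIm : Subsingleton (Coh.HH X (kernel (cokernel.π η)) (q + 1)) :=
    StratB.subsingleton_HH_left S₂ hS₂ q (hclosed (cokernel η) hK2 q hq)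
      (hG (q + 1) (Nat.succ_pos _))
  -- `0 → kernel → F → coimage → 0`
  let S₁ : ShortComplex X.Modules :=
    ShortComplex.mk (kernel.ι η) (cokernel.π (kernel.ι η)) (cokernel.condition _)
  have hS₁ : S₁.ShortExact :=
    { exact := ShortComplex.exact_of_g_is_cokernel _ (cokernelIsCokernel (kernel.ι η))
      mono_f := inferInstanceAs (Mono (kernel.ι η))
      epi_g := inferInstanceAs (Epi (cokernel.π (kernel.ι η))) }
  have hCoim : Subsingleton (Coh.HH X (cokernel (kernel.ι η)) (q + 1)) :=
    StratB.subsingleton_HH_of_iso (Abelian.coimageIsoImage η).symm (q + 1) hIm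
  exact Thick.subsingleton_HH_middle S₁ hS₁ (q + 1)
    (hclosed (kernel η) hK1 (q + 1) (by omega)) hCoim

theorem main : ∀ (n : ℕ) (X : Scheme.{u}), MoreMor.HasAffineStratification X n →
    ∀ (F : X.Modules), F.IsQuasicoherent → ∀ p, n < p → Subsingleton (Coh.HH X F p)
  | 0, X, hX, F, hF, p, hp => by
    obtain ⟨s, hcl, hst⟩ := hX
    obtain ⟨Z, ι, hι, hZ, _, hr⟩ := hst 0
    haveI := hι
    haveI := hZ
    haveI : IsAffine X := by
      apply StratA.isAffine_of_surjective_immersion ι
      rw [← Set.range_eq_univ, hr]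
      ext x
      simp only [Set.mem_setOf_eq, Set.mem_univ, iff_true]
      exact Fin.ext (by
        have := (s x).isLt
        have h0 : ((0 : Fin (0 + 1)) : ℕ) = 0 := rfl
        omega)
    haveI := hF
    exact Groth.Agent.S0007.result X F p hp
  | n + 1, X, hX, F, hF, p, hp => step X n (main n) hX F hF p hp

end Groth.Agent.Lead.StratD
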