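import Groth.Agent.Lead.ThickBC
import Groth.Agent.Lead.FlatUnivJ
import Groth.Agent.Helper2.CohQ1
import Groth.Agent.Helper4.QcohGlue
import Groth.Agent.Helper4.QcohLimits
import Groth.Agent.Helper4.QcqsMod
import Groth.Agent.Helper4.AffineDict
import Groth.Prelude.Def_BlowUp2

/-!
# Strict transforms of coherent modules are coherent
-/

set_option autoImplicit false
set_option linter.style.haveILetI false
universe u
open CategoryTheory CategoryTheory.Limits AlgebraicGeometry Opposite TopologicalSpace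

namespace Groth.Agent.Lead.StrictCoh
open Groth.Agent.Helper4

variable {X : Scheme.{u}}

/-- naturality of a morphism of modules on sections -/
theorem app_map {M N : X.Modules} (φ : M ⟶ N) {U V : X.Opens} (i : U ⟶ V) (m : Γ(M, V)) :
    φ.app U (M.presheaf.map i.op m) = N.presheaf.map i.op (φ.app V m) := by
  have := φ.mapPresheaf.naturality i.op
  exact congr($this m)

/-- sections of a kernel -/
theorem exists_of_app_eq_zero {P G : X.Modules} (π : P ⟶ G) (W : X.Opens) (m : Γ(P, W))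
    (hm : π.app W m = 0) : ∃ k : Γ(kernel π, W), (kernel.ι π).app W k = m := by
  let Φ : X.Modules ⥤ Ab := Scheme.Modules.toPresheaf X ⋙ (evaluation _ _).obj (op W)
  haveI : PreservesFiniteLimits ((evaluation (Opens ↥X)ᵒᵖ Ab.{u}).obj (op W)) :=
    ⟨fun J _ _ => inferInstance⟩
  haveI : PreservesFiniteLimits (Scheme.Modules.toPresheaf X) := inferInstance
  haveI : PreservesFiniteLimits Φ := comp_preservesFiniteLimits _ _
  haveI : Φ.PreservesZeroMorphisms := ⟨fun _ _ => rfl⟩
  let S : ShortComplex X.Modules := ShortComplex.mk (kernel.ι π) π (kernel.condition π)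
  have hS : S.Exact := ShortComplex.exact_of_f_is_kernel _ (kernelIsKernel π)
  have hS' : (S.map Φ).Exact :=
    hS.map_of_mono_of_preservesKernel Φ (inferInstanceAs (Mono (kernel.ι π))) inferInstance
  rw [ShortComplex.ab_exact_iff] at hS'
  exact hS' m hm

variable {P G : X.Modules} (π : P ⟶ G) [P.IsQuasicoherent] (E : X.IdealSheafData)

theorem isLocalizingOn_kernel {V : X.Opens} (hV : IsAffineOpen V)
    (hfg : ∀ n, ((E ^ n).ideal ⟨V, hV⟩).FG)
    (hker : ∀ (W : X.affineOpens) (m : Γ(P, W.1)),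
      π.app W.1 m = 0 ↔ BlowUp.KilledByPowerNear E P W m) :
    QcqsMod.IsLocalizingOn (kernel π) V := by
  have hP := QcqsMod.isLocalizingOn_of_isAffineOpen P hV
  have hinj : ∀ W : X.Opens, Function.Injective ((kernel.ι π).app W) := fun W =>
    AffineDict.app_injective_of_mono (kernel.ι π) W
  refine ⟨fun f m hm => ?_, fun f t => ?_⟩
  · -- zero
    have h1 : P.presheaf.map (homOfLE (X.basicOpen_le f)).op ((kernel.ι π).app V m) = 0 := by
      rw [← app_map, hm, map_zero]
    obtain ⟨n, hn⟩ := hP.zero f _ h1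
    refine ⟨n, hinj V ?_⟩
    rw [Scheme.Modules.Hom.app_smul, hn, map_zero]
  · -- surj
    set t' := (kernel.ι π).app (X.basicOpen f) t with ht'
    have hπt : π.app (X.basicOpen f) t' = 0 := by
      have h := kernel.condition π
      have := congr($((Scheme.Modules.Hom.comp_app (kernel.ι π) π (U := X.basicOpen f)).symm) t)
      rw [h] at this
      exact this
    obtain ⟨n, hn⟩ := (hker (X.affineBasicOpen (U := ⟨V, hV⟩) f) t').mp hπt
    obtain ⟨a₀, m, hm⟩ := hP.surj f t'
    -- each generator of `(E^n)(V)` kills `f^b m` for some `b`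
    have hgen : ∀ e ∈ (E ^ n).ideal ⟨V, hV⟩, ∃ b : ℕ, f ^ b • (e • m) = 0 := by
      intro e he
      apply hP.zero f
      rw [Scheme.Modules.map_smul, ← hm, smul_smul, mul_comm, ← smul_smul]
      have he' : X.presheaf.map (homOfLE (X.basicOpen_le f)).op e ∈
          (E ^ n).ideal (X.affineBasicOpen (U := ⟨V, hV⟩) f) :=
        (E ^ n).ideal_le_comap_ideal (U := X.affineBasicOpen (U := ⟨V, hV⟩) f) (V := ⟨V, hV⟩)
          (X.basicOpen_le f) he
      have h0 : (X.presheaf.map (homOfLE (X.basicOpen_le f)).op e) • t' = 0 := hn _ he'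
      rw [h0, smul_zero]
    obtain ⟨s, hs⟩ := hfg n
    choose! bfun hbfun using hgen
    let B := s.sup bfun
    have hB : ∀ e ∈ (E ^ n).ideal ⟨V, hV⟩, e • (f ^ B • m) = 0 := by
      intro e he
      rw [← hs] at he
      refine Submodule.span_induction (p := fun e _ => e • (f ^ B • m) = 0) ?_ ?_ ?_ ?_ he
      · intro g hg
        have hgI : g ∈ (E ^ n).ideal ⟨V, hV⟩ := by
          rw [← hs]
          exact Ideal.subset_span hg
        have hle : bfun g ≤ B := Finset.le_sup (f := bfun) hg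
        obtain ⟨c, hc⟩ := Nat.exists_eq_add_of_le hle
        rw [smul_comm, hc, pow_add, mul_comm, mul_smul, hbfun g hgI, smul_zero]
      · rw [zero_smul]
      · intro x y _ _ hx hy
        rw [add_smul, hx, hy, add_zero]
      · intro a x _ hx
        rw [smul_eq_mul, mul_smul, hx, smul_zero]
    have hπ : π.app V (f ^ B • m) = 0 :=
      (hker ⟨V, hV⟩ (f ^ B • m)).mpr ⟨n, hB⟩
    obtain ⟨k, hk⟩ := exists_of_app_eq_zero π V _ hπ
    refine ⟨B + a₀, k, hinj _ ?_⟩
    rw [Scheme.Modules.Hom.app_smul, app_map, hk, Scheme.Modules.map_smul, ← hm, smul_smul,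
      ← map_mul, ← pow_add]

theorem isQuasicoherent_kernel
    (hfg : ∀ x : X, ∃ (V : X.Opens) (hV : IsAffineOpen V), x ∈ V ∧
      ∀ n, ((E ^ n).ideal ⟨V, hV⟩).FG)
    (hker : ∀ (W : X.affineOpens) (m : Γ(P, W.1)),
      π.app W.1 m = 0 ↔ BlowUp.KilledByPowerNear E P W m) :
    (kernel π).IsQuasicoherent := by
  apply QcohGlue.isQuasicoherent_of_isLocalizingOn
  intro x
  obtain ⟨V, hV, hxV, hfgV⟩ := hfg x
  exact ⟨V, hV, hxV, isLocalizingOn_kernel π E hV hfgV hker⟩

theorem isQuasicoherent_of_epi [Epi π]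
    (hfg : ∀ x : X, ∃ (V : X.Opens) (hV : IsAffineOpen V), x ∈ V ∧
      ∀ n, ((E ^ n).ideal ⟨V, hV⟩).FG)
    (hker : ∀ (W : X.affineOpens) (m : Γ(P, W.1)),
      π.app W.1 m = 0 ↔ BlowUp.KilledByPowerNear E P W m) :
    G.IsQuasicoherent := by
  haveI := isQuasicoherent_kernel π E hfg hker
  haveI : (cokernel (kernel.ι π)).IsQuasicoherent := QcohLimits.isQuasicoherent_cokernel _
  have hc : IsColimit (CokernelCofork.ofπ π (kernel.condition π)) :=
    Abelian.epiIsCokernelOfKernel (KernelFork.ofι (kernel.ι π) (kernel.condition π))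
      (kernelIsKernel π)
  let e : cokernel (kernel.ι π) ≅ G :=
    (cokernelIsCokernel (kernel.ι π)).coconePointUniqueUpToIso hc
  exact QcohLimits.isQuasicoherent_of_iso e

/-- strict transforms of coherent modules are coherent (the base locally Noetherian) -/
theorem main {Y : Scheme.{u}} [IsLocallyNoetherian Y] (b : X ⟶ Y) (I : Y.IdealSheafData)
    (F : Y.Modules) (hF : Coh.IsCoh F) (G : X.Modules)
    (π : (Scheme.Modules.pullback b).obj F ⟶ G) (hG : BlowUp.IsStrictTransform b I F G π) :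
    Coh.IsCoh G := by
  have hP : Coh.IsCoh ((Scheme.Modules.pullback b).obj F) :=
    Groth.Agent.Lead.FlatUnivJ.isCoh_pullback b F hF
  haveI : ((Scheme.Modules.pullback b).obj F).IsQuasicoherent := hP.1
  haveI : Epi π := hG.1
  refine Groth.Agent.Helper2.CohQ1.isCoh_of_epi π hP ?_
  refine isQuasicoherent_of_epi π (I.comap b) (fun x => ?_) hG.2
  obtain ⟨_, ⟨U, hU : IsAffineOpen U, rfl⟩, hxU, -⟩ :=
    Y.isBasis_affineOpens.exists_subset_of_mem_open (Set.mem_univ (b x)) isOpen_univ
  obtain ⟨_, ⟨V, hV : IsAffineOpen V, rfl⟩, hxV, hVU⟩ :=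
    X.isBasis_affineOpens.exists_subset_of_mem_open
      (show x ∈ ((b ⁻¹ᵁ U : X.Opens) : Set X) from hxU) (b ⁻¹ᵁ U).isOpen
  refine ⟨V, hV, hxV, fun n => ?_⟩
  haveI : IsNoetherianRing Γ(Y, U) := IsLocallyNoetherian.component_noetherian ⟨U, hU⟩
  rw [Scheme.IdealSheafData.ideal_pow]
  change (((I.comap b).ideal ⟨V, hV⟩) ^ n).FG
  rw [Groth.Agent.Lead.ThickBC.ideal_comap_appLE b I ⟨U, hU⟩ ⟨V, hV⟩ hVU]
  exact Ideal.FG.pow (Ideal.FG.map (IsNoetherian.noetherian _) _)

end Groth.Agent.Lead.StrictCoh
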