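import Mathlib
import Groth.Prelude.Def_BlowUp2
import Groth.Prelude.Def_FlatMod2
import Groth.Agent.Lead.EffCartier
import Groth.Agent.Lead.StalkPull2
import Groth.Agent.Helper4.StalkDict
import Groth.Agent.Helper4.AssDict

/-!
# Sections of a module flat along an effective Cartier divisor are not killed by its powers
-/

set_option autoImplicit false
set_option linter.style.haveILetI false
universe u
open CategoryTheory CategoryTheory.Limits AlgebraicGeometry TopologicalSpace Opposite TensorProduct

namespace Groth.Agent.Lead.StrictFlat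
open Groth.Agent.Helper4 Groth.Agent.Helper4.StalkDict

variable {X : Scheme.{u}}

theorem section_eq_zero_of_killed (𝓔 : X.IdealSheafData) (hE : BlowUp.IsEffCartierIdeal 𝓔)
    (G : X.Modules)
    (hG : ∀ x ∈ 𝓔.support, Module.Flat (X.presheaf.stalk x) (G.presheaf.stalk x))
    (V : X.affineOpens) (m : Γ(G, V.1)) (n : ℕ)
    (hn : ∀ a : Γ(X, V.1), a ∈ (𝓔 ^ n).ideal V → a • m = 0) : m = 0 := by
  apply AssDict.section_eq_zero_of_germ
  intro x hx
  have key : ∃ τ : X.presheaf.stalk x,
      τ ∈ Ideal.map (X.presheaf.germ V.1 x hx).hom (𝓔.ideal V) ∧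
      IsSMulRegular (G.presheaf.stalk x) τ := by
    by_cases hxs : x ∈ 𝓔.support
    · haveI := hG x hxs
      obtain ⟨W, hxW, hWV, g, hg, hgI⟩ := EffCartier.exists_le_of_isEffCartier 𝓔 hE x V.1 hx
      refine ⟨X.presheaf.germ W.1 x hxW g, ?_, ?_⟩
      · have h1 : g ∈ 𝓔.ideal W := by
          rw [hgI]
          exact Ideal.mem_span_singleton_self g
        rw [← 𝓔.map_ideal (show W ≤ V from hWV)] at h1
        have h2 := Ideal.mem_map_of_mem (X.presheaf.germ W.1 x hxW).hom h1
        rw [Ideal.map_map] at h2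
        have h3 : (X.presheaf.germ W.1 x hxW).hom.comp
            (X.presheaf.map (homOfLE (show W ≤ V from hWV)).op).hom =
            (X.presheaf.germ V.1 x hx).hom := by
          ext b
          exact X.presheaf.germ_res_apply (homOfLE hWV) x hxW b
        rw [h3] at h2
        exact h2
      · letI : Algebra Γ(X, W.1) (X.presheaf.stalk x) :=
          (X.presheaf.germ W.1 _ hxW).hom.toAlgebra
        haveI : IsLocalization.AtPrime (X.presheaf.stalk x)
            (W.2.primeIdealOf ⟨x, hxW⟩).asIdeal := W.2.isLocalization_stalk ⟨x, hxW⟩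
        have hτ : X.presheaf.germ W.1 x hxW g ∈ nonZeroDivisors (X.presheaf.stalk x) :=
          IsLocalization.map_nonZeroDivisors_le (W.2.primeIdealOf ⟨x, hxW⟩).asIdeal.primeCompl _
            (Submonoid.mem_map_of_mem _ hg)
        exact Module.Flat.isSMulRegular_of_nonZeroDivisors hτ
    · rw [Scheme.IdealSheafData.mem_support_iff_of_mem (U := V) hx,
        Scheme.mem_zeroLocus_iff] at hxs
      push_neg at hxs
      obtain ⟨a, ha, hxa⟩ := hxs
      refine ⟨X.presheaf.germ V.1 x hx a, Ideal.mem_map_of_mem _ ha, ?_⟩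
      have hu : IsUnit (X.presheaf.germ V.1 x hx a) := (X.mem_basicOpen a x hx).mp hxa
      exact hu.isSMulRegular _
  obtain ⟨τ, hτI, hτreg⟩ := key
  have hann : Ideal.map (X.presheaf.germ V.1 x hx).hom ((𝓔.ideal V) ^ n) ≤
      LinearMap.ker (LinearMap.toSpanSingleton (X.presheaf.stalk x) (G.presheaf.stalk x)
        (G.presheaf.germ V.1 x hx m)) := by
    rw [Ideal.map_le_iff_le_comap]
    intro a ha
    rw [Ideal.mem_comap, LinearMap.mem_ker, LinearMap.toSpanSingleton_apply]
    have h0 := hn a (by rw [Scheme.IdealSheafData.ideal_pow]; exact ha)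
    rw [← StalkDict.germ_smul G V.1 x hx a m, h0, map_zero]
  have hτn : τ ^ n ∈ Ideal.map (X.presheaf.germ V.1 x hx).hom ((𝓔.ideal V) ^ n) := by
    rw [Ideal.map_pow]
    exact Ideal.pow_mem_pow hτI n
  have h0 := hann hτn
  rw [LinearMap.mem_ker, LinearMap.toSpanSingleton_apply] at h0
  apply (hτreg.pow n)
  show τ ^ n • _ = τ ^ n • (0 : G.presheaf.stalk x)
  rw [h0, smul_zero]

end Groth.Agent.Lead.StrictFlat
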