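import Groth.Agent.Lead.StrictCoh
import Groth.Agent.Lead.BCMap7
import Groth.Agent.Helper4.AcycLocal
import Groth.Agent.Helper4.QcohEpi

/-!
# Strict transforms commute with affine pushforward
-/

set_option autoImplicit false
set_option linter.style.haveILetI false
universe u
open CategoryTheory CategoryTheory.Limits AlgebraicGeometry Opposite TopologicalSpace

namespace Groth.Agent.Lead.StrictPush
open Groth.Agent.Helper4 Groth.Agent.Lead.BCMap Scheme.Modules

variable {X S X' S' : Scheme.{u}} (f : X ⟶ S) (g : S' ⟶ S) (g' : X' ⟶ X) (f' : X' ⟶ S')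
  (h : IsPullback g' f' f g) (F : X.Modules) [F.IsQuasicoherent] [IsAffineHom f]
  (E : S'.IdealSheafData)
  (F' : X'.Modules) (π : (Scheme.Modules.pullback g').obj F ⟶ F')

/-- the candidate map -/
noncomputable def pi' : (Scheme.Modules.pullback g).obj ((pushforward f).obj F) ⟶
    (pushforward f').obj F' :=
  bcMap f g g' f' h.w F ≫ (pushforward f').map π

include h in
theorem main [Epi π]
    (hfg : ∀ x : S', ∃ (V : S'.Opens) (hV : IsAffineOpen V), x ∈ V ∧
      ∀ n, ((E ^ n).ideal ⟨V, hV⟩).FG)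
    (hker : ∀ (W : X'.affineOpens) (m : Γ((Scheme.Modules.pullback g').obj F, W.1)),
      π.app W.1 m = 0 ↔ BlowUp.KilledByPowerNear (E.comap f') _ W m) :
    Epi (pi' f g g' f' h F F' π) ∧
      ∀ (V : S'.affineOpens)
        (m : Γ((Scheme.Modules.pullback g).obj ((pushforward f).obj F), V.1)),
        (pi' f g g' f' h F F' π).app V.1 m = 0 ↔ BlowUp.KilledByPowerNear E _ V m := by
  haveI : IsAffineHom f' := MorphismProperty.of_isPullback (P := @IsAffineHom) h inferInstance
  haveI q3 : ((Scheme.Modules.pullback g').obj F).IsQuasicoherent :=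
    Groth.Agent.Lead.StalkPull.isQuasicoherent_pullbackObj g' _
  haveI hiso : IsIso (bcMap f g g' f' h.w F) := isIso_bcMap_of_isAffineHom f g g' f' h F
  -- the ideal on preimages of affines
  have hideal : ∀ (V : S'.affineOpens) (n : ℕ),
      ((E.comap f') ^ n).ideal ⟨f' ⁻¹ᵁ V.1, V.2.preimage f'⟩ =
        ((E ^ n).ideal V).map (f'.app V.1).hom := by
    intro V n
    rw [Scheme.IdealSheafData.ideal_pow, Scheme.IdealSheafData.ideal_pow]
    change ((E.comap f').ideal ⟨f' ⁻¹ᵁ V.1, V.2.preimage f'⟩) ^ n = ((E.ideal V) ^ n).map _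
    rw [Groth.Agent.Lead.ThickBC.ideal_comap_appLE f' E V ⟨f' ⁻¹ᵁ V.1, V.2.preimage f'⟩ le_rfl,
      Ideal.map_pow, ← Scheme.Hom.app_eq_appLE]
  -- `F'` is quasi-coherent
  haveI qF' : F'.IsQuasicoherent := by
    refine StrictCoh.isQuasicoherent_of_epi π (E.comap f') (fun x => ?_) hker
    obtain ⟨V, hV, hxV, hfgV⟩ := hfg (f' x)
    refine ⟨f' ⁻¹ᵁ V, hV.preimage f', hxV, fun n => ?_⟩
    rw [hideal ⟨V, hV⟩ n]
    exact (hfgV n).map _
  refine ⟨?_, fun V m => ?_⟩
  · -- epi
    haveI : Epi ((pushforward f').map π) := by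
      apply AcycLocal.epi_of_app_surjective_affine
      intro U hU
      rw [pushforward_map_app]
      exact QcohEpi.app_surjective_of_epi π (hU.preimage f')
    exact epi_comp _ _
  · -- the kernel condition
    have hbij : Function.Bijective ((bcMap f g g' f' h.w F).app V.1) :=
      ConcreteCategory.bijective_of_isIso _
    let βf : Γ((Scheme.Modules.pullback g).obj ((pushforward f).obj F), V.1) →
        Γ((Scheme.Modules.pullback g').obj F, f' ⁻¹ᵁ V.1) :=
      fun t => (bcMap f g g' f' h.w F).app V.1 t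
    have hsm : ∀ (a : Γ(S', V.1))
        (t : Γ((Scheme.Modules.pullback g).obj ((pushforward f).obj F), V.1)),
        βf (a • t) = (f'.app V.1 a) • βf t := by
      intro a t
      change (bcMap f g g' f' h.w F).app V.1 (a • t) = _
      rw [Hom.app_smul]
      rfl
    have hβ0 : βf 0 = 0 := by
      change (ConcreteCategory.hom ((bcMap f g g' f' h.w F).app V.1)) 0 = 0
      exact map_zero _
    have hinj : Function.Injective βf := hbij.1
    have hpi : (pi' f g g' f' h F F' π).app V.1 m = π.app (f' ⁻¹ᵁ V.1) (βf m) := rfl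
    rw [hpi]
    refine Iff.trans (hker ⟨f' ⁻¹ᵁ V.1, V.2.preimage f'⟩ (βf m)) ?_
    constructor
    · rintro ⟨n, hn⟩
      refine ⟨n, fun a ha => ?_⟩
      apply hinj
      rw [hβ0, hsm]
      exact hn (f'.app V.1 a) (by
        rw [hideal V n]
        exact Ideal.mem_map_of_mem _ ha)
    · rintro ⟨n, hn⟩
      refine ⟨n, fun a ha => ?_⟩
      rw [hideal V n] at ha
      refine Submodule.span_induction (p := fun a _ => a • βf m = 0) ?_ ?_ ?_ ?_ ha
      · rintro _ ⟨a', ha', rfl⟩
        have h2 := hsm a' m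
        rw [hn a' ha', hβ0] at h2
        exact h2.symm
      · rw [zero_smul]
      · intro x y _ _ hx hy
        rw [add_smul, hx, hy, add_zero]
      · intro c x _ hx
        rw [smul_eq_mul, mul_smul, hx, smul_zero]

end Groth.Agent.Lead.StrictPush

namespace Groth.Agent.Lead.StrictPush
open Groth.Agent.Helper4 Groth.Agent.Lead.BCMap Scheme.Modules

/-- S8922 -/
theorem s8922 {X Y S S' : Scheme.{u}} (hX : X ⟶ S) (hY : Y ⟶ S) (g : X ⟶ Y) [IsAffineHom g]
    (h : g ≫ hY = hX) (𝓘 : S.IdealSheafData) (b : S' ⟶ S) (hb : BlowUp.IsBlowUp b 𝓘)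
    (F : X.Modules) [F.IsQuasicoherent]
    (F' : (pullback hX b).Modules) (π : (Scheme.Modules.pullback (pullback.fst hX b)).obj F ⟶ F')
    (hπ : BlowUp.IsStrictTransform (pullback.fst hX b) (𝓘.comap hX) F F' π) :
    ∃ π' : (Scheme.Modules.pullback (pullback.fst hY b)).obj ((Scheme.Modules.pushforward g).obj F) ⟶
        (Scheme.Modules.pushforward (pullback.map hX b hY b g (𝟙 S') (𝟙 S)
          ((Category.comp_id hX).trans h.symm) ((Category.comp_id b).trans (Category.id_comp b).symm))).obj F',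
      BlowUp.IsStrictTransform (pullback.fst hY b) (𝓘.comap hY) ((Scheme.Modules.pushforward g).obj F)
        ((Scheme.Modules.pushforward (pullback.map hX b hY b g (𝟙 S') (𝟙 S)
          ((Category.comp_id hX).trans h.symm) ((Category.comp_id b).trans (Category.id_comp b).symm))).obj F') π' := by
  set f' := pullback.map hX b hY b g (𝟙 S') (𝟙 S)
    ((Category.comp_id hX).trans h.symm) ((Category.comp_id b).trans (Category.id_comp b).symm) with hf'
  have hfst : f' ≫ pullback.fst hY b = pullback.fst hX b ≫ g := by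
    rw [hf']
    exact pullback.lift_fst _ _ _
  have hsnd : f' ≫ pullback.snd hY b = pullback.snd hX b := by
    rw [hf']
    exact (pullback.lift_snd _ _ _).trans (Category.comp_id _)
  have hpb : IsPullback (pullback.fst hX b) f' g (pullback.fst hY b) := by
    refine IsPullback.of_bot ?_ hfst.symm (IsPullback.of_hasPullback hY b)
    rw [hsnd, h]
    exact IsPullback.of_hasPullback hX b
  set E := (𝓘.comap hY).comap (pullback.fst hY b) with hE
  have hEeq : E.comap f' = (𝓘.comap hX).comap (pullback.fst hX b) := by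
    rw [hE, ← Scheme.IdealSheafData.comap_comp, ← Scheme.IdealSheafData.comap_comp,
      ← Scheme.IdealSheafData.comap_comp, hfst, Category.assoc, h]
  have hE2 : E = (𝓘.comap b).comap (pullback.snd hY b) := by
    rw [hE, ← Scheme.IdealSheafData.comap_comp, ← Scheme.IdealSheafData.comap_comp,
      pullback.condition]
  have hfg : ∀ x : ↥(pullback hY b), ∃ (V : (pullback hY b).Opens) (hV : IsAffineOpen V), x ∈ V ∧
      ∀ n, ((E ^ n).ideal ⟨V, hV⟩).FG := by
    intro x
    obtain ⟨W, hxW, δ, -, hW⟩ := hb.1 (pullback.snd hY b x)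
    obtain ⟨_, ⟨V, hV : IsAffineOpen V, rfl⟩, hxV, hVW⟩ :=
      (pullback hY b).isBasis_affineOpens.exists_subset_of_mem_open
        (show x ∈ (((pullback.snd hY b) ⁻¹ᵁ W.1 : (pullback hY b).Opens) : Set _) from hxW)
        ((pullback.snd hY b) ⁻¹ᵁ W.1).isOpen
    refine ⟨V, hV, hxV, fun n => ?_⟩
    rw [Scheme.IdealSheafData.ideal_pow]
    change ((E.ideal ⟨V, hV⟩) ^ n).FG
    rw [hE2, Groth.Agent.Lead.ThickBC.ideal_comap_appLE (pullback.snd hY b) (𝓘.comap b) W ⟨V, hV⟩ hVW,
      hW, Ideal.map_span, Set.image_singleton]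
    exact Ideal.FG.pow (Submodule.fg_span_singleton _)
  haveI : Epi π := hπ.1
  have hker : ∀ (W : (pullback hX b).affineOpens)
      (m : Γ((Scheme.Modules.pullback (pullback.fst hX b)).obj F, W.1)),
      π.app W.1 m = 0 ↔ BlowUp.KilledByPowerNear (E.comap f') _ W m := by
    intro W m
    rw [hEeq]
    exact hπ.2 W m
  exact ⟨pi' g (pullback.fst hY b) (pullback.fst hX b) f' hpb F F' π,
    main g (pullback.fst hY b) (pullback.fst hX b) f' hpb F E F' π hfg hker⟩

end Groth.Agent.Lead.StrictPush
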