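import Mathlib
import Groth.Agent.Lead.ProperOver
import Groth.Agent.S0020
import Groth.Agent.S4357
import Groth.Agent.S2074

open CategoryTheory Limits AlgebraicGeometry

namespace Groth.Agent.Lead.SuppDesc
universe u

/-- range of a base change of a morphism -/
lemma range_of_isPullback {P X Y Z : Scheme.{u}} {a : P ⟶ X} {b : P ⟶ Y} {f : X ⟶ Z} {g : Y ⟶ Z}
    (sq : IsPullback a b f g) : Set.range b = g ⁻¹' Set.range f := by
  have e : b = sq.isoPullback.hom ≫ pullback.snd f g := by rw [sq.isoPullback_hom_snd]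
  have hs : Set.range ⇑sq.isoPullback.hom = Set.univ :=
    Set.range_eq_univ.mpr (sq.isoPullback.hom.homeomorph.surjective)
  rw [e, Scheme.Hom.comp_base, TopCat.coe_comp, Set.range_comp, hs, Set.image_univ,
    Scheme.Pullback.range_snd]

theorem main {I : Type u} [SmallCategory I] [IsCofiltered I]
    (D : I ⥤ Scheme.{u}) (c : Limits.Cone D) (hc : Limits.IsLimit c)
    [∀ (i j : I) (f : i ⟶ j), IsAffineHom (D.map f)] (i₀ : I) [CompactSpace (D.obj i₀)]
    [QuasiSeparatedSpace (D.obj i₀)] {X₀ Y₀ : Scheme.{u}} (f₀ : X₀ ⟶ Y₀) (g₀ : Y₀ ⟶ D.obj i₀)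
    [CompactSpace X₀] [QuasiSeparatedSpace X₀] [CompactSpace Y₀] [QuasiSeparatedSpace Y₀]
    [LocallyOfFiniteType f₀] (F₀ : X₀.Modules) [Coh.IsQCoh F₀] (hF₀ : CohB1.IsFT F₀)
    {X Y : Scheme.{u}} (f : X ⟶ Y) (g : Y ⟶ c.pt) (qY : Y ⟶ Y₀) (qX : X ⟶ X₀)
    (hY : IsPullback qY g g₀ (c.π.app i₀)) (hX : IsPullback qX f f₀ qY)
    (hF : ClSub.IsProperOver f (CohB1.support ((Scheme.Modules.pullback qX).obj F₀))) :
    ∃ (i : I) (φ : i ⟶ i₀) (Xi Yi : Scheme.{u}) (fi : Xi ⟶ Yi) (gi : Yi ⟶ D.obj i) (pY : Yi ⟶ Y₀)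
      (pX : Xi ⟶ X₀), IsPullback pY gi g₀ (D.map φ) ∧ IsPullback pX fi f₀ pY ∧
      ClSub.IsProperOver fi (CohB1.support ((Scheme.Modules.pullback pX).obj F₀)) := by
  have hZ₀ : IsClosed (CohB1.support F₀) := Groth.Agent.S0020.result X₀ F₀ hF₀
  let 𝓘 := Scheme.IdealSheafData.vanishingIdeal ⟨CohB1.support F₀, hZ₀⟩
  let i₀' : 𝓘.subscheme ⟶ X₀ := 𝓘.subschemeι
  have hr₀ : Set.range i₀' = CohB1.support F₀ := by
    rw [Scheme.IdealSheafData.range_subschemeι, Scheme.IdealSheafData.coe_support_vanishingIdeal]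
    rfl
  have : CompactSpace 𝓘.subscheme := QuasiCompact.compactSpace_of_compactSpace i₀'
  have : QuasiSeparatedSpace 𝓘.subscheme := quasiSeparatedSpace_of_quasiSeparated i₀'
  have hlft : LocallyOfFiniteType f := MorphismProperty.of_isPullback hX inferInstance
  -- the closed subscheme of `X`
  have sqT : IsPullback (pullback.fst i₀' qX) (pullback.snd i₀' qX) i₀' qX :=
    IsPullback.of_hasPullback _ _
  have hrT : Set.range (pullback.snd i₀' qX) =
      CohB1.support ((Scheme.Modules.pullback qX).obj F₀) := by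
    rw [range_of_isPullback sqT, hr₀, Groth.Agent.S4357.result qX F₀ hF₀]
  have hprop : IsProper (pullback.snd i₀' qX ≫ f) :=
    (ProperOver.isProperOver_iff_of_range_eq f (pullback.snd i₀' qX) _ hrT).mp hF
  obtain ⟨i, φ, Ti, Yi, hi, gi, pY, pT, s1, s2, hp⟩ := Groth.Agent.S2074.result D c hc i₀
    (i₀' ≫ f₀) g₀ (pullback.snd i₀' qX ≫ f) g qY (pullback.fst i₀' qX) hY (sqT.paste_vert hX)
  let k : Ti ⟶ pullback f₀ pY := pullback.lift (pT ≫ i₀') hi (by rw [Category.assoc, s2.w])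
  have hk : k ≫ pullback.snd f₀ pY = hi := pullback.lift_snd _ _ _
  have sqk : IsPullback pT k i₀' (pullback.fst f₀ pY) := by
    refine IsPullback.of_bot ?_ (pullback.lift_fst _ _ _).symm (IsPullback.of_hasPullback f₀ pY)
    rw [hk]
    exact s2
  have : IsClosedImmersion k := MorphismProperty.of_isPullback sqk inferInstance
  have : LocallyOfFiniteType (pullback.snd f₀ pY) := MorphismProperty.pullback_snd _ _ inferInstance
  have hrk : Set.range k =
      CohB1.support ((Scheme.Modules.pullback (pullback.fst f₀ pY)).obj F₀) := by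
    rw [range_of_isPullback sqk, hr₀, Groth.Agent.S4357.result (pullback.fst f₀ pY) F₀ hF₀]
  refine ⟨i, φ, pullback f₀ pY, Yi, pullback.snd f₀ pY, gi, pY, pullback.fst f₀ pY, s1,
    IsPullback.of_hasPullback _ _, ?_⟩
  rw [ProperOver.isProperOver_iff_of_range_eq (pullback.snd f₀ pY) k _ hrk, hk]
  exact hp

end Groth.Agent.Lead.SuppDesc
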