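import Groth.Agent.Lead.AnnSheaf
import Groth.Agent.Helper4.FinLocFree5
import Mathlib

/-!
# Lead: support inside a closed set iff killed by a power of a finite type ideal of definition
-/

set_option autoImplicit false
open CategoryTheory AlgebraicGeometry Opposite TopologicalSpace
universe u

namespace Groth.Agent.Lead.SuppIdeal
open Scheme.Modules Groth.Agent.Helper4

theorem main (X : Scheme.{u}) [CompactSpace X]
    (I₀ : X.IdealSheafData) (hI₀ : ∀ V : X.affineOpens, (I₀.ideal V).FG)
    (F : X.Modules) [F.IsQuasicoherent]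
    (hF : SheafOfModules.IsFiniteType (R := X.ringCatSheaf) F) :
    CohB1.support F ⊆ (I₀.support : Set X) ↔
      ∃ I : X.IdealSheafData, (∀ V : X.affineOpens, (I.ideal V).FG) ∧
        (I.support : Set X) = (I₀.support : Set X) ∧
        ∀ (V : X.affineOpens) (a : Γ(X, V)), a ∈ I.ideal V →
          ∀ m : Γ(F, V.1), a • m = 0 := by
  obtain ⟨J, hJ, -, -, hsupp⟩ := AnnSheaf.main F hF
  constructor
  · intro h
    have key : ∀ V : X.affineOpens, ∃ k : ℕ, (I₀.ideal V) ^ k ≤ J.ideal V := by
      intro V
      apply Ideal.exists_pow_le_of_le_radical_of_fg _ (hI₀ V)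
      rw [← PrimeSpectrum.zeroLocus_subset_zeroLocus_iff]
      intro P hP
      obtain ⟨y, hy, rfl⟩ := FinLocFree5.exists_point_of_prime V.2 P
      rw [← AnnSheaf.mem_zeroLocus_iff V.2 _ y hy] at hP ⊢
      rw [← Scheme.IdealSheafData.mem_support_iff_of_mem (U := V) hy] at hP ⊢
      apply h
      rw [← hsupp]
      exact hP
    choose k hk using key
    have hex : ∀ x : X, ∃ U : X.Opens, IsAffineOpen U ∧ x ∈ U := by
      intro x
      obtain ⟨_, ⟨U, hU : IsAffineOpen U, rfl⟩, hxU, -⟩ :=
        X.isBasis_affineOpens.exists_subset_of_mem_open (Set.mem_univ x) isOpen_univ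
      exact ⟨U, hU, hxU⟩
    choose U hU hxU using hex
    obtain ⟨t, ht⟩ := isCompact_univ.elim_finite_subcover (fun x => ((U x : X.Opens) : Set X))
      (fun x => (U x).isOpen) (fun x _ => Set.mem_iUnion.mpr ⟨x, hxU x⟩)
    let n := (t.sup fun x => k ⟨U x, hU x⟩) + 1
    refine ⟨I₀ ^ n, ?_, ?_, ?_⟩
    · intro V
      rw [Scheme.IdealSheafData.ideal_pow]
      exact Submodule.FG.pow (hI₀ V) n
    · exact congrArg _ (Scheme.IdealSheafData.support_pow _ _ (Nat.succ_ne_zero _))
    · have hle : I₀ ^ n ≤ J := by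
        apply Scheme.IdealSheafData.le_of_iSup_eq_top (fun x : t => (⟨U x.1, hU x.1⟩ : X.affineOpens))
        · rw [eq_top_iff]
          intro y _
          have hy := ht (Set.mem_univ y)
          simp only [Set.mem_iUnion] at hy
          obtain ⟨x, hxt, hyx⟩ := hy
          exact Opens.mem_iSup.mpr ⟨⟨x, hxt⟩, hyx⟩
        · intro x
          rw [Scheme.IdealSheafData.ideal_pow]
          refine le_trans (Ideal.pow_le_pow_right ?_) (hk _)
          exact (Finset.le_sup (f := fun x => k ⟨U x, hU x⟩) x.2).trans (Nat.le_succ _)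
      intro V a ha m
      have h1 := hle V ha
      rw [hJ] at h1
      exact Module.mem_annihilator.mp h1 m
  · rintro ⟨I, -, hIs, hI⟩
    have hle : I ≤ J := by
      intro V a ha
      rw [hJ]
      exact Module.mem_annihilator.mpr (hI V a ha)
    rw [← hsupp, ← hIs]
    exact Scheme.IdealSheafData.support_antitone hle

end Groth.Agent.Lead.SuppIdeal
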