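import Mathlib

/-!
# Injectivity of `Sym_{A₀}(Q) → A` for a formally smooth algebra with a retraction

`A` formally smooth over `R`, `A₀ → A` with an `A₀`-algebra retraction `p₀`, `I = ker p₀`,
`Q ⊆ I` a finite projective `A₀`-submodule with `Q ∩ I² = 0`.  If `Sym(Q) → A` is surjective, it is
injective.
-/

set_option autoImplicit false
universe u

open MvPolynomial

namespace Groth.Agent.Lead.SymSm

variable {R A₀ A : Type u} [CommRing R] [CommRing A₀] [CommRing A] [Algebra R A₀] [Algebra R A]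
  [Algebra A₀ A] [IsScalarTower R A₀ A]

section Decomp

variable (Q : Submodule A₀ A)

/-- The augmentation ideal of the symmetric algebra. -/
noncomputable def augIdeal : Ideal (SymmetricAlgebra A₀ Q) :=
  RingHom.ker (SymmetricAlgebra.algebraMapInv (R := A₀) (M := Q)).toRingHom

lemma mem_augIdeal (x : SymmetricAlgebra A₀ Q) :
    x ∈ augIdeal Q ↔ SymmetricAlgebra.algebraMapInv (R := A₀) (M := Q) x = 0 := Iff.rfl

lemma ι_mem_augIdeal (q : Q) : SymmetricAlgebra.ι A₀ Q q ∈ augIdeal Q := by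
  rw [mem_augIdeal]; exact SymmetricAlgebra.algebraMapInv_ι q

/-- Every element of the symmetric algebra is constant + linear + (element of `J²`). -/
lemma exists_decomp (x : SymmetricAlgebra A₀ Q) :
    ∃ (a : A₀) (q : Q), x - algebraMap A₀ _ a - SymmetricAlgebra.ι A₀ Q q ∈ augIdeal Q ^ 2 := by
  induction x using SymmetricAlgebra.induction with
  | algebraMap r => exact ⟨r, 0, by simp⟩
  | ι x => exact ⟨0, x, by simp⟩
  | add x y hx hy =>
    obtain ⟨a, q, h⟩ := hx
    obtain ⟨a', q', h'⟩ := hy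
    refine ⟨a + a', q + q', ?_⟩
    have : x + y - algebraMap A₀ _ (a + a') - SymmetricAlgebra.ι A₀ Q (q + q') =
        (x - algebraMap A₀ _ a - SymmetricAlgebra.ι A₀ Q q) +
        (y - algebraMap A₀ _ a' - SymmetricAlgebra.ι A₀ Q q') := by
      rw [map_add, map_add]; ring
    rw [this]
    exact Ideal.add_mem _ h h'
  | mul x y hx hy =>
    obtain ⟨a, q, h⟩ := hx
    obtain ⟨a', q', h'⟩ := hy
    refine ⟨a * a', a • q' + a' • q, ?_⟩
    set j := x - algebraMap A₀ _ a - SymmetricAlgebra.ι A₀ Q q with hj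
    set j' := y - algebraMap A₀ _ a' - SymmetricAlgebra.ι A₀ Q q' with hj'
    have hJ : augIdeal Q ^ 2 ≤ augIdeal Q := Ideal.pow_le_self two_ne_zero
    have : x * y - algebraMap A₀ _ (a * a') - SymmetricAlgebra.ι A₀ Q (a • q' + a' • q) =
        SymmetricAlgebra.ι A₀ Q q * SymmetricAlgebra.ι A₀ Q q' + algebraMap A₀ _ a * j' +
        algebraMap A₀ _ a' * j + SymmetricAlgebra.ι A₀ Q q * j' +
        SymmetricAlgebra.ι A₀ Q q' * j + j * j' := by
      rw [hj, hj', map_mul, map_add, map_smul, map_smul, Algebra.smul_def, Algebra.smul_def]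
      ring
    rw [this]
    refine Ideal.add_mem _ (Ideal.add_mem _ (Ideal.add_mem _ (Ideal.add_mem _ (Ideal.add_mem _
      ?_ ?_) ?_) ?_) ?_) ?_
    · rw [pow_two]; exact Ideal.mul_mem_mul (ι_mem_augIdeal Q q) (ι_mem_augIdeal Q q')
    · exact Ideal.mul_mem_left _ _ h'
    · exact Ideal.mul_mem_left _ _ h
    · exact Ideal.mul_mem_left _ _ h'
    · exact Ideal.mul_mem_left _ _ h
    · exact Ideal.mul_mem_left _ _ h'

end Decomp

section Inj

variable (p₀ : A →ₐ[A₀] A₀) (Q : Submodule A₀ A)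

/-- the canonical map `Sym(Q) → A` -/
noncomputable def phi : SymmetricAlgebra A₀ Q →ₐ[A₀] A := SymmetricAlgebra.lift Q.subtype

lemma phi_ι (q : Q) : phi Q (SymmetricAlgebra.ι A₀ Q q) = (q : A) := by
  simp [phi]

variable (hQI : ∀ q ∈ Q, p₀ q = 0)
include hQI

lemma p₀_phi (x : SymmetricAlgebra A₀ Q) :
    p₀ (phi Q x) = SymmetricAlgebra.algebraMapInv (R := A₀) (M := Q) x := by
  have : p₀.comp (phi Q) = SymmetricAlgebra.algebraMapInv (R := A₀) (M := Q) := by
    apply SymmetricAlgebra.algHom_ext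
    ext q
    change p₀ (phi Q (SymmetricAlgebra.ι A₀ Q q)) =
      SymmetricAlgebra.algebraMapInv (R := A₀) (M := Q) (SymmetricAlgebra.ι A₀ Q q)
    rw [phi_ι, SymmetricAlgebra.algebraMapInv_ι]
    exact hQI q q.2
  exact AlgHom.congr_fun this x

lemma phi_mem_ker_of_mem_augIdeal {x : SymmetricAlgebra A₀ Q} (hx : x ∈ augIdeal Q) :
    phi Q x ∈ RingHom.ker p₀.toRingHom := by
  rw [RingHom.mem_ker]
  change p₀ (phi Q x) = 0
  rw [p₀_phi p₀ Q hQI]; exact hx

lemma phi_mem_ker_sq {x : SymmetricAlgebra A₀ Q} (hx : x ∈ augIdeal Q ^ 2) :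
    phi Q x ∈ RingHom.ker p₀.toRingHom ^ 2 := by
  have h1 : (augIdeal Q).map (phi Q).toRingHom ≤ RingHom.ker p₀.toRingHom := by
    rw [Ideal.map_le_iff_le_comap]
    intro y hy
    exact phi_mem_ker_of_mem_augIdeal p₀ Q hQI hy
  have h2 : (phi Q).toRingHom x ∈ ((augIdeal Q) ^ 2).map (phi Q).toRingHom :=
    Ideal.mem_map_of_mem _ hx
  rw [Ideal.map_pow] at h2
  exact Ideal.pow_right_mono h1 2 h2

variable (hQ2 : ∀ q ∈ Q, q ∈ RingHom.ker p₀.toRingHom ^ 2 → q = 0)
include hQ2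

lemma ker_phi_le_sq : RingHom.ker (phi Q).toRingHom ≤ augIdeal Q ^ 2 := by
  intro x hx
  rw [RingHom.mem_ker] at hx
  change phi Q x = 0 at hx
  obtain ⟨a, q, h⟩ := exists_decomp Q x
  set j := x - algebraMap A₀ _ a - SymmetricAlgebra.ι A₀ Q q with hj
  have hJ : augIdeal Q ^ 2 ≤ augIdeal Q := Ideal.pow_le_self two_ne_zero
  have hx' : x = algebraMap A₀ _ a + SymmetricAlgebra.ι A₀ Q q + j := by rw [hj]; ring
  -- `a = 0`
  have ha : a = 0 := by
    have h1 : SymmetricAlgebra.algebraMapInv (R := A₀) (M := Q) x = a := by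
      rw [hx', map_add, map_add, SymmetricAlgebra.algebraMapInv_ι,
        (mem_augIdeal Q j).mp (hJ h), add_zero, add_zero]
      simp
    rw [← h1, ← p₀_phi p₀ Q hQI, hx, map_zero]
  -- `q = 0`
  have hq : (q : A) = - phi Q j := by
    have := hx
    rw [hx', map_add, map_add, phi_ι, ha, map_zero, map_zero, zero_add] at this
    exact eq_neg_of_add_eq_zero_left this
  have hq0 : q = 0 := by
    have h2 : (q : A) ∈ RingHom.ker p₀.toRingHom ^ 2 := by
      rw [hq]; exact neg_mem (phi_mem_ker_sq p₀ Q hQI h)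
    exact Subtype.ext (hQ2 q q.2 h2)
  rw [hx', ha, hq0, map_zero, map_zero, zero_add, zero_add]
  exact h

omit hQ2 hQI in
/-- Formal smoothness step: `K ≤ J * K` for `K = ker φ`, given `K ≤ J²`, `K ≤ J`. -/
lemma ker_le_mul [Algebra.FormallySmooth R A]
    (hsurj : Function.Surjective (phi Q))
    (J : Ideal (SymmetricAlgebra A₀ Q))
    (hKJ2 : RingHom.ker (phi Q).toRingHom ≤ J ^ 2) :
    RingHom.ker (phi Q).toRingHom ≤ J * RingHom.ker (phi Q).toRingHom := by
  classical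
  set φR : SymmetricAlgebra A₀ Q →ₐ[R] A := (phi Q).restrictScalars R with hφR
  set K : Ideal (SymmetricAlgebra A₀ Q) := RingHom.ker φR.toRingHom with hK
  have hKeq : RingHom.ker (phi Q).toRingHom = K := rfl
  rw [hKeq] at hKJ2 ⊢
  have hKJ : K ≤ J := hKJ2.trans (Ideal.pow_le_self two_ne_zero)
  have hsurj' : Function.Surjective φR.kerSquareLift := by
    intro a
    obtain ⟨x, rfl⟩ := hsurj a
    exact ⟨Ideal.Quotient.mk _ x, AlgHom.kerSquareLift_mk φR x⟩
  have sqz : IsNilpotent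
      (RingHom.ker (φR.kerSquareLift : (SymmetricAlgebra A₀ Q ⧸ K ^ 2) →+* A)) := by
    refine ⟨2, ?_⟩
    have : RingHom.ker (φR.kerSquareLift : (SymmetricAlgebra A₀ Q ⧸ K ^ 2) →+* A) =
        K.cotangentIdeal :=
      AlgHom.ker_kerSquareLift φR
    rw [this, Ideal.cotangentIdeal_square]; rfl
  set τ : A →ₐ[R] SymmetricAlgebra A₀ Q ⧸ K ^ 2 :=
    Algebra.FormallySmooth.liftOfSurjective (AlgHom.id R A) φR.kerSquareLift hsurj' sqz with hτ
  have hτ' : ∀ a : A, φR.kerSquareLift (τ a) = a := fun a =>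
    Algebra.FormallySmooth.liftOfSurjective_apply (AlgHom.id R A) φR.kerSquareLift hsurj' sqz a
  -- `δ y ∈ mk K`
  have hδ : ∀ y : SymmetricAlgebra A₀ Q, ∃ k ∈ K,
      Ideal.Quotient.mk (K ^ 2) y - τ (φR y) = Ideal.Quotient.mk (K ^ 2) k := by
    intro y
    obtain ⟨b', hb'⟩ := Ideal.Quotient.mk_surjective (Ideal.Quotient.mk (K ^ 2) y - τ (φR y))
    refine ⟨b', ?_, hb'.symm⟩
    rw [hK, RingHom.mem_ker]
    change φR b' = 0
    rw [← AlgHom.kerSquareLift_mk φR b', hb', map_sub, AlgHom.kerSquareLift_mk, hτ', sub_self]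
  -- main claim on `J * J`
  have hmain : ∀ x ∈ J * J, ∃ w ∈ J * K,
      Ideal.Quotient.mk (K ^ 2) x - τ (φR x) = Ideal.Quotient.mk (K ^ 2) w := by
    intro x hx
    refine Submodule.mul_induction_on hx ?_ ?_
    · intro y hy z hz
      obtain ⟨ky, hky, ey⟩ := hδ y
      obtain ⟨kz, hkz, ez⟩ := hδ z
      refine ⟨y * kz + z * ky - ky * kz, ?_, ?_⟩
      · refine Ideal.sub_mem _ (Ideal.add_mem _ (Ideal.mul_mem_mul hy hkz)
          (Ideal.mul_mem_mul hz hky)) (Ideal.mul_mem_mul (hKJ hky) hkz)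
      · have e1 : τ (φR y) = Ideal.Quotient.mk (K ^ 2) (y - ky) := by
          rw [map_sub, ← ey]; ring
        have e2 : τ (φR z) = Ideal.Quotient.mk (K ^ 2) (z - kz) := by
          rw [map_sub, ← ez]; ring
        rw [map_mul φR, map_mul τ, e1, e2, ← map_mul, ← map_sub]
        congr 1; ring
    · rintro x y ⟨w, hw, e⟩ ⟨w', hw', e'⟩
      refine ⟨w + w', Ideal.add_mem _ hw hw', ?_⟩
      rw [map_add φR, map_add τ, map_add, map_add, ← e, ← e']; ring
  intro x hx
  have hxJ : x ∈ J * J := by rw [← pow_two]; exact hKJ2 hx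
  obtain ⟨w, hw, e⟩ := hmain x hxJ
  have hφx : φR x = 0 := hx
  rw [hφx, map_zero, sub_zero, Ideal.Quotient.eq] at e
  have h3 : K ^ 2 ≤ J * K := by
    rw [pow_two]; exact Ideal.mul_mono_left hKJ
  have : x = w + (x - w) := by ring
  rw [this]
  exact Ideal.add_mem _ hw (h3 e)

omit hQ2 hQI in
lemma ker_le_pow_of_le_mul (J K : Ideal (SymmetricAlgebra A₀ Q)) (h : K ≤ J * K) (d : ℕ) :
    K ≤ J ^ d := by
  induction d with
  | zero => simp
  | succ d ih =>
    rw [pow_succ']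
    exact h.trans (Ideal.mul_mono_right ih)

end Inj

section Sep

variable (Q : Submodule A₀ A) {m : ℕ} (e : Q →ₗ[A₀] (Fin m → A₀)) (r : (Fin m → A₀) →ₗ[A₀] Q)

/-- the linear map `Q → A₀[X₁..X_m]`, `q ↦ ∑ eᵢ(q) Xᵢ` -/
noncomputable def psi₁ : Q →ₗ[A₀] MvPolynomial (Fin m) A₀ :=
  ∑ i : Fin m, ((LinearMap.proj i).comp e).smulRight (X i : MvPolynomial (Fin m) A₀)

lemma psi₁_apply (q : Q) : psi₁ Q e q = ∑ i : Fin m, (e q i) • (X i : MvPolynomial (Fin m) A₀) := by
  simp [psi₁, LinearMap.sum_apply]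

noncomputable def Psi : SymmetricAlgebra A₀ Q →ₐ[A₀] MvPolynomial (Fin m) A₀ :=
  SymmetricAlgebra.lift (psi₁ Q e)

noncomputable def Psi' : MvPolynomial (Fin m) A₀ →ₐ[A₀] SymmetricAlgebra A₀ Q :=
  MvPolynomial.aeval (fun i => SymmetricAlgebra.ι A₀ Q (r (Pi.single i 1)))

lemma Psi'_Psi (her : r.comp e = LinearMap.id) (x : SymmetricAlgebra A₀ Q) :
    Psi' Q r (Psi Q e x) = x := by
  have : (Psi' Q r).comp (Psi Q e) = AlgHom.id A₀ _ := by
    apply SymmetricAlgebra.algHom_ext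
    ext q
    change Psi' Q r (Psi Q e (SymmetricAlgebra.ι A₀ Q q)) = SymmetricAlgebra.ι A₀ Q q
    rw [Psi, SymmetricAlgebra.lift_ι_apply, psi₁_apply, map_sum]
    simp only [map_smul, Psi', MvPolynomial.aeval_X]
    simp only [← map_smul, ← map_sum]
    have h1 : ∑ i : Fin m, (e q i) • (Pi.single i (1 : A₀) : Fin m → A₀) = e q := by
      ext j
      simp [Finset.sum_apply, Pi.single_apply]
    rw [h1]
    have := LinearMap.congr_fun her q
    simp only [LinearMap.comp_apply, LinearMap.id_apply] at this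
    rw [this]
  exact AlgHom.congr_fun this x

lemma Psi_injective (her : r.comp e = LinearMap.id) : Function.Injective (Psi Q e) :=
  Function.LeftInverse.injective (Psi'_Psi Q e r her)

lemma aeval_zero_Psi (x : SymmetricAlgebra A₀ Q) :
    MvPolynomial.aeval (0 : Fin m → A₀) (Psi Q e x) =
      SymmetricAlgebra.algebraMapInv (R := A₀) (M := Q) x := by
  have : (MvPolynomial.aeval (0 : Fin m → A₀)).comp (Psi Q e) =
      SymmetricAlgebra.algebraMapInv (R := A₀) (M := Q) := by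
    apply SymmetricAlgebra.algHom_ext
    ext q
    change MvPolynomial.aeval (0 : Fin m → A₀) (Psi Q e (SymmetricAlgebra.ι A₀ Q q)) =
      SymmetricAlgebra.algebraMapInv (R := A₀) (M := Q) (SymmetricAlgebra.ι A₀ Q q)
    rw [Psi, SymmetricAlgebra.lift_ι_apply, psi₁_apply, map_sum,
      SymmetricAlgebra.algebraMapInv_ι]
    simp
  exact AlgHom.congr_fun this x

lemma Psi_mem_idealOfVars {x : SymmetricAlgebra A₀ Q} (hx : x ∈ augIdeal Q) :
    Psi Q e x ∈ MvPolynomial.idealOfVars (Fin m) A₀ := by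
  have h1 : MvPolynomial.aeval (0 : Fin m → A₀) (Psi Q e x) = 0 := by
    rw [aeval_zero_Psi]; exact hx
  have h2 : Psi Q e x ∈ MvPolynomial.idealOfVars (Fin m) A₀ ^ 1 := by
    rw [MvPolynomial.mem_pow_idealOfVars_iff']
    intro y hy
    have hy0 : y = 0 := by
      have : y.degree = 0 := by omega
      exact (Finsupp.degree_eq_zero_iff y).mp this
    rw [hy0]
    have := h1
    rw [MvPolynomial.aeval_zero] at this
    simpa [MvPolynomial.constantCoeff_eq] using this
  simpa using h2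

lemma eq_zero_of_forall_mem_pow (her : r.comp e = LinearMap.id) {x : SymmetricAlgebra A₀ Q}
    (hx : ∀ d : ℕ, x ∈ augIdeal Q ^ d) : x = 0 := by
  apply Psi_injective Q e r her
  rw [map_zero]
  have hmap : (augIdeal Q).map (Psi Q e).toRingHom ≤ MvPolynomial.idealOfVars (Fin m) A₀ := by
    rw [Ideal.map_le_iff_le_comap]
    intro y hy
    exact Psi_mem_idealOfVars Q e hy
  ext y
  have h1 : (Psi Q e).toRingHom x ∈ ((augIdeal Q) ^ (y.degree + 1)).map (Psi Q e).toRingHom :=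
    Ideal.mem_map_of_mem _ (hx _)
  rw [Ideal.map_pow] at h1
  have h2 := Ideal.pow_right_mono hmap (y.degree + 1) h1
  rw [MvPolynomial.mem_pow_idealOfVars_iff'] at h2
  simpa using h2 y (Nat.lt_succ_self _)

end Sep

section Main

variable (p₀ : A →ₐ[A₀] A₀) (Q : Submodule A₀ A)

/-- **Main injectivity statement.** -/
theorem phi_bijective [Algebra.FormallySmooth R A] [Module.Finite A₀ Q] [Module.Projective A₀ Q]
    (hQI : ∀ q ∈ Q, p₀ q = 0)
    (hQ2 : ∀ q ∈ Q, q ∈ RingHom.ker p₀.toRingHom ^ 2 → q = 0)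
    (hsurj : Function.Surjective (phi Q)) : Function.Bijective (phi Q) := by
  refine ⟨?_, hsurj⟩
  obtain ⟨m, r, hr⟩ := Module.Finite.exists_fin' A₀ Q
  obtain ⟨e, he⟩ := Module.projective_lifting_property r LinearMap.id hr
  have hK2 := ker_phi_le_sq p₀ Q hQI hQ2
  have hK := ker_le_mul (R := R) Q hsurj (augIdeal Q) hK2
  have hKd := ker_le_pow_of_le_mul Q _ _ hK
  rw [injective_iff_map_eq_zero]
  intro x hx
  exact eq_zero_of_forall_mem_pow Q e r he (fun d => hKd d hx)

end Main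

end Groth.Agent.Lead.SymSm
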