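import Mathlib

/-!
# Jacobian splitting for a formally smooth quotient of a formally smooth algebra
-/

set_option autoImplicit false
universe u

open KaehlerDifferential TensorProduct

namespace Groth.Agent.Lead.SymSm

variable {R P C : Type u} [CommRing R] [CommRing P] [CommRing C] [Algebra R P] [Algebra R C]
  [Algebra P C] [IsScalarTower R P C]

/-- For a surjection `P → C` of formally smooth `R`-algebras with kernel `K` and `Ω_{P/R}` finite,
there are finitely many derivations `dᵢ` of `P` and elements `yᵢ ∈ K` with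
`x ≡ ∑ dᵢ(x) yᵢ mod K²` for all `x ∈ K`. -/
theorem exists_jac [Algebra.FormallySmooth R P] [Module.Finite P Ω[P⁄R]]
    [Algebra.FormallySmooth R C] (hsurj : Function.Surjective (algebraMap P C)) :
    ∃ (m : ℕ) (d : Fin m → Derivation R P P) (y : Fin m → P),
      (∀ i, y i ∈ RingHom.ker (algebraMap P C)) ∧
      ∀ x ∈ RingHom.ker (algebraMap P C),
        x - ∑ i, d i x * y i ∈ RingHom.ker (algebraMap P C) ^ 2 := by
  classical
  obtain ⟨l, hl⟩ := (Algebra.FormallySmooth.iff_split_injection (R := R) hsurj).mp inferInstance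
  obtain ⟨m, g, hg⟩ := Module.Finite.exists_fin' P Ω[P⁄R]
  obtain ⟨s, hs⟩ := Module.projective_lifting_property g LinearMap.id hg
  let ω : Fin m → Ω[P⁄R] := fun i => g (Pi.single i 1)
  let f : Fin m → (Ω[P⁄R] →ₗ[P] P) := fun i => (LinearMap.proj i).comp s
  let d : Fin m → Derivation R P P := fun i => (f i).compDer (KaehlerDifferential.D R P)
  have hy : ∀ i, ∃ y : RingHom.ker (algebraMap P C), (RingHom.ker (algebraMap P C)).toCotangent y = l ((1 : C) ⊗ₜ[P] ω i) := fun i =>
    Ideal.toCotangent_surjective _ _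
  choose y hy using hy
  refine ⟨m, d, fun i => (y i : P), fun i => (y i).2, ?_⟩
  intro x hx
  -- `D x = ∑ fᵢ(D x) • ωᵢ`
  have hD : KaehlerDifferential.D R P x = ∑ i, (d i x) • ω i := by
    have h1 : g (s (KaehlerDifferential.D R P x)) = KaehlerDifferential.D R P x := by
      have := LinearMap.congr_fun hs (KaehlerDifferential.D R P x)
      simpa using this
    have h2 : s (KaehlerDifferential.D R P x) =
        ∑ i, (s (KaehlerDifferential.D R P x) i) • (Pi.single i (1 : P) : Fin m → P) := by
      ext j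
      simp [Finset.sum_apply, Pi.single_apply]
    rw [← h1]
    conv_lhs => rw [h2]
    rw [map_sum]
    refine Finset.sum_congr rfl fun i _ => ?_
    rw [map_smul]
    rfl
  have h3 : l (KaehlerDifferential.kerCotangentToTensor R P C ((RingHom.ker (algebraMap P C)).toCotangent ⟨x, hx⟩)) =
      (RingHom.ker (algebraMap P C)).toCotangent ⟨x, hx⟩ := by
    have := LinearMap.congr_fun hl ((RingHom.ker (algebraMap P C)).toCotangent ⟨x, hx⟩)
    simpa using this
  rw [KaehlerDifferential.kerCotangentToTensor_toCotangent] at h3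
  have h4 : ((1 : C) ⊗ₜ[P] (KaehlerDifferential.D R P) x : C ⊗[P] Ω[P⁄R]) =
      ∑ i, (d i x) • ((1 : C) ⊗ₜ[P] ω i) := by
    rw [hD, TensorProduct.tmul_sum]
    refine Finset.sum_congr rfl fun i _ => ?_
    rw [TensorProduct.tmul_smul]
  have h5 : (RingHom.ker (algebraMap P C)).toCotangent ⟨x, hx⟩ = (RingHom.ker (algebraMap P C)).toCotangent (∑ i, (d i x) • y i) := by
    rw [← h3]
    change l ((1 : C) ⊗ₜ[P] (KaehlerDifferential.D R P) x) = _
    rw [h4, map_sum, map_sum]
    refine Finset.sum_congr rfl fun i _ => ?_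
    rw [map_smul, map_smul, hy]
  have h6 : (RingHom.ker (algebraMap P C)).toCotangent (⟨x, hx⟩ - ∑ i, (d i x) • y i) = 0 := by
    rw [map_sub, h5, sub_self]
  rw [Ideal.toCotangent_eq_zero] at h6
  convert h6 using 1
  simp

/-- A retract of a formally smooth algebra is formally smooth. -/
theorem formallySmooth_of_retract {R P C : Type u} [CommRing R] [CommRing P] [CommRing C]
    [Algebra R P] [Algebra R C] [Algebra.FormallySmooth R P]
    (π : P →ₐ[R] C) (s : C →ₐ[R] P) (h : π.comp s = AlgHom.id R C) :
    Algebra.FormallySmooth R C := by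
  refine Algebra.FormallySmooth.of_split π ((Ideal.Quotient.mkₐ R _).comp s) ?_
  ext x
  change π.kerSquareLift (Ideal.Quotient.mk _ (s x)) = x
  rw [AlgHom.kerSquareLift_mk]
  exact AlgHom.congr_fun h x

end Groth.Agent.Lead.SymSm
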