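import Mathlib
import Groth.Agent.Lead.SymSmA
import Groth.Agent.Lead.SymSmB

/-!
# Fine sharp monoids: strict divisibility is well-founded
-/

set_option autoImplicit false
set_option linter.style.haveILetI false
universe u

namespace Groth.Agent.Lead.SymSm

section Monoid

variable {N : Type*} [AddCommMonoid N]

/-- strict divisibility -/
def slt (i n : N) : Prop := ∃ j, j ≠ 0 ∧ i + j = n

lemma eq_zero_of_add_eq_zero (hsharp : ∀ n : N, IsAddUnit n → n = 0) {i j : N}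
    (h : i + j = 0) : i = 0 ∧ j = 0 := by
  refine ⟨hsharp i ?_, hsharp j ?_⟩
  · exact ⟨⟨i, j, h, by rw [add_comm]; exact h⟩, rfl⟩
  · exact ⟨⟨j, i, by rw [add_comm]; exact h, h⟩, rfl⟩

theorem slt_wf [IsCancelAdd N] [AddMonoid.FG N] (hsharp : ∀ n : N, IsAddUnit n → n = 0) :
    WellFounded (slt (N := N)) := by
  classical
  rw [wellFounded_iff_isEmpty_descending_chain]
  refine ⟨fun ⟨f, hf⟩ => ?_⟩
  obtain ⟨S, hS⟩ := AddMonoid.FG.fg_top (M := N)
  have hlift : ∀ n : N, ∃ w : N → ℕ, ∑ i ∈ S, w i • i = n := by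
    intro n
    have hn : n ∈ AddSubmonoid.closure (S : Set N) := by rw [hS]; trivial
    obtain ⟨w, -, hw⟩ := AddSubmonoid.mem_closure_finset.mp hn
    exact ⟨w, hw⟩
  choose w hw using hlift
  -- the sequence of lifts, as functions on the finite type `S`
  let v : ℕ → (S → ℕ) := fun k i => w (f k) i
  obtain ⟨a, b, hab, hle⟩ := (wellQuasiOrdered_le (α := S → ℕ)) v
  -- `f b = f a + c`
  have h1 : f b = f a + ∑ i ∈ S, (w (f b) i - w (f a) i) • i := by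
    symm
    calc f a + ∑ i ∈ S, (w (f b) i - w (f a) i) • i
        = ∑ i ∈ S, w (f a) i • i + ∑ i ∈ S, (w (f b) i - w (f a) i) • i := by rw [hw (f a)]
      _ = ∑ i ∈ S, w (f b) i • i := by
          rw [← Finset.sum_add_distrib]
          refine Finset.sum_congr rfl fun i hi => ?_
          rw [← add_smul]
          congr 1
          have := hle ⟨i, hi⟩
          simp only [v] at this
          omega
      _ = f b := hw (f b)
  -- `f a = f b + c'` with `c' = j_a + rest`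
  have h2 : ∀ k l : ℕ, ∃ c, f a = f (a + k) + c ∧ (k ≠ 0 → ∃ j, j ≠ 0 ∧ ∃ c', c = j + c') := by
    intro k
    induction k with
    | zero => exact fun _ => ⟨0, by simp, fun h => absurd rfl h⟩
    | succ k ih =>
      intro l
      obtain ⟨c, hc, -⟩ := ih l
      obtain ⟨j, hj, e⟩ := hf (a + k)
      refine ⟨j + c, ?_, fun _ => ⟨j, hj, c, rfl⟩⟩
      rw [hc, ← e]
      have : a + (k + 1) = a + k + 1 := by ring
      rw [this]; abel
  obtain ⟨k, hk⟩ : ∃ k, b = a + k := ⟨b - a, by omega⟩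
  have hk0 : k ≠ 0 := by omega
  obtain ⟨c, hc, hc'⟩ := h2 k 0
  obtain ⟨j, hj, c', rfl⟩ := hc' hk0
  rw [← hk, h1] at hc
  -- cancel
  have h3 : (∑ i ∈ S, (w (f b) i - w (f a) i) • i) + (j + c') = 0 := by
    have : f a + 0 = f a + ((∑ i ∈ S, (w (f b) i - w (f a) i) • i) + (j + c')) := by
      rw [add_zero, ← add_assoc]; exact hc
    exact (add_left_cancel this).symm
  have h4 := (eq_zero_of_add_eq_zero hsharp h3).2
  exact hj (eq_zero_of_add_eq_zero hsharp h4).1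

end Monoid

section Graded

open DirectSum

variable {R A : Type u} [CommRing R] [CommRing A] [Algebra R A] {N : Type} [AddCommMonoid N]
  [DecidableEq N] (𝒜 : N → Submodule R A) [GradedAlgebra 𝒜]
  (hsharp : ∀ n : N, IsAddUnit n → n = 0)

include hsharp in
lemma p0_mul (a b : A) :
    (decompose 𝒜 (a * b) 0 : A) = (decompose 𝒜 a 0 : A) * (decompose 𝒜 b 0 : A) := by
  revert b
  refine DirectSum.Decomposition.inductionOn 𝒜 (fun x => ?_) ?_ ?_ a
  · simp only [zero_mul, decompose_zero, DirectSum.zero_apply, ZeroMemClass.coe_zero]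
  · rintro i ⟨c, hc⟩
    refine DirectSum.Decomposition.inductionOn 𝒜 ?_ ?_ ?_
    · simp only [mul_zero, decompose_zero, DirectSum.zero_apply, ZeroMemClass.coe_zero]
    · rintro j ⟨c', hc'⟩
      simp only
      by_cases h : i + j = 0
      · obtain ⟨hi, hj⟩ := eq_zero_of_add_eq_zero hsharp h
        rw [decompose_of_mem_same 𝒜
            (show c * c' ∈ 𝒜 0 from h ▸ SetLike.GradedMul.mul_mem hc hc'),
          decompose_of_mem_same 𝒜 (show c ∈ 𝒜 0 from hi ▸ hc),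
          decompose_of_mem_same 𝒜 (show c' ∈ 𝒜 0 from hj ▸ hc')]
      · rw [decompose_of_mem_ne 𝒜 (SetLike.GradedMul.mul_mem hc hc') h]
        rcases show i ≠ 0 ∨ j ≠ 0 by
          by_contra hh
          rw [not_or, not_not, not_not] at hh
          exact h (by rw [hh.1, hh.2, add_zero]) with h' | h'
        · simp only [decompose_of_mem_ne 𝒜 hc h', zero_mul]
        · simp only [decompose_of_mem_ne 𝒜 hc' h', mul_zero]
    · intro _ _ hd he
      simp only [mul_add, decompose_add, DirectSum.add_apply, AddMemClass.coe_add, hd, he]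
  · rintro _ _ ha hb _
    simp only [add_mul, decompose_add, DirectSum.add_apply, AddMemClass.coe_add, ha, hb]

/-- the degree zero projection as an `𝒜 0`-algebra retraction -/
noncomputable def p0A : A →ₐ[𝒜 0] 𝒜 0 where
  toFun a := decompose 𝒜 a 0
  map_one' := Subtype.ext (decompose_of_mem_same 𝒜 SetLike.GradedOne.one_mem)
  map_mul' a b := Subtype.ext (p0_mul 𝒜 hsharp a b)
  map_zero' := by simp
  map_add' a b := by simp
  commutes' r := Subtype.ext (decompose_of_mem_same 𝒜 r.2)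

lemma p0A_apply (a : A) : ((p0A 𝒜 hsharp a : 𝒜 0) : A) = decompose 𝒜 a 0 := rfl

/-- the irrelevant ideal -/
noncomputable def irr : Ideal A := RingHom.ker (p0A 𝒜 hsharp).toRingHom

lemma mem_irr (x : A) : x ∈ irr 𝒜 hsharp ↔ (decompose 𝒜 x 0 : A) = 0 := by
  rw [irr, RingHom.mem_ker]
  change p0A 𝒜 hsharp x = 0 ↔ _
  rw [← p0A_apply 𝒜 hsharp]
  exact ⟨fun h => by rw [h]; rfl, fun h => Subtype.ext h⟩

lemma mem_irr_of_mem {n : N} (hn : n ≠ 0) {x : A} (hx : x ∈ 𝒜 n) : x ∈ irr 𝒜 hsharp := by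
  rw [mem_irr, decompose_of_mem_ne 𝒜 hx hn]

lemma sub_p0_mem_irr (x : A) : x - (decompose 𝒜 x 0 : A) ∈ irr 𝒜 hsharp := by
  rw [mem_irr, decompose_sub, DirectSum.sub_apply, AddSubgroupClass.coe_sub,
    decompose_of_mem_same 𝒜 (SetLike.coe_mem _), sub_self]

lemma irr_isHomogeneous : (irr 𝒜 hsharp).IsHomogeneous 𝒜 := by
  intro i x hx
  rw [mem_irr] at hx ⊢
  by_cases hi : i = 0
  · subst hi
    rw [decompose_of_mem_same 𝒜 (SetLike.coe_mem _)]; exact hx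
  · rw [decompose_of_mem_ne 𝒜 (SetLike.coe_mem _) hi]

lemma irr_sq_isHomogeneous : (irr 𝒜 hsharp ^ 2).IsHomogeneous 𝒜 := by
  rw [pow_two]
  exact (irr_isHomogeneous 𝒜 hsharp).mul (irr_isHomogeneous 𝒜 hsharp)

/-- derivations send `I²` into `I` -/
lemma deriv_mem_irr (d : Derivation R A A) {w : A} (hw : w ∈ irr 𝒜 hsharp ^ 2) :
    d w ∈ irr 𝒜 hsharp := by
  rw [pow_two] at hw
  refine Submodule.mul_induction_on hw ?_ ?_
  · intro a ha b hb
    rw [Derivation.leibniz]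
    exact Ideal.add_mem _ (Ideal.mul_mem_right _ _ ha) (Ideal.mul_mem_right _ _ hb)
  · intro x y hx hy
    rw [map_add]; exact Ideal.add_mem _ hx hy

lemma p0A_coe (a : 𝒜 0) : p0A 𝒜 hsharp (a : A) = a :=
  Subtype.ext (decompose_of_mem_same 𝒜 a.2)

lemma p0A_of_mem {n : N} (hn : n ≠ 0) {x : A} (hx : x ∈ 𝒜 n) : p0A 𝒜 hsharp x = 0 :=
  Subtype.ext (by rw [p0A_apply, decompose_of_mem_ne 𝒜 hx hn]; rfl)

/-- the functional `x ↦ p₀(d(xₙ))` for `n ≠ 0` is `𝒜 0`-linear -/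
noncomputable def eComp (d : Derivation R A A) (n : N) (hn : n ≠ 0) : A →ₗ[𝒜 0] 𝒜 0 where
  toFun x := p0A 𝒜 hsharp (d (decompose 𝒜 x n : A))
  map_add' x y := by
    rw [decompose_add, DirectSum.add_apply, AddMemClass.coe_add, map_add, map_add]
  map_smul' a x := by
    simp only [RingHom.id_apply]
    have h1 : ((decompose 𝒜 (a • x) n : 𝒜 n) : A) = (a : A) * (decompose 𝒜 x n : A) := by
      rw [Algebra.smul_def]
      exact coe_decompose_mul_of_left_mem_zero 𝒜 a.2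
    rw [h1, Derivation.leibniz, map_add, smul_eq_mul, smul_eq_mul, map_mul, map_mul, p0A_coe,
      p0A_of_mem 𝒜 hsharp hn (SetLike.coe_mem _), zero_mul, add_zero]
    rfl

lemma eComp_apply (d : Derivation R A A) (n : N) (hn : n ≠ 0) (x : A) :
    eComp 𝒜 hsharp d n hn x = p0A 𝒜 hsharp (d (decompose 𝒜 x n : A)) := rfl

section T

variable {m : ℕ} (d : Fin m → Derivation R A A) (y : Fin m → A) (Nf : Finset N)
  (hNf0 : ∀ n ∈ Nf, n ≠ 0)

/-- the coordinate map -/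
noncomputable def eL : A →ₗ[𝒜 0] (Fin m × Nf → 𝒜 0) :=
  LinearMap.pi fun l => eComp 𝒜 hsharp (d l.1) l.2.1 (hNf0 _ l.2.2)

/-- the "basis" map -/
noncomputable def gL : (Fin m × Nf → 𝒜 0) →ₗ[𝒜 0] A :=
  ∑ l : Fin m × Nf, (LinearMap.proj l).smulRight ((decompose 𝒜 (y l.1) l.2.1 : 𝒜 l.2.1) : A)

/-- the graded idempotent -/
noncomputable def TL : A →ₗ[𝒜 0] A := (gL 𝒜 y Nf).comp (eL 𝒜 hsharp d Nf hNf0)

lemma TL_apply (x : A) : TL 𝒜 hsharp d y Nf hNf0 x =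
    ∑ i : Fin m, ∑ k ∈ Nf, ((p0A 𝒜 hsharp (d i (decompose 𝒜 x k : A)) : 𝒜 0) : A) *
      (decompose 𝒜 (y i) k : A) := by
  rw [TL, LinearMap.comp_apply, gL, LinearMap.sum_apply, Fintype.sum_prod_type]
  refine Finset.sum_congr rfl fun i _ => ?_
  rw [← Finset.sum_coe_sort Nf]
  refine Finset.sum_congr rfl fun k _ => ?_
  rw [LinearMap.smulRight_apply, LinearMap.proj_apply, eL, LinearMap.pi_apply, eComp_apply,
    Algebra.smul_def]
  rfl

variable (hNf : ∀ i k, k ≠ 0 → ((decompose 𝒜 (y i) k : 𝒜 k) : A) ≠ 0 → k ∈ Nf)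

include hNf in
lemma TL_hom {n : N} (hn : n ≠ 0) {x : A} (hx : x ∈ 𝒜 n) :
    TL 𝒜 hsharp d y Nf hNf0 x =
      ∑ i : Fin m, ((p0A 𝒜 hsharp (d i x) : 𝒜 0) : A) * (decompose 𝒜 (y i) n : A) := by
  rw [TL_apply]
  refine Finset.sum_congr rfl fun i _ => ?_
  rw [Finset.sum_eq_single n]
  · rw [decompose_of_mem_same 𝒜 hx]
  · intro k _ hkn
    rw [decompose_of_mem_ne 𝒜 hx (Ne.symm hkn), map_zero, map_zero]
    simp
  · intro hnN
    have : ((decompose 𝒜 (y i) n : 𝒜 n) : A) = 0 := by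
      by_contra h
      exact hnN (hNf i n hn h)
    rw [this, mul_zero]

lemma TL_zero {x : A} (hx : x ∈ 𝒜 0) : TL 𝒜 hsharp d y Nf hNf0 x = 0 := by
  rw [TL_apply]
  refine Finset.sum_eq_zero fun i _ => Finset.sum_eq_zero fun k hk => ?_
  rw [decompose_of_mem_ne 𝒜 hx (Ne.symm (hNf0 k hk)), map_zero, map_zero]
  simp

include hNf in
lemma TL_mem {n : N} {x : A} (hx : x ∈ 𝒜 n) : TL 𝒜 hsharp d y Nf hNf0 x ∈ 𝒜 n := by
  by_cases hn : n = 0
  · subst hn
    rw [TL_zero 𝒜 hsharp d y Nf hNf0 hx]; exact zero_mem _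
  · rw [TL_hom 𝒜 hsharp d y Nf hNf0 hNf hn hx]
    refine Submodule.sum_mem _ fun i _ => ?_
    have := SetLike.GradedMul.mul_mem (A := 𝒜) (SetLike.coe_mem (p0A 𝒜 hsharp (d i x)))
      (SetLike.coe_mem (decompose 𝒜 (y i) n))
    rwa [zero_add] at this

lemma TL_sq {w : A} (hw : w ∈ irr 𝒜 hsharp ^ 2) : TL 𝒜 hsharp d y Nf hNf0 w = 0 := by
  rw [TL_apply]
  refine Finset.sum_eq_zero fun i _ => Finset.sum_eq_zero fun k _ => ?_
  have h1 : ((decompose 𝒜 w k : 𝒜 k) : A) ∈ irr 𝒜 hsharp ^ 2 :=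
    irr_sq_isHomogeneous 𝒜 hsharp k hw
  have h2 := deriv_mem_irr 𝒜 hsharp (d i) h1
  have h3 : p0A 𝒜 hsharp (d i (decompose 𝒜 w k : A)) = 0 := h2
  rw [h3]; simp

variable (hy : ∀ i, y i ∈ irr 𝒜 hsharp)

include hy in
lemma TL_mem_irr (x : A) : TL 𝒜 hsharp d y Nf hNf0 x ∈ irr 𝒜 hsharp := by
  rw [TL_apply]
  refine Ideal.sum_mem _ fun i _ => Ideal.sum_mem _ fun k _ => ?_
  exact Ideal.mul_mem_left _ _ (irr_isHomogeneous 𝒜 hsharp k (hy i))

variable (hjac : ∀ x ∈ irr 𝒜 hsharp, x - ∑ i, d i x * y i ∈ irr 𝒜 hsharp ^ 2)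

include hNf hy hjac in
lemma TL_mod_hom {n : N} (hn : n ≠ 0) {x : A} (hx : x ∈ 𝒜 n) :
    x - TL 𝒜 hsharp d y Nf hNf0 x ∈ irr 𝒜 hsharp ^ 2 := by
  have hxI := mem_irr_of_mem 𝒜 hsharp hn hx
  have h1 := hjac x hxI
  have h2 : ∑ i, d i x * y i - ∑ i, ((p0A 𝒜 hsharp (d i x) : 𝒜 0) : A) * y i ∈
      irr 𝒜 hsharp ^ 2 := by
    rw [← Finset.sum_sub_distrib]
    refine Ideal.sum_mem _ fun i _ => ?_
    rw [← sub_mul, pow_two]
    exact Ideal.mul_mem_mul (sub_p0_mem_irr 𝒜 hsharp _) (hy i)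
  have h3 : x - ∑ i, ((p0A 𝒜 hsharp (d i x) : 𝒜 0) : A) * y i ∈ irr 𝒜 hsharp ^ 2 := by
    have := Ideal.add_mem _ h1 h2
    rwa [sub_add_sub_cancel] at this
  have h4 := irr_sq_isHomogeneous 𝒜 hsharp n h3
  rw [decompose_sub, DirectSum.sub_apply, AddSubgroupClass.coe_sub,
    decompose_of_mem_same 𝒜 hx, decompose_sum, DFinsupp.finsetSum_apply,
    AddSubmonoidClass.coe_finsetSum] at h4
  rw [TL_hom 𝒜 hsharp d y Nf hNf0 hNf hn hx]
  convert h4 using 3 with i _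
  exact (coe_decompose_mul_of_left_mem_zero 𝒜 (SetLike.coe_mem _)).symm

include hNf hy hjac in
lemma TL_mod {x : A} (hx : x ∈ irr 𝒜 hsharp) :
    x - TL 𝒜 hsharp d y Nf hNf0 x ∈ irr 𝒜 hsharp ^ 2 := by
  classical
  have hsum := DirectSum.sum_support_decompose 𝒜 x
  have : x - TL 𝒜 hsharp d y Nf hNf0 x = ∑ k ∈ (decompose 𝒜 x).support,
      (((decompose 𝒜 x k : 𝒜 k) : A) - TL 𝒜 hsharp d y Nf hNf0 (decompose 𝒜 x k : A)) := by
    rw [Finset.sum_sub_distrib, ← map_sum, hsum]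
  rw [this]
  refine Ideal.sum_mem _ fun k _ => ?_
  by_cases hk : k = 0
  · subst hk
    rw [(mem_irr 𝒜 hsharp x).mp hx, map_zero, sub_zero]; exact zero_mem _
  · exact TL_mod_hom 𝒜 hsharp d y Nf hNf0 hNf hy hjac hk (SetLike.coe_mem _)

include hNf hy hjac in
lemma TL_idem (x : A) : TL 𝒜 hsharp d y Nf hNf0 (TL 𝒜 hsharp d y Nf hNf0 x) =
    TL 𝒜 hsharp d y Nf hNf0 x := by
  have h0 : TL 𝒜 hsharp d y Nf hNf0 x =
      TL 𝒜 hsharp d y Nf hNf0 (x - (decompose 𝒜 x 0 : A)) := by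
    rw [map_sub, TL_zero 𝒜 hsharp d y Nf hNf0 (SetLike.coe_mem _), sub_zero]
  have h1 := TL_mod 𝒜 hsharp d y Nf hNf0 hNf hy hjac (sub_p0_mem_irr 𝒜 hsharp x)
  have h2 := TL_sq 𝒜 hsharp d y Nf hNf0 h1
  rw [map_sub, sub_eq_zero, ← h0] at h2
  exact h2.symm

/-- the graded complement of `I²` in `I` -/
noncomputable def QQ : Submodule (𝒜 0) A := LinearMap.range (TL 𝒜 hsharp d y Nf hNf0)

include hNf hy hjac in
lemma TL_of_mem_QQ {q : A} (hq : q ∈ QQ 𝒜 hsharp d y Nf hNf0) :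
    TL 𝒜 hsharp d y Nf hNf0 q = q := by
  obtain ⟨x, rfl⟩ := hq
  exact TL_idem 𝒜 hsharp d y Nf hNf0 hNf hy hjac x

include hy in
lemma QQ_le_irr {q : A} (hq : q ∈ QQ 𝒜 hsharp d y Nf hNf0) : p0A 𝒜 hsharp q = 0 := by
  obtain ⟨x, rfl⟩ := hq
  exact TL_mem_irr 𝒜 hsharp d y Nf hNf0 hy x

include hNf hy hjac in
lemma QQ_inf_sq {q : A} (hq : q ∈ QQ 𝒜 hsharp d y Nf hNf0)
    (hq2 : q ∈ RingHom.ker (p0A 𝒜 hsharp).toRingHom ^ 2) : q = 0 := by
  rw [← TL_of_mem_QQ 𝒜 hsharp d y Nf hNf0 hNf hy hjac hq]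
  exact TL_sq 𝒜 hsharp d y Nf hNf0 hq2

include hNf hy hjac in
lemma QQ_retract :
    ((TL 𝒜 hsharp d y Nf hNf0).rangeRestrict.comp (gL 𝒜 y Nf)).comp
      ((eL 𝒜 hsharp d Nf hNf0).comp (QQ 𝒜 hsharp d y Nf hNf0).subtype) = LinearMap.id := by
  ext q
  simp only [LinearMap.comp_apply, Submodule.subtype_apply]
  change TL 𝒜 hsharp d y Nf hNf0 (TL 𝒜 hsharp d y Nf hNf0 (q : A)) = q
  rw [TL_of_mem_QQ 𝒜 hsharp d y Nf hNf0 hNf hy hjac q.2,
    TL_of_mem_QQ 𝒜 hsharp d y Nf hNf0 hNf hy hjac q.2]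

include hNf hy hjac in
lemma QQ_projective : Module.Projective (𝒜 0) (QQ 𝒜 hsharp d y Nf hNf0) :=
  Module.Projective.of_split _ _ (QQ_retract 𝒜 hsharp d y Nf hNf0 hNf hy hjac)

include hNf hy hjac in
lemma QQ_finite : Module.Finite (𝒜 0) (QQ 𝒜 hsharp d y Nf hNf0) := by
  refine Module.Finite.of_surjective
    ((TL 𝒜 hsharp d y Nf hNf0).rangeRestrict.comp (gL 𝒜 y Nf)) ?_
  intro q
  exact ⟨_, LinearMap.congr_fun (QQ_retract 𝒜 hsharp d y Nf hNf0 hNf hy hjac) q⟩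

section Surj

variable [IsCancelAdd N] [AddMonoid.FG N]

omit [IsCancelAdd N] [AddMonoid.FG N] in
/-- degree `n` part of an element of `I²` lies in a subalgebra containing all lower pieces -/
lemma sq_comp_mem (B : Subalgebra (𝒜 0) A) {w : A} (hw : w ∈ irr 𝒜 hsharp ^ 2) (n : N)
    (hB : ∀ j, slt j n → ∀ z ∈ 𝒜 j, z ∈ B) : ((decompose 𝒜 w n : 𝒜 n) : A) ∈ B := by
  classical
  rw [pow_two] at hw
  refine Submodule.mul_induction_on hw ?_ ?_
  · intro a ha b hb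
    rw [decompose_mul, DirectSum.coe_mul_apply]
    refine Subalgebra.sum_mem _ fun jk hjk => ?_
    rw [Finset.mem_filter, Finset.mem_product, DFinsupp.mem_support_toFun,
      DFinsupp.mem_support_toFun] at hjk
    obtain ⟨⟨hj, hk⟩, hsum⟩ := hjk
    have hj0 : jk.1 ≠ 0 := by
      rintro h0
      apply hj
      rw [h0]
      exact Subtype.ext ((mem_irr 𝒜 hsharp a).mp ha)
    have hk0 : jk.2 ≠ 0 := by
      rintro h0
      apply hk
      rw [h0]
      exact Subtype.ext ((mem_irr 𝒜 hsharp b).mp hb)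
    refine Subalgebra.mul_mem _ (hB jk.1 ⟨jk.2, hk0, hsum⟩ _ (SetLike.coe_mem _))
      (hB jk.2 ⟨jk.1, hj0, by rw [add_comm]; exact hsum⟩ _ (SetLike.coe_mem _))
  · intro x y hx hy
    rw [decompose_add, DirectSum.add_apply, AddMemClass.coe_add]
    exact Subalgebra.add_mem _ hx hy

include hNf hy hjac in
lemma piece_mem_range (n : N) : ∀ x ∈ 𝒜 n,
    x ∈ (phi (QQ 𝒜 hsharp d y Nf hNf0)).range := by
  induction n using (slt_wf (N := N) hsharp).induction with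
  | _ n ih =>
  intro x hx
  by_cases hn : n = 0
  · subst hn
    exact Subalgebra.algebraMap_mem _ (⟨x, hx⟩ : 𝒜 0)
  · have h1 : TL 𝒜 hsharp d y Nf hNf0 x ∈ (phi (QQ 𝒜 hsharp d y Nf hNf0)).range := by
      refine ⟨SymmetricAlgebra.ι _ _ ⟨TL 𝒜 hsharp d y Nf hNf0 x, LinearMap.mem_range_self _ x⟩, ?_⟩
      exact phi_ι _ _
    have hw := TL_mod_hom 𝒜 hsharp d y Nf hNf0 hNf hy hjac hn hx
    have hwn : x - TL 𝒜 hsharp d y Nf hNf0 x ∈ 𝒜 n :=
      Submodule.sub_mem _ hx (TL_mem 𝒜 hsharp d y Nf hNf0 hNf hx)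
    have h2 := sq_comp_mem 𝒜 hsharp (phi (QQ 𝒜 hsharp d y Nf hNf0)).range hw n ih
    rw [decompose_of_mem_same 𝒜 hwn] at h2
    have : x = TL 𝒜 hsharp d y Nf hNf0 x + (x - TL 𝒜 hsharp d y Nf hNf0 x) := by ring
    rw [this]
    exact Subalgebra.add_mem _ h1 h2

include hNf hy hjac in
lemma phi_surjective : Function.Surjective (phi (QQ 𝒜 hsharp d y Nf hNf0)) := by
  classical
  intro x
  have hx : x ∈ (phi (QQ 𝒜 hsharp d y Nf hNf0)).range := by
    rw [← DirectSum.sum_support_decompose 𝒜 x]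
    exact Subalgebra.sum_mem _ fun k _ =>
      piece_mem_range 𝒜 hsharp d y Nf hNf0 hNf hy hjac k _ (SetLike.coe_mem _)
  exact hx

end Surj

end T

section Final

variable [IsCancelAdd N] [AddMonoid.FG N]

/-- degree-zero projection as an `R`-algebra endomorphism -/
noncomputable def p0R : A →ₐ[R] A where
  toFun a := (decompose 𝒜 a 0 : A)
  map_one' := decompose_of_mem_same 𝒜 SetLike.GradedOne.one_mem
  map_mul' a b := p0_mul 𝒜 hsharp a b
  map_zero' := by simp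
  map_add' a b := by simp
  commutes' r := decompose_of_mem_same 𝒜 (SetLike.algebraMap_mem_graded 𝒜 r)

include hsharp in
theorem main [Algebra.Smooth R A] :
    ∃ (P : Type u) (_ : AddCommGroup P) (_ : Module (𝒜 0) P), Module.Finite (𝒜 0) P ∧
      Module.Projective (𝒜 0) P ∧ Nonempty (A ≃ₐ[𝒜 0] SymmetricAlgebra (𝒜 0) P) := by
  classical
  haveI : IsScalarTower R (𝒜 0) A := IsScalarTower.of_algebraMap_eq (fun r => rfl)
  haveI : Algebra.FormallySmooth R A := inferInstance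
  haveI : Algebra.FinitePresentation R A := inferInstance
  haveI : Module.Finite A Ω[A⁄R] := inferInstance
  -- the quotient by the irrelevant ideal is formally smooth
  let sC : A ⧸ irr 𝒜 hsharp →ₐ[R] A :=
    Ideal.Quotient.liftₐ (irr 𝒜 hsharp) (p0R 𝒜 hsharp) (fun a ha => (mem_irr 𝒜 hsharp a).mp ha)
  haveI : Algebra.FormallySmooth R (A ⧸ irr 𝒜 hsharp) := by
    refine formallySmooth_of_retract (Ideal.Quotient.mkₐ R (irr 𝒜 hsharp)) sC ?_
    refine AlgHom.ext fun x => ?_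
    obtain ⟨a, rfl⟩ := Ideal.Quotient.mk_surjective x
    change Ideal.Quotient.mk (irr 𝒜 hsharp) ((decompose 𝒜 a 0 : 𝒜 0) : A) =
      Ideal.Quotient.mk (irr 𝒜 hsharp) a
    rw [eq_comm, Ideal.Quotient.eq]
    exact sub_p0_mem_irr 𝒜 hsharp a
  obtain ⟨m, d, y, hy, hjac⟩ := exists_jac (R := R) (P := A) (C := A ⧸ irr 𝒜 hsharp)
    Ideal.Quotient.mk_surjective
  have hker : RingHom.ker (algebraMap A (A ⧸ irr 𝒜 hsharp)) = irr 𝒜 hsharp := by
    rw [Ideal.Quotient.algebraMap_eq]; exact Ideal.mk_ker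
  rw [hker] at hy hjac
  set Nf : Finset N :=
    (Finset.univ.biUnion fun i : Fin m => (decompose 𝒜 (y i)).support).filter (· ≠ 0) with hNfdef
  have hNf0 : ∀ n ∈ Nf, n ≠ 0 := fun n hn => (Finset.mem_filter.mp hn).2
  have hNf : ∀ i k, k ≠ 0 → ((decompose 𝒜 (y i) k : 𝒜 k) : A) ≠ 0 → k ∈ Nf := by
    intro i k hk hne
    rw [hNfdef, Finset.mem_filter, Finset.mem_biUnion]
    refine ⟨⟨i, Finset.mem_univ _, ?_⟩, hk⟩
    rw [DFinsupp.mem_support_toFun]
    intro h0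
    exact hne (by rw [h0]; rfl)
  haveI := QQ_finite 𝒜 hsharp d y Nf hNf0 hNf hy hjac
  haveI := QQ_projective 𝒜 hsharp d y Nf hNf0 hNf hy hjac
  have hbij := phi_bijective (R := R) (p0A 𝒜 hsharp) (QQ 𝒜 hsharp d y Nf hNf0)
    (fun q hq => QQ_le_irr 𝒜 hsharp d y Nf hNf0 hy hq)
    (fun q hq h2 => QQ_inf_sq 𝒜 hsharp d y Nf hNf0 hNf hy hjac hq h2)
    (phi_surjective 𝒜 hsharp d y Nf hNf0 hNf hy hjac)
  exact ⟨QQ 𝒜 hsharp d y Nf hNf0, inferInstance, inferInstance, inferInstance, inferInstance,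
    ⟨(AlgEquiv.ofBijective (phi (QQ 𝒜 hsharp d y Nf hNf0)) hbij).symm⟩⟩

end Final

end Graded

end Groth.Agent.Lead.SymSm
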