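import Mathlib
import Groth.Agent.Lead.TFQuotA
import Groth.Agent.Lead.IdealMulC
import Groth.Agent.Lead.LocLift
import Groth.Agent.Lead.ResPropF
import Groth.Agent.Helper2.CohQ1

/-!
# Torsion-free modules on an integral scheme: lifting a local section through an ideal sheaf
-/

set_option autoImplicit false
set_option linter.unusedSectionVars false
set_option linter.style.haveILetI false
universe u
open CategoryTheory CategoryTheory.Limits AlgebraicGeometry TopologicalSpace Opposite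

namespace Groth.Agent.Lead.TFQuot

open Groth.Agent.Helper9.SkyMod4 Groth.Agent.Lead.IdealMul

variable {X : Scheme.{u}}

/-- Given a section `t` of a quasi-coherent module `F` over an affine open `V` of a Noetherian
scheme, there is an ideal sheaf `A ⊆ O_X` and a morphism `A ⟶ F` whose image contains the germs of
`t` at all points of `V`. -/
theorem exists_ideal_lift [IsNoetherian X] (F : X.Modules) [F.IsQuasicoherent]
    (V : X.Opens) (hV : IsAffineOpen V) (t : Γ(F, V.ι ''ᵁ ⊤)) :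
    ∃ (A : X.Modules) (a : A ⟶ F) (i : A ⟶ Coh.structureModule X), Mono i ∧ A.IsQuasicoherent ∧
      ∀ (y : X) (hy : y ∈ V.ι ''ᵁ ⊤),
        F.presheaf.germ (V.ι ''ᵁ ⊤) y hy t ∈ LinearMap.range ((St y).map a).hom := by
  classical
  have hVe : V.ι ''ᵁ ⊤ = V := Scheme.Opens.ι_image_top V
  have hV' : IsAffineOpen (V.ι ''ᵁ ⊤) := hVe.symm ▸ hV
  let Z : Closeds X := ⟨(V : Set X)ᶜ, V.2.isClosed_compl⟩
  let I : X.IdealSheafData := Scheme.IdealSheafData.vanishingIdeal Z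
  have hsupp : (I.support : Set X) = (V : Set X)ᶜ :=
    Scheme.IdealSheafData.coe_support_vanishingIdeal Z
  have hU : (V : Set X) = (I.support : Set X)ᶜ := by
    rw [hsupp, compl_compl]
  haveI : (Coh.structureModule X).IsQuasicoherent := (HomShH.isCoh_unit X).1
  let φ : (Scheme.Modules.restrictFunctor V.ι).obj (Coh.structureModule X) ⟶
      (Scheme.Modules.restrictFunctor V.ι).obj F :=
    (Scheme.Modules.restrictUnitIso V.ι).hom ≫ LocLift.homOfTop (F.restrict V.ι) t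
  obtain ⟨n, ψ, hψ⟩ := IdealMul.exists_lift_of_restrict I F (Coh.structureModule X)
    (HomShH.isCoh_unit X).2 V hU φ
  refine ⟨(Dual3.idealMul (I ^ n)).obj (Coh.structureModule X), ψ,
    Dual3.idealMulι (I ^ n) _, inferInstance, inferInstance, ?_⟩
  intro y hy
  -- a function in the ideal not vanishing at `y`
  have hyV : y ∈ V := hVe ▸ hy
  have hns : y ∉ I.support := by
    intro h
    have : y ∈ (V : Set X)ᶜ := hsupp ▸ h
    exact this hyV
  rw [Scheme.IdealSheafData.mem_support_iff_of_mem (U := ⟨V.ι ''ᵁ ⊤, hV'⟩) hy,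
    Scheme.mem_zeroLocus_iff] at hns
  push Not at hns
  obtain ⟨f, hfI, hfy⟩ := hns
  -- its power lies in `I^n`
  let g : Γ(X, V.ι ''ᵁ ⊤) := f ^ n
  have hgI : g ∈ (I ^ n).ideal ⟨V.ι ''ᵁ ⊤, hV'⟩ := by
    rw [Scheme.IdealSheafData.ideal_pow]
    exact Ideal.pow_mem_pow hfI n
  have hgy : y ∈ X.basicOpen g := by
    by_cases hn : n = 0
    · subst hn
      have : g = 1 := pow_zero f
      rw [this, Scheme.basicOpen_of_isUnit _ isUnit_one]
      exact hy
    · change y ∈ X.basicOpen (f ^ n)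
      rw [Scheme.basicOpen_pow _ _ (Nat.pos_of_ne_zero hn)]
      exact hfy
  -- a section of `I^n O` mapping to `g`
  have hmem : g • (show Γ(Coh.structureModule X, V.ι ''ᵁ ⊤) from (1 : Γ(X, V.ι ''ᵁ ⊤))) ∈
      secR (Dual3.idealMulι (I ^ n) (Coh.structureModule X)) (V.ι ''ᵁ ⊤) := by
    rw [secR_idealMulι (I ^ n) (Coh.structureModule X) hV']
    exact Submodule.smul_mem_smul hgI Submodule.mem_top
  obtain ⟨a₀, ha₀⟩ := (mem_secR _ _ _).mp hmem
  -- compute `ψ a₀ = g • t`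
  have hkey : ψ.app (V.ι ''ᵁ ⊤) a₀ = g • t := by
    have h1 := congrArg (fun k => (Scheme.Modules.Hom.app k ⊤) a₀) hψ
    have hL : (Scheme.Modules.Hom.app ((Scheme.Modules.restrictFunctor V.ι).map ψ) ⊤) a₀ =
        ψ.app (V.ι ''ᵁ ⊤) a₀ := rfl
    have hR : (Scheme.Modules.Hom.app ((Scheme.Modules.restrictFunctor V.ι).map
        (Dual3.idealMulι (I ^ n) (Coh.structureModule X)) ≫ φ) ⊤) a₀ =
        φ.app ⊤ ((Dual3.idealMulι (I ^ n) (Coh.structureModule X)).app (V.ι ''ᵁ ⊤) a₀) := rfl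
    have h2 : ψ.app (V.ι ''ᵁ ⊤) a₀ =
        φ.app ⊤ ((Dual3.idealMulι (I ^ n) (Coh.structureModule X)).app (V.ι ''ᵁ ⊤) a₀) :=
      hL.symm.trans (h1.trans hR)
    rw [h2, ha₀]
    let r : Γ((V : Scheme.{u}), ⊤) := (V.ι.appIso ⊤).hom g
    have hr : (V.ι.appIso ⊤).inv r = g := by
      change ((V.ι.appIso ⊤).hom ≫ (V.ι.appIso ⊤).inv) g = g
      rw [Iso.hom_inv_id]; rfl
    let one' : Γ((Coh.structureModule X).restrict V.ι, ⊤) :=
      (show Γ(Coh.structureModule X, V.ι ''ᵁ ⊤) from (1 : Γ(X, V.ι ''ᵁ ⊤)))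
    have hsm1 : (show Γ((Coh.structureModule X).restrict V.ι, ⊤) from
        g • (show Γ(Coh.structureModule X, V.ι ''ᵁ ⊤) from (1 : Γ(X, V.ι ''ᵁ ⊤)))) = r • one' := by
      change _ = (show Γ((Coh.structureModule X).restrict V.ι, ⊤) from
        ((V.ι.appIso ⊤).inv r) • (show Γ(Coh.structureModule X, V.ι ''ᵁ ⊤) from
          (1 : Γ(X, V.ι ''ᵁ ⊤))))
      rw [hr]
    have h3 : φ.app ⊤ (r • one') = r • φ.app ⊤ one' := Scheme.Modules.Hom.app_smul φ r one'
    have h4 : φ.app ⊤ one' = t := by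
      have h5 : (Scheme.Modules.restrictUnitIso V.ι).hom.app ⊤ one' = (1 : Γ((V : Scheme.{u}), ⊤)) :=
        map_one (V.ι.appIso ⊤).hom.hom
      have h6 : φ.app ⊤ one' = (LocLift.homOfTop (F.restrict V.ι) t).app ⊤
          ((Scheme.Modules.restrictUnitIso V.ι).hom.app ⊤ one') := rfl
      rw [h6, h5]
      exact LocLift.homOfTop_app_one (F.restrict V.ι) t
    have h7 : (r • (show Γ(F.restrict V.ι, ⊤) from t)) =
        (show Γ(F.restrict V.ι, ⊤) from ((V.ι.appIso ⊤).inv r) • t) := rfl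
    refine (congrArg (φ.app ⊤) hsm1).trans ?_
    rw [h3, h4]
    refine h7.trans ?_
    rw [hr]
  have hgerm := Mero.germ_smul (F := F) (V.ι ''ᵁ ⊤) y hy g t
  rw [← hkey] at hgerm
  have hunit : IsUnit (X.presheaf.germ (V.ι ''ᵁ ⊤) y hy g) :=
    (X.mem_basicOpen g y hy).mp hgy
  obtain ⟨u, hu⟩ := hunit
  have hst := DerSch.stalkFunctor_map_germ y ψ (V.ι ''ᵁ ⊤) hy a₀
  have h3 : F.presheaf.germ (V.ι ''ᵁ ⊤) y hy t =
      (↑u⁻¹ : X.presheaf.stalk y) • F.presheaf.germ (V.ι ''ᵁ ⊤) y hy (ψ.app (V.ι ''ᵁ ⊤) a₀) := by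
    rw [hgerm, ← hu, smul_smul, Units.inv_mul, one_smul]
  rw [h3]
  refine Submodule.smul_mem _ _ ⟨_, hst⟩

end Groth.Agent.Lead.TFQuot
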