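import Mathlib
import Groth.Agent.Lead.TFQuotB
import Groth.Agent.Lead.PerfLib7

/-!
# Every coherent module on a Noetherian integral scheme is a quotient of a torsion-free coherent
module
-/

set_option autoImplicit false
set_option linter.unusedSectionVars false
set_option linter.style.haveILetI false
universe u
open CategoryTheory CategoryTheory.Limits AlgebraicGeometry TopologicalSpace Opposite

namespace Groth.Agent.Lead.TFQuot

open Groth.Agent.Helper9.SkyMod4 Groth.Agent.Lead.IdealMul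

variable {X : Scheme.{u}}

theorem isCoh_of_isZero' {M : X.Modules} (hM : IsZero M) : Coh.IsCoh M :=
  Groth.Agent.Lead.PerfLib.isCoh_of_isFinLocFree (Groth.Agent.Lead.PerfLib.isFinLocFree_of_isZero hM)

theorem main [IsNoetherian X] [IsIntegral X] (F : X.Modules) (hF : Coh.IsCoh F) :
    ∃ (F' : X.Modules) (π : F' ⟶ F), Coh.IsCoh F' ∧ TFree F' ∧ Epi π := by
  classical
  haveI : F.IsQuasicoherent := hF.1
  let Idx : Type u := Σ V : X.affineOpens, Γ(F, V.1.ι ''ᵁ ⊤)
  have hex : ∀ j : Idx, ∃ (A : X.Modules) (a : A ⟶ F) (i : A ⟶ Coh.structureModule X),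
      Mono i ∧ A.IsQuasicoherent ∧ ∀ (y : X) (hy : y ∈ j.1.1.ι ''ᵁ ⊤),
        F.presheaf.germ (j.1.1.ι ''ᵁ ⊤) y hy j.2 ∈ LinearMap.range ((St y).map a).hom :=
    fun j => exists_ideal_lift F j.1.1 j.1.2 j.2
  choose A a i hi hA hgerm using hex
  have hJE : ResProp.JointlyEpi A a := by
    apply ResProp.jointlyEpi_of_iSup_range
    intro x
    rw [eq_top_iff]
    intro m _
    obtain ⟨U, hxU, s, rfl⟩ := F.presheaf.exists_germ_eq (x := x) m
    obtain ⟨_, ⟨V, hV, rfl⟩, hxV, hVU⟩ :=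
      X.isBasis_affineOpens.exists_subset_of_mem_open hxU U.2
    have hVe : Scheme.Opens.ι (X := X) V ''ᵁ ⊤ = V := Scheme.Opens.ι_image_top (X := X) V
    have hle : Scheme.Opens.ι (X := X) V ''ᵁ ⊤ ≤ U := hVe.symm ▸ hVU
    have hxV' : x ∈ Scheme.Opens.ι (X := X) V ''ᵁ ⊤ := hVe.symm ▸ hxV
    let j : Idx := ⟨⟨V, hV⟩, F.presheaf.map (homOfLE hle).op s⟩
    have h1 := hgerm j x hxV'
    have h2 : F.presheaf.germ (Scheme.Opens.ι (X := X) V ''ᵁ ⊤) x hxV'
        (F.presheaf.map (homOfLE hle).op s) =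
        F.presheaf.germ U x hxU s :=
      TopCat.Presheaf.germ_res_apply F.presheaf (homOfLE hle) x hxV' s
    rw [← h2]
    exact (le_iSup (fun i => LinearMap.range ((St x).map (a i)).hom) j) h1
  obtain ⟨J, hJ⟩ := ResProp.exists_finset_epi F hF.2 A hA a hJE
  have hcohA : ∀ j, Coh.IsCoh (A j) := fun j =>
    haveI := hi j
    Groth.Agent.Helper2.CohQ1.isCoh_of_mono (i j) (hA j) (HomShH.isCoh_unit X)
  have htfA : ∀ j, TFree (A j) := fun j =>
    haveI := hi j
    tfree_of_mono (i j) tfree_unit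
  refine ⟨⨁ (fun j : {j // j ∈ J} => A j.1), biproduct.desc (fun j : {j // j ∈ J} => a j.1),
    ?_, ?_, hJ⟩
  · exact prop_biproduct' (fun M => Coh.IsCoh M)
      (fun e h => Groth.Agent.Helper2.CohQ1.isCoh_of_iso e h)
      (fun M hM => isCoh_of_isZero' hM)
      (fun M N hM hN => CohPull.isCoh_biprod hM hN) _ (fun j => hcohA j.1)
  · exact prop_biproduct' (fun M => TFree M)
      (fun e h => tfree_of_iso e h)
      (fun M hM => tfree_of_isZero hM)
      (fun M N hM hN => tfree_biprod hM hN) _ (fun j => htfA j.1)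

end Groth.Agent.Lead.TFQuot
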