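import Mathlib
import Groth.Agent.Lead.BCMap10
import Groth.Agent.Lead.ClUnit
import Groth.Agent.Lead.BlH1B
import Groth.Agent.Lead.RpushBCB
import Groth.Agent.Lead.StalkPull
import Groth.Agent.Helper4.AcycLocal
import Groth.Agent.Helper4.QcohLimits
import Groth.Agent.Helper4.QcohGlue

/-!
# Top degree base change, part A: transfer of vanishing

`f : X ⟶ Y`, `g : Y' ⟶ Y` with `Y`, `Y'` affine, `X' = X ×_Y Y'`.  For quasi-coherent `F` on `X`
the module `g'_* g'^* F` is a quotient of a direct sum of copies of `F`.  Hence if `H^{d+1}`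
vanishes on all quasi-coherent modules on `X` and `H^d(X, F) = 0`, then `H^d(X', g'^* F) = 0`.
-/

set_option autoImplicit false
set_option linter.unusedSectionVars false
set_option linter.style.haveILetI false

open CategoryTheory Limits AlgebraicGeometry TopologicalSpace Opposite

universe u

namespace Groth.Agent.Lead.TopBC

open Scheme.Modules Groth.Agent.Lead.BCMap Groth.Agent.Helper4

variable {X Y X' Y' : Scheme.{u}} (f : X ⟶ Y) (g : Y' ⟶ Y) (g' : X' ⟶ X) (f' : X' ⟶ Y')
  (F : X.Modules)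

/-- the unit `F ⟶ g'_* g'^* F` followed by multiplication by a global function of `X'` -/
noncomputable def φr (r : Coh.Γtop X') :
    F ⟶ (pushforward g').obj ((Scheme.Modules.pullback g').obj F) :=
  (pullbackPushforwardAdjunction g').unit.app F ≫
    (pushforward g').map (Formal.smulModΓ ((Scheme.Modules.pullback g').obj F) r)

/-- all the twisted units together -/
noncomputable def φ : (∐ fun _ : Coh.Γtop X' => F) ⟶
    (pushforward g').obj ((Scheme.Modules.pullback g').obj F) :=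
  Sigma.desc (φr g' F)

theorem φr_app (r : Coh.Γtop X') (U : X.Opens) (m : Γ(F, U)) :
    (φr g' F r).app U m =
      (show Γ(X', g' ⁻¹ᵁ U) from Coh.resTop X' (op (g' ⁻¹ᵁ U)) r) •
        (show Γ((Scheme.Modules.pullback g').obj F, g' ⁻¹ᵁ U) from
          ((pullbackPushforwardAdjunction g').unit.app F).app U m) := rfl

theorem φ_ι_app (r : Coh.Γtop X') (U : X.Opens) (m : Γ(F, U)) :
    (φ g' F).app U ((Sigma.ι (fun _ : Coh.Γtop X' => F) r).app U m) = (φr g' F r).app U m := by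
  have h : Sigma.ι (fun _ : Coh.Γtop X' => F) r ≫ φ g' F = φr g' F r := Sigma.ι_desc _ _
  rw [← h]
  rfl


attribute [local instance] modRestr towerRestr

include f g f' in
theorem epi_φ (h : IsPullback g' f' f g) [IsAffine Y] [IsAffine Y'] [F.IsQuasicoherent] :
    Epi (φ g' F) := by
  apply AcycLocal.epi_of_app_surjective_affine
  intro U hU s
  have e : (⊤ : Y'.Opens) ≤ g ⁻¹ᵁ ⊤ := le_rfl
  have hUV : U ≤ f ⁻¹ᵁ ⊤ := fun _ _ => trivial
  have hU' : g' ⁻¹ᵁ U ≤ f' ⁻¹ᵁ ⊤ := fun _ _ => trivial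
  have hU'eq : g' ⁻¹ᵁ U = g' ⁻¹ᵁ U ⊓ f' ⁻¹ᵁ ⊤ := (inf_of_le_left hU').symm
  have hb := cT_isBaseChange_of_affine f g g' f' h F e (isAffineOpen_top Y) (isAffineOpen_top Y')
    hU hUV hU' le_rfl hU'eq
  letI := (g.appLE ⊤ ⊤ e).hom.toAlgebra
  have key : ∀ (t : Γ(Y', ⊤)), ∃ x, (φ g' F).app U x = t • (show SecT ((Scheme.Modules.pullback g').obj F) (f'.app ⊤).hom (g' ⁻¹ᵁ U) hU' from s) := by
    refine hb.inductionOn (show SecT ((Scheme.Modules.pullback g').obj F) (f'.app ⊤).hom (g' ⁻¹ᵁ U) hU' from s)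
      (fun s' => ∀ (t : Γ(Y', ⊤)), ∃ x, (φ g' F).app U x = t • s') ?_ ?_ ?_ ?_
    · intro t
      exact ⟨0, (map_zero _).trans (smul_zero (A := SecT ((Scheme.Modules.pullback g').obj F) (f'.app ⊤).hom (g' ⁻¹ᵁ U) hU') t).symm⟩
    · intro m t
      refine ⟨(Sigma.ι (fun _ : Coh.Γtop X' => F) ((f'.app ⊤).hom t)).app U m, ?_⟩
      rw [φ_ι_app, φr_app]
      change _ = (strT (f'.app ⊤).hom (g' ⁻¹ᵁ U) hU' t) • pbSec g' F U (g' ⁻¹ᵁ U) le_rfl m
      rw [Groth.Agent.Lead.ClUnit.pbSec_le_rfl]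
      rfl
    · intro t' s' hs' t
      obtain ⟨x, hx⟩ := hs' (t * t')
      exact ⟨x, by rw [hx, mul_smul]⟩
    · intro s₁ s₂ h₁ h₂ t
      obtain ⟨x₁, hx₁⟩ := h₁ t
      obtain ⟨x₂, hx₂⟩ := h₂ t
      exact ⟨x₁ + x₂, (map_add _ x₁ x₂).trans ((congrArg₂ (· + ·) hx₁ hx₂).trans (smul_add t s₁ s₂).symm)⟩
  obtain ⟨x, hx⟩ := key 1
  exact ⟨x, by rw [hx, one_smul]⟩


/-- **transfer of vanishing in the top degree under an affine base change** -/
theorem subsingleton_HH_pullback (h : IsPullback g' f' f g) [IsAffine Y] [IsAffine Y']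
    [CompactSpace X] [QuasiSeparatedSpace X] [F.IsQuasicoherent] (d : ℕ)
    (hvan : ∀ K : X.Modules, K.IsQuasicoherent → Subsingleton (Coh.HH X K (d + 1)))
    (h0 : Subsingleton (Coh.HH X F d)) :
    Subsingleton (Coh.HH X' ((Scheme.Modules.pullback g').obj F) d) := by
  haveI : IsAffineHom g' := MorphismProperty.of_isPullback h.flip inferInstance
  haveI : ((Scheme.Modules.pullback g').obj F).IsQuasicoherent :=
    Groth.Agent.Lead.StalkPull.isQuasicoherent_pullbackObj g' F
  haveI hG : ((pushforward g').obj ((Scheme.Modules.pullback g').obj F)).IsQuasicoherent :=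
    QcohGlue.isQuasicoherent_pushforward g' _
  haveI hS : (∐ fun _ : Coh.Γtop X' => F).IsQuasicoherent :=
    QcohLimits.isQuasicoherent_sigma _ (fun _ => inferInstance)
  haveI := epi_φ f g g' f' F h
  apply Groth.Agent.Lead.RpushBC.subsingleton_HH_of_isAffineHom g' _ d
  let S : ShortComplex X.Modules :=
    ShortComplex.mk (kernel.ι (φ g' F)) (φ g' F) (kernel.condition _)
  have hS : S.ShortExact :=
    { exact := ShortComplex.exact_kernel _
      mono_f := inferInstanceAs (Mono (kernel.ι (φ g' F)))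
      epi_g := inferInstanceAs (Epi (φ g' F)) }
  exact Groth.Agent.Lead.BlH1B.subsingleton_HH_right S hS d
    (Groth.Agent.Lead.BlH1B.subsingleton_HH_sigma d _ (fun _ => h0))
    (hvan _ (QcohLimits.isQuasicoherent_kernel _))

end Groth.Agent.Lead.TopBC
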