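import Mathlib
import Groth.Agent.Lead.TopBCA
import Groth.Agent.Lead.FibVanE
import Groth.Agent.Lead.StratB
import Groth.Agent.Helper4.PullUnit
import Groth.Agent.S0034

/-!
# Top degree base change, part B: fibres
-/

set_option autoImplicit false
set_option linter.unusedSectionVars false
set_option linter.style.haveILetI false

open CategoryTheory Limits AlgebraicGeometry TopologicalSpace Opposite

universe u

namespace Groth.Agent.Lead.TopBC

open Scheme.Modules Groth.Agent.Helper4

/-- transfer of vanishing of the top cohomology of the structure sheaf -/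
theorem subsingleton_HH_unit_pullback {X Y X' Y' : Scheme.{u}} (f : X ⟶ Y) (g : Y' ⟶ Y)
    (g' : X' ⟶ X) (f' : X' ⟶ Y') (h : IsPullback g' f' f g) [IsAffine Y] [IsAffine Y']
    [CompactSpace X] [QuasiSeparatedSpace X] (d : ℕ)
    (hvan : ∀ K : X.Modules, K.IsQuasicoherent → Subsingleton (Coh.HH X K (d + 1)))
    (h0 : Subsingleton (Coh.HH X (Coh.structureModule X) d)) :
    Subsingleton (Coh.HH X' (Coh.structureModule X') d) := by
  haveI := Groth.Agent.Lead.BlH1B.isQuasicoherent_unit X
  have h1 := subsingleton_HH_pullback f g g' f' (Coh.structureModule X) h d hvan h0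
  exact Groth.Agent.Lead.StratB.subsingleton_HH_of_iso
    (Groth.Agent.Helper4.PullUnit.pullbackUnitIso g') d h1

/-- descent of vanishing along a faithfully flat extension of the base ring -/
theorem subsingleton_HH_of_faithfullyFlat {k K : CommRingCat.{u}} (ρ : k ⟶ K)
    (hρ : ρ.hom.FaithfullyFlat) {X₁ X₂ : Scheme.{u}} (p₁ : X₁ ⟶ Spec k) (p₂ : X₂ ⟶ Spec K)
    [CompactSpace X₁] [QuasiSeparatedSpace X₁] (g' : X₂ ⟶ X₁)
    (h : IsPullback g' p₂ p₁ (Spec.map ρ)) (n : ℕ)
    (h0 : Subsingleton (Coh.HH X₂ (Coh.structureModule X₂) n)) :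
    Subsingleton (Coh.HH X₁ (Coh.structureModule X₁) n) := by
  letI : Algebra k K := ρ.hom.toAlgebra
  haveI : Module.FaithfullyFlat k K := hρ
  letI : X₁.Over (Spec (CommRingCat.of k)) := ⟨p₁⟩
  letI : X₂.Over (Spec (CommRingCat.of K)) := ⟨p₂⟩
  haveI : Coh.IsQCoh (Coh.structureModule X₁) := Groth.Agent.Lead.BlH1B.isQuasicoherent_unit X₁
  obtain ⟨e⟩ := Groth.Agent.S0034.result k K X₁ X₂ g' h (Coh.structureModule X₁) n
  have h1 : Subsingleton (Coh.HH X₂ ((Scheme.Modules.pullback g').obj (Coh.structureModule X₁)) n) :=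
    Groth.Agent.Lead.StratB.subsingleton_HH_of_iso
      (Groth.Agent.Helper4.PullUnit.pullbackUnitIso g').symm n h0
  haveI : Subsingleton (TensorProduct k K (Coh.HH X₁ (Coh.structureModule X₁) n)) :=
    e.toEquiv.subsingleton
  exact Module.FaithfullyFlat.lTensor_reflects_triviality k K _

theorem faithfullyFlat_of_field {k K : Type u} [Field k] [CommRing K] [Nontrivial K]
    (ρ : k →+* K) : ρ.FaithfullyFlat := by
  letI : Algebra k K := ρ.toAlgebra
  show Module.FaithfullyFlat k K
  infer_instance

/-- the fibre of a base change is a base change of the fibre: descent of vanishing -/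
theorem subsingleton_HH_fiber_of_isPullback {P X Y Z : Scheme.{u}} {fst : P ⟶ X} {snd : P ⟶ Y}
    {f : X ⟶ Z} {g : Y ⟶ Z} (h : IsPullback fst snd f g) [QuasiCompact f] [QuasiSeparated f]
    (y : Y) (n : ℕ)
    (h0 : Subsingleton (Coh.HH (snd.fiber y) (Coh.structureModule (snd.fiber y)) n)) :
    Subsingleton (Coh.HH (f.fiber (g y)) (Coh.structureModule (f.fiber (g y))) n) := by
  have hpb := isPullback_fiberToSpecResidueField_of_isPullback h y
  haveI : QuasiSeparated (f.fiberToSpecResidueField (g y)) :=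
    inferInstanceAs (QuasiSeparated (pullback.snd f (Z.fromSpecResidueField (g y))))
  haveI : QuasiSeparatedSpace ↥(f.fiber (g y)) :=
    quasiSeparatedSpace_of_quasiSeparated (f.fiberToSpecResidueField (g y))
  exact subsingleton_HH_of_faithfullyFlat (X₁ := f.fiber (g y)) (X₂ := snd.fiber y)
    (g.residueFieldMap y) (faithfullyFlat_of_field _) _ _ _ hpb n h0

/-- vanishing of the top cohomology of the structure sheaf passes to the fibres -/
theorem subsingleton_HH_fiber {X Y : Scheme.{u}} (f : X ⟶ Y) [IsProper f] [IsAffine Y] (d : ℕ)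
    (hd : ∀ x : X, FlatMor.fibreDimAt f x ≤ d)
    (h0 : Subsingleton (Coh.HH X (Coh.structureModule X) d)) (y : Y) :
    Subsingleton (Coh.HH (f.fiber y) (Coh.structureModule (f.fiber y)) d) := by
  haveI : CompactSpace X := QuasiCompact.compactSpace_of_compactSpace f
  haveI : QuasiSeparatedSpace X := quasiSeparatedSpace_of_quasiSeparated f
  exact subsingleton_HH_unit_pullback f (Y.fromSpecResidueField y) (f.fiberι y)
    (f.fiberToSpecResidueField y) (IsPullback.of_hasPullback _ _) d
    (fun K hK => Groth.Agent.Lead.FibVan.subsingleton_HH_of_fibreDimAt f d hd K (d + 1)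
      (Nat.lt_succ_self d)) h0

end Groth.Agent.Lead.TopBC
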