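import Mathlib
import Groth.Agent.Lead.TopBCD
import Groth.Agent.Lead.TopBCA

/-!
# Top degree base change, part E: the generating family indexed by the ring of the base
-/

set_option autoImplicit false
set_option linter.unusedSectionVars false
set_option linter.style.haveILetI false

open CategoryTheory Limits AlgebraicGeometry TopologicalSpace Opposite

universe u

namespace Groth.Agent.Lead.TopBC

open Scheme.Modules Groth.Agent.Lead.BCMap Groth.Agent.Helper4

attribute [local instance] modRestr towerRestr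

/-- `g'_* g'^* F` is generated by the translates of `F` under the elements of `A`, when the base
change is along `Spec A ⟶ Y` -/
theorem epi_φA {A : Type u} [CommRing A] {X Y X' : Scheme.{u}} (f : X ⟶ Y)
    (g : Spec (CommRingCat.of A) ⟶ Y) (g' : X' ⟶ X) (f' : X' ⟶ Spec (CommRingCat.of A))
    (h : IsPullback g' f' f g) [IsAffine Y] (F : X.Modules) [F.IsQuasicoherent] :
    Epi (Sigma.desc (fun a : A => φr g' F (Coh.toGlobal f' a)) :
      (∐ fun _ : A => F) ⟶ (pushforward g').obj ((Scheme.Modules.pullback g').obj F)) := by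
  apply AcycLocal.epi_of_app_surjective_affine
  intro U hU s
  have e : (⊤ : (Spec (CommRingCat.of A)).Opens) ≤ g ⁻¹ᵁ ⊤ := le_rfl
  have hUV : U ≤ f ⁻¹ᵁ ⊤ := fun _ _ => trivial
  have hU' : g' ⁻¹ᵁ U ≤ f' ⁻¹ᵁ ⊤ := fun _ _ => trivial
  have hU'eq : g' ⁻¹ᵁ U = g' ⁻¹ᵁ U ⊓ f' ⁻¹ᵁ ⊤ := (inf_of_le_left hU').symm
  have hb := cT_isBaseChange_of_affine f g g' f' h F e (isAffineOpen_top Y)
    (isAffineOpen_top (Spec (CommRingCat.of A))) hU hUV hU' le_rfl hU'eq
  letI := (g.appLE ⊤ ⊤ e).hom.toAlgebra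
  set Φ : (∐ fun _ : A => F) ⟶ (pushforward g').obj ((Scheme.Modules.pullback g').obj F) :=
    Sigma.desc (fun a : A => φr g' F (Coh.toGlobal f' a)) with hΦ
  have hΦι : ∀ (a : A) (m : Γ(F, U)), Φ.app U ((Sigma.ι (fun _ : A => F) a).app U m) =
      (φr g' F (Coh.toGlobal f' a)).app U m := by
    intro a m
    have h1 : Sigma.ι (fun _ : A => F) a ≫ Φ = φr g' F (Coh.toGlobal f' a) := Sigma.ι_desc _ _
    rw [← h1]
    rfl
  have key : ∀ (t : Γ(Spec (CommRingCat.of A), ⊤)), ∃ x, Φ.app U x = t •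
      (show SecT ((Scheme.Modules.pullback g').obj F) (f'.app ⊤).hom (g' ⁻¹ᵁ U) hU' from s) := by
    refine hb.inductionOn
      (show SecT ((Scheme.Modules.pullback g').obj F) (f'.app ⊤).hom (g' ⁻¹ᵁ U) hU' from s)
      (fun s' => ∀ (t : Γ(Spec (CommRingCat.of A), ⊤)), ∃ x, Φ.app U x = t • s') ?_ ?_ ?_ ?_
    · intro t
      exact ⟨0, (map_zero _).trans (smul_zero (A := SecT ((Scheme.Modules.pullback g').obj F)
        (f'.app ⊤).hom (g' ⁻¹ᵁ U) hU') t).symm⟩
    · intro m t
      refine ⟨(Sigma.ι (fun _ : A => F)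
        ((Scheme.ΓSpecIso (CommRingCat.of A)).hom.hom t)).app U m, ?_⟩
      rw [hΦι, φr_app]
      have ht : Coh.toGlobal f' ((Scheme.ΓSpecIso (CommRingCat.of A)).hom.hom t) =
          (f'.app ⊤).hom t := by
        change f'.appTop.hom ((Scheme.ΓSpecIso (CommRingCat.of A)).inv.hom
          ((Scheme.ΓSpecIso (CommRingCat.of A)).hom.hom t)) = _
        have := congrArg (fun φ => φ.hom t) (Scheme.ΓSpecIso (CommRingCat.of A)).hom_inv_id
        simp only [CommRingCat.hom_comp, RingHom.coe_comp, Function.comp_apply,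
          CommRingCat.hom_id, RingHom.id_apply] at this
        rw [this]
        rfl
      rw [ht]
      change _ = (strT (f'.app ⊤).hom (g' ⁻¹ᵁ U) hU' t) • pbSec g' F U (g' ⁻¹ᵁ U) le_rfl m
      rw [Groth.Agent.Lead.ClUnit.pbSec_le_rfl]
      rfl
    · intro t' s' hs' t
      obtain ⟨x, hx⟩ := hs' (t * t')
      exact ⟨x, by rw [hx, mul_smul]⟩
    · intro s₁ s₂ h₁ h₂ t
      obtain ⟨x₁, hx₁⟩ := h₁ t
      obtain ⟨x₂, hx₂⟩ := h₂ t
      exact ⟨x₁ + x₂, (map_add _ x₁ x₂).trans
        ((congrArg₂ (· + ·) hx₁ hx₂).trans (smul_add t s₁ s₂).symm)⟩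
  obtain ⟨x, hx⟩ := key 1
  exact ⟨x, by rw [hx, one_smul]⟩


/-- the same with an identification `θ` of the pullback -/
theorem epi_sigma_smulMod {A : Type u} [CommRing A] {X Y X' : Scheme.{u}} (f : X ⟶ Y)
    (g : Spec (CommRingCat.of A) ⟶ Y) (g' : X' ⟶ X) [X'.Over (Spec (CommRingCat.of A))]
    (h : IsPullback g' (X' ↘ Spec (CommRingCat.of A)) f g) [IsAffine Y] (F : X.Modules)
    [F.IsQuasicoherent] (F' : X'.Modules) (θ : (Scheme.Modules.pullback g').obj F ≅ F') :
    Epi (Sigma.desc (fun a : A =>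
      ((pullbackPushforwardAdjunction g').unit.app F ≫ (pushforward g').map θ.hom) ≫
        (pushforward g').map (Formal.smulMod A F' a)) :
      (∐ fun _ : A => F) ⟶ (pushforward g').obj F') := by
  haveI := epi_φA f g g' (X' ↘ Spec (CommRingCat.of A)) h F
  have key : (Sigma.desc (fun a : A =>
      ((pullbackPushforwardAdjunction g').unit.app F ≫ (pushforward g').map θ.hom) ≫
        (pushforward g').map (Formal.smulMod A F' a)) :
      (∐ fun _ : A => F) ⟶ (pushforward g').obj F') =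
      Sigma.desc (fun a : A => φr g' F (Coh.toGlobal (X' ↘ Spec (CommRingCat.of A)) a)) ≫
        (pushforward g').map θ.hom := by
    apply Sigma.hom_ext
    intro a
    rw [Sigma.ι_desc, Sigma.ι_desc_assoc]
    unfold φr
    rw [Category.assoc, Category.assoc, ← Functor.map_comp, ← Functor.map_comp]
    congr 2
    exact KLin.comp_smulModΓ θ.hom _
  rw [key]
  infer_instance

end Groth.Agent.Lead.TopBC
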