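import Mathlib
import Groth.Agent.Lead.FibVanD

/-!
# Top degree base change, part F: approximation of a proper morphism with bounded fibre dimension
-/

set_option autoImplicit false
set_option linter.unusedSectionVars false
set_option linter.style.haveILetI false

open CategoryTheory Limits AlgebraicGeometry TopologicalSpace Opposite

universe u

namespace Groth.Agent.Lead.TopBC

open Groth.Agent.Lead.FibVan

set_option maxHeartbeats 800000 in
/-- a proper morphism with fibres of dimension `≤ d` over an affine base is a closed subscheme of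
a finitely presented proper one with the same property -/
theorem exists_closedImmersion_fp {X Y : Scheme.{u}} (f : X ⟶ Y) [IsProper f] [IsAffine Y]
    (d : ℕ) (hd : ∀ x : X, FlatMor.fibreDimAt f x ≤ d) :
    ∃ (Z : Scheme.{u}) (j : X ⟶ Z) (q : Z ⟶ Y), IsClosedImmersion j ∧ IsProper q ∧
      LocallyOfFinitePresentation q ∧ j ≫ q = f ∧ ∀ z : Z, FlatMor.fibreDimAt q z ≤ d := by
  obtain ⟨I, _, _, D, c, hc, e, hcl, h2⟩ := Groth.Agent.S2079.result f
  let D' : I ⥤ Scheme.{u} := D ⋙ Over.forget Y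
  let c' : Cone D' := (Over.forget Y).mapCone c
  have hc' : IsLimit c' := isLimitOfPreserves (Over.forget Y) hc
  let t : D' ⟶ (Functor.const I).obj Y :=
    { app := fun i => (D.obj i).hom
      naturality := fun i j a => by
        simp only [Functor.const_obj_obj, Functor.const_obj_map, Category.comp_id]
        exact Over.w (D.map a) }
  have hf : ∀ i, c'.π.app i ≫ t.app i = c.pt.hom := fun i => Over.w (c.π.app i)
  have hcl' : ∀ {i j : I} (a : i ⟶ j), IsClosedImmersion (D'.map a) := fun {i j} a => hcl i j a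
  have hπ' : ∀ i, IsClosedImmersion (c'.π.app i) := fun i => (h2 i).1
  haveI : ∀ i, IsProper (t.app i) := fun i => (h2 i).2.1
  haveI : ∀ i, LocallyOfFiniteType (t.app i) := fun i => inferInstance
  haveI : ∀ i, QuasiCompact (t.app i) := fun i => inferInstance
  haveI : ∀ i, CompactSpace (D'.obj i) := fun i => by
    haveI : IsProper (D.obj i).hom := (h2 i).2.1
    exact QuasiCompact.compactSpace_of_compactSpace (D.obj i).hom
  haveI : IsIso e.hom.left := inferInstanceAs (IsIso ((Over.forget Y).map e.hom))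
  have hcpt : c.pt.hom = e.hom.left ≫ f := (Over.w e.hom).symm
  have hd' : ∀ s : c'.pt, FlatMor.fibreDimAt c.pt.hom s ≤ d := by
    intro s
    rw [hcpt]
    exact (fibreDimAt_le_of_isEmbedding e.hom.left f
      e.hom.left.isOpenEmbedding.isEmbedding s).trans (hd _)
  obtain ⟨i, hi⟩ := exists_stage_fibreDimAt_le hc' t c.pt.hom hf hcl' hπ' d hd'
  haveI : IsIso e.inv.left := inferInstanceAs (IsIso ((Over.forget Y).map e.inv))
  haveI : IsClosedImmersion (c.π.app i).left := (h2 i).1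
  refine ⟨(D.obj i).left, e.inv.left ≫ (c.π.app i).left, (D.obj i).hom, inferInstance,
    (h2 i).2.1, (h2 i).2.2, ?_, hi⟩
  rw [Category.assoc, Over.w (c.π.app i)]
  exact Over.w e.inv


set_option maxHeartbeats 800000 in
/-- Noetherian approximation of a finitely presented proper morphism with fibres of dimension
`≤ d` over an affine base -/
theorem exists_noeth_model {X Y : Scheme.{u}} (f : X ⟶ Y) [IsProper f]
    [LocallyOfFinitePresentation f] [IsAffine Y] (d : ℕ)
    (hd : ∀ x : X, FlatMor.fibreDimAt f x ≤ d) :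
    ∃ (S X₀ : Scheme.{u}) (h : X₀ ⟶ S) (gX : X ⟶ X₀) (gY : Y ⟶ S), IsAffine S ∧
      IsLocallyNoetherian S ∧ IsProper h ∧ (∀ x : X₀, FlatMor.fibreDimAt h x ≤ d) ∧
      IsPullback gX f h gY := by
  obtain ⟨Λ, _, _, _, DS, cS, hcS, haff, hD, ⟨eS⟩⟩ := Groth.Agent.S0590.result Y
  haveI : ∀ (i j : Λᵒᵖ) (f : i ⟶ j), IsAffineHom (DS.map f) := haff
  haveI hA' : ∀ {i j : Λᵒᵖ} (f : i ⟶ j), IsAffineHom (DS.map f) := fun f ↦ haff _ _ f
  haveI : ∀ i, CompactSpace (DS.obj i) := fun i ↦ (hD i).1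
  haveI hln : ∀ i, IsLocallyNoetherian (DS.obj i) := by
    intro i
    haveI := (hD i).2
    haveI : IsNoetherianRing (ULift.{u} ℤ) :=
      isNoetherianRing_of_ringEquiv ℤ (ULift.ringEquiv : ULift.{u} ℤ ≃+* ℤ).symm
    haveI : IsLocallyNoetherian (Spec (CommRingCat.of (ULift.{u} ℤ))) := inferInstance
    exact LocallyOfFiniteType.isLocallyNoetherian (specULiftZIsTerminal.from (DS.obj i))
  haveI hqs : ∀ i, QuasiSeparatedSpace (DS.obj i) := fun i => inferInstance
  haveI : IsFiltered Λ := inferInstance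
  haveI : IsAffine cS.pt := IsAffine.of_isIso eS.hom
  obtain ⟨ia, hia⟩ := Scheme.exists_isAffine_of_isLimit DS cS hcS
  haveI : IsProper (f ≫ eS.inv) := inferInstance
  haveI : LocallyOfFinitePresentation (f ≫ eS.inv) := inferInstance
  obtain ⟨i', W, w, gW, hw1, hw2, hsq⟩ :=
    Groth.Agent.Lead.PropStage.descend_proper_fp (fun f => Groth.Agent.S7409.result f)
      DS cS hcS (f ≫ eS.inv)
  haveI := hw1
  haveI := hw2
  let k₀ : Λᵒᵖ := IsCofiltered.min i' ia
  let u : k₀ ⟶ i' := IsCofiltered.minToLeft i' ia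
  let v : k₀ ⟶ ia := IsCofiltered.minToRight i' ia
  let W₀ := pullback w (DS.map u)
  let w₀ : W₀ ⟶ DS.obj k₀ := pullback.snd w (DS.map u)
  have hW₀ : IsPullback (pullback.fst w (DS.map u)) w₀ w (DS.map u) := IsPullback.of_hasPullback _ _
  haveI : IsProper w₀ := MorphismProperty.pullback_snd _ _ hw1
  have hcomm : gW ≫ w = ((f ≫ eS.inv) ≫ cS.π.app k₀) ≫ DS.map u := by
    rw [hsq.w]; simp only [Category.assoc, cS.w]
  let gW₀ : X ⟶ W₀ := pullback.lift gW ((f ≫ eS.inv) ≫ cS.π.app k₀) hcomm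
  have hsq₀ : IsPullback gW₀ (f ≫ eS.inv) w₀ (cS.π.app k₀) := by
    have s : IsPullback (gW₀ ≫ pullback.fst w (DS.map u)) (f ≫ eS.inv) w
        (cS.π.app k₀ ≫ DS.map u) := by
      rw [pullback.lift_fst, cS.w u]; exact hsq
    exact IsPullback.of_right s (pullback.lift_snd _ _ _) hW₀
  have hd' : ∀ x : X, FlatMor.fibreDimAt (f ≫ eS.inv) x ≤ d :=
    fibreDimAt_comp_iso_le f eS.inv d hd
  have hY : IsPullback (cS.π.app k₀) (𝟙 cS.pt) (𝟙 (DS.obj k₀)) (cS.π.app k₀) :=
    IsPullback.id_vert _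
  obtain ⟨i, φ, Xi, Yi, fi, gi, pY, pX, h1, h2, hdi⟩ :=
    Groth.Agent.Lead.LimDim.main hcS k₀ (𝟙 (DS.obj k₀)) w₀ d (f ≫ eS.inv) (𝟙 cS.pt)
      (cS.π.app k₀) gW₀ hY hsq₀ hd'
  haveI : IsIso gi := h1.isIso_snd_of_isIso
  have hp' : IsPullback pX (fi ≫ gi) (w₀ ≫ 𝟙 _) (DS.map φ) := h2.paste_vert h1
  rw [Category.comp_id] at hp'
  haveI : IsProper (fi ≫ gi) := MorphismProperty.of_isPullback hp' inferInstance
  haveI : IsProper fi := MorphismProperty.of_isPullback h2 inferInstance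
  have hdi' : ∀ x : Xi, FlatMor.fibreDimAt (fi ≫ gi) x ≤ d := fibreDimAt_comp_iso_le fi gi d hdi
  haveI : IsAffine (DS.obj ia) := hia
  haveI : IsAffine (DS.obj i) := isAffine_of_isAffineHom (DS.map (φ ≫ v))
  have hw' : gW₀ ≫ w₀ = ((f ≫ eS.inv) ≫ cS.π.app i) ≫ DS.map φ := by
    rw [hsq₀.w]; simp only [Category.assoc, cS.w]
  let gX : X ⟶ Xi := hp'.lift gW₀ ((f ≫ eS.inv) ≫ cS.π.app i) hw'
  have hsqX : IsPullback gX (f ≫ eS.inv) (fi ≫ gi) (cS.π.app i) := by
    have s : IsPullback (gX ≫ pX) (f ≫ eS.inv) w₀ (cS.π.app i ≫ DS.map φ) := by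
      rw [hp'.lift_fst, cS.w φ]; exact hsq₀
    exact IsPullback.of_right s (hp'.lift_snd _ _ _) hp'
  refine ⟨DS.obj i, Xi, fi ≫ gi, gX, eS.inv ≫ cS.π.app i, inferInstance, hln i, inferInstance,
    hdi', ?_⟩
  exact IsPullback.of_iso hsqX (Iso.refl _) (Iso.refl _) eS (Iso.refl _) (by simp) (by simp)
    (by simp) (by simp)

end Groth.Agent.Lead.TopBC
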