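import Mathlib
import Groth.Agent.Lead.TopBCE
import Groth.Agent.Lead.TopBCF
import Groth.Agent.Lead.HomShH
import Groth.Agent.Helper4.PullUnit
import Groth.Agent.S0002
import Groth.Prelude.Def_ClSub2

/-!
# Top degree base change, part G: the top cohomology of the structure sheaf is a finite module
-/

set_option autoImplicit false
set_option linter.unusedSectionVars false
set_option linter.style.haveILetI false

open CategoryTheory Limits AlgebraicGeometry TopologicalSpace Opposite

universe u

namespace Groth.Agent.Lead.TopBC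

open Scheme.Modules Groth.Agent.Helper4 Groth.Agent.Lead.FibVan

/-- for a closed immersion `O_P ⟶ i_* O_X` is an epimorphism -/
theorem epi_unitToPush' {X P : Scheme.{u}} (i : X ⟶ P) [IsClosedImmersion i] :
    Epi (ClSub.unitToPush i) :=
  AcycLocal.epi_of_app_surjective_affine _ (fun U hU => i.app_surjective U hU)

set_option maxHeartbeats 800000 in
/-- **finiteness of the top cohomology of the structure sheaf** of a proper scheme over any ring
whose fibres have dimension `≤ d` -/
theorem finite_HH_top (A : Type u) [CommRing A] (X : Scheme.{u}) [X.Over (Spec (CommRingCat.of A))]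
    [IsProper (X ↘ Spec (CommRingCat.of A))] (d : ℕ)
    (hd : ∀ x : X, FlatMor.fibreDimAt (X ↘ Spec (CommRingCat.of A)) x ≤ d) :
    Module.Finite A (Coh.HH X (Coh.structureModule X) d) := by
  obtain ⟨Z, j, q, hj, hq, hqfp, hjq, hdq⟩ :=
    exists_closedImmersion_fp (X ↘ Spec (CommRingCat.of A)) d hd
  obtain ⟨S, Z₀, h, gZ, gY, hS, hSN, hh, hdh, hpb⟩ := exists_noeth_model q d hdq
  haveI : IsNoetherianRing Γ(S, ⊤) :=
    IsLocallyNoetherian.component_noetherian ⟨⊤, isAffineOpen_top S⟩
  let h' : Z₀ ⟶ Spec (CommRingCat.of Γ(S, ⊤)) := h ≫ S.isoSpec.hom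
  haveI : IsProper h' := inferInstanceAs (IsProper (h ≫ S.isoSpec.hom))
  have hdh' : ∀ x : Z₀, FlatMor.fibreDimAt h' x ≤ d := fibreDimAt_comp_iso_le h S.isoSpec.hom d hdh
  letI : Z₀.Over (Spec (CommRingCat.of Γ(S, ⊤))) := ⟨h'⟩
  haveI : IsProper (Z₀ ↘ Spec (CommRingCat.of Γ(S, ⊤))) := inferInstanceAs (IsProper h')
  have hfin₀ : Module.Finite Γ(S, ⊤) (Coh.HH Z₀ (Coh.structureModule Z₀) d) :=
    Groth.Agent.S0002.result Γ(S, ⊤) Z₀ (Coh.structureModule Z₀)
      (Groth.Agent.Lead.HomShH.isCoh_unit Z₀) d
  -- the ring map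
  let ρ' : CommRingCat.of Γ(S, ⊤) ⟶ CommRingCat.of A := Spec.preimage (gY ≫ S.isoSpec.hom)
  have hρ' : Spec.map ρ' = gY ≫ S.isoSpec.hom := Spec.map_preimage _
  letI : Z.Over (Spec (CommRingCat.of A)) := ⟨q⟩
  have hpb' : IsPullback gZ q h' (Spec.map ρ') := by
    rw [hρ']
    exact IsPullback.of_iso hpb (Iso.refl _) (Iso.refl _) (Iso.refl _) S.isoSpec (by simp)
      (by simp) (Category.id_comp _).symm (by simp)
  haveI : IsAffineHom gZ := MorphismProperty.of_isPullback hpb'.flip inferInstance
  haveI : CompactSpace Z₀ := QuasiCompact.compactSpace_of_compactSpace h'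
  haveI : QuasiSeparatedSpace Z₀ := quasiSeparatedSpace_of_quasiSeparated h'
  haveI hq0 := Groth.Agent.Lead.BlH1B.isQuasicoherent_unit Z₀
  haveI hq1 := Groth.Agent.Lead.BlH1B.isQuasicoherent_unit Z
  haveI hq2 := Groth.Agent.Lead.BlH1B.isQuasicoherent_unit X
  -- step 1
  have hfin₁ : Module.Finite A (Coh.HH Z (Coh.structureModule Z) d) := by
    have hepi := epi_sigma_smulMod h' (Spec.map ρ') gZ hpb' (Coh.structureModule Z₀)
      (Coh.structureModule Z) (Groth.Agent.Helper4.PullUnit.pullbackUnitIso gZ)
    haveI : ((pushforward gZ).obj (Coh.structureModule Z)).IsQuasicoherent :=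
      QcohGlue.isQuasicoherent_pushforward gZ _
    haveI : (∐ fun _ : A => Coh.structureModule Z₀).IsQuasicoherent :=
      QcohLimits.isQuasicoherent_sigma _ (fun _ => hq0)
    refine finite_HH_of_epi ρ'.hom gZ ?_ (Coh.structureModule Z₀) (Coh.structureModule Z) _ hepi d
      ?_ hfin₀
    · exact hpb'.w
    · haveI := QcohLimits.isQuasicoherent_kernel (Sigma.desc (fun a : A =>
        ((pullbackPushforwardAdjunction gZ).unit.app (Coh.structureModule Z₀) ≫
          (pushforward gZ).map (Groth.Agent.Helper4.PullUnit.pullbackUnitIso gZ).hom) ≫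
        (pushforward gZ).map (Formal.smulMod A (Coh.structureModule Z) a)) :
        (∐ fun _ : A => Coh.structureModule Z₀) ⟶ (pushforward gZ).obj (Coh.structureModule Z))
      exact subsingleton_HH_of_fibreDimAt h' d hdh' _ (d + 1) (Nat.lt_succ_self d)
  -- step 2
  haveI := hj
  haveI := hq
  haveI : IsAffineHom j := inferInstance
  haveI : CompactSpace Z := QuasiCompact.compactSpace_of_compactSpace q
  haveI : QuasiSeparatedSpace Z := quasiSeparatedSpace_of_quasiSeparated q
  haveI := epi_unitToPush' j
  have hone : Formal.smulMod A (Coh.structureModule X) 1 = 𝟙 _ := by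
    unfold Formal.smulMod
    rw [map_one]
    exact KLin.smulModΓ_one _
  have hepi₂ : Epi (Sigma.desc (fun a : A => ClSub.unitToPush j ≫
      (pushforward j).map (Formal.smulMod A (Coh.structureModule X) a)) :
      (∐ fun _ : A => Coh.structureModule Z) ⟶ (pushforward j).obj (Coh.structureModule X)) := by
    have h1 : Sigma.ι (fun _ : A => Coh.structureModule Z) 1 ≫ (Sigma.desc (fun a : A =>
        ClSub.unitToPush j ≫ (pushforward j).map (Formal.smulMod A (Coh.structureModule X) a)) :
        (∐ fun _ : A => Coh.structureModule Z) ⟶ (pushforward j).obj (Coh.structureModule X)) =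
        ClSub.unitToPush j := by
      rw [Sigma.ι_desc, hone, CategoryTheory.Functor.map_id, Category.comp_id]
    haveI : Epi (Sigma.ι (fun _ : A => Coh.structureModule Z) 1 ≫ (Sigma.desc (fun a : A =>
        ClSub.unitToPush j ≫ (pushforward j).map (Formal.smulMod A (Coh.structureModule X) a)) :
        (∐ fun _ : A => Coh.structureModule Z) ⟶ (pushforward j).obj (Coh.structureModule X))) := by
      rw [h1]; infer_instance
    exact epi_of_epi (Sigma.ι (fun _ : A => Coh.structureModule Z) 1) _
  haveI : ((pushforward j).obj (Coh.structureModule X)).IsQuasicoherent :=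
    QcohGlue.isQuasicoherent_pushforward j _
  haveI : (∐ fun _ : A => Coh.structureModule Z).IsQuasicoherent :=
    QcohLimits.isQuasicoherent_sigma _ (fun _ => hq1)
  refine finite_HH_of_epi (RingHom.id A) j ?_ (Coh.structureModule Z) (Coh.structureModule X)
    (ClSub.unitToPush j) hepi₂ d ?_ hfin₁
  · change j ≫ q = (X ↘ Spec (CommRingCat.of A)) ≫ Spec.map (CommRingCat.ofHom (RingHom.id A))
    rw [hjq]
    have : CommRingCat.ofHom (RingHom.id A) = 𝟙 (CommRingCat.of A) := rfl
    rw [this, Spec.map_id, Category.comp_id]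
  · haveI := QcohLimits.isQuasicoherent_kernel (Sigma.desc (fun a : A => ClSub.unitToPush j ≫
      (pushforward j).map (Formal.smulMod A (Coh.structureModule X) a)) :
      (∐ fun _ : A => Coh.structureModule Z) ⟶ (pushforward j).obj (Coh.structureModule X))
    exact subsingleton_HH_of_fibreDimAt q d hdq _ (d + 1) (Nat.lt_succ_self d)

end Groth.Agent.Lead.TopBC
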