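import Mathlib
import Groth.Agent.Lead.TopBCD
import Groth.Agent.Lead.TopBCB
import Groth.Agent.Helper1.FormA

/-!
# Top degree base change, part H: the Nakayama inclusion and ascent of vanishing to field points
-/

set_option autoImplicit false
set_option linter.unusedSectionVars false
set_option linter.style.haveILetI false

open CategoryTheory Limits AlgebraicGeometry TopologicalSpace Opposite

universe u

namespace Groth.Agent.Lead.TopBC

open Scheme.Modules Groth.Agent.Helper4 Groth.Agent.Lead.NatLeray Groth.Agent.Helper1.SerreCrit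
  Groth.Agent.Helper1.Form

/-- if the top cohomology of `F / J F` vanishes then `H^d(X, F) = J • H^d(X, F)` -/
theorem top_le_smul {A : Type u} [CommRing A] {X : Scheme.{u}} [X.Over (Spec (CommRingCat.of A))]
    [CompactSpace X] [QuasiSeparatedSpace X] (F : X.Modules) [F.IsQuasicoherent] (J : Ideal A)
    (d : ℕ) (hvan : ∀ K : X.Modules, K.IsQuasicoherent → Subsingleton (Coh.HH X K (d + 1)))
    (h0 : Subsingleton (Coh.HH X (cokernel (Formal.smulFamily J F)) d)) :
    (⊤ : Submodule A (Coh.HH X F d)) ≤ J • ⊤ := by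
  intro x _
  set σ := Formal.smulFamily J F with hσ
  haveI hSig : (∐ fun _ : J => F).IsQuasicoherent :=
    QcohLimits.isQuasicoherent_sigma _ (fun _ => inferInstance)
  let S : ShortComplex X.Modules :=
    ShortComplex.mk (kernel.ι (cokernel.π σ)) (cokernel.π σ) (kernel.condition _)
  have hS : S.ShortExact :=
    { exact := ShortComplex.exact_kernel _
      mono_f := inferInstanceAs (Mono (kernel.ι (cokernel.π σ)))
      epi_g := inferInstanceAs (Epi (cokernel.π σ)) }
  have hS' : (S.map (toAbF X)).ShortExact := hS.map_of_exact (toAbF X)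
  obtain ⟨k, hk⟩ := Abelian.Ext.covariant_sequence_exact₂ _ hS'
    (show Abelian.Ext _ (S.map (toAbF X)).X₂ d from x) (@Subsingleton.elim _ h0 _ _)
  have hk' : HHmap (kernel.ι (cokernel.π σ)) d k = x := hk
  haveI : (Abelian.image σ).IsQuasicoherent := QcohLimits.isQuasicoherent_image σ
  haveI : (kernel (Abelian.factorThruImage σ)).IsQuasicoherent :=
    QcohLimits.isQuasicoherent_kernel _
  have hmem := mem_closure_of_epi_sigma (fun _ : J => F) (Abelian.factorThruImage σ) d
    (hvan _ inferInstance) k
  have hmap := AddSubgroup.mem_map_of_mem (HHmap (kernel.ι (cokernel.π σ)) d) hmem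
  rw [AddMonoidHom.map_closure, hk'] at hmap
  have hle : AddSubgroup.closure ((HHmap (kernel.ι (cokernel.π σ)) d) ''
      {z : Coh.HH X (Abelian.image σ) d | ∃ (j : J) (x : Coh.HH X F d),
        z = HHmap (Sigma.ι (fun _ : J => F) j ≫ Abelian.factorThruImage σ) d x}) ≤
      (J • (⊤ : Submodule A (Coh.HH X F d))).toAddSubgroup := by
    rw [AddSubgroup.closure_le]
    rintro _ ⟨_, ⟨b, x', rfl⟩, rfl⟩
    show HHmap (kernel.ι (cokernel.π σ)) d _ ∈ J • (⊤ : Submodule A (Coh.HH X F d))
    rw [← HHmap_comp, Category.assoc]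
    have h1 : Abelian.factorThruImage σ ≫ kernel.ι (cokernel.π σ) = σ := Abelian.image.fac σ
    rw [h1, hσ, ι_smulFamily, ← smul_eq_HHmap]
    exact Submodule.smul_mem_smul b.2 Submodule.mem_top
  exact hle hmap


/-- **ascent of vanishing from the fibre to a field-valued point over it** -/
theorem subsingleton_HH_pullback_of_fiber {X Y : Scheme.{u}} (f : X ⟶ Y) [IsProper f] (d : ℕ)
    (hd : ∀ x : X, FlatMor.fibreDimAt f x ≤ d) (K : Type u) [Field K]
    (s : Spec (CommRingCat.of K) ⟶ Y) (y : Y) (hy : s (IsLocalRing.closedPoint K) = y)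
    (h0 : Subsingleton (Coh.HH (f.fiber y) (Coh.structureModule (f.fiber y)) d))
    {X₂ : Scheme.{u}} (g₂ : X₂ ⟶ X) (f₂ : X₂ ⟶ Spec (CommRingCat.of K))
    (hpb : IsPullback g₂ f₂ f s) :
    Subsingleton (Coh.HH X₂ (Coh.structureModule X₂) d) := by
  subst hy
  have hs : Spec.map (Y.descResidueField (Scheme.stalkClosedPointTo s)) ≫
      Y.fromSpecResidueField (s (IsLocalRing.closedPoint K)) = s :=
    Scheme.descResidueField_stalkClosedPointTo_fromSpecResidueField K Y s
  have hfib : IsPullback (f.fiberι (s (IsLocalRing.closedPoint K)))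
      (f.fiberToSpecResidueField (s (IsLocalRing.closedPoint K))) f
      (Y.fromSpecResidueField (s (IsLocalRing.closedPoint K))) := IsPullback.of_hasPullback _ _
  have hw : g₂ ≫ f = (f₂ ≫ Spec.map (Y.descResidueField (Scheme.stalkClosedPointTo s))) ≫
      Y.fromSpecResidueField (s (IsLocalRing.closedPoint K)) := by
    rw [Category.assoc, hs, hpb.w]
  have hsq : IsPullback (hfib.lift g₂ (f₂ ≫ Spec.map (Y.descResidueField
      (Scheme.stalkClosedPointTo s))) hw) f₂
      (f.fiberToSpecResidueField (s (IsLocalRing.closedPoint K)))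
      (Spec.map (Y.descResidueField (Scheme.stalkClosedPointTo s))) := by
    refine IsPullback.of_right ?_ (hfib.lift_snd _ _ _) hfib
    rw [hfib.lift_fst, hs]
    exact hpb
  haveI : IsProper (f.fiberToSpecResidueField (s (IsLocalRing.closedPoint K))) :=
    MorphismProperty.of_isPullback hfib inferInstance
  have hd' := (Groth.Agent.S9358.result f (Y.fromSpecResidueField (s (IsLocalRing.closedPoint K)))
    (f.fiberι (s (IsLocalRing.closedPoint K)))
    (f.fiberToSpecResidueField (s (IsLocalRing.closedPoint K))) hfib d).2.1 hd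
  haveI : QuasiSeparatedSpace ↥(f.fiber (s (IsLocalRing.closedPoint K))) :=
    quasiSeparatedSpace_of_quasiSeparated
      (f.fiberToSpecResidueField (s (IsLocalRing.closedPoint K)))
  exact subsingleton_HH_unit_pullback (f.fiberToSpecResidueField (s (IsLocalRing.closedPoint K)))
    (Spec.map (Y.descResidueField (Scheme.stalkClosedPointTo s))) _ f₂ hsq d
    (fun K hK => Groth.Agent.Lead.FibVan.subsingleton_HH_of_fibreDimAt _ d hd' K (d + 1)
      (Nat.lt_succ_self d)) h0

end Groth.Agent.Lead.TopBC
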