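import Mathlib
import Groth.Agent.Lead.TopBCG
import Groth.Agent.Lead.TopBCH
import Groth.Agent.Helper1.QuotPush1

/-!
# Top degree base change, part I: Nakayama for the top cohomology of the structure sheaf
-/

set_option autoImplicit false
set_option linter.unusedSectionVars false
set_option linter.style.haveILetI false

open CategoryTheory Limits AlgebraicGeometry TopologicalSpace Opposite

universe u

namespace Groth.Agent.Lead.TopBC

open Scheme.Modules Groth.Agent.Helper4 Groth.Agent.Lead.NatLeray Groth.Agent.Helper1.Form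
  Groth.Agent.Lead.FibVan

/-- over a local ring: if the top cohomology of the structure sheaf of the closed fibre vanishes,
so does that of the total space -/
theorem subsingleton_HH_of_isLocalRing (B : Type u) [CommRing B] [IsLocalRing B] (X : Scheme.{u})
    [X.Over (Spec (CommRingCat.of B))] [IsProper (X ↘ Spec (CommRingCat.of B))] (d : ℕ)
    (hd : ∀ x : X, FlatMor.fibreDimAt (X ↘ Spec (CommRingCat.of B)) x ≤ d)
    {XJ : Scheme.{u}} (i : XJ ⟶ X)
    (fJ : XJ ⟶ Spec (CommRingCat.of (B ⧸ IsLocalRing.maximalIdeal B)))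
    (hsq : IsPullback i fJ (X ↘ Spec (CommRingCat.of B))
      (Spec.map (CommRingCat.ofHom (Ideal.Quotient.mk (IsLocalRing.maximalIdeal B)))))
    (h0 : Subsingleton (Coh.HH XJ (Coh.structureModule XJ) d)) :
    Subsingleton (Coh.HH X (Coh.structureModule X) d) := by
  haveI : CompactSpace X := QuasiCompact.compactSpace_of_compactSpace (X ↘ Spec (CommRingCat.of B))
  haveI : QuasiSeparatedSpace X :=
    quasiSeparatedSpace_of_quasiSeparated (X ↘ Spec (CommRingCat.of B))
  haveI := Groth.Agent.Lead.BlH1B.isQuasicoherent_unit X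
  haveI := Groth.Agent.Lead.BlH1B.isQuasicoherent_unit XJ
  have hfin : Module.Finite B (Coh.HH X (Coh.structureModule X) d) := finite_HH_top B X d hd
  have hQ := Groth.Agent.Helper1.QuotPush.isQuot_unitToPush (IsLocalRing.maximalIdeal B) hsq
  have hQ' := isQuot_cokernelπ (IsLocalRing.maximalIdeal B) (Coh.structureModule X)
  haveI : IsClosedImmersion (Spec.map (CommRingCat.ofHom
      (Ideal.Quotient.mk (IsLocalRing.maximalIdeal B)))) :=
    IsClosedImmersion.spec_of_surjective _ Ideal.Quotient.mk_surjective
  haveI : IsClosedImmersion i := Groth.Agent.Lead.ThickBC.isClosedImmersion_of_isPullback hsq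
  haveI : IsAffineHom i := inferInstance
  obtain ⟨e, -⟩ := exists_addEquiv_HH_push i (Coh.structureModule XJ) d
  have h1 : Subsingleton (Coh.HH X ((pushforward i).obj (Coh.structureModule XJ)) d) :=
    e.symm.toEquiv.subsingleton
  have h2 : Subsingleton (Coh.HH X (cokernel (Formal.smulFamily (IsLocalRing.maximalIdeal B)
      (Coh.structureModule X))) d) :=
    Groth.Agent.Lead.StratB.subsingleton_HH_of_iso (hQ'.iso hQ).symm d h1
  have hle := top_le_smul (Coh.structureModule X) (IsLocalRing.maximalIdeal B) d
    (fun K hK => subsingleton_HH_of_fibreDimAt (X ↘ Spec (CommRingCat.of B)) d hd K (d + 1)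
      (Nat.lt_succ_self d)) h2
  have hbot := Submodule.eq_bot_of_le_smul_of_le_jacobson_bot (IsLocalRing.maximalIdeal B)
    (⊤ : Submodule B (Coh.HH X (Coh.structureModule X) d)) hfin.fg_top hle
    (by rw [IsLocalRing.jacobson_eq_maximalIdeal ⊥ bot_ne_top])
  refine ⟨fun a b => ?_⟩
  have ha : a ∈ (⊤ : Submodule B (Coh.HH X (Coh.structureModule X) d)) := Submodule.mem_top
  have hb : b ∈ (⊤ : Submodule B (Coh.HH X (Coh.structureModule X) d)) := Submodule.mem_top
  rw [hbot, Submodule.mem_bot] at ha hb
  rw [ha, hb]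

end Groth.Agent.Lead.TopBC
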