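import Mathlib
import Groth.Agent.Lead.TopBCI

/-!
# Top degree base change, part J: annihilation of the top cohomology near a point with vanishing
fibre cohomology
-/

set_option autoImplicit false
set_option linter.unusedSectionVars false
set_option linter.style.haveILetI false

open CategoryTheory Limits AlgebraicGeometry TopologicalSpace Opposite TensorProduct

universe u

namespace Groth.Agent.Lead.TopBC

/-- a finite module whose localization at a prime vanishes is killed by an element outside the
prime -/
theorem exists_smul_eq_zero_of_subsingleton_tensor {A : Type u} [CommRing A] (𝔭 : Ideal A)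
    [𝔭.IsPrime] (M : Type u) [AddCommGroup M] [Module A M] [Module.Finite A M]
    (h : Subsingleton (Localization.AtPrime 𝔭 ⊗[A] M)) :
    ∃ a : A, a ∉ 𝔭 ∧ ∀ m : M, a • m = 0 := by
  classical
  haveI : IsLocalizedModule 𝔭.primeCompl (TensorProduct.mk A (Localization.AtPrime 𝔭) M 1) :=
    (isLocalizedModule_iff_isBaseChange 𝔭.primeCompl (Localization.AtPrime 𝔭) _).2
      (TensorProduct.isBaseChange A M (Localization.AtPrime 𝔭))
  have hex : ∀ m : M, ∃ c : 𝔭.primeCompl, c • m = 0 := fun m =>
    (IsLocalizedModule.eq_zero_iff 𝔭.primeCompl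
      (TensorProduct.mk A (Localization.AtPrime 𝔭) M 1)).1 (Subsingleton.elim _ _)
  choose c hc using hex
  obtain ⟨s, hs⟩ := (inferInstance : Module.Finite A M).fg_top
  refine ⟨((∏ m ∈ s, c m : 𝔭.primeCompl) : A), (∏ m ∈ s, c m).2, fun x => ?_⟩
  have hx : x ∈ Submodule.span A (s : Set M) := by rw [hs]; trivial
  induction hx using Submodule.span_induction with
  | mem m hm =>
    have hm' : m ∈ s := hm
    rw [← Finset.mul_prod_erase s c hm', Submonoid.coe_mul, mul_comm, mul_smul]
    have : ((c m : 𝔭.primeCompl) : A) • m = 0 := hc m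
    rw [this, smul_zero]
  | zero => exact smul_zero _
  | add x y _ _ hx hy => rw [smul_add, hx, hy, add_zero]
  | smul r x _ hx => rw [smul_comm, hx, smul_zero]


open Scheme.Modules Groth.Agent.Helper4 Groth.Agent.Lead.NatLeray Groth.Agent.Lead.FibVan

set_option maxHeartbeats 800000 in
/-- **if the top cohomology of the structure sheaf of the fibre at `y` vanishes, the top
cohomology of the total space is killed by a function which does not vanish at `y`** -/
theorem exists_smul_eq_zero_of_fiber (A : Type u) [CommRing A] (X : Scheme.{u})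
    [X.Over (Spec (CommRingCat.of A))] [IsProper (X ↘ Spec (CommRingCat.of A))] (d : ℕ)
    (hd : ∀ x : X, FlatMor.fibreDimAt (X ↘ Spec (CommRingCat.of A)) x ≤ d)
    (y : PrimeSpectrum A)
    (hy : Subsingleton (Coh.HH ((X ↘ Spec (CommRingCat.of A)).fiber y)
      (Coh.structureModule ((X ↘ Spec (CommRingCat.of A)).fiber y)) d)) :
    ∃ a : A, a ∉ y.asIdeal ∧ ∀ x : Coh.HH X (Coh.structureModule X) d, a • x = 0 := by
  haveI : CompactSpace X := QuasiCompact.compactSpace_of_compactSpace (X ↘ Spec (CommRingCat.of A))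
  haveI : QuasiSeparatedSpace X :=
    quasiSeparatedSpace_of_quasiSeparated (X ↘ Spec (CommRingCat.of A))
  haveI hqX := Groth.Agent.Lead.BlH1B.isQuasicoherent_unit X
  set f := X ↘ Spec (CommRingCat.of A) with hf
  let B := Localization.AtPrime y.asIdeal
  let gB : Spec (CommRingCat.of B) ⟶ Spec (CommRingCat.of A) :=
    Spec.map (CommRingCat.ofHom (algebraMap A B))
  let XB := pullback f gB
  let pB : XB ⟶ Spec (CommRingCat.of B) := pullback.snd f gB
  have hsqB : IsPullback (pullback.fst f gB) pB f gB := IsPullback.of_hasPullback f gB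
  letI : XB.Over (Spec (CommRingCat.of B)) := ⟨pB⟩
  haveI : IsProper pB := MorphismProperty.pullback_snd _ _ inferInstance
  haveI : IsProper (XB ↘ Spec (CommRingCat.of B)) := inferInstanceAs (IsProper pB)
  have hdB : ∀ x : XB, FlatMor.fibreDimAt pB x ≤ d :=
    (Groth.Agent.S9358.result f gB (pullback.fst f gB) pB hsqB d).2.1 hd
  let J := IsLocalRing.maximalIdeal B
  let gJ : Spec (CommRingCat.of (B ⧸ J)) ⟶ Spec (CommRingCat.of B) :=
    Spec.map (CommRingCat.ofHom (Ideal.Quotient.mk J))
  let XJ := pullback pB gJ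
  have hsqJ : IsPullback (pullback.fst pB gJ) (pullback.snd pB gJ) pB gJ :=
    IsPullback.of_hasPullback pB gJ
  letI : Field (B ⧸ J) := Ideal.Quotient.field J
  have hpaste : IsPullback (pullback.fst pB gJ ≫ pullback.fst f gB) (pullback.snd pB gJ) f
      (gJ ≫ gB) := hsqJ.paste_horiz hsqB
  have hpt : (gJ ≫ gB) (IsLocalRing.closedPoint (B ⧸ J)) = y := by
    apply PrimeSpectrum.ext
    change Ideal.comap (algebraMap A B) (Ideal.comap (Ideal.Quotient.mk J)
      (IsLocalRing.maximalIdeal (B ⧸ J))) = y.asIdeal
    rw [IsLocalRing.maximalIdeal_eq_bot, ← RingHom.ker_eq_comap_bot, Ideal.mk_ker]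
    exact Localization.AtPrime.under_maximalIdeal
  have h0J : Subsingleton (Coh.HH XJ (Coh.structureModule XJ) d) :=
    subsingleton_HH_pullback_of_fiber f d hd (B ⧸ J) (gJ ≫ gB) y hpt hy _ _ hpaste
  have hB : Subsingleton (Coh.HH XB (Coh.structureModule XB) d) :=
    subsingleton_HH_of_isLocalRing B XB d hdB (pullback.fst pB gJ) (pullback.snd pB gJ) hsqJ h0J
  haveI : Module.Flat A B := IsLocalization.flat B y.asIdeal.primeCompl
  obtain ⟨e⟩ := Groth.Agent.S0034.result A B X XB (pullback.fst f gB) hsqB
    (Coh.structureModule X) d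
  have h3 : Subsingleton (Coh.HH XB ((Scheme.Modules.pullback (pullback.fst f gB)).obj
      (Coh.structureModule X)) d) :=
    Groth.Agent.Lead.StratB.subsingleton_HH_of_iso
      (Groth.Agent.Helper4.PullUnit.pullbackUnitIso (pullback.fst f gB)).symm d hB
  have h4 : Subsingleton (B ⊗[A] Coh.HH X (Coh.structureModule X) d) := e.toEquiv.subsingleton
  haveI hfin : Module.Finite A (Coh.HH X (Coh.structureModule X) d) := finite_HH_top A X d hd
  exact exists_smul_eq_zero_of_subsingleton_tensor y.asIdeal _ h4

end Groth.Agent.Lead.TopBC
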