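import Mathlib
import Groth.Agent.Lead.TopBCJ

/-!
# Top degree base change, part K: vanishing of the top cohomology from vanishing on the fibres
-/

set_option autoImplicit false
set_option linter.unusedSectionVars false
set_option linter.style.haveILetI false

open CategoryTheory Limits AlgebraicGeometry TopologicalSpace Opposite TensorProduct

universe u

namespace Groth.Agent.Lead.TopBC

open Scheme.Modules Groth.Agent.Helper4 Groth.Agent.Lead.NatLeray Groth.Agent.Lead.FibVan

/-- **transfer of vanishing when the top cohomology is killed by a function which becomes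
invertible after the base change** -/
theorem subsingleton_HH_pullback_of_smul_eq_zero {X Y X' Y' : Scheme.{u}} (f : X ⟶ Y)
    (g : Y' ⟶ Y) (g' : X' ⟶ X) (f' : X' ⟶ Y') (F : X.Modules) (h : IsPullback g' f' f g)
    [IsAffine Y] [IsAffine Y'] [CompactSpace X] [QuasiSeparatedSpace X] [F.IsQuasicoherent]
    (d : ℕ) (hvan : ∀ K : X.Modules, K.IsQuasicoherent → Subsingleton (Coh.HH X K (d + 1)))
    (r₀ : Coh.Γtop X) (hr₀ : ∀ x : Coh.HH X F d, HHmap (Formal.smulModΓ F r₀) d x = 0)
    (hunit : IsUnit (g'.appTop.hom r₀)) :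
    Subsingleton (Coh.HH X' ((Scheme.Modules.pullback g').obj F) d) := by
  haveI : IsAffineHom g' := MorphismProperty.of_isPullback h.flip inferInstance
  haveI : ((Scheme.Modules.pullback g').obj F).IsQuasicoherent :=
    Groth.Agent.Lead.StalkPull.isQuasicoherent_pullbackObj g' F
  haveI hG : ((pushforward g').obj ((Scheme.Modules.pullback g').obj F)).IsQuasicoherent :=
    QcohGlue.isQuasicoherent_pushforward g' _
  haveI hS : (∐ fun _ : Coh.Γtop X' => F).IsQuasicoherent :=
    QcohLimits.isQuasicoherent_sigma _ (fun _ => inferInstance)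
  haveI := epi_φ f g g' f' F h
  apply Groth.Agent.Lead.RpushBC.subsingleton_HH_of_isAffineHom g' _ d
  haveI : (kernel (φ g' F)).IsQuasicoherent := QcohLimits.isQuasicoherent_kernel _
  obtain ⟨u, hu⟩ : ∃ u : Coh.Γtop X', (show Coh.Γtop X' from g'.appTop.hom r₀) * u = 1 :=
    hunit.exists_right_inv
  have hφ : ∀ r : Coh.Γtop X', φr g' F r = Formal.smulModΓ F r₀ ≫ φr g' F (u * r) := by
    intro r
    have hmul : (show Coh.Γtop X' from g'.appTop.hom r₀) * (u * r) = r := by
      rw [← mul_assoc, hu, one_mul]
    have e1 : Formal.smulModΓ F r₀ ≫ (pullbackPushforwardAdjunction g').unit.app F =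
        (pullbackPushforwardAdjunction g').unit.app F ≫
          Formal.smulModΓ ((pushforward g').obj ((Scheme.Modules.pullback g').obj F)) r₀ :=
      (KLin.comp_smulModΓ _ r₀).symm
    have e2 := Groth.Agent.Helper1.BD.pushforward_map_smulModΓ g'
      ((Scheme.Modules.pullback g').obj F) r₀
    have e3 : Formal.smulModΓ ((Scheme.Modules.pullback g').obj F) r =
        Formal.smulModΓ ((Scheme.Modules.pullback g').obj F) (g'.appTop.hom r₀) ≫
          Formal.smulModΓ ((Scheme.Modules.pullback g').obj F) (u * r) := by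
      rw [← KLin.smulModΓ_mul]
      congr 1
      exact hmul.symm
    unfold φr
    rw [← Category.assoc, e1, Category.assoc, ← e2, ← Functor.map_comp]
    congr 2
  refine ⟨fun a b => ?_⟩
  have key : ∀ z : Coh.HH X ((pushforward g').obj ((Scheme.Modules.pullback g').obj F)) d,
      z = 0 := by
    intro z
    have hz := mem_closure_of_epi_sigma (fun _ : Coh.Γtop X' => F) (φ g' F) d
      (hvan _ inferInstance) z
    have hle : AddSubgroup.closure {z : Coh.HH X ((pushforward g').obj
        ((Scheme.Modules.pullback g').obj F)) d | ∃ (j : Coh.Γtop X') (x : Coh.HH X F d),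
        z = HHmap (Sigma.ι (fun _ : Coh.Γtop X' => F) j ≫ φ g' F) d x} ≤ ⊥ := by
      rw [AddSubgroup.closure_le]
      rintro _ ⟨r, x, rfl⟩
      have h1 : Sigma.ι (fun _ : Coh.Γtop X' => F) r ≫ φ g' F = φr g' F r := Sigma.ι_desc _ _
      rw [h1, hφ r, HHmap_comp, hr₀ x, map_zero]
      rfl
    exact (AddSubgroup.mem_bot).1 (hle hz)
  rw [key a, key b]

/-- **the top cohomology of the structure sheaf vanishes if it does so on all fibres** -/
theorem subsingleton_HH_of_fibers (A : Type u) [CommRing A] (X : Scheme.{u})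
    [X.Over (Spec (CommRingCat.of A))] [IsProper (X ↘ Spec (CommRingCat.of A))] (d : ℕ)
    (hd : ∀ x : X, FlatMor.fibreDimAt (X ↘ Spec (CommRingCat.of A)) x ≤ d)
    (hy : ∀ y : PrimeSpectrum A, Subsingleton (Coh.HH ((X ↘ Spec (CommRingCat.of A)).fiber y)
      (Coh.structureModule ((X ↘ Spec (CommRingCat.of A)).fiber y)) d)) :
    Subsingleton (Coh.HH X (Coh.structureModule X) d) := by
  have key : ∀ x : Coh.HH X (Coh.structureModule X) d, x = 0 := by
    intro x
    let I : Ideal A := LinearMap.ker (LinearMap.toSpanSingleton A _ x)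
    by_contra hx
    have hI : I ≠ ⊤ := by
      intro hI
      have h1 : (1 : A) ∈ I := by rw [hI]; trivial
      rw [LinearMap.mem_ker, LinearMap.toSpanSingleton_apply, one_smul] at h1
      exact hx h1
    obtain ⟨𝔪, h𝔪, hle⟩ := Ideal.exists_le_maximal I hI
    haveI := h𝔪.isPrime
    obtain ⟨a, ha, hax⟩ := exists_smul_eq_zero_of_fiber A X d hd ⟨𝔪, inferInstance⟩ (hy _)
    apply ha
    apply hle
    rw [LinearMap.mem_ker, LinearMap.toSpanSingleton_apply]
    exact hax x
  exact ⟨fun a b => by rw [key a, key b]⟩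

end Groth.Agent.Lead.TopBC
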