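import Mathlib
import Groth.Agent.Lead.TopBCK

/-!
# Top degree base change, part L: affine bases which are not literally spectra
-/

set_option autoImplicit false
set_option linter.unusedSectionVars false
set_option linter.style.haveILetI false

open CategoryTheory Limits AlgebraicGeometry TopologicalSpace Opposite TensorProduct

universe u

namespace Groth.Agent.Lead.TopBC

open Scheme.Modules Groth.Agent.Helper4 Groth.Agent.Lead.NatLeray Groth.Agent.Lead.FibVan

/-- vanishing on the fibres of `f` gives vanishing on the fibres of `f ≫ e` for an isomorphism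
`e` -/
theorem subsingleton_HH_fiber_comp_iso {X Y Y' : Scheme.{u}} (f : X ⟶ Y) [QuasiCompact f]
    [QuasiSeparated f] (e : Y ⟶ Y') [IsIso e] (n : ℕ)
    (h : ∀ y : Y, Subsingleton (Coh.HH (f.fiber y) (Coh.structureModule (f.fiber y)) n))
    (y' : Y') :
    Subsingleton (Coh.HH ((f ≫ e).fiber y') (Coh.structureModule ((f ≫ e).fiber y')) n) := by
  have sq : IsPullback (𝟙 X) f (f ≫ e) e := IsPullback.of_horiz_isIso ⟨by simp⟩
  have h1 := subsingleton_HH_fiber_of_isPullback sq ((inv e) y') n (h _)
  have hy : e ((inv e) y') = y' := by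
    have := congrArg (fun φ => φ.base y') (IsIso.inv_hom_id e)
    exact this
  rw [hy] at h1
  exact h1

/-- **vanishing of the top cohomology of the structure sheaf from vanishing on the fibres**,
over an affine base -/
theorem subsingleton_HH_of_fibers' {X Y : Scheme.{u}} (f : X ⟶ Y) [IsProper f] [IsAffine Y]
    (d : ℕ) (hd : ∀ x : X, FlatMor.fibreDimAt f x ≤ d)
    (h : ∀ y : Y, Subsingleton (Coh.HH (f.fiber y) (Coh.structureModule (f.fiber y)) d)) :
    Subsingleton (Coh.HH X (Coh.structureModule X) d) := by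
  letI : X.Over (Spec (CommRingCat.of Γ(Y, ⊤))) := ⟨f ≫ Y.isoSpec.hom⟩
  haveI : IsProper (X ↘ Spec (CommRingCat.of Γ(Y, ⊤))) :=
    inferInstanceAs (IsProper (f ≫ Y.isoSpec.hom))
  exact subsingleton_HH_of_fibers Γ(Y, ⊤) X d (fibreDimAt_comp_iso_le f Y.isoSpec.hom d hd)
    (fun y => subsingleton_HH_fiber_comp_iso f Y.isoSpec.hom d h y)

end Groth.Agent.Lead.TopBC
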