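import Mathlib
import Groth.Agent.Lead.TopBCL

/-!
# Top degree base change, part M: an open neighbourhood over which the top cohomology vanishes
universally
-/

set_option autoImplicit false
set_option linter.unusedSectionVars false
set_option linter.style.haveILetI false

open CategoryTheory Limits AlgebraicGeometry TopologicalSpace Opposite TensorProduct

universe u

namespace Groth.Agent.Lead.TopBC

open Scheme.Modules Groth.Agent.Helper4 Groth.Agent.Lead.NatLeray Groth.Agent.Lead.FibVan

/-- ascent of vanishing from the fibre to a field-valued point over it; only the dimension of the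
fibre in question is bounded -/
theorem subsingleton_HH_pullback_of_fiber' {X Y : Scheme.{u}} (f : X ⟶ Y) [IsProper f] (d : ℕ)
    (K : Type u) [Field K]
    (s : Spec (CommRingCat.of K) ⟶ Y) (y : Y) (hy : s (IsLocalRing.closedPoint K) = y)
    (hdy : topologicalKrullDim ↥(f.fiber y) ≤ d)
    (h0 : Subsingleton (Coh.HH (f.fiber y) (Coh.structureModule (f.fiber y)) d))
    {X₂ : Scheme.{u}} (g₂ : X₂ ⟶ X) (f₂ : X₂ ⟶ Spec (CommRingCat.of K))
    (hpb : IsPullback g₂ f₂ f s) :
    Subsingleton (Coh.HH X₂ (Coh.structureModule X₂) d) := by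
  subst hy
  have hs : Spec.map (Y.descResidueField (Scheme.stalkClosedPointTo s)) ≫
      Y.fromSpecResidueField (s (IsLocalRing.closedPoint K)) = s :=
    Scheme.descResidueField_stalkClosedPointTo_fromSpecResidueField K Y s
  have hfib : IsPullback (f.fiberι (s (IsLocalRing.closedPoint K)))
      (f.fiberToSpecResidueField (s (IsLocalRing.closedPoint K))) f
      (Y.fromSpecResidueField (s (IsLocalRing.closedPoint K))) := IsPullback.of_hasPullback _ _
  have hw : g₂ ≫ f = (f₂ ≫ Spec.map (Y.descResidueField (Scheme.stalkClosedPointTo s))) ≫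
      Y.fromSpecResidueField (s (IsLocalRing.closedPoint K)) := by
    rw [Category.assoc, hs, hpb.w]
  have hsq : IsPullback (hfib.lift g₂ (f₂ ≫ Spec.map (Y.descResidueField
      (Scheme.stalkClosedPointTo s))) hw) f₂
      (f.fiberToSpecResidueField (s (IsLocalRing.closedPoint K)))
      (Spec.map (Y.descResidueField (Scheme.stalkClosedPointTo s))) := by
    refine IsPullback.of_right ?_ (hfib.lift_snd _ _ _) hfib
    rw [hfib.lift_fst, hs]
    exact hpb
  haveI : IsProper (f.fiberToSpecResidueField (s (IsLocalRing.closedPoint K))) :=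
    MorphismProperty.of_isPullback hfib inferInstance
  have hd' : ∀ x' : ↥(f.fiber (s (IsLocalRing.closedPoint K))),
      FlatMor.fibreDimAt (f.fiberToSpecResidueField (s (IsLocalRing.closedPoint K))) x' ≤ d := by
    intro x'
    rw [(Groth.Agent.S9358.result f (Y.fromSpecResidueField (s (IsLocalRing.closedPoint K)))
      (f.fiberι (s (IsLocalRing.closedPoint K)))
      (f.fiberToSpecResidueField (s (IsLocalRing.closedPoint K))) hfib d).1 x']
    refine (fiber_dim_le_iff f (s (IsLocalRing.closedPoint K)) d).1 hdy _ ?_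
    have hmem : (f.fiberι (s (IsLocalRing.closedPoint K))) x' ∈
        Set.range (f.fiberι (s (IsLocalRing.closedPoint K))) := ⟨x', rfl⟩
    rw [Scheme.Hom.range_fiberι] at hmem
    exact hmem
  haveI : QuasiSeparatedSpace ↥(f.fiber (s (IsLocalRing.closedPoint K))) :=
    quasiSeparatedSpace_of_quasiSeparated
      (f.fiberToSpecResidueField (s (IsLocalRing.closedPoint K)))
  exact subsingleton_HH_unit_pullback (f.fiberToSpecResidueField (s (IsLocalRing.closedPoint K)))
    (Spec.map (Y.descResidueField (Scheme.stalkClosedPointTo s))) _ f₂ hsq d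
    (fun K hK => Groth.Agent.Lead.FibVan.subsingleton_HH_of_fibreDimAt _ d hd' K (d + 1)
      (Nat.lt_succ_self d)) h0

/-- ascent of vanishing from the fibre of `f` to the fibre of a base change -/
theorem subsingleton_HH_fiber_of_isPullback' {P X Y Z : Scheme.{u}} {fst : P ⟶ X} {snd : P ⟶ Y}
    {f : X ⟶ Z} {g : Y ⟶ Z} (h : IsPullback fst snd f g) [IsProper f] (y : Y) (d : ℕ)
    (hdy : topologicalKrullDim ↥(f.fiber (g y)) ≤ d)
    (h0 : Subsingleton (Coh.HH (f.fiber (g y)) (Coh.structureModule (f.fiber (g y))) d)) :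
    Subsingleton (Coh.HH (snd.fiber y) (Coh.structureModule (snd.fiber y)) d) := by
  have hpb : IsPullback (snd.fiberι y ≫ fst) (snd.fiberToSpecResidueField y) f
      (Y.fromSpecResidueField y ≫ g) :=
    (IsPullback.of_hasPullback snd (Y.fromSpecResidueField y)).paste_horiz h
  refine subsingleton_HH_pullback_of_fiber' f d (Y.residueField y)
    (Y.fromSpecResidueField y ≫ g) (g y) ?_ hdy h0 _ _ hpb
  have := Scheme.fromSpecResidueField_apply y (IsLocalRing.closedPoint (Y.residueField y))
  exact congrArg (fun z => g z) this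


/-- a section over the whole space whose basic open set is everything is a unit -/
theorem isUnit_of_basicOpen_eq_top {U : Scheme.{u}} (s : Γ(U, ⊤)) (h : U.basicOpen s = ⊤) :
    IsUnit s := by
  refine RingedSpace.isUnit_of_isUnit_germ U.toLocallyRingedSpace.toRingedSpace ⊤ s ?_
  intro x hx
  have hx' : x ∈ U.basicOpen s := by rw [h]; trivial
  exact (Scheme.mem_basicOpen U s x hx).1 hx'

set_option maxHeartbeats 800000 in
/-- **universal local vanishing**: `f` proper over an affine base with fibres of dimension `≤ d`;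
if the top cohomology of the structure sheaf of the fibre at `y` vanishes, there is an open
neighbourhood `V` of `y` such that the top cohomology of the structure sheaf of `X ×_Y U` vanishes
for every affine `U` mapping into `V` -/
theorem exists_open_universal {X Y : Scheme.{u}} (f : X ⟶ Y) [IsProper f] [IsAffine Y] (d : ℕ)
    (hd : ∀ x : X, FlatMor.fibreDimAt f x ≤ d) (y : Y)
    (h0 : Subsingleton (Coh.HH (f.fiber y) (Coh.structureModule (f.fiber y)) d)) :
    ∃ V : Y.Opens, y ∈ V ∧ ∀ (U : Scheme.{u}) [IsAffine U] (t : U ⟶ Y) (_ : ∀ u : U, t u ∈ V)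
      (X' : Scheme.{u}) (g' : X' ⟶ X) (f' : X' ⟶ U) (_ : IsPullback g' f' f t),
      Subsingleton (Coh.HH X' (Coh.structureModule X') d) := by
  let A := Γ(Y, ⊤)
  let e := Y.isoSpec.hom
  letI : X.Over (Spec (CommRingCat.of A)) := ⟨f ≫ e⟩
  haveI : IsProper (X ↘ Spec (CommRingCat.of A)) := inferInstanceAs (IsProper (f ≫ Y.isoSpec.hom))
  have hd₁ : ∀ x : X, FlatMor.fibreDimAt (f ≫ e) x ≤ d := fibreDimAt_comp_iso_le f e d hd
  have sq : IsPullback (𝟙 X) f (f ≫ e) e := IsPullback.of_horiz_isIso ⟨by simp⟩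
  have h1 := subsingleton_HH_fiber_of_isPullback sq y d h0
  obtain ⟨a, ha, hax⟩ := exists_smul_eq_zero_of_fiber A X d hd₁ (e y) h1
  refine ⟨e ⁻¹ᵁ (PrimeSpectrum.basicOpen a), ha, ?_⟩
  intro U _ t ht X' g' f' hpb
  haveI : CompactSpace X := QuasiCompact.compactSpace_of_compactSpace f
  haveI : QuasiSeparatedSpace X := quasiSeparatedSpace_of_quasiSeparated f
  haveI := Groth.Agent.Lead.BlH1B.isQuasicoherent_unit X
  have hpb' : IsPullback g' f' (f ≫ e) (t ≫ e) :=
    IsPullback.of_iso hpb (Iso.refl _) (Iso.refl _) (Iso.refl _) Y.isoSpec (by simp) (by simp)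
      (Category.id_comp _).symm (Category.id_comp _).symm
  have hunit : IsUnit (g'.appTop.hom (Coh.toGlobal (f ≫ e) a)) := by
    have h2 : g'.appTop.hom (Coh.toGlobal (f ≫ e) a) =
        f'.appTop.hom ((t ≫ e).appTop.hom ((Scheme.ΓSpecIso (CommRingCat.of A)).inv.hom a)) := by
      have h3 : (f ≫ e).appTop ≫ g'.appTop = (t ≫ e).appTop ≫ f'.appTop := by
        rw [← Scheme.Hom.comp_appTop, ← Scheme.Hom.comp_appTop, hpb'.w]
      exact congrArg (fun φ => φ.hom ((Scheme.ΓSpecIso (CommRingCat.of A)).inv.hom a)) h3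
    rw [h2]
    apply RingHom.isUnit_map
    apply isUnit_of_basicOpen_eq_top
    rw [← Scheme.preimage_basicOpen_top]
    have hbo : (Spec Γ(Y, ⊤)).basicOpen ((Scheme.ΓSpecIso Γ(Y, ⊤)).inv a) =
        PrimeSpectrum.basicOpen a := basicOpen_eq_of_affine (R := Γ(Y, ⊤)) a
    change (t ≫ e) ⁻¹ᵁ ((Spec Γ(Y, ⊤)).basicOpen ((Scheme.ΓSpecIso Γ(Y, ⊤)).inv a)) = ⊤
    rw [hbo]
    ext u
    simp only [Opens.coe_top, Set.mem_univ, iff_true]
    exact ht u
  have h4 := subsingleton_HH_pullback_of_smul_eq_zero (f ≫ e) (t ≫ e) g' f'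
    (Coh.structureModule X) hpb' d
    (fun K hK => subsingleton_HH_of_fibreDimAt (f ≫ e) d hd₁ K (d + 1) (Nat.lt_succ_self d))
    (Coh.toGlobal (f ≫ e) a) (fun x => hax x) hunit
  exact Groth.Agent.Lead.StratB.subsingleton_HH_of_iso
    (Groth.Agent.Helper4.PullUnit.pullbackUnitIso g') d h4

end Groth.Agent.Lead.TopBC
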