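import Mathlib
import Groth.Agent.Lead.TopBCM
import Groth.Agent.Lead.BCMap7
import Groth.Agent.Helper4.QuasiAffineGG
import Groth.Agent.Helper4.CounitEpi
import Groth.Agent.Helper4.PullUnit
import Groth.Agent.Helper4.QcohEpi

/-!
# Top degree base change, part N: global sections of a pullback; surjectivity of
`O_Y → f_* O_X` under base change
-/

set_option autoImplicit false
set_option linter.unusedSectionVars false
set_option linter.style.haveILetI false

open CategoryTheory Limits AlgebraicGeometry TopologicalSpace Opposite TensorProduct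

universe u

namespace Groth.Agent.Lead.TopBC

open Scheme.Modules Groth.Agent.Helper4 Groth.Agent.Lead.NatLeray Groth.Agent.Lead.FibVan
  Groth.Agent.Lead.BCMap

variable {X Y : Scheme.{u}}

/-- `H⁰` is the global sections -/
noncomputable def γ (M : X.Modules) : Coh.HH X M 0 ≃+ Γ(M, ⊤) :=
  Sheaf.H.equiv₀ (Coh.toAb M) (isTerminalTop (α := X.Opens))

theorem γ_HHmap {M N : X.Modules} (φ : M ⟶ N) (y : Coh.HH X M 0) :
    γ N (HHmap φ 0 y) = φ.app ⊤ (γ M y) :=
  (Sheaf.H.equiv₀_naturality (isTerminalTop (α := X.Opens))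
    ((SheafOfModules.toSheaf X.ringCatSheaf).map φ) y).symm

/-- the canonical isomorphism `f^* O_Y ≅ O_X` on pulled back sections -/
theorem pullbackUnitIso_hom_pbSec (f : X ⟶ Y) (U : Y.Opens) (V : X.Opens) (e : V ≤ f ⁻¹ᵁ U)
    (m : Γ(Coh.structureModule Y, U)) :
    (PullUnit.pullbackUnitIso f).hom.app V (pbSec f (Coh.structureModule Y) U V e m) =
      f.appLE U V e m := by
  have h := homEquiv_app f (Coh.structureModule Y) (PullUnit.pullbackUnitIso f).hom U V e m
  rw [← h]
  have h2 : ((pullbackPushforwardAdjunction f).homEquiv _ _) (PullUnit.pullbackUnitIso f).hom =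
      SheafOfModules.unitToPushforwardObjUnit f.toRingCatSheafHom :=
    SheafOfModules.pullbackPushforwardAdjunction_homEquiv_pullbackObjUnitToUnit
      f.toRingCatSheafHom
  rw [h2]
  rfl

/-- a morphism out of the structure module is determined by the image of `1` -/
theorem unit_app_eq_smul {N : X.Modules} (ψ : Coh.structureModule X ⟶ N) (s : Γ(X, ⊤)) :
    ψ.app ⊤ (show Γ(Coh.structureModule X, ⊤) from s) =
      s • ψ.app ⊤ (show Γ(Coh.structureModule X, ⊤) from (1 : Γ(X, ⊤))) := by
  have h := Hom.app_smul ψ s (show Γ(Coh.structureModule X, ⊤) from (1 : Γ(X, ⊤)))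
  rw [← h]
  congr 1
  exact (mul_one s).symm

/-- **generation of the global sections of a pullback**: if `H¹` vanishes on globally generated
quasi-coherent modules of `X` and `Y` is affine, then `Γ(X, f^* M)` is generated by the pulled
back sections of `M`, for `M` quasi-coherent -/
theorem mem_closure_pbSec (f : X ⟶ Y) [IsAffine Y] [CompactSpace X] [QuasiSeparatedSpace X]
    (hgg : ∀ K : X.Modules, K.IsQuasicoherent → Curv2.IsGloballyGenerated K →
      Subsingleton (Coh.HH X K 1))
    (M : Y.Modules) [M.IsQuasicoherent] (t : Γ((Scheme.Modules.pullback f).obj M, ⊤)) :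
    t ∈ AddSubgroup.closure {t : Γ((Scheme.Modules.pullback f).obj M, ⊤) |
      ∃ (s : Γ(X, ⊤)) (m : Γ(M, ⊤)), t = s • pbSec f M ⊤ ⊤ le_rfl m} := by
  haveI hqY := Groth.Agent.Lead.BlH1B.isQuasicoherent_unit Y
  haveI hqX := Groth.Agent.Lead.BlH1B.isQuasicoherent_unit X
  obtain ⟨ι, p, hp⟩ := QuasiAffineGG.isGloballyGenerated_of_isOpenImmersion_Spec Y.isoSpec.hom M
  haveI := hp
  haveI hfY : (SheafOfModules.free ι : Y.Modules).IsQuasicoherent :=
    QcohLimits.isQuasicoherent_sigma _ (fun _ => hqY)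
  haveI hfX : (SheafOfModules.free ι : X.Modules).IsQuasicoherent :=
    QcohLimits.isQuasicoherent_sigma _ (fun _ => hqX)
  haveI hK₀ : (kernel p).IsQuasicoherent := QcohLimits.isQuasicoherent_kernel p
  have ggK₀ : Curv2.IsGloballyGenerated (kernel p) :=
    @QuasiAffineGG.isGloballyGenerated_of_isOpenImmersion_Spec _ Y Y.isoSpec.hom inferInstance
      inferInstance (kernel p) hK₀
  have ggPK₀ := CounitEpi.isGloballyGenerated_pullback f ggK₀
  -- right exactness of the pullback
  let S₀ : ShortComplex Y.Modules := ShortComplex.mk (kernel.ι p) p (kernel.condition p)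
  have hS₀ : S₀.Exact := ShortComplex.exact_kernel p
  have hS₁ : (S₀.map (Scheme.Modules.pullback f)).Exact :=
    hS₀.map_of_epi_of_preservesCokernel (Scheme.Modules.pullback f) hp inferInstance
  have hq : Epi (kernel.lift ((Scheme.Modules.pullback f).map p)
      ((Scheme.Modules.pullback f).map (kernel.ι p)) (S₀.map (Scheme.Modules.pullback f)).zero) :=
    (S₀.map (Scheme.Modules.pullback f)).exact_iff_epi_kernel_lift.mp hS₁
  have ggK₁ : Curv2.IsGloballyGenerated (kernel ((Scheme.Modules.pullback f).map p)) :=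
    CounitEpi.isGloballyGenerated_of_epi _ hq ggPK₀
  -- the free presentation of the pullback
  haveI : (SheafOfModules.pushforward.{u} f.toRingCatSheafHom).IsRightAdjoint :=
    (inferInstance : (Scheme.Modules.pushforward f).IsRightAdjoint)
  let c : (Scheme.Modules.pullback f).obj (SheafOfModules.free ι : Y.Modules) ≅
      (SheafOfModules.free ι : X.Modules) :=
    SheafOfModules.pullbackObjFreeIso f.toRingCatSheafHom ι
  let E : ι → X.Modules := fun _ => Coh.structureModule X
  let Ψ : (∐ E) ⟶ (Scheme.Modules.pullback f).obj M := c.inv ≫ (Scheme.Modules.pullback f).map p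
  haveI hPM : ((Scheme.Modules.pullback f).obj M).IsQuasicoherent :=
    Groth.Agent.Lead.StalkPull.isQuasicoherent_pullbackObj f M
  haveI : (Scheme.Modules.pullback f).PreservesEpimorphisms :=
    Functor.preservesEpimorphisms_of_adjunction (Scheme.Modules.pullbackPushforwardAdjunction f)
  haveI hPp : Epi ((Scheme.Modules.pullback f).map p) :=
    @Functor.map_epi _ _ _ _ (Scheme.Modules.pullback f) _ _ _ p hp
  haveI hΨ : Epi Ψ := epi_comp _ _
  haveI hSig : (∐ E).IsQuasicoherent := hfX
  haveI hKΨ : (kernel Ψ).IsQuasicoherent := QcohLimits.isQuasicoherent_kernel Ψ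
  have ggKΨ : Curv2.IsGloballyGenerated (kernel Ψ) :=
    CounitEpi.isGloballyGenerated_of_iso
      (kernelIsIsoComp c.inv ((Scheme.Modules.pullback f).map p)).symm ggK₁
  have h1 : Subsingleton (Coh.HH X (kernel Ψ) (0 + 1)) := hgg _ hKΨ ggKΨ
  have hz := mem_closure_of_epi_sigma E Ψ 0 h1 ((γ _).symm t)
  -- the generators
  have hι : ∀ j : ι, Sigma.ι E j ≫ Ψ = (PullUnit.pullbackUnitIso f).inv ≫
      (Scheme.Modules.pullback f).map
        (Sigma.ι (fun _ : ι => Coh.structureModule Y) j ≫ p) := by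
    intro j
    have h0 := SheafOfModules.pullback_map_ιFree_comp_pullbackObjFreeIso_hom
      f.toRingCatSheafHom (I := ι) j
    have h2 : Sigma.ι E j ≫ c.inv = (PullUnit.pullbackUnitIso f).inv ≫
        (Scheme.Modules.pullback f).map (Sigma.ι (fun _ : ι => Coh.structureModule Y) j) := by
      refine (Iso.comp_inv_eq _).mpr ?_
      exact ((Category.assoc _ _ _).trans
        ((congrArg (fun z => (PullUnit.pullbackUnitIso f).inv ≫ z) h0).trans
          (Iso.inv_hom_id_assoc (PullUnit.pullbackUnitIso f) _))).symm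
    exact (Category.assoc _ _ _).symm.trans
      ((congrArg (fun z => z ≫ (Scheme.Modules.pullback f).map p) h2).trans
        ((Category.assoc _ _ _).trans
          (congrArg (fun z => (PullUnit.pullbackUnitIso f).inv ≫ z)
            ((Scheme.Modules.pullback f).map_comp _ _).symm)))
  have hone : (PullUnit.pullbackUnitIso f).inv.app ⊤
      (show Γ(Coh.structureModule X, ⊤) from (1 : Γ(X, ⊤))) =
      pbSec f (Coh.structureModule Y) ⊤ ⊤ le_rfl
        (show Γ(Coh.structureModule Y, ⊤) from (1 : Γ(Y, ⊤))) := by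
    have h3 := pullbackUnitIso_hom_pbSec f ⊤ ⊤ le_rfl
      (show Γ(Coh.structureModule Y, ⊤) from (1 : Γ(Y, ⊤)))
    have h4 : f.appLE ⊤ ⊤ le_rfl (1 : Γ(Y, ⊤)) = (1 : Γ(X, ⊤)) := map_one _
    have h5 := congrArg ((PullUnit.pullbackUnitIso f).inv.app ⊤) (h3.trans h4)
    rw [← h5]
    rw [← AcycLocal.comp_app_apply, (PullUnit.pullbackUnitIso f).hom_inv_id]
    rfl
  have key : ∀ z : Coh.HH X ((Scheme.Modules.pullback f).obj M) 0,
      z ∈ AddSubgroup.closure {z : Coh.HH X ((Scheme.Modules.pullback f).obj M) 0 |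
        ∃ (j : ι) (x : Coh.HH X (E j) 0), z = HHmap (Sigma.ι E j ≫ Ψ) 0 x} →
      γ _ z ∈ AddSubgroup.closure {t : Γ((Scheme.Modules.pullback f).obj M, ⊤) |
        ∃ (s : Γ(X, ⊤)) (m : Γ(M, ⊤)), t = s • pbSec f M ⊤ ⊤ le_rfl m} := by
    intro z hz
    induction hz using AddSubgroup.closure_induction with
    | mem z hz =>
      obtain ⟨j, x, rfl⟩ := hz
      apply AddSubgroup.subset_closure
      refine ⟨γ _ x, (Sigma.ι (fun _ : ι => Coh.structureModule Y) j ≫ p).app ⊤
        (show Γ(Coh.structureModule Y, ⊤) from (1 : Γ(Y, ⊤))), ?_⟩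
      rw [γ_HHmap, hι j]
      have h8 := unit_app_eq_smul ((PullUnit.pullbackUnitIso f).inv ≫
        (Scheme.Modules.pullback f).map
          (Sigma.ι (fun _ : ι => Coh.structureModule Y) j ≫ p)) (γ _ x)
      refine h8.trans ?_
      congr 1
      change ((Scheme.Modules.pullback f).map
          (Sigma.ι (fun _ : ι => Coh.structureModule Y) j ≫ p)).app ⊤
        ((PullUnit.pullbackUnitIso f).inv.app ⊤
          (show Γ(Coh.structureModule X, ⊤) from (1 : Γ(X, ⊤)))) = _
      rw [hone]
      exact (pbSec_naturality f _ ⊤ ⊤ le_rfl _).symm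
    | zero =>
      rw [map_zero]
      exact zero_mem _
    | add x y _ _ hx hy =>
      rw [map_add]
      exact add_mem hx hy
    | neg x _ hx =>
      rw [map_neg]
      exact neg_mem hx
  have := key _ hz
  rwa [AddEquiv.apply_symm_apply] at this

/-- **surjectivity of `O_Y → f_* O_X` is stable under base change** (affine case): `f` proper over
an affine base with fibres of dimension `≤ 1` and `H¹(X_y, O) = 0` -/
theorem app_top_surjective_of_isPullback {X Y X' Y' : Scheme.{u}} (f : X ⟶ Y) [IsProper f]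
    [IsAffine Y] [IsAffine Y']
    (hd : ∀ x : X, FlatMor.fibreDimAt f x ≤ ((1 : ℕ) : WithBot ℕ∞))
    (hH1 : ∀ y : Y, Subsingleton (Coh.HH (f.fiber y) (Coh.structureModule (f.fiber y)) 1))
    (hsurj : Function.Surjective (f.app ⊤))
    (f' : X' ⟶ Y') (g' : X' ⟶ X) (g : Y' ⟶ Y) (hc : IsPullback g' f' f g) :
    Function.Surjective (f'.app ⊤) := by
  haveI : CompactSpace X := QuasiCompact.compactSpace_of_compactSpace f
  haveI : QuasiSeparatedSpace X := quasiSeparatedSpace_of_quasiSeparated f
  haveI hqX := Groth.Agent.Lead.BlH1B.isQuasicoherent_unit X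
  have h1O : Subsingleton (Coh.HH X (Coh.structureModule X) 1) :=
    subsingleton_HH_of_fibers' f 1 hd hH1
  have hgg : ∀ K : X.Modules, K.IsQuasicoherent → Curv2.IsGloballyGenerated K →
      Subsingleton (Coh.HH X K 1) := by
    intro K hK hKgg
    obtain ⟨ι, e, he⟩ := hKgg
    haveI := hK
    haveI := he
    haveI hS : (SheafOfModules.free ι : X.Modules).IsQuasicoherent :=
      QcohLimits.isQuasicoherent_sigma _ (fun _ => hqX)
    have hKe : (kernel e).IsQuasicoherent := QcohLimits.isQuasicoherent_kernel e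
    let S : ShortComplex X.Modules := ShortComplex.mk (kernel.ι e) e (kernel.condition e)
    have hSe : S.ShortExact :=
      { exact := ShortComplex.exact_kernel _
        mono_f := inferInstanceAs (Mono (kernel.ι e))
        epi_g := inferInstanceAs (Epi e) }
    exact Groth.Agent.Lead.BlH1B.subsingleton_HH_right S hSe 1
      (Groth.Agent.Lead.BlH1B.subsingleton_HH_sigma 1 _ (fun _ => h1O))
      (@subsingleton_HH_of_fibreDimAt X Y f _ _ 1 hd (kernel e) hKe 2 (by norm_num))
  haveI hqY' := Groth.Agent.Lead.BlH1B.isQuasicoherent_unit Y'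
  haveI hM : ((pushforward g).obj (Coh.structureModule Y')).IsQuasicoherent :=
    QcohGlue.isQuasicoherent_pushforward g _
  haveI hβiso : IsIso (bcMap g f f' g' hc.flip.w (Coh.structureModule Y')) :=
    isIso_bcMap_of_isAffineHom g f f' g' hc.flip (Coh.structureModule Y')
  let β := bcMap g f f' g' hc.flip.w (Coh.structureModule Y')
  have hβm : ∀ m : Γ((pushforward g).obj (Coh.structureModule Y'), ⊤),
      β.app ⊤ (pbSec f ((pushforward g).obj (Coh.structureModule Y')) ⊤ ⊤ le_rfl m) =
        pbSec f' (Coh.structureModule Y') ⊤ ⊤ le_rfl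
          (show Γ(Coh.structureModule Y', ⊤) from m) :=
    fun m => bcMap_pbSec g f f' g' hc.flip.w (Coh.structureModule Y') ⊤ ⊤ le_rfl m
  intro r
  let t : Γ((pushforward g').obj ((Scheme.Modules.pullback f').obj (Coh.structureModule Y')), ⊤) :=
    (PullUnit.pullbackUnitIso f').inv.app ⊤ r
  have ht' := mem_closure_pbSec f hgg ((pushforward g).obj (Coh.structureModule Y'))
    ((inv β).app ⊤ t)
  have hw : ∀ a : Γ(Y, ⊤), g'.appTop (f.appTop a) = f'.appTop (g.appTop a) := by
    intro a
    have := congrArg (fun φ => (Scheme.Hom.appTop φ) a) hc.w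
    simpa [Scheme.Hom.comp_appTop] using this
  have key : ∀ τ : Γ((Scheme.Modules.pullback f).obj
        ((pushforward g).obj (Coh.structureModule Y')), ⊤),
      τ ∈ AddSubgroup.closure {t : Γ((Scheme.Modules.pullback f).obj
        ((pushforward g).obj (Coh.structureModule Y')), ⊤) |
        ∃ (s : Γ(X, ⊤)) (m : Γ((pushforward g).obj (Coh.structureModule Y'), ⊤)),
          t = s • pbSec f ((pushforward g).obj (Coh.structureModule Y')) ⊤ ⊤ le_rfl m} →
      ∃ m : Γ(Coh.structureModule Y', ⊤),
        β.app ⊤ τ = pbSec f' (Coh.structureModule Y') ⊤ ⊤ le_rfl m := by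
    intro τ hτ
    induction hτ using AddSubgroup.closure_induction with
    | mem τ hτ =>
      obtain ⟨s, m, rfl⟩ := hτ
      obtain ⟨a, rfl⟩ := hsurj s
      refine ⟨(show Γ(Y', ⊤) from g.appTop a) • (show Γ(Coh.structureModule Y', ⊤) from m), ?_⟩
      rw [Hom.app_smul, hβm, pbSec_smul]
      have e1 : f'.appLE ⊤ ⊤ le_rfl (g.appTop a) = g'.appTop (f.appTop a) :=
        (presheaf_map_le_rfl (Z := X') _ _).trans (hw a).symm
      rw [e1]
      rfl
    | zero =>
      exact ⟨0, by rw [map_zero, map_zero]; rfl⟩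
    | add x y _ _ hx hy =>
      obtain ⟨m₁, h₁⟩ := hx
      obtain ⟨m₂, h₂⟩ := hy
      exact ⟨m₁ + m₂, by rw [map_add, map_add, h₁, h₂]; rfl⟩
    | neg x _ hx =>
      obtain ⟨m₁, h₁⟩ := hx
      exact ⟨-m₁, by rw [map_neg, map_neg, h₁]; rfl⟩
  obtain ⟨m, hm⟩ := key _ ht'
  have hβt : β.app ⊤ ((inv β).app ⊤ t) = t := by
    rw [← AcycLocal.comp_app_apply, IsIso.inv_hom_id]
    rfl
  rw [hβt] at hm
  refine ⟨m, ?_⟩
  have h3 := pullbackUnitIso_hom_pbSec f' ⊤ ⊤ le_rfl m
  rw [← hm] at h3
  have h4 : (PullUnit.pullbackUnitIso f').hom.app ⊤ t = r := by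
    change (PullUnit.pullbackUnitIso f').hom.app ⊤
      ((PullUnit.pullbackUnitIso f').inv.app ⊤ r) = r
    rw [← AcycLocal.comp_app_apply, Iso.inv_hom_id]
    rfl
  rw [h4] at h3
  rw [h3]
  exact (presheaf_map_le_rfl (Z := X') _ _).symm

end Groth.Agent.Lead.TopBC
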