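import Mathlib
import Groth.Agent.Lead.TopBCG
import Groth.Agent.Lead.IdealMulC
import Groth.Agent.Helper4.FinitePush
import Groth.Agent.Helper4.FTLift

/-!
# Top degree base change, part O: the top cohomology of a finite type quasi-coherent module is a
finite module
-/

set_option autoImplicit false
set_option linter.unusedSectionVars false
set_option linter.style.haveILetI false

open CategoryTheory Limits AlgebraicGeometry TopologicalSpace Opposite

universe u

namespace Groth.Agent.Lead.TopBC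

open Scheme.Modules Groth.Agent.Helper4 Groth.Agent.Lead.FibVan Groth.Agent.Lead.BCMap
  Groth.Agent.Lead.NatLeray

theorem module_presheaf_map_le_rfl {Z : Scheme.{u}} (N : Z.Modules) (W : Z.Opens) (t : Γ(N, W)) :
    N.presheaf.map (homOfLE (le_refl W)).op t = t := by
  have : (homOfLE (le_refl W)).op = 𝟙 (op W) := Subsingleton.elim _ _
  rw [this]
  erw [CategoryTheory.Functor.map_id]
  rfl

/-- **approximation**: along an affine morphism `g : Z ⟶ Z₀` to a qcqs scheme, a quasi-coherent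
module of finite type on `Z` is a quotient of the pullback of one on `Z₀` -/
theorem exists_coh_epi_pullback {Z Z₀ : Scheme.{u}} (g : Z ⟶ Z₀) [IsAffineHom g] [CompactSpace Z₀]
    [QuasiSeparatedSpace Z₀] (N : Z.Modules) [N.IsQuasicoherent]
    (hN : SheafOfModules.IsFiniteType (R := Z.ringCatSheaf) N) :
    ∃ (N₀ : Z₀.Modules) (ε : (Scheme.Modules.pullback g).obj N₀ ⟶ N), N₀.IsQuasicoherent ∧
      SheafOfModules.IsFiniteType (R := Z₀.ringCatSheaf) N₀ ∧ Epi ε := by
  classical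
  haveI hP : ((pushforward g).obj N).IsQuasicoherent := QcohGlue.isQuasicoherent_pushforward g N
  obtain ⟨s, hs⟩ := Groth.Agent.Lead.IdealMul.exists_finite_affine_cover Z₀
  have hgen : ∀ U : Z₀.affineOpens, ∃ S : Finset Γ(N, g ⁻¹ᵁ U.1),
      Submodule.span Γ(Z, g ⁻¹ᵁ U.1) (S : Set Γ(N, g ⁻¹ᵁ U.1)) = ⊤ := by
    intro U
    haveI : Module.Finite Γ(Z, g ⁻¹ᵁ U.1) Γ(N, g ⁻¹ᵁ U.1) :=
      SecDict.finite_sections (U.2.preimage g) N inferInstance hN
    exact (Module.Finite.fg_top : (⊤ : Submodule Γ(Z, g ⁻¹ᵁ U.1) Γ(N, g ⁻¹ᵁ U.1)).FG)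
  choose S hS using hgen
  let l : List (Σ U : Z₀.Opens, Γ((pushforward g).obj N, U)) :=
    s.toList.flatMap (fun U => (S U).toList.map (fun t => ⟨U.1, t⟩))
  have hl : ∀ z ∈ l, IsCompact (z.1 : Set Z₀) := by
    intro z hz
    obtain ⟨U, -, hz⟩ := List.mem_flatMap.mp hz
    obtain ⟨t, -, rfl⟩ := List.mem_map.mp hz
    exact U.2.isCompact
  obtain ⟨Q, q, hq, hQ, hft, hmem⟩ :=
    FTLift.exists_submodule_through_sections ((pushforward g).obj N) l hl
  let ε : (Scheme.Modules.pullback g).obj Q ⟶ N :=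
    ((pullbackPushforwardAdjunction g).homEquiv Q N).symm q
  have hεq : (pullbackPushforwardAdjunction g).homEquiv Q N ε = q := Equiv.apply_symm_apply _ _
  refine ⟨Q, ε, hQ, hft, ?_⟩
  apply QcohLocal.epi_of_app_surjective_of_affine_cover
  intro x
  obtain ⟨U, hUs, hxU⟩ := hs (g x)
  refine ⟨g ⁻¹ᵁ U.1, U.2.preimage g, hxU, ?_⟩
  have hle : (⊤ : Submodule Γ(Z, g ⁻¹ᵁ U.1) Γ(N, g ⁻¹ᵁ U.1)) ≤
      Groth.Agent.Lead.IdealMul.secR ε (g ⁻¹ᵁ U.1) := by
    rw [← hS U, Submodule.span_le]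
    intro t ht
    have hz : (⟨U.1, t⟩ : Σ U : Z₀.Opens, Γ((pushforward g).obj N, U)) ∈ l :=
      List.mem_flatMap.mpr ⟨U, Finset.mem_toList.mpr hUs,
        List.mem_map.mpr ⟨t, Finset.mem_toList.mpr ht, rfl⟩⟩
    obtain ⟨m, hm⟩ := hmem _ hz
    refine (Groth.Agent.Lead.IdealMul.mem_secR ε _ t).mpr
      ⟨pbSec g Q U.1 (g ⁻¹ᵁ U.1) le_rfl m, ?_⟩
    have h1 := homEquiv_app g Q ε U.1 (g ⁻¹ᵁ U.1) le_rfl m
    rw [← h1, hεq]
    have h2 : q.app U.1 m = t := hm
    rw [h2]
    exact module_presheaf_map_le_rfl N _ t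
  intro t
  exact (Groth.Agent.Lead.IdealMul.mem_secR ε _ t).mp (hle trivial)

/-- `H^n` of a morphism of modules over `Spec A` is `A`-linear -/
noncomputable def HHlinA (A : Type u) [CommRing A] {X : Scheme.{u}} [X.Over (Spec (CommRingCat.of A))]
    {F G : X.Modules} (ψ : F ⟶ G) (n : ℕ) : Coh.HH X F n →ₗ[A] Coh.HH X G n where
  toFun := HHmap ψ n
  map_add' := map_add _
  map_smul' a x := by
    change HHmap ψ n (a • x) = a • HHmap ψ n x
    rw [smul_eq_HHmap, smul_eq_HHmap, ← HHmap_comp, ← HHmap_comp]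
    have hc : Formal.smulMod A F a ≫ ψ = ψ ≫ Formal.smulMod A G a :=
      (KLin.comp_smulModΓ ψ _).symm
    rw [hc]

set_option maxHeartbeats 800000 in
/-- **finiteness of the top cohomology of a quasi-coherent module of finite type** on a proper
scheme over any ring whose fibres have dimension `≤ d` -/
theorem finite_HH_top_coh (A : Type u) [CommRing A] (X : Scheme.{u})
    [X.Over (Spec (CommRingCat.of A))]
    [IsProper (X ↘ Spec (CommRingCat.of A))] (d : ℕ)
    (hd : ∀ x : X, FlatMor.fibreDimAt (X ↘ Spec (CommRingCat.of A)) x ≤ d)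
    (M : X.Modules) (hM : Coh.IsCoh M) :
    Module.Finite A (Coh.HH X M d) := by
  obtain ⟨Z, j, q, hj, hq, hqfp, hjq, hdq⟩ :=
    exists_closedImmersion_fp (X ↘ Spec (CommRingCat.of A)) d hd
  obtain ⟨S, Z₀, h, gZ, gY, hS, hSN, hh, hdh, hpb⟩ := exists_noeth_model q d hdq
  haveI : IsNoetherianRing Γ(S, ⊤) :=
    IsLocallyNoetherian.component_noetherian ⟨⊤, isAffineOpen_top S⟩
  let h' : Z₀ ⟶ Spec (CommRingCat.of Γ(S, ⊤)) := h ≫ S.isoSpec.hom
  haveI : IsProper h' := inferInstanceAs (IsProper (h ≫ S.isoSpec.hom))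
  have hdh' : ∀ x : Z₀, FlatMor.fibreDimAt h' x ≤ d := fibreDimAt_comp_iso_le h S.isoSpec.hom d hdh
  letI : Z₀.Over (Spec (CommRingCat.of Γ(S, ⊤))) := ⟨h'⟩
  haveI : IsProper (Z₀ ↘ Spec (CommRingCat.of Γ(S, ⊤))) := inferInstanceAs (IsProper h')
  -- the ring map
  let ρ' : CommRingCat.of Γ(S, ⊤) ⟶ CommRingCat.of A := Spec.preimage (gY ≫ S.isoSpec.hom)
  have hρ' : Spec.map ρ' = gY ≫ S.isoSpec.hom := Spec.map_preimage _
  letI : Z.Over (Spec (CommRingCat.of A)) := ⟨q⟩
  have hpb' : IsPullback gZ q h' (Spec.map ρ') := by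
    rw [hρ']
    exact IsPullback.of_iso hpb (Iso.refl _) (Iso.refl _) (Iso.refl _) S.isoSpec (by simp)
      (by simp) (Category.id_comp _).symm (by simp)
  haveI : IsAffineHom gZ := MorphismProperty.of_isPullback hpb'.flip inferInstance
  haveI : CompactSpace Z₀ := QuasiCompact.compactSpace_of_compactSpace h'
  haveI : QuasiSeparatedSpace Z₀ := quasiSeparatedSpace_of_quasiSeparated h'
  haveI := hj
  haveI := hq
  haveI : IsAffineHom j := inferInstance
  haveI : CompactSpace Z := QuasiCompact.compactSpace_of_compactSpace q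
  haveI : QuasiSeparatedSpace Z := quasiSeparatedSpace_of_quasiSeparated q
  haveI hMq : M.IsQuasicoherent := hM.1
  -- the module on `Z`
  haveI hNq : ((pushforward j).obj M).IsQuasicoherent := QcohGlue.isQuasicoherent_pushforward j M
  have hNft : SheafOfModules.IsFiniteType (R := Z.ringCatSheaf) ((pushforward j).obj M) :=
    FinitePush.isFiniteType_pushforward_of_isFinite j M hM.2
  obtain ⟨N₀, ε, hN₀q, hN₀ft, hε⟩ := exists_coh_epi_pullback gZ ((pushforward j).obj M) hNft
  haveI := hN₀q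
  haveI := hε
  have hfin₀ : Module.Finite Γ(S, ⊤) (Coh.HH Z₀ N₀ d) :=
    Groth.Agent.S0002.result Γ(S, ⊤) Z₀ N₀ ⟨hN₀q, hN₀ft⟩ d
  haveI hPq : ((Scheme.Modules.pullback gZ).obj N₀).IsQuasicoherent :=
    Groth.Agent.Lead.StalkPull.isQuasicoherent_pullbackObj gZ N₀
  -- step 1: the pullback of `N₀`
  have hfin₁ : Module.Finite A (Coh.HH Z ((Scheme.Modules.pullback gZ).obj N₀) d) := by
    have hepi := epi_sigma_smulMod h' (Spec.map ρ') gZ hpb' N₀
      ((Scheme.Modules.pullback gZ).obj N₀) (Iso.refl _)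
    haveI : ((pushforward gZ).obj ((Scheme.Modules.pullback gZ).obj N₀)).IsQuasicoherent :=
      QcohGlue.isQuasicoherent_pushforward gZ _
    haveI : (∐ fun _ : A => N₀).IsQuasicoherent :=
      QcohLimits.isQuasicoherent_sigma _ (fun _ => hN₀q)
    refine finite_HH_of_epi ρ'.hom gZ ?_ N₀ ((Scheme.Modules.pullback gZ).obj N₀) _ hepi d
      ?_ hfin₀
    · exact hpb'.w
    · haveI := QcohLimits.isQuasicoherent_kernel (Sigma.desc (fun a : A =>
        ((pullbackPushforwardAdjunction gZ).unit.app N₀ ≫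
          (pushforward gZ).map (Iso.refl ((Scheme.Modules.pullback gZ).obj N₀)).hom) ≫
        (pushforward gZ).map (Formal.smulMod A ((Scheme.Modules.pullback gZ).obj N₀) a)) :
        (∐ fun _ : A => N₀) ⟶ (pushforward gZ).obj ((Scheme.Modules.pullback gZ).obj N₀))
      exact subsingleton_HH_of_fibreDimAt h' d hdh' _ (d + 1) (Nat.lt_succ_self d)
  -- step 2: the quotient
  have hfin₂ : Module.Finite A (Coh.HH Z ((pushforward j).obj M) d) := by
    haveI := hfin₁
    haveI hKε : (kernel ε).IsQuasicoherent := QcohLimits.isQuasicoherent_kernel ε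
    have hvan : Subsingleton (Coh.HH Z (kernel ε) (d + 1)) :=
      subsingleton_HH_of_fibreDimAt q d hdq _ (d + 1) (Nat.lt_succ_self d)
    exact Module.Finite.of_surjective (HHlinA A ε d) (HHmap_surjective_of_epi ε d hvan)
  -- step 3: back to `X`
  have hone : Formal.smulMod A M 1 = 𝟙 _ := by
    unfold Formal.smulMod
    rw [map_one]
    exact KLin.smulModΓ_one _
  have hepi₂ : Epi (Sigma.desc (fun a : A => 𝟙 ((pushforward j).obj M) ≫
      (pushforward j).map (Formal.smulMod A M a)) :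
      (∐ fun _ : A => (pushforward j).obj M) ⟶ (pushforward j).obj M) := by
    have h1 : Sigma.ι (fun _ : A => (pushforward j).obj M) 1 ≫ (Sigma.desc (fun a : A =>
        𝟙 ((pushforward j).obj M) ≫ (pushforward j).map (Formal.smulMod A M a)) :
        (∐ fun _ : A => (pushforward j).obj M) ⟶ (pushforward j).obj M) = 𝟙 _ := by
      rw [Sigma.ι_desc, hone, CategoryTheory.Functor.map_id, Category.comp_id]
    haveI : Epi (Sigma.ι (fun _ : A => (pushforward j).obj M) 1 ≫ (Sigma.desc (fun a : A =>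
        𝟙 ((pushforward j).obj M) ≫ (pushforward j).map (Formal.smulMod A M a)) :
        (∐ fun _ : A => (pushforward j).obj M) ⟶ (pushforward j).obj M)) := by
      rw [h1]; infer_instance
    exact epi_of_epi (Sigma.ι (fun _ : A => (pushforward j).obj M) 1) _
  haveI : (∐ fun _ : A => (pushforward j).obj M).IsQuasicoherent :=
    QcohLimits.isQuasicoherent_sigma _ (fun _ => hNq)
  refine finite_HH_of_epi (RingHom.id A) j ?_ ((pushforward j).obj M) M
    (𝟙 _) hepi₂ d ?_ hfin₂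
  · change j ≫ q = (X ↘ Spec (CommRingCat.of A)) ≫ Spec.map (CommRingCat.ofHom (RingHom.id A))
    rw [hjq]
    have : CommRingCat.ofHom (RingHom.id A) = 𝟙 (CommRingCat.of A) := rfl
    rw [this, Spec.map_id, Category.comp_id]
  · haveI := QcohLimits.isQuasicoherent_kernel (Sigma.desc (fun a : A =>
      𝟙 ((pushforward j).obj M) ≫ (pushforward j).map (Formal.smulMod A M a)) :
      (∐ fun _ : A => (pushforward j).obj M) ⟶ (pushforward j).obj M)
    exact subsingleton_HH_of_fibreDimAt q d hdq _ (d + 1) (Nat.lt_succ_self d)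

/-- the same over an affine base, with the module structure through `g.appTop` -/
theorem finite_HH_top_coh' {U D : Scheme.{u}} (g : U ⟶ D) [IsProper g] [IsAffine D] (d : ℕ)
    (hd : ∀ x : U, FlatMor.fibreDimAt g x ≤ d) (M : U.Modules) (hM : Coh.IsCoh M) :
    letI := Module.compHom (Coh.HH U M d) (g.appTop.hom : Γ(D, ⊤) →+* Coh.Γtop U)
    Module.Finite Γ(D, ⊤) (Coh.HH U M d) := by
  letI : U.Over (Spec (CommRingCat.of Γ(D, ⊤))) := ⟨g ≫ D.isoSpec.hom⟩
  haveI : IsProper (U ↘ Spec (CommRingCat.of Γ(D, ⊤))) :=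
    inferInstanceAs (IsProper (g ≫ D.isoSpec.hom))
  have h1 := finite_HH_top_coh Γ(D, ⊤) U d (fibreDimAt_comp_iso_le g D.isoSpec.hom d hd) M hM
  have hring : Coh.toGlobal (g ≫ D.isoSpec.hom) = (g.appTop.hom : Γ(D, ⊤) →+* Coh.Γtop U) := by
    ext a
    change (g ≫ D.isoSpec.hom).appTop.hom
      ((Scheme.ΓSpecIso (CommRingCat.of Γ(D, ⊤))).inv.hom a) = g.appTop.hom a
    have h2 : (Scheme.ΓSpecIso (CommRingCat.of Γ(D, ⊤))).inv ≫ (g ≫ D.isoSpec.hom).appTop =
        g.appTop := by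
      rw [Scheme.Hom.comp_appTop, Scheme.isoSpec_hom, Scheme.toSpecΓ_appTop]
      exact Iso.inv_hom_id_assoc _ _
    exact congrArg (fun φ => φ.hom a) h2
  have hinst : Coh.moduleOver Γ(D, ⊤) U M d =
      Module.compHom (Coh.HH U M d) (g.appTop.hom : Γ(D, ⊤) →+* Coh.Γtop U) := by
    unfold Coh.moduleOver
    exact congrArg (fun φ => Module.compHom (Coh.HH U M d) φ) hring
  rw [← hinst]
  exact h1

end Groth.Agent.Lead.TopBC
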