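import Mathlib
import Groth.Prelude.Def_DerSch
import Groth.Agent.Lead.TorDimLib1

/-!
# Pseudo-coherent + finite tor dimension of stalks ⇒ perfect (S6194)
-/

set_option autoImplicit false
universe u
open CategoryTheory CategoryTheory.Limits AlgebraicGeometry

attribute [local instance] HasDerivedCategory.standard

namespace Groth.Agent.Lead.TorDim
open Scheme.Modules Groth.Agent.Lead.LocLift Groth.Agent.Lead.PerfLib Groth.Agent.Lead.PcLib
  Groth.Agent.Lead.FlatLib Groth.Agent.Lead.FreeLocus Groth.Agent.Helper4.FinLocFree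

theorem hasTorDimLE_congr {X : Scheme.{u}} {x x' : X} (h : x = x') (n : ℕ) (M : X.Modules)
    (hM : DRing.HasTorDimLE (X.presheaf.stalk x) n (M.presheaf.stalk x)) :
    DRing.HasTorDimLE (X.presheaf.stalk x') n (M.presheaf.stalk x') := by
  subst h
  exact hM

/-- restriction commutes with `opcycles`. -/
noncomputable def opcyclesRestrictIso {Y Z : Scheme.{u}} (j : Z ⟶ Y) [IsOpenImmersion j]
    (F : CochainComplex Y.Modules ℤ) (i : ℤ) :
    ((Rc j).obj F).opcycles i ≅ (F.opcycles i).restrict j :=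
  ShortComplex.mapOpcyclesIso (F.sc i) (restrictFunctor j)

open CochainComplex HomologicalComplex in
/-- the local step: a strictly perfect approximation in degrees `> m` of a complex bounded below
by `c` whose cohomology stalks have tor dimension `≤ N`, with `m + 1 + N ≤ c`. -/
theorem locSP_of_pc_of_torDim {X W : Scheme.{u}} (j' : W ⟶ X) [IsOpenImmersion j'] (w : W)
    (G₀ : CochainComplex X.Modules ℤ) (Gl K : CochainComplex W.Modules ℤ)
    (hK : DCoh.IsStrictlyPerfect K) (β : K ⟶ Gl) (c : ℤ) (N : ℕ) (m : ℤ) (hm : m + 1 + N ≤ c)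
    (hGl : ∀ i, i < c → IsZero (Gl.X i))
    (hβ : ∀ i, m < i → IsIso (homologyMap β i)) (hβm : Epi (homologyMap β m))
    (hiso : ∀ i, Nonempty (Gl.homology i ≅ (G₀.homology i).restrict j')) (d : ℤ)
    (htd : ∀ i, c ≤ i → i ≤ d → DRing.HasTorDimLE (X.presheaf.stalk (j' w)) N
      ((G₀.homology i).presheaf.stalk (j' w)))
    (hd : ∀ i, d < i → IsZero (G₀.homology i)) :
    LocSP Gl w := by
  obtain ⟨⟨aK, bK, hab⟩, hf⟩ := hK
  have hφ : Function.Bijective (j'.stalkMap w).hom :=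
    (ConcreteCategory.isIso_iff_bijective (j'.stalkMap w)).mp inferInstance
  -- tor dimension of the cohomology stalks of `K`
  have hH0 : ∀ i, m + 1 ≤ i → i < c → IsZero (K.homology i) := by
    intro i hi hic
    haveI := hβ i (by omega)
    exact IsZero.of_iso (isZero_homology_of_isZero _ i (hGl i hic)) (asIso (homologyMap β i))
  have hH : ∀ i, m + 1 ≤ i → TDAt (j'.stalkMap w).hom N (K.homology i) := by
    intro i hi
    haveI := hβ i (by omega)
    obtain ⟨e⟩ := hiso i
    by_cases hic : i < c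
    · exact (tdAt_zero_of_isZero hφ (hH0 i hi hic)).mono (Nat.zero_le _)
    by_cases hid : d < i
    · refine (tdAt_zero_of_isZero hφ ?_).mono (Nat.zero_le _)
      exact IsZero.of_iso ((restrictFunctor j').map_isZero (hd i hid)) (asIso (homologyMap β i) ≪≫ e)
    · exact TDAt.of_iso (asIso (homologyMap β i) ≪≫ e).symm
        (tdAt_restrict j' _ w (htd i (by omega) (by omega)))
  have h0 := tdAt_opcycles hφ K bK c N (m + 1) hf (fun i hi => hab i (Or.inr hi)) hH hH0
    (bK + 1 - (m + 1)).toNat (m + 1) le_rfl (by omega)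
  have e0 : tBound N c (m + 1) = 0 := by
    unfold tBound
    have : (N : ℤ) ≤ c - (m + 1) := by omega
    omega
  rw [e0] at h0
  have hflat : FlatAt (K.opcycles (m + 1)) w := flatAt_of_tdAt_zero hφ h0
  -- finite presentation of the cokernel
  have eC : cokernel (K.d (m + 1 - 1) (m + 1)) ≅ K.opcycles (m + 1) :=
    (cokernelIsCokernel _).coconePointUniqueUpToIso (K.opcyclesIsCokernel (m + 1 - 1) (m + 1) (by simp))
  have hfp : SheafOfModules.IsFinitePresentation (R := W.ringCatSheaf) (K.opcycles (m + 1)) := by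
    apply isFinitePresentation_of_locally_cokernel
    intro y'
    exact ⟨W, 𝟙 W, inferInstance, K.X (m + 1 - 1), K.X (m + 1), K.d (m + 1 - 1) (m + 1),
      eC ≪≫ (restrictFunctorId.app (K.opcycles (m + 1))).symm, ⟨y', rfl⟩, hf _, hf _⟩
  obtain ⟨V₂, r, hwV₂, ⟨efree⟩⟩ :=
    Groth.Agent.Helper4.FinLocFree2.exists_isFreeAlong_of_fp_of_flat_stalk (K.opcycles (m + 1))
      hfp w hflat
  -- restrict to `V₂`
  have hK₂ : DCoh.IsStrictlyPerfect ((Rc V₂.ι).obj K) :=
    isStrictlyPerfect_restrict V₂.ι ⟨⟨aK, bK, hab⟩, hf⟩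
  have hflat₂ : FlatMod.IsFlat (((Rc V₂.ι).obj K).opcycles (m + 1)) :=
    isFlat_of_isFinLocFree (Groth.Agent.Helper4.FinLocFree2.isFinLocFree_of_iso
      (opcyclesRestrictIso V₂.ι K (m + 1) ≪≫ efree).symm
      (Groth.Agent.Helper4.FinLocFree2.isFinLocFree_freeMod r))
  have hβq : IsQisAbove m (DerivedCategory.Q.map β) := (isQisAbove_Q_map_iff β).mpr ⟨hβ, hβm⟩
  have hβq₂ : IsQisAbove m (DerivedCategory.Q.map ((Rc V₂.ι).map β)) := by
    rw [← resD_Q_map]
    exact isQisAbove_resD V₂.ι hβq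
  obtain ⟨h1, -⟩ := (isQisAbove_Q_map_iff _).mp hβq₂
  obtain ⟨K', hK', ⟨e⟩⟩ := exists_sp_of_flat_opcycles ((Rc V₂.ι).map β) hK₂ (m + 1)
    (fun i hi => (restrictFunctor V₂.ι).map_isZero (hGl i (by omega)))
    (fun i hi => (quasiIsoAt_iff_isIso_homologyMap _ i).mpr (h1 i (by omega))) hflat₂
  exact ⟨V₂, V₂.ι, inferInstance, ⟨⟨w, hwV₂⟩, rfl⟩, K', hK', ⟨e⟩⟩

open CochainComplex HomologicalComplex in
theorem isPerfect_of_pc_of_stalks_finiteTorDim {X : Scheme.{u}}
    (hX : ∀ (x : X) (M : Type u) [AddCommGroup M] [Module (X.presheaf.stalk x) M],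
      DRing.HasFiniteTorDim (X.presheaf.stalk x) M)
    (F : CochainComplex X.Modules ℤ) (c d : ℤ) [(DCoh.toD X F).IsGE c] [(DCoh.toD X F).IsLE d]
    (hpc : ∀ m : ℤ, DCoh.IsPseudoCoherentD m (DCoh.toD X F)) :
    DCoh.IsPerfect (DCoh.toD X F) := by
  haveI : F.IsGE c := (DerivedCategory.isGE_Q_obj_iff F c).mp inferInstance
  let G₀ : CochainComplex X.Modules ℤ := F.truncGE c
  haveI : QuasiIso (F.πTruncGE c) := inferInstance
  let e₀ : DerivedCategory.Q.obj G₀ ≅ DCoh.toD X F :=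
    (asIso (DerivedCategory.Q.map (F.πTruncGE c))).symm
  rw [isPerfect_iff_locSP _ G₀ e₀]
  intro x
  have hd : ∀ i, d < i → IsZero (G₀.homology i) := fun i hi =>
    IsZero.of_iso ((DCoh.toD X F).isZero_of_isLE d i hi) (hdIso e₀ i).symm
  choose n hn using fun i : ℤ => hX x ((G₀.homology i).presheaf.stalk x)
  let N : ℕ := (Finset.Icc c d).sup n
  have hN : ∀ i, c ≤ i → i ≤ d →
      DRing.HasTorDimLE (X.presheaf.stalk x) N ((G₀.homology i).presheaf.stalk x) := by
    intro i hic hid M _ _ p hp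
    have hi : i ∈ Finset.Icc c d := Finset.mem_Icc.mpr ⟨hic, hid⟩
    exact hn i M p (lt_of_le_of_lt (Finset.le_sup hi) hp)
  have hpc' := (isPseudoCoherentD_iff_locPC (c - N - 1) _ G₀ e₀).mp (hpc (c - N - 1)) x
  obtain ⟨Z, j, hj, ⟨z, rfl⟩, E', α, hE', hα⟩ := hpc'
  haveI := hj
  obtain ⟨W, hzW, β, hβ⟩ := exists_nhd_chain_map hE' α z
  have hQ : resD W.ι α = DerivedCategory.Q.map β := by
    unfold resD
    rw [hβ]
    simp
  have hβq : IsQisAbove (c - N - 1) (DerivedCategory.Q.map β) := hQ ▸ isQisAbove_resD W.ι hα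
  obtain ⟨h1, h2⟩ := (isQisAbove_Q_map_iff β).mp hβq
  let w : (W : Scheme.{u}) := ⟨z, hzW⟩
  have hw : j z = (W.ι ≫ j) w := rfl
  have key : LocSP ((Rc W.ι).obj ((Rc j).obj G₀)) w := by
    refine locSP_of_pc_of_torDim (W.ι ≫ j) w G₀ _ _ (isStrictlyPerfect_restrict W.ι hE') β c N
      (c - N - 1) (by omega) ?_ h1 h2 ?_ d ?_ hd
    · intro i hi
      exact (restrictFunctor W.ι).map_isZero ((restrictFunctor j).map_isZero
        (G₀.isZero_of_isStrictlyGE c i hi))
    · intro i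
      exact ⟨homologyRestrictIso W.ι ((Rc j).obj G₀) i ≪≫
        (restrictFunctor W.ι).mapIso (homologyRestrictIso j G₀ i) ≪≫
        ((restrictFunctorComp W.ι j).app (G₀.homology i)).symm⟩
    · intro i hic hid
      exact hasTorDimLE_congr hw N _ (hN i hic hid)
  exact LocSP.of_restrict j (LocSP.of_restrict W.ι key)

end Groth.Agent.Lead.TorDim
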