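import Mathlib
import Groth.Agent.Lead.SchDense
import Groth.Agent.Helper4.StalkDict
import Groth.Agent.Helper9.DepthKer

set_option autoImplicit false
universe u
open CategoryTheory CategoryTheory.Limits AlgebraicGeometry TopologicalSpace Opposite

namespace Groth.Agent.Lead.TorsFreeInj

open Groth.Agent.Helper4 Groth.Agent.Helper4.QcqsMod Groth.Agent.Helper4.StalkExact
  Groth.Agent.Helper4.StalkDict

variable {X : Scheme.{u}}

/-- a section of a torsion-free quasi-coherent module over an affine open vanishing on a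
schematically dense open vanishes -/
theorem eq_zero_of_res_eq_zero [IsLocallyNoetherian X] (F : X.Modules) [F.IsQuasicoherent]
    (U : X.Opens) (hU : CInt.IsSchematicallyDense U) {W : X.Opens} (hW : IsAffineOpen W)
    (htf : Submodule.torsion Γ(X, W) (F.val.obj (Opposite.op W)) = ⊥)
    (m : Γ(F, W)) (hm : F.presheaf.map (homOfLE (inf_le_left : W ⊓ U ≤ W)).op m = 0) : m = 0 := by
  haveI : IsNoetherianRing Γ(X, W) := IsLocallyNoetherian.component_noetherian ⟨W, hW⟩
  let J : Ideal Γ(X, W) := (Submodule.span Γ(X, W) {m}).annihilator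
  have hJmem : ∀ g : Γ(X, W), g ∈ J ↔ g • m = 0 := by
    intro g
    exact Submodule.mem_annihilator_span_singleton m g
  obtain ⟨y, hyJ, hy⟩ := Groth.Agent.Helper9.DepthKer.exists_regular_of_socle (I := J) Γ(X, W) (by
    intro a ha
    apply hU W
    rw [map_zero]
    apply Groth.Agent.Lead.SchDense.sectionO_ext
    intro y hy
    rw [map_zero, germ_resO]
    obtain ⟨g, hgV, hyg⟩ := hW.exists_basicOpen_le (V := U) ⟨y, hy.2⟩ hy.1
    have hbo : X.basicOpen g ≤ W ⊓ U := fun z hz => ⟨X.basicOpen_le g hz, hgV hz⟩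
    have hres : F.presheaf.map (homOfLE (X.basicOpen_le g)).op m = 0 := by
      have h1 : F.presheaf.map (homOfLE (X.basicOpen_le g)).op m =
          F.presheaf.map (homOfLE hbo).op (F.presheaf.map (homOfLE inf_le_left).op m) := by
        rw [← ConcreteCategory.comp_apply, ← Functor.map_comp]
        rfl
      rw [h1, hm, map_zero]
    obtain ⟨n, hn⟩ := exists_pow_smul_eq_zero hW F g m hres
    have hgJ : g ^ n ∈ J := (hJmem _).mpr hn
    have h2 := ha _ hgJ
    have h3 := congrArg (X.presheaf.germ W y hy.1) h2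
    rw [smul_eq_mul, map_mul, map_pow, map_zero] at h3
    have hu : IsUnit (X.presheaf.germ W y hy.1 g) := (X.mem_basicOpen g y hy.1).mp hyg
    exact (hu.pow n).mul_right_eq_zero.mp h3)
  have hmem : m ∈ Submodule.torsion Γ(X, W) (F.val.obj (Opposite.op W)) := by
    refine ⟨⟨y, ?_⟩, (hJmem y).mp hyJ⟩
    rw [mem_nonZeroDivisors_iff_right]
    intro z hz
    apply hy
    change y * z = y * 0
    rw [mul_zero, mul_comm]
    exact hz
  rw [htf] at hmem
  exact (Submodule.mem_bot _).mp hmem

/-- S15715 -/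
theorem main (X : Scheme.{u})
    [IsLocallyNoetherian X] (F G : X.Modules) (hF : Coh.IsQCoh F)
    (htf : ∀ V : X.affineOpens, Submodule.torsion Γ(X, V.1) (F.val.obj (Opposite.op V.1)) = ⊥)
    (φ : F ⟶ G) (U : X.Opens) (hU : CInt.IsSchematicallyDense U)
    (hφU : ∀ V : X.Opens, V ≤ U → Function.Injective ⇑(ConcreteCategory.hom (φ.val.app (Opposite.op V)))) (V : X.Opens) :
    Function.Injective ⇑(ConcreteCategory.hom (φ.val.app (Opposite.op V))) := by
  haveI : F.IsQuasicoherent := hF
  have key : ∀ s : Γ(F, V), φ.app V s = 0 → s = 0 := by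
    intro s hs
    apply section_ext F V s 0
    intro x hx
    rw [map_zero]
    obtain ⟨_, ⟨W, hW, rfl⟩, hxW, hWV⟩ := X.isBasis_affineOpens.exists_subset_of_mem_open hx V.2
    have hWV' : W ≤ V := hWV
    rw [← germ_res F hWV' x hxW s]
    have h0 : F.presheaf.map (homOfLE hWV').op s = 0 := by
      apply eq_zero_of_res_eq_zero F U hU hW (htf ⟨W, hW⟩)
      have hle : W ⊓ U ≤ V := inf_le_left.trans hWV'
      have h1 : F.presheaf.map (homOfLE (inf_le_left : W ⊓ U ≤ W)).op
          (F.presheaf.map (homOfLE hWV').op s) = F.presheaf.map (homOfLE hle).op s := by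
        rw [← ConcreteCategory.comp_apply, ← Functor.map_comp]
        rfl
      rw [h1]
      apply hφU (W ⊓ U) inf_le_right
      have h2 := app_res φ (homOfLE hle) s
      rw [hs, map_zero] at h2
      have h3 : φ.app (W ⊓ U) (F.presheaf.map (homOfLE hle).op s) = φ.app (W ⊓ U) 0 := by
        rw [h2, map_zero]
      exact h3
    rw [h0, map_zero]
  intro s t hst
  let s' : Γ(F, V) := s
  let t' : Γ(F, V) := t
  have hst' : φ.app V s' = φ.app V t' := hst
  have h4 : φ.app V (s' - t') = 0 := by rw [map_sub, hst', sub_self]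
  have h5 : s' - t' = 0 := key _ h4
  exact sub_eq_zero.mp h5

end Groth.Agent.Lead.TorsFreeInj
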