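import Mathlib
import Groth.Agent.S0518
import Groth.Agent.S0526
import Groth.Agent.S0536

set_option autoImplicit false
universe u
open TensorProduct

namespace Groth.Agent.Lead.TorsHens

/-- Over a henselian local ring, a point of a smooth algebra with values in a finite separable
extension of the residue field lifts to a point with values in a finite étale faithfully flat
algebra. -/
theorem exists_lift_finite_etale (A : Type u) [CommRing A] [HenselianLocalRing A]
    (C : Type u) [CommRing C] [Algebra A C] [Algebra.Smooth A C]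
    (κ' : Type u) [Field κ'] [Algebra (IsLocalRing.ResidueField A) κ']
    [FiniteDimensional (IsLocalRing.ResidueField A) κ']
    [Algebra.IsSeparable (IsLocalRing.ResidueField A) κ']
    (ξ : C →+* κ')
    (hξ : ∀ a, ξ (algebraMap A C a) =
      algebraMap (IsLocalRing.ResidueField A) κ' (IsLocalRing.residue A a)) :
    ∃ (B : Type u) (_ : CommRing B) (_ : Algebra A B), Module.Finite A B ∧ Algebra.Etale A B ∧
      Module.FaithfullyFlat A B ∧ Nonempty (C →ₐ[A] B) := by
  haveI : Algebra.FormallyEtale (IsLocalRing.ResidueField A) κ' :=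
    Algebra.FormallyEtale.of_isSeparable (IsLocalRing.ResidueField A) κ'
  haveI : Algebra.FinitePresentation (IsLocalRing.ResidueField A) κ' :=
    Algebra.FinitePresentation.of_finiteType.mp inferInstance
  haveI : Algebra.Etale (IsLocalRing.ResidueField A) κ' := {}
  obtain ⟨B, _, _, hfin, het, ⟨e⟩⟩ := Groth.Agent.S0518.result A κ'
  haveI := hfin
  haveI := het
  let I : Ideal B := Ideal.map (algebraMap A B) (IsLocalRing.maximalIdeal A)
  haveI : Algebra.IsIntegral A B := inferInstance
  haveI : HenselianRing B I := Groth.Agent.S0526.result A (IsLocalRing.maximalIdeal A) B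
  letI : Algebra A κ' :=
    ((algebraMap (IsLocalRing.ResidueField A) κ').comp (IsLocalRing.residue A)).toAlgebra
  haveI : IsScalarTower A (IsLocalRing.ResidueField A) κ' :=
    IsScalarTower.of_algebraMap_eq (fun _ => rfl)
  let ξa : C →ₐ[A] κ' := { ξ with commutes' := hξ }
  have hker : ∀ a ∈ IsLocalRing.maximalIdeal A, (Algebra.ofId A (B ⧸ I)) a = 0 := by
    intro a ha
    change Ideal.Quotient.mk I (algebraMap A B a) = 0
    rw [Ideal.Quotient.eq_zero_iff_mem]
    exact Ideal.mem_map_of_mem _ ha
  let f : IsLocalRing.ResidueField A →ₐ[A] B ⧸ I :=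
    Ideal.Quotient.liftₐ (IsLocalRing.maximalIdeal A) (Algebra.ofId A (B ⧸ I)) hker
  let θ : (IsLocalRing.ResidueField A) ⊗[A] B →ₐ[A] B ⧸ I :=
    Algebra.TensorProduct.lift f (Ideal.Quotient.mkₐ A I) (fun _ _ => Commute.all _ _)
  let σ : C →ₐ[A] B ⧸ I := θ.comp ((e.symm.toAlgHom.restrictScalars A).comp ξa)
  obtain ⟨τ, -⟩ := Groth.Agent.S0536.result A C B I σ
  haveI : Nontrivial B := by
    by_contra hB
    rw [not_nontrivial_iff_subsingleton] at hB
    haveI : Subsingleton ((IsLocalRing.ResidueField A) ⊗[A] B) := by
      refine ⟨fun x y => ?_⟩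
      have h0 : ∀ z : (IsLocalRing.ResidueField A) ⊗[A] B, z = 0 := by
        intro z
        induction z using TensorProduct.induction_on with
        | zero => rfl
        | tmul a b => rw [Subsingleton.elim b 0, TensorProduct.tmul_zero]
        | add a b ha hb => rw [ha, hb, add_zero]
      rw [h0 x, h0 y]
    haveI : Subsingleton κ' := e.symm.injective.subsingleton
    exact false_of_nontrivial_of_subsingleton κ'
  haveI : Module.Flat A B := inferInstance
  haveI : Module.Free A B := Module.free_of_flat_of_isLocalRing
  exact ⟨B, inferInstance, inferInstance, hfin, het, inferInstance, ⟨τ⟩⟩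

end Groth.Agent.Lead.TorsHens
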