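import Mathlib
import Groth.Prelude.Def_RedSub
import Groth.Agent.Lead.TorsHens
import Groth.Agent.Helper3.SepClosedPts
import Groth.Agent.Helper4.GeomIrrGen

set_option autoImplicit false
universe u
open CategoryTheory CategoryTheory.Limits AlgebraicGeometry MonoidalCategory
  CartesianMonoidalCategory MonObj
attribute [local instance] Curv2.resAlgebra

namespace Groth.Agent.Lead.TorsHens

theorem smooth_of_isTorsor {S : Scheme.{u}} {G P : Over S} [GrpObj G] [Smooth G.hom]
    (a : AlgGrp.Action G P) (ha : RedSub.IsTorsor a) : Smooth P.hom := by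
  obtain ⟨hs, hfl, hfp, hiso⟩ := ha
  have hφ : lift a.act (snd G P) ≫ snd P P = snd G P := lift_snd _ _
  have h1 : snd P P = inv (lift a.act (snd G P)) ≫ snd G P := (IsIso.eq_inv_comp _).mpr hφ
  have h2 : pullback.snd P.hom P.hom =
      (inv (lift a.act (snd G P))).left ≫ pullback.snd G.hom P.hom := by
    have := congrArg (fun m => m.left) h1
    exact this
  haveI : IsIso (inv (lift a.act (snd G P))).left :=
    (Over.forget S).map_isIso (inv (lift a.act (snd G P)))
  have hsnd : Smooth (pullback.snd P.hom P.hom) := by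
    rw [h2]; infer_instance
  exact MorphismProperty.of_pullback_snd_of_descendsAlong (P := @Smooth)
    (Q := @Surjective ⊓ @Flat ⊓ @LocallyOfFinitePresentation) (f := P.hom) (g := P.hom)
    ⟨⟨hs, hfl⟩, hfp⟩ hsnd

theorem exists_section_finite_etale (A : Type u) [CommRing A] [HenselianLocalRing A]
    (P : Over (Spec (CommRingCat.of A))) [Smooth P.hom] [Surjective P.hom] :
    ∃ (S' : Scheme.{u}) (f : S' ⟶ Spec (CommRingCat.of A)), IsFinite f ∧ Etale f ∧ Surjective f ∧
      RedSub.HasSection (Red.bc f P) := by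
  let κ := IsLocalRing.ResidueField A
  let s : Spec (CommRingCat.of κ) ⟶ Spec (CommRingCat.of A) :=
    Spec.map (CommRingCat.ofHom (IsLocalRing.residue A))
  let Ps := pullback P.hom s
  letI : Ps.Over (Spec (CommRingCat.of κ)) := ⟨pullback.snd P.hom s⟩
  haveI : Smooth (Ps ↘ Spec (CommRingCat.of κ)) := (inferInstance : Smooth (pullback.snd P.hom s))
  haveI : Nonempty Ps := by
    have hsj : Surjective (pullback.snd P.hom s) := inferInstance
    obtain ⟨x, -⟩ := hsj.surj (⟨⊥, Ideal.bot_prime⟩ : Spec (CommRingCat.of κ))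
    exact ⟨x⟩
  obtain ⟨x, -, hfd, hsep⟩ := (Groth.Agent.Helper3.SepClosedPts.main κ Ps).nonempty
  haveI := hfd
  haveI := hsep
  let x' : Spec (Ps.residueField x) ⟶ P.left := Ps.fromSpecResidueField x ≫ pullback.fst P.hom s
  have hx' : x' ≫ P.hom = Spec.map (CommRingCat.ofHom (IsLocalRing.residue A) ≫
      CommRingCat.ofHom (Curv2.resMap κ Ps x)) := by
    rw [Spec.map_comp, Groth.Agent.Helper4.GeomIrrGen.specMap_resMap, Category.assoc,
      pullback.condition, Category.assoc]
    rfl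
  let pt : Spec (Ps.residueField x) := ⟨⊥, Ideal.bot_prime⟩
  obtain ⟨U, hU, hxU⟩ : ∃ U : P.left.Opens, IsAffineOpen U ∧ x' pt ∈ U := by
    obtain ⟨U, hU, hxU, -⟩ := TopologicalSpace.Opens.isBasis_iff_nbhd.mp
      (Scheme.isBasis_affineOpens P.left) (U := ⊤) (x := x' pt) trivial
    exact ⟨U, hU, hxU⟩
  haveI : IsAffine (U : Scheme.{u}) := hU
  have hrange : Set.range x'.base ⊆ Set.range U.ι.base := by
    rintro _ ⟨q, rfl⟩
    have hq : q = pt := by
      haveI : Subsingleton (Spec (Ps.residueField x)) :=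
        inferInstanceAs (Subsingleton (PrimeSpectrum (Ps.residueField x)))
      exact Subsingleton.elim _ _
    rw [hq, Scheme.Opens.range_ι]
    exact hxU
  let xU : Spec (Ps.residueField x) ⟶ (U : Scheme.{u}) := IsOpenImmersion.lift U.ι x' hrange
  have hxU' : xU ≫ U.ι = x' := IsOpenImmersion.lift_fac _ _ _
  let ψ : CommRingCat.of A ⟶ Γ((U : Scheme.{u}), ⊤) :=
    (Scheme.ΓSpecIso (CommRingCat.of A)).inv ≫ (U.ι ≫ P.hom).appTop
  have hp : (U : Scheme.{u}).isoSpec.inv ≫ (U.ι ≫ P.hom) = Spec.map ψ := by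
    rw [Spec.map_comp, ← Scheme.isoSpec_Spec_inv, Scheme.isoSpec_inv_naturality]
  have hsm : Smooth (Spec.map ψ) := by rw [← hp]; infer_instance
  have hψ : RingHom.Smooth ψ.hom := (HasRingHomProperty.Spec_iff (P := @Smooth)).mp hsm
  letI : Algebra A Γ((U : Scheme.{u}), ⊤) := ψ.hom.toAlgebra
  haveI : Algebra.Smooth A Γ((U : Scheme.{u}), ⊤) := hψ
  let ω : Γ((U : Scheme.{u}), ⊤) ⟶ Ps.residueField x :=
    Spec.preimage (xU ≫ (U : Scheme.{u}).isoSpec.hom)
  have hω : Spec.map ω = xU ≫ (U : Scheme.{u}).isoSpec.hom := Spec.map_preimage _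
  have hψω : ψ ≫ ω = CommRingCat.ofHom (IsLocalRing.residue A) ≫
      CommRingCat.ofHom (Curv2.resMap κ Ps x) := by
    apply Spec.map_injective
    rw [Spec.map_comp, hω, ← hp, Category.assoc, ← Category.assoc (U : Scheme.{u}).isoSpec.hom,
      Iso.hom_inv_id, Category.id_comp, ← Category.assoc, hxU', hx']
  obtain ⟨B, _, _, hfin, het, hff, ⟨τ⟩⟩ := exists_lift_finite_etale A Γ((U : Scheme.{u}), ⊤)
    (Ps.residueField x) ω.hom (fun a => by
      have := congrArg (fun f => f.hom a) hψω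
      exact this)
  let f : Spec (CommRingCat.of B) ⟶ Spec (CommRingCat.of A) :=
    Spec.map (CommRingCat.ofHom (algebraMap A B))
  let σ : Spec (CommRingCat.of B) ⟶ P.left :=
    Spec.map (CommRingCat.ofHom τ.toRingHom) ≫ (U : Scheme.{u}).isoSpec.inv ≫ U.ι
  have hσ : σ ≫ P.hom = f := by
    have h1 : ψ ≫ CommRingCat.ofHom τ.toRingHom = CommRingCat.ofHom (algebraMap A B) := by
      ext a
      exact τ.commutes a
    change (Spec.map _ ≫ _ ≫ _) ≫ P.hom = _
    rw [Category.assoc, Category.assoc, hp, ← Spec.map_comp]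
    exact congrArg Spec.map h1
  refine ⟨Spec (CommRingCat.of B), f, ?_, ?_, ?_, ?_⟩
  · rw [IsFinite.SpecMap_iff]
    exact RingHom.finite_algebraMap.mpr hfin
  · rw [HasRingHomProperty.Spec_iff (P := @Etale)]
    exact RingHom.etale_algebraMap.mpr het
  · constructor
    intro y
    obtain ⟨z, hz⟩ := PrimeSpectrum.comap_surjective_of_faithfullyFlat (A := A) (B := B) y
    exact ⟨z, hz⟩
  · refine ⟨Over.homMk (pullback.lift σ (𝟙 _) (by rw [hσ, Category.id_comp])) ?_⟩
    exact pullback.lift_snd _ _ _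

end Groth.Agent.Lead.TorsHens
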