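import Mathlib
import Groth.Prelude.Def_AbDual
import Groth.Agent.Helper3.PowComm
import Groth.Agent.Helper5.FibGrp1
import Groth.Agent.Helper5.FibFlat4
import Groth.Agent.S0536

set_option autoImplicit false
set_option linter.style.haveILetI false
universe u
open CategoryTheory CategoryTheory.Limits AlgebraicGeometry MonoidalCategory
  CartesianMonoidalCategory MonObj GrpObj

namespace Groth.Agent.Lead.TorsLift

/-- `[N]` is étale on a smooth commutative group scheme when `N` is invertible on the base -/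
theorem etale_pow {S : Scheme.{u}} (G : Over S) [GrpObj G] [IsCommMonObj G] [Smooth G.hom]
    (N : ℕ) (hN : IsUnit ((N : ℕ) : Γ(S, ⊤))) : Etale ((𝟙 G : G ⟶ G) ^ N).left := by
  set P : G ⟶ G := (𝟙 G : G ⟶ G) ^ N with hP
  have hw : P.left ≫ G.hom = G.hom := Over.w P
  rw [Groth.Agent.Helper5.FibFlat.s2763 G.hom G.hom P.left hw]
  intro s
  refine Groth.Agent.Helper5.FibGrp.fibreMap_of_bc G G P @Etale s ?_
  let j := S.fromSpecResidueField s
  let G' : Over (Spec (CommRingCat.of ↑(S.residueField s))) := Red.bc j G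
  haveI : LocallyOfFiniteType G'.hom :=
    inferInstanceAs (LocallyOfFiniteType (pullback.snd G.hom j))
  haveI : IsCommMonObj G' := inferInstance
  show Etale ((Over.pullback j).map ((𝟙 G : G ⟶ G) ^ N)).left
  have hmap : (Over.pullback j).map ((𝟙 G : G ⟶ G) ^ N) = (𝟙 G' : G' ⟶ G') ^ N := by
    have h := map_pow ((Over.pullback j).homMonoidHom (X := G) (M := G)) (𝟙 G) N
    simpa using h
  rw [hmap]
  have hne : ((N : ℕ) : ↑(S.residueField s)) ≠ 0 := by
    have h := hN.map (S.evaluation ⊤ s trivial).hom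
    rw [map_natCast] at h
    exact h.ne_zero
  exact Groth.Agent.Helper3.PowComm.etale_pow (k := S.residueField s) (G := G') N hne

/-- a residue-field point of a smooth scheme over a henselian local ring lifts to a section -/
theorem exists_section_through (R : Type u) [CommRing R] [HenselianLocalRing R] {K : Scheme.{u}}
    (p : K ⟶ Spec (CommRingCat.of R)) [Smooth p]
    (x₀ : Spec (CommRingCat.of (IsLocalRing.ResidueField R)) ⟶ K)
    (hx₀ : x₀ ≫ p = Spec.map (CommRingCat.ofHom (IsLocalRing.residue R))) :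
    ∃ s : Spec (CommRingCat.of R) ⟶ K, s ≫ p = 𝟙 _ ∧
      Spec.map (CommRingCat.ofHom (IsLocalRing.residue R)) ≫ s = x₀ := by
  let κ := IsLocalRing.ResidueField R
  let pt : Spec (CommRingCat.of κ) := ⟨⊥, Ideal.bot_prime⟩
  obtain ⟨U, hU, hxU⟩ : ∃ U : K.Opens, IsAffineOpen U ∧ x₀ pt ∈ U := by
    obtain ⟨U, hU, hxU, -⟩ := TopologicalSpace.Opens.isBasis_iff_nbhd.mp
      (Scheme.isBasis_affineOpens K) (U := ⊤) (x := x₀ pt) trivial
    exact ⟨U, hU, hxU⟩
  haveI : IsAffine (U : Scheme.{u}) := hU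
  have hrange : Set.range x₀.base ⊆ Set.range U.ι.base := by
    rintro _ ⟨q, rfl⟩
    have hq : q = pt := by
      haveI : Subsingleton (Spec (CommRingCat.of κ)) :=
        inferInstanceAs (Subsingleton (PrimeSpectrum κ))
      exact Subsingleton.elim _ _
    rw [hq, Scheme.Opens.range_ι]
    exact hxU
  let xU : Spec (CommRingCat.of κ) ⟶ (U : Scheme.{u}) := IsOpenImmersion.lift U.ι x₀ hrange
  have hxU' : xU ≫ U.ι = x₀ := IsOpenImmersion.lift_fac _ _ _
  let ψ : CommRingCat.of R ⟶ Γ((U : Scheme.{u}), ⊤) :=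
    (Scheme.ΓSpecIso (CommRingCat.of R)).inv ≫ (U.ι ≫ p).appTop
  have hp : (U : Scheme.{u}).isoSpec.inv ≫ (U.ι ≫ p) = Spec.map ψ := by
    rw [Spec.map_comp, ← Scheme.isoSpec_Spec_inv, Scheme.isoSpec_inv_naturality]
  have hsm : Smooth (Spec.map ψ) := by rw [← hp]; infer_instance
  have hψ : RingHom.Smooth ψ.hom := (HasRingHomProperty.Spec_iff (P := @Smooth)).mp hsm
  letI : Algebra R Γ((U : Scheme.{u}), ⊤) := ψ.hom.toAlgebra
  haveI : Algebra.Smooth R Γ((U : Scheme.{u}), ⊤) := hψ
  let ω : Γ((U : Scheme.{u}), ⊤) ⟶ CommRingCat.of κ :=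
    Spec.preimage (xU ≫ (U : Scheme.{u}).isoSpec.hom)
  have hω : Spec.map ω = xU ≫ (U : Scheme.{u}).isoSpec.hom := Spec.map_preimage _
  have hψω : ψ ≫ ω = CommRingCat.ofHom (IsLocalRing.residue R) := by
    apply Spec.map_injective
    rw [Spec.map_comp, hω, ← hp, Category.assoc, ← Category.assoc (U : Scheme.{u}).isoSpec.hom,
      Iso.hom_inv_id, Category.id_comp, ← Category.assoc, hxU', hx₀]
  let σ : Γ((U : Scheme.{u}), ⊤) →ₐ[R] R ⧸ IsLocalRing.maximalIdeal R :=
    { (ω.hom : Γ((U : Scheme.{u}), ⊤) →+* R ⧸ IsLocalRing.maximalIdeal R) with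
      commutes' := fun a => by
        have := congrArg (fun f => f.hom a) hψω
        exact this }
  obtain ⟨τ, hτ⟩ := Groth.Agent.S0536.result R Γ((U : Scheme.{u}), ⊤) R
    (IsLocalRing.maximalIdeal R) σ
  refine ⟨Spec.map (CommRingCat.ofHom τ.toRingHom) ≫ (U : Scheme.{u}).isoSpec.inv ≫ U.ι, ?_, ?_⟩
  · rw [Category.assoc, Category.assoc, hp, ← Spec.map_comp]
    have h1 : ψ ≫ CommRingCat.ofHom τ.toRingHom = 𝟙 _ :=
      CommRingCat.hom_ext (RingHom.ext fun a => τ.commutes a)
    exact (congrArg Spec.map h1).trans (Spec.map_id _)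
  · have h2 : CommRingCat.ofHom τ.toRingHom ≫ CommRingCat.ofHom (IsLocalRing.residue R) = ω :=
      CommRingCat.hom_ext (RingHom.ext fun c => by
        have := congrArg (fun f => f c) hτ
        exact this)
    rw [← Category.assoc, ← Spec.map_comp, h2, hω, Category.assoc,
      ← Category.assoc (U : Scheme.{u}).isoSpec.hom, Iso.hom_inv_id, Category.id_comp, hxU']

/-- sections of an étale morphism to a local scheme agreeing at the closed point are equal -/
theorem section_ext (R : Type u) [CommRing R] [IsLocalRing R] {K : Scheme.{u}}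
    (p : K ⟶ Spec (CommRingCat.of R)) [Etale p]
    (s₁ s₂ : Spec (CommRingCat.of R) ⟶ K) (h₁ : s₁ ≫ p = 𝟙 _) (h₂ : s₂ ≫ p = 𝟙 _)
    (h : Spec.map (CommRingCat.ofHom (IsLocalRing.residue R)) ≫ s₁ =
      Spec.map (CommRingCat.ofHom (IsLocalRing.residue R)) ≫ s₂) : s₁ = s₂ := by
  let κ := IsLocalRing.ResidueField R
  let pt : Spec (CommRingCat.of κ) := ⟨⊥, Ideal.bot_prime⟩
  let Δ := pullback.diagonal p
  haveI : IsOpenImmersion Δ := inferInstance
  let t : Spec (CommRingCat.of R) ⟶ pullback p p := pullback.lift s₁ s₂ (by rw [h₁, h₂])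
  let e : pullback t Δ ⟶ Spec (CommRingCat.of R) := pullback.fst t Δ
  haveI : IsOpenImmersion e := inferInstance
  let r := Spec.map (CommRingCat.ofHom (IsLocalRing.residue R))
  have hr : r ≫ t = (r ≫ s₁) ≫ Δ := by
    apply pullback.hom_ext
    · rw [Category.assoc, Category.assoc, pullback.lift_fst, pullback.diagonal_fst,
        Category.comp_id]
    · rw [Category.assoc, Category.assoc, pullback.lift_snd, pullback.diagonal_snd,
        Category.comp_id]
      exact h.symm
  let c : Spec (CommRingCat.of κ) ⟶ pullback t Δ := pullback.lift r (r ≫ s₁) hr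
  have hc : c ≫ e = r := pullback.lift_fst _ _ _
  have hsurj : Function.Surjective e.base := by
    have hopen : IsOpen (Set.range e.base) := e.isOpenEmbedding.isOpen_range
    have hmem : IsLocalRing.closedPoint R ∈ Set.range e.base := by
      refine ⟨c.base pt, ?_⟩
      have h3 : (c ≫ e).base pt = IsLocalRing.closedPoint R := by
        rw [hc]
        exact IsLocalRing.PrimeSpectrum.comap_residue R pt
      exact h3
    intro x
    have hx : x ⤳ IsLocalRing.closedPoint R := IsLocalRing.specializes_closedPoint x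
    exact hx.mem_open hopen hmem
  haveI : IsIso e := (isIso_iff_isOpenImmersion_and_surjective e).mpr ⟨inferInstance, ⟨hsurj⟩⟩
  have ht : t = inv e ≫ pullback.snd t Δ ≫ Δ := by
    rw [← pullback.condition, IsIso.inv_hom_id_assoc]
  have e1 : s₁ = t ≫ pullback.fst p p := (pullback.lift_fst _ _ _).symm
  have e2 : s₂ = t ≫ pullback.snd p p := (pullback.lift_snd _ _ _).symm
  rw [e1, e2, ht, Category.assoc, Category.assoc, Category.assoc, Category.assoc,
    pullback.diagonal_fst, pullback.diagonal_snd]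

theorem main (R : Type u) [CommRing R] [HenselianLocalRing R]
    (G : Over (Spec (CommRingCat.of R))) [GrpObj G] [IsCommMonObj G] [Smooth G.hom]
    (N : ℕ) (hN : IsUnit (N : R))
    (τ : Over.mk (Spec.map (CommRingCat.ofHom (IsLocalRing.residue R))) ⟶ G)
    (hτ : τ ∈ AbDual.torsPts G N
      (Over.mk (Spec.map (CommRingCat.ofHom (IsLocalRing.residue R))))) :
    ∃! σ : Over.mk (𝟙 (Spec (CommRingCat.of R))) ⟶ G,
      σ ∈ AbDual.torsPts G N (Over.mk (𝟙 (Spec (CommRingCat.of R)))) ∧
        Over.homMk (Spec.map (CommRingCat.ofHom (IsLocalRing.residue R)))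
          (Category.comp_id _) ≫ σ = τ := by
  let S := Spec (CommRingCat.of R)
  let r : Spec (CommRingCat.of (IsLocalRing.ResidueField R)) ⟶ S :=
    Spec.map (CommRingCat.ofHom (IsLocalRing.residue R))
  let P : G ⟶ G := (𝟙 G : G ⟶ G) ^ N
  have hNS : IsUnit ((N : ℕ) : Γ(S, ⊤)) := by
    have h := hN.map (Scheme.ΓSpecIso (CommRingCat.of R)).inv.hom
    rwa [map_natCast] at h
  haveI : Etale P.left := etale_pow G N hNS
  let e : S ⟶ G.left := (η[G] : 𝟙_ (Over S) ⟶ G).left
  have he : e ≫ G.hom = 𝟙 S := Over.w η[G]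
  let kG := pullback.fst P.left e
  let kS := pullback.snd P.left e
  haveI : Etale kS := inferInstance
  have hk : kG ≫ G.hom = kS := by
    have h1 : kG ≫ P.left = kS ≫ e := pullback.condition
    have h2 := congrArg (· ≫ G.hom) h1
    simp only [Category.assoc] at h2
    rw [Over.w P, he, Category.comp_id] at h2
    exact h2
  have key : ∀ (T : Over S) (a : T ⟶ G),
      a ∈ AbDual.torsPts G N T ↔ a.left ≫ P.left = T.hom ≫ e := by
    intro T a
    rw [AbDual.mem_torsPts]
    have h1 : a ^ N = a ≫ P := by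
      change a ^ N = a ≫ (𝟙 G : G ⟶ G) ^ N
      rw [MonObj.comp_pow, Category.comp_id]
    rw [h1, Hom.one_def]
    constructor
    · intro h
      exact congrArg (fun m => m.left) h
    · intro h
      exact Over.OverMorphism.ext h
  have hτ' : τ.left ≫ P.left = r ≫ e := (key _ τ).mp hτ
  let x₀ : Spec (CommRingCat.of (IsLocalRing.ResidueField R)) ⟶ pullback P.left e :=
    pullback.lift τ.left r hτ'
  have hx₀ : x₀ ≫ kS = r := pullback.lift_snd _ _ _
  obtain ⟨s, hs1, hs2⟩ := exists_section_through R kS x₀ hx₀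
  let σ : Over.mk (𝟙 S) ⟶ G := Over.homMk (s ≫ kG) (by
    rw [Category.assoc, hk, hs1]; rfl)
  refine ⟨σ, ⟨?_, ?_⟩, ?_⟩
  · rw [key]
    change (s ≫ kG) ≫ P.left = 𝟙 S ≫ e
    rw [Category.assoc, pullback.condition, ← Category.assoc, hs1]
  · apply Over.OverMorphism.ext
    change r ≫ s ≫ kG = τ.left
    rw [← Category.assoc, hs2]
    exact pullback.lift_fst _ _ _
  · rintro σ' ⟨hσ'1, hσ'2⟩
    have h' : σ'.left ≫ P.left = 𝟙 S ≫ e := (key _ σ').mp hσ'1
    let s' : S ⟶ pullback P.left e := pullback.lift σ'.left (𝟙 S) h'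
    have hs'1 : s' ≫ kS = 𝟙 S := pullback.lift_snd _ _ _
    have hs'2 : r ≫ s' = x₀ := by
      apply pullback.hom_ext
      · rw [Category.assoc, pullback.lift_fst, pullback.lift_fst]
        exact congrArg (fun m => m.left) hσ'2
      · rw [Category.assoc, pullback.lift_snd, pullback.lift_snd, Category.comp_id]
    have hss : s' = s := section_ext R kS s' s hs'1 hs1 (by rw [hs'2, hs2])
    apply Over.OverMorphism.ext
    change σ'.left = s ≫ kG
    rw [← hss]
    exact (pullback.lift_fst _ _ _).symm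

end Groth.Agent.Lead.TorsLift
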