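import Mathlib
import Groth.Prelude.Def_AbDual
import Groth.Prelude.Def_AgPol
import Groth.Agent.Lead.TorsLiftA
import Groth.Agent.Helper4.RegNormal
import Groth.Agent.Helper8.FinDesc

set_option autoImplicit false
set_option linter.style.haveILetI false
universe u
open CategoryTheory CategoryTheory.Limits AlgebraicGeometry MonoidalCategory
  CartesianMonoidalCategory MonObj GrpObj

namespace Groth.Agent.Lead.TorsLift

/-- generic points of a finite scheme over an integrally closed domain extend to sections -/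
theorem exists_extension_of_finite (R : Type u) [CommRing R] [IsDomain R] [IsIntegrallyClosed R]
    {K : Scheme.{u}} (p : K ⟶ Spec (CommRingCat.of R)) [IsFinite p]
    (x : Spec (CommRingCat.of (FractionRing R)) ⟶ K)
    (hx : x ≫ p = Spec.map (CommRingCat.ofHom (algebraMap R (FractionRing R)))) :
    ∃ s : Spec (CommRingCat.of R) ⟶ K, s ≫ p = 𝟙 _ ∧
      Spec.map (CommRingCat.ofHom (algebraMap R (FractionRing R))) ≫ s = x := by
  haveI : IsAffine K := isAffine_of_isAffineHom p
  let ψ : CommRingCat.of R ⟶ Γ(K, ⊤) := (Scheme.ΓSpecIso (CommRingCat.of R)).inv ≫ p.appTop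
  have hp : K.isoSpec.inv ≫ p = Spec.map ψ := by
    rw [Spec.map_comp, ← Scheme.isoSpec_Spec_inv, Scheme.isoSpec_inv_naturality]
  have hfin : IsFinite (Spec.map ψ) := by rw [← hp]; infer_instance
  have hψ : ψ.hom.Finite := (IsFinite.SpecMap_iff ψ).mp hfin
  letI : Algebra R Γ(K, ⊤) := ψ.hom.toAlgebra
  haveI : Module.Finite R Γ(K, ⊤) := hψ
  let ω : Γ(K, ⊤) ⟶ CommRingCat.of (FractionRing R) := Spec.preimage (x ≫ K.isoSpec.hom)
  have hω : Spec.map ω = x ≫ K.isoSpec.hom := Spec.map_preimage _
  have hψω : ψ ≫ ω = CommRingCat.ofHom (algebraMap R (FractionRing R)) := by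
    apply Spec.map_injective
    rw [Spec.map_comp, hω, ← hp, Category.assoc, Iso.hom_inv_id_assoc, hx]
  let ωa : Γ(K, ⊤) →ₐ[R] FractionRing R :=
    { ω.hom with
      commutes' := fun a => by
        have := congrArg (fun f => f.hom a) hψω
        exact this }
  have hint : ∀ c : Γ(K, ⊤), ∃ a : R, algebraMap R (FractionRing R) a = ωa c := by
    intro c
    have hc : IsIntegral R c := Algebra.IsIntegral.isIntegral c
    have h2 : IsIntegral R (ωa c) := hc.map ωa
    exact IsIntegrallyClosed.isIntegral_iff.mp h2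
  choose φ hφ using hint
  have hinj : Function.Injective (algebraMap R (FractionRing R)) := IsFractionRing.injective R _
  let φa : Γ(K, ⊤) →ₐ[R] R :=
    { toFun := φ
      map_one' := hinj (by rw [hφ, map_one, map_one])
      map_mul' := fun a b => hinj (by rw [hφ, map_mul, map_mul, hφ, hφ])
      map_zero' := hinj (by rw [hφ, map_zero, map_zero])
      map_add' := fun a b => hinj (by rw [hφ, map_add, map_add, hφ, hφ])
      commutes' := fun a => hinj (by rw [hφ, AlgHom.commutes]; rfl) }
  refine ⟨Spec.map (CommRingCat.ofHom φa.toRingHom) ≫ K.isoSpec.inv, ?_, ?_⟩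
  · rw [Category.assoc, hp, ← Spec.map_comp]
    have h1 : ψ ≫ CommRingCat.ofHom φa.toRingHom = 𝟙 _ :=
      CommRingCat.hom_ext (RingHom.ext fun a => φa.commutes a)
    exact (congrArg Spec.map h1).trans (Spec.map_id _)
  · have h2 : CommRingCat.ofHom φa.toRingHom ≫
        CommRingCat.ofHom (algebraMap R (FractionRing R)) = ω :=
      CommRingCat.hom_ext (RingHom.ext fun c => hφ c)
    rw [← Category.assoc, ← Spec.map_comp, h2, hω, Category.assoc, Iso.hom_inv_id,
      Category.comp_id]

/-- finitely many residue-field points on a finite étale scheme over a local ring -/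
theorem finite_sections_residue (R : Type u) [CommRing R] [IsLocalRing R]
    {K : Scheme.{u}} (p : K ⟶ Spec (CommRingCat.of R)) [IsFinite p] [Etale p] :
    Finite {x : Spec (CommRingCat.of (IsLocalRing.ResidueField R)) ⟶ K //
      x ≫ p = Spec.map (CommRingCat.ofHom (IsLocalRing.residue R))} := by
  haveI : IsAffine K := isAffine_of_isAffineHom p
  let ψ : CommRingCat.of R ⟶ Γ(K, ⊤) := (Scheme.ΓSpecIso (CommRingCat.of R)).inv ≫ p.appTop
  have hp : K.isoSpec.inv ≫ p = Spec.map ψ := by
    rw [Spec.map_comp, ← Scheme.isoSpec_Spec_inv, Scheme.isoSpec_inv_naturality]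
  have hfin : IsFinite (Spec.map ψ) := by rw [← hp]; infer_instance
  have het : Etale (Spec.map ψ) := by rw [← hp]; infer_instance
  have hψ : ψ.hom.Finite := (IsFinite.SpecMap_iff ψ).mp hfin
  have hψe : RingHom.Etale ψ.hom := (HasRingHomProperty.Spec_iff (P := @Etale)).mp het
  letI : Algebra R Γ(K, ⊤) := ψ.hom.toAlgebra
  haveI : Module.Finite R Γ(K, ⊤) := hψ
  haveI : Algebra.Etale R Γ(K, ⊤) := RingHom.etale_algebraMap.mp hψe
  haveI : Module.Flat R Γ(K, ⊤) := inferInstance
  haveI : Module.Free R Γ(K, ⊤) := Module.free_of_flat_of_isLocalRing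
  haveI : Finite (Γ(K, ⊤) →ₐ[R] IsLocalRing.ResidueField R) := Finite.algHom _ _ _
  let F : {x : Spec (CommRingCat.of (IsLocalRing.ResidueField R)) ⟶ K //
      x ≫ p = Spec.map (CommRingCat.ofHom (IsLocalRing.residue R))} →
      (Γ(K, ⊤) →ₐ[R] IsLocalRing.ResidueField R) := fun x =>
    { (Spec.preimage (x.1 ≫ K.isoSpec.hom)).hom with
      commutes' := fun a => by
        have h1 : ψ ≫ Spec.preimage (x.1 ≫ K.isoSpec.hom) =
            CommRingCat.ofHom (IsLocalRing.residue R) := by
          apply Spec.map_injective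
          rw [Spec.map_comp, Spec.map_preimage, ← hp, Category.assoc, Iso.hom_inv_id_assoc, x.2]
        have := congrArg (fun f => f.hom a) h1
        exact this }
  refine Finite.of_injective F ?_
  intro x y hxy
  apply Subtype.ext
  have h1 : (Spec.preimage (x.1 ≫ K.isoSpec.hom)).hom = (Spec.preimage (y.1 ≫ K.isoSpec.hom)).hom :=
    congrArg (fun f : Γ(K, ⊤) →ₐ[R] IsLocalRing.ResidueField R => f.toRingHom) hxy
  have h2 : Spec.preimage (x.1 ≫ K.isoSpec.hom) = Spec.preimage (y.1 ≫ K.isoSpec.hom) :=
    CommRingCat.hom_ext h1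
  have h3 := congrArg Spec.map h2
  rw [Spec.map_preimage, Spec.map_preimage] at h3
  exact (cancel_mono K.isoSpec.hom).mp h3

theorem card_le (R : Type u) [CommRing R] [IsDomain R] [IsRegularLocalRing R] [Algebra ℚ R]
    (A : Over (Spec (CommRingCat.of R))) [GrpObj A] [IsCommMonObj A] (g : ℕ)
    (hA : AgPol.IsAbSch A g) (m : ℕ) (hm : 1 ≤ m) :
    Nat.card (AbDual.torsPts A m
        (Over.mk (Spec.map (CommRingCat.ofHom (algebraMap R (FractionRing R)))))) ≤
      Nat.card (AbDual.torsPts A m
        (Over.mk (Spec.map (CommRingCat.ofHom (IsLocalRing.residue R))))) := by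
  haveI := hA.smooth
  haveI := hA.proper
  haveI : IsIntegrallyClosed R :=
    Groth.Agent.Helper4.RegNormal.isIntegrallyClosed_of_isRegularLocalRing R
  let S := Spec (CommRingCat.of R)
  let gen : Spec (CommRingCat.of (FractionRing R)) ⟶ S :=
    Spec.map (CommRingCat.ofHom (algebraMap R (FractionRing R)))
  let r : Spec (CommRingCat.of (IsLocalRing.ResidueField R)) ⟶ S :=
    Spec.map (CommRingCat.ofHom (IsLocalRing.residue R))
  have hmR : IsUnit ((m : ℕ) : R) := by
    have h0 : ((m : ℕ) : ℚ) ≠ 0 := Nat.cast_ne_zero.mpr (by omega)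
    have h1 := (IsUnit.mk0 _ h0).map (algebraMap ℚ R)
    rwa [map_natCast] at h1
  have hNS : IsUnit ((m : ℕ) : Γ(S, ⊤)) := by
    have h := hmR.map (Scheme.ΓSpecIso (CommRingCat.of R)).inv.hom
    rwa [map_natCast] at h
  let P : A ⟶ A := (𝟙 A : A ⟶ A) ^ m
  haveI : Etale P.left := etale_pow A m hNS
  let e : S ⟶ A.left := (η[A] : 𝟙_ (Over S) ⟶ A).left
  have he : e ≫ A.hom = 𝟙 S := Over.w η[A]
  let kG := pullback.fst P.left e
  let kS := pullback.snd P.left e
  haveI : Etale kS := inferInstance
  have hk : kG ≫ A.hom = kS := by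
    have h1 : kG ≫ P.left = kS ≫ e := pullback.condition
    have h2 := congrArg (· ≫ A.hom) h1
    simp only [Category.assoc] at h2
    rw [Over.w P, he, Category.comp_id] at h2
    exact h2
  haveI : IsFinite (e ≫ A.hom) := by rw [he]; infer_instance
  haveI : IsFinite e := IsFinite.of_comp e A.hom
  haveI : IsFinite kG := inferInstance
  haveI : IsProper kS := by rw [← hk]; infer_instance
  haveI : LocallyQuasiFinite kS := Groth.Agent.Helper8.FinDesc.lqf_of_etale kS
  haveI : IsFinite kS := IsFinite.of_isProper_of_locallyQuasiFinite kS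
  have key : ∀ (T : Over S) (a : T ⟶ A),
      a ∈ AbDual.torsPts A m T ↔ a.left ≫ P.left = T.hom ≫ e := by
    intro T a
    rw [AbDual.mem_torsPts]
    have h1 : a ^ m = a ≫ P := by
      change a ^ m = a ≫ (𝟙 A : A ⟶ A) ^ m
      rw [MonObj.comp_pow, Category.comp_id]
    rw [h1, Hom.one_def]
    constructor
    · intro h
      exact congrArg (fun t => t.left) h
    · intro h
      exact Over.OverMorphism.ext h
  have hext : ∀ a : AbDual.torsPts A m (Over.mk gen),
      ∃ s : S ⟶ pullback P.left e, s ≫ kS = 𝟙 S ∧ gen ≫ s ≫ kG = a.1.left := by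
    intro a
    have ha : a.1.left ≫ P.left = gen ≫ e := (key _ a.1).mp a.2
    obtain ⟨s, hs1, hs2⟩ := exists_extension_of_finite R kS (pullback.lift a.1.left gen ha)
      (pullback.lift_snd _ _ _)
    refine ⟨s, hs1, ?_⟩
    rw [← Category.assoc, hs2]
    exact pullback.lift_fst _ _ _
  choose sec hsec1 hsec2 using hext
  let Φ : AbDual.torsPts A m (Over.mk gen) → AbDual.torsPts A m (Over.mk r) := fun a =>
    ⟨Over.homMk (r ≫ sec a ≫ kG) (by
        change (r ≫ sec a ≫ kG) ≫ A.hom = r
        rw [Category.assoc, Category.assoc, hk, hsec1, Category.comp_id]),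
     (key _ _).mpr (by
        change (r ≫ sec a ≫ kG) ≫ P.left = r ≫ e
        rw [Category.assoc, Category.assoc, pullback.condition, ← Category.assoc (sec a),
          hsec1, Category.id_comp])⟩
  have hΦ : Function.Injective Φ := by
    intro a b hab
    have h1 : r ≫ sec a ≫ kG = r ≫ sec b ≫ kG := congrArg (fun t => t.1.left) hab
    have h2 : r ≫ sec a = r ≫ sec b := by
      apply pullback.hom_ext
      · rw [Category.assoc, Category.assoc]
        exact h1
      · rw [Category.assoc, Category.assoc]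
        change r ≫ sec a ≫ kS = r ≫ sec b ≫ kS
        rw [hsec1, hsec1]
    have h3 : sec a = sec b := section_ext R kS _ _ (hsec1 a) (hsec1 b) h2
    apply Subtype.ext
    apply Over.OverMorphism.ext
    rw [← hsec2 a, ← hsec2 b, h3]
  haveI : Finite (AbDual.torsPts A m (Over.mk r)) := by
    haveI := finite_sections_residue R kS
    let Ψ : AbDual.torsPts A m (Over.mk r) →
        {x : Spec (CommRingCat.of (IsLocalRing.ResidueField R)) ⟶ pullback P.left e //
          x ≫ kS = Spec.map (CommRingCat.ofHom (IsLocalRing.residue R))} := fun a =>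
      ⟨pullback.lift a.1.left r ((key _ a.1).mp a.2), pullback.lift_snd _ _ _⟩
    refine Finite.of_injective Ψ ?_
    intro a b hab
    have h1 : pullback.lift a.1.left r ((key _ a.1).mp a.2) ≫ kG =
        pullback.lift b.1.left r ((key _ b.1).mp b.2) ≫ kG :=
      congrArg (fun t => t.1 ≫ kG) hab
    rw [pullback.lift_fst, pullback.lift_fst] at h1
    exact Subtype.ext (Over.OverMorphism.ext h1)
  exact Nat.card_le_card_of_injective Φ hΦ

end Groth.Agent.Lead.TorsLift
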