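import Mathlib
import Groth.Agent.Lead.TrdegA

set_option autoImplicit false
set_option linter.style.haveILetI false
universe u
open CategoryTheory CategoryTheory.Limits AlgebraicGeometry

namespace Groth.Agent.Lead.TrdegB

/-- two presentations of a morphism from the spectrum of a field agree -/
theorem specfield_eq {K : Type u} [Field K] {X : Scheme.{u}} {x₁ x₂ : X}
    (φ₁ : X.residueField x₁ ⟶ .of K) (φ₂ : X.residueField x₂ ⟶ .of K)
    (h : Spec.map φ₁ ≫ X.fromSpecResidueField x₁ = Spec.map φ₂ ≫ X.fromSpecResidueField x₂) :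
    ∃ e : x₁ = x₂, φ₁ = (X.residueFieldCongr e).hom ≫ φ₂ := by
  have h2 : (⟨x₁, φ₁⟩ : Σ x : X.carrier, X.residueField x ⟶ .of K) = ⟨x₂, φ₂⟩ :=
    (Scheme.SpecToEquivOfField K X).symm.injective h
  exact Scheme.SpecToEquivOfField_eq_iff.mp h2

theorem exists_desc {K : Type u} [Field K] {X : Scheme.{u}} (ℓ : Spec (.of K) ⟶ X) :
    ∃ (t : X) (γ : X.residueField t ⟶ .of K), Spec.map γ ≫ X.fromSpecResidueField t = ℓ :=
  ⟨_, _, Scheme.descResidueField_stalkClosedPointTo_fromSpecResidueField K X ℓ⟩

section Square
variable {P X Y S : Scheme.{u}} {fst : P ⟶ X} {snd : P ⟶ Y} {f : X ⟶ S} {g : Y ⟶ S}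

theorem compare_fst {K : Type u} [Field K] (t : P) (γ : P.residueField t ⟶ .of K) (x : X)
    (α : X.residueField x ⟶ .of K)
    (h : (Spec.map γ ≫ P.fromSpecResidueField t) ≫ fst = Spec.map α ≫ X.fromSpecResidueField x) :
    ∃ e : fst t = x, fst.residueFieldMap t ≫ γ = (X.residueFieldCongr e).hom ≫ α := by
  apply specfield_eq
  rw [← h, Spec.map_comp, Category.assoc, Category.assoc,
    Scheme.Hom.SpecMap_residueFieldMap_fromSpecResidueField]

theorem base_comm (hP : IsPullback fst snd f g) (t : P) (h : f (fst t) = g (snd t)) :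
    f.residueFieldMap (fst t) ≫ fst.residueFieldMap t =
      ((S.residueFieldCongr h).hom ≫ g.residueFieldMap (snd t)) ≫ snd.residueFieldMap t := by
  rw [← Scheme.residueFieldMap_comp, Category.assoc, ← Scheme.residueFieldMap_comp]
  exact Scheme.Hom.residueFieldMap_congr hP.w t

theorem lift_comm {K : Type u} [Field K] (x : X) (y : Y) (h : f x = g y)
    (α : X.residueField x ⟶ .of K) (β : Y.residueField y ⟶ .of K)
    (hαβ : f.residueFieldMap x ≫ α = ((S.residueFieldCongr h).hom ≫ g.residueFieldMap y) ≫ β) :
    (Spec.map α ≫ X.fromSpecResidueField x) ≫ f = (Spec.map β ≫ Y.fromSpecResidueField y) ≫ g := by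
  rw [Category.assoc, Category.assoc, ← Scheme.Hom.SpecMap_residueFieldMap_fromSpecResidueField,
    ← Scheme.Hom.SpecMap_residueFieldMap_fromSpecResidueField, ← Spec.map_comp_assoc,
    ← Spec.map_comp_assoc, hαβ, ← Scheme.residueFieldCongr_fromSpecResidueField h,
    ← Spec.map_comp_assoc]
  simp only [Category.assoc]

/-- the residue field of a point of a fibre product is generated by the residue fields of its
projections -/
theorem closure_eq_top (hP : IsPullback fst snd f g) (t : P) :
    Subfield.closure (Set.range (fst.residueFieldMap t).hom ∪ Set.range (snd.residueFieldMap t).hom)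
      = ⊤ := by
  set M : Subfield (P.residueField t) :=
    Subfield.closure (Set.range (fst.residueFieldMap t).hom ∪ Set.range (snd.residueFieldMap t).hom)
    with hM
  let cM : X.residueField (fst t) ⟶ .of M := CommRingCat.ofHom
    ((fst.residueFieldMap t).hom.codRestrict M.toSubring
      (fun z => Subfield.subset_closure (Or.inl ⟨z, rfl⟩)))
  let dM : Y.residueField (snd t) ⟶ .of M := CommRingCat.ofHom
    ((snd.residueFieldMap t).hom.codRestrict M.toSubring
      (fun z => Subfield.subset_closure (Or.inr ⟨z, rfl⟩)))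
  let inc : CommRingCat.of M ⟶ P.residueField t := CommRingCat.ofHom M.subtype
  have hc : cM ≫ inc = fst.residueFieldMap t := by ext z; rfl
  have hd : dM ≫ inc = snd.residueFieldMap t := by ext z; rfl
  have hinc : Function.Injective inc.hom := M.subtype.injective
  have h0 : f (fst t) = g (snd t) := by
    have := congrArg (fun φ : P ⟶ S => φ t) hP.w
    simpa using this
  have hcomm : f.residueFieldMap (fst t) ≫ cM =
      ((S.residueFieldCongr h0).hom ≫ g.residueFieldMap (snd t)) ≫ dM := by
    ext z
    exact congrArg (fun φ => φ.hom z) (base_comm hP t h0)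
  let u : Spec (.of M) ⟶ P := hP.lift _ _ (lift_comm (fst t) (snd t) h0 cM dM hcomm)
  have hu : Spec.map inc ≫ u = P.fromSpecResidueField t := by
    apply hP.hom_ext
    · rw [Category.assoc, hP.lift_fst, ← Spec.map_comp_assoc, hc,
        Scheme.Hom.SpecMap_residueFieldMap_fromSpecResidueField]
    · rw [Category.assoc, hP.lift_snd, ← Spec.map_comp_assoc, hd,
        Scheme.Hom.SpecMap_residueFieldMap_fromSpecResidueField]
  obtain ⟨t₁, γ, hγ⟩ := exists_desc u
  have h2 : Spec.map (γ ≫ inc) ≫ P.fromSpecResidueField t₁ =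
      Spec.map (𝟙 (P.residueField t)) ≫ P.fromSpecResidueField t := by
    rw [Spec.map_comp, Category.assoc, hγ, hu, Spec.map_id, Category.id_comp]
  obtain ⟨e, he⟩ := specfield_eq (K := P.residueField t) (γ ≫ inc) (𝟙 _) h2
  rw [Category.comp_id] at he
  rw [eq_top_iff]
  intro z _
  have : z = inc.hom (γ.hom ((P.residueFieldCongr e).inv.hom z)) := by
    have h3 := congrArg (fun φ => φ.hom ((P.residueFieldCongr e).inv.hom z)) he
    simp only [CommRingCat.hom_comp, RingHom.coe_comp, Function.comp_apply] at h3
    rw [h3]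
    change z = ((P.residueFieldCongr e).inv ≫ (P.residueFieldCongr e).hom).hom z
    rw [Iso.inv_hom_id]
    rfl
  rw [this]
  exact (γ.hom ((P.residueFieldCongr e).inv.hom z)).2

/-- TR1: transcendence degree does not go up under base change -/
theorem trdeg_le (hP : IsPullback fst snd f g) (t : P) :
    @Algebra.trdeg (Y.residueField (snd t)) (P.residueField t) _ _
        (snd.residueFieldMap t).hom.toAlgebra ≤
      @Algebra.trdeg (S.residueField (f (fst t))) (X.residueField (fst t)) _ _
        (f.residueFieldMap (fst t)).hom.toAlgebra := by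
  have h0 : f (fst t) = g (snd t) := by
    have := congrArg (fun φ : P ⟶ S => φ t) hP.w
    simpa using this
  refine TrdegA.trdeg_le_of_generated (f.residueFieldMap (fst t)).hom
    ((S.residueFieldCongr h0).hom ≫ g.residueFieldMap (snd t)).hom
    (fst.residueFieldMap t).hom (snd.residueFieldMap t).hom ?_ (closure_eq_top hP t)
  have := base_comm hP t h0
  rw [← CommRingCat.hom_comp, ← CommRingCat.hom_comp, this]

/-- TR2: a point of the fibre product above given points with at least the same transcendence
degree -/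
theorem exists_point_trdeg_ge (hP : IsPullback fst snd f g) (x : X) (y : Y) (h : f x = g y) :
    ∃ t : P, fst t = x ∧ snd t = y ∧
      @Algebra.trdeg (S.residueField (f x)) (X.residueField x) _ _
        (f.residueFieldMap x).hom.toAlgebra ≤
      @Algebra.trdeg (Y.residueField (snd t)) (P.residueField t) _ _
        (snd.residueFieldMap t).hom.toAlgebra := by
  obtain ⟨Ω, _, α, β, hαβ, ι, b, hb, hind⟩ := TrdegA.exists_compositum
    (f.residueFieldMap x).hom ((S.residueFieldCongr h).hom ≫ g.residueFieldMap y).hom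
  have hαβ' : f.residueFieldMap x ≫ CommRingCat.ofHom α =
      ((S.residueFieldCongr h).hom ≫ g.residueFieldMap y) ≫ CommRingCat.ofHom β := by
    ext z
    exact congrArg (fun φ => φ z) hαβ
  let ℓ : Spec (.of Ω) ⟶ P := hP.lift _ _ (lift_comm x y h _ _ hαβ')
  obtain ⟨t, γ, hγ⟩ := exists_desc ℓ
  obtain ⟨e, he⟩ := compare_fst (fst := fst) t γ x (CommRingCat.ofHom α) (by rw [hγ, hP.lift_fst])
  obtain ⟨e', he'⟩ := compare_fst (fst := snd) t γ y (CommRingCat.ofHom β) (by rw [hγ, hP.lift_snd])
  refine ⟨t, e, e', ?_⟩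
  subst e
  subst e'
  rw [Scheme.residueFieldCongr_refl, Iso.refl_hom, Category.id_comp] at he he'
  refine TrdegA.le_trdeg_of_factor (f.residueFieldMap (fst t)).hom α β b hb hind
    (fst.residueFieldMap t).hom (snd.residueFieldMap t).hom γ.hom ?_ ?_
  · rw [← CommRingCat.hom_comp, he]; rfl
  · rw [← CommRingCat.hom_comp, he']; rfl

end Square

end Groth.Agent.Lead.TrdegB
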