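import Mathlib
import Groth.Agent.Lead.FpqcSheaf3
import Groth.Agent.Lead.TrdegB

set_option autoImplicit false
set_option linter.style.haveILetI false
universe u
open CategoryTheory CategoryTheory.Limits AlgebraicGeometry TopologicalSpace Opposite

namespace Groth.Agent.Lead.FpqcSheaf
open Groth.Agent.Lead.ModDict Scheme.Modules Groth.Agent.Helper4

/-- S9023 -/
theorem main_flatInDimGE {X S : Scheme.{u}} (f : X ⟶ S) (F : X.Modules) [Coh.IsQCoh F] (n : ℕ) :
    Presheaf.IsSheaf (QuotSh.J Scheme.fpqcPrecoverage S)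
      (FlatFun.genPSp S (fun T => FlatFun.DimFibresLT n (PicF.XTproj f T)
        {x | ¬ FlatMod.IsFlatOverAt (PicF.XTproj f T) (FGA.ET f F T) x})) := by
  haveI : F.IsQuasicoherent := ‹Coh.IsQCoh F›
  apply isSheaf_genPSp
  · intro T T₀ k hk x' hx'
    haveI := StalkPull.isQuasicoherent_pullbackObj (pullback.fst f T₀.hom) F
    have hc : IsPullback (PicF.XTmap f k) (pullback.snd f T.hom) (pullback.snd f T₀.hom) k.left := by
      refine IsPullback.of_right ?_ ?_ (IsPullback.of_hasPullback f T₀.hom)
      · rw [FGA.XTmap_fst]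
        have hw : k.left ≫ T₀.hom = T.hom := Over.w k
        rw [hw]
        exact IsPullback.of_hasPullback f T.hom
      · unfold PicF.XTmap
        rw [pullback.lift_snd]
    have hx : ¬ FlatMod.IsFlatOverAt (pullback.snd f T₀.hom)
        ((Scheme.Modules.pullback (pullback.fst f T₀.hom)).obj F) (PicF.XTmap f k x') := by
      intro hfl
      apply hx'
      have h1 := FlatBC.main_baseChange (pullback.snd f T₀.hom) (pullback.snd f T.hom)
        (PicF.XTmap f k) k.left hc _ inferInstance x' hfl
      exact isFlatOverAt_of_iso _ ((Φ' f k).app F) x' h1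
    have h2 := hk _ hx
    exact lt_of_le_of_lt (TrdegB.trdeg_le hc x') h2
  · intro t I W h hfl hs H x hx
    haveI := hfl
    haveI := StalkPull.isQuasicoherent_pullbackObj (pullback.fst f t.hom) F
    obtain ⟨i, w, hw⟩ := hs (pullback.snd f t.hom x)
    obtain ⟨x', hx'1, hx'2, hle⟩ := TrdegB.exists_point_trdeg_ge
      (isPullback_Hm f t.hom (h i)) x w hw.symm
    have hnf : ¬ FlatMod.IsFlatOverAt (pullback.snd f (h i ≫ t.hom))
        ((Scheme.Modules.pullback (pullback.fst f (h i ≫ t.hom))).obj F) x' := by
      intro hfl'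
      apply hx
      have h1 : FlatMod.IsFlatOverAt (pullback.snd f (h i ≫ t.hom))
          ((Scheme.Modules.pullback (Hm f t.hom (h i))).obj
            ((Scheme.Modules.pullback (pullback.fst f t.hom)).obj F)) x' :=
        isFlatOverAt_of_iso _ ((Φ f t.hom (h i)).app F).symm x' hfl'
      have h3 := StalkPull.main_descent (pullback.snd f t.hom) (pullback.snd f (h i ≫ t.hom))
        (Hm f t.hom (h i)) (h i) (isPullback_Hm f t.hom (h i)) _ inferInstance x'
        ((Flat.iff_flat_stalkMap (h i)).mp inferInstance _) h1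
      rw [hx'1] at h3
      exact h3
    have h4 := H i x' hnf
    exact lt_of_le_of_lt hle h4

end Groth.Agent.Lead.FpqcSheaf
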