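import Mathlib
import Groth.Agent.Lead.FpqcSheaf3
import Groth.Agent.Lead.TrdegA
import Groth.Agent.Helper2.FlatTens1
import Groth.Agent.Helper5.PbFibre

set_option autoImplicit false
set_option linter.style.haveILetI false
universe u
open CategoryTheory CategoryTheory.Limits AlgebraicGeometry TopologicalSpace Opposite TensorProduct

namespace Groth.Agent.Lead.TrdegD

section Field
variable {k K L : Type u} [Field k] [Field K] [Field L]

theorem trdeg_eq_of_algebraic (a : k →+* K) (c : K →+* L) (hc : c.IsIntegral) :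
    @Algebra.trdeg k L _ _ (c.comp a).toAlgebra = @Algebra.trdeg k K _ _ a.toAlgebra := by
  letI := a.toAlgebra
  letI := c.toAlgebra
  letI := (c.comp a).toAlgebra
  haveI : IsScalarTower k K L := IsScalarTower.of_algebraMap_eq (fun _ => rfl)
  haveI : Algebra.IsIntegral K L := ⟨hc⟩
  haveI : FaithfulSMul k K := (faithfulSMul_iff_algebraMap_injective k K).mpr a.injective
  haveI : FaithfulSMul K L := (faithfulSMul_iff_algebraMap_injective K L).mpr c.injective
  have h := trdeg_add_eq (R := k) (S := K) (A := L)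
  rw [trdeg_eq_zero (R := K) (A := L), add_zero] at h
  exact h.symm

end Field

section Flat

/-- algebra: `M` flat over `R`, `A → A'` flat: `A' ⊗_A M` is flat over `R`. -/
theorem flat_dict {R A A' M P : Type u} [CommRing R] [CommRing A] [CommRing A']
    [AddCommGroup M] [Module A M] [AddCommGroup P] [Module A' P]
    (π : R →+* A) (j : A →+* A') (χ : R →+* A') (hχ : χ = j.comp π) (hj : j.Flat)
    (E : letI := j.toAlgebra; P ≃ₗ[A'] A' ⊗[A] M)
    (hM : letI := Module.compHom M π; Module.Flat R M) :
    letI := Module.compHom P χ; Module.Flat R P := by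
  subst hχ
  letI algAA' : Algebra A A' := j.toAlgebra
  letI algRA : Algebra R A := π.toAlgebra
  letI algRA' : Algebra R A' := (j.comp π).toAlgebra
  haveI : IsScalarTower R A A' := IsScalarTower.of_algebraMap_eq (fun a => rfl)
  letI mRM : Module R M := Module.compHom M π
  letI mRP : Module R P := Module.compHom P (j.comp π)
  haveI : IsScalarTower R A M := IsScalarTower.of_algebraMap_smul (fun _ _ => rfl)
  haveI : IsScalarTower R A' P := IsScalarTower.of_algebraMap_smul (fun _ _ => rfl)
  haveI : Module.Flat A A' := hj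
  haveI : Module.Flat R M := hM
  haveI : Module.Flat R (A' ⊗[A] M) := Groth.Agent.Helper2.FlatTens.flat_tensor_mixed R A A' M
  exact Module.Flat.of_linearEquiv (E.restrictScalars R)

set_option backward.isDefEq.respectTransparency false in
/-- pulling back along a morphism which is flat at a point preserves relative flatness. -/
theorem isFlatOverAt_pullback_of_flat {W' W X : Scheme.{u}} (j : W' ⟶ W) (π : W ⟶ X)
    (G : W.Modules) [G.IsQuasicoherent] (w' : W') (hj : (j.stalkMap w').hom.Flat)
    (hG : FlatMod.IsFlatOverAt π G (j w')) :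
    FlatMod.IsFlatOverAt (j ≫ π) ((Scheme.Modules.pullback j).obj G) w' := by
  obtain ⟨E⟩ := Groth.Agent.Lead.StalkPull.nonempty_stalk_pullback_equiv j G w'
  have hχ : ((j ≫ π).stalkMap w').hom = (j.stalkMap w').hom.comp (π.stalkMap (j w')).hom := by
    rw [Scheme.Hom.stalkMap_comp]
    rfl
  exact flat_dict (R := X.presheaf.stalk (π (j w'))) (A := W.presheaf.stalk (j w'))
    (A' := W'.presheaf.stalk w') (M := G.presheaf.stalk (j w'))
    (P := ((Scheme.Modules.pullback j).obj G).presheaf.stalk w')
    (π.stalkMap (j w')).hom (j.stalkMap w').hom ((j ≫ π).stalkMap w').hom hχ hj E hG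

theorem isFlatOverAt_congr {X S : Scheme.{u}} {f f' : X ⟶ S} (h : f = f') (F : X.Modules) (x : X)
    (hF : FlatMod.IsFlatOverAt f F x) : FlatMod.IsFlatOverAt f' F x := by
  subst h
  exact hF

end Flat

section Geom

/-- An étale morphism is locally quasi-finite. -/
theorem lqf_of_etale {X Y : Scheme.{u}} (f : X ⟶ Y) [Etale f] : LocallyQuasiFinite f := by
  refine ⟨fun {U} hU {V} hV e => ?_⟩
  have h := HasRingHomProperty.appLE (P := @Etale) f ‹_› ⟨U, hU⟩ ⟨V, hV⟩ e
  letI := (f.appLE U V e).hom.toAlgebra
  have h' : Algebra.Etale Γ(Y, U) Γ(X, V) := h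
  show Algebra.QuasiFinite Γ(Y, U) Γ(X, V)
  infer_instance

/-- TR3: transcendence degree over the base does not change along a morphism with integral
residue field extension -/
theorem trdeg_le_of_integral {W' W T : Scheme.{u}} (j : W' ⟶ W) (π : W ⟶ T) (π' : W' ⟶ T)
    (hπ : j ≫ π = π') (w' : W') (hj : (j.residueFieldMap w').hom.IsIntegral) :
    @Algebra.trdeg (T.residueField (π' w')) (W'.residueField w') _ _
        (π'.residueFieldMap w').hom.toAlgebra ≤
      @Algebra.trdeg (T.residueField (π (j w'))) (W.residueField (j w')) _ _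
        (π.residueFieldMap (j w')).hom.toAlgebra := by
  subst hπ
  have h1 : ((j ≫ π).residueFieldMap w').hom =
      (j.residueFieldMap w').hom.comp (π.residueFieldMap (j w')).hom := by
    rw [Scheme.residueFieldMap_comp]
    rfl
  have h2 := trdeg_eq_of_algebraic (π.residueFieldMap (j w')).hom (j.residueFieldMap w').hom hj
  rw [← h1] at h2
  exact le_of_eq h2

open Groth.Agent.Lead.FpqcSheaf Scheme.Modules in
/-- S9027 -/
theorem main_etale {X X' S : Scheme.{u}} (f : X ⟶ S) (F : X.Modules) [Coh.IsQCoh F]
    (h : X' ⟶ X) [Etale h] (n : ℕ) (T : Over S)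
    (hT : FlatFun.DimFibresLT n (PicF.XTproj f T)
        {x | ¬ FlatMod.IsFlatOverAt (PicF.XTproj f T) (FGA.ET f F T) x}) :
    FlatFun.DimFibresLT n (PicF.XTproj (h ≫ f) T)
        {x | ¬ FlatMod.IsFlatOverAt (PicF.XTproj (h ≫ f) T)
          (FGA.ET (h ≫ f) ((Scheme.Modules.pullback h).obj F) T) x} := by
  haveI : F.IsQuasicoherent := ‹Coh.IsQCoh F›
  intro x' hx'
  let hT' : pullback (h ≫ f) T.hom ⟶ pullback f T.hom :=
    pullback.map (h ≫ f) T.hom f T.hom h (𝟙 _) (𝟙 _) (by simp) (by simp)
  have hfst : hT' ≫ pullback.fst f T.hom = pullback.fst (h ≫ f) T.hom ≫ h :=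
    pullback.lift_fst _ _ _
  have hsnd : hT' ≫ pullback.snd f T.hom = pullback.snd (h ≫ f) T.hom := by
    have := pullback.lift_snd (f := f) (g := T.hom) (pullback.fst (h ≫ f) T.hom ≫ h)
      (pullback.snd (h ≫ f) T.hom ≫ 𝟙 _) (by simp [pullback.condition])
    exact this.trans (Category.comp_id _)
  have hpb : IsPullback hT' (pullback.fst (h ≫ f) T.hom) (pullback.fst f T.hom) h := by
    refine IsPullback.of_right ?_ hfst (IsPullback.of_hasPullback f T.hom).flip
    rw [hsnd]
    exact (IsPullback.of_hasPullback (h ≫ f) T.hom).flip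
  haveI : Etale hT' := MorphismProperty.of_isPullback (P := @Etale) hpb.flip inferInstance
  haveI := StalkPull.isQuasicoherent_pullbackObj (pullback.fst f T.hom) F
  have hx : ¬ FlatMod.IsFlatOverAt (pullback.snd f T.hom)
      ((Scheme.Modules.pullback (pullback.fst f T.hom)).obj F) (hT' x') := by
    intro hfl
    apply hx'
    have h1 := isFlatOverAt_pullback_of_flat hT' (pullback.snd f T.hom)
      ((Scheme.Modules.pullback (pullback.fst f T.hom)).obj F) x'
      ((Flat.iff_flat_stalkMap hT').mp inferInstance _) hfl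
    have h2 := isFlatOverAt_congr hsnd _ x' h1
    let e : (Scheme.Modules.pullback hT').obj ((Scheme.Modules.pullback (pullback.fst f T.hom)).obj F) ≅
        (Scheme.Modules.pullback (pullback.fst (h ≫ f) T.hom)).obj
          ((Scheme.Modules.pullback h).obj F) :=
      (pullbackComp hT' (pullback.fst f T.hom)).app F ≪≫ (pullbackCongr hfst).app F ≪≫
        ((pullbackComp (pullback.fst (h ≫ f) T.hom) h).app F).symm
    exact isFlatOverAt_of_iso _ e x' h2
  have h3 := hT _ hx
  refine lt_of_le_of_lt (trdeg_le_of_integral hT' (pullback.snd f T.hom)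
    (pullback.snd (h ≫ f) T.hom) hsnd x' ?_) h3
  haveI := lqf_of_etale hT'
  exact (Groth.Agent.Helper5.PbFibre.finite_residueFieldMap_of_lqf hT' x').to_isIntegral

end Geom

end Groth.Agent.Lead.TrdegD
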