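import Mathlib
import Groth.Prelude.Def_CAlgX

set_option autoImplicit false
universe u v w

namespace Groth.Agent.Lead.TruncPolyA

open MvPolynomial

section Nak

variable {P M : Type*} [CommRing P] [AddCommGroup M] [Module P M]

theorem sup_pow_smul_eq_top (N' : Submodule P M) (I : Ideal P)
    (h : N' ⊔ I • (⊤ : Submodule P M) = ⊤) (k : ℕ) :
    N' ⊔ (I ^ k) • (⊤ : Submodule P M) = ⊤ := by
  induction k with
  | zero => simp
  | succ k ih =>
    rw [eq_top_iff]
    calc (⊤ : Submodule P M) = N' ⊔ I • (⊤ : Submodule P M) := h.symm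
      _ = N' ⊔ I • (N' ⊔ (I ^ k) • (⊤ : Submodule P M)) := by rw [ih]
      _ = N' ⊔ (I • N' ⊔ I • (I ^ k) • (⊤ : Submodule P M)) := by rw [Submodule.smul_sup]
      _ ≤ N' ⊔ (I ^ (k+1)) • (⊤ : Submodule P M) := by
          rw [← Submodule.mul_smul, ← pow_succ']
          refine sup_le le_sup_left (sup_le ?_ le_sup_right)
          exact le_trans Submodule.smul_le_right le_sup_left

end Nak

section Surj

variable {B : Type*} {C : Type*} [CommRing B] [CommRing C] {d : ℕ}
  (σ : B →+* C) (π : C →+* B) (y : Fin d → C)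

theorem surjective_eval₂Hom (hπσ : ∀ b, π (σ b) = b)
    (hker : RingHom.ker π = Ideal.span (Set.range y))
    (N : ℕ) (hN : Ideal.span (Set.range y) ^ N = ⊥) :
    Function.Surjective (eval₂Hom σ y) := by
  letI : Algebra (MvPolynomial (Fin d) B) C := (eval₂Hom σ y).toAlgebra
  have hmap : (idealOfVars (Fin d) B).map (algebraMap (MvPolynomial (Fin d) B) C) =
      Ideal.span (Set.range y) := by
    rw [Ideal.map_span, ← Set.range_comp]
    congr 2
    ext i
    simp [RingHom.algebraMap_toAlgebra]
  have h1 : LinearMap.range (Algebra.linearMap (MvPolynomial (Fin d) B) C) ⊔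
      (idealOfVars (Fin d) B) • (⊤ : Submodule (MvPolynomial (Fin d) B) C) = ⊤ := by
    rw [eq_top_iff]
    intro c _
    rw [Ideal.smul_top_eq_map, hmap]
    have : c = algebraMap (MvPolynomial (Fin d) B) C (MvPolynomial.C (π c)) + (c - σ (π c)) := by
      simp [RingHom.algebraMap_toAlgebra]
    rw [this]
    refine Submodule.add_mem_sup ⟨_, rfl⟩ ?_
    simp only [Submodule.restrictScalars_mem]
    rw [← hker, RingHom.mem_ker, map_sub, hπσ, sub_self]
  have h2 := sup_pow_smul_eq_top _ _ h1 N
  rw [Ideal.smul_top_eq_map, Ideal.map_pow, hmap, hN] at h2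
  simp only [Submodule.restrictScalars_bot, sup_bot_eq] at h2
  intro c
  have : c ∈ LinearMap.range (Algebra.linearMap (MvPolynomial (Fin d) B) C) := by
    rw [h2]; trivial
  obtain ⟨F, hF⟩ := this
  exact ⟨F, hF⟩

end Surj


section Inj

variable {A : Type v} [CommRing A] {d : ℕ} (x : Fin d → A) (N : ℕ)

/-- The projection `A/J^N → A/J`. -/
noncomputable def proj (hN : 1 ≤ N) :
    (A ⧸ Ideal.span (Set.range x) ^ N) →+* (A ⧸ Ideal.span (Set.range x)) :=
  Ideal.Quotient.factor (Ideal.pow_le_self (by omega))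

@[simp] theorem proj_mk (hN : 1 ≤ N) (a : A) :
    proj x N hN (Ideal.Quotient.mk _ a) = Ideal.Quotient.mk _ a := rfl

theorem ker_proj (hN : 1 ≤ N) :
    RingHom.ker (proj x N hN) =
      Ideal.span (Set.range fun i => Ideal.Quotient.mk (Ideal.span (Set.range x) ^ N) (x i)) := by
  unfold proj
  rw [Ideal.Quotient.factor_ker, Ideal.map_span, ← Set.range_comp]
  rfl

theorem span_pow_eq_bot :
    Ideal.span (Set.range fun i => Ideal.Quotient.mk (Ideal.span (Set.range x) ^ N) (x i)) ^ N
      = ⊥ := by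
  have : Ideal.span (Set.range fun i => Ideal.Quotient.mk (Ideal.span (Set.range x) ^ N) (x i)) =
      (Ideal.span (Set.range x)).map (Ideal.Quotient.mk _) := by
    rw [Ideal.map_span, ← Set.range_comp]; rfl
  rw [this, ← Ideal.map_pow, Ideal.map_quotient_self]

variable (σ : (A ⧸ Ideal.span (Set.range x)) →+* (A ⧸ Ideal.span (Set.range x) ^ N))

/-- `φ ∘ map mk` -/
noncomputable def psi1 : MvPolynomial (Fin d) A →+* (A ⧸ Ideal.span (Set.range x) ^ N) :=
  (eval₂Hom σ (fun i => Ideal.Quotient.mk _ (x i))).comp (map (Ideal.Quotient.mk _))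

/-- `mk ∘ eval x` -/
noncomputable def psi2 : MvPolynomial (Fin d) A →+* (A ⧸ Ideal.span (Set.range x) ^ N) :=
  (Ideal.Quotient.mk _).comp (eval x)

theorem psi2_mem (k : ℕ) (P : MvPolynomial (Fin d) A) (hP : P ∈ idealOfVars (Fin d) A ^ k) :
    psi2 x N P ∈
      Ideal.span (Set.range fun i => Ideal.Quotient.mk (Ideal.span (Set.range x) ^ N) (x i)) ^ k := by
  have h1 : (idealOfVars (Fin d) A).map (psi2 x N) =
      Ideal.span (Set.range fun i => Ideal.Quotient.mk (Ideal.span (Set.range x) ^ N) (x i)) := by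
    rw [Ideal.map_span, ← Set.range_comp]
    congr 2
    ext i
    simp [psi2]
  rw [← h1, ← Ideal.map_pow]
  exact Ideal.mem_map_of_mem _ hP

theorem delta_mem (hN : 1 ≤ N) (hσ : ∀ b, proj x N hN (σ b) = b) (k : ℕ)
    (P : MvPolynomial (Fin d) A) (hP : P ∈ idealOfVars (Fin d) A ^ k) :
    psi1 x N σ P - psi2 x N P ∈
      Ideal.span (Set.range fun i => Ideal.Quotient.mk (Ideal.span (Set.range x) ^ N) (x i)) ^
        (k + 1) := by
  classical
  rw [mem_pow_idealOfVars_iff] at hP
  rw [P.as_sum, map_sum, map_sum, ← Finset.sum_sub_distrib]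
  refine Ideal.sum_mem _ fun m hm => ?_
  have hm' := hP m hm
  have e1 : psi1 x N σ (monomial m (coeff m P)) =
      σ (Ideal.Quotient.mk _ (coeff m P)) * psi2 x N (monomial m 1) := by
    simp [psi1, psi2, eval₂_monomial, eval_monomial, Finsupp.prod]
  have e2 : psi2 x N (monomial m (coeff m P)) =
      Ideal.Quotient.mk _ (coeff m P) * psi2 x N (monomial m 1) := by
    simp [psi2, eval_monomial]
  rw [e1, e2, ← sub_mul, pow_succ']
  refine Ideal.mul_mem_mul ?_ ?_
  · rw [← ker_proj x N hN, RingHom.mem_ker, map_sub, hσ, proj_mk, sub_self]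
  · refine Ideal.pow_le_pow_right hm' (psi2_mem x N _ _ ?_)
    rw [mem_pow_idealOfVars_iff]
    intro z hz
    classical
    rw [support_monomial] at hz
    split_ifs at hz with h
    · simp at hz
    · simp at hz; rw [hz]


theorem eval_mem (k : ℕ) (P : MvPolynomial (Fin d) A) (hP : P ∈ idealOfVars (Fin d) A ^ k) :
    eval x P ∈ Ideal.span (Set.range x) ^ k := by
  have h1 : (idealOfVars (Fin d) A).map (eval x) = Ideal.span (Set.range x) := by
    rw [Ideal.map_span, ← Set.range_comp]
    congr 2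
    ext i
    simp
  rw [← h1, ← Ideal.map_pow]
  exact Ideal.mem_map_of_mem _ hP

theorem span_bar_eq_map :
    Ideal.span (Set.range fun i => Ideal.Quotient.mk (Ideal.span (Set.range x) ^ N) (x i)) =
      (Ideal.span (Set.range x)).map (Ideal.Quotient.mk _) := by
  rw [Ideal.map_span, ← Set.range_comp]; rfl

theorem mem_pow_of_eval₂_eq_zero (hq : CAlgX.IsQuasiRegular x) (hN : 1 ≤ N)
    (hσ : ∀ b, proj x N hN (σ b) = b)
    (F : MvPolynomial (Fin d) (A ⧸ Ideal.span (Set.range x)))
    (hF : eval₂Hom σ (fun i => Ideal.Quotient.mk _ (x i)) F = 0) (k : ℕ) (hk : k ≤ N) :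
    F ∈ idealOfVars (Fin d) (A ⧸ Ideal.span (Set.range x)) ^ k := by
  induction k with
  | zero => simp
  | succ k ih =>
    have hFk := ih (by omega)
    -- lift F
    have hmapT : (idealOfVars (Fin d) A).map (map (Ideal.Quotient.mk (Ideal.span (Set.range x)))) =
        idealOfVars (Fin d) (A ⧸ Ideal.span (Set.range x)) := by
      rw [Ideal.map_span, ← Set.range_comp]
      congr 2
      ext i
      simp
    have hsurj : Function.Surjective (map (σ := Fin d) (Ideal.Quotient.mk (Ideal.span (Set.range x)))) :=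
      map_surjective _ Ideal.Quotient.mk_surjective
    rw [← hmapT, ← Ideal.map_pow, Ideal.mem_map_iff_of_surjective _ hsurj] at hFk
    obtain ⟨P, hP, rfl⟩ := hFk
    have hδ := delta_mem x N σ hN hσ k P hP
    have h1 : psi1 x N σ P = 0 := hF
    rw [h1, zero_sub, neg_mem_iff, span_bar_eq_map, ← Ideal.map_pow] at hδ
    have h2 : eval x P ∈ Ideal.span (Set.range x) ^ (k + 1) :=
      (Ideal.mem_quotient_iff_mem (Ideal.pow_le_pow_right hk)).mp hδ
    have h3 : P - homogeneousComponent k P ∈ idealOfVars (Fin d) A ^ (k + 1) := by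
      rw [mem_pow_idealOfVars_iff']
      intro m hm
      rw [coeff_sub, coeff_homogeneousComponent]
      rcases Nat.lt_succ_iff_lt_or_eq.mp hm with h | h
      · rw [if_neg (by omega), sub_zero]
        exact (mem_pow_idealOfVars_iff' k P).mp hP m h
      · rw [if_pos h, sub_self]
    have h4 : eval x (homogeneousComponent k P) ∈ Ideal.span (Set.range x) ^ (k + 1) := by
      have := Ideal.sub_mem _ h2 (eval_mem x (k + 1) _ h3)
      rwa [map_sub, sub_sub_cancel] at this
    have h5 := hq k _ (homogeneousComponent_isHomogeneous k P) h4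
    rw [mem_pow_idealOfVars_iff']
    intro m hm
    rcases Nat.lt_succ_iff_lt_or_eq.mp hm with h | h
    · have := ih (by omega)
      exact (mem_pow_idealOfVars_iff' k _).mp this m h
    · rw [coeff_map]
      have := h5 m
      rw [coeff_homogeneousComponent, if_pos h] at this
      exact Ideal.Quotient.eq_zero_iff_mem.mpr this

end Inj

end Groth.Agent.Lead.TruncPolyA
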