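import Mathlib
import Groth.Agent.Lead.TruncPolyA

set_option autoImplicit false
universe u v

namespace Groth.Agent.Lead.TruncPolyB

open MvPolynomial Groth.Agent.Lead.TruncPolyA

theorem main (R : Type u) (A : Type v) [CommRing R] [CommRing A] [Algebra R A] (d : ℕ)
    (x : Fin d → A) (hq : CAlgX.IsQuasiRegular x)
    [Algebra.FormallySmooth R (A ⧸ Ideal.span (Set.range x))] (N : ℕ) (hN : 1 ≤ N) :
    ∃ e : (A ⧸ Ideal.span (Set.range x) ^ N) ≃ₐ[R]
        (MvPolynomial (Fin d) (A ⧸ Ideal.span (Set.range x)) ⧸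
          Ideal.span (Set.range (MvPolynomial.X : Fin d → MvPolynomial (Fin d) (A ⧸ Ideal.span (Set.range x)))) ^ N),
      (∀ i : Fin d, e (Ideal.Quotient.mk _ (x i)) = Ideal.Quotient.mk _ (MvPolynomial.X i)) ∧
      ∀ a : A, e (Ideal.Quotient.mk _ a) - Ideal.Quotient.mk _ (MvPolynomial.C (Ideal.Quotient.mk _ a)) ∈
        (Ideal.span (Set.range (MvPolynomial.X : Fin d → MvPolynomial (Fin d) (A ⧸ Ideal.span (Set.range x))))).map
          (Ideal.Quotient.mk _) := by
  let πa : (A ⧸ Ideal.span (Set.range x) ^ N) →ₐ[R] (A ⧸ Ideal.span (Set.range x)) :=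
    Ideal.Quotient.factorₐ R (Ideal.pow_le_self (by omega))
  have hπa : (πa : (A ⧸ Ideal.span (Set.range x) ^ N) →+*
      (A ⧸ Ideal.span (Set.range x))) = proj x N hN := rfl
  have hsurjπ : Function.Surjective πa :=
    Ideal.Quotient.factor_surjective (Ideal.pow_le_self (I := Ideal.span (Set.range x)) (n := N) (by omega))
  have hnil : IsNilpotent (RingHom.ker (πa : (A ⧸ Ideal.span (Set.range x) ^ N) →+*
      (A ⧸ Ideal.span (Set.range x)))) :=
    ⟨N, by rw [hπa, ker_proj, span_pow_eq_bot]; rfl⟩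
  let σ := Algebra.FormallySmooth.liftOfSurjective (AlgHom.id R _) πa hsurjπ hnil
  have hσ : ∀ b, proj x N hN
      ((σ : (A ⧸ Ideal.span (Set.range x)) →+* (A ⧸ Ideal.span (Set.range x) ^ N)) b) = b := fun b =>
    Algebra.FormallySmooth.liftOfSurjective_apply (AlgHom.id R _) πa hsurjπ hnil b
  let y : Fin d → (A ⧸ Ideal.span (Set.range x) ^ N) := fun i => Ideal.Quotient.mk _ (x i)
  let φ : MvPolynomial (Fin d) (A ⧸ Ideal.span (Set.range x)) →ₐ[R]
      (A ⧸ Ideal.span (Set.range x) ^ N) := aevalTower σ y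
  have hφ : ∀ F, φ F = eval₂Hom
      (σ : (A ⧸ Ideal.span (Set.range x)) →+* (A ⧸ Ideal.span (Set.range x) ^ N)) y F := fun F => rfl
  have hφsurj : Function.Surjective φ :=
    surjective_eval₂Hom (σ : (A ⧸ Ideal.span (Set.range x)) →+* (A ⧸ Ideal.span (Set.range x) ^ N))
      (proj x N hN) y hσ (ker_proj x N hN) N (span_pow_eq_bot x N)
  have hφker : ∀ F, φ F = 0 ↔ F ∈ idealOfVars (Fin d) (A ⧸ Ideal.span (Set.range x)) ^ N := by
    intro F
    constructor
    · intro h
      exact mem_pow_of_eval₂_eq_zero x N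
        (σ : (A ⧸ Ideal.span (Set.range x)) →+* (A ⧸ Ideal.span (Set.range x) ^ N))
        hq hN hσ F h N le_rfl
    · intro h
      have h1 : (idealOfVars (Fin d) (A ⧸ Ideal.span (Set.range x))).map (φ : _ →+* _) =
          Ideal.span (Set.range y) := by
        rw [Ideal.map_span, ← Set.range_comp]
        congr 2
        ext i
        simp [φ]
      have h2 : φ F ∈ (idealOfVars (Fin d) (A ⧸ Ideal.span (Set.range x)) ^ N).map (φ : _ →+* _) :=
        Ideal.mem_map_of_mem _ h
      rw [Ideal.map_pow, h1, span_pow_eq_bot x N] at h2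
      exact h2
  let φbar := Ideal.Quotient.liftₐ
    (idealOfVars (Fin d) (A ⧸ Ideal.span (Set.range x)) ^ N) φ (fun F hF => (hφker F).mpr hF)
  have hφbar : ∀ F, φbar (Ideal.Quotient.mk _ F) = φ F := fun F => rfl
  have hbij : Function.Bijective φbar := by
    constructor
    · rw [injective_iff_map_eq_zero]
      intro z hz
      obtain ⟨F, rfl⟩ := Ideal.Quotient.mk_surjective z
      rw [hφbar] at hz
      exact Ideal.Quotient.eq_zero_iff_mem.mpr ((hφker F).mp hz)
    · intro c
      obtain ⟨F, rfl⟩ := hφsurj c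
      exact ⟨Ideal.Quotient.mk _ F, hφbar F⟩
  refine ⟨(AlgEquiv.ofBijective φbar hbij).symm, ?_, ?_⟩
  · intro i
    rw [AlgEquiv.symm_apply_eq]
    change _ = φbar (Ideal.Quotient.mk _ (X i))
    rw [hφbar]
    simp [φ, y]
  · intro a
    obtain ⟨F, hF⟩ := Ideal.Quotient.mk_surjective
      ((AlgEquiv.ofBijective φbar hbij).symm (Ideal.Quotient.mk _ a))
    have h1 : φ F = Ideal.Quotient.mk _ a := by
      rw [← hφbar, hF]
      exact (AlgEquiv.ofBijective φbar hbij).apply_symm_apply _
    have h2 : (proj x N hN).comp (eval₂Hom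
        (σ : (A ⧸ Ideal.span (Set.range x)) →+* (A ⧸ Ideal.span (Set.range x) ^ N)) y) =
        constantCoeff := by
      apply MvPolynomial.ringHom_ext
      · intro b
        simpa using hσ b
      · intro i
        simp [y, Ideal.Quotient.eq_zero_iff_mem, Ideal.subset_span]
    have h3 : constantCoeff F = Ideal.Quotient.mk (Ideal.span (Set.range x)) a := by
      rw [← h2, RingHom.comp_apply, ← hφ, h1, proj_mk]
    have h4 : F - C (Ideal.Quotient.mk (Ideal.span (Set.range x)) a) ∈
        idealOfVars (Fin d) (A ⧸ Ideal.span (Set.range x)) := by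
      rw [← pow_one (idealOfVars _ _), mem_pow_idealOfVars_iff']
      intro m hm
      have hm0 : m = 0 := by
        rw [← Finsupp.degree_eq_zero_iff]; omega
      subst hm0
      rw [coeff_sub, ← constantCoeff_eq, h3]
      simp
    rw [← hF, ← map_sub]
    exact Ideal.mem_map_of_mem _ h4

end Groth.Agent.Lead.TruncPolyB
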