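import Mathlib
import Groth.Prelude.Def_W4c5m1nsnscurvesC
import Groth.Prelude.Def_W4c5m1nsnscurvesI

set_option autoImplicit false
set_option linter.style.haveILetI false
universe u
open W4c5m1nsnscurves MvPolynomial

namespace Groth.Agent.Lead.UCurve

variable (R : Type u) [CommRing R] (m : ℕ)

theorem ugen_lin {i j : Fin m} (h : i ≠ j) :
    ugen R m (.cij i j h) + ugen R m (.cij j i h.symm) =
      ugen R m .a + ugen R m (.ci i) + ugen R m (.cbi i) + ugen R m (.ci j) + ugen R m (.cbi j) := by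
  have hmem : (X (.cij i j h) + X (.cij j i (Ne.symm h)) -
      (X .a + X (.ci i) + X (.cbi i) + X (.ci j) + X (.cbi j)) : MvPolynomial (UGen m) R) ∈
        URel R m :=
    Or.inl (Or.inl (Or.inl ⟨⟨(i, j), h⟩, rfl⟩))
  have := Ideal.Quotient.eq_zero_iff_mem.mpr (Ideal.subset_span hmem)
  simp only [map_sub, map_add] at this
  simp only [ugen]
  linear_combination this

theorem ugen_q1 {i j : Fin m} (h : i ≠ j) :
    ugen R m (.cij j i h.symm) * ugen R m (.ci j) + ugen R m (.cij i j h) * ugen R m (.ci i) -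
      ugen R m (.ci i) * ugen R m (.ci j) - ugen R m .c = 0 := by
  have hmem : (X (.cij j i (Ne.symm h)) * X (.ci j) + X (.cij i j h) * X (.ci i) -
      X (.ci i) * X (.ci j) - X .c : MvPolynomial (UGen m) R) ∈ URel R m :=
    Or.inl (Or.inl (Or.inr ⟨⟨(i, j), h⟩, rfl⟩))
  have := Ideal.Quotient.eq_zero_iff_mem.mpr (Ideal.subset_span hmem)
  simp only [map_sub, map_add, map_mul] at this
  simp only [ugen]
  linear_combination this

theorem ugen_q2 {i j : Fin m} (h : i ≠ j) :
    ugen R m (.cij j i h.symm) * ugen R m (.cbi i) + ugen R m (.cij i j h) * ugen R m (.cbi j) -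
      ugen R m (.cbi i) * ugen R m (.cbi j) - ugen R m .cb = 0 := by
  have hmem : (X (.cij j i (Ne.symm h)) * X (.cbi i) + X (.cij i j h) * X (.cbi j) -
      X (.cbi i) * X (.cbi j) - X .cb : MvPolynomial (UGen m) R) ∈ URel R m :=
    Or.inl (Or.inr ⟨⟨(i, j), h⟩, rfl⟩)
  have := Ideal.Quotient.eq_zero_iff_mem.mpr (Ideal.subset_span hmem)
  simp only [map_sub, map_add, map_mul] at this
  simp only [ugen]
  linear_combination this

theorem ugen_cub {i j k : Fin m} (hij : i ≠ j) (hjk : j ≠ k) (hik : i ≠ k) :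
    ugen R m (.cij i j hij) * ugen R m (.cij j k hjk) +
      ugen R m (.cij j i hij.symm) * ugen R m (.cij i k hik) -
      ugen R m (.cij i k hik) * ugen R m (.cij j k hjk) +
      (ugen R m .a + ugen R m (.ci k) + ugen R m (.cbi k)) * ugen R m (.ci k) - ugen R m .c = 0 := by
  have hmem : (X (.cij i j hij) * X (.cij j k hjk) +
      X (.cij j i (Ne.symm hij)) * X (.cij i k hik) -
      X (.cij i k hik) * X (.cij j k hjk) +
      (X .a + X (.ci k) + X (.cbi k)) * X (.ci k) - X .c : MvPolynomial (UGen m) R) ∈ URel R m :=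
    Or.inr ⟨⟨(i, j, k), hij, hjk, hik⟩, rfl⟩
  have := Ideal.Quotient.eq_zero_iff_mem.mpr (Ideal.subset_span hmem)
  simp only [map_sub, map_add, map_mul] at this
  simp only [ugen]
  linear_combination this

theorem uincl_ugen (x : UGen m) : uincl R m (ugen R m x) = ugen R (m + 1) x.castSucc := by
  simp [uincl, ugen]


/-- Values of the curve variables in `URing R (m+1)`. -/
noncomputable def fv : CVar m → URing R (m + 1)
  | .x2 => ugen R (m + 1) (.ci (Fin.last m))
  | .x3 => ugen R (m + 1) .a + ugen R (m + 1) (.ci (Fin.last m)) +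
      ugen R (m + 1) (.cbi (Fin.last m))
  | .xi i => ugen R (m + 1) (.cij i.castSucc (Fin.last m) (Fin.castSucc_lt_last i).ne)

noncomputable def fwd0 : MvPolynomial (CVar m) (URing R m) →+* URing R (m + 1) :=
  MvPolynomial.eval₂Hom (uincl R m : URing R m →+* URing R (m + 1)) (fv R m)

theorem fwd0_CRel (p : MvPolynomial (CVar m) (URing R m))
    (hp : p ∈ CRel (URing R m) m (ugen R m)) : fwd0 R m p = 0 := by
  rcases hp with (⟨i, rfl⟩ | ⟨i, rfl⟩) | ⟨⟨⟨i, j⟩, h⟩, rfl⟩
  · have h1 := ugen_lin R (m + 1) (Fin.castSucc_lt_last i).ne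
    have h2 := ugen_q1 R (m + 1) (Fin.castSucc_lt_last i).ne
    simp only [fwd0, map_sub, map_add, map_mul, eval₂Hom_X', eval₂Hom_C, fv, RingHom.coe_coe,
      uincl_ugen, UGen.castSucc]
    linear_combination (-1 : URing R (m + 1)) * h2 + ugen R (m + 1) (.ci (Fin.last m)) * h1
  · have h1 := ugen_lin R (m + 1) (Fin.castSucc_lt_last i).ne
    have h2 := ugen_q2 R (m + 1) (Fin.castSucc_lt_last i).ne
    have h3 := ugen_q1 R (m + 1) (Fin.castSucc_lt_last i).ne
    simp only [fwd0, map_sub, map_add, map_mul, eval₂Hom_X', eval₂Hom_C, fv, RingHom.coe_coe,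
      uincl_ugen, UGen.castSucc]
    linear_combination h2 - h3 + (ugen R (m + 1) (.ci (Fin.last m)) -
      ugen R (m + 1) (.cbi i.castSucc)) * h1
  · simp only [fwd0, map_sub, map_add, map_mul, eval₂Hom_X', eval₂Hom_C, fv, RingHom.coe_coe,
      uincl_ugen, UGen.castSucc]
    have hij : i.castSucc ≠ j.castSucc := fun e => h (Fin.castSucc_injective _ e)
    have h1 := ugen_cub R (m + 1) hij (Fin.castSucc_lt_last j).ne (Fin.castSucc_lt_last i).ne
    linear_combination (-1 : URing R (m + 1)) * h1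


noncomputable def fwd : CurveAlg (URing R m) m (ugen R m) →+* URing R (m + 1) :=
  Ideal.Quotient.lift _ (fwd0 R m) (fun p hp => by
    have : Ideal.span (CRel (URing R m) m (ugen R m)) ≤ RingHom.ker (fwd0 R m) :=
      Ideal.span_le.mpr (fun p hp => fwd0_CRel R m p hp)
    exact this hp)

/-- The structure map. -/
noncomputable def iota : URing R m →+* CurveAlg (URing R m) m (ugen R m) :=
  algebraMap (URing R m) (CurveAlg (URing R m) m (ugen R m))

theorem iota_eq (r : URing R m) :
    iota R m r = Ideal.Quotient.mk (Ideal.span (CRel (URing R m) m (ugen R m))) (C r) := rfl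

/-- The class of a variable. -/
noncomputable def cx (v : CVar m) : CurveAlg (URing R m) m (ugen R m) :=
  Ideal.Quotient.mk (Ideal.span (CRel (URing R m) m (ugen R m))) (X v)

theorem fwd_iota (r : URing R m) : fwd R m (iota R m r) = uincl R m r := by
  simp [fwd, fwd0, iota_eq]

theorem fwd_cx (v : CVar m) : fwd R m (cx R m v) = fv R m v := by
  simp [fwd, fwd0, cx]

theorem cx_rel1 (i : Fin m) : cx R m .x2 * cx R m (.xi i) =
    cx R m .x2 * cx R m .x3 + iota R m (ugen R m (.ci i)) * cx R m (.xi i) +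
      iota R m (ugen R m (.cbi i)) * cx R m .x2 - iota R m (ugen R m .c) := by
  have hmem : (X .x2 * X (.xi i) -
      (X .x2 * X .x3 + C (ugen R m (.ci i)) * X (.xi i) + C (ugen R m (.cbi i)) * X .x2 -
        C (ugen R m .c)) : MvPolynomial (CVar m) (URing R m)) ∈ CRel (URing R m) m (ugen R m) :=
    Or.inl (Or.inl ⟨i, rfl⟩)
  have := Ideal.Quotient.eq_zero_iff_mem.mpr (Ideal.subset_span hmem)
  simp only [map_sub, map_add, map_mul] at this
  simp only [cx, iota_eq]
  exact sub_eq_zero.mp this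

theorem cx_rel2 (i : Fin m) : cx R m .x3 * cx R m (.xi i) =
    cx R m .x2 * cx R m .x3 + (iota R m (ugen R m .a) + iota R m (ugen R m (.ci i)) +
      iota R m (ugen R m (.cbi i))) * (cx R m (.xi i) - iota R m (ugen R m (.cbi i))) +
      iota R m (ugen R m .cb) - iota R m (ugen R m .c) := by
  have hmem : (X .x3 * X (.xi i) -
      (X .x2 * X .x3 + C (ugen R m .a + ugen R m (.ci i) + ugen R m (.cbi i)) *
        (X (.xi i) - C (ugen R m (.cbi i))) +
        C (ugen R m .cb) - C (ugen R m .c)) : MvPolynomial (CVar m) (URing R m)) ∈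
        CRel (URing R m) m (ugen R m) :=
    Or.inl (Or.inr ⟨i, rfl⟩)
  have := Ideal.Quotient.eq_zero_iff_mem.mpr (Ideal.subset_span hmem)
  simp only [map_sub, map_add, map_mul] at this
  simp only [cx, iota_eq]
  exact sub_eq_zero.mp this

theorem cx_rel3 {i j : Fin m} (h : i ≠ j) : cx R m (.xi i) * cx R m (.xi j) =
    cx R m .x2 * cx R m .x3 + iota R m (ugen R m (.cij i j h)) * cx R m (.xi j) +
      iota R m (ugen R m (.cij j i h.symm)) * cx R m (.xi i) - iota R m (ugen R m .c) := by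
  have hmem : (X (.xi i) * X (.xi j) -
      (X .x2 * X .x3 + C (ugen R m (.cij i j h)) * X (.xi j) +
        C (ugen R m (.cij j i (Ne.symm h))) * X (.xi i) - C (ugen R m .c)) :
        MvPolynomial (CVar m) (URing R m)) ∈ CRel (URing R m) m (ugen R m) :=
    Or.inr ⟨⟨(i, j), h⟩, rfl⟩
  have := Ideal.Quotient.eq_zero_iff_mem.mpr (Ideal.subset_span hmem)
  simp only [map_sub, map_add, map_mul] at this
  simp only [cx, iota_eq]
  exact sub_eq_zero.mp this


/-- Values of the generators of `URing R (m+1)` in the curve algebra. -/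
noncomputable def bv : UGen (m + 1) → CurveAlg (URing R m) m (ugen R m)
  | .a => iota R m (ugen R m .a)
  | .c => iota R m (ugen R m .c)
  | .cb => iota R m (ugen R m .cb)
  | .ci i => if hi : i = Fin.last m then cx R m .x2
      else iota R m (ugen R m (.ci (i.castPred hi)))
  | .cbi i => if hi : i = Fin.last m then cx R m .x3 - iota R m (ugen R m .a) - cx R m .x2
      else iota R m (ugen R m (.cbi (i.castPred hi)))
  | .cij i j h =>
      if hi : i = Fin.last m then
        if hj : j = Fin.last m then 0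
        else iota R m (ugen R m (.ci (j.castPred hj))) + iota R m (ugen R m (.cbi (j.castPred hj))) +
          cx R m .x3 - cx R m (.xi (j.castPred hj))
      else
        if hj : j = Fin.last m then cx R m (.xi (i.castPred hi))
        else iota R m (ugen R m (.cij (i.castPred hi) (j.castPred hj)
          (fun e => h (Fin.castPred_inj.mp e))))

theorem bv_a : bv R m .a = iota R m (ugen R m .a) := rfl
theorem bv_c : bv R m .c = iota R m (ugen R m .c) := rfl
theorem bv_cb : bv R m .cb = iota R m (ugen R m .cb) := rfl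

theorem bv_ci_last : bv R m (.ci (Fin.last m)) = cx R m .x2 := by
  simp [bv]

theorem bv_ci_c (i : Fin m) : bv R m (.ci i.castSucc) = iota R m (ugen R m (.ci i)) := by
  simp [bv, Fin.castSucc_ne_last]

theorem bv_cbi_last : bv R m (.cbi (Fin.last m)) =
    cx R m .x3 - iota R m (ugen R m .a) - cx R m .x2 := by
  simp [bv]

theorem bv_cbi_c (i : Fin m) : bv R m (.cbi i.castSucc) = iota R m (ugen R m (.cbi i)) := by
  simp [bv, Fin.castSucc_ne_last]

theorem bv_cij_cc {i j : Fin m} (h : i.castSucc ≠ j.castSucc) (h' : i ≠ j) :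
    bv R m (.cij i.castSucc j.castSucc h) = iota R m (ugen R m (.cij i j h')) := by
  simp [bv, Fin.castSucc_ne_last]

theorem bv_cij_cl (i : Fin m) (h : i.castSucc ≠ Fin.last m) :
    bv R m (.cij i.castSucc (Fin.last m) h) = cx R m (.xi i) := by
  simp [bv, Fin.castSucc_ne_last]

theorem bv_cij_lc (j : Fin m) (h : Fin.last m ≠ j.castSucc) :
    bv R m (.cij (Fin.last m) j.castSucc h) =
      iota R m (ugen R m (.ci j)) + iota R m (ugen R m (.cbi j)) + cx R m .x3 -
        cx R m (.xi j) := by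
  simp [bv, Fin.castSucc_ne_last]


theorem iota_lin {i j : Fin m} (h : i ≠ j) :
    iota R m (ugen R m (.cij i j h)) + iota R m (ugen R m (.cij j i h.symm)) =
      iota R m (ugen R m .a) + iota R m (ugen R m (.ci i)) + iota R m (ugen R m (.cbi i)) +
        iota R m (ugen R m (.ci j)) + iota R m (ugen R m (.cbi j)) := by
  have := congrArg (iota R m) (ugen_lin R m h)
  simpa only [map_add] using this

theorem iota_q1 {i j : Fin m} (h : i ≠ j) :
    iota R m (ugen R m (.cij j i h.symm)) * iota R m (ugen R m (.ci j)) +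
      iota R m (ugen R m (.cij i j h)) * iota R m (ugen R m (.ci i)) -
      iota R m (ugen R m (.ci i)) * iota R m (ugen R m (.ci j)) - iota R m (ugen R m .c) = 0 := by
  have := congrArg (iota R m) (ugen_q1 R m h)
  simpa only [map_add, map_sub, map_mul, map_zero] using this

theorem iota_q2 {i j : Fin m} (h : i ≠ j) :
    iota R m (ugen R m (.cij j i h.symm)) * iota R m (ugen R m (.cbi i)) +
      iota R m (ugen R m (.cij i j h)) * iota R m (ugen R m (.cbi j)) -
      iota R m (ugen R m (.cbi i)) * iota R m (ugen R m (.cbi j)) -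
      iota R m (ugen R m .cb) = 0 := by
  have := congrArg (iota R m) (ugen_q2 R m h)
  simpa only [map_add, map_sub, map_mul, map_zero] using this

theorem iota_cub {i j k : Fin m} (hij : i ≠ j) (hjk : j ≠ k) (hik : i ≠ k) :
    iota R m (ugen R m (.cij i j hij)) * iota R m (ugen R m (.cij j k hjk)) +
      iota R m (ugen R m (.cij j i hij.symm)) * iota R m (ugen R m (.cij i k hik)) -
      iota R m (ugen R m (.cij i k hik)) * iota R m (ugen R m (.cij j k hjk)) +
      (iota R m (ugen R m .a) + iota R m (ugen R m (.ci k)) + iota R m (ugen R m (.cbi k))) *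
        iota R m (ugen R m (.ci k)) - iota R m (ugen R m .c) = 0 := by
  have := congrArg (iota R m) (ugen_cub R m hij hjk hik)
  simpa only [map_add, map_sub, map_mul, map_zero] using this

theorem bv_lin {i j : Fin (m + 1)} (h : i ≠ j) :
    bv R m (.cij i j h) + bv R m (.cij j i h.symm) =
      bv R m .a + bv R m (.ci i) + bv R m (.cbi i) + bv R m (.ci j) + bv R m (.cbi j) := by
  rcases Fin.eq_castSucc_or_eq_last i with ⟨i0, rfl⟩ | rfl <;>
    rcases Fin.eq_castSucc_or_eq_last j with ⟨j0, rfl⟩ | rfl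
  · have h0 : i0 ≠ j0 := fun e => h (by rw [e])
    rw [bv_cij_cc R m h h0, bv_cij_cc R m h.symm h0.symm, bv_a, bv_ci_c, bv_cbi_c, bv_ci_c,
      bv_cbi_c]
    exact iota_lin R m h0
  · rw [bv_cij_cl, bv_cij_lc, bv_a, bv_ci_c, bv_cbi_c, bv_ci_last, bv_cbi_last]; ring
  · rw [bv_cij_lc, bv_cij_cl, bv_a, bv_ci_c, bv_cbi_c, bv_ci_last, bv_cbi_last]; ring
  · exact absurd rfl h

theorem bv_q1 {i j : Fin (m + 1)} (h : i ≠ j) :
    bv R m (.cij j i h.symm) * bv R m (.ci j) + bv R m (.cij i j h) * bv R m (.ci i) -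
      bv R m (.ci i) * bv R m (.ci j) - bv R m .c = 0 := by
  rcases Fin.eq_castSucc_or_eq_last i with ⟨i0, rfl⟩ | rfl <;>
    rcases Fin.eq_castSucc_or_eq_last j with ⟨j0, rfl⟩ | rfl
  · have h0 : i0 ≠ j0 := fun e => h (by rw [e])
    rw [bv_cij_cc R m h h0, bv_cij_cc R m h.symm h0.symm, bv_c, bv_ci_c, bv_ci_c]
    exact iota_q1 R m h0
  · rw [bv_cij_cl, bv_cij_lc, bv_c, bv_ci_c, bv_ci_last]
    linear_combination (-1 : CurveAlg (URing R m) m (ugen R m)) * cx_rel1 R m i0
  · rw [bv_cij_lc, bv_cij_cl, bv_c, bv_ci_c, bv_ci_last]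
    linear_combination (-1 : CurveAlg (URing R m) m (ugen R m)) * cx_rel1 R m j0
  · exact absurd rfl h

theorem bv_q2 {i j : Fin (m + 1)} (h : i ≠ j) :
    bv R m (.cij j i h.symm) * bv R m (.cbi i) + bv R m (.cij i j h) * bv R m (.cbi j) -
      bv R m (.cbi i) * bv R m (.cbi j) - bv R m .cb = 0 := by
  rcases Fin.eq_castSucc_or_eq_last i with ⟨i0, rfl⟩ | rfl <;>
    rcases Fin.eq_castSucc_or_eq_last j with ⟨j0, rfl⟩ | rfl
  · have h0 : i0 ≠ j0 := fun e => h (by rw [e])
    rw [bv_cij_cc R m h h0, bv_cij_cc R m h.symm h0.symm, bv_cb, bv_cbi_c, bv_cbi_c]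
    exact iota_q2 R m h0
  · rw [bv_cij_cl, bv_cij_lc, bv_cb, bv_cbi_c, bv_cbi_last]
    linear_combination cx_rel2 R m i0 - cx_rel1 R m i0
  · rw [bv_cij_lc, bv_cij_cl, bv_cb, bv_cbi_c, bv_cbi_last]
    linear_combination cx_rel2 R m j0 - cx_rel1 R m j0
  · exact absurd rfl h

theorem bv_cub_aux {j k : Fin m} (h : j ≠ k) :
    (iota R m (ugen R m (.ci j)) + iota R m (ugen R m (.cbi j)) + cx R m .x3 -
        cx R m (.xi j)) * iota R m (ugen R m (.cij j k h)) +
      cx R m (.xi j) * (iota R m (ugen R m (.ci k)) + iota R m (ugen R m (.cbi k)) + cx R m .x3 -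
        cx R m (.xi k)) -
      (iota R m (ugen R m (.ci k)) + iota R m (ugen R m (.cbi k)) + cx R m .x3 -
        cx R m (.xi k)) * iota R m (ugen R m (.cij j k h)) +
      (iota R m (ugen R m .a) + iota R m (ugen R m (.ci k)) + iota R m (ugen R m (.cbi k))) *
        iota R m (ugen R m (.ci k)) - iota R m (ugen R m .c) = 0 := by
  linear_combination cx_rel2 R m j - cx_rel3 R m h +
    (iota R m (ugen R m (.cbi j)) - iota R m (ugen R m (.ci k)) - cx R m (.xi j)) * iota_lin R m h +
    iota_q1 R m h - iota_q2 R m h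

theorem bv_cub {i j k : Fin (m + 1)} (hij : i ≠ j) (hjk : j ≠ k) (hik : i ≠ k) :
    bv R m (.cij i j hij) * bv R m (.cij j k hjk) +
      bv R m (.cij j i hij.symm) * bv R m (.cij i k hik) -
      bv R m (.cij i k hik) * bv R m (.cij j k hjk) +
      (bv R m .a + bv R m (.ci k) + bv R m (.cbi k)) * bv R m (.ci k) - bv R m .c = 0 := by
  rcases Fin.eq_castSucc_or_eq_last i with ⟨i0, rfl⟩ | rfl <;>
    rcases Fin.eq_castSucc_or_eq_last j with ⟨j0, rfl⟩ | rfl <;>
    rcases Fin.eq_castSucc_or_eq_last k with ⟨k0, rfl⟩ | rfl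
  · have h1 : i0 ≠ j0 := fun e => hij (by rw [e])
    have h2 : j0 ≠ k0 := fun e => hjk (by rw [e])
    have h3 : i0 ≠ k0 := fun e => hik (by rw [e])
    rw [bv_cij_cc R m hij h1, bv_cij_cc R m hjk h2, bv_cij_cc R m hij.symm h1.symm,
      bv_cij_cc R m hik h3, bv_a, bv_c, bv_ci_c, bv_cbi_c]
    exact iota_cub R m h1 h2 h3
  · have h1 : i0 ≠ j0 := fun e => hij (by rw [e])
    rw [bv_cij_cc R m hij h1, bv_cij_cc R m hij.symm h1.symm, bv_cij_cl, bv_cij_cl, bv_a, bv_c,
      bv_ci_last, bv_cbi_last]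
    linear_combination (-1 : CurveAlg (URing R m) m (ugen R m)) * cx_rel3 R m h1
  · have h3 : i0 ≠ k0 := fun e => hik (by rw [e])
    rw [bv_cij_cl, bv_cij_lc, bv_cij_lc, bv_cij_cc R m hik h3, bv_a, bv_c, bv_ci_c, bv_cbi_c]
    linear_combination bv_cub_aux R m h3
  · exact absurd rfl hjk
  · have h2 : j0 ≠ k0 := fun e => hjk (by rw [e])
    rw [bv_cij_lc, bv_cij_lc, bv_cij_cl, bv_cij_cc R m hjk h2, bv_a, bv_c, bv_ci_c, bv_cbi_c]
    linear_combination bv_cub_aux R m h2
  · exact absurd rfl hik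
  · exact absurd rfl hij
  · exact absurd rfl hij


noncomputable def bwd0 : MvPolynomial (UGen (m + 1)) R →+* CurveAlg (URing R m) m (ugen R m) :=
  MvPolynomial.eval₂Hom ((iota R m).comp (algebraMap R (URing R m))) (bv R m)

theorem bwd0_URel (p : MvPolynomial (UGen (m + 1)) R) (hp : p ∈ URel R (m + 1)) :
    bwd0 R m p = 0 := by
  rcases hp with ((⟨⟨⟨i, j⟩, h⟩, rfl⟩ | ⟨⟨⟨i, j⟩, h⟩, rfl⟩) | ⟨⟨⟨i, j⟩, h⟩, rfl⟩) |
    ⟨⟨⟨i, j, k⟩, hij, hjk, hik⟩, rfl⟩
  · simp only [bwd0, map_sub, map_add, eval₂Hom_X']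
    exact sub_eq_zero.mpr (bv_lin R m h)
  · simp only [bwd0, map_sub, map_add, map_mul, eval₂Hom_X']
    exact bv_q1 R m h
  · simp only [bwd0, map_sub, map_add, map_mul, eval₂Hom_X']
    exact bv_q2 R m h
  · simp only [bwd0, map_sub, map_add, map_mul, eval₂Hom_X']
    exact bv_cub R m hij hjk hik

noncomputable def bwd : URing R (m + 1) →+* CurveAlg (URing R m) m (ugen R m) :=
  Ideal.Quotient.lift _ (bwd0 R m) (fun p hp => by
    have : Ideal.span (URel R (m + 1)) ≤ RingHom.ker (bwd0 R m) :=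
      Ideal.span_le.mpr (fun p hp => bwd0_URel R m p hp)
    exact this hp)

theorem bwd_ugen (x : UGen (m + 1)) : bwd R m (ugen R (m + 1) x) = bv R m x := by
  simp [bwd, bwd0, ugen]

theorem bwd_algebraMap (r : R) :
    bwd R m (algebraMap R (URing R (m + 1)) r) = iota R m (algebraMap R (URing R m) r) := by
  have : algebraMap R (URing R (m + 1)) r = Ideal.Quotient.mk _ (C r) := rfl
  rw [this]
  simp [bwd, bwd0]

theorem bv_castSucc (x : UGen m) : bv R m x.castSucc = iota R m (ugen R m x) := by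
  cases x with
  | a => rfl
  | c => rfl
  | cb => rfl
  | ci i => exact bv_ci_c R m i
  | cbi i => exact bv_cbi_c R m i
  | cij i j h => exact bv_cij_cc R m _ h

theorem bwd_uincl (r : URing R m) : bwd R m (uincl R m r) = iota R m r := by
  have key : (bwd R m).comp (uincl R m : URing R m →+* URing R (m + 1)) = iota R m := by
    refine Ideal.Quotient.ringHom_ext ?_
    refine MvPolynomial.ringHom_ext ?_ ?_
    · intro r
      have h1 : (Ideal.Quotient.mk (Ideal.span (URel R m)) (C r) : URing R m) =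
          algebraMap R (URing R m) r := rfl
      simp only [RingHom.comp_apply, RingHom.coe_coe, h1, AlgHom.commutes, bwd_algebraMap]
    · intro x
      simp only [RingHom.comp_apply, RingHom.coe_coe]
      have h1 : (Ideal.Quotient.mk (Ideal.span (URel R m)) (X x) : URing R m) = ugen R m x := rfl
      rw [h1, uincl_ugen, bwd_ugen, bv_castSucc]
  exact DFunLike.congr_fun key r

theorem bwd_fwd : (bwd R m).comp (fwd R m) = RingHom.id _ := by
  refine Ideal.Quotient.ringHom_ext ?_
  refine MvPolynomial.ringHom_ext ?_ ?_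
  · intro r
    have h1 : Ideal.Quotient.mk (Ideal.span (CRel (URing R m) m (ugen R m))) (C r) =
        iota R m r := rfl
    simp only [RingHom.comp_apply, h1, fwd_iota, bwd_uincl, RingHom.id_apply]
  · intro v
    have h1 : Ideal.Quotient.mk (Ideal.span (CRel (URing R m) m (ugen R m))) (X v) =
        cx R m v := rfl
    simp only [RingHom.comp_apply, h1, fwd_cx, RingHom.id_apply]
    cases v with
    | x2 => simp only [fv, bwd_ugen, bv_ci_last]
    | x3 =>
      simp only [fv, map_add, bwd_ugen, bv_ci_last, bv_cbi_last, bv_a]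
      ring
    | xi i => simp only [fv, bwd_ugen, bv_cij_cl]

theorem fwd_bv (x : UGen (m + 1)) : fwd R m (bv R m x) = ugen R (m + 1) x := by
  cases x with
  | a => rw [bv_a, fwd_iota, uincl_ugen]; rfl
  | c => rw [bv_c, fwd_iota, uincl_ugen]; rfl
  | cb => rw [bv_cb, fwd_iota, uincl_ugen]; rfl
  | ci i =>
    rcases Fin.eq_castSucc_or_eq_last i with ⟨i0, rfl⟩ | rfl
    · rw [bv_ci_c, fwd_iota, uincl_ugen]; rfl
    · rw [bv_ci_last, fwd_cx]; rfl
  | cbi i =>
    rcases Fin.eq_castSucc_or_eq_last i with ⟨i0, rfl⟩ | rfl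
    · rw [bv_cbi_c, fwd_iota, uincl_ugen]; rfl
    · rw [bv_cbi_last]
      simp only [map_sub, fwd_cx, fwd_iota, uincl_ugen, fv, UGen.castSucc]
      ring
  | cij i j h =>
    rcases Fin.eq_castSucc_or_eq_last i with ⟨i0, rfl⟩ | rfl <;>
      rcases Fin.eq_castSucc_or_eq_last j with ⟨j0, rfl⟩ | rfl
    · have h0 : i0 ≠ j0 := fun e => h (by rw [e])
      rw [bv_cij_cc R m h h0, fwd_iota, uincl_ugen]; rfl
    · rw [bv_cij_cl, fwd_cx]; rfl
    · rw [bv_cij_lc]
      simp only [map_sub, map_add, fwd_cx, fwd_iota, uincl_ugen, fv, UGen.castSucc]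
      have := ugen_lin R (m + 1) h
      linear_combination (-1 : URing R (m + 1)) * this
    · exact absurd rfl h

theorem fwd_bwd : (fwd R m).comp (bwd R m) = RingHom.id _ := by
  refine Ideal.Quotient.ringHom_ext ?_
  refine MvPolynomial.ringHom_ext ?_ ?_
  · intro r
    have h1 : (Ideal.Quotient.mk (Ideal.span (URel R (m + 1))) (C r) : URing R (m + 1)) =
        algebraMap R (URing R (m + 1)) r := rfl
    simp only [RingHom.comp_apply, h1, bwd_algebraMap, fwd_iota, AlgHom.commutes,
      RingHom.id_apply]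
  · intro x
    have h1 : (Ideal.Quotient.mk (Ideal.span (URel R (m + 1))) (X x) : URing R (m + 1)) =
        ugen R (m + 1) x := rfl
    simp only [RingHom.comp_apply, h1, bwd_ugen, fwd_bv, RingHom.id_apply]

/-- The isomorphism `O(C_n) ≅ O(U_{n+1})`. -/
noncomputable def equiv : CurveAlg (URing R m) m (ugen R m) ≃+* URing R (m + 1) :=
  RingEquiv.ofRingHom (fwd R m) (bwd R m) (fwd_bwd R m) (bwd_fwd R m)

theorem equiv_apply (z : CurveAlg (URing R m) m (ugen R m)) : equiv R m z = fwd R m z := rfl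

theorem main :
    ∃ e : CurveAlg (URing R m) m (ugen R m) ≃+* URing R (m + 1),
      (∀ r : URing R m, e (algebraMap (URing R m) (CurveAlg (URing R m) m (ugen R m)) r) =
        uincl R m r) ∧
      e (Ideal.Quotient.mk (Ideal.span (CRel (URing R m) m (ugen R m))) (MvPolynomial.X CVar.x2)) =
        ugen R (m + 1) (UGen.ci (Fin.last m)) ∧
      e (Ideal.Quotient.mk (Ideal.span (CRel (URing R m) m (ugen R m))) (MvPolynomial.X CVar.x3)) =
        ugen R (m + 1) UGen.a + ugen R (m + 1) (UGen.ci (Fin.last m)) +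
          ugen R (m + 1) (UGen.cbi (Fin.last m)) ∧
      ∀ i : Fin m, e (Ideal.Quotient.mk (Ideal.span (CRel (URing R m) m (ugen R m)))
          (MvPolynomial.X (CVar.xi i))) =
        ugen R (m + 1) (UGen.cij i.castSucc (Fin.last m) (Fin.castSucc_lt_last i).ne) :=
  ⟨equiv R m, fun r => fwd_iota R m r, fwd_cx R m .x2, fwd_cx R m .x3, fun i => fwd_cx R m (.xi i)⟩

end Groth.Agent.Lead.UCurve
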