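import Mathlib
import Groth.Prelude.Def_W4c5m1nsnscurvesU
import Groth.Agent.Lead.UCurveA

set_option autoImplicit false
set_option linter.style.haveILetI false
universe u
open W4c5m1nsnscurves MvPolynomial Groth.Agent.Lead.UCurve

namespace Groth.Agent.Lead.UCot

/-- Index type of the basis of the cotangent space. -/
abbrev T (m : ℕ) : Type := Unit ⊕ (Fin m ⊕ (Fin m ⊕ (Σ j : Fin m, Fin j)))

def pfst {m : ℕ} (j : Fin m) (i : Fin j) : Fin m := ⟨i, lt_trans i.2 j.2⟩

theorem pfst_lt {m : ℕ} (j : Fin m) (i : Fin j) : pfst j i < j := i.2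

/-- The generator attached to an index. -/
def gam {m : ℕ} : T m → UGen m
  | .inl _ => .a
  | .inr (.inl i) => .ci i
  | .inr (.inr (.inl i)) => .cbi i
  | .inr (.inr (.inr ⟨j, i⟩)) => .cij (pfst j i) j (pfst_lt j i).ne

variable (k : Type u) [Field k] (m : ℕ)

noncomputable def e (t : T m) : T m → k := Pi.single t 1

noncomputable def w : UGen m → (T m → k)
  | .a => e k m (.inl ())
  | .c => 0
  | .cb => 0
  | .ci i => e k m (.inr (.inl i))
  | .cbi i => e k m (.inr (.inr (.inl i)))
  | .cij i j h =>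
    if hlt : i < j then e k m (.inr (.inr (.inr ⟨j, ⟨i, hlt⟩⟩)))
    else e k m (.inl ()) + e k m (.inr (.inl i)) + e k m (.inr (.inr (.inl i))) +
      e k m (.inr (.inl j)) + e k m (.inr (.inr (.inl j))) -
      e k m (.inr (.inr (.inr ⟨i, ⟨j, (lt_of_le_of_ne (not_lt.mp hlt) h.symm : j < i)⟩⟩)))

theorem w_gam (t : T m) : w k m (gam t) = e k m t := by
  rcases t with _ | i | i | ⟨j, i⟩
  · rfl
  · rfl
  · rfl
  · simp only [gam, w]
    rw [dif_pos (pfst_lt j i)]
    rfl

theorem w_lin {i j : Fin m} (h : i ≠ j) :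
    w k m (.cij i j h) + w k m (.cij j i h.symm) =
      w k m .a + w k m (.ci i) + w k m (.cbi i) + w k m (.ci j) + w k m (.cbi j) := by
  rcases lt_or_gt_of_ne h with hlt | hgt
  · simp only [w, dif_pos hlt, dif_neg (not_lt.mpr hlt.le)]
    abel
  · simp only [w, dif_pos hgt, dif_neg (not_lt.mpr hgt.le)]
    abel

noncomputable def phi0 : MvPolynomial (UGen m) k →ₐ[k] TrivSqZeroExt k (T m → k) :=
  MvPolynomial.aeval (fun g => TrivSqZeroExt.inr (w k m g))

theorem phi0_URel (p : MvPolynomial (UGen m) k) (hp : p ∈ URel k m) : phi0 k m p = 0 := by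
  rcases hp with ((⟨⟨⟨i, j⟩, h⟩, rfl⟩ | ⟨⟨⟨i, j⟩, h⟩, rfl⟩) | ⟨⟨⟨i, j⟩, h⟩, rfl⟩) |
    ⟨⟨⟨i, j, l⟩, hij, hjl, hil⟩, rfl⟩
  · simp only [phi0, map_sub, map_add, aeval_X, ← TrivSqZeroExt.inr_add, ← TrivSqZeroExt.inr_sub]
    rw [w_lin k m h, sub_self, TrivSqZeroExt.inr_zero]
  · simp [phi0, TrivSqZeroExt.inr_mul_inr, w]
  · simp [phi0, TrivSqZeroExt.inr_mul_inr, w]
  · simp [phi0, TrivSqZeroExt.inr_mul_inr, w, add_mul]

noncomputable def phi : URing k m →ₐ[k] TrivSqZeroExt k (T m → k) :=
  Ideal.Quotient.liftₐ (Ideal.span (URel k m)) (phi0 k m) (fun p hp => by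
    have : Ideal.span (URel k m) ≤ RingHom.ker (phi0 k m).toRingHom :=
      Ideal.span_le.mpr (fun p hp => phi0_URel k m p hp)
    exact this hp)

theorem phi_ugen (g : UGen m) : phi k m (ugen k m g) = TrivSqZeroExt.inr (w k m g) := by
  simp [phi, phi0, ugen]


/-- The augmentation. -/
noncomputable def eps : URing k m →ₐ[k] k :=
  (TrivSqZeroExt.fstHom k k (T m → k)).comp (phi k m)

theorem eps_apply (r : URing k m) : eps k m r = (phi k m r).fst := rfl

theorem eps_ugen (g : UGen m) : eps k m (ugen k m g) = 0 := by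
  rw [eps_apply, phi_ugen, TrivSqZeroExt.fst_inr]

theorem ugen_mem (g : UGen m) : ugen k m g ∈ uorigin k m :=
  Ideal.subset_span ⟨g, rfl⟩

theorem sub_eps_mem (r : URing k m) :
    r - algebraMap k (URing k m) (eps k m r) ∈ uorigin k m := by
  obtain ⟨p, rfl⟩ := Ideal.Quotient.mk_surjective r
  induction p using MvPolynomial.induction_on with
  | C c =>
    have h1 : (Ideal.Quotient.mk (Ideal.span (URel k m)) (C c) : URing k m) =
        algebraMap k (URing k m) c := rfl
    rw [h1, AlgHom.commutes]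
    simp
  | add p q hp hq =>
    have h1 : (Ideal.Quotient.mk (Ideal.span (URel k m)) (p + q) : URing k m) -
        algebraMap k (URing k m) (eps k m (Ideal.Quotient.mk (Ideal.span (URel k m)) (p + q))) =
        ((Ideal.Quotient.mk (Ideal.span (URel k m)) p : URing k m) -
          algebraMap k (URing k m) (eps k m (Ideal.Quotient.mk (Ideal.span (URel k m)) p))) +
        ((Ideal.Quotient.mk (Ideal.span (URel k m)) q : URing k m) -
          algebraMap k (URing k m) (eps k m (Ideal.Quotient.mk (Ideal.span (URel k m)) q))) := by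
      simp only [map_add]; ring
    rw [h1]
    exact add_mem hp hq
  | mul_X p g hp =>
    have h1 : (Ideal.Quotient.mk (Ideal.span (URel k m)) (X g) : URing k m) = ugen k m g := rfl
    rw [map_mul, h1, map_mul, eps_ugen, mul_zero, map_zero, sub_zero]
    exact Ideal.mul_mem_left _ _ (ugen_mem k m g)

theorem fst_phi_of_mem {x : URing k m} (hx : x ∈ uorigin k m) : (phi k m x).fst = 0 := by
  have : uorigin k m ≤ RingHom.ker (eps k m).toRingHom :=
    Ideal.span_le.mpr (by rintro _ ⟨g, rfl⟩; exact eps_ugen k m g)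
  exact this hx

theorem snd_phi_sq {x : URing k m} (hx : x ∈ uorigin k m ^ 2) : (phi k m x).snd = 0 := by
  rw [pow_two] at hx
  refine Submodule.smul_induction_on hx ?_ ?_
  · intro r hr n hn
    rw [smul_eq_mul, map_mul, TrivSqZeroExt.snd_mul, fst_phi_of_mem k m hr,
      fst_phi_of_mem k m hn]
    simp
  · intro x y hx hy
    rw [map_add, TrivSqZeroExt.snd_add, hx, hy, add_zero]

/-- The classes of the chosen generators. -/
noncomputable def b (t : T m) : (uorigin k m).Cotangent :=
  (uorigin k m).toCotangent ⟨ugen k m (gam t), ugen_mem k m _⟩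

theorem b_linearIndependent : LinearIndependent k (b k m) := by
  rw [Fintype.linearIndependent_iff]
  intro g hg t0
  have h0 : (uorigin k m).toCotangent
      (∑ t, algebraMap k (URing k m) (g t) • (⟨ugen k m (gam t), ugen_mem k m _⟩ : uorigin k m)) =
      0 := by
    rw [map_sum]
    simp only [algebraMap_smul]
    exact hg
  rw [Ideal.toCotangent_eq_zero] at h0
  have h1 := snd_phi_sq k m h0
  simp only [Submodule.coe_sum, Submodule.coe_smul, smul_eq_mul, map_sum, map_mul,
    AlgHom.commutes, phi_ugen, w_gam, TrivSqZeroExt.algebraMap_eq_inl] at h1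
  simp only [TrivSqZeroExt.snd_sum, TrivSqZeroExt.inl_mul_inr, TrivSqZeroExt.snd_inr] at h1
  have h2 := congrFun h1 t0
  rw [Finset.sum_apply] at h2
  simp only [Pi.smul_apply, e, Pi.single_apply, smul_eq_mul, mul_ite, mul_one, mul_zero,
    Pi.zero_apply] at h2
  rw [Finset.sum_ite_eq] at h2
  simpa using h2


theorem exists_pair (hm : 2 ≤ m) : ∃ i0 i1 : Fin m, i0 ≠ i1 :=
  ⟨⟨0, by omega⟩, ⟨1, by omega⟩, fun e => by simpa using congrArg Fin.val e⟩

theorem c_mem_sq (hm : 2 ≤ m) : ugen k m .c ∈ uorigin k m ^ 2 := by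
  obtain ⟨i0, i1, h01⟩ := exists_pair m hm
  have h := ugen_q1 k m h01
  have h2 : ugen k m .c = ugen k m (.cij i1 i0 h01.symm) * ugen k m (.ci i1) +
      ugen k m (.cij i0 i1 h01) * ugen k m (.ci i0) - ugen k m (.ci i0) * ugen k m (.ci i1) := by
    linear_combination (-1 : URing k m) * h
  rw [h2, pow_two]
  exact sub_mem (add_mem (Ideal.mul_mem_mul (ugen_mem k m _) (ugen_mem k m _))
    (Ideal.mul_mem_mul (ugen_mem k m _) (ugen_mem k m _)))
    (Ideal.mul_mem_mul (ugen_mem k m _) (ugen_mem k m _))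

theorem cb_mem_sq (hm : 2 ≤ m) : ugen k m .cb ∈ uorigin k m ^ 2 := by
  obtain ⟨i0, i1, h01⟩ := exists_pair m hm
  have h := ugen_q2 k m h01
  have h2 : ugen k m .cb = ugen k m (.cij i1 i0 h01.symm) * ugen k m (.cbi i0) +
      ugen k m (.cij i0 i1 h01) * ugen k m (.cbi i1) -
      ugen k m (.cbi i0) * ugen k m (.cbi i1) := by
    linear_combination (-1 : URing k m) * h
  rw [h2, pow_two]
  exact sub_mem (add_mem (Ideal.mul_mem_mul (ugen_mem k m _) (ugen_mem k m _))
    (Ideal.mul_mem_mul (ugen_mem k m _) (ugen_mem k m _)))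
    (Ideal.mul_mem_mul (ugen_mem k m _) (ugen_mem k m _))

theorem class_mem_span (hm : 2 ≤ m) (g : UGen m) :
    (uorigin k m).toCotangent ⟨ugen k m g, ugen_mem k m g⟩ ∈
      Submodule.span k (Set.range (b k m)) := by
  cases g with
  | a => exact Submodule.subset_span ⟨.inl (), rfl⟩
  | ci i => exact Submodule.subset_span ⟨.inr (.inl i), rfl⟩
  | cbi i => exact Submodule.subset_span ⟨.inr (.inr (.inl i)), rfl⟩
  | c =>
    have : (uorigin k m).toCotangent ⟨ugen k m .c, ugen_mem k m _⟩ = 0 := by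
      rw [Ideal.toCotangent_eq_zero]
      exact c_mem_sq k m hm
    rw [this]; exact zero_mem _
  | cb =>
    have : (uorigin k m).toCotangent ⟨ugen k m .cb, ugen_mem k m _⟩ = 0 := by
      rw [Ideal.toCotangent_eq_zero]
      exact cb_mem_sq k m hm
    rw [this]; exact zero_mem _
  | cij i j h =>
    rcases lt_or_gt_of_ne h with hlt | hgt
    · exact Submodule.subset_span ⟨.inr (.inr (.inr ⟨j, ⟨i, hlt⟩⟩)), rfl⟩
    · have hl := ugen_lin k m h
      have h1 : (⟨ugen k m (.cij i j h), ugen_mem k m _⟩ : uorigin k m) =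
          ⟨ugen k m .a, ugen_mem k m _⟩ + ⟨ugen k m (.ci i), ugen_mem k m _⟩ +
          ⟨ugen k m (.cbi i), ugen_mem k m _⟩ + ⟨ugen k m (.ci j), ugen_mem k m _⟩ +
          ⟨ugen k m (.cbi j), ugen_mem k m _⟩ - ⟨ugen k m (.cij j i h.symm), ugen_mem k m _⟩ := by
        apply Subtype.ext
        simp only [Submodule.coe_add, Submodule.coe_sub]
        linear_combination hl
      rw [h1, map_sub, map_add, map_add, map_add, map_add]
      refine sub_mem (add_mem (add_mem (add_mem (add_mem ?_ ?_) ?_) ?_) ?_) ?_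
      · exact Submodule.subset_span ⟨.inl (), rfl⟩
      · exact Submodule.subset_span ⟨.inr (.inl i), rfl⟩
      · exact Submodule.subset_span ⟨.inr (.inr (.inl i)), rfl⟩
      · exact Submodule.subset_span ⟨.inr (.inl j), rfl⟩
      · exact Submodule.subset_span ⟨.inr (.inr (.inl j)), rfl⟩
      · exact Submodule.subset_span ⟨.inr (.inr (.inr ⟨i, ⟨j, hgt⟩⟩)), rfl⟩

theorem smul_cot (a : URing k m) (y : (uorigin k m).Cotangent) : a • y = eps k m a • y := by
  obtain ⟨x, rfl⟩ := Ideal.toCotangent_surjective _ y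
  have h2 : eps k m a • (uorigin k m).toCotangent x =
      (uorigin k m).toCotangent (eps k m a • x) := rfl
  rw [← map_smul, h2, Ideal.toCotangent_eq]
  have : ((a • x : uorigin k m) : URing k m) - ((eps k m a • x : uorigin k m) : URing k m) =
      (a - algebraMap k (URing k m) (eps k m a)) * x := by
    rw [Submodule.coe_smul, Submodule.coe_smul_of_tower, smul_eq_mul, sub_mul]
    congr 1
    exact Algebra.smul_def (eps k m a) (x : URing k m)
  rw [this, pow_two]
  exact Ideal.mul_mem_mul (sub_eps_mem k m a) x.2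

theorem toCotangent_mem_span (hm : 2 ≤ m) (x : URing k m) (hx : x ∈ uorigin k m) :
    (uorigin k m).toCotangent ⟨x, hx⟩ ∈ Submodule.span k (Set.range (b k m)) := by
  have hx' : x ∈ Submodule.span (URing k m) (Set.range (ugen k m)) := hx
  induction hx' using Submodule.span_induction with
  | mem y hy =>
    obtain ⟨g, rfl⟩ := hy
    exact class_mem_span k m hm g
  | zero =>
    have : (⟨0, hx⟩ : uorigin k m) = 0 := rfl
    rw [this, map_zero]; exact zero_mem _
  | add y z hy hz h1 h2 =>
    have hy' : y ∈ uorigin k m := hy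
    have hz' : z ∈ uorigin k m := hz
    have : (⟨y + z, hx⟩ : uorigin k m) = ⟨y, hy'⟩ + ⟨z, hz'⟩ := rfl
    rw [this, map_add]
    exact add_mem (h1 hy') (h2 hz')
  | smul a y hy h1 =>
    have hy' : y ∈ uorigin k m := hy
    have : (⟨a • y, hx⟩ : uorigin k m) = a • ⟨y, hy'⟩ := rfl
    rw [this, map_smul, smul_cot]
    exact Submodule.smul_mem _ _ (h1 hy')

theorem card_T (hm : 2 ≤ m) : Fintype.card (T m) = (m + 2) * (m + 1) / 2 := by
  have h1 : Fintype.card (Σ j : Fin m, Fin j) = m * (m - 1) / 2 := by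
    rw [Fintype.card_sigma]
    simp only [Fintype.card_fin]
    rw [Fin.sum_univ_eq_sum_range (fun i => i) m, Finset.sum_range_id]
  simp only [Fintype.card_sum, Fintype.card_unit, Fintype.card_fin, h1]
  obtain ⟨n, rfl⟩ : ∃ n, m = n + 1 := ⟨m - 1, by omega⟩
  have h2 : (n + 1 + 2) * (n + 1 + 1) = (n + 1) * (n + 1 - 1) + 2 * (2 * n + 3) := by
    simp only [Nat.add_sub_cancel]; ring
  rw [h2, Nat.add_mul_div_left _ _ (by norm_num : 0 < 2)]
  omega

theorem finrank_cot (hm : 2 ≤ m) :
    Module.finrank k (uorigin k m).Cotangent = (m + 2) * (m + 1) / 2 := by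
  have hsp : ⊤ ≤ Submodule.span k (Set.range (b k m)) := by
    intro y _
    obtain ⟨x, rfl⟩ := Ideal.toCotangent_surjective _ y
    exact toCotangent_mem_span k m hm x.1 x.2
  rw [Module.finrank_eq_card_basis (Module.Basis.mk (b_linearIndependent k m) hsp), card_T m hm]


section Adjoin

variable (R : Type u) [CommRing R]

theorem adjoin_eq_top (hm : 2 ≤ m) :
    Algebra.adjoin R ({ugen R m .a} ∪ Set.range (fun i : Fin m => ugen R m (.ci i)) ∪
        Set.range (fun i : Fin m => ugen R m (.cbi i)) ∪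
        Set.range (fun q : {q : Fin m × Fin m // q.1 < q.2} =>
          ugen R m (.cij q.1.1 q.1.2 (ne_of_lt q.2)))) = ⊤ := by
  obtain ⟨S, hS⟩ : ∃ S : Set (URing R m), S =
      ({ugen R m .a} ∪ Set.range (fun i : Fin m => ugen R m (.ci i)) ∪
        Set.range (fun i : Fin m => ugen R m (.cbi i)) ∪
        Set.range (fun q : {q : Fin m × Fin m // q.1 < q.2} =>
          ugen R m (.cij q.1.1 q.1.2 (ne_of_lt q.2)))) := ⟨_, rfl⟩
  rw [← hS]
  have ha : ugen R m .a ∈ Algebra.adjoin R S :=
    Algebra.subset_adjoin (by rw [hS]; exact Or.inl (Or.inl (Or.inl rfl)))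
  have hci : ∀ i, ugen R m (.ci i) ∈ Algebra.adjoin R S := fun i =>
    Algebra.subset_adjoin (by rw [hS]; exact Or.inl (Or.inl (Or.inr ⟨i, rfl⟩)))
  have hcbi : ∀ i, ugen R m (.cbi i) ∈ Algebra.adjoin R S := fun i =>
    Algebra.subset_adjoin (by rw [hS]; exact Or.inl (Or.inr ⟨i, rfl⟩))
  have hlt : ∀ i j (h : i < j), ugen R m (.cij i j (ne_of_lt h)) ∈ Algebra.adjoin R S :=
    fun i j h => Algebra.subset_adjoin (by rw [hS]; exact Or.inr ⟨⟨(i, j), h⟩, rfl⟩)
  have hcij : ∀ i j (h : i ≠ j), ugen R m (.cij i j h) ∈ Algebra.adjoin R S := by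
    intro i j h
    rcases lt_or_gt_of_ne h with h1 | h1
    · exact hlt i j h1
    · have hl := ugen_lin R m h
      have h2 : ugen R m (.cij i j h) = ugen R m .a + ugen R m (.ci i) + ugen R m (.cbi i) +
          ugen R m (.ci j) + ugen R m (.cbi j) - ugen R m (.cij j i h.symm) := by
        linear_combination hl
      rw [h2]
      exact sub_mem (add_mem (add_mem (add_mem (add_mem ha (hci i)) (hcbi i)) (hci j)) (hcbi j))
        (hlt j i h1)
  obtain ⟨i0, i1, h01⟩ := exists_pair m hm
  have hc : ugen R m .c ∈ Algebra.adjoin R S := by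
    have h := ugen_q1 R m h01
    have h2 : ugen R m .c = ugen R m (.cij i1 i0 h01.symm) * ugen R m (.ci i1) +
        ugen R m (.cij i0 i1 h01) * ugen R m (.ci i0) - ugen R m (.ci i0) * ugen R m (.ci i1) := by
      linear_combination (-1 : URing R m) * h
    rw [h2]
    exact sub_mem (add_mem (mul_mem (hcij _ _ _) (hci _)) (mul_mem (hcij _ _ _) (hci _)))
      (mul_mem (hci _) (hci _))
  have hcb : ugen R m .cb ∈ Algebra.adjoin R S := by
    have h := ugen_q2 R m h01
    have h2 : ugen R m .cb = ugen R m (.cij i1 i0 h01.symm) * ugen R m (.cbi i0) +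
        ugen R m (.cij i0 i1 h01) * ugen R m (.cbi i1) -
        ugen R m (.cbi i0) * ugen R m (.cbi i1) := by
      linear_combination (-1 : URing R m) * h
    rw [h2]
    exact sub_mem (add_mem (mul_mem (hcij _ _ _) (hcbi _)) (mul_mem (hcij _ _ _) (hcbi _)))
      (mul_mem (hcbi _) (hcbi _))
  have hgen : ∀ g : UGen m, ugen R m g ∈ Algebra.adjoin R S := by
    intro g
    cases g with
    | a => exact ha
    | c => exact hc
    | cb => exact hcb
    | ci i => exact hci i
    | cbi i => exact hcbi i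
    | cij i j h => exact hcij i j h
  rw [eq_top_iff]
  intro r _
  obtain ⟨p, rfl⟩ := Ideal.Quotient.mk_surjective r
  induction p using MvPolynomial.induction_on with
  | C c =>
    have h1 : (Ideal.Quotient.mk (Ideal.span (URel R m)) (C c) : URing R m) =
        algebraMap R (URing R m) c := rfl
    rw [h1]
    exact Subalgebra.algebraMap_mem _ c
  | add p q hp hq =>
    rw [map_add]
    exact add_mem (hp trivial) (hq trivial)
  | mul_X p g hp =>
    rw [map_mul]
    exact mul_mem (hp trivial) (hgen g)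

end Adjoin

end Groth.Agent.Lead.UCot
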