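import Mathlib
import Groth.Agent.Helper3.RatNbhd
import Groth.Agent.Lead.ReflUFDB
import Groth.Agent.Lead.ReflExtD
import Groth.Agent.Lead.PcLib9
import Groth.Agent.Lead.Ref1K

/-!
# Extending invertible modules across factorial points: pointwise statements

`X` locally Noetherian (not necessarily integral), `U` an open, `G'` a coherent module on `X` whose
stalks at the points of `U` are free of rank one.  At every point `x` of the closure of `U` whose
local ring is factorial, the stalk of the reflexive hull `G'^∨∨` is free of rank one.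
-/

set_option autoImplicit false
set_option linter.style.haveILetI false
set_option linter.unusedSectionVars false

universe u

open CategoryTheory CategoryTheory.Limits AlgebraicGeometry TopologicalSpace Opposite

namespace Groth.Agent.Lead.UFDExt

open Groth.Agent.Lead.Ref1C Groth.Agent.Lead.Ref1D

variable {X : Scheme.{u}}

/-- a factorial commutative ring is a domain -/
theorem isDomain_of_ufm (R : Type*) [CommRing R] [Nontrivial R]
    [UniqueFactorizationMonoid R] : IsDomain R := by
  haveI : IsCancelMulZero R := inferInstance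
  exact IsDomain.mk

/-- the underlying set of an integral open subscheme is preirreducible -/
theorem isPreirreducible_of_isIntegral (W : X.Opens) [IsIntegral (W : Scheme.{u})] :
    IsPreirreducible (W : Set X) := by
  haveI : IrreducibleSpace ↥(W : Set X) :=
    (inferInstance : IrreducibleSpace ↥(W : Scheme.{u}))
  exact IsPreirreducible.of_subtype

/-- if the local rings at the points outside `U` are domains, the closure of `U` is open -/
theorem isOpen_closure [IsLocallyNoetherian X] (U : X.Opens)
    (hdom : ∀ x : X, x ∉ U → IsDomain (X.presheaf.stalk x)) :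
    IsOpen (closure (U : Set X)) := by
  rw [isOpen_iff_forall_mem_open]
  intro x hx
  by_cases hxU : x ∈ U
  · exact ⟨U, subset_closure, U.isOpen, hxU⟩
  · haveI := hdom x hxU
    obtain ⟨W, hxW, hW⟩ := Groth.Agent.Helper3.RatNbhd.exists_integral_nbhd x
    haveI := hW
    have hne : ((W : Set X) ∩ (U : Set X)).Nonempty := by
      obtain ⟨y, hy1, hy2⟩ := mem_closure_iff.mp hx W W.isOpen hxW
      exact ⟨y, hy1, hy2⟩
    have h1 := subset_closure_inter_of_isPreirreducible_of_isOpen
      (isPreirreducible_of_isIntegral W) U.isOpen hne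
    exact ⟨W, h1.trans (closure_mono Set.inter_subset_right), W.isOpen, hxW⟩

/-- pointwise form of `ReflUFD.isInvertible_of_isReflexive_of_ufd` -/
theorem fr1At_of_isReflexive_of_ufd [IsIntegral X] [IsLocallyNoetherian X]
    (F : X.Modules) (hF : Coh.IsCoh F) (hrefl : RefHull.IsReflexive F)
    (hrk : RefHull.GenInvertible F) (x : X)
    [UniqueFactorizationMonoid (X.presheaf.stalk x)] : FR1At F x := by
  have hFP := Groth.Agent.Helper4.CohFP.isFP_of_isCoh F hF.1 hF.2
  haveI := hF.1
  haveI := ReflUFD.free_stalk_of_isReflexive_of_ufd F hF hrefl hrk x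
  obtain ⟨V, n, hxV, hV⟩ :=
    Groth.Agent.Helper4.FinLocFree2.exists_isFreeAlong_of_fp_of_flat_stalk F hFP x inferInstance
  have hηV : genericPoint X ∈ V := genericPoint_mem V ⟨x, hxV⟩
  obtain ⟨bη⟩ := Groth.Agent.Helper4.FinLocFree2.nonempty_basis_stalk_of_isFreeAlong F hV _ hηV
  have hn : n = 1 := (fr1At_generic_of_genInvertible F hrk).eq_one_of_basis bη
  subst hn
  obtain ⟨b⟩ := Groth.Agent.Helper4.FinLocFree2.nonempty_basis_stalk_of_isFreeAlong F hV x hxV
  exact IsFR1.of_basis b

/-- the stalk of the reflexive hull of `G'` at a factorial point of the closure of `U` is free of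
rank one, if the stalks of `G'` at the points of `U` are -/
theorem fr1At_ddual_of_ufd [IsLocallyNoetherian X] (G' : X.Modules) (hG' : Coh.IsCoh G')
    (U : X.Opens) (hU : ∀ z ∈ U, FR1At G' z) (x : X) (hx : x ∈ closure (U : Set X))
    [Nontrivial (X.presheaf.stalk x)]
    [hu : UniqueFactorizationMonoid (X.presheaf.stalk x)] : FR1At (RefHull.ddual G') x := by
  haveI : IsDomain (X.presheaf.stalk x) := isDomain_of_ufm _
  obtain ⟨W, hxW, hW⟩ := Groth.Agent.Helper3.RatNbhd.exists_integral_nbhd x
  haveI := hW
  let K := RefHull.ddual G'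
  have hK : Coh.IsCoh K := ReflExtC.isCoh_ddual G' hG'
  have hD : Coh.IsCoh (RefHull.dual G') := HomShE.isCoh_homSh G' _ hG' (HomShH.isCoh_unit X)
  let F : (W : Scheme.{u}).Modules := K.restrict W.ι
  have hF : Coh.IsCoh F := Groth.Agent.Lead.PcLib.isCoh_restrict W.ι hK
  have hFr : ∀ y : ↥(W : Scheme.{u}),
      Module.IsReflexive ((W : Scheme.{u}).presheaf.stalk y) (F.presheaf.stalk y) := by
    intro y
    haveI : IsDomain (X.presheaf.stalk (W.ι y)) := (ReflExtB.σ W y).toMulEquiv.isDomain _
    exact (ReflExtB.isReflexive_restrict_iff W K y).mpr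
      (ReflExtD.isReflexive_stalk_dual' (RefHull.dual G') hD (W.ι y))
  have hrefl : RefHull.IsReflexive F := ReflExtA.isReflexive_of_stalks F hF hFr
  have hFP := Groth.Agent.Helper4.CohFP.isFP_of_isCoh F hF.1 hF.2
  -- the generic point of `W` lies in `U`
  have hne : ((W.ι ⁻¹ᵁ U : (W : Scheme.{u}).Opens) : Set ↥(W : Scheme.{u})).Nonempty := by
    obtain ⟨y, hy1, hy2⟩ := mem_closure_iff.mp hx W W.isOpen hxW
    exact ⟨⟨y, hy1⟩, hy2⟩
  have hη : genericPoint ↥(W : Scheme.{u}) ∈ W.ι ⁻¹ᵁ U := genericPoint_mem _ hne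
  have hFη : FR1At F (genericPoint ↥(W : Scheme.{u})) :=
    (fr1At_restrict_iff W K _).mpr (fr1At_ddual G' hG' _ (hU _ hη))
  have hrk : RefHull.GenInvertible F := genInvertible_of_fr1At_generic F hFP hFη
  let y₀ : ↥(W : Scheme.{u}) := ⟨x, hxW⟩
  haveI : UniqueFactorizationMonoid ((W : Scheme.{u}).presheaf.stalk y₀) :=
    (ReflExtB.σ W y₀).toMulEquiv.uniqueFactorizationMonoid hu
  have h1 : FR1At F y₀ := fr1At_of_isReflexive_of_ufd F hF hrefl hrk y₀
  exact (fr1At_restrict_iff W K y₀).mp h1

end Groth.Agent.Lead.UFDExt
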