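import Mathlib
import Groth.Agent.Helper3.GlueInv
import Groth.Agent.Helper4.TwistExt
import Groth.Agent.Helper4.AmpleLocal
import Groth.Agent.Lead.UFDExtA
import Groth.Agent.Lead.PuncPicB

/-!
# Extending invertible modules across factorial points (S0234)

`exists_ext_of_local`, `bijective_of_isFrame`, `ι_app_bijective` are copied from
`Groth.Agent.Helper3.DiscPic2` (helper3) to avoid its heavy import closure.
-/

set_option autoImplicit false
set_option linter.style.haveILetI false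
set_option linter.unusedSectionVars false
set_option linter.unusedVariables false

universe u

open CategoryTheory CategoryTheory.Limits AlgebraicGeometry TopologicalSpace Opposite

namespace Groth.Agent.Lead.UFDExt

open Scheme.Modules Groth.Agent.Helper3.GlueInv
  Groth.Agent.Helper4.TensorInv Groth.Agent.Helper4.TwistExt
open Groth.Agent.Lead.Ref1C Groth.Agent.Lead.Ref1D

variable {X : Scheme.{u}}

/-- a frame gives bijections (copied from helper3's `DiscPic2`) -/
theorem bijective_of_isFrame {Y : Scheme.{u}} (N : Y.Modules) (T : Y.Opens) (e : Γ(N, T))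
    (h : IsFrame N T e) (T' : Y.Opens) (hT' : T' ≤ T) :
    Function.Bijective (fun r : Γ(Y, T') => r • N.presheaf.map (homOfLE hT').op e) := by
  obtain ⟨h1, h2⟩ := h T' hT'
  constructor
  · intro r r' hrr
    have : (r - r') • N.presheaf.map (homOfLE hT').op e = 0 := by
      rw [sub_smul]; exact sub_eq_zero.mpr hrr
    exact sub_eq_zero.mp (h2 _ this)
  · intro m
    obtain ⟨r, hr⟩ := h1 m
    exact ⟨r, hr.symm⟩

theorem ι_app_bijective (U T : X.Opens) (hT : T ≤ U) : Function.Bijective (U.ι.app T) := by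
  rw [Scheme.Opens.ι_app]
  apply presheaf_map_bijective_of_eq
  rw [Scheme.Hom.image_preimage_eq_opensRange_inf, Scheme.Opens.opensRange_ι]
  exact le_inf hT le_rfl

/-- extension of an invertible module from `U` to `X` from local trivialisations on opens `V z`
covering the complement and meeting pairwise inside `U` (copied from helper3's `DiscPic2`) -/
theorem exists_ext_of_local (U : X.Opens) (N : (↑U : Scheme.{u}).Modules)
    (hN : PicF.IsInvertible N) {Z : Type u} (V : Z → X.Opens)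
    (hV : ∀ z z' : Z, z ≠ z' → V z ⊓ V z' ≤ U) (hcov : ∀ x : X, x ∉ U → ∃ z, x ∈ V z)
    (G : Z → (↑U : Scheme.{u}).Opens) (hG : ∀ z, U.ι ⁻¹ᵁ (V z) ≤ G z)
    (htriv : ∀ z, IsTrivAlong N (G z).ι) :
    ∃ L : X.Modules, PicF.IsInvertible L ∧ Nonempty (L.restrict U.ι ≅ N) := by
  let M : X.Modules := (pushforward U.ι).obj N
  have hM : ∀ W : X.Opens,
      Function.Bijective (M.presheaf.map (homOfLE (inf_le_left : W ⊓ U ≤ W)).op) := by
    intro W
    have h1 : U.ι ⁻¹ᵁ (W ⊓ U) ≤ U.ι ⁻¹ᵁ W := fun y hy => hy.1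
    have h2 : U.ι ⁻¹ᵁ W ≤ U.ι ⁻¹ᵁ (W ⊓ U) := fun y hy => ⟨hy, y.2⟩
    exact map_bijective_of_eq (X := ↑U) N h1 h2
  have hex : ∀ z, ∃ i : N.restrict (G z).ι ≅ Coh.structureModule (↑(G z) : Scheme.{u}), True :=
    fun z => ⟨(htriv z).some, trivial⟩
  choose ε _ using hex
  have hfr := fun z => isFrame_of_triv N (G z) (ε z)
  have hle : ∀ z, U.ι ⁻¹ᵁ (V z ⊓ U) ≤ (G z).ι ''ᵁ ⊤ := by
    intro z
    rw [Scheme.Opens.ι_image_top]
    exact fun y hy => hG z hy.1
  let e : ∀ z, Γ(M, V z ⊓ U) := fun z =>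
    N.presheaf.map (homOfLE (hle z)).op
      ((ε z).inv.app ⊤ (Groth.Agent.Helper4.GenLoc.one (↑(G z) : Scheme.{u}) ⊤))
  have he : ∀ (z : Z) (T : X.Opens) (hT : T ≤ V z ⊓ U),
      Function.Bijective (fun r : Γ(X, T) => r • M.presheaf.map (homOfLE hT).op (e z)) := by
    intro z T hT
    have hT'' : U.ι ⁻¹ᵁ T ≤ U.ι ⁻¹ᵁ (V z ⊓ U) := fun y hy => hT hy
    have hT' : U.ι ⁻¹ᵁ T ≤ (G z).ι ''ᵁ ⊤ := hT''.trans (hle z)
    have hb := bijective_of_isFrame N _ _ (hfr z) (U.ι ⁻¹ᵁ T) hT'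
    have hb' := ι_app_bijective U T (hT.trans inf_le_right)
    have : (fun r : Γ(X, T) => r • M.presheaf.map (homOfLE hT).op (e z)) =
        (fun r' : Γ(↑U, U.ι ⁻¹ᵁ T) => r' • N.presheaf.map (homOfLE hT').op
          ((ε z).inv.app ⊤ (Groth.Agent.Helper4.GenLoc.one (↑(G z) : Scheme.{u}) ⊤))) ∘
          (U.ι.app T) := by
      funext r
      have h1 : M.presheaf.map (homOfLE hT).op (e z) =
          N.presheaf.map (homOfLE hT').op
            ((ε z).inv.app ⊤ (Groth.Agent.Helper4.GenLoc.one (↑(G z) : Scheme.{u}) ⊤)) := by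
        show (N.presheaf.map (homOfLE (hle z)).op ≫ N.presheaf.map (homOfLE hT'').op) _ = _
        rw [← N.presheaf.map_comp]
        rfl
      rw [h1]
      rfl
    rw [this]
    exact hb.comp hb'
  obtain ⟨L, π₀, π, hπ₀, hπ, -, -⟩ := glue U M hM V hV e he
  haveI : IsIso ((restrictFunctor U.ι).map π₀) :=
    (Groth.Agent.Helper4.GenLoc.isIso_restrict_iff π₀ U).mpr hπ₀
  let i : L.restrict U.ι ≅ N :=
    asIso ((restrictFunctor U.ι).map π₀) ≪≫ asIso ((restrictAdjunction U.ι).counit.app N)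
  refine ⟨L, ?_, ⟨i⟩⟩
  apply Groth.Agent.Helper4.AmpleLocal.isInvertible_of_cover
  intro x
  by_cases hxU : x ∈ U
  · refine ⟨↑U, U.ι, inferInstance, ?_, ?_⟩
    · rw [Scheme.Opens.range_ι]; exact hxU
    · exact Groth.Agent.Helper4.AmpleIso.isInvertible_of_iso i.symm hN
  · obtain ⟨z, hz⟩ := hcov x hxU
    refine ⟨↑(V z), (V z).ι, inferInstance, ?_, ?_⟩
    · rw [Scheme.Opens.range_ι]; exact hz
    · haveI : IsIso ((restrictFunctor (V z).ι).map (π z)) :=
        (Groth.Agent.Helper4.GenLoc.isIso_restrict_iff (π z) (V z)).mpr (hπ z)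
      exact Groth.Agent.Helper4.AmpleIso.isInvertible_of_iso
        ((asIso ((restrictFunctor (V z).ι).map (π z)) ≪≫ RzIso V z).symm)
        Groth.Agent.Helper4.TensorInv.isInvertible_structureModule

/-- restriction in two steps -/
noncomputable def restrictLEIso {U U₁ : X.Opens} (h : U ≤ U₁) (M : X.Modules) :
    (M.restrict U₁.ι).restrict (X.homOfLE h) ≅ M.restrict U.ι :=
  ((Scheme.Modules.restrictFunctorComp (X.homOfLE h) U₁.ι).app M).symm ≪≫
    (Scheme.Modules.restrictFunctorCongr (X.homOfLE_ι h)).app M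

/-- extension of an invertible module from a clopen subset -/
theorem exists_ext_of_clopen (U₁ V' : X.Opens) (hdisj : U₁ ⊓ V' ≤ ⊥)
    (hcov : ∀ x : X, x ∉ U₁ → x ∈ V') (N : (↑U₁ : Scheme.{u}).Modules)
    (hN : PicF.IsInvertible N) :
    ∃ L : X.Modules, PicF.IsInvertible L ∧ Nonempty (L.restrict U₁.ι ≅ N) := by
  refine exists_ext_of_local U₁ N hN (Z := PUnit.{u + 1}) (fun _ => V')
    (fun z z' hzz' => (hzz' rfl).elim) (fun x hx => ⟨⟨⟩, hcov x hx⟩)
    (fun _ => U₁.ι ⁻¹ᵁ V') (fun _ => le_rfl) (fun _ => ?_)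
  haveI : IsEmpty ↥((U₁.ι ⁻¹ᵁ V' : (↑U₁ : Scheme.{u}).Opens) : Scheme.{u}) :=
    ⟨fun y => (hdisj ⟨y.1.2, y.2⟩).elim⟩
  exact Groth.Agent.Lead.PuncPic.nonempty_iso_of_isEmpty _ _

/-- **S0234** -/
theorem main (X : Scheme.{u}) [IsLocallyNoetherian X] (U : X.Opens)
    (L : (U : Scheme.{u}).Modules) (hL : PicF.IsInvertible L)
    (hufd : ∀ x : X, x ∉ U → UniqueFactorizationMonoid (X.presheaf.stalk x)) :
    ∃ L' : X.Modules, PicF.IsInvertible L' ∧ Nonempty (L'.restrict U.ι ≅ L) := by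
  have hLc : Coh.IsCoh L := Ref1K.isCoh_of_isInvertible L hL
  haveI : Coh.IsQCoh L := hLc.1
  obtain ⟨G', hG'q, hG'ft, ⟨i⟩⟩ :=
    Groth.Agent.S2252.result (fun x => ReflExtC.exists_noetherian_nhd x) U L hLc.2
  have hG' : Coh.IsCoh G' := ⟨hG'q, hG'ft⟩
  let K := RefHull.ddual G'
  have hK : Coh.IsCoh K := ReflExtC.isCoh_ddual G' hG'
  -- the stalks of `G'` on `U`
  have hGU : ∀ z ∈ U, FR1At G' z := by
    intro z hz
    have h1 : FR1At (G'.restrict U.ι) ⟨z, hz⟩ :=
      fr1At_of_iso i.symm _ (Ref1K.fr1At_of_isInvertible L hL ⟨z, hz⟩)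
    exact (fr1At_restrict_iff U G' ⟨z, hz⟩).mp h1
  have hG'r : ∀ x ∈ U, Module.IsReflexive (X.presheaf.stalk x) (G'.presheaf.stalk x) := by
    intro x hx
    haveI := (hGU x hx).free
    haveI := (hGU x hx).finite
    infer_instance
  haveI := ReflExtC.isIso_restrict_bidualMap U G' hG' hG'r
  let β : G'.restrict U.ι ≅ K.restrict U.ι :=
    asIso ((Scheme.Modules.restrictFunctor U.ι).map (RefHull.bidualMap G'))
  -- the closure of `U` is open
  have hdom : ∀ x : X, x ∉ U → IsDomain (X.presheaf.stalk x) := fun x hx => by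
    haveI := hufd x hx
    exact isDomain_of_ufm _
  let U₁ : X.Opens := ⟨closure (U : Set X), isOpen_closure U hdom⟩
  let V' : X.Opens := ⟨(closure (U : Set X))ᶜ, isClosed_closure.isOpen_compl⟩
  have hUU₁ : U ≤ U₁ := fun x hx => subset_closure hx
  -- the stalks of `K` on the closure
  have hfr : ∀ x ∈ U₁, FR1At K x := by
    intro x hx
    by_cases hxU : x ∈ U
    · exact fr1At_ddual G' hG' x (hGU x hxU)
    · haveI := hufd x hxU
      exact fr1At_ddual_of_ufd G' hG' U hGU x hx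
  let N : (↑U₁ : Scheme.{u}).Modules := K.restrict U₁.ι
  have hNc : Coh.IsCoh N := Groth.Agent.Lead.PcLib.isCoh_restrict U₁.ι hK
  have hNFP := Groth.Agent.Helper4.CohFP.isFP_of_isCoh N hNc.1 hNc.2
  have hN : PicF.IsInvertible N := fun y =>
    exists_iso_unit_of_fr1At N hNFP y ((fr1At_restrict_iff U₁ K y).mpr (hfr y.1 y.2))
  obtain ⟨L', hL', ⟨j⟩⟩ := exists_ext_of_clopen U₁ V' (fun x hx => (hx.2 hx.1).elim)
    (fun x hx => hx) N hN
  refine ⟨L', hL', ⟨?_⟩⟩
  exact (restrictLEIso hUU₁ L').symm ≪≫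
    (Scheme.Modules.restrictFunctor (X.homOfLE hUU₁)).mapIso j ≪≫
    restrictLEIso hUU₁ K ≪≫ β.symm ≪≫ i

end Groth.Agent.Lead.UFDExt
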