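import Groth.Agent.Lead.UMulA
import Groth.Agent.Helper5.IsoRep2
import Groth.Agent.Helper5.OrbRed2
import Groth.Agent.Helper4.GeomConnSch
import Groth.Agent.S2358

/-!
# Unital multiplications on proper varieties over an algebraically closed field:
right translations are isomorphisms
-/

set_option autoImplicit false
universe u

open CategoryTheory CategoryTheory.Limits MonoidalCategory CartesianMonoidalCategory MonObj GrpObj
  AlgebraicGeometry

namespace Groth.Agent.Lead.UMul

/-- if a base change of an `Z`-morphism of proper flat f.p. schemes is an isomorphism, the morphism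
is an isomorphism over a neighbourhood of the image points. -/
theorem iso_near {X Y Z : Scheme.{u}} (f : X ⟶ Y) (g : X ⟶ Z) (h : Y ⟶ Z) (w : f ≫ h = g)
    [IsProper g] [LocallyOfFinitePresentation g] [Flat g] [IsProper h]
    [LocallyOfFinitePresentation h]
    {S' : Scheme.{u}} (h' : S' ⟶ Z) (f' : pullback g h' ⟶ pullback h h')
    (h1 : f' ≫ pullback.fst h h' = pullback.fst g h' ≫ f)
    (h2 : f' ≫ pullback.snd h h' = pullback.snd g h') [IsIso f'] (s' : S') :
    ∃ U : Z.Opens, h' s' ∈ U ∧ IsIso (f ∣_ (h ⁻¹ᵁ U)) := by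
  haveI := Helper5.IsoRep.isIso_fiberMapOver_of_isIso_bc f g h w h' f' h1 h2 s'
  exact Helper5.FibIso.main_fp f g h w (h' s')

theorem geometricallyConnected_of_irr {X Y : Scheme.{u}} (f : X ⟶ Y)
    [GeometricallyIrreducible f] : GeometricallyConnected f :=
  ⟨fun K _ y Z fst snd h => by
    haveI : IrreducibleSpace Z :=
      GeometricallyIrreducible.geometrically_irreducibleSpace y fst snd h
    infer_instance⟩

theorem geometricallyReduced_comp_openImm {U X Y : Scheme.{u}} (j : U ⟶ X) [IsOpenImmersion j]
    (f : X ⟶ Y) [GeometricallyReduced f] : GeometricallyReduced (j ≫ f) := by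
  refine ⟨geometrically_iff_of_isClosedUnderIsomorphisms.mpr fun K _ y => ?_⟩
  haveI : IsReduced (pullback f y) :=
    pullback_of_geometrically GeometricallyReduced.geometrically_isReduced K y
  haveI : IsReduced (pullback j (pullback.fst f y)) :=
    isReduced_of_isOpenImmersion (pullback.snd j (pullback.fst f y))
  exact isReduced_of_isOpenImmersion (pullbackRightPullbackFstIso f y j).inv

variable {S : Scheme.{u}}

theorem isPreconnected_fibre_tensor (X : Over S) [Flat X.hom] [LocallyOfFinitePresentation X.hom]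
    [GeometricallyIntegral X.hom] (s : S) :
    _root_.IsPreconnected ((X ⊗ X).hom ⁻¹' {s}) := by
  haveI : GeometricallyConnected X.hom := geometricallyConnected_of_irr X.hom
  haveI : GeometricallyConnected (pullback.fst X.hom X.hom) := inferInstance
  haveI : GeometricallyConnected (pullback.fst X.hom X.hom ≫ X.hom) :=
    GeometricallyConnected.comp _ _
  have h : (X ⊗ X).hom = pullback.fst X.hom X.hom ≫ X.hom := rfl
  rw [h]
  exact (Scheme.Hom.isConnected_preimage_singleton _ s).isPreconnected

section Shear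

variable (X : Over S) (e : 𝟙_ (Over S) ⟶ X) (m : X ⊗ X ⟶ X)

/-- the shear map `(x, y) ↦ (x, m(x,y))` -/
noncomputable def shear : X ⊗ X ⟶ X ⊗ X := lift (fst X X) m

theorem shear_fst : shear X m ≫ fst X X = fst X X := lift_fst _ _

theorem shear_snd : shear X m ≫ snd X X = m := lift_snd _ _

theorem near_unit [IsProper X.hom] [Flat X.hom] [LocallyOfFinitePresentation X.hom]
    (h₂ : lift (toUnit X ≫ e) (𝟙 X) ≫ m = 𝟙 X) (s : S) :
    ∃ U : X.left.Opens, (e.left : S ⟶ X.left) s ∈ U ∧
      IsIso ((shear X m).left ∣_ ((fst X X).left ⁻¹ᵁ U)) := by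
  have w : (shear X m).left ≫ (fst X X).left = (fst X X).left :=
    congrArg CommaMorphism.left (shear_fst X m)
  haveI : IsProper (fst X X).left := by
    show IsProper (pullback.fst X.hom X.hom); infer_instance
  haveI : Flat (fst X X).left := by
    show Flat (pullback.fst X.hom X.hom); infer_instance
  haveI : LocallyOfFinitePresentation (fst X X).left := by
    show LocallyOfFinitePresentation (pullback.fst X.hom X.hom); infer_instance
  let ε : S ⟶ X.left := e.left
  have hε : ε ≫ X.hom = 𝟙 S := Over.w e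
  let p : pullback (fst X X).left ε ⟶ (X ⊗ X).left := pullback.fst _ _
  let QO : Over S := Over.mk (p ≫ (X ⊗ X).hom)
  let pO : QO ⟶ X ⊗ X := Over.homMk p rfl
  have hp1 : pO ≫ fst X X = toUnit QO ≫ e := by
    apply Over.OverMorphism.ext
    show p ≫ (fst X X).left = (p ≫ (X ⊗ X).hom) ≫ ε
    have c : p ≫ (fst X X).left = pullback.snd (fst X X).left ε ≫ ε := pullback.condition
    have h2 : (fst X X).left ≫ X.hom = (X ⊗ X).hom := Over.w (fst X X)
    have h3 : pullback.snd (fst X X).left ε = p ≫ (X ⊗ X).hom := by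
      calc pullback.snd (fst X X).left ε = pullback.snd (fst X X).left ε ≫ ε ≫ X.hom := by
            rw [hε, Category.comp_id]
        _ = p ≫ (X ⊗ X).hom := by rw [← Category.assoc, ← c, Category.assoc, h2]
    rw [c, h3]
  have hfix : pO ≫ shear X m = pO := by
    apply CartesianMonoidalCategory.hom_ext
    · rw [Category.assoc, shear_fst]
    · rw [Category.assoc, shear_snd]
      have h4 : pO = lift (pO ≫ fst X X) (pO ≫ snd X X) := by
        apply CartesianMonoidalCategory.hom_ext
        · rw [lift_fst]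
        · rw [lift_snd]
      conv_lhs => rw [h4]
      rw [hp1]
      exact one_star e m h₂ _
  have h1 : 𝟙 (pullback (fst X X).left ε) ≫ pullback.fst (fst X X).left ε =
      pullback.fst (fst X X).left ε ≫ (shear X m).left := by
    rw [Category.id_comp]
    exact (congrArg CommaMorphism.left hfix).symm
  exact iso_near (shear X m).left (fst X X).left (fst X X).left w ε
    (𝟙 (pullback (fst X X).left ε)) h1 (Category.id_comp _) s

theorem exists_graph (U : X.left.Opens)
    [IsIso ((shear X m).left ∣_ ((fst X X).left ⁻¹ᵁ U))] :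
    ∃ gr : (U : Scheme.{u}) ⟶ (X ⊗ X).left, gr ≫ (fst X X).left = U.ι ∧
      gr ≫ m.left = U.ι ≫ X.hom ≫ (e.left : S ⟶ X.left) := by
  let N : (X ⊗ X).left.Opens := (fst X X).left ⁻¹ᵁ U
  let UO : Over S := Over.mk (U.ι ≫ X.hom)
  let ιO : UO ⟶ X := Over.homMk U.ι rfl
  let jO : UO ⟶ X ⊗ X := lift ιO (toUnit UO ≫ e)
  have hj1 : jO.left ≫ (fst X X).left = U.ι :=
    congrArg CommaMorphism.left (lift_fst ιO (toUnit UO ≫ e))
  have hj2 : jO.left ≫ (snd X X).left = U.ι ≫ X.hom ≫ (e.left : S ⟶ X.left) := by
    have h := congrArg CommaMorphism.left (lift_snd ιO (toUnit UO ≫ e))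
    exact h.trans (Category.assoc U.ι X.hom _)
  have hr : Set.range jO.left ⊆ Set.range N.ι := by
    rintro _ ⟨u, rfl⟩
    rw [Scheme.Opens.range_ι]
    show (fst X X).left (jO.left u) ∈ U
    rw [← Scheme.Hom.comp_apply, hj1]
    exact u.2
  let jN := IsOpenImmersion.lift N.ι jO.left hr
  have hjN : jN ≫ N.ι = jO.left := IsOpenImmersion.lift_fac _ _ _
  let gr := jN ≫ inv ((shear X m).left ∣_ N) ≫ ((shear X m).left ⁻¹ᵁ N).ι
  have hgr : gr ≫ (shear X m).left = jO.left := by
    simp only [gr, Category.assoc]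
    rw [← morphismRestrict_ι, IsIso.inv_hom_id_assoc, hjN]
  have w1 : (shear X m).left ≫ (fst X X).left = (fst X X).left :=
    congrArg CommaMorphism.left (shear_fst X m)
  have w2 : (shear X m).left ≫ (snd X X).left = m.left :=
    congrArg CommaMorphism.left (shear_snd X m)
  clear_value gr
  refine ⟨gr, ?_, ?_⟩
  · calc gr ≫ (fst X X).left = (gr ≫ (shear X m).left) ≫ (fst X X).left := by
          rw [Category.assoc, w1]
      _ = U.ι := by rw [hgr, hj1]
  · calc gr ≫ m.left = (gr ≫ (shear X m).left) ≫ (snd X X).left := by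
          rw [Category.assoc, w2]
      _ = U.ι ≫ X.hom ≫ (e.left : S ⟶ X.left) := by rw [hgr, hj2]

end Shear

end Groth.Agent.Lead.UMul
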