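import Groth.Agent.Lead.UMulB

/-!
# Unital multiplications on proper varieties over an algebraically closed field:
right translations by rational points are isomorphisms
-/

set_option autoImplicit false
universe u

open CategoryTheory CategoryTheory.Limits MonoidalCategory CartesianMonoidalCategory MonObj GrpObj
  AlgebraicGeometry

namespace Groth.Agent.Lead.UMul

section Field

variable {k : Type u} [Field k] [IsAlgClosed k]

set_option maxHeartbeats 1600000 in
theorem isIso_rho_field (X : Over (Spec (CommRingCat.of k))) [IsProper X.hom] [Flat X.hom]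
    [LocallyOfFinitePresentation X.hom] [GeometricallyIntegral X.hom]
    (e : 𝟙_ (Over (Spec (CommRingCat.of k))) ⟶ X) (m : X ⊗ X ⟶ X)
    (h₁ : lift (𝟙 X) (toUnit X ≫ e) ≫ m = 𝟙 X) (h₂ : lift (toUnit X ≫ e) (𝟙 X) ≫ m = 𝟙 X)
    (x : 𝟙_ (Over (Spec (CommRingCat.of k))) ⟶ X) :
    IsIso (lift (𝟙 X) (toUnit X ≫ x) ≫ m) := by
  let ε : (Spec (CommRingCat.of k)) ⟶ X.left := e.left
  have hε : ε ≫ X.hom = 𝟙 (Spec (CommRingCat.of k)) := Over.w e
  let b₀ : (Spec (CommRingCat.of k)) := IsLocalRing.closedPoint k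
  haveI : Subsingleton (Spec (CommRingCat.of k)) := inferInstanceAs (Subsingleton (PrimeSpectrum k))
  haveI : IsIntegral X.left := GeometricallyIntegral.isIntegral_of_subsingleton X.hom
  haveI : IsLocallyNoetherian X.left := LocallyOfFiniteType.isLocallyNoetherian X.hom
  have hPhom : (X ⊗ X).hom = (fst X X).left ≫ X.hom := (Over.w (fst X X)).symm
  haveI : IsProper (fst X X).left := by
    show IsProper (pullback.fst X.hom X.hom); infer_instance
  haveI : IsProper (X ⊗ X).hom := by rw [hPhom]; infer_instance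
  obtain ⟨U, he₀U, hU⟩ := near_unit X e m h₂ b₀
  haveI := hU
  obtain ⟨gr, hgr1, hgr2⟩ := exists_graph X e m U
  haveI : Nonempty (U : Scheme.{u}) := ⟨⟨ε b₀, he₀U⟩⟩
  haveI : IsIntegral (U : Scheme.{u}) := isIntegral_of_isOpenImmersion U.ι
  haveI : QuasiCompact gr := by
    haveI : QuasiCompact (gr ≫ (fst X X).left) := by rw [hgr1]; infer_instance
    exact QuasiCompact.of_comp gr (fst X X).left
  haveI : IsIntegral gr.image := Groth.Agent.S2358.isIntegral_image gr
  -- the closure of the graph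
  let VO : Over (Spec (CommRingCat.of k)) := Over.mk (gr.imageι ≫ (X ⊗ X).hom)
  let ιO : VO ⟶ X ⊗ X := Over.homMk gr.imageι rfl
  obtain ⟨a, ha⟩ : ∃ a : VO ⟶ X, a = ιO ≫ fst X X := ⟨_, rfl⟩
  obtain ⟨b, hb⟩ : ∃ b : VO ⟶ X, b = ιO ≫ snd X X := ⟨_, rfl⟩
  have haL : a.left = gr.imageι ≫ (fst X X).left := by rw [ha]; rfl
  have hτ : gr.toImage ≫ VO.hom = U.ι ≫ X.hom := by
    show gr.toImage ≫ gr.imageι ≫ (X ⊗ X).hom = _
    rw [gr.toImage_imageι_assoc, hPhom, ← Category.assoc, hgr1]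
  have hkey : ιO ≫ m = toUnit VO ≫ e := by
    apply Over.OverMorphism.ext
    show gr.imageι ≫ m.left = (gr.imageι ≫ (X ⊗ X).hom) ≫ ε
    refine ext_of_isDominant_of_isSeparated X.hom ?_ gr.toImage ?_
    · rw [Category.assoc, Over.w m, Category.assoc, Category.assoc, hε, Category.comp_id]
    · rw [gr.toImage_imageι_assoc, hgr2]
      calc U.ι ≫ X.hom ≫ ε = (gr.toImage ≫ VO.hom) ≫ ε := by rw [hτ, Category.assoc]
        _ = gr.toImage ≫ (gr.imageι ≫ (X ⊗ X).hom) ≫ ε := Category.assoc _ _ _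
  have hab : star m a b = toUnit VO ≫ e := by
    have h4 : lift a b = ιO := by
      apply CartesianMonoidalCategory.hom_ext
      · rw [lift_fst, ha]
      · rw [lift_snd, hb]
    rw [star, h4, hkey]
  -- instances for `VO`
  haveI : IsProper VO.hom := by
    show IsProper (gr.imageι ≫ (X ⊗ X).hom); infer_instance
  haveI : Flat VO.hom := inferInstance
  haveI : LocallyOfFinitePresentation VO.hom :=
    LocallyOfFinitePresentation.iff_locallyOfFiniteType.mpr inferInstance
  haveI : IsIntegral VO.left := ‹IsIntegral gr.image›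
  haveI : GeometricallyReduced VO.hom := by
    haveI := geometricallyReduced_comp_openImm U.ι X.hom
    exact Helper5.OrbRed.geometricallyReduced_of_denseRange k (U.ι ≫ X.hom) VO.hom
      gr.toImage hτ gr.toImage.denseRange
  haveI : GeometricallyConnected VO.hom := by
    haveI : Surjective (U.ι ≫ X.hom) := ⟨fun y => ⟨⟨ε b₀, he₀U⟩, Subsingleton.elim _ _⟩⟩
    haveI : GeometricallyIrreducible (U.ι ≫ X.hom) := inferInstance
    haveI : GeometricallyConnected (gr.toImage ≫ VO.hom) := by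
      rw [hτ]; exact geometricallyConnected_of_irr _
    exact Helper4.GeomConnSch.geometricallyConnected_of_source gr.toImage VO.hom
  -- the point `v₀`
  have hεU : Set.range ε ⊆ Set.range U.ι := by
    rintro _ ⟨y, rfl⟩
    rw [Scheme.Opens.range_ι, Subsingleton.elim y b₀]
    exact he₀U
  let eU : (Spec (CommRingCat.of k)) ⟶ U := IsOpenImmersion.lift U.ι ε hεU
  have heU : eU ≫ U.ι = ε := IsOpenImmersion.lift_fac _ _ _
  let v₀ : 𝟙_ (Over (Spec (CommRingCat.of k))) ⟶ VO := Over.homMk (eU ≫ gr.toImage) (by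
    show (eU ≫ gr.toImage) ≫ VO.hom = 𝟙 (Spec (CommRingCat.of k))
    rw [Category.assoc, hτ, ← Category.assoc, heU, hε])
  have hv₀a : v₀ ≫ a = e := by
    apply Over.OverMorphism.ext
    show (eU ≫ gr.toImage) ≫ a.left = ε
    rw [haL, Category.assoc, gr.toImage_imageι_assoc, hgr1, heU]
  have hv₀b : v₀ ≫ b = e := by
    have h : star m (v₀ ≫ a) (v₀ ≫ b) = e := by
      rw [← comp_star, hab, ← Category.assoc, comp_toUnit, toUnit_unit, Category.id_comp]
    rw [hv₀a] at h
    have h3 := one_star e m h₂ (v₀ ≫ b)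
    rw [toUnit_unit, Category.id_comp] at h3
    rw [← h3, h]
  -- rigidity
  let Φ : (X ⊗ X) ⊗ VO ⟶ X :=
    star m (star m (fst (X ⊗ X) VO ≫ fst X X) (star m (fst (X ⊗ X) VO ≫ snd X X) (snd (X ⊗ X) VO ≫ a)))
      (snd (X ⊗ X) VO ≫ b)
  have hB : ∀ s : (Spec (CommRingCat.of k)), _root_.IsPreconnected ((X ⊗ X).hom ⁻¹' {s}) := isPreconnected_fibre_tensor X
  have hΦ1 : lift (toUnit VO ≫ lift e e) (𝟙 VO) ≫ Φ = toUnit VO ≫ e := by
    simp only [Φ, comp_star, lift_fst_assoc, lift_snd_assoc, lift_fst, lift_snd, Category.assoc,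
      Category.id_comp]
    rw [one_star e m h₂, one_star e m h₂]
    exact hab
  have hrig := lemmaR3 VO (X ⊗ X) X v₀ (lift e e) hB e Φ hΦ1
  have hΦ2 : lift (𝟙 (X ⊗ X)) (toUnit (X ⊗ X) ≫ v₀) ≫ Φ = m := by
    simp only [Φ, comp_star, lift_fst_assoc, lift_snd_assoc, lift_fst, lift_snd, Category.assoc,
      Category.id_comp]
    rw [hv₀a, hv₀b, star_one e m h₁, star_one e m h₁, star, lift_fst_snd, Category.id_comp]
  -- consequence on points
  have hpt : ∀ v : 𝟙_ (Over (Spec (CommRingCat.of k))) ⟶ VO,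
      (lift (𝟙 X) (toUnit X ≫ v ≫ a) ≫ m) ≫ (lift (𝟙 X) (toUnit X ≫ v ≫ b) ≫ m) = 𝟙 X := by
    intro v
    have h := congrArg (fun t => lift (lift (toUnit X ≫ e) (𝟙 X)) (toUnit X ≫ v) ≫ t) hrig
    beta_reduce at h
    rw [lift_fst_assoc, hΦ2] at h
    simp only [Φ, comp_star, lift_fst_assoc, lift_snd_assoc, lift_fst, lift_snd, Category.assoc,
      Category.id_comp] at h
    rw [one_star e m h₂, h₂] at h
    refine Eq.trans ?_ h
    show star m (𝟙 X) (toUnit X ≫ v ≫ a) ≫ star m (𝟙 X) (toUnit X ≫ v ≫ b) = _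
    rw [comp_star, Category.comp_id, ← Category.assoc (star m (𝟙 X) (toUnit X ≫ v ≫ a)),
      comp_toUnit]
  -- surjectivity of `a` on rational points
  haveI : IsProper a.left := by
    rw [haL]; infer_instance
  have ha_surj : Set.range a.left = Set.univ := by
    have hcl : IsClosed (Set.range a.left) := a.left.isClosedMap.isClosed_range
    have hta : gr.toImage ≫ a.left = U.ι := by
      rw [haL, gr.toImage_imageι_assoc, hgr1]
    have hsub : (U : Set X.left) ⊆ Set.range a.left := by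
      intro y hy
      refine ⟨gr.toImage ⟨y, hy⟩, ?_⟩
      rw [← Scheme.Hom.comp_apply, hta]
      rfl
    have hdense : Dense (U : Set X.left) := U.isOpen.dense ⟨ε b₀, he₀U⟩
    rw [← hcl.closure_eq]
    exact (hdense.mono hsub).closure_eq
  have hsurj : ∀ c : 𝟙_ (Over (Spec (CommRingCat.of k))) ⟶ X, ∃ v : 𝟙_ (Over (Spec (CommRingCat.of k))) ⟶ VO, v ≫ a = c := by
    intro c
    have hc : (c.left : (Spec (CommRingCat.of k)) ⟶ X.left) ≫ X.hom = 𝟙 (Spec (CommRingCat.of k)) := Over.w c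
    have hcl : IsClosed ({(c.left : (Spec (CommRingCat.of k)) ⟶ X.left) b₀} : Set X.left) :=
      (pointEquivClosedPoint X.hom ⟨c.left, hc⟩).2
    haveI : JacobsonSpace ↥VO.left := LocallyOfFiniteType.jacobsonSpace VO.hom
    have hne : (a.left ⁻¹' {(c.left : (Spec (CommRingCat.of k)) ⟶ X.left) b₀}).Nonempty := by
      have : (c.left : (Spec (CommRingCat.of k)) ⟶ X.left) b₀ ∈ Set.range a.left := by rw [ha_surj]; trivial
      obtain ⟨v, hv⟩ := this
      exact ⟨v, hv⟩
    obtain ⟨v, hv1, hv2⟩ := nonempty_inter_closedPoints hne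
      (hcl.preimage a.left.continuous).isLocallyClosed
    have hv2' : IsClosed ({v} : Set VO.left) := hv2
    refine ⟨Over.homMk (pointOfClosedPoint VO.hom v hv2') (pointOfClosedPoint_comp VO.hom v hv2'),
      ?_⟩
    apply Over.OverMorphism.ext
    show pointOfClosedPoint VO.hom v hv2' ≫ a.left = c.left
    refine ext_of_apply_closedPoint_eq X.hom ?_ hc ?_
    · rw [Category.assoc, Over.w a]
      exact pointOfClosedPoint_comp VO.hom v hv2'
    · rw [Scheme.Hom.comp_apply, pointOfClosedPoint_apply]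
      exact hv1
  obtain ⟨v₁, hv₁⟩ := hsurj x
  obtain ⟨v₂, hv₂⟩ := hsurj (v₁ ≫ b)
  have e1 := hpt v₁
  have e2 := hpt v₂
  rw [hv₁] at e1
  rw [hv₂] at e2
  have e3 : lift (𝟙 X) (toUnit X ≫ x) ≫ m = lift (𝟙 X) (toUnit X ≫ v₂ ≫ b) ≫ m := by
    calc lift (𝟙 X) (toUnit X ≫ x) ≫ m
        = (lift (𝟙 X) (toUnit X ≫ x) ≫ m) ≫ (lift (𝟙 X) (toUnit X ≫ v₁ ≫ b) ≫ m) ≫
            (lift (𝟙 X) (toUnit X ≫ v₂ ≫ b) ≫ m) := by rw [e2, Category.comp_id]
      _ = lift (𝟙 X) (toUnit X ≫ v₂ ≫ b) ≫ m := by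
          rw [← Category.assoc (lift (𝟙 X) (toUnit X ≫ x) ≫ m), e1, Category.id_comp]
  exact ⟨⟨lift (𝟙 X) (toUnit X ≫ v₁ ≫ b) ≫ m, e1, by rw [e3]; exact e2⟩⟩

end Field

end Groth.Agent.Lead.UMul
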