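import Groth.Agent.Lead.UMulC

/-!
# Unital multiplications on proper flat families with geometrically integral fibres:
the shear map `(x, y) ↦ (m(x,y), y)` is an isomorphism
-/

set_option autoImplicit false
universe u

open CategoryTheory CategoryTheory.Limits MonoidalCategory CartesianMonoidalCategory
  AlgebraicGeometry

namespace Groth.Agent.Lead.UMul

variable {S : Scheme.{u}}

theorem tensor_left_ext {T : Scheme.{u}} (X Y : Over S) (u v : T ⟶ (X ⊗ Y).left)
    (h1 : u ≫ (fst X Y).left = v ≫ (fst X Y).left)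
    (h2 : u ≫ (snd X Y).left = v ≫ (snd X Y).left) : u = v :=
  pullback.hom_ext h1 h2

section BC

variable {S' : Scheme.{u}} (f : S' ⟶ S)

theorem pb_map_fst {A B : Over S} (k : A ⟶ B) :
    ((Over.pullback f).map k).left ≫ pullback.fst B.hom f = pullback.fst A.hom f ≫ k.left :=
  pullback.lift_fst _ _ _

variable (X : Over S) (e : 𝟙_ (Over S) ⟶ X) (m : X ⊗ X ⟶ X)

/-- base change of the multiplication -/
noncomputable def bcMul :
    (Over.pullback f).obj X ⊗ (Over.pullback f).obj X ⟶ (Over.pullback f).obj X :=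
  Functor.LaxMonoidal.μ (Over.pullback f) X X ≫ (Over.pullback f).map m

/-- base change of the unit -/
noncomputable def bcOne : 𝟙_ (Over S') ⟶ (Over.pullback f).obj X :=
  Functor.LaxMonoidal.ε (Over.pullback f) ≫ (Over.pullback f).map e

theorem toUnit_bcOne :
    toUnit ((Over.pullback f).obj X) ≫ bcOne f X e = (Over.pullback f).map (toUnit X ≫ e) := by
  rw [bcOne, Functor.Monoidal.toUnit_ε_assoc, ← Functor.map_comp]

theorem bc_unit_right (h₁ : lift (𝟙 X) (toUnit X ≫ e) ≫ m = 𝟙 X) :
    lift (𝟙 _) (toUnit _ ≫ bcOne f X e) ≫ bcMul f X m = 𝟙 ((Over.pullback f).obj X) := by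
  rw [toUnit_bcOne, bcMul, ← (Over.pullback f).map_id, ← Category.assoc,
    Functor.Monoidal.lift_μ, ← Functor.map_comp, h₁]

theorem bc_unit_left (h₂ : lift (toUnit X ≫ e) (𝟙 X) ≫ m = 𝟙 X) :
    lift (toUnit _ ≫ bcOne f X e) (𝟙 _) ≫ bcMul f X m = 𝟙 ((Over.pullback f).obj X) := by
  rw [toUnit_bcOne, bcMul, ← (Over.pullback f).map_id, ← Category.assoc,
    Functor.Monoidal.lift_μ, ← Functor.map_comp, h₂]

end BC

section Step

variable (X : Over S) [IsProper X.hom] [Flat X.hom] [LocallyOfFinitePresentation X.hom]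
  [GeometricallyIntegral X.hom] (e : 𝟙_ (Over S) ⟶ X) (m : X ⊗ X ⟶ X)

set_option maxHeartbeats 1600000 in
theorem bc_step (h₁ : lift (𝟙 X) (toUnit X ≫ e) ≫ m = 𝟙 X)
    (h₂ : lift (toUnit X ≫ e) (𝟙 X) ≫ m = 𝟙 X)
    {Ω : Type u} [Field Ω] [IsAlgClosed Ω]
    (xb : Spec (CommRingCat.of Ω) ⟶ X.left) (sb : Spec (CommRingCat.of Ω) ⟶ S)
    (hsb : xb ≫ X.hom = sb) (t : Spec (CommRingCat.of Ω)) :
    ∃ U : X.left.Opens, xb t ∈ U ∧
      IsIso ((lift m (snd X X)).left ∣_ ((snd X X).left ⁻¹ᵁ U)) := by
  have w : (lift m (snd X X)).left ≫ (snd X X).left = (snd X X).left :=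
    congrArg CommaMorphism.left (lift_snd m (snd X X))
  have wf : (lift m (snd X X)).left ≫ (fst X X).left = m.left :=
    congrArg CommaMorphism.left (lift_fst m (snd X X))
  haveI : IsProper (snd X X).left := by
    show IsProper (pullback.snd X.hom X.hom); infer_instance
  haveI : Flat (snd X X).left := by
    show Flat (pullback.snd X.hom X.hom); infer_instance
  haveI : LocallyOfFinitePresentation (snd X X).left := by
    show LocallyOfFinitePresentation (pullback.snd X.hom X.hom); infer_instance
  -- the base-changed structure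
  obtain ⟨X', hX'⟩ : ∃ X' : Over (Spec (CommRingCat.of Ω)), X' = (Over.pullback sb).obj X :=
    ⟨_, rfl⟩
  subst hX'
  haveI : IsProper ((Over.pullback sb).obj X).hom := by
    show IsProper (pullback.snd X.hom sb); infer_instance
  haveI : Flat ((Over.pullback sb).obj X).hom := by
    show Flat (pullback.snd X.hom sb); infer_instance
  haveI : LocallyOfFinitePresentation ((Over.pullback sb).obj X).hom := by
    show LocallyOfFinitePresentation (pullback.snd X.hom sb); infer_instance
  haveI : GeometricallyIntegral ((Over.pullback sb).obj X).hom := by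
    show GeometricallyIntegral (pullback.snd X.hom sb); infer_instance
  let x' : 𝟙_ (Over (Spec (CommRingCat.of Ω))) ⟶ (Over.pullback sb).obj X :=
    Over.homMk (pullback.lift xb (𝟙 _) (by rw [hsb, Category.id_comp]))
      (pullback.lift_snd _ _ _)
  have hx'1 : x'.left ≫ pullback.fst X.hom sb = xb := pullback.lift_fst _ _ _
  haveI hiso : IsIso (lift (𝟙 ((Over.pullback sb).obj X))
      (toUnit ((Over.pullback sb).obj X) ≫ x') ≫ bcMul sb X m) :=
    isIso_rho_field ((Over.pullback sb).obj X) (bcOne sb X e) (bcMul sb X m)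
      (bc_unit_right sb X e m h₁) (bc_unit_left sb X e m h₂) x'
  obtain ⟨ρ, hρ⟩ : ∃ ρ : (Over.pullback sb).obj X ⟶ (Over.pullback sb).obj X,
      ρ = lift (𝟙 ((Over.pullback sb).obj X))
        (toUnit ((Over.pullback sb).obj X) ≫ x') ≫ bcMul sb X m := ⟨_, rfl⟩
  haveI : IsIso ρ := hρ ▸ hiso
  haveI : IsIso ρ.left := inferInstanceAs (IsIso ((Over.forget _).map ρ))
  have hρw : ρ.left ≫ pullback.snd X.hom sb = pullback.snd X.hom sb := Over.w ρ
  -- comparison maps
  have cX : (fst X X).left ≫ X.hom = (snd X X).left ≫ X.hom := pullback.condition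
  let q : pullback X.hom sb ⟶ (X ⊗ X).left :=
    pullback.lift (pullback.fst X.hom sb) (pullback.snd X.hom sb ≫ xb)
      (by rw [Category.assoc, hsb]; exact pullback.condition)
  have hq1 : q ≫ (fst X X).left = pullback.fst X.hom sb := pullback.lift_fst _ _ _
  have hq2 : q ≫ (snd X X).left = pullback.snd X.hom sb ≫ xb := pullback.lift_snd _ _ _
  let θ : pullback (snd X X).left xb ⟶ pullback X.hom sb :=
    pullback.lift (pullback.fst _ _ ≫ (fst X X).left) (pullback.snd _ _) (by
      rw [Category.assoc, cX, ← Category.assoc, pullback.condition, Category.assoc, hsb])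
  let θinv : pullback X.hom sb ⟶ pullback (snd X X).left xb :=
    pullback.lift q (pullback.snd X.hom sb) hq2
  have hθ1 : θ ≫ pullback.fst X.hom sb = pullback.fst _ _ ≫ (fst X X).left :=
    pullback.lift_fst _ _ _
  have hθ2 : θ ≫ pullback.snd X.hom sb = pullback.snd _ _ := pullback.lift_snd _ _ _
  have hi1 : θinv ≫ pullback.fst (snd X X).left xb = q := pullback.lift_fst _ _ _
  have hi2 : θinv ≫ pullback.snd (snd X X).left xb = pullback.snd X.hom sb :=
    pullback.lift_snd _ _ _
  have hθq : θ ≫ q = pullback.fst (snd X X).left xb := by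
    apply tensor_left_ext
    · rw [Category.assoc, hq1, hθ1]
    · rw [Category.assoc, hq2, ← Category.assoc, hθ2, pullback.condition]
  clear_value q θ θinv
  -- the key identity
  have hK : ρ.left ≫ pullback.fst X.hom sb = q ≫ m.left := by
    obtain ⟨w', hw'⟩ : ∃ w' : (Over.pullback sb).obj X ⟶ (Over.pullback sb).obj (X ⊗ X),
        w' = lift (𝟙 ((Over.pullback sb).obj X)) (toUnit ((Over.pullback sb).obj X) ≫ x') ≫
          Functor.LaxMonoidal.μ (Over.pullback sb) X X := ⟨_, rfl⟩
    have hρ' : ρ = w' ≫ (Over.pullback sb).map m := by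
      rw [hρ, hw', bcMul, Category.assoc]
    have hw1 : w' ≫ (Over.pullback sb).map (fst X X) = 𝟙 _ := by
      rw [hw', Category.assoc, Functor.Monoidal.μ_fst, lift_fst]
    have hw2 : w' ≫ (Over.pullback sb).map (snd X X) = toUnit _ ≫ x' := by
      rw [hw', Category.assoc, Functor.Monoidal.μ_snd, lift_snd]
    have hwq : w'.left ≫ pullback.fst (X ⊗ X).hom sb = q := by
      apply tensor_left_ext
      · rw [Category.assoc, ← pb_map_fst sb (fst X X), ← Category.assoc, ← Over.comp_left, hw1,
          hq1]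
        exact Category.id_comp _
      · rw [Category.assoc, ← pb_map_fst sb (snd X X), ← Category.assoc, ← Over.comp_left, hw2,
          hq2, Over.comp_left, Category.assoc, hx'1]
        rfl
    rw [hρ', Over.comp_left, Category.assoc, pb_map_fst, ← Category.assoc, hwq]
  -- the base-changed shear map
  have h1 : (θ ≫ ρ.left ≫ θinv) ≫ pullback.fst (snd X X).left xb =
      pullback.fst (snd X X).left xb ≫ (lift m (snd X X)).left := by
    apply tensor_left_ext
    · simp only [Category.assoc]
      rw [reassoc_of% hi1, hq1, hK, reassoc_of% hθq, wf]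
    · simp only [Category.assoc]
      rw [reassoc_of% hi1, hq2, reassoc_of% hρw, reassoc_of% hθ2, w, pullback.condition]
  have h2 : (θ ≫ ρ.left ≫ θinv) ≫ pullback.snd (snd X X).left xb =
      pullback.snd (snd X X).left xb := by
    simp only [Category.assoc]
    rw [hi2, hρw, hθ2]
  haveI : IsIso θ := by
    refine ⟨⟨θinv, ?_, ?_⟩⟩
    · apply pullback.hom_ext
      · rw [Category.assoc, hi1, hθq, Category.id_comp]
      · rw [Category.assoc, hi2, hθ2, Category.id_comp]
    · apply pullback.hom_ext
      · rw [Category.assoc, hθ1, ← Category.assoc, hi1, hq1, Category.id_comp]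
      · rw [Category.assoc, hθ2, hi2, Category.id_comp]
  haveI : IsIso θinv := by
    have : θinv = inv θ := by
      rw [← cancel_epi θ, IsIso.hom_inv_id]
      apply pullback.hom_ext
      · rw [Category.assoc, hi1, hθq, Category.id_comp]
      · rw [Category.assoc, hi2, hθ2, Category.id_comp]
    rw [this]; infer_instance
  haveI : IsIso (θ ≫ ρ.left ≫ θinv) := inferInstance
  exact iso_near (lift m (snd X X)).left (snd X X).left (snd X X).left w xb
    (θ ≫ ρ.left ≫ θinv) h1 h2 t

theorem isIso_shearR (h₁ : lift (𝟙 X) (toUnit X ≫ e) ≫ m = 𝟙 X)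
    (h₂ : lift (toUnit X ≫ e) (𝟙 X) ≫ m = 𝟙 X) : IsIso (lift m (snd X X)) := by
  have hloc : ∀ x : X.left, ∃ U : X.left.Opens, x ∈ U ∧
      IsIso ((lift m (snd X X)).left ∣_ ((snd X X).left ⁻¹ᵁ U)) := by
    intro x
    let xb : Spec (CommRingCat.of (AlgebraicClosure (X.left.residueField x))) ⟶ X.left :=
      Spec.map (CommRingCat.ofHom (algebraMap (X.left.residueField x)
        (AlgebraicClosure (X.left.residueField x)))) ≫ X.left.fromSpecResidueField x
    obtain ⟨U, hU1, hU2⟩ := bc_step X e m h₁ h₂ xb (xb ≫ X.hom) rfl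
      (IsLocalRing.closedPoint (AlgebraicClosure (X.left.residueField x)))
    refine ⟨U, ?_, hU2⟩
    have : xb (IsLocalRing.closedPoint (AlgebraicClosure (X.left.residueField x))) = x := by
      show (Spec.map _ ≫ X.left.fromSpecResidueField x) _ = x
      rw [Scheme.Hom.comp_apply, Scheme.fromSpecResidueField_apply]
    rwa [this] at hU1
  choose U hxU hU using hloc
  have hsup : (⨆ x, (snd X X).left ⁻¹ᵁ U x) = ⊤ := by
    rw [eq_top_iff]
    intro z _
    rw [TopologicalSpace.Opens.mem_iSup]
    exact ⟨(snd X X).left z, hxU _⟩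
  haveI : IsIso (lift m (snd X X)).left :=
    (IsZariskiLocalAtTarget.iff_of_iSup_eq_top (P := MorphismProperty.isomorphisms Scheme)
      _ hsup).mpr (fun x => hU x)
  haveI : IsIso ((Over.forget S).map (lift m (snd X X))) :=
    ‹IsIso (lift m (snd X X)).left›
  exact isIso_of_reflects_iso (lift m (snd X X)) (Over.forget S)

end Step

end Groth.Agent.Lead.UMul
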