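import Groth.Agent.Lead.UMulD

/-!
# A unital multiplication on a proper flat family with geometrically integral fibres is a
group law
-/

set_option autoImplicit false
universe u

open CategoryTheory CategoryTheory.Limits MonoidalCategory CartesianMonoidalCategory MonObj GrpObj
  AlgebraicGeometry

namespace Groth.Agent.Lead.UMul

theorem main {S : Scheme.{u}} (X : Over S) [IsProper X.hom] [Flat X.hom]
    [LocallyOfFinitePresentation X.hom] [GeometricallyIntegral X.hom]
    (e : 𝟙_ (Over S) ⟶ X) (m : X ⊗ X ⟶ X)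
    (h₁ : lift (𝟙 X) (toUnit X ≫ e) ≫ m = 𝟙 X) (h₂ : lift (toUnit X ≫ e) (𝟙 X) ≫ m = 𝟙 X) :
    ∃ h : GrpObj X, h.one = e ∧ h.mul = m := by
  classical
  haveI hξ : IsIso (lift m (snd X X)) := isIso_shearR X e m h₁ h₂
  haveI : GeometricallyConnected X.hom := geometricallyConnected_of_irr X.hom
  -- the inverse
  obtain ⟨σ, hσ⟩ : ∃ σ : X ⟶ X ⊗ X, σ = lift (toUnit X ≫ e) (𝟙 X) ≫ inv (lift m (snd X X)) :=
    ⟨_, rfl⟩
  have hσξ : σ ≫ lift m (snd X X) = lift (toUnit X ≫ e) (𝟙 X) := by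
    rw [hσ, Category.assoc, IsIso.inv_hom_id, Category.comp_id]
  have hσ2 : σ ≫ snd X X = 𝟙 X := by
    have := congrArg (fun t => t ≫ snd X X) hσξ
    simpa only [Category.assoc, lift_snd] using this
  have hσ1 : σ ≫ m = toUnit X ≫ e := by
    have := congrArg (fun t => t ≫ fst X X) hσξ
    simpa only [Category.assoc, lift_fst] using this
  obtain ⟨i, hidef⟩ : ∃ i : X ⟶ X, i = σ ≫ fst X X := ⟨_, rfl⟩
  have hσl : σ = lift i (𝟙 X) := by
    apply CartesianMonoidalCategory.hom_ext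
    · rw [lift_fst, hidef]
    · rw [lift_snd, hσ2]
  have hi : lift i (𝟙 X) ≫ m = toUnit X ≫ e := by rw [← hσl, hσ1]
  have hie : e ≫ i = e := by
    have h := congrArg (fun t => e ≫ t) hi
    beta_reduce at h
    rw [← Category.assoc, comp_lift, Category.comp_id, ← Category.assoc e, comp_toUnit,
      toUnit_unit, Category.id_comp] at h
    have h3 := star_one e m h₁ (e ≫ i)
    rw [toUnit_unit, Category.id_comp, star] at h3
    rw [← h3, h]
  -- rigidity
  obtain ⟨Φ, hΦ⟩ : ∃ Φ : (X ⊗ X) ⊗ X ⟶ X, Φ = star m (snd (X ⊗ X) X ≫ i)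
      (star m (star m (snd (X ⊗ X) X) (fst (X ⊗ X) X ≫ fst X X)) (fst (X ⊗ X) X ≫ snd X X)) :=
    ⟨_, rfl⟩
  have hB : ∀ s : S, _root_.IsPreconnected ((X ⊗ X).hom ⁻¹' {s}) :=
    isPreconnected_fibre_tensor X
  have hΦ1 : lift (toUnit X ≫ lift e e) (𝟙 X) ≫ Φ = toUnit X ≫ e := by
    rw [hΦ]
    simp only [comp_star, lift_fst_assoc, lift_snd_assoc, lift_fst, lift_snd, Category.assoc,
      Category.id_comp]
    rw [star_one e m h₁, star_one e m h₁, star, hi]
  have hrig := lemmaR3 X (X ⊗ X) X e (lift e e) hB e Φ hΦ1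
  have hΦ2 : lift (𝟙 (X ⊗ X)) (toUnit (X ⊗ X) ≫ e) ≫ Φ = m := by
    rw [hΦ]
    simp only [comp_star, lift_fst_assoc, lift_snd_assoc, lift_fst, lift_snd, Category.assoc,
      Category.id_comp]
    rw [hie, one_star e m h₂, one_star e m h₂, star, lift_fst_snd, Category.id_comp]
  have hs : ∀ {T : Over S} (x y z : T ⟶ X),
      star m (x ≫ i) (star m (star m x y) z) = star m y z := by
    intro T x y z
    have h := congrArg (fun t => lift (lift y z) x ≫ t) hrig
    beta_reduce at h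
    rw [lift_fst_assoc, hΦ2, hΦ] at h
    simp only [comp_star, lift_fst_assoc, lift_snd_assoc, lift_fst, lift_snd, Category.assoc,
      Category.id_comp] at h
    exact h
  exact grpObj_of_star e m h₁ h₂ i hi hs


end Groth.Agent.Lead.UMul
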