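import Groth.Agent.Lead.UTGlueA
import Mathlib

set_option autoImplicit false
set_option backward.isDefEq.respectTransparency false
set_option backward.isDefEq.respectTransparency.types false
open CategoryTheory CategoryTheory.Limits AlgebraicGeometry Opposite TopologicalSpace
universe u

namespace Groth.Agent.Lead.UTGlueB

open OmegaSh Groth.Agent.Lead

/-- `Spec` of a surjection with square-zero kernel is a first order thickening. -/
theorem isFirstOrderThickening_specMap {B' B : CommRingCat.{u}} (π : B' ⟶ B)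
    (hπ : Function.Surjective π.hom) (hker : RingHom.ker π.hom ^ 2 = ⊥) :
    MoreMor.IsFirstOrderThickening (Spec.map π) := by
  have hci : IsClosedImmersion (Spec.map π) := IsClosedImmersion.spec_of_surjective _ hπ
  refine ⟨⟨hci, ⟨FEtLift.specMap_surjective_of_nilpotent π hπ ⟨2, hker⟩⟩⟩, ?_⟩
  apply Scheme.IdealSheafData.ext_of_isAffine
  rw [Scheme.IdealSheafData.ideal_mul, Pi.mul_apply, Scheme.IdealSheafData.ideal_bot,
    Scheme.Hom.ker_apply]
  rw [Pi.bot_apply, eq_bot_iff, Ideal.mul_le]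
  intro x hx y hy
  rw [RingHom.mem_ker] at hx hy
  have hnat := Scheme.ΓSpecIso_naturality π
  have key : ∀ z, ((Spec.map π).appTop.hom z = 0) →
      (Scheme.ΓSpecIso B').hom.hom z ∈ RingHom.ker π.hom := by
    intro z hz
    have h1 := congrArg (fun h => h.hom z) hnat
    simp only [CommRingCat.hom_comp, RingHom.coe_comp, Function.comp_apply] at h1
    rw [hz, map_zero] at h1
    rw [RingHom.mem_ker]
    exact h1.symm
  have hx' := key x hx
  have hy' := key y hy
  have hxy : (Scheme.ΓSpecIso B').hom.hom (x * y) ∈ RingHom.ker π.hom ^ 2 := by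
    rw [map_mul, pow_two]
    exact Ideal.mul_mem_mul hx' hy'
  rw [hker] at hxy
  have h3 : (Scheme.ΓSpecIso B').hom.hom (x * y) = 0 := by simpa using hxy
  have hinj : Function.Injective (Scheme.ΓSpecIso B').hom.hom :=
    (ConcreteCategory.bijective_of_isIso (Scheme.ΓSpecIso B').hom).1
  have h4 : x * y = 0 := hinj (by rw [h3, map_zero])
  rw [h4]
  exact Submodule.zero_mem _

theorem isFirstOrderThickening_iso_comp {Y T T' : Scheme.{u}} (e : Y ⟶ T) [IsIso e] (t : T ⟶ T')
    (ht : MoreMor.IsFirstOrderThickening t) : MoreMor.IsFirstOrderThickening (e ≫ t) := by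
  obtain ⟨⟨hci, hsurj⟩, hsq⟩ := ht
  refine ⟨⟨inferInstance, inferInstance⟩, ?_⟩
  rw [Scheme.Hom.ker_comp_of_isIso]
  exact hsq

/-- conversion from the `Spec` form of a local lifting problem to the open-subscheme form -/
theorem local_W_of_spec {X Y T T' : Scheme.{u}} (f : X ⟶ Y)
    (t : T ⟶ T') [IsClosedImmersion t] (a : T ⟶ X) (b : T' ⟶ Y)
    (W : T'.Opens) (hW : IsAffineOpen W)
    (H : ∃! l' : Spec Γ(T', W) ⟶ X,
      Spec.map (t.app W) ≫ l' = (hW.preimage t).fromSpec ≫ a ∧ l' ≫ f = hW.fromSpec ≫ b) :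
    ∃! l : (W : Scheme.{u}) ⟶ X, (t ∣_ W) ≫ l = (t ⁻¹ᵁ W).ι ≫ a ∧ l ≫ f = W.ι ≫ b := by
  obtain ⟨l', ⟨h1, h2⟩, huniq⟩ := H
  have key : ∀ l : (W : Scheme.{u}) ⟶ X,
      ((t ∣_ W) ≫ l = (t ⁻¹ᵁ W).ι ≫ a ∧ l ≫ f = W.ι ≫ b) ↔
      (Spec.map (t.app W) ≫ (hW.isoSpec.inv ≫ l) = (hW.preimage t).fromSpec ≫ a ∧
        (hW.isoSpec.inv ≫ l) ≫ f = hW.fromSpec ≫ b) := by
    intro l
    constructor
    · rintro ⟨e1, e2⟩
      constructor
      · rw [← Category.assoc, ← FEtLift.isoSpec_inv_restrict, Category.assoc, e1, ← Category.assoc,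
          IsAffineOpen.isoSpec_inv_ι]
      · rw [Category.assoc, e2, ← Category.assoc, IsAffineOpen.isoSpec_inv_ι]
    · rintro ⟨e1, e2⟩
      constructor
      · rw [← cancel_epi (hW.preimage t).isoSpec.inv, ← Category.assoc,
          FEtLift.isoSpec_inv_restrict t W hW,
          Category.assoc, e1, ← Category.assoc, IsAffineOpen.isoSpec_inv_ι]
      · rw [← cancel_epi hW.isoSpec.inv, ← Category.assoc, e2, ← Category.assoc,
          IsAffineOpen.isoSpec_inv_ι]
  refine ⟨hW.isoSpec.hom ≫ l', ?_, ?_⟩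
  · refine (key _).2 ?_
    rw [Iso.inv_hom_id_assoc]
    exact ⟨h1, h2⟩
  · intro l hl
    have hl' := (key l).1 hl
    have := huniq _ hl'
    rw [← this, Iso.hom_inv_id_assoc]

section Chart
variable {Z X : Scheme.{u}} (h : Z ⟶ X) {U : X.Opens} {V : Z.Opens} (hU : IsAffineOpen U)
  (hV : IsAffineOpen V) (e : V ≤ h ⁻¹ᵁ U)
  {B' : CommRingCat.{u}} (φ' : Γ(X, U) ⟶ B') (π : B' ⟶ Γ(Z, V))
  (hfac : φ' ≫ π = h.appLE U V e)
  (hπ : Function.Surjective π.hom) (hker : RingHom.ker π.hom ^ 2 = ⊥)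
  (hlift : ∀ (C C₀ : CommRingCat.{u}) (β : Γ(X, U) ⟶ C) (p : C ⟶ C₀),
    Function.Surjective p.hom → RingHom.ker p.hom ^ 2 = ⊥ →
      ∀ α : Γ(Z, V) ⟶ C₀, h.appLE U V e ≫ α = β ≫ p →
        ∃! μ : B' ⟶ C, μ ≫ p = π ≫ α ∧ φ' ≫ μ = β)

include hfac hπ hker hlift in
theorem isUnivThickening_chart :
    IsUnivThickening (V.ι ≫ h) (hV.isoSpec.hom ≫ Spec.map π) (Spec.map φ' ≫ hU.fromSpec) := by
  refine ⟨isFirstOrderThickening_iso_comp _ _ (isFirstOrderThickening_specMap π hπ hker), ?_, ?_⟩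
  · rw [Category.assoc, ← Category.assoc (Spec.map π), ← Spec.map_comp, hfac,
      IsAffineOpen.SpecMap_appLE_fromSpec h hU hV e, ← Category.assoc,
      IsAffineOpen.isoSpec_hom_fromSpec]
  · intro T T' t b a ht w
    obtain ⟨⟨hci, hsurj⟩, hsq⟩ := ht
    apply UTGlueA.exists_unique_of_local _ t _ b {W | IsAffineOpen W}
    · intro x W hx
      obtain ⟨_, ⟨W₂, hW₂, rfl⟩, hxW₂, hle⟩ :=
        T'.isBasis_affineOpens.exists_subset_of_mem_open hx W.2
      exact ⟨W₂, hW₂, hxW₂, hle⟩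
    · intro W (hW : IsAffineOpen W)
      apply local_W_of_spec _ t _ b W hW
      have hW₀ : IsAffineOpen (t ⁻¹ᵁ W) := hW.preimage t
      have haV : t ⁻¹ᵁ W ≤ (a ≫ V.ι) ⁻¹ᵁ V := by
        intro x _
        change (a ≫ V.ι) x ∈ V
        rw [Scheme.Hom.comp_apply]
        exact (a x).2
      have hbU : W ≤ b ⁻¹ᵁ U := by
        intro x' _
        obtain ⟨x, rfl⟩ := hsurj.surj x'
        change b (t x) ∈ U
        rw [← Scheme.Hom.comp_apply, w, Scheme.Hom.comp_apply, Scheme.Hom.comp_apply]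
        exact e (a x).2
      set p := t.app W with hpdef
      set α := (a ≫ V.ι).appLE V (t ⁻¹ᵁ W) haV with hαdef
      set β := b.appLE U W hbU with hβdef
      have hps : Function.Surjective p.hom := Scheme.Hom.app_surjective t W hW
      have hpn : RingHom.ker p.hom ^ 2 = ⊥ := by
        have h1 := Scheme.Hom.ker_apply t ⟨W, hW⟩
        have h2 : (t.ker * t.ker).ideal ⟨W, hW⟩ = (⊥ : T'.IdealSheafData).ideal ⟨W, hW⟩ := by
          rw [hsq]
        rw [Scheme.IdealSheafData.ideal_mul, Pi.mul_apply, h1,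
          Scheme.IdealSheafData.ideal_bot] at h2
        rw [pow_two]
        exact h2
      have F1 : Spec.map p ≫ hW.fromSpec = hW₀.fromSpec ≫ t := FEtLift.specMap_app_fromSpec t W hW
      have Fα : Spec.map α ≫ hV.fromSpec = hW₀.fromSpec ≫ a ≫ V.ι :=
        IsAffineOpen.SpecMap_appLE_fromSpec (a ≫ V.ι) hV hW₀ haV
      have Fα' : Spec.map α = hW₀.fromSpec ≫ a ≫ hV.isoSpec.hom := by
        have h1 : Spec.map α ≫ hV.isoSpec.inv = hW₀.fromSpec ≫ a := by
          rw [← cancel_mono V.ι, Category.assoc, IsAffineOpen.isoSpec_inv_ι, Fα, Category.assoc]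
        rw [← Category.assoc, ← h1, Category.assoc, Iso.inv_hom_id, Category.comp_id]
      have Fβ : Spec.map β ≫ hU.fromSpec = hW.fromSpec ≫ b :=
        IsAffineOpen.SpecMap_appLE_fromSpec b hU hW hbU
      have Fφ : Spec.map (h.appLE U V e) ≫ hU.fromSpec = hV.fromSpec ≫ h :=
        IsAffineOpen.SpecMap_appLE_fromSpec h hU hV e
      have hcompat : h.appLE U V e ≫ α = β ≫ p := by
        apply FEtLift.factor_unique hU
        have L : Spec.map (h.appLE U V e ≫ α) ≫ hU.fromSpec = hW₀.fromSpec ≫ a ≫ V.ι ≫ h := by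
          rw [Spec.map_comp, Category.assoc, Fφ, ← Category.assoc, Fα, Category.assoc,
            Category.assoc]
        have R : Spec.map (β ≫ p) ≫ hU.fromSpec = hW₀.fromSpec ≫ t ≫ b := by
          rw [Spec.map_comp, Category.assoc, Fβ, ← Category.assoc, F1, Category.assoc]
        rw [L, R, w]
      obtain ⟨μ, ⟨hμ1, hμ2⟩, hμuniq⟩ := hlift _ _ β p hps hpn α hcompat
      refine ⟨Spec.map μ, ⟨?_, ?_⟩, ?_⟩
      · rw [← Spec.map_comp, hμ1, Spec.map_comp, Fα']
        simp only [Category.assoc]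
      · rw [← Category.assoc, ← Spec.map_comp, hμ2, Fβ]
      · rintro l' ⟨hl1, hl2⟩
        obtain ⟨μ', rfl⟩ := Spec.map_surjective l'
        have e1 : μ' ≫ p = π ≫ α := by
          apply Spec.map_injective
          rw [Spec.map_comp, hl1, Spec.map_comp, Fα']
          simp only [Category.assoc]
        have e2 : φ' ≫ μ' = β := by
          apply FEtLift.factor_unique hU
          rw [Spec.map_comp, Category.assoc, hl2, Fβ]
        rw [hμuniq μ' ⟨e1, e2⟩]

end Chart

end Groth.Agent.Lead.UTGlueB
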