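import Groth.Agent.Lead.UTGlueB
import Groth.Agent.S9426
import Mathlib

set_option autoImplicit false
set_option backward.isDefEq.respectTransparency false
set_option backward.isDefEq.respectTransparency.types false
open CategoryTheory CategoryTheory.Limits AlgebraicGeometry Opposite TopologicalSpace
universe u

namespace Groth.Agent.Lead.UTGlueC

open OmegaSh Groth.Agent.Lead

/-- the lifting property of a ring-level universal thickening against arbitrary surjections with
square-zero kernel -/
theorem lift_of_univ {A B B' : Type u} [CommRing A] [CommRing B] [CommRing B'] [Algebra A B]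
    [Algebra A B'] (π : B' →ₐ[A] B) (hπ : IsUnivThickeningRing A B B' π)
    (C C₀ : Type u) [CommRing C] [CommRing C₀]
    (β : A →+* C) (p : C →+* C₀) (hp : Function.Surjective p) (hker : RingHom.ker p ^ 2 = ⊥)
    (α : B →+* C₀) (hcomp : α.comp (algebraMap A B) = p.comp β) :
    ∃! μ : B' →+* C, p.comp μ = α.comp π.toRingHom ∧ μ.comp (algebraMap A B') = β := by
  letI := β.toAlgebra
  have hβa : algebraMap A C = β := rfl
  let eq := RingHom.quotientKerEquivOfSurjective hp
  have heq : ∀ c : C, eq (Ideal.Quotient.mk _ c) = p c := fun c => rfl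
  have heqs : ∀ c : C, eq.symm (p c) = Ideal.Quotient.mk _ c := fun c =>
    RingHom.quotientKerEquivOfSurjective_symm_apply hp c
  let a : B →ₐ[A] C ⧸ RingHom.ker p :=
    { eq.symm.toRingHom.comp α with
      commutes' := by
        intro r
        change eq.symm (α (algebraMap A B r)) = _
        have h1 : α (algebraMap A B r) = p (β r) := congrArg (fun f => f r) hcomp
        rw [h1, heqs]
        rfl }
  have ha : ∀ b : B, a b = eq.symm (α b) := fun b => rfl
  obtain ⟨a', ha', ha'uniq⟩ := hπ.2.2 C (RingHom.ker p) hker a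
  have ha'x : ∀ x : B', Ideal.Quotient.mk (RingHom.ker p) (a' x) = a (π x) := fun x =>
    congrArg (fun f => f x) ha'
  refine ⟨a'.toRingHom, ⟨?_, ?_⟩, ?_⟩
  · ext x
    change p (a' x) = α (π x)
    rw [← heq, ha'x, ha, RingEquiv.apply_symm_apply]
  · ext r
    exact a'.commutes r
  · rintro ν ⟨hν1, hν2⟩
    have hν : ∀ r : A, ν (algebraMap A B' r) = algebraMap A C r := fun r => by
      have := congrArg (fun f => f r) hν2
      exact this
    let ν' : B' →ₐ[A] C := { ν with commutes' := hν }
    have : ν' = a' := by
      apply ha'uniq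
      ext x
      change Ideal.Quotient.mk (RingHom.ker p) (ν x) = a (π x)
      have h1 : p (ν x) = α (π x) := congrArg (fun f => f x) hν1
      rw [ha, ← h1, heqs]
    ext x
    exact congrArg (fun f => f x) this

/-- **existence on affine charts** -/
theorem exists_chart {Z X : Scheme.{u}} (h : Z ⟶ X) [FormallyUnramified h] {U : X.Opens}
    {V : Z.Opens} (hU : IsAffineOpen U) (hV : IsAffineOpen V) (e : V ≤ h ⁻¹ᵁ U) :
    ∃ (T : Scheme.{u}) (i : (V : Scheme.{u}) ⟶ T) (h' : T ⟶ X),
      IsUnivThickening (V.ι ≫ h) i h' := by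
  letI := (h.appLE U V e).hom.toAlgebra
  haveI : Algebra.FormallyUnramified Γ(X, U) Γ(Z, V) :=
    FormallyUnramified.formallyUnramified_appLE h hU hV e
  obtain ⟨B', _, _, π, hπ⟩ := Groth.Agent.S9426.result Γ(X, U) Γ(Z, V)
  refine ⟨Spec (CommRingCat.of B'),
    hV.isoSpec.hom ≫ Spec.map (CommRingCat.ofHom π.toRingHom),
    Spec.map (CommRingCat.ofHom (algebraMap Γ(X, U) B')) ≫ hU.fromSpec, ?_⟩
  apply UTGlueB.isUnivThickening_chart h hU hV e
  · ext r
    exact π.commutes r
  · exact hπ.1
  · exact hπ.2.1
  · intro C C₀ β p hp hker α hcomp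
    have hcomp' : α.hom.comp (algebraMap Γ(X, U) Γ(Z, V)) = p.hom.comp β.hom := by
      have := congrArg CommRingCat.Hom.hom hcomp
      simp only [CommRingCat.hom_comp] at this
      exact this
    obtain ⟨μ, ⟨h1, h2⟩, huniq⟩ := lift_of_univ π hπ C C₀ β.hom p.hom hp hker α.hom hcomp'
    refine ⟨CommRingCat.ofHom μ, ⟨?_, ?_⟩, ?_⟩
    · ext x
      exact congrArg (fun f => f x) h1
    · ext x
      exact congrArg (fun f => f x) h2
    · rintro ν ⟨hν1, hν2⟩
      have : ν.hom = μ := by
        apply huniq
        constructor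
        · have := congrArg CommRingCat.Hom.hom hν1
          simpa using this
        · have := congrArg CommRingCat.Hom.hom hν2
          simpa using this
      ext x
      exact congrArg (fun f => f x) this

end Groth.Agent.Lead.UTGlueC
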