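import Groth.Agent.Lead.UTGlueC
import Mathlib

set_option autoImplicit false
set_option backward.isDefEq.respectTransparency false
set_option backward.isDefEq.respectTransparency.types false
open CategoryTheory CategoryTheory.Limits AlgebraicGeometry Opposite TopologicalSpace
universe u

namespace Groth.Agent.Lead.UTGlueD

open OmegaSh Groth.Agent.Lead

variable {Z X : Scheme.{u}} (h : Z ⟶ X)

/-- good opens of `Z`: affine, mapping into an affine open of `X` -/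
def Good (V : Z.Opens) : Prop := IsAffineOpen V ∧ ∃ U : X.Opens, IsAffineOpen U ∧ V ≤ h ⁻¹ᵁ U

theorem exists_good (z : Z) (O : Z.Opens) (hz : z ∈ O) : ∃ V : Z.Opens, Good h V ∧ z ∈ V ∧ V ≤ O := by
  obtain ⟨_, ⟨U, hU, rfl⟩, hzU, -⟩ := (X.isBasis_affineOpens).exists_subset_of_mem_open
    (Set.mem_univ (h z)) isOpen_univ
  have hz' : z ∈ O ⊓ h ⁻¹ᵁ U := ⟨hz, hzU⟩
  obtain ⟨_, ⟨V, hV, rfl⟩, hzV, hle⟩ := (Z.isBasis_affineOpens).exists_subset_of_mem_open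
    hz' (O ⊓ h ⁻¹ᵁ U).2
  exact ⟨V, ⟨hV, U, hU, fun x hx => (hle hx).2⟩, hzV, fun x hx => (hle hx).1⟩

/-- the index poset -/
def J : Type u := {V : Z.Opens // Good h V}

instance : PartialOrder (J h) := inferInstanceAs (PartialOrder {V : Z.Opens // Good h V})

variable [FormallyUnramified h]

theorem exists_T (V : J h) : ∃ (T : Scheme.{u}) (i : (V.1 : Scheme.{u}) ⟶ T) (h' : T ⟶ X),
    IsUnivThickening (V.1.ι ≫ h) i h' := by
  obtain ⟨hV, U, hU, e⟩ := V.2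
  exact UTGlueC.exists_chart h hU hV e

noncomputable def T (V : J h) : Scheme.{u} := (exists_T h V).choose
noncomputable def iT (V : J h) : (V.1 : Scheme.{u}) ⟶ T h V := (exists_T h V).choose_spec.choose
noncomputable def hT (V : J h) : T h V ⟶ X := (exists_T h V).choose_spec.choose_spec.choose
theorem huT (V : J h) : IsUnivThickening (V.1.ι ≫ h) (iT h V) (hT h V) :=
  (exists_T h V).choose_spec.choose_spec.choose_spec

theorem existsUnique_tr (V₁ V₂ : J h) (hle : V₁.1 ≤ V₂.1) :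
    ∃! tr : T h V₁ ⟶ T h V₂,
      iT h V₁ ≫ tr = Z.homOfLE hle ≫ iT h V₂ ∧ tr ≫ hT h V₂ = hT h V₁ :=
  (huT h V₂).2.2 _ _ (iT h V₁) (hT h V₁) (Z.homOfLE hle) (huT h V₁).1 (by
    rw [(huT h V₁).2.1, ← Category.assoc, Scheme.homOfLE_ι])

noncomputable def tr (V₁ V₂ : J h) (hle : V₁.1 ≤ V₂.1) : T h V₁ ⟶ T h V₂ :=
  (existsUnique_tr h V₁ V₂ hle).exists.choose

theorem iT_tr (V₁ V₂ : J h) (hle : V₁.1 ≤ V₂.1) :
    iT h V₁ ≫ tr h V₁ V₂ hle = Z.homOfLE hle ≫ iT h V₂ :=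
  (existsUnique_tr h V₁ V₂ hle).exists.choose_spec.1

theorem tr_hT (V₁ V₂ : J h) (hle : V₁.1 ≤ V₂.1) : tr h V₁ V₂ hle ≫ hT h V₂ = hT h V₁ :=
  (existsUnique_tr h V₁ V₂ hle).exists.choose_spec.2

theorem tr_unique (V₁ V₂ : J h) (hle : V₁.1 ≤ V₂.1) (g : T h V₁ ⟶ T h V₂)
    (h1 : iT h V₁ ≫ g = Z.homOfLE hle ≫ iT h V₂) (h2 : g ≫ hT h V₂ = hT h V₁) :
    g = tr h V₁ V₂ hle :=
  (existsUnique_tr h V₁ V₂ hle).unique ⟨h1, h2⟩ ⟨iT_tr h V₁ V₂ hle, tr_hT h V₁ V₂ hle⟩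

theorem tr_rfl (V : J h) : tr h V V le_rfl = 𝟙 _ := by
  symm
  apply tr_unique
  · rw [Category.comp_id, Scheme.homOfLE_rfl, Category.id_comp]
  · rw [Category.id_comp]

theorem tr_tr (V₁ V₂ V₃ : J h) (h₁₂ : V₁.1 ≤ V₂.1) (h₂₃ : V₂.1 ≤ V₃.1) :
    tr h V₁ V₂ h₁₂ ≫ tr h V₂ V₃ h₂₃ = tr h V₁ V₃ (h₁₂.trans h₂₃) := by
  apply tr_unique
  · rw [← Category.assoc, iT_tr, Category.assoc, iT_tr, ← Category.assoc, Scheme.homOfLE_homOfLE]
  · rw [Category.assoc, tr_hT, tr_hT]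

/-- the diagram of charts -/
noncomputable def F : J h ⥤ Scheme.{u} where
  obj V := T h V
  map {V₁ V₂} f := tr h V₁ V₂ (leOfHom f)
  map_id V := tr_rfl h V
  map_comp {V₁ V₂ V₃} f g := (tr_tr h V₁ V₂ V₃ (leOfHom f) (leOfHom g)).symm

theorem iT_surjective (V : J h) : Function.Surjective (iT h V) := (huT h V).1.1.2.surj

theorem iT_injective (V : J h) : Function.Injective (iT h V) := by
  haveI := (huT h V).1.1.1
  exact (iT h V).isClosedEmbedding.injective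

theorem tr_iT_apply (V₁ V₂ : J h) (hle : V₁.1 ≤ V₂.1) (x : (V₁.1 : Scheme.{u})) :
    tr h V₁ V₂ hle (iT h V₁ x) = iT h V₂ (Z.homOfLE hle x) := by
  rw [← Scheme.Hom.comp_apply, iT_tr, Scheme.Hom.comp_apply]

theorem isOpenImmersion_tr (V₁ V₂ : J h) (hle : V₁.1 ≤ V₂.1) :
    IsOpenImmersion (tr h V₁ V₂ hle) := by
  have hth := (huT h V₂).1.1
  set O : (V₂.1 : Scheme.{u}).Opens := V₂.1.ι ⁻¹ᵁ V₁.1 with hOdef
  set W' : (T h V₂).Opens := UTGlueA.imageOpen (iT h V₂) hth O with hW'def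
  have hpre : iT h V₂ ⁻¹ᵁ W' = O := UTGlueA.preimage_imageOpen (iT h V₂) hth O
  have hu' := UTGlueA.isUnivThickening_restrict (V₂.1.ι ≫ h) (iT h V₂) (hT h V₂) (huT h V₂) W'
  have hrange : Set.range V₁.1.ι = Set.range ((iT h V₂ ⁻¹ᵁ W').ι ≫ V₂.1.ι) := by
    rw [hpre]
    ext z
    constructor
    · rintro ⟨x, rfl⟩
      have hx2 : V₁.1.ι x ∈ V₂.1 := hle x.2
      refine ⟨⟨⟨V₁.1.ι x, hx2⟩, ?_⟩, rfl⟩
      exact x.2
    · rintro ⟨y, rfl⟩
      have : (O.ι ≫ V₂.1.ι) y ∈ V₁.1 := by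
        rw [Scheme.Hom.comp_apply]
        exact y.2
      exact ⟨⟨_, this⟩, rfl⟩
  let e : (V₁.1 : Scheme.{u}) ≅ ((iT h V₂ ⁻¹ᵁ W' : (V₂.1 : Scheme.{u}).Opens) : Scheme.{u}) :=
    IsOpenImmersion.isoOfRangeEq V₁.1.ι ((iT h V₂ ⁻¹ᵁ W').ι ≫ V₂.1.ι) hrange
  have he : e.hom ≫ (iT h V₂ ⁻¹ᵁ W').ι ≫ V₂.1.ι = V₁.1.ι :=
    IsOpenImmersion.isoOfRangeEq_hom_fac _ _ _
  have he' : e.hom ≫ (iT h V₂ ⁻¹ᵁ W').ι = Z.homOfLE hle := by
    rw [← cancel_mono V₂.1.ι, Category.assoc, he, Scheme.homOfLE_ι]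
  have hrange2 : Set.range (tr h V₁ V₂ hle) ⊆ Set.range W'.ι := by
    apply UnivThick8.range_subset_of_thickening (iT h V₁) (iT_surjective h V₁)
    intro x
    rw [tr_iT_apply]
    refine ⟨Z.homOfLE hle x, ?_, rfl⟩
    change V₂.1.ι (Z.homOfLE hle x) ∈ V₁.1
    rw [← Scheme.Hom.comp_apply, Scheme.homOfLE_ι]
    exact x.2
  let φ : T h V₁ ⟶ (W' : Scheme.{u}) := IsOpenImmersion.lift W'.ι (tr h V₁ V₂ hle) hrange2
  have hφ : φ ≫ W'.ι = tr h V₁ V₂ hle := IsOpenImmersion.lift_fac _ _ _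
  haveI : IsIso φ := by
    apply UTGlueA.isIso_of_two_univ (V₁.1.ι ≫ h) ((iT h V₂ ⁻¹ᵁ W').ι ≫ V₂.1.ι ≫ h) e
      (by rw [← Category.assoc, ← Category.assoc, Category.assoc e.hom, he])
      (iT h V₁) (hT h V₁) (huT h V₁) (iT h V₂ ∣_ W') (W'.ι ≫ hT h V₂) hu' φ
    · rw [← cancel_mono W'.ι, Category.assoc, hφ, iT_tr, Category.assoc, morphismRestrict_ι,
        ← Category.assoc, he']
    · rw [← Category.assoc, hφ, tr_hT]
  rw [← hφ]
  infer_instance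

instance {V₁ V₂ : J h} (f : V₁ ⟶ V₂) : IsOpenImmersion ((F h).map f) :=
  isOpenImmersion_tr h V₁ V₂ (leOfHom f)

instance : ((F h) ⋙ Scheme.forget).IsLocallyDirected where
  cond {i j k} fi fj xi xj heq := by
    obtain ⟨zi, rfl⟩ := iT_surjective h i xi
    obtain ⟨zj, rfl⟩ := iT_surjective h j xj
    have heq' : tr h i k (leOfHom fi) (iT h i zi) = tr h j k (leOfHom fj) (iT h j zj) := heq
    rw [tr_iT_apply, tr_iT_apply] at heq'
    have h1 := iT_injective h k heq'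
    have h2 : (zi.1 : Z) = zj.1 := by
      have := congrArg (fun y => (k.1.ι y : Z)) h1
      simp only [← Scheme.Hom.comp_apply, Scheme.homOfLE_ι] at this
      exact this
    obtain ⟨V, hV, hzV, hle⟩ := exists_good h zi.1 (i.1 ⊓ j.1) ⟨zi.2, h2 ▸ zj.2⟩
    let l : J h := ⟨V, hV⟩
    have hli : l.1 ≤ i.1 := fun x hx => (hle hx).1
    have hlj : l.1 ≤ j.1 := fun x hx => (hle hx).2
    refine ⟨l, homOfLE hli, homOfLE hlj, iT h l ⟨zi.1, hzV⟩, ?_, ?_⟩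
    · change tr h l i _ (iT h l ⟨zi.1, hzV⟩) = iT h i zi
      rw [tr_iT_apply]
      congr 1
      apply Subtype.ext
      rw [Scheme.homOfLE_apply]
    · change tr h l j _ (iT h l ⟨zi.1, hzV⟩) = iT h j zj
      rw [tr_iT_apply]
      congr 1
      apply Subtype.ext
      rw [Scheme.homOfLE_apply]
      exact h2

end Groth.Agent.Lead.UTGlueD
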