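import Groth.Agent.Lead.UTGlueD
import Mathlib

set_option autoImplicit false
set_option backward.isDefEq.respectTransparency false
set_option backward.isDefEq.respectTransparency.types false
open CategoryTheory CategoryTheory.Limits AlgebraicGeometry Opposite TopologicalSpace
universe u

namespace Groth.Agent.Lead.UTGlueE

open OmegaSh Groth.Agent.Lead Groth.Agent.Lead.UTGlueD

variable {Z X : Scheme.{u}} (h : Z ⟶ X) [FormallyUnramified h]

/-- the glued thick scheme -/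
noncomputable def Z' : Scheme.{u} := colimit (F h)

noncomputable def ιT (V : J h) : T h V ⟶ Z' h := colimit.ι (F h) V

instance (V : J h) : IsOpenImmersion (ιT h V) :=
  inferInstanceAs (IsOpenImmersion (colimit.ι (F h) V))

theorem tr_ιT (V₁ V₂ : J h) (hle : V₁.1 ≤ V₂.1) : tr h V₁ V₂ hle ≫ ιT h V₂ = ιT h V₁ :=
  colimit.w (F h) (homOfLE hle)

noncomputable def cocone : Cocone (F h) where
  pt := X
  ι :=
    { app := hT h
      naturality := by
        intro V₁ V₂ f
        change tr h V₁ V₂ (leOfHom f) ≫ hT h V₂ = hT h V₁ ≫ 𝟙 X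
        rw [tr_hT, Category.comp_id] }

noncomputable def h' : Z' h ⟶ X := colimit.desc (F h) (cocone h)

theorem ιT_h' (V : J h) : ιT h V ≫ h' h = hT h V :=
  colimit.ι_desc _ _

theorem ιT_jointly_surjective (x : Z' h) : ∃ (V : J h) (t : T h V), ιT h V t = x :=
  Scheme.IsLocallyDirected.ι_jointly_surjective (F h) x

theorem existsUnique_i : ∃! i : Z ⟶ Z' h, ∀ (V : Z.Opens) (hV : V ∈ {V | Good h V}),
    V.ι ≫ i = iT h ⟨V, hV⟩ ≫ ιT h ⟨V, hV⟩ := by
  apply FEtLift.exists_unique_glue {V | Good h V}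
    (fun x W hx => by
      obtain ⟨V, hV, hxV, hle⟩ := exists_good h x W hx
      exact ⟨V, hV, hxV, hle⟩)
    (fun V hV => iT h ⟨V, hV⟩ ≫ ιT h ⟨V, hV⟩)
  intro V₁ h₁ V₂ h₂ hle
  rw [← Category.assoc, ← iT_tr h ⟨V₂, h₂⟩ ⟨V₁, h₁⟩ hle, Category.assoc, tr_ιT]

noncomputable def i : Z ⟶ Z' h := (existsUnique_i h).exists.choose

theorem ι_i (V : J h) : V.1.ι ≫ i h = iT h V ≫ ιT h V :=
  (existsUnique_i h).exists.choose_spec V.1 V.2

theorem i_h' : i h ≫ h' h = h := by
  apply Scheme.hom_ext_of_forall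
  intro z
  obtain ⟨V, hV, hzV, -⟩ := exists_good h z ⊤ trivial
  refine ⟨V, hzV, ?_⟩
  rw [← Category.assoc, ι_i h ⟨V, hV⟩, Category.assoc, ιT_h', (huT h ⟨V, hV⟩).2.1]

end Groth.Agent.Lead.UTGlueE
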