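import Groth.Agent.Lead.UTGlueE
import Mathlib

set_option autoImplicit false
set_option backward.isDefEq.respectTransparency false
set_option backward.isDefEq.respectTransparency.types false
open CategoryTheory CategoryTheory.Limits AlgebraicGeometry Opposite TopologicalSpace
universe u

namespace Groth.Agent.Lead.UTGlueF

open OmegaSh Groth.Agent.Lead Groth.Agent.Lead.UTGlueD Groth.Agent.Lead.UTGlueE

variable {Z X : Scheme.{u}} (h : Z ⟶ X) [FormallyUnramified h]

theorem i_apply_of_mem (V : J h) (z : Z) (hz : z ∈ V.1) :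
    i h z = ιT h V (iT h V ⟨z, hz⟩) := by
  have h1 := congrArg (fun f => (f : (V.1 : Scheme.{u}) ⟶ Z' h) ⟨z, hz⟩) (ι_i h V)
  simp only [Scheme.Hom.comp_apply] at h1
  exact h1

theorem i_mem_range_iff (V : J h) (z : Z) : i h z ∈ Set.range (ιT h V) ↔ z ∈ V.1 := by
  constructor
  · rintro ⟨t, ht⟩
    obtain ⟨V₂, hV₂, hzV₂, -⟩ := exists_good h z ⊤ trivial
    have h1 := i_apply_of_mem h ⟨V₂, hV₂⟩ z hzV₂
    rw [← ht] at h1
    obtain ⟨k, fi, fj, x, hx1, hx2⟩ :=
      (Scheme.IsLocallyDirected.ι_eq_ι_iff (F := F h)).mp h1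
    obtain ⟨w, rfl⟩ := iT_surjective h k x
    have hx2' : tr h k ⟨V₂, hV₂⟩ (leOfHom fj) (iT h k w) = iT h ⟨V₂, hV₂⟩ ⟨z, hzV₂⟩ := hx2
    rw [tr_iT_apply] at hx2'
    have h3 := iT_injective h ⟨V₂, hV₂⟩ hx2'
    have h4 : (w.1 : Z) = z := by
      have := congrArg (fun y => (y.1 : Z)) h3
      simp only [Scheme.homOfLE_apply] at this
      exact this
    rw [← h4]
    exact leOfHom fi w.2
  · intro hz
    exact ⟨_, (i_apply_of_mem h V z hz).symm⟩

theorem isPullback_chart (V : J h) : IsPullback (iT h V) V.1.ι (ιT h V) (i h) := by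
  apply IsOpenImmersion.isPullback _ _ _ _ (ι_i h V)
  ext z
  rw [Scheme.Opens.opensRange_ι]
  exact i_mem_range_iff h V z

theorem surjective_i : Function.Surjective (i h) := by
  intro x
  obtain ⟨V, t, rfl⟩ := ιT_jointly_surjective h x
  obtain ⟨v, rfl⟩ := iT_surjective h V t
  exact ⟨v.1, i_apply_of_mem h V v.1 v.2⟩

/-- the chart cover of the glued scheme -/
noncomputable def cover : (Z' h).OpenCover := Scheme.IsLocallyDirected.openCover (F h)

theorem isClosedImmersion_i : IsClosedImmersion (i h) := by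
  apply IsZariskiLocalAtTarget.of_openCover (P := @IsClosedImmersion) (cover h)
  intro (V : J h)
  have hpb : IsPullback V.1.ι (iT h V) (i h) (ιT h V) := (isPullback_chart h V).flip
  have h1 : hpb.isoPullback.hom ≫ pullback.snd (i h) (ιT h V) = iT h V :=
    hpb.isoPullback_hom_snd
  have h2 : pullback.snd (i h) (ιT h V) = hpb.isoPullback.inv ≫ iT h V := by
    rw [Iso.eq_inv_comp]; exact h1
  change IsClosedImmersion (pullback.snd (i h) (ιT h V))
  rw [h2]
  haveI := (huT h V).1.1.1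
  infer_instance

theorem ker_sq_i : (i h).ker * (i h).ker = ⊥ := by
  haveI := isClosedImmersion_i h
  rw [eq_bot_iff]
  apply Scheme.IdealSheafData.le_of_iSup_eq_top
    (fun p : (Σ V : J h, (T h V).affineOpens) =>
      (⟨ιT h p.1 ''ᵁ p.2.1, p.2.2.image_of_isOpenImmersion _⟩ : (Z' h).affineOpens))
  · rw [eq_top_iff]
    intro x _
    obtain ⟨V, t, rfl⟩ := ιT_jointly_surjective h x
    obtain ⟨_, ⟨W, hW, rfl⟩, htW, -⟩ := ((T h V).isBasis_affineOpens).exists_subset_of_mem_open
      (Set.mem_univ t) isOpen_univ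
    rw [Opens.mem_iSup]
    exact ⟨⟨V, ⟨W, hW⟩⟩, ⟨t, htW, rfl⟩⟩
  · rintro ⟨V, W⟩
    haveI := (huT h V).1.1.1
    have hk := Scheme.ker_ideal_of_isPullback_of_isOpenImmersion (i h) (iT h V) V.1.ι (ιT h V)
      (isPullback_chart h V) W
    have hsq := congrArg (fun I => I.ideal W) (huT h V).1.2
    simp only [Scheme.IdealSheafData.ideal_mul, Pi.mul_apply, Scheme.IdealSheafData.ideal_bot,
      Pi.bot_apply] at hsq
    rw [Scheme.IdealSheafData.ideal_mul, Pi.mul_apply, Scheme.IdealSheafData.ideal_bot,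
      Pi.bot_apply, Ideal.mul_le]
    intro x hx y hy
    set ε := (ιT h V).appIso W.1 with hε
    have hx' : ε.hom.hom x ∈ (iT h V).ker.ideal W := by
      rw [hk, Ideal.mem_comap]
      have : ε.inv.hom (ε.hom.hom x) = x := by
        change (ε.hom ≫ ε.inv) x = x
        rw [Iso.hom_inv_id]; rfl
      rw [this]; exact hx
    have hy' : ε.hom.hom y ∈ (iT h V).ker.ideal W := by
      rw [hk, Ideal.mem_comap]
      have : ε.inv.hom (ε.hom.hom y) = y := by
        change (ε.hom ≫ ε.inv) y = y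
        rw [Iso.hom_inv_id]; rfl
      rw [this]; exact hy
    have hxy : ε.hom.hom x * ε.hom.hom y ∈
        (iT h V).ker.ideal W * (iT h V).ker.ideal W := Ideal.mul_mem_mul hx' hy'
    rw [hsq, Ideal.mem_bot, ← map_mul] at hxy
    have hinj : Function.Injective ε.hom.hom :=
      (ConcreteCategory.bijective_of_isIso ε.hom).1
    rw [Ideal.mem_bot]
    apply hinj
    rw [hxy, map_zero]

theorem isFirstOrderThickening_i : MoreMor.IsFirstOrderThickening (i h) :=
  ⟨⟨isClosedImmersion_i h, ⟨surjective_i h⟩⟩, ker_sq_i h⟩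

end Groth.Agent.Lead.UTGlueF
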