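import Groth.Agent.Lead.UTGlueF
import Mathlib

set_option autoImplicit false
set_option backward.isDefEq.respectTransparency false
set_option backward.isDefEq.respectTransparency.types false
open CategoryTheory CategoryTheory.Limits AlgebraicGeometry Opposite TopologicalSpace
universe u

namespace Groth.Agent.Lead.UTGlueG

open OmegaSh Groth.Agent.Lead Groth.Agent.Lead.UTGlueD Groth.Agent.Lead.UTGlueE
  Groth.Agent.Lead.UTGlueF

variable {Z X : Scheme.{u}} (h : Z ⟶ X) [FormallyUnramified h]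

/-- **existence of the universal first order thickening** of a formally unramified morphism -/
theorem isUnivThickening : IsUnivThickening h (i h) (h' h) := by
  refine ⟨isFirstOrderThickening_i h, i_h' h, ?_⟩
  intro T₀ T₀' t b a ht w
  apply UTGlueA.exists_unique_of_local (h' h) t (a ≫ i h) b
    {W | ∃ V : J h, t ⁻¹ᵁ W ≤ a ⁻¹ᵁ V.1}
  · intro x' W₀ hx'
    obtain ⟨x, rfl⟩ := ht.1.2.surj x'
    obtain ⟨V, hV, haxV, -⟩ := exists_good h (a x) ⊤ trivial
    let O : T₀'.Opens := UTGlueA.imageOpen t ht.1 (a ⁻¹ᵁ V)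
    refine ⟨W₀ ⊓ O, ⟨⟨V, hV⟩, ?_⟩, ⟨hx', ⟨x, haxV, rfl⟩⟩, inf_le_left⟩
    intro y hy
    have h1 : y ∈ t ⁻¹ᵁ O := hy.2
    rw [UTGlueA.preimage_imageOpen] at h1
    exact h1
  · rintro W ⟨V, hWV⟩
    have ht' := UTGlueA.isFirstOrderThickening_restrict t ht W
    have hrangeA : Set.range ((t ⁻¹ᵁ W).ι ≫ a) ⊆ Set.range V.1.ι := by
      rintro _ ⟨y, rfl⟩
      rw [Scheme.Opens.range_ι, Scheme.Hom.comp_apply]
      exact hWV y.2
    let a_W : ((t ⁻¹ᵁ W : T₀.Opens) : Scheme.{u}) ⟶ (V.1 : Scheme.{u}) :=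
      IsOpenImmersion.lift V.1.ι ((t ⁻¹ᵁ W).ι ≫ a) hrangeA
    have ha_W : a_W ≫ V.1.ι = (t ⁻¹ᵁ W).ι ≫ a := IsOpenImmersion.lift_fac _ _ _
    have w' : (t ∣_ W) ≫ (W.ι ≫ b) = a_W ≫ (V.1.ι ≫ h) := by
      rw [← Category.assoc, morphismRestrict_ι, Category.assoc, w, ← Category.assoc a_W, ha_W,
        Category.assoc]
    obtain ⟨l₀, ⟨h1, h2⟩, huniq⟩ := (huT h V).2.2 _ _ (t ∣_ W) (W.ι ≫ b) a_W ht' w'
    refine ⟨l₀ ≫ ιT h V, ⟨?_, ?_⟩, ?_⟩
    · rw [← Category.assoc, h1, Category.assoc, ← ι_i, ← Category.assoc, ha_W, Category.assoc]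
    · rw [Category.assoc, ιT_h', h2]
    · rintro l' ⟨e1, e2⟩
      have hrange : Set.range l' ⊆ Set.range (ιT h V) := by
        rintro _ ⟨y', rfl⟩
        obtain ⟨y, rfl⟩ := ht'.1.2.surj y'
        rw [← Scheme.Hom.comp_apply, e1, Scheme.Hom.comp_apply, Scheme.Hom.comp_apply]
        exact (i_mem_range_iff h V _).mpr (hWV y.2)
      let l'₀ : (W : Scheme.{u}) ⟶ T h V := IsOpenImmersion.lift (ιT h V) l' hrange
      have hl'₀ : l'₀ ≫ ιT h V = l' := IsOpenImmersion.lift_fac _ _ _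
      have : l'₀ = l₀ := by
        apply huniq
        constructor
        · rw [← cancel_mono (ιT h V), Category.assoc, hl'₀, e1, Category.assoc, ← ι_i,
            ← Category.assoc, ← Category.assoc, ha_W]
        · rw [← ιT_h', ← Category.assoc, hl'₀, e2]
      rw [← hl'₀, this]

/-- S9731 -/
theorem exists_univThickening :
    ∃ (Z' : Scheme.{u}) (i : Z ⟶ Z') (h' : Z' ⟶ X), OmegaSh.IsUnivThickening h i h' :=
  ⟨Z' h, i h, h' h, isUnivThickening h⟩

end Groth.Agent.Lead.UTGlueG
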