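import Groth.Agent.Lead.UTGlueC
import Mathlib

set_option autoImplicit false
set_option linter.style.haveILetI false
universe u

namespace Groth.Agent.Lead.UTInjA

open TensorProduct OmegaSh Groth.Agent.Lead

section Flat
variable {B' P' M₀ : Type u} [CommRing B'] [CommRing P'] [Algebra B' P']
  [AddCommGroup M₀] [Module B' M₀] (ιM : M₀ →ₗ[B'] B')

/-- `p ⊗ σ ↦ ιM σ • p` -/
noncomputable def psi : P' ⊗[B'] M₀ →ₗ[B'] P' :=
  (TensorProduct.rid B' P').toLinearMap ∘ₗ (LinearMap.lTensor P' ιM)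

theorem psi_tmul (p : P') (σ : M₀) : psi ιM (p ⊗ₜ[B'] σ) = algebraMap B' P' (ιM σ) * p := by
  simp [psi, Algebra.smul_def]

theorem psi_injective [Module.Flat B' P'] (h : Function.Injective ιM) :
    Function.Injective (psi (P' := P') ιM) := by
  intro x y hxy
  apply Module.Flat.lTensor_preserves_injective_linearMap (M := P') ιM h
  exact (TensorProduct.rid B' P').injective hxy

end Flat

section Main
variable {A B' B C' C P' M₀ : Type u} [CommRing A] [CommRing B'] [CommRing B] [CommRing C']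
  [CommRing C] [CommRing P'] [Algebra A B'] [Algebra A B] [Algebra A C'] [Algebra A C]
  [Algebra B' P'] [Module.Flat B' P'] [Algebra B' C'] [Algebra B' C] [Algebra B C]
  [AddCommGroup M₀] [Module B' M₀]
  (πB : B' →ₐ[A] B) (hB : IsUnivThickeningRing A B B' πB)
  (πC : C' →ₐ[A] C) (hC : IsUnivThickeningRing A C C' πC)
  (c1 : (algebraMap B' C').comp (algebraMap A B') = algebraMap A C')
  (c2 : πC.toRingHom.comp (algebraMap B' C') = (algebraMap B C).comp πB.toRingHom)
  (c5 : algebraMap A C = (algebraMap B C).comp (algebraMap A B))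
  (c6 : algebraMap B' C = (algebraMap B C).comp πB.toRingHom)
  (q : P' →ₐ[B'] C) (hq : Function.Surjective q)
  (F : Ideal P')
  (hK : RingHom.ker q.toRingHom =
    Ideal.map (algebraMap B' P') (RingHom.ker πB.toRingHom) ⊔ F)
  (hreg : Ideal.map (algebraMap B' P') (RingHom.ker πB.toRingHom) ⊓ F ≤
     Ideal.map (algebraMap B' P') (RingHom.ker πB.toRingHom) * RingHom.ker q.toRingHom)
  (ιM : M₀ →ₗ[B'] B') (hιinj : Function.Injective ιM)
  (hιrange : ∀ σ, ιM σ ∈ RingHom.ker πB.toRingHom)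
  (hιsurj : ∀ b ∈ RingHom.ker πB.toRingHom, ∃ σ, ιM σ = b)

omit [Algebra A C] [Module.Flat B' P'] [Algebra B C] in
include hιsurj in
theorem exists_of_mem_mul (x : P')
    (hx : x ∈ Ideal.map (algebraMap B' P') (RingHom.ker πB.toRingHom) * RingHom.ker q.toRingHom) :
    ∃ w : P' ⊗[B'] M₀, psi ιM w = x ∧ (q.toLinearMap.rTensor M₀) w = 0 := by
  refine Submodule.mul_induction_on hx ?_ ?_
  · intro u hu k hk
    have hQ : ∀ k ∈ RingHom.ker q.toRingHom,
        ∃ w : P' ⊗[B'] M₀, psi ιM w = u * k ∧ (q.toLinearMap.rTensor M₀) w = 0 := by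
      rw [Ideal.map] at hu
      induction hu using Submodule.span_induction with
      | mem u hu =>
        obtain ⟨b, hb, rfl⟩ := hu
        obtain ⟨σ, rfl⟩ := hιsurj b hb
        intro k hk
        refine ⟨k ⊗ₜ σ, psi_tmul ιM k σ, ?_⟩
        rw [LinearMap.rTensor_tmul]
        have : q.toLinearMap k = 0 := hk
        rw [this, zero_tmul]
      | zero =>
        intro k _
        exact ⟨0, by rw [map_zero, zero_mul], map_zero _⟩
      | add u v _ _ hu hv =>
        intro k hk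
        obtain ⟨w₁, h₁, h₁'⟩ := hu k hk
        obtain ⟨w₂, h₂, h₂'⟩ := hv k hk
        exact ⟨w₁ + w₂, by rw [map_add, h₁, h₂, add_mul], by rw [map_add, h₁', h₂', add_zero]⟩
      | smul a u _ hu =>
        intro k hk
        obtain ⟨w, h₁, h₁'⟩ := hu (a * k) (Ideal.mul_mem_left _ a hk)
        refine ⟨w, ?_, h₁'⟩
        rw [h₁, smul_eq_mul]
        ring
    exact hQ k hk
  · intro x y hx hy
    obtain ⟨w₁, h₁, h₁'⟩ := hx
    obtain ⟨w₂, h₂, h₂'⟩ := hy
    exact ⟨w₁ + w₂, by rw [map_add, h₁, h₂], by rw [map_add, h₁', h₂', add_zero]⟩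

include hB hC c1 c2 c5 c6 hq hK hreg hιinj hιrange hιsurj in
theorem main {n : ℕ} (c' : Fin n → C') (σ : Fin n → M₀)
    (h : ∑ k, c' k * algebraMap B' C' (ιM (σ k)) = 0) :
    ∑ k, (πC (c' k)) ⊗ₜ[B'] (σ k) = (0 : C ⊗[B'] M₀) := by
  set I : Ideal B' := RingHom.ker πB.toRingHom with hI
  set IP : Ideal P' := Ideal.map (algebraMap B' P') I with hIP
  set K : Ideal P' := RingHom.ker q.toRingHom with hKdef
  let mkT : P' →+* P' ⧸ K ^ 2 := Ideal.Quotient.mk (K ^ 2)
  have hKsq : K ^ 2 ≤ K := Ideal.pow_le_self two_ne_zero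
  let p : (P' ⧸ K ^ 2) →+* C := Ideal.Quotient.lift (K ^ 2) q.toRingHom (fun a ha => hKsq ha)
  have hpmk : ∀ a, p (mkT a) = q a := fun a => Ideal.Quotient.lift_mk _ _ _
  have hp : Function.Surjective p := by
    intro c
    obtain ⟨a, rfl⟩ := hq c
    exact ⟨mkT a, hpmk a⟩
  have hkerp : RingHom.ker p ^ 2 = ⊥ := by
    have h1 : RingHom.ker p ≤ Ideal.map mkT K := by
      intro x hx
      obtain ⟨a, rfl⟩ := Ideal.Quotient.mk_surjective x
      have h2 : q a = 0 := by
        have := (RingHom.mem_ker).mp hx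
        rwa [hpmk] at this
      exact Ideal.mem_map_of_mem _ h2
    have h3 : Ideal.map mkT K ^ 2 = ⊥ := by
      rw [← Ideal.map_pow]
      exact Ideal.map_quotient_self _
    exact le_bot_iff.mp ((Ideal.pow_right_mono h1 2).trans h3.le)
  let βT : A →+* P' ⧸ K ^ 2 := mkT.comp ((algebraMap B' P').comp (algebraMap A B'))
  have hbase : ∀ a : A, p (βT a) = algebraMap A C a := by
    intro a
    change p (mkT (algebraMap B' P' (algebraMap A B' a))) = _
    rw [hpmk, q.commutes, c6, c5]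
    change algebraMap B C (πB (algebraMap A B' a)) = _
    rw [πB.commutes]
    rfl
  obtain ⟨θ, ⟨hθ1, hθ2⟩, -⟩ := UTGlueC.lift_of_univ πC hC (P' ⧸ K ^ 2) C βT p hp hkerp
    (RingHom.id C) (by ext a; exact (hbase a).symm)
  obtain ⟨μ₀, -, huniq⟩ := UTGlueC.lift_of_univ πB hB (P' ⧸ K ^ 2) C βT p hp hkerp
    (algebraMap B C) (by
      ext a
      change algebraMap B C (algebraMap A B a) = p (βT a)
      rw [hbase, c5]
      rfl)
  have h1 : θ.comp (algebraMap B' C') = μ₀ := by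
    apply huniq
    constructor
    · rw [← RingHom.comp_assoc, hθ1, RingHom.id_comp, c2]
    · rw [RingHom.comp_assoc, c1, hθ2]
  have h2 : mkT.comp (algebraMap B' P') = μ₀ := by
    apply huniq
    constructor
    · ext b
      change p (mkT (algebraMap B' P' b)) = algebraMap B C (πB b)
      rw [hpmk, q.commutes, c6]
      rfl
    · rfl
  have hθμ : ∀ b, θ (algebraMap B' C' b) = mkT (algebraMap B' P' b) := by
    intro b
    have := congrArg (fun f => f b) (h1.trans h2.symm)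
    exact this
  have hθp : ∀ x, p (θ x) = πC x := fun x => congrArg (fun f => f x) hθ1
  choose p' hp' using fun k => Ideal.Quotient.mk_surjective (θ (c' k))
  have hqp : ∀ k, q (p' k) = πC (c' k) := by
    intro k
    rw [← hpmk]
    change p (Ideal.Quotient.mk (K ^ 2) (p' k)) = _
    rw [hp', hθp]
  set w₁ : P' ⊗[B'] M₀ := ∑ k, p' k ⊗ₜ[B'] σ k with hw₁
  have hx : psi ιM w₁ = ∑ k, algebraMap B' P' (ιM (σ k)) * p' k := by
    rw [hw₁, map_sum]
    exact Finset.sum_congr rfl (fun k _ => psi_tmul ιM _ _)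
  have hx1 : psi ιM w₁ ∈ IP := by
    rw [hx]
    refine Ideal.sum_mem _ (fun k _ => Ideal.mul_mem_right _ _ ?_)
    exact Ideal.mem_map_of_mem _ (hιrange (σ k))
  have hx2 : psi ιM w₁ ∈ K ^ 2 := by
    rw [← Ideal.Quotient.eq_zero_iff_mem, hx, map_sum]
    have h3 : ∀ k, Ideal.Quotient.mk (K ^ 2) (algebraMap B' P' (ιM (σ k)) * p' k) =
        θ (c' k * algebraMap B' C' (ιM (σ k))) := by
      intro k
      rw [map_mul, map_mul, hp', hθμ, mul_comm]
    rw [Finset.sum_congr rfl (fun k _ => h3 k), ← map_sum, h, map_zero]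
  have hx3 : psi ιM w₁ ∈ IP * K := by
    have h3 : K ^ 2 = K * IP ⊔ K * F := by
      rw [pow_two, ← Ideal.mul_sup, ← hK]
    rw [h3] at hx2
    obtain ⟨y, hy, z, hz, hyz⟩ := Submodule.mem_sup.mp hx2
    have hy1 : y ∈ IP * K := by rwa [mul_comm] at hy
    have hy2 : y ∈ IP := Ideal.mul_le_right hy
    have hz1 : z ∈ F := Ideal.mul_le_right hz
    have hz2 : z ∈ IP := by
      have : z = psi ιM w₁ - y := by rw [← hyz]; ring
      rw [this]
      exact IP.sub_mem hx1 hy2
    have hz3 : z ∈ IP * K := hreg ⟨hz2, hz1⟩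
    rw [← hyz]
    exact (IP * K).add_mem hy1 hz3
  obtain ⟨w₂, hw₂, hw₂'⟩ := exists_of_mem_mul πB q ιM hιsurj _ hx3
  have hw : w₁ = w₂ := psi_injective ιM hιinj hw₂.symm
  have hfin : (q.toLinearMap.rTensor M₀) w₁ = 0 := by rw [hw]; exact hw₂'
  rw [hw₁, map_sum] at hfin
  rw [← hfin]
  refine Finset.sum_congr rfl (fun k _ => ?_)
  rw [LinearMap.rTensor_tmul]
  change _ = q (p' k) ⊗ₜ[B'] σ k
  rw [hqp]

end Main

end Groth.Agent.Lead.UTInjA
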