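import Groth.Agent.Lead.UTInjA
import Groth.Agent.Lead.SmLiftA
import Groth.Prelude.Def_CAlgX
import Mathlib

set_option autoImplicit false
set_option linter.style.haveILetI false
universe u

namespace Groth.Agent.Lead.UTInjB

open TensorProduct OmegaSh Groth.Agent.Lead

section Reg
variable {P' PB : Type u} [CommRing P'] [CommRing PB] (ρ : P' →+* PB) (hρ : Function.Surjective ρ)
  {r : ℕ} (f' : Fin r → P') (hf : CAlgX.IsH1Regular (fun i => ρ (f' i)))

include hρ hf in
/-- relations modulo `ker ρ` among the lifted sequence come from `ker ρ` -/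
theorem inf_le (K : Ideal P') (hFK : Ideal.span (Set.range f') ≤ K) :
    RingHom.ker ρ ⊓ Ideal.span (Set.range f') ≤ RingHom.ker ρ * K := by
  classical
  rintro x ⟨hx1, hx2⟩
  obtain ⟨a, rfl⟩ := (Ideal.mem_span_range_iff_exists_fun).mp hx2
  have h0 : ∑ i, ρ (a i) * ρ (f' i) = 0 := by
    have := (RingHom.mem_ker).mp hx1
    rwa [map_sum, Finset.sum_congr rfl (fun i _ => map_mul ρ (a i) (f' i))] at this
  have hspan := hf (fun i => ρ (a i)) h0
  have key : ∀ v ∈ Submodule.span PB {v : Fin r → PB | ∃ i j : Fin r,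
      v = Pi.single i (ρ (f' j)) - Pi.single j (ρ (f' i))},
      ∃ a'' : Fin r → P', (∀ i, ρ (a'' i) = v i) ∧ ∑ i, a'' i * f' i = 0 := by
    intro v hv
    induction hv using Submodule.span_induction with
    | mem v hv =>
      obtain ⟨i, j, rfl⟩ := hv
      refine ⟨Pi.single i (f' j) - Pi.single j (f' i), ?_, ?_⟩
      · intro k
        simp only [Pi.sub_apply, Pi.single_apply, map_sub, apply_ite ρ, map_zero]
      · simp only [Pi.sub_apply, Pi.single_apply, sub_mul, ite_mul, zero_mul,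
          Finset.sum_sub_distrib, Finset.sum_ite_eq', Finset.mem_univ, if_true]
        ring
    | zero => exact ⟨0, fun i => by simp, by simp⟩
    | add u v _ _ hu hv =>
      obtain ⟨a₁, h₁, h₁'⟩ := hu
      obtain ⟨a₂, h₂, h₂'⟩ := hv
      refine ⟨a₁ + a₂, fun i => by simp [h₁, h₂], ?_⟩
      simp only [Pi.add_apply, add_mul, Finset.sum_add_distrib, h₁', h₂', add_zero]
    | smul c v _ hv =>
      obtain ⟨a₁, h₁, h₁'⟩ := hv
      obtain ⟨c', rfl⟩ := hρ c
      refine ⟨fun i => c' * a₁ i, fun i => by simp [h₁], ?_⟩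
      simp only [mul_assoc]
      rw [← Finset.mul_sum, h₁', mul_zero]
  obtain ⟨a'', ha'', hsum⟩ := key _ hspan
  have hx : ∑ i, a i * f' i = ∑ i, (a i - a'' i) * f' i := by
    simp only [sub_mul, Finset.sum_sub_distrib, hsum, sub_zero]
  rw [hx]
  refine Ideal.sum_mem _ (fun i _ => Ideal.mul_mem_mul ?_ ?_)
  · rw [RingHom.mem_ker, map_sub, ha'', sub_self]
  · exact hFK (Ideal.subset_span ⟨i, rfl⟩)

end Reg

section Main
variable {A B' B C' C PB M₀ : Type u} [CommRing A] [CommRing B'] [CommRing B] [CommRing C']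
  [CommRing C] [CommRing PB] [Algebra A B'] [Algebra A B] [Algebra A C'] [Algebra A C]
  [Algebra B PB] [Algebra.IsStandardSmooth B PB] [Algebra B' C'] [Algebra B' C] [Algebra B C]
  [AddCommGroup M₀] [Module B' M₀]
  (πB : B' →ₐ[A] B) (hB : IsUnivThickeningRing A B B' πB)
  (πC : C' →ₐ[A] C) (hC : IsUnivThickeningRing A C C' πC)
  (c1 : (algebraMap B' C').comp (algebraMap A B') = algebraMap A C')
  (c2 : πC.toRingHom.comp (algebraMap B' C') = (algebraMap B C).comp πB.toRingHom)
  (c5 : algebraMap A C = (algebraMap B C).comp (algebraMap A B))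
  (c6 : algebraMap B' C = (algebraMap B C).comp πB.toRingHom)
  (κ : PB →ₐ[B] C) (hκ : Function.Surjective κ)
  {r : ℕ} (f : Fin r → PB) (hf : CAlgX.IsH1Regular f)
  (hker : RingHom.ker κ.toRingHom = Ideal.span (Set.range f))
  (ιM : M₀ →ₗ[B'] B') (hιinj : Function.Injective ιM)
  (hιrange : ∀ σ, ιM σ ∈ RingHom.ker πB.toRingHom)
  (hιsurj : ∀ b ∈ RingHom.ker πB.toRingHom, ∃ σ, ιM σ = b)

include hB hC c1 c2 c5 c6 hκ hf hker hιinj hιrange hιsurj in
theorem main {n : ℕ} (c' : Fin n → C') (σ : Fin n → M₀)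
    (h : ∑ k, c' k * algebraMap B' C' (ιM (σ k)) = 0) :
    ∑ k, (πC (c' k)) ⊗ₜ[B'] (σ k) = (0 : C ⊗[B'] M₀) := by
  obtain ⟨P', _, _, _, ρ, hρ, hρcomp, hρker⟩ :=
    SmLiftA.exists_flat_lift (B := B) (P := PB) πB.toRingHom hB.1 hB.2.1
  have hρalg : ∀ b, ρ (algebraMap B' P' b) = algebraMap B PB (πB b) :=
    fun b => congrArg (fun g => g b) hρcomp
  let q : P' →ₐ[B'] C :=
    { κ.toRingHom.comp ρ with
      commutes' := by
        intro b
        change κ (ρ (algebraMap B' P' b)) = algebraMap B' C b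
        rw [hρalg, κ.commutes, c6]
        rfl }
  have hqdef : ∀ x, q x = κ (ρ x) := fun x => rfl
  have hq : Function.Surjective q := fun c => by
    obtain ⟨y, rfl⟩ := hκ c
    obtain ⟨x, rfl⟩ := hρ y
    exact ⟨x, rfl⟩
  choose f' hf' using fun i => hρ (f i)
  have hfeq : (fun i => ρ (f' i)) = f := funext hf'
  have hmapF : Ideal.map ρ (Ideal.span (Set.range f')) = Ideal.span (Set.range f) := by
    rw [Ideal.map_span, ← Set.range_comp]
    congr 2
  have hK : RingHom.ker q.toRingHom =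
      Ideal.map (algebraMap B' P') (RingHom.ker πB.toRingHom) ⊔ Ideal.span (Set.range f') := by
    have h1 : RingHom.ker q.toRingHom = Ideal.comap ρ (RingHom.ker κ.toRingHom) := by
      ext x
      rw [RingHom.mem_ker, Ideal.mem_comap, RingHom.mem_ker]
      rfl
    rw [h1, hker, ← hmapF, Ideal.comap_map_of_surjective ρ hρ, ← RingHom.ker_eq_comap_bot, hρker,
      sup_comm]
  have hFK : Ideal.span (Set.range f') ≤ RingHom.ker q.toRingHom := by
    rw [hK]
    exact le_sup_right
  have hreg : Ideal.map (algebraMap B' P') (RingHom.ker πB.toRingHom) ⊓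
      Ideal.span (Set.range f') ≤
      Ideal.map (algebraMap B' P') (RingHom.ker πB.toRingHom) * RingHom.ker q.toRingHom := by
    rw [← hρker]
    exact inf_le ρ hρ f' (by rw [hfeq]; exact hf) _ hFK
  exact UTInjA.main πB hB πC hC c1 c2 c5 c6 q hq _ hK hreg ιM hιinj hιrange hιsurj c' σ h

end Main

end Groth.Agent.Lead.UTInjB
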