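import Groth.Agent.Lead.UTTransB
import Groth.Agent.Lead.UTInjB
import Mathlib

set_option autoImplicit false
set_option linter.style.haveILetI false
set_option backward.isDefEq.respectTransparency false
set_option backward.isDefEq.respectTransparency.types false
open CategoryTheory CategoryTheory.Limits AlgebraicGeometry Opposite TopologicalSpace TensorProduct
universe u

namespace Groth.Agent.Lead.UTInjC

open Scheme.Modules OmegaSh Groth.Agent.Lead Groth.Agent.Helper4 Groth.Agent.Lead.BCMap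

section Sheaf
variable {Z Y X Z' Y' Z'' : Scheme.{u}} (i'' : Z ⟶ Z'') (n : Z'' ⟶ Z') (m : Z' ⟶ Y') (d : Y' ⟶ X)
  (j : Y ⟶ Y') (e : Z'' ⟶ Y)
  (hZ' : IsUnivThickening ((i'' ≫ e) ≫ (j ≫ d)) (i'' ≫ n) (m ≫ d))
  (hY' : IsUnivThickening (j ≫ d) j d)
  (hm₁ : (i'' ≫ n) ≫ m = (i'' ≫ e) ≫ j)
  [QuasiCompact (i'' ≫ n)] [QuasiCompact j]
  (ψ₁ : (Scheme.Modules.pullback (i'' ≫ e)).obj (Omega.conormal j) ⟶ Omega.conormal (i'' ≫ n))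
  (hψ₁ : IsConormalMap (i'' ≫ n) j m (i'' ≫ e) ψ₁)

include hZ' hY' hm₁ hψ₁ in
/-- chart-level injectivity of `ψ₁` in the presence of a smooth chart with an `H_1`-regular
presentation -/
theorem app_injective {UX : X.Opens} {UY' : Y'.Opens} {UZ' : Z'.Opens} (hUX : IsAffineOpen UX)
    (hUY' : IsAffineOpen UY') (hUZ' : IsAffineOpen UZ') (e₁ : UY' ≤ d ⁻¹ᵁ UX)
    (e₂ : UZ' ≤ m ⁻¹ᵁ UY')
    (eV : (i'' ≫ n) ⁻¹ᵁ UZ' ≤ (i'' ≫ e) ⁻¹ᵁ (j ⁻¹ᵁ UY'))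
    {PB : Type u} [CommRing PB] (φ : Γ(Y, j ⁻¹ᵁ UY') →+* PB) (hφ : φ.IsStandardSmooth)
    (κ : PB →+* Γ(Z, (i'' ≫ n) ⁻¹ᵁ UZ')) (hκ : Function.Surjective κ)
    (hκφ : κ.comp φ = ((i'' ≫ e).appLE (j ⁻¹ᵁ UY') ((i'' ≫ n) ⁻¹ᵁ UZ') eV).hom)
    {r : ℕ} (f : Fin r → PB) (hf : CAlgX.IsH1Regular f)
    (hker : RingHom.ker κ = Ideal.span (Set.range f)) :
    Function.Injective (ψ₁.app ((i'' ≫ n) ⁻¹ᵁ UZ')) := by
  haveI : IsClosedImmersion j := hY'.1.1.1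
  haveI : IsClosedImmersion (i'' ≫ n) := hZ'.1.1.1
  have hUY : IsAffineOpen (j ⁻¹ᵁ UY') := hUY'.preimage j
  have hV : IsAffineOpen ((i'' ≫ n) ⁻¹ᵁ UZ') := hUZ'.preimage (i'' ≫ n)
  have e₃ : UZ' ≤ (m ≫ d) ⁻¹ᵁ UX := fun y hy => e₁ (e₂ hy)
  have eB : j ⁻¹ᵁ UY' ≤ (j ≫ d) ⁻¹ᵁ UX := UnivThick6.preimage_le (j ≫ d) j d rfl e₁
  have eC : (i'' ≫ n) ⁻¹ᵁ UZ' ≤ ((i'' ≫ e) ≫ (j ≫ d)) ⁻¹ᵁ UX :=
    UnivThick6.preimage_le _ (i'' ≫ n) (m ≫ d) hZ'.2.1 e₃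
  have hsurjj : Function.Surjective (j.app UY') := j.app_surjective _ hUY'
  have hsurjc : Function.Surjective ((i'' ≫ n).app UZ') := (i'' ≫ n).app_surjective _ hUZ'
  -- algebra structures
  letI algAB' : Algebra Γ(X, UX) Γ(Y', UY') := (d.appLE UX UY' e₁).hom.toAlgebra
  letI algAB : Algebra Γ(X, UX) Γ(Y, j ⁻¹ᵁ UY') := ((j ≫ d).appLE UX (j ⁻¹ᵁ UY') eB).hom.toAlgebra
  letI algAC' : Algebra Γ(X, UX) Γ(Z', UZ') := ((m ≫ d).appLE UX UZ' e₃).hom.toAlgebra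
  letI algAC : Algebra Γ(X, UX) Γ(Z, (i'' ≫ n) ⁻¹ᵁ UZ') :=
    (((i'' ≫ e) ≫ (j ≫ d)).appLE UX ((i'' ≫ n) ⁻¹ᵁ UZ') eC).hom.toAlgebra
  letI algB'C' : Algebra Γ(Y', UY') Γ(Z', UZ') := (m.appLE UY' UZ' e₂).hom.toAlgebra
  letI algBC : Algebra Γ(Y, j ⁻¹ᵁ UY') Γ(Z, (i'' ≫ n) ⁻¹ᵁ UZ') :=
    ((i'' ≫ e).appLE (j ⁻¹ᵁ UY') ((i'' ≫ n) ⁻¹ᵁ UZ') eV).hom.toAlgebra
  letI algB'C : Algebra Γ(Y', UY') Γ(Z, (i'' ≫ n) ⁻¹ᵁ UZ') :=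
    (((i'' ≫ e).appLE (j ⁻¹ᵁ UY') ((i'' ≫ n) ⁻¹ᵁ UZ') eV).hom.comp (j.app UY').hom).toAlgebra
  letI algBP : Algebra Γ(Y, j ⁻¹ᵁ UY') PB := φ.toAlgebra
  haveI : Algebra.IsStandardSmooth Γ(Y, j ⁻¹ᵁ UY') PB := hφ
  let πB : Γ(Y', UY') →ₐ[Γ(X, UX)] Γ(Y, j ⁻¹ᵁ UY') :=
    { (j.app UY').hom with
      commutes' := by
        intro r
        change (j.app UY') ((d.appLE UX UY' e₁) r) = ((j ≫ d).appLE UX (j ⁻¹ᵁ UY') eB) r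
        rw [Scheme.Hom.app_eq_appLE, ← Scheme.Hom.appLE_comp_appLE _ _ UX UY' (j ⁻¹ᵁ UY') e₁ le_rfl]
        rfl }
  let πC' : Γ(Z', UZ') →ₐ[Γ(X, UX)] Γ(Z, (i'' ≫ n) ⁻¹ᵁ UZ') :=
    { ((i'' ≫ n).app UZ').hom with
      commutes' := by
        intro r
        change ((i'' ≫ n).app UZ') (((m ≫ d).appLE UX UZ' e₃) r) =
          (((i'' ≫ e) ≫ (j ≫ d)).appLE UX ((i'' ≫ n) ⁻¹ᵁ UZ') eC) r
        rw [Scheme.Hom.app_eq_appLE, ← CommRingCat.comp_apply, Scheme.Hom.appLE_comp_appLE,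
          UTTransB.appLE_congr_hom hZ'.2.1] }
  have hB := UnivThick6.isUnivThickeningRing_of_chart (j ≫ d) j d hY' hUX hUY' e₁ πB (fun x => rfl)
  have hC' := UnivThick6.isUnivThickeningRing_of_chart _ (i'' ≫ n) (m ≫ d) hZ' hUX hUZ' e₃ πC'
    (fun x => rfl)
  let κ' : PB →ₐ[Γ(Y, j ⁻¹ᵁ UY')] Γ(Z, (i'' ≫ n) ⁻¹ᵁ UZ') :=
    { κ with
      commutes' := by
        intro b
        exact congrArg (fun g => g b) hκφ }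
  let ιM : Γ(ClSub.idealMod j.ker, UY') →ₗ[Γ(Y', UY')] Γ(Y', UY') :=
    { toFun := idealSect j.ker UY'
      map_add' := map_add _
      map_smul' := fun a σ => by
        rw [OmegaCnC.idealSect_smul]
        rfl }
  have c1 : (algebraMap Γ(Y', UY') Γ(Z', UZ')).comp (algebraMap Γ(X, UX) Γ(Y', UY')) =
      algebraMap Γ(X, UX) Γ(Z', UZ') := by
    change (m.appLE UY' UZ' e₂).hom.comp (d.appLE UX UY' e₁).hom = ((m ≫ d).appLE UX UZ' e₃).hom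
    rw [← CommRingCat.hom_comp, Scheme.Hom.appLE_comp_appLE]
  have c2 : πC'.toRingHom.comp (algebraMap Γ(Y', UY') Γ(Z', UZ')) =
      (algebraMap Γ(Y, j ⁻¹ᵁ UY') Γ(Z, (i'' ≫ n) ⁻¹ᵁ UZ')).comp πB.toRingHom := by
    change ((i'' ≫ n).app UZ').hom.comp (m.appLE UY' UZ' e₂).hom =
      ((i'' ≫ e).appLE (j ⁻¹ᵁ UY') ((i'' ≫ n) ⁻¹ᵁ UZ') eV).hom.comp (j.app UY').hom
    rw [← CommRingCat.hom_comp, ← CommRingCat.hom_comp]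
    congr 1
    rw [Scheme.Hom.app_eq_appLE, Scheme.Hom.app_eq_appLE, Scheme.Hom.appLE_comp_appLE,
      Scheme.Hom.appLE_comp_appLE, UTTransB.appLE_congr_hom hm₁]
  have c5 : algebraMap Γ(X, UX) Γ(Z, (i'' ≫ n) ⁻¹ᵁ UZ') =
      (algebraMap Γ(Y, j ⁻¹ᵁ UY') Γ(Z, (i'' ≫ n) ⁻¹ᵁ UZ')).comp
        (algebraMap Γ(X, UX) Γ(Y, j ⁻¹ᵁ UY')) := by
    change (((i'' ≫ e) ≫ (j ≫ d)).appLE UX ((i'' ≫ n) ⁻¹ᵁ UZ') eC).hom =
      ((i'' ≫ e).appLE (j ⁻¹ᵁ UY') ((i'' ≫ n) ⁻¹ᵁ UZ') eV).hom.comp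
        ((j ≫ d).appLE UX (j ⁻¹ᵁ UY') eB).hom
    rw [← CommRingCat.hom_comp, Scheme.Hom.appLE_comp_appLE]
  have c6 : algebraMap Γ(Y', UY') Γ(Z, (i'' ≫ n) ⁻¹ᵁ UZ') =
      (algebraMap Γ(Y, j ⁻¹ᵁ UY') Γ(Z, (i'' ≫ n) ⁻¹ᵁ UZ')).comp πB.toRingHom := rfl
  have key := fun {k : ℕ} (c' : Fin k → Γ(Z', UZ')) (σ : Fin k → Γ(ClSub.idealMod j.ker, UY')) =>
    UTInjB.main πB hB πC' hC' c1 c2 c5 c6 κ' hκ f hf hker ιM
      (OmegaCnC.idealSect_injective j UY') (fun σ => OmegaCnB.app_idealSect j hUY' σ)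
      (fun b hb => OmegaCnB.exists_idealSect j hUY' b hb) c' σ
  -- module structures on the sections of the pullback
  haveI : (Omega.conormal j).IsQuasicoherent :=
    StalkPull.isQuasicoherent_pullbackObj j (ClSub.idealMod j.ker)
  letI modBN : Module Γ(Y, j ⁻¹ᵁ UY')
      Γ((Scheme.Modules.pullback (i'' ≫ e)).obj (Omega.conormal j), (i'' ≫ n) ⁻¹ᵁ UZ') :=
    Module.compHom _ ((i'' ≫ e).appLE (j ⁻¹ᵁ UY') ((i'' ≫ n) ⁻¹ᵁ UZ') eV).hom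
  haveI : IsScalarTower Γ(Y, j ⁻¹ᵁ UY') Γ(Z, (i'' ≫ n) ⁻¹ᵁ UZ')
      Γ((Scheme.Modules.pullback (i'' ≫ e)).obj (Omega.conormal j), (i'' ≫ n) ⁻¹ᵁ UZ') :=
    IsScalarTower.of_compHom _ _ _
  obtain ⟨ρ₂, hρ₂, hb₂⟩ := exists_isBaseChange_pbSec (i'' ≫ e) (Omega.conormal j) hUY hV eV
  letI modB'N : Module Γ(Y', UY')
      Γ((Scheme.Modules.pullback (i'' ≫ e)).obj (Omega.conormal j), (i'' ≫ n) ⁻¹ᵁ UZ') :=
    Module.compHom _ (algebraMap Γ(Y', UY') Γ(Z, (i'' ≫ n) ⁻¹ᵁ UZ'))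
  haveI : IsScalarTower Γ(Y', UY') Γ(Z, (i'' ≫ n) ⁻¹ᵁ UZ')
      Γ((Scheme.Modules.pullback (i'' ≫ e)).obj (Omega.conormal j), (i'' ≫ n) ⁻¹ᵁ UZ') :=
    IsScalarTower.of_compHom _ _ _
  let ρ : Γ(ClSub.idealMod j.ker, UY') →ₗ[Γ(Y', UY')]
      Γ((Scheme.Modules.pullback (i'' ≫ e)).obj (Omega.conormal j), (i'' ≫ n) ⁻¹ᵁ UZ') :=
    { toFun := fun σ => pbSec (i'' ≫ e) (Omega.conormal j) (j ⁻¹ᵁ UY') ((i'' ≫ n) ⁻¹ᵁ UZ') eV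
        (conormalSect j UY' σ)
      map_add' := fun a b => by rw [map_add, map_add]
      map_smul' := fun a σ => by
        rw [OmegaCnG.conormalSect_smul, pbSec_smul, Scheme.Hom.appLE_eq_app]
        rfl }
  have hρ : ∀ σ, ρ σ = pbSec (i'' ≫ e) (Omega.conormal j) (j ⁻¹ᵁ UY') ((i'' ≫ n) ⁻¹ᵁ UZ') eV
      (conormalSect j UY' σ) := fun σ => rfl
  have hspan : ∀ x : Γ((Scheme.Modules.pullback (i'' ≫ e)).obj (Omega.conormal j),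
      (i'' ≫ n) ⁻¹ᵁ UZ'), x ∈ Submodule.span Γ(Z, (i'' ≫ n) ⁻¹ᵁ UZ') (Set.range ρ) := by
    intro x
    induction x using hb₂.inductionOn with
    | zero => exact Submodule.zero_mem _
    | tmul n₁ =>
      obtain ⟨σ, rfl⟩ := OmegaCnH.exists_conormalSect j hUY' hUY hsurjj n₁
      rw [hρ₂]
      exact Submodule.subset_span ⟨σ, rfl⟩
    | smul c x hx => exact Submodule.smul_mem _ c hx
    | add x y hx hy => exact Submodule.add_mem _ hx hy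
  have hsq : RingHom.ker ((i'' ≫ n).app UZ').hom ^ 2 = ⊥ := by
    have h1 := congrArg (fun I => I.ideal ⟨UZ', hUZ'⟩) hZ'.1.2
    simp only [Scheme.IdealSheafData.ideal_mul, Pi.mul_apply, Scheme.IdealSheafData.ideal_bot,
      Pi.bot_apply, Scheme.Hom.ker_apply] at h1
    rw [pow_two]
    exact h1
  rw [injective_iff_map_eq_zero]
  intro x hx
  obtain ⟨k, c, g, rfl⟩ := Submodule.mem_span_set'.mp (hspan x)
  choose σ hσ using fun t => (g t).2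
  choose c' hc' using fun t => hsurjc (c t)
  choose τ hτ hτψ using fun t => UTTransB.psi1_gen i'' n m j e hm₁ ψ₁ hψ₁ e₂ (σ t)
  have hψρ : ∀ t, ψ₁.app ((i'' ≫ n) ⁻¹ᵁ UZ') (ρ (σ t)) = conormalSect (i'' ≫ n) UZ' (τ t) := by
    intro t
    rw [hρ]
    refine (hτψ t _ eV le_rfl).trans ?_
    exact OmegaCnB.pbSec_self (i'' ≫ n) _ UZ' (τ t)
  have h1 : conormalSect (i'' ≫ n) UZ' (∑ t, c' t • τ t) = 0 := by
    rw [map_sum]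
    rw [map_sum] at hx
    rw [← hx]
    refine Finset.sum_congr rfl (fun t _ => ?_)
    rw [OmegaCnG.conormalSect_smul, Scheme.Hom.appLE_eq_app, hc', Scheme.Modules.Hom.app_smul,
      ← hσ t, hψρ]
  have h2 := OmegaCnF.idealSect_mem_sq (i'' ≫ n) hUZ' hV hsurjc _ h1
  rw [hsq, Ideal.mem_bot, map_sum] at h2
  have h3 : ∑ t, c' t * algebraMap Γ(Y', UY') Γ(Z', UZ') (ιM (σ t)) = 0 := by
    rw [← h2]
    refine Finset.sum_congr rfl (fun t _ => ?_)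
    rw [OmegaCnC.idealSect_smul, hτ]
    rfl
  have h4 := key c' σ h3
  have h5 := congrArg (ρ.liftBaseChange Γ(Z, (i'' ≫ n) ⁻¹ᵁ UZ')) h4
  rw [map_sum, map_zero] at h5
  rw [← h5]
  refine Finset.sum_congr rfl (fun t _ => ?_)
  rw [LinearMap.liftBaseChange_tmul, ← hσ t]
  congr 1
  exact (hc' t).symm

end Sheaf

end Groth.Agent.Lead.UTInjC
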