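import Groth.Agent.Lead.UTInjC
import Groth.Agent.Lead.H1RegB
import Groth.Agent.Lead.KoszulH1
import Groth.Prelude.Def_RegImm
import Mathlib

set_option autoImplicit false
set_option linter.style.haveILetI false
set_option backward.isDefEq.respectTransparency false
set_option backward.isDefEq.respectTransparency.types false
open CategoryTheory CategoryTheory.Limits AlgebraicGeometry Opposite TopologicalSpace TensorProduct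
universe u

namespace Groth.Agent.Lead.UTInjD

open Scheme.Modules OmegaSh Groth.Agent.Lead Groth.Agent.Helper4 Groth.Agent.Lead.BCMap

/-- transport of an `H_1`-regular presentation of the kernel along equalities of opens -/
theorem transport {A B : Scheme.{u}} (g : A ⟶ B) {T₁ T₂ : B.Opens} {S₁ S₂ : A.Opens}
    (hT : T₂ = T₁) (hS : S₂ = S₁) (e₁ : S₁ ≤ g ⁻¹ᵁ T₁) (e₂ : S₂ ≤ g ⁻¹ᵁ T₂) {r : ℕ}
    (f : Fin r → Γ(B, T₁)) (hf : CAlgX.IsH1Regular f)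
    (hker : RingHom.ker (g.appLE T₁ S₁ e₁).hom = Ideal.span (Set.range f)) :
    ∃ f₂ : Fin r → Γ(B, T₂), CAlgX.IsH1Regular f₂ ∧
      RingHom.ker (g.appLE T₂ S₂ e₂).hom = Ideal.span (Set.range f₂) := by
  subst hT
  subst hS
  exact ⟨f, hf, hker⟩

/-- restriction of an `H_1`-regular presentation of the kernel to a smaller affine open -/
theorem h1_restrict' {Z Y : Scheme.{u}} (i : Z ⟶ Y) [QuasiCompact i] {U V : Y.Opens}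
    (hU : IsAffineOpen U) (hV : IsAffineOpen V) (h : V ≤ U) {r : ℕ} (f : Fin r → Γ(Y, U))
    (hf : CAlgX.IsH1Regular f) (hker : RingHom.ker (i.app U).hom = Ideal.span (Set.range f)) :
    CAlgX.IsH1Regular (fun k => Y.presheaf.map (homOfLE h).op (f k)) ∧
      RingHom.ker (i.app V).hom =
        Ideal.span (Set.range (fun k => Y.presheaf.map (homOfLE h).op (f k))) := by
  refine ⟨?_, ?_⟩
  · letI := (Y.presheaf.map (homOfLE h).op).hom.toAlgebra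
    haveI : Module.Flat Γ(Y, U) Γ(Y, V) := H1RegB.flat_res hU hV h
    exact H1RegA.isH1Regular_of_flat f hf
  · have h1 := i.ker.map_ideal (U := ⟨V, hV⟩) (V := ⟨U, hU⟩) h
    rw [Scheme.Hom.ker_apply, Scheme.Hom.ker_apply] at h1
    rw [← h1, hker, Ideal.map_span, ← Set.range_comp]
    rfl

/-- local structure of a Koszul morphism: an open neighbourhood which is a closed subscheme of an
affine scheme smooth over the base, cut out by an `H_1`-regular sequence -/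
theorem exists_local_data {Z Y : Scheme.{u}} (i : Z ⟶ Y) (z : Z) (h : Synt.IsKoszulAt i z) :
    ∃ (Z₀ P₀ : Scheme.{u}) (u : Z₀ ⟶ Z) (ι₀ : Z₀ ⟶ P₀) (π₀ : P₀ ⟶ Y) (z₀ : Z₀),
      IsOpenImmersion u ∧ IsClosedImmersion ι₀ ∧ Smooth π₀ ∧ IsAffine P₀ ∧ u z₀ = z ∧
      ι₀ ≫ π₀ = u ≫ i ∧ ∃ (r : ℕ) (f : Fin r → Γ(P₀, ⊤)), CAlgX.IsH1Regular f ∧
        RingHom.ker (ι₀.app ⊤).hom = Ideal.span (Set.range f) := by
  obtain ⟨U, P, ι, π, hzU, -, ⟨himm, hreg⟩, hsm, hcomp⟩ := h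
  obtain ⟨W₀, hzW₀, hcl, rs, hrs, hker⟩ := hreg ⟨z, hzU⟩
  have hrs' : CAlgX.IsH1Regular rs.get := KoszulH1.isH1Regular_of_isKoszulRegularSeq rs hrs
  have hker' : RingHom.ker (ι.appLE W₀.1 (ι ⁻¹ᵁ W₀.1) le_rfl).hom =
      Ideal.span (Set.range rs.get) := by
    rw [Scheme.Hom.appLE_eq_app, hker, Set.range_list_get]
  haveI : IsAffine W₀.1.toScheme := W₀.2
  refine ⟨(ι ⁻¹ᵁ W₀.1).toScheme, W₀.1.toScheme, (ι ⁻¹ᵁ W₀.1).ι ≫ U.ι, ι ∣_ W₀.1, W₀.1.ι ≫ π,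
    ⟨⟨z, hzU⟩, hzW₀⟩, inferInstance, hcl, inferInstance, W₀.2, rfl, ?_, ?_⟩
  · rw [← Category.assoc, morphismRestrict_ι, Category.assoc, hcomp, Category.assoc]
  · have hT : W₀.1.ι ''ᵁ ⊤ = W₀.1 := W₀.1.ι_image_top
    have hS : (ι ⁻¹ᵁ W₀.1).ι ''ᵁ ((ι ∣_ W₀.1) ⁻¹ᵁ ⊤) = ι ⁻¹ᵁ W₀.1 := by
      rw [Scheme.Hom.preimage_top]
      exact (ι ⁻¹ᵁ W₀.1).ι_image_top
    obtain ⟨f₂, hf₂, hk₂⟩ := transport ι hT hS le_rfl
      (image_morphismRestrict_preimage ι W₀.1 ⊤).le rs.get hrs' hker'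
    refine ⟨rs.length, f₂, hf₂, ?_⟩
    rw [morphismRestrict_app']
    exact hk₂

section Main
variable {Z Y X Z' Y' Z'' : Scheme.{u}} (i'' : Z ⟶ Z'') (n : Z'' ⟶ Z') (m : Z' ⟶ Y') (d : Y' ⟶ X)
  (j : Y ⟶ Y') (e : Z'' ⟶ Y)
  (hZ' : IsUnivThickening ((i'' ≫ e) ≫ (j ≫ d)) (i'' ≫ n) (m ≫ d))
  (hY' : IsUnivThickening (j ≫ d) j d)
  (hm₁ : (i'' ≫ n) ≫ m = (i'' ≫ e) ≫ j)
  [QuasiCompact (i'' ≫ n)] [QuasiCompact j]
  (ψ₁ : (Scheme.Modules.pullback (i'' ≫ e)).obj (Omega.conormal j) ⟶ Omega.conormal (i'' ≫ n))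
  (hψ₁ : IsConormalMap (i'' ≫ n) j m (i'' ≫ e) ψ₁)
  (hlci : ∀ z : Z, Synt.IsKoszulAt (i'' ≫ e) z)

include hZ' hY' hm₁ hψ₁ hlci in
theorem mono_psi1 : Mono ψ₁ := by
  haveI : IsClosedImmersion j := hY'.1.1.1
  haveI : IsClosedImmersion (i'' ≫ n) := hZ'.1.1.1
  have ht' : MoreMor.IsThickening (i'' ≫ n) := hZ'.1.1
  have hsurj' : Function.Surjective (i'' ≫ n) := ht'.2.surj
  haveI : (Omega.conormal j).IsQuasicoherent :=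
    StalkPull.isQuasicoherent_pullbackObj j (ClSub.idealMod j.ker)
  haveI : ((Scheme.Modules.pullback (i'' ≫ e)).obj (Omega.conormal j)).IsQuasicoherent :=
    StalkPull.isQuasicoherent_pullbackObj (i'' ≫ e) _
  haveI : (Omega.conormal (i'' ≫ n)).IsQuasicoherent :=
    StalkPull.isQuasicoherent_pullbackObj (i'' ≫ n) (ClSub.idealMod (i'' ≫ n).ker)
  apply QcohLocal.mono_of_app_injective_of_affine_cover
  intro z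
  obtain ⟨Z₀, P₀, u, ι₀, π₀, z₀, hu, hι₀, hπ₀, hP₀, hz₀, hcomp, r, f, hf, hkerf⟩ :=
    exists_local_data (i'' ≫ e) z (hlci z)
  haveI := hu
  haveI := hι₀
  haveI := hπ₀
  haveI := hP₀
  have hpt : ∀ w : Z₀, π₀ (ι₀ w) = (i'' ≫ e) (u w) := by
    intro w
    have h1 : (ι₀ ≫ π₀) w = (u ≫ (i'' ≫ e)) w := by rw [hcomp]
    exact h1
  obtain ⟨UY', UX, hUY', hUX, hyU, e₁⟩ := OmegaSecB.exists_affine_pair d (j ((i'' ≫ e) z))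
  have hUY : IsAffineOpen (j ⁻¹ᵁ UY') := hUY'.preimage j
  have hp₀ : ι₀ z₀ ∈ π₀ ⁻¹ᵁ (j ⁻¹ᵁ UY') := by
    change π₀ (ι₀ z₀) ∈ j ⁻¹ᵁ UY'
    rw [hpt, hz₀]
    exact hyU
  obtain ⟨_, ⟨W₁, hW₁ : IsAffineOpen W₁, rfl⟩, hpW₁, hW₁le⟩ :=
    P₀.isBasis_affineOpens.exists_subset_of_mem_open hp₀ (π₀ ⁻¹ᵁ (j ⁻¹ᵁ UY')).isOpen
  have eW₁ : W₁ ≤ π₀ ⁻¹ᵁ (j ⁻¹ᵁ UY') := hW₁le
  have hsm : (π₀.appLE (j ⁻¹ᵁ UY') W₁ eW₁).hom.Smooth := π₀.smooth_appLE hUY hW₁ eW₁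
  obtain ⟨s, hs, hst⟩ := RingHom.smooth_iff_locally_isStandardSmooth.mp hsm
  have hcov := iSup_basicOpen_of_span_eq_top W₁ s hs
  have hmem : ι₀ z₀ ∈ ⨆ t ∈ s, P₀.basicOpen t := by
    rw [hcov]
    exact hpW₁
  obtain ⟨t, ht, hpt'⟩ : ∃ t ∈ s, ι₀ z₀ ∈ P₀.basicOpen t := by
    simpa [Opens.mem_iSup] using hmem
  have hW : IsAffineOpen (P₀.basicOpen t) := hW₁.basicOpen t
  have hWW₁ : P₀.basicOpen t ≤ W₁ := P₀.basicOpen_le t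
  have eW : P₀.basicOpen t ≤ π₀ ⁻¹ᵁ (j ⁻¹ᵁ UY') := hWW₁.trans eW₁
  have hstd : (π₀.appLE (j ⁻¹ᵁ UY') (P₀.basicOpen t) eW).hom.IsStandardSmooth := by
    haveI := hW₁.isLocalization_basicOpen t
    let eq : Localization.Away t ≃ₐ[Γ(P₀, W₁)] Γ(P₀, P₀.basicOpen t) :=
      IsLocalization.algEquiv (Submonoid.powers t) _ _
    have h1 := RingHom.isStandardSmooth_respectsIso.1 _ eq.toRingEquiv (hst t ht)
    have h2 : (π₀.appLE (j ⁻¹ᵁ UY') (P₀.basicOpen t) eW).hom =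
        eq.toRingEquiv.toRingHom.comp ((algebraMap Γ(P₀, W₁) (Localization.Away t)).comp
          (π₀.appLE (j ⁻¹ᵁ UY') W₁ eW₁).hom) := by
      ext b
      change _ = eq (algebraMap Γ(P₀, W₁) (Localization.Away t)
        ((π₀.appLE (j ⁻¹ᵁ UY') W₁ eW₁) b))
      rw [eq.commutes]
      change _ = (π₀.appLE (j ⁻¹ᵁ UY') W₁ eW₁ ≫ P₀.presheaf.map (homOfLE hWW₁).op) b
      rw [Scheme.Hom.appLE_map]
    rw [h2]
    exact h1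
  obtain ⟨hfW, hkerW⟩ := h1_restrict' ι₀ (isAffineOpen_top P₀) hW le_top f hf hkerf
  have hV₀ : IsAffineOpen (ι₀ ⁻¹ᵁ P₀.basicOpen t) := hW.preimage ι₀
  have hV₁ : IsAffineOpen (u ''ᵁ (ι₀ ⁻¹ᵁ P₀.basicOpen t)) := hV₀.image_of_isOpenImmersion u
  have hzV₁ : z ∈ u ''ᵁ (ι₀ ⁻¹ᵁ P₀.basicOpen t) := ⟨z₀, hpt', hz₀⟩
  have hpre : (i'' ≫ n) ⁻¹ᵁ (UTGlueA.imageOpen (i'' ≫ n) ht' (u ''ᵁ (ι₀ ⁻¹ᵁ P₀.basicOpen t))) =
      u ''ᵁ (ι₀ ⁻¹ᵁ P₀.basicOpen t) := UTGlueA.preimage_imageOpen _ ht' _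
  generalize UTGlueA.imageOpen (i'' ≫ n) ht' (u ''ᵁ (ι₀ ⁻¹ᵁ P₀.basicOpen t)) = UZ' at hpre
  have hUZ' : IsAffineOpen UZ' :=
    LiftPow.isAffineOpen_of_preimage (i'' ≫ n) hsurj' UZ' (by rw [hpre]; exact hV₁)
  have hVle : ∀ z' ∈ (i'' ≫ n) ⁻¹ᵁ UZ', (i'' ≫ e) z' ∈ j ⁻¹ᵁ UY' := by
    intro z' hz'
    rw [hpre] at hz'
    obtain ⟨w, hw, rfl⟩ := hz'
    have h2 : π₀ (ι₀ w) ∈ j ⁻¹ᵁ UY' := eW hw
    rw [hpt] at h2
    exact h2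
  have eV : (i'' ≫ n) ⁻¹ᵁ UZ' ≤ (i'' ≫ e) ⁻¹ᵁ (j ⁻¹ᵁ UY') := hVle
  have e₂ : UZ' ≤ m ⁻¹ᵁ UY' := by
    intro p hp
    obtain ⟨z', rfl⟩ := hsurj' p
    have h1 : ((i'' ≫ e) ≫ j) z' ∈ UY' := hVle z' hp
    rw [← hm₁] at h1
    exact h1
  let θ : Γ(Z₀, ι₀ ⁻¹ᵁ P₀.basicOpen t) ≅ Γ(Z, (i'' ≫ n) ⁻¹ᵁ UZ') :=
    (u.appIso (ι₀ ⁻¹ᵁ P₀.basicOpen t)).symm ≪≫ Z.presheaf.mapIso (eqToIso hpre).op
  have hθinj : Function.Injective θ.hom.hom := (ConcreteCategory.bijective_of_isIso θ.hom).injective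
  have hθsurj : Function.Surjective θ.hom.hom :=
    (ConcreteCategory.bijective_of_isIso θ.hom).surjective
  have hκsurj : Function.Surjective (ι₀.app (P₀.basicOpen t) ≫ θ.hom).hom := by
    intro y
    obtain ⟨y₁, rfl⟩ := hθsurj y
    obtain ⟨y₂, rfl⟩ := ι₀.app_surjective _ hW y₁
    exact ⟨y₂, rfl⟩
  have hκker : RingHom.ker (ι₀.app (P₀.basicOpen t) ≫ θ.hom).hom =
      Ideal.span (Set.range (fun k => P₀.presheaf.map (homOfLE (le_top : P₀.basicOpen t ≤ ⊤)).op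
        (f k))) := by
    rw [← hkerW]
    ext x
    rw [RingHom.mem_ker, RingHom.mem_ker]
    change θ.hom.hom ((ι₀.app (P₀.basicOpen t)).hom x) = 0 ↔ _
    rw [map_eq_zero_iff _ hθinj]
  have hκφ : (ι₀.app (P₀.basicOpen t) ≫ θ.hom).hom.comp
      (π₀.appLE (j ⁻¹ᵁ UY') (P₀.basicOpen t) eW).hom =
      ((i'' ≫ e).appLE (j ⁻¹ᵁ UY') ((i'' ≫ n) ⁻¹ᵁ UZ') eV).hom := by
    rw [← CommRingCat.hom_comp]
    congr 1
    have e' : u ''ᵁ (ι₀ ⁻¹ᵁ P₀.basicOpen t) ≤ (i'' ≫ e) ⁻¹ᵁ (j ⁻¹ᵁ UY') := by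
      rw [← hpre]
      exact eV
    have h1 : π₀.appLE (j ⁻¹ᵁ UY') (P₀.basicOpen t) eW ≫ ι₀.app (P₀.basicOpen t) =
        (i'' ≫ e).appLE (j ⁻¹ᵁ UY') (u ''ᵁ (ι₀ ⁻¹ᵁ P₀.basicOpen t)) e' ≫
          u.appLE (u ''ᵁ (ι₀ ⁻¹ᵁ P₀.basicOpen t)) (ι₀ ⁻¹ᵁ P₀.basicOpen t)
            (u.preimage_image_eq _).ge := by
      rw [Scheme.Hom.app_eq_appLE, Scheme.Hom.appLE_comp_appLE, Scheme.Hom.appLE_comp_appLE,
        UTTransB.appLE_congr_hom hcomp]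
    change π₀.appLE (j ⁻¹ᵁ UY') (P₀.basicOpen t) eW ≫ ι₀.app (P₀.basicOpen t) ≫
      (u.appIso (ι₀ ⁻¹ᵁ P₀.basicOpen t)).inv ≫ Z.presheaf.map (eqToHom hpre).op = _
    rw [← Category.assoc, h1, Category.assoc, Scheme.Hom.appLE_appIso_inv_assoc,
      ← Functor.map_comp, Scheme.Hom.appLE_map]
  refine ⟨(i'' ≫ n) ⁻¹ᵁ UZ', hUZ'.preimage _, by rw [hpre]; exact hzV₁, ?_⟩
  exact UTInjC.app_injective i'' n m d j e hZ' hY' hm₁ ψ₁ hψ₁ hUX hUY' hUZ' e₁ e₂ eV _ hstd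
    (ι₀.app (P₀.basicOpen t) ≫ θ.hom).hom hκsurj hκφ _ hfW hκker

end Main

/-- **S9785** -/
theorem main {Z Y X Z' Y' Z'' : Scheme.{u}} (i : Z ⟶ Y) (b : Y ⟶ X)
    (i' : Z ⟶ Z') (c : Z' ⟶ X) (hZ' : OmegaSh.IsUnivThickening (i ≫ b) i' c)
    (j : Y ⟶ Y') (d : Y' ⟶ X) (hY' : OmegaSh.IsUnivThickening b j d)
    (m : Z' ⟶ Y') (hm₁ : i' ≫ m = i ≫ j) (hm₂ : m ≫ d = c)
    (i'' : Z ⟶ Z'') (e : Z'' ⟶ Y) (hZ'' : OmegaSh.IsUnivThickening i i'' e)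
    (n : Z'' ⟶ Z') (hn₁ : i'' ≫ n = i') (hn₂ : n ≫ c = e ≫ b)
    (ψ₁ : (Scheme.Modules.pullback i).obj (Omega.conormal j) ⟶ Omega.conormal i')
    (hψ₁ : OmegaSh.IsConormalMap i' j m i ψ₁)
    (ψ₂ : (Scheme.Modules.pullback (𝟙 Z)).obj (Omega.conormal i') ⟶ Omega.conormal i'')
    (hψ₂ : OmegaSh.IsConormalMap i'' i' n (𝟙 Z) ψ₂)
    (hlci : ∀ z : Z, Synt.IsKoszulAt i z) :
    ∃ w : (Scheme.Modules.pullback (𝟙 Z)).map ψ₁ ≫ ψ₂ = 0,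
      (ShortComplex.mk _ _ w).ShortExact := by
  obtain ⟨w, hex, hepi⟩ := UTTransB.main i b i' c hZ' j d hY' m hm₁ hm₂ i'' e hZ'' n hn₁ hn₂
    ψ₁ hψ₁ ψ₂ hψ₂
  refine ⟨w, ?_⟩
  have hmono : Mono ψ₁ := by
    subst hn₁
    subst hm₂
    have hb : j ≫ d = b := hY'.2.1
    subst hb
    have hi : i'' ≫ e = i := hZ''.2.1
    subst hi
    haveI : IsClosedImmersion (i'' ≫ n) := hZ'.1.1.1
    haveI : IsClosedImmersion j := hY'.1.1.1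
    exact mono_psi1 i'' n m d j e hZ' hY' hm₁ ψ₁ hψ₁ hlci
  haveI : Mono ((Scheme.Modules.pullback (𝟙 Z)).map ψ₁) := by
    have hnat : (Scheme.Modules.pullback (𝟙 Z)).map ψ₁ ≫ (Scheme.Modules.pullbackId Z).hom.app _ =
        (Scheme.Modules.pullbackId Z).hom.app _ ≫ ψ₁ :=
      (Scheme.Modules.pullbackId Z).hom.naturality ψ₁
    haveI : Mono ((Scheme.Modules.pullbackId Z).hom.app
        ((Scheme.Modules.pullback i).obj (Omega.conormal j)) ≫ ψ₁) := mono_comp _ _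
    exact mono_of_mono_fac hnat
  haveI : Epi ψ₂ := hepi
  exact ShortComplex.ShortExact.mk hex

end Groth.Agent.Lead.UTInjD
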