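import Groth.Agent.Lead.UTGlueC
import Mathlib

set_option autoImplicit false
open CategoryTheory CategoryTheory.Limits AlgebraicGeometry Opposite TopologicalSpace
universe u

namespace Groth.Agent.Lead.UTTransA

open OmegaSh Groth.Agent.Lead

section Ring
variable {R B' B C' C C'' : Type u} [CommRing R] [CommRing B'] [CommRing B] [CommRing C']
  [CommRing C] [CommRing C''] [Algebra R B'] [Algebra R B] [Algebra R C'] [Algebra R C]
  [Algebra B C''] [Algebra B C]
  (πB : B' →ₐ[R] B) (hB : IsUnivThickeningRing R B B' πB)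
  (πC' : C' →ₐ[R] C) (hC' : IsUnivThickeningRing R C C' πC')
  (πC'' : C'' →ₐ[B] C) (hC'' : IsUnivThickeningRing B C C'' πC'')
  (μ : B' →+* C') (ν : C' →+* C'')
  (c1 : μ.comp (algebraMap R B') = algebraMap R C')
  (c2 : πC'.toRingHom.comp μ = (algebraMap B C).comp πB.toRingHom)
  (c3 : ν.comp (algebraMap R C') = (algebraMap B C'').comp (algebraMap R B))
  (c4 : πC''.toRingHom.comp ν = πC'.toRingHom)
  (c5 : algebraMap R C = (algebraMap B C).comp (algebraMap R B))

include hB hC'' c1 c2 c3 c4 in
/-- the two maps `B' → C''` agree -/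
theorem nu_mu : ν.comp μ = (algebraMap B C'').comp πB.toRingHom := by
  obtain ⟨μ₀, -, huniq⟩ := UTGlueC.lift_of_univ πB hB C'' C
    ((algebraMap B C'').comp (algebraMap R B)) πC''.toRingHom hC''.1 hC''.2.1
    (algebraMap B C) (by
      ext r
      change algebraMap B C (algebraMap R B r) = πC'' (algebraMap B C'' (algebraMap R B r))
      rw [AlgHom.commutes])
  have h1 : ν.comp μ = μ₀ := by
    apply huniq
    constructor
    · rw [← RingHom.comp_assoc, c4, c2]
    · rw [RingHom.comp_assoc, c1, c3]
  have h2 : (algebraMap B C'').comp πB.toRingHom = μ₀ := by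
    apply huniq
    constructor
    · ext x
      change πC'' (algebraMap B C'' (πB x)) = algebraMap B C (πB x)
      rw [AlgHom.commutes]
    · ext r
      change algebraMap B C'' (πB (algebraMap R B' r)) = algebraMap B C'' (algebraMap R B r)
      rw [AlgHom.commutes]
  rw [h1, h2]

include hB hC' hC'' c1 c2 c3 c4 c5 in
/-- ring-level transitivity of universal thickenings: `ν` is surjective and its kernel is
generated by the image of the kernel of `πB` -/
theorem main : Function.Surjective ν ∧ RingHom.ker ν = Ideal.map μ (RingHom.ker πB.toRingHom) := by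
  have hνμ := nu_mu πB hB πC' πC'' hC'' μ ν c1 c2 c3 c4
  have hνμ' : ∀ x, ν (μ x) = algebraMap B C'' (πB x) := fun x => congrArg (fun f => f x) hνμ
  have c1' : ∀ r, μ (algebraMap R B' r) = algebraMap R C' r := fun r => congrArg (fun f => f r) c1
  have c2' : ∀ x, πC' (μ x) = algebraMap B C (πB x) := fun x => congrArg (fun f => f x) c2
  have c3' : ∀ r, ν (algebraMap R C' r) = algebraMap B C'' (algebraMap R B r) :=
    fun r => congrArg (fun f => f r) c3
  have c4' : ∀ x, πC'' (ν x) = πC' x := fun x => congrArg (fun f => f x) c4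
  have c5' : ∀ r, algebraMap R C r = algebraMap B C (algebraMap R B r) :=
    fun r => congrArg (fun f => f r) c5
  set K : Ideal C' := Ideal.map μ (RingHom.ker πB.toRingHom) with hK
  have hKle : K ≤ RingHom.ker πC'.toRingHom := by
    rw [hK, Ideal.map_le_iff_le_comap]
    intro x hx
    rw [Ideal.mem_comap, RingHom.mem_ker]
    change πC' (μ x) = 0
    rw [c2']
    have : πB x = 0 := hx
    rw [this, map_zero]
  have hKν : K ≤ RingHom.ker ν := by
    rw [hK, Ideal.map_le_iff_le_comap]
    intro x hx
    rw [Ideal.mem_comap, RingHom.mem_ker, hνμ']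
    have : πB x = 0 := hx
    rw [this, map_zero]
  -- the quotient `A = C' / K`
  let βA : B →+* C' ⧸ K := RingHom.liftOfSurjective πB.toRingHom hB.1
    ⟨(Ideal.Quotient.mk K).comp μ, by
      intro x hx
      rw [RingHom.mem_ker]
      change Ideal.Quotient.mk K (μ x) = 0
      rw [Ideal.Quotient.eq_zero_iff_mem]
      exact Ideal.mem_map_of_mem μ hx⟩
  have hβA : ∀ x : B', βA (πB x) = Ideal.Quotient.mk K (μ x) := fun x =>
    RingHom.liftOfRightInverse_comp_apply _ _ _ _ x
  let pA : C' ⧸ K →+* C := Ideal.Quotient.lift K πC'.toRingHom (fun x hx => hKle hx)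
  have hpA : ∀ x : C', pA (Ideal.Quotient.mk K x) = πC' x := fun x => rfl
  have hpAsurj : Function.Surjective pA := by
    intro y
    obtain ⟨x, rfl⟩ := hC'.1 y
    exact ⟨Ideal.Quotient.mk K x, rfl⟩
  have hpAker : RingHom.ker pA ^ 2 = ⊥ := by
    have h1 : RingHom.ker pA = Ideal.map (Ideal.Quotient.mk K) (RingHom.ker πC'.toRingHom) := by
      apply le_antisymm
      · intro y hy
        obtain ⟨x, rfl⟩ := Ideal.Quotient.mk_surjective y
        exact Ideal.mem_map_of_mem _ (by rw [RingHom.mem_ker]; exact hy)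
      · rw [Ideal.map_le_iff_le_comap]
        intro x hx
        rw [Ideal.mem_comap, RingHom.mem_ker, hpA]
        exact hx
    rw [h1, ← Ideal.map_pow, hC'.2.1, Ideal.map_bot]
  have hpβ : ∀ b : B, pA (βA b) = algebraMap B C b := by
    intro b
    obtain ⟨x, rfl⟩ := hB.1 b
    rw [hβA, hpA, c2']
  -- the map `a' : C'' → A`
  obtain ⟨a', ⟨ha'1, ha'2⟩, -⟩ := UTGlueC.lift_of_univ πC'' hC'' (C' ⧸ K) C βA pA hpAsurj hpAker
    (RingHom.id C) (by
      ext b
      change algebraMap B C b = pA (βA b)
      rw [hpβ])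
  have ha'1' : ∀ x, pA (a' x) = πC'' x := fun x => congrArg (fun f => f x) ha'1
  have ha'2' : ∀ b, a' (algebraMap B C'' b) = βA b := fun b => congrArg (fun f => f b) ha'2
  -- `mk K = a' ∘ ν`
  obtain ⟨μ₁, -, huniq₁⟩ := UTGlueC.lift_of_univ πC' hC' (C' ⧸ K) C (βA.comp (algebraMap R B)) pA
    hpAsurj hpAker (RingHom.id C) (by
      ext r
      change algebraMap R C r = pA (βA (algebraMap R B r))
      rw [hpβ, c5'])
  have hmk : Ideal.Quotient.mk K = a'.comp ν := by
    have h1 : Ideal.Quotient.mk K = μ₁ := by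
      apply huniq₁
      constructor
      · ext x
        rfl
      · ext r
        change Ideal.Quotient.mk K (algebraMap R C' r) = βA (algebraMap R B r)
        rw [← c1', ← hβA, AlgHom.commutes]
    have h2 : a'.comp ν = μ₁ := by
      apply huniq₁
      constructor
      · ext x
        change pA (a' (ν x)) = πC' x
        rw [ha'1', c4']
      · ext r
        change a' (ν (algebraMap R C' r)) = βA (algebraMap R B r)
        rw [c3', ha'2']
    rw [h1, h2]
  have hmk' : ∀ x, Ideal.Quotient.mk K x = a' (ν x) := fun x => congrArg (fun f => f x) hmk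
  -- `ν̄ ∘ a' = id`
  let νbar : C' ⧸ K →+* C'' := Ideal.Quotient.lift K ν (fun x hx => hKν hx)
  have hνbar : ∀ x, νbar (Ideal.Quotient.mk K x) = ν x := fun x => rfl
  obtain ⟨μ₂, -, huniq₂⟩ := UTGlueC.lift_of_univ πC'' hC'' C'' C (algebraMap B C'') πC''.toRingHom
    hC''.1 hC''.2.1 (RingHom.id C) (by
      ext b
      change algebraMap B C b = πC'' (algebraMap B C'' b)
      rw [AlgHom.commutes])
  have hid : νbar.comp a' = RingHom.id C'' := by
    have h1 : νbar.comp a' = μ₂ := by
      apply huniq₂
      constructor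
      · ext x
        change πC'' (νbar (a' x)) = πC'' x
        obtain ⟨y, hy⟩ := Ideal.Quotient.mk_surjective (a' x)
        rw [← hy, hνbar, c4', ← hpA, hy, ha'1']
      · ext b
        change νbar (a' (algebraMap B C'' b)) = algebraMap B C'' b
        rw [ha'2']
        obtain ⟨x, rfl⟩ := hB.1 b
        rw [hβA, hνbar, hνμ']
    have h2 : RingHom.id C'' = μ₂ := by
      apply huniq₂
      constructor
      · rfl
      · rfl
    rw [h1, h2]
  constructor
  · intro y
    obtain ⟨x, hx⟩ := Ideal.Quotient.mk_surjective (a' y)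
    refine ⟨x, ?_⟩
    have : νbar (a' y) = y := congrArg (fun f => f y) hid
    rw [← hνbar, hx, this]
  · apply le_antisymm
    · intro x hx
      have h0 : ν x = 0 := hx
      have : Ideal.Quotient.mk K x = 0 := by rw [hmk', h0, map_zero]
      exact Ideal.Quotient.eq_zero_iff_mem.mp this
    · exact hKν

end Ring

end Groth.Agent.Lead.UTTransA
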