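import Mathlib
import Groth.Prelude.Def_Omega3
import Groth.Agent.Lead.FEtLift

set_option autoImplicit false
universe u
open CategoryTheory CategoryTheory.Limits AlgebraicGeometry TopologicalSpace

namespace Groth.Agent.Lead.UnivThick


open TrivSqZeroExt in
theorem subsingleton_kaehler_of_lifts {R S' : Type u} [CommRing R] [CommRing S'] [Algebra R S']
    (J : Ideal S') (hJ : J ^ 2 = ⊥)
    (H : ∀ (B : Type u) [CommRing B] (ψ : B →+* S') (φ₁ φ₂ : S' →+* B),
        (∀ x y, ψ x ∈ J → ψ y ∈ J → x * y = 0) →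
        ψ.comp φ₁ = RingHom.id S' → ψ.comp φ₂ = RingHom.id S' →
        φ₁.comp (algebraMap R S') = φ₂.comp (algebraMap R S') → φ₁ = φ₂) :
    Subsingleton Ω[S'⁄R] := by
  let N : Submodule S' Ω[S'⁄R] := J • ⊤
  let M := Ω[S'⁄R] ⧸ N
  letI : Module S'ᵐᵒᵖ M := Module.compHom M ((RingHom.id S').fromOpposite mul_comm)
  haveI : IsCentralScalar S' M := ⟨fun r m => rfl⟩
  let D : S' → M := fun s => N.mkQ (KaehlerDifferential.D R S' s)
  have hD_add : ∀ a b, D (a + b) = D a + D b := fun a b => by simp [D]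
  have hD_mul : ∀ a b, D (a * b) = a • D b + b • D a := fun a b => by
    simp only [D, Derivation.leibniz, map_add, map_smul]
  have hD_alg : ∀ r : R, D (algebraMap R S' r) = 0 := fun r => by
    simp only [D, Derivation.map_algebraMap, map_zero]
  have hD_one : D 1 = 0 := by
    have := hD_alg 1
    rwa [map_one] at this
  have hJM : ∀ a ∈ J, ∀ m : M, a • m = 0 := by
    intro a ha m
    obtain ⟨m, rfl⟩ := N.mkQ_surjective m
    rw [← map_smul, Submodule.mkQ_apply, Submodule.Quotient.mk_eq_zero]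
    exact Submodule.smul_mem_smul ha Submodule.mem_top
  let φ₂ : S' →+* TrivSqZeroExt S' M :=
    { toFun := fun s => inl s + inr (D s)
      map_one' := by
        rw [hD_one, inr_zero, add_zero, inl_one]
      map_mul' := fun a b => by
        apply TrivSqZeroExt.ext
        · simp
        · simp only [snd_add, snd_inl, snd_inr, zero_add, snd_mul, fst_add, fst_inl, fst_inr, add_zero]
          rw [hD_mul, op_smul_eq_smul]
      map_zero' := by
        have : D 0 = 0 := by simp [D]
        rw [this, inr_zero, add_zero, inl_zero]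
      map_add' := fun a b => by
        rw [hD_add, inl_add, inr_add]
        abel }
  have key := H (TrivSqZeroExt S' M) (fstHom S' S' M).toRingHom (inlHom S' M) φ₂ ?_ ?_ ?_ ?_
  · have hDz : ∀ s, D s = 0 := by
      intro s
      have h1 := congrArg (fun f => (f s).snd) key
      simpa [φ₂] using h1.symm
    have hN : N = ⊤ := by
      rw [eq_top_iff, ← KaehlerDifferential.span_range_derivation R S', Submodule.span_le]
      rintro _ ⟨s, rfl⟩
      have := hDz s
      simp only [D, Submodule.mkQ_apply] at this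
      exact (Submodule.Quotient.mk_eq_zero N).1 this
    have h2 : (⊤ : Submodule S' Ω[S'⁄R]) = ⊥ := by
      calc (⊤ : Submodule S' Ω[S'⁄R]) = J • (J • ⊤ : Submodule S' Ω[S'⁄R]) := by
            change _ = J • N
            rw [hN]; exact hN.symm
        _ = (J ^ 2) • ⊤ := by rw [pow_two, Submodule.mul_smul]
        _ = ⊥ := by rw [hJ, Submodule.bot_smul]
    exact (Submodule.subsingleton_iff S').1 (subsingleton_of_bot_eq_top h2.symm)
  · intro x y hx hy
    apply TrivSqZeroExt.ext
    · simp only [fst_mul, fst_zero]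
      have : x.fst * y.fst ∈ J ^ 2 := by
        rw [pow_two]; exact Ideal.mul_mem_mul hx hy
      rw [hJ] at this
      simpa using this
    · simp only [snd_mul, snd_zero]
      have hx' : x.fst ∈ J := hx
      have hy' : y.fst ∈ J := hy
      rw [op_smul_eq_smul, hJM _ hx', hJM _ hy', add_zero]
  · ext s; simp
  · ext s; simp [φ₂]
  · refine RingHom.ext fun r => ?_
    simp only [RingHom.comp_apply]
    change (inl (algebraMap R S' r) : TrivSqZeroExt S' M) = inl (algebraMap R S' r) + inr (D (algebraMap R S' r))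
    rw [hD_alg, inr_zero, add_zero]


/-- `Spec` of a surjection with square-zero kernel is a first order thickening. -/
theorem isFirstOrderThickening_specMap {B S : CommRingCat.{u}} (ψ : B ⟶ S)
    (hs : Function.Surjective ψ.hom) (hk : ∀ x y, ψ.hom x = 0 → ψ.hom y = 0 → x * y = 0) :
    MoreMor.IsFirstOrderThickening (Spec.map ψ) := by
  have hci : IsClosedImmersion (Spec.map ψ) := IsClosedImmersion.spec_of_surjective _ hs
  have hnil : IsNilpotent (RingHom.ker ψ.hom) := by
    refine ⟨2, ?_⟩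
    rw [pow_two, Ideal.zero_eq_bot, eq_bot_iff, Ideal.mul_le]
    intro x hx y hy
    rw [RingHom.mem_ker] at hx hy
    rw [hk x y hx hy]
    exact Submodule.zero_mem _
  refine ⟨⟨hci, ⟨FEtLift.specMap_surjective_of_nilpotent ψ hs hnil⟩⟩, ?_⟩
  apply Scheme.IdealSheafData.ext_of_isAffine
  rw [Scheme.IdealSheafData.ideal_mul, Pi.mul_apply, Scheme.IdealSheafData.ideal_bot,
    Scheme.Hom.ker_apply]
  rw [Pi.bot_apply, eq_bot_iff, Ideal.mul_le]
  intro x hx y hy
  rw [RingHom.mem_ker] at hx hy
  have hnat := Scheme.ΓSpecIso_naturality ψ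
  have key : ∀ z, ((Spec.map ψ).appTop.hom z = 0) →
      ψ.hom ((Scheme.ΓSpecIso B).hom.hom z) = 0 := by
    intro z hz
    have h1 := congrArg (fun h => h.hom z) hnat
    simp only [CommRingCat.hom_comp, RingHom.coe_comp, Function.comp_apply] at h1
    rw [hz, map_zero] at h1
    exact h1.symm
  have hx' := key x hx
  have hy' := key y hy
  have h3 : (Scheme.ΓSpecIso B).hom.hom (x * y) = 0 := by
    rw [map_mul]
    exact hk _ _ hx' hy'
  have hinj : Function.Injective (Scheme.ΓSpecIso B).hom.hom :=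
    (ConcreteCategory.bijective_of_isIso (Scheme.ΓSpecIso B).hom).1
  have h4 : x * y = 0 := hinj (by rw [h3, map_zero])
  rw [h4]
  exact Submodule.zero_mem _


/-- S9732: the structure morphism of a universal first order thickening is formally unramified. -/
theorem formallyUnramified_of_isUnivThickening {Z Z' X : Scheme.{u}} (h : Z ⟶ X)
    (i : Z ⟶ Z') (h' : Z' ⟶ X) (hu : OmegaSh.IsUnivThickening h i h') : FormallyUnramified h' := by
  obtain ⟨⟨⟨hci, hsurj⟩, hsq⟩, hcomp, huniv⟩ := hu
  refine ⟨fun {U} hU {V'} hV' e => ?_⟩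
  have hV : IsAffineOpen (i ⁻¹ᵁ V') := hV'.preimage i
  letI := (h'.appLE U V' e).hom.toAlgebra
  change Algebra.FormallyUnramified Γ(X, U) Γ(Z', V')
  refine ⟨?_⟩
  have hπs : Function.Surjective (i.app V').hom := i.app_surjective V' hV'
  have hJ : (RingHom.ker (i.app V').hom) ^ 2 = ⊥ := by
    have h1 := congrArg (fun I => I.ideal ⟨V', hV'⟩) hsq
    simp only [Scheme.IdealSheafData.ideal_mul, Pi.mul_apply, Scheme.IdealSheafData.ideal_bot,
      Pi.bot_apply, Scheme.Hom.ker_apply] at h1
    rw [pow_two]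
    exact h1
  apply subsingleton_kaehler_of_lifts (RingHom.ker (i.app V').hom) hJ
  intro B _ ψ φ₁ φ₂ hsqz h1 h2 hR
  have hψs : Function.Surjective ψ := by
    intro s
    exact ⟨φ₁ s, by rw [← RingHom.comp_apply, h1]; rfl⟩
  let π : CommRingCat.of B ⟶ Γ(Z, i ⁻¹ᵁ V') := CommRingCat.ofHom ((i.app V').hom.comp ψ)
  have hj : MoreMor.IsFirstOrderThickening (Spec.map π) := by
    apply isFirstOrderThickening_specMap
    · exact hπs.comp hψs
    · intro x y hx hy
      exact hsqz x y hx hy
  have hfac : ∀ φ : Γ(Z', V') →+* B, ψ.comp φ = RingHom.id _ →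
      Spec.map π ≫ Spec.map (CommRingCat.ofHom φ) ≫ hV'.fromSpec = hV.fromSpec ≫ i := by
    intro φ hφ
    rw [← Spec.map_comp_assoc, ← IsAffineOpen.SpecMap_appLE_fromSpec i hV' hV le_rfl]
    congr 2
    ext s
    change (i.app V').hom (ψ (φ s)) = _
    rw [← RingHom.comp_apply ψ φ, hφ, Scheme.Hom.app_eq_appLE]
    rfl
  have hover : ∀ φ : Γ(Z', V') →+* B,
      (Spec.map (CommRingCat.ofHom φ) ≫ hV'.fromSpec) ≫ h' =
        Spec.map (h'.appLE U V' e ≫ CommRingCat.ofHom φ) ≫ hU.fromSpec := by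
    intro φ
    rw [Category.assoc, ← IsAffineOpen.SpecMap_appLE_fromSpec h' hU hV' e, Spec.map_comp_assoc]
  have hR' : h'.appLE U V' e ≫ CommRingCat.ofHom φ₁ = h'.appLE U V' e ≫ CommRingCat.ofHom φ₂ := by
    ext r
    exact congrArg (fun f => f r) hR
  have hw : Spec.map π ≫ (Spec.map (CommRingCat.ofHom φ₁) ≫ hV'.fromSpec) ≫ h' = hV.fromSpec ≫ h := by
    rw [← Category.assoc, ← Category.assoc, Category.assoc (Spec.map π), hfac φ₁ h1, Category.assoc, hcomp]
  obtain ⟨l, -, hl⟩ := huniv _ _ (Spec.map π) ((Spec.map (CommRingCat.ofHom φ₁) ≫ hV'.fromSpec) ≫ h')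
    hV.fromSpec hj hw
  have e1 := hl (Spec.map (CommRingCat.ofHom φ₁) ≫ hV'.fromSpec) ⟨hfac φ₁ h1, rfl⟩
  have e2 := hl (Spec.map (CommRingCat.ofHom φ₂) ≫ hV'.fromSpec)
    ⟨hfac φ₂ h2, by rw [hover, hover, hR']⟩
  have e3 := e1.trans e2.symm
  rw [cancel_mono] at e3
  have e4 := Spec.map_injective e3
  exact congrArg CommRingCat.Hom.hom e4

end Groth.Agent.Lead.UnivThick
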