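import Groth.Agent.Lead.FEtLift2
import Groth.Agent.Lead.UnivThick
import Mathlib

set_option autoImplicit false
set_option backward.isDefEq.respectTransparency false
set_option backward.isDefEq.respectTransparency.types false
open CategoryTheory CategoryTheory.Limits AlgebraicGeometry Opposite TopologicalSpace
universe u

namespace Groth.Agent.Lead.UnivThick6

open OmegaSh Groth.Agent.Lead

variable {Z Z' X : Scheme.{u}} (h : Z ⟶ X) (i : Z ⟶ Z') (h' : Z' ⟶ X)

theorem preimage_le (hcomp : i ≫ h' = h) {U : X.Opens} {V' : Z'.Opens} (e : V' ≤ h' ⁻¹ᵁ U) :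
    i ⁻¹ᵁ V' ≤ h ⁻¹ᵁ U := by
  intro z hz
  have h1 : h' (i z) ∈ U := e hz
  have h2 : h z = h' (i z) := by
    rw [← hcomp]; rfl
  change h z ∈ U
  rw [h2]; exact h1

/-- **chart description of a universal first order thickening**: over affine opens the ring map
`Γ(Z', V') → Γ(Z, i⁻¹V')` is a universal first order thickening of rings. -/
theorem isUnivThickeningRing_of_chart (hu : IsUnivThickening h i h') {U : X.Opens}
    (hU : IsAffineOpen U) {V' : Z'.Opens} (hV' : IsAffineOpen V') (e : V' ≤ h' ⁻¹ᵁ U) :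
    letI := (h'.appLE U V' e).hom.toAlgebra
    letI := (h.appLE U (i ⁻¹ᵁ V') (preimage_le h i h' hu.2.1 e)).hom.toAlgebra
    ∀ (π : Γ(Z', V') →ₐ[Γ(X, U)] Γ(Z, i ⁻¹ᵁ V')), (∀ x, π x = i.app V' x) →
      IsUnivThickeningRing Γ(X, U) Γ(Z, i ⁻¹ᵁ V') Γ(Z', V') π := by
  letI algAB' := (h'.appLE U V' e).hom.toAlgebra
  letI algAB := (h.appLE U (i ⁻¹ᵁ V') (preimage_le h i h' hu.2.1 e)).hom.toAlgebra
  intro π hπ
  obtain ⟨⟨⟨hci, hsurj⟩, hsq⟩, hcomp, huniv⟩ := hu
  have hV : IsAffineOpen (i ⁻¹ᵁ V') := hV'.preimage i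
  have e' := preimage_le h i h' hcomp e
  refine ⟨?_, ?_, ?_⟩
  · intro b
    obtain ⟨b', hb'⟩ := i.app_surjective V' hV' b
    exact ⟨b', (hπ b').trans hb'⟩
  · have h1 := congrArg (fun I => I.ideal ⟨V', hV'⟩) hsq
    simp only [Scheme.IdealSheafData.ideal_mul, Pi.mul_apply, Scheme.IdealSheafData.ideal_bot,
      Pi.bot_apply, Scheme.Hom.ker_apply] at h1
    have h2 : RingHom.ker π.toRingHom = RingHom.ker (i.app V').hom := by
      ext x
      rw [RingHom.mem_ker, RingHom.mem_ker]
      change π x = 0 ↔ _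
      rw [hπ]
    rw [h2, pow_two]
    exact h1
  · intro C _ _ J hJ a
    have hj := FEtLift.isFirstOrderThickening_specMap_mk J hJ
    set j := Spec.map (CommRingCat.ofHom (Ideal.Quotient.mk J)) with hjdef
    let a_s : Spec (CommRingCat.of (C ⧸ J)) ⟶ Z :=
      Spec.map (CommRingCat.ofHom a.toRingHom) ≫ hV.fromSpec
    let b_s : Spec (CommRingCat.of C) ⟶ X :=
      Spec.map (CommRingCat.ofHom (algebraMap Γ(X, U) C)) ≫ hU.fromSpec
    have w : j ≫ b_s = a_s ≫ h := by
      change Spec.map _ ≫ Spec.map _ ≫ _ = (Spec.map _ ≫ _) ≫ _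
      rw [Category.assoc, ← IsAffineOpen.SpecMap_appLE_fromSpec h hU hV e', ← Spec.map_comp_assoc,
        ← Spec.map_comp_assoc]
      congr 2
      ext r
      change Ideal.Quotient.mk J (algebraMap Γ(X, U) C r) =
        a (algebraMap Γ(X, U) Γ(Z, i ⁻¹ᵁ V') r)
      rw [a.commutes]
      rfl
    obtain ⟨l, ⟨hl1, hl2⟩, hluniq⟩ := huniv _ _ j b_s a_s hj w
    -- `l` lands in `V'`
    have hrange : Set.range l ⊆ V' := by
      apply FEtLift.range_subset_of_comp _ (FEtLift.specMap_mk_surjective J hJ) l V'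
      rw [← hjdef, hl1]
      rintro _ ⟨t, rfl⟩
      change i (a_s t) ∈ V'
      have : a_s t ∈ i ⁻¹ᵁ V' := by
        change (Spec.map (CommRingCat.ofHom a.toRingHom) ≫ hV.fromSpec) t ∈ i ⁻¹ᵁ V'
        rw [Scheme.Hom.comp_apply]
        have := hV.range_fromSpec ▸ Set.mem_range_self (f := hV.fromSpec)
          (Spec.map (CommRingCat.ofHom a.toRingHom) t)
        exact this
      exact this
    obtain ⟨μ, hμ⟩ := FEtLift.exists_factor hV' l hrange
    -- μ is an algebra map
    have hμalg : ∀ r : Γ(X, U), μ.hom (algebraMap Γ(X, U) Γ(Z', V') r) = algebraMap Γ(X, U) C r := by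
      have h3 : Spec.map (h'.appLE U V' e ≫ μ) ≫ hU.fromSpec =
          Spec.map (CommRingCat.ofHom (algebraMap Γ(X, U) C)) ≫ hU.fromSpec := by
        rw [Spec.map_comp_assoc, IsAffineOpen.SpecMap_appLE_fromSpec h' hU hV' e, ← Category.assoc,
          hμ, hl2]
      have h4 := FEtLift.factor_unique hU _ _ h3
      intro r
      exact congrArg (fun φ => φ.hom r) h4
    -- reduction mod J
    have hμred : ∀ x : Γ(Z', V'), Ideal.Quotient.mk J (μ.hom x) = a (π x) := by
      have h3 : Spec.map (μ ≫ CommRingCat.ofHom (Ideal.Quotient.mk J)) ≫ hV'.fromSpec =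
          Spec.map (i.app V' ≫ CommRingCat.ofHom a.toRingHom) ≫ hV'.fromSpec := by
        rw [Spec.map_comp_assoc, hμ, ← hjdef, hl1, Spec.map_comp_assoc]
        change _ = _ ≫ Spec.map (i.app V') ≫ _
        rw [Scheme.Hom.app_eq_appLE, IsAffineOpen.SpecMap_appLE_fromSpec i hV' hV le_rfl]
        rfl
      have h4 := FEtLift.factor_unique hV' _ _ h3
      intro x
      have := congrArg (fun φ => φ.hom x) h4
      rw [hπ]
      exact this
    refine ⟨{ μ.hom with commutes' := hμalg }, ?_, ?_⟩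
    · ext x
      exact hμred x
    · intro ν hν
      -- ν gives another lift
      let ν' : Γ(Z', V') ⟶ CommRingCat.of C := CommRingCat.ofHom ν.toRingHom
      have hνl : Spec.map ν' ≫ hV'.fromSpec = l := by
        apply hluniq
        constructor
        · rw [hjdef, ← Spec.map_comp_assoc]
          change _ = (Spec.map _ ≫ _) ≫ i
          rw [Category.assoc, ← IsAffineOpen.SpecMap_appLE_fromSpec i hV' hV le_rfl,
            ← Spec.map_comp_assoc]
          congr 2
          ext x
          have := congrArg (fun φ => φ x) hν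
          change Ideal.Quotient.mk J (ν x) = a (i.appLE V' (i ⁻¹ᵁ V') le_rfl x)
          rw [← Scheme.Hom.app_eq_appLE, ← hπ]
          exact this
        · rw [Category.assoc, ← IsAffineOpen.SpecMap_appLE_fromSpec h' hU hV' e,
            ← Spec.map_comp_assoc]
          congr 2
          ext r
          exact ν.commutes r
      have h5 := FEtLift.factor_unique hV' ν' μ (hνl.trans hμ.symm)
      ext x
      exact congrArg (fun φ => φ.hom x) h5

end Groth.Agent.Lead.UnivThick6
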