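import Groth.Agent.Lead.UTTransA
import Groth.Agent.Lead.UnivThick6
import Groth.Agent.Lead.UTGlueA
import Groth.Agent.Lead.LiftPow3
import Groth.Agent.Lead.OmegaCnH
import Mathlib

set_option autoImplicit false
set_option backward.isDefEq.respectTransparency false
set_option backward.isDefEq.respectTransparency.types false
open CategoryTheory CategoryTheory.Limits AlgebraicGeometry Opposite TopologicalSpace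
universe u

namespace Groth.Agent.Lead.UTTransB

open Scheme.Modules OmegaSh Groth.Agent.Lead Groth.Agent.Helper4 Groth.Agent.Lead.BCMap

theorem appLE_congr_hom {X Y : Scheme.{u}} {f g : X ⟶ Y} (h : f = g) (U : Y.Opens) (V : X.Opens)
    (e : V ≤ f ⁻¹ᵁ U) : f.appLE U V e = g.appLE U V (by subst h; exact e) := by
  subst h; rfl

section Main
variable {Z Y X Z' Y' Z'' : Scheme.{u}} (i'' : Z ⟶ Z'') (n : Z'' ⟶ Z') (m : Z' ⟶ Y') (d : Y' ⟶ X)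
  (j : Y ⟶ Y') (e : Z'' ⟶ Y)
  (hZ' : IsUnivThickening ((i'' ≫ e) ≫ (j ≫ d)) (i'' ≫ n) (m ≫ d))
  (hY' : IsUnivThickening (j ≫ d) j d)
  (hZ'' : IsUnivThickening (i'' ≫ e) i'' e)
  (hm₁ : (i'' ≫ n) ≫ m = (i'' ≫ e) ≫ j)
  (hn₂ : n ≫ (m ≫ d) = e ≫ (j ≫ d))

include hZ' hY' hZ'' hm₁ hn₂ in
theorem ring_facts {UX : X.Opens} {UY' : Y'.Opens} {UZ' : Z'.Opens} (hUX : IsAffineOpen UX)
    (hUY' : IsAffineOpen UY') (hUZ' : IsAffineOpen UZ') (e₁ : UY' ≤ d ⁻¹ᵁ UX)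
    (e₂ : UZ' ≤ m ⁻¹ᵁ UY') (hUZ'' : IsAffineOpen (n ⁻¹ᵁ UZ'))
    (e₅ : n ⁻¹ᵁ UZ' ≤ e ⁻¹ᵁ (j ⁻¹ᵁ UY')) :
    Function.Surjective (n.app UZ') ∧
      RingHom.ker (n.app UZ').hom =
        Ideal.map (m.appLE UY' UZ' e₂).hom (RingHom.ker (j.app UY').hom) := by
  have hUY : IsAffineOpen (j ⁻¹ᵁ UY') := by
    haveI : IsClosedImmersion j := hY'.1.1.1
    exact hUY'.preimage j
  have e₃ : UZ' ≤ (m ≫ d) ⁻¹ᵁ UX := fun y hy => e₁ (e₂ hy)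
  have eB : j ⁻¹ᵁ UY' ≤ (j ≫ d) ⁻¹ᵁ UX := UnivThick6.preimage_le (j ≫ d) j d rfl e₁
  have eC : (i'' ≫ n) ⁻¹ᵁ UZ' ≤ ((i'' ≫ e) ≫ (j ≫ d)) ⁻¹ᵁ UX :=
    UnivThick6.preimage_le _ (i'' ≫ n) (m ≫ d) hZ'.2.1 e₃
  have eC2 : i'' ⁻¹ᵁ (n ⁻¹ᵁ UZ') ≤ (i'' ≫ e) ⁻¹ᵁ (j ⁻¹ᵁ UY') :=
    UnivThick6.preimage_le (i'' ≫ e) i'' e rfl e₅
  letI algRB' : Algebra Γ(X, UX) Γ(Y', UY') := (d.appLE UX UY' e₁).hom.toAlgebra
  letI algRB : Algebra Γ(X, UX) Γ(Y, j ⁻¹ᵁ UY') := ((j ≫ d).appLE UX (j ⁻¹ᵁ UY') eB).hom.toAlgebra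
  letI algRC' : Algebra Γ(X, UX) Γ(Z', UZ') := ((m ≫ d).appLE UX UZ' e₃).hom.toAlgebra
  letI algRC : Algebra Γ(X, UX) Γ(Z, (i'' ≫ n) ⁻¹ᵁ UZ') :=
    (((i'' ≫ e) ≫ (j ≫ d)).appLE UX ((i'' ≫ n) ⁻¹ᵁ UZ') eC).hom.toAlgebra
  letI algBC'' : Algebra Γ(Y, j ⁻¹ᵁ UY') Γ(Z'', n ⁻¹ᵁ UZ') :=
    (e.appLE (j ⁻¹ᵁ UY') (n ⁻¹ᵁ UZ') e₅).hom.toAlgebra
  letI algBC : Algebra Γ(Y, j ⁻¹ᵁ UY') Γ(Z, (i'' ≫ n) ⁻¹ᵁ UZ') :=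
    ((i'' ≫ e).appLE (j ⁻¹ᵁ UY') (i'' ⁻¹ᵁ (n ⁻¹ᵁ UZ')) eC2).hom.toAlgebra
  let πB : Γ(Y', UY') →ₐ[Γ(X, UX)] Γ(Y, j ⁻¹ᵁ UY') :=
    { (j.app UY').hom with
      commutes' := by
        intro r
        change (j.app UY') ((d.appLE UX UY' e₁) r) = ((j ≫ d).appLE UX (j ⁻¹ᵁ UY') eB) r
        rw [Scheme.Hom.app_eq_appLE, ← Scheme.Hom.appLE_comp_appLE _ _ UX UY' (j ⁻¹ᵁ UY') e₁ le_rfl]
        rfl }
  let πC' : Γ(Z', UZ') →ₐ[Γ(X, UX)] Γ(Z, (i'' ≫ n) ⁻¹ᵁ UZ') :=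
    { ((i'' ≫ n).app UZ').hom with
      commutes' := by
        intro r
        change ((i'' ≫ n).app UZ') (((m ≫ d).appLE UX UZ' e₃) r) =
          (((i'' ≫ e) ≫ (j ≫ d)).appLE UX ((i'' ≫ n) ⁻¹ᵁ UZ') eC) r
        rw [Scheme.Hom.app_eq_appLE, ← CommRingCat.comp_apply, Scheme.Hom.appLE_comp_appLE,
          appLE_congr_hom hZ'.2.1] }
  let πC'' : Γ(Z'', n ⁻¹ᵁ UZ') →ₐ[Γ(Y, j ⁻¹ᵁ UY')] Γ(Z, (i'' ≫ n) ⁻¹ᵁ UZ') :=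
    { (i''.app (n ⁻¹ᵁ UZ')).hom with
      commutes' := by
        intro r
        change (i''.app (n ⁻¹ᵁ UZ')) ((e.appLE (j ⁻¹ᵁ UY') (n ⁻¹ᵁ UZ') e₅) r) =
          ((i'' ≫ e).appLE (j ⁻¹ᵁ UY') (i'' ⁻¹ᵁ (n ⁻¹ᵁ UZ')) eC2) r
        rw [Scheme.Hom.app_eq_appLE, ← CommRingCat.comp_apply, Scheme.Hom.appLE_comp_appLE] }
  have hB := UnivThick6.isUnivThickeningRing_of_chart (j ≫ d) j d hY' hUX hUY' e₁ πB (fun x => rfl)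
  have hC' := UnivThick6.isUnivThickeningRing_of_chart _ (i'' ≫ n) (m ≫ d) hZ' hUX hUZ' e₃ πC'
    (fun x => rfl)
  have hC'' := UnivThick6.isUnivThickeningRing_of_chart (i'' ≫ e) i'' e hZ'' hUY hUZ'' e₅ πC''
    (fun x => rfl)
  have key := UTTransA.main πB hB πC' hC' πC'' hC'' (m.appLE UY' UZ' e₂).hom (n.app UZ').hom
    ?c1 ?c2 ?c3 ?c4 ?c5
  · exact key
  case c1 =>
    change (m.appLE UY' UZ' e₂).hom.comp (d.appLE UX UY' e₁).hom = ((m ≫ d).appLE UX UZ' e₃).hom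
    rw [← CommRingCat.hom_comp, Scheme.Hom.appLE_comp_appLE]
  case c2 =>
    change ((i'' ≫ n).app UZ').hom.comp (m.appLE UY' UZ' e₂).hom =
      ((i'' ≫ e).appLE (j ⁻¹ᵁ UY') (i'' ⁻¹ᵁ (n ⁻¹ᵁ UZ')) eC2).hom.comp (j.app UY').hom
    rw [← CommRingCat.hom_comp, ← CommRingCat.hom_comp]
    congr 1
    rw [Scheme.Hom.app_eq_appLE, Scheme.Hom.app_eq_appLE, Scheme.Hom.appLE_comp_appLE,
      Scheme.Hom.appLE_comp_appLE, appLE_congr_hom hm₁]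
    rfl
  case c3 =>
    change (n.app UZ').hom.comp ((m ≫ d).appLE UX UZ' e₃).hom =
      (e.appLE (j ⁻¹ᵁ UY') (n ⁻¹ᵁ UZ') e₅).hom.comp ((j ≫ d).appLE UX (j ⁻¹ᵁ UY') eB).hom
    rw [← CommRingCat.hom_comp, ← CommRingCat.hom_comp]
    congr 1
    rw [Scheme.Hom.app_eq_appLE, Scheme.Hom.appLE_comp_appLE,
      Scheme.Hom.appLE_comp_appLE, appLE_congr_hom hn₂]
  case c4 =>
    rfl
  case c5 =>
    change (((i'' ≫ e) ≫ (j ≫ d)).appLE UX ((i'' ≫ n) ⁻¹ᵁ UZ') eC).hom =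
      ((i'' ≫ e).appLE (j ⁻¹ᵁ UY') (i'' ⁻¹ᵁ (n ⁻¹ᵁ UZ')) eC2).hom.comp
        ((j ≫ d).appLE UX (j ⁻¹ᵁ UY') eB).hom
    rw [← CommRingCat.hom_comp, Scheme.Hom.appLE_comp_appLE]
    rfl

include hY' hZ'' hm₁ hn₂ in
theorem nm_eq : n ≫ m = e ≫ j := by
  have w : i'' ≫ (n ≫ (m ≫ d)) = (i'' ≫ e) ≫ (j ≫ d) := by
    rw [hn₂, Category.assoc]
  obtain ⟨a', -, huniq⟩ := hY'.2.2 Z Z'' i'' (n ≫ (m ≫ d)) (i'' ≫ e) hZ''.1 w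
  have h1 : n ≫ m = a' := by
    apply huniq
    constructor
    · rw [← Category.assoc, hm₁]
    · rw [Category.assoc]
  have h2 : e ≫ j = a' := by
    apply huniq
    constructor
    · rw [Category.assoc]
    · rw [Category.assoc, hn₂]
  rw [h1, h2]

include hZ' hZ'' hm₁ in
theorem exists_charts (z : Z) (T : Z.Opens) (hz : z ∈ T) :
    ∃ (UX : X.Opens) (UY' : Y'.Opens) (UZ' : Z'.Opens), IsAffineOpen UX ∧ IsAffineOpen UY' ∧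
      IsAffineOpen UZ' ∧ UY' ≤ d ⁻¹ᵁ UX ∧ UZ' ≤ m ⁻¹ᵁ UY' ∧ IsAffineOpen (n ⁻¹ᵁ UZ') ∧
      n ⁻¹ᵁ UZ' ≤ e ⁻¹ᵁ (j ⁻¹ᵁ UY') ∧ z ∈ (i'' ≫ n) ⁻¹ᵁ UZ' ∧ (i'' ≫ n) ⁻¹ᵁ UZ' ≤ T := by
  have ht' : MoreMor.IsThickening (i'' ≫ n) := hZ'.1.1
  haveI : IsClosedImmersion (i'' ≫ n) := ht'.1
  haveI : IsClosedImmersion i'' := hZ''.1.1.1
  have hsurj'' : Function.Surjective i'' := hZ''.1.1.2.surj
  obtain ⟨UZ', UY', UX, hUZ', hUY', hUX, hzU, hUO, e₂, e₁⟩ :=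
    OmegaSeqA.exists_affine_triple m d ((i'' ≫ n) z) (UTGlueA.imageOpen (i'' ≫ n) ht' T)
      ⟨z, hz, rfl⟩
  refine ⟨UX, UY', UZ', hUX, hUY', hUZ', e₁, e₂, ?_, ?_, hzU, ?_⟩
  · apply LiftPow.isAffineOpen_of_preimage i'' hsurj''
    exact hUZ'.preimage (i'' ≫ n)
  · intro p hp
    obtain ⟨z', rfl⟩ := hsurj'' p
    have h1 : ((i'' ≫ n) ≫ m) z' ∈ UY' := e₂ hp
    rw [hm₁] at h1
    exact h1
  · intro x hx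
    have h1 : x ∈ (i'' ≫ n) ⁻¹ᵁ (UTGlueA.imageOpen (i'' ≫ n) ht' T) := hUO hx
    rwa [UTGlueA.preimage_imageOpen] at h1

end Main

theorem app_eq_zero_of_hom_eq {X Y : Scheme.{u}} {f g : X ⟶ Y} (h : f = g) (U : Y.Opens)
    (a : Γ(Y, U)) (ha : g.app U a = 0) : f.app U a = 0 := by
  subst h; exact ha

theorem conormalSect_res {Z X : Scheme.{u}} (i : Z ⟶ X) {U₁ U₂ : X.Opens} (hU : U₂ ≤ U₁)
    (V : Z.Opens) (hV : V ≤ i ⁻¹ᵁ U₂) (s : Γ(ClSub.idealMod i.ker, U₁)) :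
    pbSec i (ClSub.idealMod i.ker) U₂ V hV ((ClSub.idealMod i.ker).presheaf.map (homOfLE hU).op s) =
      (Omega.conormal i).presheaf.map (homOfLE (hV.trans (fun _ hy => hU hy) :
        V ≤ i ⁻¹ᵁ U₁)).op (conormalSect i U₁ s) := by
  have h4 := pbSec_res i (ClSub.idealMod i.ker) (le_refl (i ⁻¹ᵁ U₁)) hV hU
    (hV.trans (fun _ hy => hU hy)) s
  rw [OmegaCnB.pbSec_self] at h4
  exact h4

theorem idealSect_res {Z X : Scheme.{u}} (i : Z ⟶ X) {U₁ U₂ : X.Opens} (hU : U₂ ≤ U₁)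
    (s : Γ(ClSub.idealMod i.ker, U₁)) :
    idealSect i.ker U₂ ((ClSub.idealMod i.ker).presheaf.map (homOfLE hU).op s) =
      X.presheaf.map (homOfLE hU).op (idealSect i.ker U₁ s) :=
  StalkExact.app_res (ClSub.idealModι i.ker) (homOfLE hU) s

section Sheaf
variable {Z Y X Z' Y' Z'' : Scheme.{u}} (i'' : Z ⟶ Z'') (n : Z'' ⟶ Z') (m : Z' ⟶ Y') (d : Y' ⟶ X)
  (j : Y ⟶ Y') (e : Z'' ⟶ Y)
  (hZ' : IsUnivThickening ((i'' ≫ e) ≫ (j ≫ d)) (i'' ≫ n) (m ≫ d))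
  (hY' : IsUnivThickening (j ≫ d) j d)
  (hZ'' : IsUnivThickening (i'' ≫ e) i'' e)
  (hm₁ : (i'' ≫ n) ≫ m = (i'' ≫ e) ≫ j)
  (hn₂ : n ≫ (m ≫ d) = e ≫ (j ≫ d))
  [QuasiCompact (i'' ≫ n)] [QuasiCompact j] [QuasiCompact i'']
  (ψ₁ : (Scheme.Modules.pullback (i'' ≫ e)).obj (Omega.conormal j) ⟶ Omega.conormal (i'' ≫ n))
  (hψ₁ : IsConormalMap (i'' ≫ n) j m (i'' ≫ e) ψ₁)
  (ψ₂ : (Scheme.Modules.pullback (𝟙 Z)).obj (Omega.conormal (i'' ≫ n)) ⟶ Omega.conormal i'')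
  (hψ₂ : IsConormalMap i'' (i'' ≫ n) n (𝟙 Z) ψ₂)

omit [QuasiCompact i''] in
include hm₁ hψ₁ in
theorem psi1_gen {UY' : Y'.Opens} {UZ' : Z'.Opens} (e₂ : UZ' ≤ m ⁻¹ᵁ UY')
    (σ : Γ(ClSub.idealMod j.ker, UY')) :
    ∃ τ : Γ(ClSub.idealMod (i'' ≫ n).ker, UZ'),
      idealSect (i'' ≫ n).ker UZ' τ = m.appLE UY' UZ' e₂ (idealSect j.ker UY' σ) ∧
      ∀ (V : Z.Opens) (hV₁ : V ≤ (i'' ≫ e) ⁻¹ᵁ (j ⁻¹ᵁ UY')) (hV₂ : V ≤ (i'' ≫ n) ⁻¹ᵁ UZ'),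
        ψ₁.app V (pbSec (i'' ≫ e) (Omega.conormal j) (j ⁻¹ᵁ UY') V hV₁ (conormalSect j UY' σ)) =
          pbSec (i'' ≫ n) (ClSub.idealMod (i'' ≫ n).ker) UZ' V hV₂ τ := by
  have h0 : (i'' ≫ n).app (m ⁻¹ᵁ UY') (m.app UY' (idealSect j.ker UY' σ)) = 0 := by
    have h1 : ((i'' ≫ e) ≫ j).app UY' (idealSect j.ker UY' σ) = 0 := by
      change (i'' ≫ e).app (j ⁻¹ᵁ UY') (j.app UY' (idealSect j.ker UY' σ)) = 0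
      rw [OmegaCnF.app_idealSect_general j UY' σ, map_zero]
    exact app_eq_zero_of_hom_eq hm₁ UY' _ h1
  obtain ⟨s, hs⟩ := OmegaCnF.exists_idealSect_of_app_eq_zero (i'' ≫ n) (m ⁻¹ᵁ UY') _ h0
  refine ⟨(ClSub.idealMod (i'' ≫ n).ker).presheaf.map (homOfLE e₂).op s, ?_, ?_⟩
  · rw [idealSect_res, hs]
    rfl
  · intro V hV₁ hV₂
    have hV₃ : V ≤ (i'' ≫ n) ⁻¹ᵁ (m ⁻¹ᵁ UY') := hV₂.trans (fun _ hy => e₂ hy)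
    have h1 := hψ₁.2 UY' σ s hs V hV₁ hV₃
    rw [conormalSect_res (i'' ≫ n) e₂ V hV₂ s, pbSec_apply]
    refine (StalkExact.app_res ψ₁ (homOfLE hV₁) _).trans ?_
    exact h1

include hψ₂ in
theorem psi2_zero (U' : Z'.Opens) (τ : Γ(ClSub.idealMod (i'' ≫ n).ker, U'))
    (hτ : n.app U' (idealSect (i'' ≫ n).ker U' τ) = 0) :
    ((Scheme.Modules.pullbackId Z).inv.app (Omega.conormal (i'' ≫ n)) ≫ ψ₂).app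
      ((i'' ≫ n) ⁻¹ᵁ U') (conormalSect (i'' ≫ n) U' τ) = 0 := by
  obtain ⟨s₂, hs₂, h₂⟩ := OmegaCnF.psi_pull n i'' ψ₂ hψ₂ U' τ
  have h4 : s₂ = 0 := by
    apply OmegaCnC.idealSect_injective i'' (n ⁻¹ᵁ U')
    rw [hs₂, hτ, map_zero]
  change ψ₂.app ((i'' ≫ n) ⁻¹ᵁ U') (((Scheme.Modules.pullbackId Z).inv.app
    (Omega.conormal (i'' ≫ n))).app ((i'' ≫ n) ⁻¹ᵁ U') (conormalSect (i'' ≫ n) U' τ)) = 0
  rw [← OmegaSeqA.pullSect_id]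
  refine h₂.trans ?_
  rw [h4, map_zero]

include hY' hZ'' hm₁ hn₂ hψ₁ hψ₂ in
theorem comp_zero' :
    ψ₁ ≫ ((Scheme.Modules.pullbackId Z).inv.app (Omega.conormal (i'' ≫ n)) ≫ ψ₂) = 0 := by
  apply OmegaCnF.pullback_hom_ext₂ (i'' ≫ e) j (M := ClSub.idealMod j.ker)
  intro U' s''
  obtain ⟨τ, hτ, h⟩ := psi1_gen i'' n m j e hm₁ ψ₁ hψ₁ (le_refl (m ⁻¹ᵁ U')) s''
  have hV₂ : (i'' ≫ e) ⁻¹ᵁ (j ⁻¹ᵁ U') ≤ (i'' ≫ n) ⁻¹ᵁ (m ⁻¹ᵁ U') := by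
    intro z hz
    have h1 : ((i'' ≫ e) ≫ j) z ∈ U' := hz
    rw [← hm₁] at h1
    exact h1
  have h1 := h ((i'' ≫ e) ⁻¹ᵁ (j ⁻¹ᵁ U')) le_rfl hV₂
  rw [OmegaCnB.pbSec_self] at h1
  change ((Scheme.Modules.pullbackId Z).inv.app (Omega.conormal (i'' ≫ n)) ≫ ψ₂).app
    ((i'' ≫ e) ⁻¹ᵁ (j ⁻¹ᵁ U')) (ψ₁.app ((i'' ≫ e) ⁻¹ᵁ (j ⁻¹ᵁ U'))
      (pullSect (i'' ≫ e) (Omega.conormal j) (j ⁻¹ᵁ U') (conormalSect j U' s''))) = 0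
  rw [h1, pbSec_apply]
  refine (StalkExact.app_res _ (homOfLE hV₂) _).trans ?_
  have h2 : n.app (m ⁻¹ᵁ U') (idealSect (i'' ≫ n).ker (m ⁻¹ᵁ U') τ) = 0 := by
    rw [hτ, Scheme.Hom.appLE_eq_app]
    have h3 : (e ≫ j).app U' (idealSect j.ker U' s'') = 0 := by
      change e.app (j ⁻¹ᵁ U') (j.app U' (idealSect j.ker U' s'')) = 0
      rw [OmegaCnF.app_idealSect_general j U' s'', map_zero]
    exact app_eq_zero_of_hom_eq (nm_eq i'' n m d j e hY' hZ'' hm₁ hn₂) U' _ h3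
  have h3 := psi2_zero i'' n ψ₂ hψ₂ (m ⁻¹ᵁ U') τ h2
  exact (congrArg _ h3).trans (map_zero _)

include hZ' hY' hZ'' hm₁ hn₂ hψ₂ in
theorem epi_psi2 : Epi ψ₂ := by
  haveI : IsClosedImmersion i'' := hZ''.1.1.1
  apply Groth.Agent.Lead.LocalLift.epi_of_local_lift
  intro T t z hz
  obtain ⟨UX, UY', UZ', hUX, hUY', hUZ', e₁, e₂, hUZ'', e₅, hzU, hUT⟩ :=
    exists_charts i'' n m d j e hZ' hZ'' hm₁ z T hz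
  obtain ⟨hνsurj, -⟩ := ring_facts i'' n m d j e hZ' hY' hZ'' hm₁ hn₂ hUX hUY' hUZ' e₁ e₂ hUZ'' e₅
  refine ⟨i'' ⁻¹ᵁ (n ⁻¹ᵁ UZ'), hUT, hzU, ?_⟩
  have hW : IsAffineOpen (i'' ⁻¹ᵁ (n ⁻¹ᵁ UZ')) := hUZ''.preimage i''
  have hsurj'' : Function.Surjective (i''.app (n ⁻¹ᵁ UZ')) := i''.app_surjective _ hUZ''
  obtain ⟨σ, hσ⟩ := OmegaCnH.exists_conormalSect i'' hUZ'' hW hsurj''
    ((Omega.conormal i'').presheaf.map (homOfLE hUT).op t)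
  obtain ⟨x', hx'⟩ := hνsurj (idealSect i''.ker (n ⁻¹ᵁ UZ') σ)
  have hx'0 : (i'' ≫ n).app UZ' x' = 0 := by
    change i''.app (n ⁻¹ᵁ UZ') (n.app UZ' x') = 0
    rw [hx']
    exact OmegaCnB.app_idealSect i'' hUZ'' σ
  obtain ⟨s', hs'⟩ := OmegaCnB.exists_idealSect (i'' ≫ n) hUZ' x' hx'0
  obtain ⟨s₂, hs₂, h₂⟩ := OmegaCnF.psi_pull n i'' ψ₂ hψ₂ UZ' s'
  have h3 : s₂ = σ := by
    apply OmegaCnC.idealSect_injective i'' (n ⁻¹ᵁ UZ')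
    rw [hs₂, hs', hx']
  refine ⟨_, h₂.trans ?_⟩
  rw [h3]
  exact hσ

include hZ' hY' hZ'' hm₁ hn₂ hψ₁ hψ₂ in
theorem exact'
    (w : ψ₁ ≫ ((Scheme.Modules.pullbackId Z).inv.app (Omega.conormal (i'' ≫ n)) ≫ ψ₂) = 0) :
    (ShortComplex.mk ψ₁
      ((Scheme.Modules.pullbackId Z).inv.app (Omega.conormal (i'' ≫ n)) ≫ ψ₂) w).Exact := by
  haveI : IsClosedImmersion i'' := hZ''.1.1.1
  haveI : IsClosedImmersion (i'' ≫ n) := hZ'.1.1.1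
  apply Groth.Agent.Lead.LocalLift.exact_of_local_lift
  intro T t ht z hz
  obtain ⟨UX, UY', UZ', hUX, hUY', hUZ', e₁, e₂, hUZ'', e₅, hzU, hUT⟩ :=
    exists_charts i'' n m d j e hZ' hZ'' hm₁ z T hz
  obtain ⟨-, hνker⟩ := ring_facts i'' n m d j e hZ' hY' hZ'' hm₁ hn₂ hUX hUY' hUZ' e₁ e₂ hUZ'' e₅
  refine ⟨(i'' ≫ n) ⁻¹ᵁ UZ', hUT, hzU, ?_⟩
  change ∃ r : Γ((Scheme.Modules.pullback (i'' ≫ e)).obj (Omega.conormal j), (i'' ≫ n) ⁻¹ᵁ UZ'),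
    ψ₁.app ((i'' ≫ n) ⁻¹ᵁ UZ') r = (Omega.conormal (i'' ≫ n)).presheaf.map (homOfLE hUT).op t
  have hW : IsAffineOpen (i'' ⁻¹ᵁ (n ⁻¹ᵁ UZ')) := hUZ''.preimage i''
  have hsurj'' : Function.Surjective (i''.app (n ⁻¹ᵁ UZ')) := i''.app_surjective _ hUZ''
  have hsurj' : Function.Surjective ((i'' ≫ n).app UZ') := (i'' ≫ n).app_surjective _ hUZ'
  obtain ⟨s', hs'⟩ := OmegaCnH.exists_conormalSect (i'' ≫ n) hUZ' hW hsurj'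
    ((Omega.conormal (i'' ≫ n)).presheaf.map (homOfLE hUT).op t)
  have ht' : ((Scheme.Modules.pullbackId Z).inv.app (Omega.conormal (i'' ≫ n)) ≫ ψ₂).app
      ((i'' ≫ n) ⁻¹ᵁ UZ') ((Omega.conormal (i'' ≫ n)).presheaf.map (homOfLE hUT).op t) = 0 := by
    refine (StalkExact.app_res _ (homOfLE hUT) t).trans ?_
    have ht0 : ((Scheme.Modules.pullbackId Z).inv.app (Omega.conormal (i'' ≫ n)) ≫ ψ₂).app T t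
      = 0 := ht
    exact (congrArg ((Omega.conormal i'').presheaf.map (homOfLE hUT).op) ht0).trans (map_zero _)
  rw [← hs'] at ht' ⊢
  obtain ⟨s₂, hs₂, h₂⟩ := OmegaCnF.psi_pull n i'' ψ₂ hψ₂ UZ' s'
  have h3 : conormalSect i'' (n ⁻¹ᵁ UZ') s₂ = 0 := by
    rw [← h₂, OmegaSeqA.pullSect_id]
    exact ht'
  have h4 := OmegaCnF.idealSect_mem_sq i'' hUZ'' hW hsurj'' s₂ h3
  rw [hs₂] at h4
  have hsq : RingHom.ker (i''.app (n ⁻¹ᵁ UZ')).hom ^ 2 = ⊥ := by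
    have h1 := congrArg (fun I => I.ideal ⟨n ⁻¹ᵁ UZ', hUZ''⟩) hZ''.1.2
    simp only [Scheme.IdealSheafData.ideal_mul, Pi.mul_apply, Scheme.IdealSheafData.ideal_bot,
      Pi.bot_apply, Scheme.Hom.ker_apply] at h1
    rw [pow_two]
    exact h1
  rw [hsq] at h4
  have h5 : idealSect (i'' ≫ n).ker UZ' s' ∈ RingHom.ker (n.app UZ').hom := h4
  rw [hνker, Ideal.map] at h5
  suffices H : ∀ x' ∈ Ideal.span ((m.appLE UY' UZ' e₂).hom '' (RingHom.ker (j.app UY').hom : Set _)),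
      ∃ τ : Γ(ClSub.idealMod (i'' ≫ n).ker, UZ'), idealSect (i'' ≫ n).ker UZ' τ = x' ∧
        ∃ r : Γ((Scheme.Modules.pullback (i'' ≫ e)).obj (Omega.conormal j), (i'' ≫ n) ⁻¹ᵁ UZ'),
          ψ₁.app ((i'' ≫ n) ⁻¹ᵁ UZ') r = conormalSect (i'' ≫ n) UZ' τ by
    obtain ⟨τ, hτ, r, hr⟩ := H _ h5
    rw [OmegaCnC.idealSect_injective (i'' ≫ n) UZ' hτ] at hr
    exact ⟨r, hr⟩
  intro x' hx'
  induction hx' using Submodule.span_induction with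
  | mem x hx =>
    obtain ⟨y, hy, rfl⟩ := hx
    obtain ⟨σ, hσ⟩ := OmegaCnB.exists_idealSect j hUY' y hy
    obtain ⟨τ, hτ, h⟩ := psi1_gen i'' n m j e hm₁ ψ₁ hψ₁ e₂ σ
    have hV₁ : (i'' ≫ n) ⁻¹ᵁ UZ' ≤ (i'' ≫ e) ⁻¹ᵁ (j ⁻¹ᵁ UY') := by
      intro z hz
      have h1 : ((i'' ≫ n) ≫ m) z ∈ UY' := e₂ hz
      rw [hm₁] at h1
      exact h1
    refine ⟨τ, by rw [hτ, hσ], _, (h _ hV₁ le_rfl).trans ?_⟩
    exact OmegaCnB.pbSec_self (i'' ≫ n) _ UZ' τ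
  | zero => exact ⟨0, map_zero _, 0, by rw [map_zero, map_zero]⟩
  | add x y _ _ hx hy =>
    obtain ⟨τx, hτx, rx, hrx⟩ := hx
    obtain ⟨τy, hτy, ry, hry⟩ := hy
    exact ⟨τx + τy, by rw [map_add, hτx, hτy], rx + ry, by rw [map_add, hrx, hry, map_add]⟩
  | smul a x _ hx =>
    obtain ⟨τx, hτx, rx, hrx⟩ := hx
    refine ⟨a • τx, by rw [OmegaCnC.idealSect_smul, hτx]; rfl,
      (i'' ≫ n).appLE UZ' ((i'' ≫ n) ⁻¹ᵁ UZ') le_rfl a • rx, ?_⟩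
    rw [OmegaCnG.conormalSect_smul, ← hrx, Scheme.Modules.Hom.app_smul]

include hZ' hY' hZ'' hm₁ hn₂ hψ₁ hψ₂ in
theorem main' :
    ∃ w : (Scheme.Modules.pullback (𝟙 Z)).map ψ₁ ≫ ψ₂ = 0,
      (ShortComplex.mk _ _ w).Exact ∧ Epi ψ₂ := by
  have w' := comp_zero' i'' n m d j e hY' hZ'' hm₁ hn₂ ψ₁ hψ₁ ψ₂ hψ₂
  have hex := exact' i'' n m d j e hZ' hY' hZ'' hm₁ hn₂ ψ₁ hψ₁ ψ₂ hψ₂ w'
  have hnat : (Scheme.Modules.pullback (𝟙 Z)).map ψ₁ ≫ (Scheme.Modules.pullbackId Z).hom.app _ =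
      (Scheme.Modules.pullbackId Z).hom.app _ ≫ ψ₁ := (Scheme.Modules.pullbackId Z).hom.naturality ψ₁
  have w : (Scheme.Modules.pullback (𝟙 Z)).map ψ₁ ≫ ψ₂ = 0 := by
    have h1 : ψ₂ = (Scheme.Modules.pullbackId Z).hom.app _ ≫
        ((Scheme.Modules.pullbackId Z).inv.app _ ≫ ψ₂) := by
      rw [Iso.hom_inv_id_app_assoc]
    rw [h1, ← Category.assoc, hnat, Category.assoc, w', comp_zero]
  refine ⟨w, ?_, epi_psi2 i'' n m d j e hZ' hY' hZ'' hm₁ hn₂ ψ₂ hψ₂⟩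
  refine (ShortComplex.exact_iff_of_iso (?_ : ShortComplex.mk _ _ w ≅ ShortComplex.mk _ _ w')).mpr hex
  refine ShortComplex.isoMk ((Scheme.Modules.pullbackId Z).app _) ((Scheme.Modules.pullbackId Z).app _)
    (Iso.refl _) ?_ ?_
  · exact hnat.symm
  · change (Scheme.Modules.pullbackId Z).hom.app _ ≫
      ((Scheme.Modules.pullbackId Z).inv.app _ ≫ ψ₂) = ψ₂ ≫ 𝟙 _
    rw [Category.comp_id, Iso.hom_inv_id_app_assoc]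

end Sheaf

/-- **S9784** -/
theorem main {Z Y X Z' Y' Z'' : Scheme.{u}} (i : Z ⟶ Y) (b : Y ⟶ X)
    (i' : Z ⟶ Z') (c : Z' ⟶ X) (hZ' : OmegaSh.IsUnivThickening (i ≫ b) i' c)
    (j : Y ⟶ Y') (d : Y' ⟶ X) (hY' : OmegaSh.IsUnivThickening b j d)
    (m : Z' ⟶ Y') (hm₁ : i' ≫ m = i ≫ j) (hm₂ : m ≫ d = c)
    (i'' : Z ⟶ Z'') (e : Z'' ⟶ Y) (hZ'' : OmegaSh.IsUnivThickening i i'' e)
    (n : Z'' ⟶ Z') (hn₁ : i'' ≫ n = i') (hn₂ : n ≫ c = e ≫ b)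
    (ψ₁ : (Scheme.Modules.pullback i).obj (Omega.conormal j) ⟶ Omega.conormal i')
    (hψ₁ : OmegaSh.IsConormalMap i' j m i ψ₁)
    (ψ₂ : (Scheme.Modules.pullback (𝟙 Z)).obj (Omega.conormal i') ⟶ Omega.conormal i'')
    (hψ₂ : OmegaSh.IsConormalMap i'' i' n (𝟙 Z) ψ₂) :
    ∃ w : (Scheme.Modules.pullback (𝟙 Z)).map ψ₁ ≫ ψ₂ = 0,
      (ShortComplex.mk _ _ w).Exact ∧ Epi ψ₂ := by
  subst hn₁
  subst hm₂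
  have hb : j ≫ d = b := hY'.2.1
  subst hb
  have hi : i'' ≫ e = i := hZ''.2.1
  subst hi
  haveI : IsClosedImmersion (i'' ≫ n) := hZ'.1.1.1
  haveI : IsClosedImmersion j := hY'.1.1.1
  haveI : IsClosedImmersion i'' := hZ''.1.1.1
  exact main' i'' n m d j e hZ' hY' hZ'' hm₁ hn₂ ψ₁ hψ₁ ψ₂ hψ₂

end Groth.Agent.Lead.UTTransB
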