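import Mathlib
import Groth.Agent.Lead.DiagOpenFinC
import Groth.Agent.Helper2.UnramFib
import Groth.Agent.Helper5.FibGrp6
import Groth.Agent.Helper9.GrpDiag

/-! Unit section an open immersion iff unramified (SGA3 VI_B). -/

open AlgebraicGeometry CategoryTheory CategoryTheory.Limits MonObj MonoidalCategory
  CartesianMonoidalCategory

namespace Groth.Agent.Lead.UnitOpen
universe u

variable (S : Scheme.{u}) (G : Over S) [GrpObj G]

theorem lift_id_left : (lift (𝟙 G) (𝟙 G)).left = pullback.diagonal G.hom := by
  apply pullback.hom_ext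
  · have h := congrArg (fun t => t.left) (lift_fst (𝟙 G) (𝟙 G))
    simp only [Over.comp_left, Over.id_left] at h
    rw [pullback.diagonal_fst]
    exact h
  · have h := congrArg (fun t => t.left) (lift_snd (𝟙 G) (𝟙 G))
    simp only [Over.comp_left, Over.id_left] at h
    rw [pullback.diagonal_snd]
    exact h

theorem diag_of_unit (h : IsOpenImmersion η[G].left) : IsOpenImmersion (pullback.diagonal G.hom) := by
  have sq := (Groth.Agent.Helper9.GrpDiag.isPullback_diag G).map (Over.forget S)
  have sq' : IsPullback (toUnit G).left (lift (𝟙 G) (𝟙 G)).left η[G].left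
      (Groth.Agent.Helper9.GrpDiag.dmap G).left := sq.flip
  rw [← lift_id_left]
  exact MorphismProperty.of_isPullback (P := @IsOpenImmersion) sq' h

theorem unit_of_unramified [FormallyUnramified G.hom] [LocallyOfFiniteType G.hom] :
    IsOpenImmersion η[G].left :=
  Groth.Agent.Helper5.FibGrp.isOpenImmersion_of_section G.hom η[G].left (Over.w η[G])

theorem fibre_of_unit (h : IsOpenImmersion η[G].left) (s : S) :
    FormallyUnramified (G.hom.fiberToSpecResidueField s) ∧
      LocallyOfFinitePresentation (G.hom.fiberToSpecResidueField s) := by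
  have hd : (@IsOpenImmersion).diagonal G.hom := diag_of_unit S G h
  have hd' : (@IsOpenImmersion).diagonal (G.hom.fiberToSpecResidueField s) :=
    MorphismProperty.pullback_snd (P := (@IsOpenImmersion).diagonal) _ _ hd
  have : IsOpenImmersion (pullback.diagonal (G.hom.fiberToSpecResidueField s)) := hd'
  exact ⟨inferInstance, Groth.Agent.Lead.DiagOpenFin.lfp_of_diagonal (S.residueField s) _⟩

theorem fu_of_factor {X Y T Z Z' : Scheme.{u}} (f : X ⟶ T) (j : Y ⟶ X) [IsOpenImmersion j]
    (r : Z ⟶ T) (h : FormallyUnramified (pullback.snd f r)) (q : Z' ⟶ Z) (t : Z' ⟶ T)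
    (ht : t = q ≫ r) : FormallyUnramified (pullback.snd (j ≫ f) t) := by
  subst ht
  have h1 : FormallyUnramified (pullback.snd f (q ≫ r)) := by
    rw [← MorphismProperty.cancel_left_of_respectsIso (P := @FormallyUnramified)
      (pullbackLeftPullbackSndIso f r q).hom, pullbackLeftPullbackSndIso_hom_snd]
    exact MorphismProperty.pullback_snd (P := @FormallyUnramified) _ _ h
  rw [← MorphismProperty.cancel_left_of_respectsIso (P := @FormallyUnramified)
    (pullbackRightPullbackFstIso f (q ≫ r) j).hom, pullbackRightPullbackFstIso_hom_snd]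
  have h2 : IsOpenImmersion (pullback.snd j (pullback.fst f (q ≫ r))) := inferInstance
  have h3 : FormallyUnramified (pullback.snd j (pullback.fst f (q ≫ r))) := by
    have : IsOpenImmersion (pullback.diagonal (pullback.snd j (pullback.fst f (q ≫ r)))) :=
      inferInstance
    infer_instance
  exact MorphismProperty.comp_mem _ _ _ h3 h1

theorem unit_of_fibres (W : G.left.Opens)
    (hW : ∀ p : ↥(𝟙_ (Over S)).left, η[G].left.base p ∈ W)
    (hlfp : LocallyOfFinitePresentation (W.ι ≫ G.hom))
    (hfib : ∀ s : S, FormallyUnramified (G.hom.fiberToSpecResidueField s)) :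
    IsOpenImmersion η[G].left := by
  have hunr : FormallyUnramified (W.ι ≫ G.hom) := by
    rw [Groth.Agent.Helper2.UnramFib.formallyUnramified_iff_fibres (𝟙 S) (W.ι ≫ G.hom)]
    intro s
    refine fu_of_factor G.hom W.ι (S.fromSpecResidueField s) (hfib s)
      (pullback.snd (𝟙 S) (S.fromSpecResidueField s)) _ ?_
    have := pullback.condition (f := 𝟙 S) (g := S.fromSpecResidueField s)
    rw [Category.comp_id] at this
    exact this
  have hsub : Set.range η[G].left ⊆ Set.range W.ι := by
    rintro _ ⟨p, rfl⟩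
    rw [Scheme.Opens.range_ι]
    exact hW p
  let e' : S ⟶ W := IsOpenImmersion.lift W.ι η[G].left hsub
  have he' : e' ≫ W.ι = η[G].left := IsOpenImmersion.lift_fac _ _ _
  have hsec : e' ≫ (W.ι ≫ G.hom) = 𝟙 S := by
    rw [← Category.assoc, he']; exact Over.w η[G]
  have : IsOpenImmersion e' :=
    Groth.Agent.Helper5.FibGrp.isOpenImmersion_of_section (W.ι ≫ G.hom) e' hsec
  rw [← he']
  infer_instance

theorem exists_open_of_unit (h : IsOpenImmersion η[G].left) :
    ∃ W : G.left.Opens, (∀ p : ↥(𝟙_ (Over S)).left, η[G].left.base p ∈ W) ∧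
      LocallyOfFinitePresentation (W.ι ≫ G.hom) := by
  refine ⟨η[G].left.opensRange, fun p => ⟨p, rfl⟩, ?_⟩
  have h1 : η[G].left.isoOpensRange.hom ≫ η[G].left.opensRange.ι = η[G].left :=
    Scheme.Hom.isoOpensRange_hom_ι _
  have h2 : η[G].left.opensRange.ι ≫ G.hom = η[G].left.isoOpensRange.inv := by
    rw [← cancel_epi η[G].left.isoOpensRange.hom, ← Category.assoc, h1, Iso.hom_inv_id]
    exact Over.w η[G]
  rw [h2]
  infer_instance

theorem main :
    (IsOpenImmersion η[G].left ↔
      ((∃ W : G.left.Opens, (∀ p : ↥(𝟙_ (Over S)).left, η[G].left.base p ∈ W) ∧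
          LocallyOfFinitePresentation (W.ι ≫ G.hom)) ∧
        ∀ s : S, FormallyUnramified (G.hom.fiberToSpecResidueField s) ∧
          LocallyOfFinitePresentation (G.hom.fiberToSpecResidueField s))) ∧
    (LocallyOfFinitePresentation G.hom → (IsOpenImmersion η[G].left ↔ FormallyUnramified G.hom)) := by
  refine ⟨⟨fun h => ⟨exists_open_of_unit S G h, fibre_of_unit S G h⟩, ?_⟩, ?_⟩
  · rintro ⟨⟨W, hW, hlfp⟩, hfib⟩
    exact unit_of_fibres S G W hW hlfp fun s => (hfib s).1
  · intro hlfp
    refine ⟨fun h => ?_, fun h => unit_of_unramified S G⟩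
    have := diag_of_unit S G h
    infer_instance

end Groth.Agent.Lead.UnitOpen
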