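import Mathlib
import Groth.Prelude.Def_UnitsSh
import Groth.Prelude.Def_ClSub2
import Groth.Agent.Lead.AbLocal
import Groth.Agent.Lead.QuotSeq
import Groth.Agent.Lead.IdealModDict

/-!
# The units sequence `0 → J → O_X^× → i_* O_{X₀}^× → 0` of a square-zero ideal (S15747)
-/

set_option autoImplicit false
universe u
open CategoryTheory CategoryTheory.Limits AlgebraicGeometry TopologicalSpace Opposite

namespace Groth.Agent.Lead.UnitsSeq

open Groth.Agent.Helper1.IdealMod (fn ofFn)
open Groth.Agent.Lead.LiftPow (res res_res res_self)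
open Groth.Agent.Lead.LefConn (mod_app_res)
open Groth.Agent.Lead.CartIsoEq (eq_of_locally ev ev_res ev_mem ev_injective ev_zero)
open Groth.Agent.Lead.QuotSeq (exists_affine_nhd toSub_surj toSub_eq_zero_iff)
open Groth.Agent.Lead.IdealModDict (exists_section_iff)

variable {X : Scheme.{u}} (J : X.IdealSheafData)

/-- the function attached to a section of the ideal -/
noncomputable def iv (U : X.Opens) (f : Γ(ClSub.idealMod J, U)) : Γ(X, U) :=
  ev (ClSub.idealModι J) U f

theorem iv_add (U : X.Opens) (f g : Γ(ClSub.idealMod J, U)) :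
    iv J U (f + g) = iv J U f + iv J U g := by
  unfold iv ev
  rw [map_add]
  rfl

theorem iv_zero (U : X.Opens) : iv J U 0 = 0 := ev_zero _ U

theorem iv_res {U V : X.Opens} (h : V ≤ U) (f : Γ(ClSub.idealMod J, U)) :
    iv J V ((ClSub.idealMod J).presheaf.map (homOfLE h).op f) = res h (iv J U f) :=
  ev_res _ h f

theorem iv_injective (U : X.Opens) {f g : Γ(ClSub.idealMod J, U)} (h : iv J U f = iv J U g) :
    f = g := ev_injective J U h

theorem iv_mem (W : X.affineOpens) (f : Γ(ClSub.idealMod J, W.1)) : iv J W.1 f ∈ J.ideal W :=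
  ev_mem J W f

/-- sections of the ideal are killed by the closed immersion -/
theorem app_iv (U : X.Opens) (f : Γ(ClSub.idealMod J, U)) :
    (J.subschemeι.app U).hom (iv J U f) = 0 := by
  have h := congrArg (fun φ : ClSub.idealMod J ⟶ ClSub.quotMod J => φ.app U f)
    (kernel.condition (ClSub.toSubscheme J))
  exact h

variable {J}

theorem iv_mul_iv (hJ : J * J = ⊥) (U : X.Opens) (f g : Γ(ClSub.idealMod J, U)) :
    iv J U f * iv J U g = 0 := by
  apply eq_of_locally
  intro z hz
  obtain ⟨W, hzW, hle⟩ := exists_affine_nhd hz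
  refine ⟨W.1, hle, hzW, ?_⟩
  rw [map_mul, map_zero, ← iv_res, ← iv_res]
  have h1 : iv J W.1 ((ClSub.idealMod J).presheaf.map (homOfLE hle).op f) *
      iv J W.1 ((ClSub.idealMod J).presheaf.map (homOfLE hle).op g) ∈ (J * J).ideal W :=
    Ideal.mul_mem_mul (iv_mem J W _) (iv_mem J W _)
  rw [hJ] at h1
  exact h1

/-- the unit `1 + f` -/
noncomputable def unitOf (hJ : J * J = ⊥) (U : X.Opens) (f : Γ(ClSub.idealMod J, U)) :
    (Γ(X, U))ˣ where
  val := 1 + iv J U f
  inv := 1 - iv J U f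
  val_inv := by
    have := iv_mul_iv hJ U f f
    linear_combination -this
  inv_val := by
    have := iv_mul_iv hJ U f f
    linear_combination -this

theorem unitOf_add (hJ : J * J = ⊥) (U : X.Opens) (f g : Γ(ClSub.idealMod J, U)) :
    unitOf hJ U (f + g) = unitOf hJ U f * unitOf hJ U g := by
  apply Units.ext
  change 1 + iv J U (f + g) = (1 + iv J U f) * (1 + iv J U g)
  rw [iv_add]
  have := iv_mul_iv hJ U f g
  linear_combination -this

theorem unitOf_zero (hJ : J * J = ⊥) (U : X.Opens) : unitOf hJ U 0 = 1 := by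
  apply Units.ext
  change 1 + iv J U 0 = 1
  rw [iv_zero, add_zero]

/-- the map `f ↦ 1 + f` on sections -/
noncomputable def phiHom (hJ : J * J = ⊥) (U : (Opens X)ᵒᵖ) :
    (Coh.toAb (ClSub.idealMod J)).obj.obj U →+ (UnitsSh.unitsAb X).obj.obj U where
  toFun := fun f => UnitsSh.sectOfUnit (O := X.sheaf.obj) (U := U)
    (unitOf hJ U.unop (show Γ(ClSub.idealMod J, U.unop) from f))
  map_zero' := by
    change UnitsSh.sectOfUnit (O := X.sheaf.obj) (U := U) (unitOf hJ U.unop 0) = 0
    rw [unitOf_zero]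
    rfl
  map_add' := by
    intro f g
    change UnitsSh.sectOfUnit (O := X.sheaf.obj) (U := U) (unitOf hJ U.unop
      ((show Γ(ClSub.idealMod J, U.unop) from f) +
        (show Γ(ClSub.idealMod J, U.unop) from g))) = _
    rw [unitOf_add]
    rfl

/-- the map `f ↦ 1 + f` of abelian presheaves -/
noncomputable def phiNat (hJ : J * J = ⊥) :
    (Coh.toAb (ClSub.idealMod J)).obj ⟶ (UnitsSh.unitsAb X).obj where
  app := fun U => AddCommGrpCat.ofHom (phiHom hJ U)
  naturality := by
    intro U V i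
    ext f
    apply Units.ext
    change 1 + iv J V.unop ((ClSub.idealMod J).presheaf.map i f) =
      (X.presheaf.map i).hom (1 + iv J U.unop f)
    have hle : V.unop ≤ U.unop := i.unop.le
    have hi : i = (homOfLE hle).op := Subsingleton.elim _ _
    rw [hi, iv_res, map_add, map_one]

/-- the map `f ↦ 1 + f` of abelian sheaves -/
noncomputable def phi (hJ : J * J = ⊥) : Coh.toAb (ClSub.idealMod J) ⟶ UnitsSh.unitsAb X :=
  ⟨phiNat hJ⟩

theorem phi_val (hJ : J * J = ⊥) (U : X.Opens) (f : (ClSub.idealMod J).val.obj (op U)) :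
    (UnitsSh.unitOfSect ((phi hJ).hom.app (op U) f)).val =
      1 + (show X.sheaf.obj.obj (op U) from (ClSub.idealModι J).val.app (op U) f) := rfl

theorem phi_comap (hJ : J * J = ⊥) : phi hJ ≫ UnitsSh.comap J.subschemeι = 0 := by
  apply Sheaf.hom_ext
  ext U f
  apply Units.ext
  change (J.subschemeι.app U.unop).hom (1 + iv J U.unop f) = 1
  rw [map_add, map_one, app_iv, add_zero]

theorem mono_phi (hJ : J * J = ⊥) : Mono (phi hJ) := by
  apply AbLocal.mono_of_injective
  intro U f g hfg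
  apply iv_injective J U
  have h1 : (UnitsSh.unitOfSect ((phi hJ).hom.app (op U) f)).val =
      (UnitsSh.unitOfSect ((phi hJ).hom.app (op U) g)).val := by rw [hfg]
  have h2 : 1 + iv J U f = 1 + iv J U g := h1
  exact add_left_cancel h2

theorem epi_comap (hJ : J * J = ⊥) : Epi (UnitsSh.comap J.subschemeι) := by
  apply AbLocal.epi_of_local_lift
  intro T t x hx
  obtain ⟨W, hxW, hle⟩ := exists_affine_nhd hx
  refine ⟨W.1, hle, hxW, ?_⟩
  obtain ⟨v, hv⟩ : ∃ v : (Γ(J.subscheme, J.subschemeι ⁻¹ᵁ W.1))ˣ,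
      v = UnitsSh.unitOfSect (((CohTop.push J.subschemeι.base).obj
        (UnitsSh.unitsAb J.subscheme)).obj.map (homOfLE hle).op t) := ⟨_, rfl⟩
  obtain ⟨a, ha⟩ := J.subschemeι_app_surjective W v.val
  obtain ⟨a', ha'⟩ := J.subschemeι_app_surjective W v.inv
  have h1 : a * a' - 1 ∈ J.ideal W := by
    rw [← J.ker_subschemeι_app W, RingHom.mem_ker, map_sub, map_mul, map_one]
    change (J.subschemeι.app W.1) a * (J.subschemeι.app W.1) a' - 1 = 0
    rw [ha, ha', v.val_inv, sub_self]
  have h2 : (a * a' - 1) * (a * a' - 1) = 0 := by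
    have h3 : (a * a' - 1) * (a * a' - 1) ∈ (J * J).ideal W := Ideal.mul_mem_mul h1 h1
    rw [hJ] at h3
    exact h3
  have h4 : IsUnit (a * a') := by
    have h5 : IsNilpotent (a * a' - 1) := ⟨2, by rw [pow_two]; exact h2⟩
    have := h5.isUnit_one_add
    rwa [add_sub_cancel] at this
  have h6 : IsUnit a := isUnit_of_mul_isUnit_left h4
  obtain ⟨ua, hua⟩ := h6
  refine ⟨UnitsSh.sectOfUnit (O := X.sheaf.obj) (U := op W.1) ua, ?_⟩
  have h7 : UnitsSh.unitOfSect ((UnitsSh.comap J.subschemeι).hom.app (op W.1)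
      (UnitsSh.sectOfUnit (O := X.sheaf.obj) (U := op W.1) ua)) = v := by
    apply Units.ext
    change (J.subschemeι.app W.1) (ua : Γ(X, W.1)) = v.val
    rw [hua, ha]
  rw [hv] at h7
  exact h7

theorem exact_seq (hJ : J * J = ⊥) :
    (ShortComplex.mk (phi hJ) (UnitsSh.comap J.subschemeι) (phi_comap hJ)).Exact := by
  apply AbLocal.exact_of_local_lift
  intro T t ht x hx
  obtain ⟨W, hxW, hle⟩ := exists_affine_nhd hx
  refine ⟨W.1, hle, hxW, ?_⟩
  obtain ⟨u, hu⟩ : ∃ u : (Γ(X, T))ˣ, u = UnitsSh.unitOfSect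
      (show (UnitsSh.unitsAb X).obj.obj (op T) from t) := ⟨_, rfl⟩
  have h1 : (J.subschemeι.app T).hom (u : Γ(X, T)) = 1 := by
    have h2 := congrArg (fun s => (UnitsSh.unitOfSect s).val) ht
    rw [hu]
    exact h2
  have h3 : res hle (u : Γ(X, T)) - 1 ∈ J.ideal W := by
    rw [← J.ker_subschemeι_app W, RingHom.mem_ker, map_sub, map_one]
    have h4 := Groth.Agent.Lead.LiftPow.app_res J.subschemeι hle (u : Γ(X, T))
    rw [h1, map_one] at h4
    change (J.subschemeι.app W.1).hom (res hle (u : Γ(X, T))) - 1 = 0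
    rw [h4, sub_self]
  obtain ⟨f, hf⟩ := (exists_section_iff J W _).2 h3
  refine ⟨f, ?_⟩
  have h5 : UnitsSh.unitOfSect ((phi hJ).hom.app (op W.1) f) =
      UnitsSh.unitOfSect ((UnitsSh.unitsAb X).obj.map (homOfLE hle).op t) := by
    apply Units.ext
    have h6 : iv J W.1 f = res hle (u : Γ(X, T)) - 1 := hf
    have h7 : 1 + iv J W.1 f = res hle (u : Γ(X, T)) := by rw [h6]; ring
    rw [hu] at h7
    exact h7
  exact h5

theorem main (hJ : J * J = ⊥) :
    ∃ φ : Coh.toAb (ClSub.idealMod J) ⟶ UnitsSh.unitsAb X,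
      (∀ (U : X.Opens) (f : (ClSub.idealMod J).val.obj (op U)),
        (UnitsSh.unitOfSect (φ.hom.app (op U) f)).val =
          1 + (show X.sheaf.obj.obj (op U) from (ClSub.idealModι J).val.app (op U) f)) ∧
      ∃ w : φ ≫ UnitsSh.comap J.subschemeι = 0,
        (ShortComplex.mk φ (UnitsSh.comap J.subschemeι) w).ShortExact := by
  refine ⟨phi hJ, phi_val hJ, phi_comap hJ, ?_⟩
  haveI := mono_phi hJ
  haveI := epi_comap hJ
  exact { exact := exact_seq hJ }

end Groth.Agent.Lead.UnitsSeq
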