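import Groth.Prelude.Def_Pi1
import Mathlib.RingTheory.Finiteness.Descent
import Mathlib.RingTheory.FiniteType
import Mathlib.LinearAlgebra.TensorProduct.RightExactness

set_option autoImplicit false
universe u

open scoped TensorProduct
open TensorProduct

namespace Groth.Agent.Lead

variable {R S : Type u} [CommRing R] [CommRing S] [Algebra R S]

/-- If `R → S` is universally injective and `S ⊗ f` is surjective, then `f` is surjective. -/
theorem surjective_of_lTensor_surjective_of_univInjective (h : Pi1.UnivInjective R S)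
    {M N : Type u} [AddCommGroup M] [Module R M] [AddCommGroup N] [Module R N] (f : M →ₗ[R] N)
    (hf : Function.Surjective (LinearMap.lTensor S f)) : Function.Surjective f := by
  rw [← LinearMap.range_eq_top, ← Submodule.Quotient.subsingleton_iff]
  set Q := N ⧸ LinearMap.range f
  let π : N →ₗ[R] Q := (LinearMap.range f).mkQ
  have hπf : π ∘ₗ f = 0 := LinearMap.range_mkQ_comp f
  refine ⟨fun a b => ?_⟩
  suffices key : ∀ q : Q, q = 0 by rw [key a, key b]
  intro q
  obtain ⟨n, rfl⟩ := Submodule.mkQ_surjective _ q
  have hinj := h Q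
  -- 1 ⊗ π n = 0 in S ⊗ Q
  have h1 : (1 : S) ⊗ₜ[R] (π n) = 0 := by
    obtain ⟨z, hz⟩ := hf ((1 : S) ⊗ₜ[R] n)
    have : (LinearMap.lTensor S π) ((LinearMap.lTensor S f) z) = 0 := by
      rw [← LinearMap.comp_apply, ← LinearMap.lTensor_comp, hπf, LinearMap.lTensor_zero,
        LinearMap.zero_apply]
    rw [hz] at this
    simpa using this
  have h2 : (π n) ⊗ₜ[R] (1 : S) = 0 := by
    have := congrArg (TensorProduct.comm R S Q) h1
    simpa using this
  have h3 : (LinearMap.lTensor Q (Algebra.linearMap R S)) ((π n) ⊗ₜ[R] (1 : R)) = 0 := by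
    simpa using h2
  have h4 : (π n) ⊗ₜ[R] (1 : R) = 0 := hinj (by rw [h3, map_zero])
  have := congrArg (TensorProduct.rid R Q) h4
  simp only [TensorProduct.rid_tmul, one_smul, map_zero] at this
  exact this

/-- Finiteness of modules descends along universally injective ring maps. -/
theorem finite_of_univInjective (h : Pi1.UnivInjective R S) (M : Type u) [AddCommGroup M]
    [Module R M] [Module.Finite S (S ⊗[R] M)] : Module.Finite R M := by
  obtain ⟨n, s, hs⟩ := Module.Finite.exists_fin (R := S) (M := S ⊗[R] M)
  choose k t m hm using fun i : Fin n ↦ TensorProduct.exists_sum_tmul_eq (s i)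
  let f₀ : ((Σ i, Fin (k i)) → R) →ₗ[R] M := (Pi.basisFun R _).constr R fun ⟨i, j⟩ ↦ m i j
  apply Module.Finite.of_surjective f₀
  have : Function.Surjective (AlgebraTensorModule.lTensor S S f₀) := by
    rw [← LinearMap.range_eq_top, eq_top_iff, ← hs, Submodule.span_le, Set.range_subset_iff]
    intro i
    use ∑ (j : Fin (k i)), t i j ⊗ₜ Pi.basisFun R _ ⟨i, j⟩
    simp [f₀, -Pi.basisFun_equivFun, -Pi.basisFun_apply, hm i]
  exact surjective_of_lTensor_surjective_of_univInjective h f₀ this

/-- Finite type of algebras descends along universally injective ring maps. -/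
theorem finiteType_of_univInjective (h : Pi1.UnivInjective R S) (A : Type u) [CommRing A]
    [Algebra R A] [Algebra.FiniteType S (S ⊗[R] A)] : Algebra.FiniteType R A := by
  obtain ⟨s, hs⟩ := Algebra.FiniteType.out (R := S) (A := S ⊗[R] A)
  have (x : s) := TensorProduct.exists_sum_tmul_eq x.1
  choose k t m hm using this
  let f : MvPolynomial (Σ x : s, Fin (k x)) R →ₐ[R] A := MvPolynomial.aeval (fun ⟨x, i⟩ ↦ m x i)
  apply Algebra.FiniteType.of_surjective f
  have hf : Function.Surjective (Algebra.TensorProduct.map (.id S S) f) := by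
    rw [← AlgHom.range_eq_top, _root_.eq_top_iff, ← hs, Algebra.adjoin_le_iff]
    intro x hx
    let i : s := ⟨x, hx⟩
    use ∑ (j : Fin (k i)), t i j ⊗ₜ MvPolynomial.X ⟨i, j⟩
    simp [f, ← hm, i]
  exact surjective_of_lTensor_surjective_of_univInjective h f.toLinearMap hf

end Groth.Agent.Lead
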