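import Groth.Agent.Lead.UnivInjective
import Mathlib

set_option autoImplicit false
universe u

open scoped TensorProduct
open TensorProduct

namespace Groth.Agent.Lead

variable {R S : Type u} [CommRing R] [CommRing S] [Algebra R S]

theorem mk_one_injective_of_univInjective (h : Pi1.UnivInjective R S)
    (P : Type u) [AddCommGroup P] [Module R P] :
    Function.Injective (TensorProduct.mk R S P 1) := by
  intro p q hpq
  have h2 : p ⊗ₜ[R] (1 : S) = q ⊗ₜ[R] (1 : S) := by
    have := congrArg (TensorProduct.comm R S P) hpq
    simpa using this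
  have h3 : (LinearMap.lTensor P (Algebra.linearMap R S)) (p ⊗ₜ[R] (1 : R)) =
      (LinearMap.lTensor P (Algebra.linearMap R S)) (q ⊗ₜ[R] (1 : R)) := by
    simpa using h2
  have h4 := h P h3
  have := congrArg (TensorProduct.rid R P) h4
  simpa using this

theorem injective_of_lTensor_injective_of_univInjective (h : Pi1.UnivInjective R S)
    {M N : Type u} [AddCommGroup M] [Module R M] [AddCommGroup N] [Module R N] (f : M →ₗ[R] N)
    (hf : Function.Injective (LinearMap.lTensor S f)) : Function.Injective f := by
  intro x y hxy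
  apply mk_one_injective_of_univInjective h M
  apply hf
  simp [hxy]

/-- Finite presentation of modules descends along universally injective ring maps. -/
theorem finitePresentation_of_univInjective (h : Pi1.UnivInjective R S) (M : Type u)
    [AddCommGroup M] [Module R M] [Module.FinitePresentation S (S ⊗[R] M)] :
    Module.FinitePresentation R M := by
  have hfin : Module.Finite R M := finite_of_univInjective h M
  obtain ⟨n, f, hf⟩ := Module.Finite.exists_fin' R M
  -- the base change of f
  let fS : S ⊗[R] (Fin n → R) →ₗ[S] S ⊗[R] M := AlgebraTensorModule.lTensor S S f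
  have hfS : Function.Surjective fS := LinearMap.lTensor_surjective S hf
  have hker : (LinearMap.ker fS).FG := Module.FinitePresentation.fg_ker fS hfS
  obtain ⟨T, hT⟩ := hker
  -- kernel of fS is the image of S ⊗ ker f
  have hex : Function.Exact (LinearMap.lTensor S (LinearMap.ker f).subtype) (LinearMap.lTensor S f) :=
    lTensor_exact S (LinearMap.exact_subtype_ker_map f) hf
  have hTmem : ∀ t ∈ T, ∃ z : S ⊗[R] (LinearMap.ker f),
      LinearMap.lTensor S (LinearMap.ker f).subtype z = t := by
    intro t ht
    have : t ∈ LinearMap.ker fS := hT ▸ Submodule.subset_span ht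
    exact (hex t).mp this
  choose! z hz using hTmem
  obtain ⟨K', hK'fin, hK'⟩ := TensorProduct.exists_finite_submodule_right_of_setFinite
    (R := R) (M := S) (N := LinearMap.ker f) (z '' (T : Set _)) (T.finite_toSet.image z)
  let K₀ : Submodule R (Fin n → R) := K'.map (LinearMap.ker f).subtype
  have hK₀fg : K₀.FG := (Module.Finite.iff_fg.mp hK'fin).map _
  have hK₀le : K₀ ≤ LinearMap.ker f := by
    rintro _ ⟨k, -, rfl⟩
    exact k.2
  -- every element of ker fS is in the range of S ⊗ K₀
  have hrange : LinearMap.ker fS ≤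
      LinearMap.range (AlgebraTensorModule.lTensor S S K₀.subtype) := by
    rw [← hT, Submodule.span_le]
    intro t ht
    obtain ⟨w, hw⟩ := hK' ⟨t, ht, rfl⟩
    let ι : K' →ₗ[R] K₀ :=
      ((LinearMap.ker f).subtype ∘ₗ K'.subtype).codRestrict K₀
        (fun k => ⟨k.1, k.2, rfl⟩)
    have hι : K₀.subtype ∘ₗ ι = (LinearMap.ker f).subtype ∘ₗ K'.subtype := by
      ext k; rfl
    refine ⟨LinearMap.lTensor S ι w, ?_⟩
    show LinearMap.lTensor S K₀.subtype (LinearMap.lTensor S ι w) = t
    rw [← LinearMap.comp_apply, ← LinearMap.lTensor_comp, hι, LinearMap.lTensor_comp,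
      LinearMap.comp_apply, hw, hz t ht]
  -- ker f ≤ K₀
  have hle : LinearMap.ker f ≤ K₀ := by
    intro x hx
    have h1 : (1 : S) ⊗ₜ[R] x ∈ LinearMap.ker fS := by
      simp [fS, LinearMap.mem_ker.mp hx]
    have h2 := hrange h1
    -- so 1 ⊗ mkQ x = 0
    have h3 : (1 : S) ⊗ₜ[R] (K₀.mkQ x) = 0 := by
      obtain ⟨w, hw⟩ := h2
      replace hw : LinearMap.lTensor S K₀.subtype w = (1 : S) ⊗ₜ[R] x := hw
      have : LinearMap.lTensor S K₀.mkQ (LinearMap.lTensor S K₀.subtype w) = 0 := by
        rw [← LinearMap.comp_apply, ← LinearMap.lTensor_comp]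
        have : K₀.mkQ ∘ₗ K₀.subtype = 0 := by ext k; simp
        rw [this, LinearMap.lTensor_zero, LinearMap.zero_apply]
      rw [hw] at this
      simpa using this
    have h4 : K₀.mkQ x = 0 := by
      apply mk_one_injective_of_univInjective h
      simpa using h3
    exact (Submodule.Quotient.mk_eq_zero K₀).mp h4
  have heq : LinearMap.ker f = K₀ := le_antisymm hle hK₀le
  exact Module.finitePresentation_of_free_of_surjective f hf (heq ▸ hK₀fg)

end Groth.Agent.Lead
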