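import Groth.Agent.Lead.UnivInjective2
import Mathlib

set_option autoImplicit false
universe u

open scoped TensorProduct
open TensorProduct

namespace Groth.Agent.Lead

variable {R S : Type u} [CommRing R] [CommRing S] [Algebra R S]

theorem tensorMap_id_eq_lTensor {P Q : Type u} [CommRing P] [Algebra R P] [CommRing Q] [Algebra R Q]
    (φ : P →ₐ[R] Q) (w : S ⊗[R] P) :
    Algebra.TensorProduct.map (AlgHom.id S S) φ w = LinearMap.lTensor S φ.toLinearMap w := by
  induction w with
  | zero => simp
  | tmul s p => simp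
  | add x y hx hy => rw [map_add, map_add, hx, hy]

/-- Finite presentation of algebras descends along universally injective ring maps. -/
theorem algFinitePresentation_of_univInjective (h : Pi1.UnivInjective R S) (A : Type u)
    [CommRing A] [Algebra R A] [Algebra.FinitePresentation S (S ⊗[R] A)] :
    Algebra.FinitePresentation R A := by
  classical
  have hft : Algebra.FiniteType R A := finiteType_of_univInjective h A
  obtain ⟨n, φ, hφ⟩ := Algebra.FiniteType.iff_quotient_mvPolynomial''.mp hft
  -- P = R[x₁..xₙ]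
  let φS : S ⊗[R] MvPolynomial (Fin n) R →ₐ[S] S ⊗[R] A :=
    Algebra.TensorProduct.map (AlgHom.id S S) φ
  have hφS_lin : ∀ w, φS w = LinearMap.lTensor S φ.toLinearMap w := tensorMap_id_eq_lTensor φ
  have hφS : Function.Surjective φS := by
    intro y
    obtain ⟨w, hw⟩ := LinearMap.lTensor_surjective S (g := φ.toLinearMap) hφ y
    exact ⟨w, (hφS_lin w).trans hw⟩
  have hker : (RingHom.ker φS.toRingHom).FG :=
    Algebra.FinitePresentation.ker_fG_of_surjective φS hφS
  obtain ⟨T, hT⟩ := hker
  let IR : Submodule R (MvPolynomial (Fin n) R) := LinearMap.ker φ.toLinearMap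
  have hex : Function.Exact (LinearMap.lTensor S IR.subtype) (LinearMap.lTensor S φ.toLinearMap) :=
    lTensor_exact S (LinearMap.exact_subtype_ker_map φ.toLinearMap) hφ
  have hTmem : ∀ t ∈ T, ∃ z : S ⊗[R] IR, LinearMap.lTensor S IR.subtype z = t := by
    intro t ht
    have : t ∈ RingHom.ker φS.toRingHom := hT ▸ Ideal.subset_span ht
    have h0 : φS t = 0 := this
    rw [hφS_lin] at h0
    exact (hex t).mp h0
  choose! z hz using hTmem
  obtain ⟨K', hK'fin, hK'⟩ := TensorProduct.exists_finite_submodule_right_of_setFinite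
    (R := R) (M := S) (N := IR) (z '' (T : Set _)) (T.finite_toSet.image z)
  obtain ⟨G, hG⟩ := Module.Finite.iff_fg.mp hK'fin
  -- the finitely generated ideal I₀
  let I₀ : Ideal (MvPolynomial (Fin n) R) :=
    Ideal.span ((G.image (fun k : IR => (k : MvPolynomial (Fin n) R)) : Finset _) : Set _)
  have hI₀fg : I₀.FG := ⟨_, rfl⟩
  have hI₀le : ∀ x ∈ I₀, φ x = 0 := by
    intro x hx
    have : I₀ ≤ RingHom.ker φ.toRingHom := by
      rw [Ideal.span_le]
      intro y hy
      simp only [Finset.coe_image, Set.mem_image, Finset.mem_coe] at hy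
      obtain ⟨k, -, rfl⟩ := hy
      exact k.2
    exact this hx
  let π : MvPolynomial (Fin n) R →ₐ[R] (MvPolynomial (Fin n) R ⧸ I₀) := Ideal.Quotient.mkₐ R I₀
  have hπ : Function.Surjective π := Ideal.Quotient.mkₐ_surjective R I₀
  let ψ : (MvPolynomial (Fin n) R ⧸ I₀) →ₐ[R] A := Ideal.Quotient.liftₐ I₀ φ hI₀le
  have hψπ : ∀ x, ψ (π x) = φ x := fun x => by simp [ψ, π]
  -- π kills K'
  have hπK' : π.toLinearMap ∘ₗ IR.subtype ∘ₗ K'.subtype = 0 := by
    have : K' ≤ LinearMap.ker (π.toLinearMap ∘ₗ IR.subtype) := by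
      rw [← hG, Submodule.span_le]
      intro k hk
      show π (k : MvPolynomial (Fin n) R) = 0
      apply Ideal.Quotient.eq_zero_iff_mem.mpr
      apply Ideal.subset_span
      exact Finset.mem_coe.mpr (Finset.mem_image.mpr ⟨k, hk, rfl⟩)
    ext k
    exact this k.2
  let πS : S ⊗[R] MvPolynomial (Fin n) R →ₐ[S] S ⊗[R] (MvPolynomial (Fin n) R ⧸ I₀) :=
    Algebra.TensorProduct.map (AlgHom.id S S) π
  have hπS_lin : ∀ w, πS w = LinearMap.lTensor S π.toLinearMap w := tensorMap_id_eq_lTensor π
  have hTker : Ideal.span (T : Set (S ⊗[R] MvPolynomial (Fin n) R)) ≤ RingHom.ker πS.toRingHom := by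
    rw [Ideal.span_le]
    intro t ht
    obtain ⟨w, hw⟩ := hK' ⟨t, ht, rfl⟩
    show πS t = 0
    rw [hπS_lin, ← hz t ht, ← hw, ← LinearMap.comp_apply, ← LinearMap.comp_apply,
      ← LinearMap.lTensor_comp, ← LinearMap.lTensor_comp, LinearMap.comp_assoc, hπK',
      LinearMap.lTensor_zero, LinearMap.zero_apply]
  have hψinj : Function.Injective ψ := by
    apply injective_of_lTensor_injective_of_univInjective h ψ.toLinearMap
    rw [injective_iff_map_eq_zero]
    intro y hy
    obtain ⟨w, rfl⟩ := LinearMap.lTensor_surjective S (g := π.toLinearMap) hπ y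
    have h1 : φS w = 0 := by
      rw [hφS_lin]
      rw [← LinearMap.comp_apply, ← LinearMap.lTensor_comp] at hy
      have : ψ.toLinearMap ∘ₗ π.toLinearMap = φ.toLinearMap := by
        ext x; exact hψπ _
      rwa [this] at hy
    have h2 : w ∈ Ideal.span (T : Set (S ⊗[R] MvPolynomial (Fin n) R)) := by
      rw [hT]; exact h1
    have h3 := hTker h2
    rw [← hπS_lin]
    exact h3
  have hkerφ : RingHom.ker φ.toRingHom = I₀ := by
    apply le_antisymm
    · intro x hx
      have : ψ (π x) = 0 := by rw [hψπ]; exact hx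
      have : π x = 0 := hψinj (by rw [this, map_zero])
      exact Ideal.Quotient.eq_zero_iff_mem.mp this
    · intro x hx
      exact hI₀le x hx
  exact Algebra.FinitePresentation.of_surjective hφ (hkerφ ▸ hI₀fg)

end Groth.Agent.Lead
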