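import Mathlib
import Groth.Prelude.Def_Omega3
import Groth.Agent.Lead.ThickBC
import Groth.Agent.S3861

set_option autoImplicit false
universe u
open CategoryTheory CategoryTheory.Limits AlgebraicGeometry TopologicalSpace

namespace Groth.Agent.Lead.UnivThick2

/-- base change of a first order thickening is a first order thickening -/
theorem firstOrder_of_isPullback {X X' S S' : Scheme.{u}} {iX : X ⟶ X'} {iS : S ⟶ S'}
    {f : X ⟶ S} {f' : X' ⟶ S'}
    (hS : MoreMor.IsFirstOrderThickening iS) (hc : IsPullback iX f f' iS) :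
    MoreMor.IsFirstOrderThickening iX := by
  haveI := hS.1.1
  haveI := hS.1.2
  haveI : IsClosedImmersion iX := ThickBC.isClosedImmersion_of_isPullback hc
  haveI : Surjective iX := MorphismProperty.of_isPullback (P := @Surjective) hc.flip inferInstance
  refine ⟨⟨inferInstance, inferInstance⟩, ?_⟩
  rw [ThickBC.ker_eq_comap hc, ← Groth.Agent.S3861.result, hS.2]
  simp

/-- S9733 -/
theorem isUnivThickening_baseChange {Z X W Y W' : Scheme.{u}} (h : Z ⟶ X) (f : Z ⟶ W) (g : X ⟶ Y)
    (h' : W ⟶ Y) (hc : IsPullback h f g h') (j : W ⟶ W') (k : W' ⟶ Y)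
    (hu : OmegaSh.IsUnivThickening h' j k) (hw : h ≫ g = (f ≫ j) ≫ k) :
    OmegaSh.IsUnivThickening h (pullback.lift h (f ≫ j) hw) (pullback.fst g k) := by
  obtain ⟨hj, hjk, huniv⟩ := hu
  have hleft : IsPullback (pullback.lift h (f ≫ j) hw) f (pullback.snd g k) j := by
    refine IsPullback.of_right ?_ (pullback.lift_snd _ _ _) (IsPullback.of_hasPullback g k)
    rw [pullback.lift_fst, hjk]
    exact hc
  refine ⟨firstOrder_of_isPullback hj hleft, pullback.lift_fst _ _ _, ?_⟩
  intro T T' t b a ht w
  have w' : t ≫ (b ≫ g) = (a ≫ f) ≫ h' := by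
    rw [← Category.assoc, w, Category.assoc, Category.assoc, hc.w]
  obtain ⟨c, ⟨hc1, hc2⟩, hcu⟩ := huniv T T' t (b ≫ g) (a ≫ f) ht w'
  refine ⟨pullback.lift b c hc2.symm, ⟨?_, pullback.lift_fst _ _ _⟩, ?_⟩
  · apply pullback.hom_ext
    · rw [Category.assoc, pullback.lift_fst, Category.assoc, pullback.lift_fst, w]
    · rw [Category.assoc, pullback.lift_snd, Category.assoc, pullback.lift_snd, hc1, Category.assoc]
  · rintro a'' ⟨h1, h2⟩
    have h3 : a'' ≫ pullback.snd g k = c := by
      apply hcu
      constructor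
      · rw [← Category.assoc, h1, Category.assoc, pullback.lift_snd, Category.assoc]
      · rw [Category.assoc, ← pullback.condition, ← Category.assoc, h2]
    apply pullback.hom_ext
    · rw [h2, pullback.lift_fst]
    · rw [h3, pullback.lift_snd]

end Groth.Agent.Lead.UnivThick2
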