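import Mathlib
import Groth.Prelude.Def_Omega3
import Groth.Agent.Lead.UnivThick2

set_option autoImplicit false
universe u
open CategoryTheory CategoryTheory.Limits AlgebraicGeometry TopologicalSpace

namespace Groth.Agent.Lead.UnivThick3

theorem resLE_congr_hom {Z X : Scheme.{u}} (a b : Z ⟶ X) (hab : a = b) (U : X.Opens) (V : Z.Opens)
    (e1 : V ≤ a ⁻¹ᵁ U) (e2 : V ≤ b ⁻¹ᵁ U) : a.resLE U V e1 = b.resLE U V e2 := by
  subst hab; rfl

/-- S9740 -/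
theorem isUnivThickening_restrict_opens {Z Z' X : Scheme.{u}} (h : Z ⟶ X) (i : Z ⟶ Z') (h' : Z' ⟶ X)
    (hu : OmegaSh.IsUnivThickening h i h') (V : Z.Opens) (U : X.Opens) (hVU : V ≤ h ⁻¹ᵁ U)
    (V' : Z'.Opens) (hV' : i ⁻¹ᵁ V' = V) (hV'U : V' ≤ h' ⁻¹ᵁ U) :
    OmegaSh.IsUnivThickening (h.resLE U V hVU) (i.resLE V' V hV'.ge) (h'.resLE U V' hV'U) := by
  subst hV'
  obtain ⟨hi, hcomp, huniv⟩ := hu
  have hpb : IsPullback (i.resLE V' (i ⁻¹ᵁ V') le_rfl) (i ⁻¹ᵁ V').ι V'.ι i := by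
    rw [Scheme.Hom.resLE_eq_morphismRestrict]
    exact isPullback_morphismRestrict i V'
  refine ⟨UnivThick2.firstOrder_of_isPullback hi hpb, ?_, ?_⟩
  · rw [Scheme.Hom.resLE_comp_resLE]
    exact resLE_congr_hom _ _ hcomp _ _ _ _
  · intro T T' t b a ht w
    have w₀ : t ≫ (b ≫ U.ι) = (a ≫ (i ⁻¹ᵁ V').ι) ≫ h := by
      rw [← Category.assoc, w, Category.assoc, Scheme.Hom.resLE_comp_ι, Category.assoc]
    obtain ⟨c, ⟨hc1, hc2⟩, hcu⟩ := huniv T T' t (b ≫ U.ι) (a ≫ (i ⁻¹ᵁ V').ι) ht w₀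
    haveI := ht.1.2
    have hrange : Set.range c ⊆ Set.range V'.ι := by
      rintro _ ⟨y, rfl⟩
      obtain ⟨x, rfl⟩ := t.surjective y
      rw [← Scheme.Hom.comp_apply, hc1, Scheme.Opens.range_ι]
      have hx : ((a x) : (i ⁻¹ᵁ V')).1 ∈ i ⁻¹ᵁ V' := ((a x) : (i ⁻¹ᵁ V')).2
      exact hx
    let a' : T' ⟶ V' := IsOpenImmersion.lift V'.ι c hrange
    have ha' : a' ≫ V'.ι = c := IsOpenImmersion.lift_fac _ _ _
    refine ⟨a', ⟨?_, ?_⟩, ?_⟩
    · rw [← cancel_mono V'.ι, Category.assoc, ha', hc1, Category.assoc, Category.assoc,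
        Scheme.Hom.resLE_comp_ι]
    · rw [← cancel_mono U.ι, Category.assoc, Scheme.Hom.resLE_comp_ι, ← Category.assoc, ha', hc2]
    · rintro a'' ⟨h1, h2⟩
      rw [← cancel_mono V'.ι, ha']
      apply hcu
      constructor
      · rw [← Category.assoc, h1, Category.assoc, Scheme.Hom.resLE_comp_ι, Category.assoc]
      · rw [Category.assoc, ← Scheme.Hom.resLE_comp_ι h' hV'U, ← Category.assoc, h2]

end Groth.Agent.Lead.UnivThick3
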