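import Mathlib
import Groth.Prelude.Def_Omega3
import Groth.Agent.Lead.UnivThick2

set_option autoImplicit false
universe u
open CategoryTheory CategoryTheory.Limits AlgebraicGeometry TopologicalSpace

namespace Groth.Agent.Lead.UnivThick4

/-- if `l ≫ v` has square zero kernel and `v` is a closed immersion, so does `l`. -/
theorem ker_mul_ker_eq_bot_of_comp {Z P Z' : Scheme.{u}} (l : Z ⟶ P) (v : P ⟶ Z')
    [IsClosedImmersion v] [IsClosedImmersion l]
    (h : (l ≫ v).ker * (l ≫ v).ker = ⊥) : l.ker * l.ker = ⊥ := by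
  let U : Z'.affineOpens → P.affineOpens := fun O' => ⟨v ⁻¹ᵁ O'.1, O'.2.preimage v⟩
  have hU : ⨆ O', (U O').1 = ⊤ := by
    change ⨆ O' : Z'.affineOpens, v ⁻¹ᵁ O'.1 = ⊤
    exact v.iSup_preimage_eq_top (iSup_affineOpens_eq_top Z')
  refine Scheme.IdealSheafData.ext_of_iSup_eq_top U hU fun O' => ?_
  rw [Scheme.IdealSheafData.ideal_mul, Pi.mul_apply, Scheme.IdealSheafData.ideal_bot, Pi.bot_apply,
    Scheme.Hom.ker_apply, eq_bot_iff, Ideal.mul_le]
  intro x hx y hy
  rw [RingHom.mem_ker] at hx hy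
  obtain ⟨x', rfl⟩ := v.app_surjective O'.1 O'.2 x
  obtain ⟨y', rfl⟩ := v.app_surjective O'.1 O'.2 y
  have h1 := congrArg (fun I => I.ideal O') h
  simp only [Scheme.IdealSheafData.ideal_mul, Pi.mul_apply, Scheme.IdealSheafData.ideal_bot,
    Pi.bot_apply, Scheme.Hom.ker_apply] at h1
  have hx' : x' ∈ RingHom.ker ((l ≫ v).app O'.1).hom := by
    rw [RingHom.mem_ker, Scheme.Hom.comp_app]
    exact hx
  have hy' : y' ∈ RingHom.ker ((l ≫ v).app O'.1).hom := by
    rw [RingHom.mem_ker, Scheme.Hom.comp_app]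
    exact hy
  have h2 : x' * y' ∈ (⊥ : Ideal Γ(Z', O'.1)) := by
    rw [← h1]
    exact Ideal.mul_mem_mul hx' hy'
  have h3 : x' * y' = 0 := by simpa using h2
  rw [← map_mul, h3, map_zero]
  exact Submodule.zero_mem _

/-- S9741 -/
theorem isUnivThickening_of_comp {Z Y X Z' Y' : Scheme.{u}} (a : Z ⟶ Y) (b : Y ⟶ X)
    (i : Z ⟶ Z') (c : Z' ⟶ X) (hZ : OmegaSh.IsUnivThickening (a ≫ b) i c)
    (j : Y ⟶ Y') (d : Y' ⟶ X) (hY : OmegaSh.IsUnivThickening b j d) :
    ∃ (m : Z' ⟶ Y') (hm : i ≫ m = a ≫ j), m ≫ d = c ∧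
      OmegaSh.IsUnivThickening a (pullback.lift a i hm.symm) (pullback.fst j m) := by
  obtain ⟨hi, hic, hZu⟩ := hZ
  obtain ⟨hj, hjd, hYu⟩ := hY
  obtain ⟨m, ⟨hm, hmd⟩, -⟩ := hYu Z Z' i c a hi hic
  refine ⟨m, hm, hmd, ?_, pullback.lift_fst _ _ _, ?_⟩
  · -- first order thickening
    haveI := hi.1.1
    haveI := hi.1.2
    haveI := hj.1.1
    haveI : IsClosedImmersion (pullback.snd j m) :=
      MorphismProperty.pullback_snd (P := @IsClosedImmersion) j m inferInstance
    have hls : pullback.lift a i hm.symm ≫ pullback.snd j m = i := pullback.lift_snd _ _ _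
    haveI : IsClosedImmersion (pullback.lift a i hm.symm ≫ pullback.snd j m) := by
      rw [hls]; infer_instance
    haveI : IsClosedImmersion (pullback.lift a i hm.symm) :=
      IsClosedImmersion.of_comp_isClosedImmersion _ (pullback.snd j m)
    refine ⟨⟨inferInstance, ⟨?_⟩⟩, ?_⟩
    · intro p
      obtain ⟨z, hz⟩ := i.surjective (pullback.snd j m p)
      refine ⟨z, ?_⟩
      apply (pullback.snd j m).isClosedEmbedding.injective
      rw [← Scheme.Hom.comp_apply, hls, hz]
    · apply ker_mul_ker_eq_bot_of_comp _ (pullback.snd j m)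
      rw [hls]
      exact hi.2
  · intro T T' t β α ht w
    have w1 : t ≫ (β ≫ b) = α ≫ a ≫ b := by
      rw [← Category.assoc, w, Category.assoc]
    obtain ⟨γ, ⟨hγ1, hγ2⟩, hγu⟩ := hZu T T' t (β ≫ b) α ht w1
    have w2 : t ≫ (β ≫ b) = (α ≫ a) ≫ b := by rw [w1, Category.assoc]
    obtain ⟨δ, -, hδu⟩ := hYu T T' t (β ≫ b) (α ≫ a) ht w2
    have e1 : β ≫ j = δ := by
      apply hδu
      constructor
      · rw [← Category.assoc, w]
      · rw [Category.assoc, hjd]
    have e2 : γ ≫ m = δ := by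
      apply hδu
      constructor
      · rw [← Category.assoc, hγ1, Category.assoc, hm, Category.assoc]
      · rw [Category.assoc, hmd, hγ2]
    refine ⟨pullback.lift β γ (e1.trans e2.symm), ⟨?_, pullback.lift_fst _ _ _⟩, ?_⟩
    · apply pullback.hom_ext
      · rw [Category.assoc, pullback.lift_fst, Category.assoc, pullback.lift_fst, w]
      · rw [Category.assoc, pullback.lift_snd, Category.assoc, pullback.lift_snd, hγ1]
    · rintro a'' ⟨h1, h2⟩
      have h3 : a'' ≫ pullback.snd j m = γ := by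
        apply hγu
        constructor
        · rw [← Category.assoc, h1, Category.assoc, pullback.lift_snd]
        · rw [← hmd, Category.assoc, ← Category.assoc (pullback.snd j m), ← pullback.condition,
            Category.assoc, hjd, ← Category.assoc, h2]
      apply pullback.hom_ext
      · rw [h2, pullback.lift_fst]
      · rw [h3, pullback.lift_snd]

end Groth.Agent.Lead.UnivThick4
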