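import Groth.Agent.Lead.FEtLift2
import Groth.Agent.Lead.UnivThick
import Groth.Agent.Lead.OmegaCnF
import Mathlib

set_option autoImplicit false
set_option backward.isDefEq.respectTransparency false
set_option backward.isDefEq.respectTransparency.types false
open CategoryTheory CategoryTheory.Limits AlgebraicGeometry Opposite TopologicalSpace
universe u

namespace Groth.Agent.Lead.UnivThick5

open OmegaSh Groth.Agent.Lead

variable {X S : Scheme.{u}} (f : X ⟶ S)

theorem isFirstOrderThickening_id : MoreMor.IsFirstOrderThickening (𝟙 X) := by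
  refine ⟨⟨inferInstance, inferInstance⟩, ?_⟩
  rw [Scheme.Hom.ker_eq_bot_of_isIso]
  apply Scheme.IdealSheafData.ext
  funext U
  rw [Scheme.IdealSheafData.ideal_mul, Pi.mul_apply, Scheme.IdealSheafData.ideal_bot, Pi.bot_apply]
  exact Ideal.bot_mul _

/-- formally etale ⇒ `X` is its own universal thickening -/
theorem isUnivThickening_id_of_formallyEtale (hf : MoreMor.IsFormallyEtaleHom f) :
    IsUnivThickening f (𝟙 X) f := by
  refine ⟨isFirstOrderThickening_id, Category.id_comp f, ?_⟩
  intro T T' j b a hj w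
  have := FEtLift.exists_unique_lift f ((FEtLift.isFormallyEtaleHom_iff f).mp hf) j hj a b w
  simpa only [Category.comp_id] using this

theorem formallyUnramified_of_formallyEtale (hf : MoreMor.IsFormallyEtaleHom f) :
    FormallyUnramified f := by
  refine ⟨fun {U} hU {V} hV e => ?_⟩
  have h := (FEtLift.isFormallyEtaleHom_iff f).mp hf V U hV hU e
  letI := (f.appLE U V e).hom.toAlgebra
  change Algebra.FormallyUnramified Γ(S, U) Γ(X, V)
  haveI : Algebra.FormallyEtale Γ(S, U) Γ(X, V) := h
  infer_instance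

theorem formallyEtale_of_isUnivThickening_id (hu : IsUnivThickening f (𝟙 X) f) :
    MoreMor.IsFormallyEtaleHom f := by
  intro A _ I hI a b comm
  have := hu.2.2 _ _ _ b a (FEtLift.isFirstOrderThickening_specMap_mk I hI) comm
  simpa only [Category.comp_id] using this

/-- formally etale iff own universal thickening, given an iso thickening -/
theorem formallyEtale_of_isIso {X' : Scheme.{u}} (i : X ⟶ X') (h' : X' ⟶ S) [IsIso i]
    (hu : IsUnivThickening f i h') : MoreMor.IsFormallyEtaleHom f := by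
  intro A _ I hI a b comm
  obtain ⟨a', ⟨h1, h2⟩, huniq⟩ :=
    hu.2.2 _ _ _ b a (FEtLift.isFirstOrderThickening_specMap_mk I hI) comm
  have hif : inv i ≫ f = h' := by
    rw [IsIso.inv_comp_eq]; exact hu.2.1.symm
  refine ⟨a' ≫ inv i, ⟨?_, ?_⟩, ?_⟩
  · rw [← Category.assoc, h1, Category.assoc, IsIso.hom_inv_id, Category.comp_id]
  · rw [Category.assoc, hif, h2]
  · intro l ⟨hl1, hl2⟩
    have := huniq (l ≫ i) ⟨by rw [← Category.assoc, hl1], by
      rw [Category.assoc, hu.2.1, hl2]⟩
    rw [← this, Category.assoc, IsIso.hom_inv_id, Category.comp_id]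

theorem isIso_of_two_univ {X' : Scheme.{u}} (i : X ⟶ X') (h' : X' ⟶ S)
    (hu : IsUnivThickening f i h') (hu₀ : IsUnivThickening f (𝟙 X) f) : IsIso i := by
  obtain ⟨a', ⟨h1, h2⟩, -⟩ := hu₀.2.2 X X' i h' (𝟙 X) hu.1 (by rw [hu.2.1, Category.id_comp])
  rw [Category.comp_id] at h1
  obtain ⟨c, -, hc⟩ := hu.2.2 X X' i h' (𝟙 X) hu.1 (by rw [hu.2.1, Category.id_comp])
  have e1 : a' ≫ i = c := hc (a' ≫ i) ⟨by rw [← Category.assoc, h1], by
    rw [Category.assoc, hu.2.1, h2]⟩
  have e2 : 𝟙 X' = c := hc (𝟙 X') ⟨by rw [Category.comp_id, Category.id_comp], Category.id_comp h'⟩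
  exact ⟨a', h1, e1.trans e2.symm⟩

theorem sections_eq_zero_of_isZero {Y : Scheme.{u}} {M : Y.Modules} (hM : IsZero M) (U : Y.Opens)
    (m : Γ(M, U)) : m = 0 := by
  have h1 : (𝟙 M : M ⟶ M) = 0 := hM.eq_of_src _ _
  have h2 : (𝟙 M : M ⟶ M).app U m = (0 : M ⟶ M).app U m := by rw [h1]
  exact h2

theorem isIso_of_isZero_conormal {X' : Scheme.{u}} (i : X ⟶ X')
    (hi : MoreMor.IsFirstOrderThickening i) (h0 : IsZero (Omega.conormal i)) : IsIso i := by
  obtain ⟨⟨hci, -⟩, hsq⟩ := hi
  rw [IsClosedImmersion.isIso_iff_ker_eq_bot]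
  apply Scheme.IdealSheafData.ext
  funext U
  rw [Scheme.IdealSheafData.ideal_bot, Pi.bot_apply, eq_bot_iff]
  intro s hs
  obtain ⟨σ, hσ⟩ := (IdealModDict.exists_section_iff i.ker U s).mpr hs
  have h1 : conormalSect i U.1 σ = 0 := sections_eq_zero_of_isZero h0 _ _
  have h2 := OmegaCnF.idealSect_mem_sq i U.2 (U.2.preimage i) (i.app_surjective U.1 U.2) σ h1
  have h3 : (RingHom.ker (i.app U.1).hom) ^ 2 = ⊥ := by
    have := congrArg (fun I => I.ideal U) hsq
    simp only [Scheme.IdealSheafData.ideal_mul, Pi.mul_apply, Scheme.IdealSheafData.ideal_bot,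
      Pi.bot_apply, Scheme.Hom.ker_apply] at this
    rw [pow_two]; exact this
  rw [h3] at h2
  have h4 : idealSect i.ker U.1 σ = s := hσ
  rw [h4] at h2
  exact h2

theorem isZero_conormal_of_isIso {X' : Scheme.{u}} (i : X ⟶ X') [IsIso i] :
    IsZero (Omega.conormal i) := by
  rw [IsZero.iff_id_eq_zero]
  apply OmegaCnB.pullback_hom_ext'
  intro U m
  have hm : m = 0 := by
    apply OmegaCnC.idealSect_injective i U
    rw [map_zero]
    have h1 : i.app U (idealSect i.ker U m) = 0 := OmegaCnF.app_idealSect_general i U m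
    have hinj : Function.Injective (i.app U) :=
      ((ConcreteCategory.isIso_iff_bijective _).mp inferInstance).1
    apply hinj
    rw [h1, map_zero]
  rw [hm, map_zero, map_zero, map_zero]

end Groth.Agent.Lead.UnivThick5
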