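import Groth.Agent.Lead.UnivThick6
import Groth.Agent.Lead.OmegaSeqC
import Groth.Agent.S9427
import Mathlib

set_option autoImplicit false
set_option backward.isDefEq.respectTransparency false
set_option backward.isDefEq.respectTransparency.types false
open CategoryTheory CategoryTheory.Limits AlgebraicGeometry Opposite TopologicalSpace TensorProduct
universe u

namespace Groth.Agent.Lead.UnivThick7

open Scheme.Modules OmegaSh Groth.Agent.Lead Groth.Agent.Helper4 Groth.Agent.Lead.BCMap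

section Algebra

theorem bijective_of_isBaseChange {B' B M₀ N₀ PM PN : Type u} [CommRing B'] [CommRing B]
    [Algebra B' B] [AddCommGroup M₀] [Module B' M₀] [AddCommGroup N₀] [Module B' N₀]
    [AddCommGroup PM] [Module B' PM] [Module B PM] [IsScalarTower B' B PM]
    [AddCommGroup PN] [Module B' PN] [Module B PN] [IsScalarTower B' B PN]
    (φ₀ : M₀ →ₗ[B'] N₀) (ρM : M₀ →ₗ[B'] PM) (hM : IsBaseChange B ρM)
    (ρN : N₀ →ₗ[B'] PN) (hN : IsBaseChange B ρN) (ψ : PM →ₗ[B] PN)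
    (h : ∀ m, ψ (ρM m) = ρN (φ₀ m)) (hbij : Function.Bijective (φ₀.baseChange B)) :
    Function.Bijective ψ := by
  have key : ∀ z : B ⊗[B'] M₀, ψ (hM.equiv z) = hN.equiv (φ₀.baseChange B z) := by
    intro z
    induction z using TensorProduct.induction_on with
    | zero => simp
    | add x y hx hy => rw [map_add, map_add, hx, hy, map_add, map_add]
    | tmul b m =>
      rw [IsBaseChange.equiv_tmul, LinearMap.baseChange_tmul, IsBaseChange.equiv_tmul,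
        _root_.map_smul, h]
  constructor
  · intro a b hab
    obtain ⟨a, rfl⟩ := hM.equiv.surjective a
    obtain ⟨b, rfl⟩ := hM.equiv.surjective b
    rw [key, key] at hab
    rw [hbij.1 (hN.equiv.injective hab)]
  · intro p
    obtain ⟨z, hz⟩ := hbij.2 (hN.equiv.symm p)
    refine ⟨hM.equiv z, ?_⟩
    rw [key, hz, LinearEquiv.apply_symm_apply]

end Algebra

section Main
variable {Z X S Z' : Scheme.{u}} (q : X ⟶ S) (i : Z ⟶ Z') (h' : Z' ⟶ X)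

theorem main [FormallyUnramified (i ≫ h')] (hu : OmegaSh.IsUnivThickening (i ≫ h') i h')
    (ΩX : X.Modules) (dX : OmegaSh.Der q ΩX) (hdX : OmegaSh.IsUniversal dX)
    (ΩZ' : Z'.Modules) (dZ' : OmegaSh.Der (h' ≫ q) ΩZ') (hdZ' : OmegaSh.IsUniversal dZ')
    (c : (Scheme.Modules.pullback h').obj ΩX ⟶ ΩZ') (hc : OmegaSh.IsDiffCompat h' dX dZ' c) :
    IsIso ((Scheme.Modules.pullback i).map c) := by
  haveI := OmegaLocB.isQuasicoherent_of_isUniversal q dX hdX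
  haveI := OmegaLocB.isQuasicoherent_of_isUniversal (h' ≫ q) dZ' hdZ'
  haveI := StalkPull.isQuasicoherent_pullbackObj h' ΩX
  haveI := StalkPull.isQuasicoherent_pullbackObj i ((Scheme.Modules.pullback h').obj ΩX)
  haveI := StalkPull.isQuasicoherent_pullbackObj i ΩZ'
  haveI : IsClosedImmersion i := hu.1.1.1
  apply QcohLocal.isIso_of_app_bijective_of_affine_cover
  intro z
  obtain ⟨V', U, W, hV', hU, hW, hzV', -, e₁, e₂⟩ :=
    OmegaSeqA.exists_affine_triple h' q (i z) ⊤ trivial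
  have hV : IsAffineOpen (i ⁻¹ᵁ V') := hV'.preimage i
  refine ⟨i ⁻¹ᵁ V', hV, hzV', ?_⟩
  have e₃ : V' ≤ (h' ≫ q) ⁻¹ᵁ W := fun y hy => e₂ (e₁ hy)
  have e₄ : i ⁻¹ᵁ V' ≤ (i ≫ h') ⁻¹ᵁ U := UnivThick6.preimage_le (i ≫ h') i h' rfl e₁
  letI algRA := (q.appLE W U e₂).hom.toAlgebra
  letI algAB' := (h'.appLE U V' e₁).hom.toAlgebra
  letI algRB' := ((h' ≫ q).appLE W V' e₃).hom.toAlgebra
  letI algB'B := (i.appLE V' (i ⁻¹ᵁ V') le_rfl).hom.toAlgebra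
  letI algAB := ((i ≫ h').appLE U (i ⁻¹ᵁ V') e₄).hom.toAlgebra
  haveI t1 : IsScalarTower Γ(S, W) Γ(X, U) Γ(Z', V') := IsScalarTower.of_algebraMap_eq' (by
    change ((h' ≫ q).appLE W V' e₃).hom = (h'.appLE U V' e₁).hom.comp (q.appLE W U e₂).hom
    rw [← CommRingCat.hom_comp, Scheme.Hom.appLE_comp_appLE])
  haveI t2 : IsScalarTower Γ(X, U) Γ(Z', V') Γ(Z, i ⁻¹ᵁ V') := IsScalarTower.of_algebraMap_eq' (by
    change ((i ≫ h').appLE U (i ⁻¹ᵁ V') e₄).hom =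
      (i.appLE V' (i ⁻¹ᵁ V') le_rfl).hom.comp (h'.appLE U V' e₁).hom
    rw [← CommRingCat.hom_comp, Scheme.Hom.appLE_comp_appLE])
  haveI : Algebra.FormallyUnramified Γ(X, U) Γ(Z, i ⁻¹ᵁ V') :=
    FormallyUnramified.formallyUnramified_appLE (i ≫ h') hU hV e₄
  have hK := UnivThick6.isUnivThickeningRing_of_chart (i ≫ h') i h' hu hU hV' e₁
    (IsScalarTower.toAlgHom Γ(X, U) Γ(Z', V') Γ(Z, i ⁻¹ᵁ V')) (fun x => by
      change (i.appLE V' (i ⁻¹ᵁ V') le_rfl) x = _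
      rw [Scheme.Hom.app_eq_appLE])
  have hbij := (Groth.Agent.S9427.result Γ(S, W) Γ(X, U) Γ(Z, i ⁻¹ᵁ V') Γ(Z', V') hK).2
  obtain ⟨εX, hεX⟩ := OmegaLocC.exists_sectionsEquiv q dX hdX hU hW e₂
  obtain ⟨εZ', hεZ'⟩ := OmegaLocC.exists_sectionsEquiv (h' ≫ q) dZ' hdZ' hV' hW e₃
  letI : Module Γ(X, U) Γ((Scheme.Modules.pullback h').obj ΩX, V') :=
    Module.compHom _ (h'.appLE U V' e₁).hom
  haveI : IsScalarTower Γ(X, U) Γ(Z', V') Γ((Scheme.Modules.pullback h').obj ΩX, V') :=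
    IsScalarTower.of_compHom _ _ _
  obtain ⟨ρ₁, hb₁, hρ₁⟩ := OmegaSeqC.exists_rho h' dX dZ' c hc hU hV' e₁
  have hb₁' : IsBaseChange Γ(Z', V') (ρ₁ ∘ₗ εX.symm.toLinearMap) :=
    IsBaseChange.comp_equiv εX.symm ρ₁ hb₁
  let L : Γ((Scheme.Modules.pullback h').obj ΩX, V') →ₗ[Γ(Z', V')] Ω[Γ(Z', V')⁄Γ(S, W)] :=
    εZ'.toLinearMap ∘ₗ OmegaSeqA.appLin c V'
  have hL : ∀ m₀ : Γ(Z', V') ⊗[Γ(X, U)] Ω[Γ(X, U)⁄Γ(S, W)],
      L (hb₁'.equiv m₀) = KaehlerDifferential.mapBaseChange Γ(S, W) Γ(X, U) Γ(Z', V') m₀ :=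
    OmegaSeqC.comp_equiv_eq (ρ₁ ∘ₗ εX.symm.toLinearMap) hb₁' L
      (KaehlerDifferential.mapBaseChange Γ(S, W) Γ(X, U) Γ(Z', V'))
      (Set.range (KaehlerDifferential.D Γ(S, W) Γ(X, U)))
      (KaehlerDifferential.span_range_derivation _ _) (by
        rintro _ ⟨s, rfl⟩
        change εZ' (c.app V' (ρ₁ (εX.symm (KaehlerDifferential.D Γ(S, W) Γ(X, U) s)))) = _
        rw [← hεX s, LinearEquiv.symm_apply_apply, hρ₁, hεZ',
          KaehlerDifferential.mapBaseChange_tmul, one_smul, hεX, KaehlerDifferential.map_D]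
        rfl)
  -- base change along `i`
  letI mM : Module Γ(Z', V')
      Γ((Scheme.Modules.pullback i).obj ((Scheme.Modules.pullback h').obj ΩX), i ⁻¹ᵁ V') :=
    Module.compHom _ (i.appLE V' (i ⁻¹ᵁ V') le_rfl).hom
  haveI : IsScalarTower Γ(Z', V') Γ(Z, i ⁻¹ᵁ V')
      Γ((Scheme.Modules.pullback i).obj ((Scheme.Modules.pullback h').obj ΩX), i ⁻¹ᵁ V') :=
    IsScalarTower.of_compHom _ _ _
  letI mN : Module Γ(Z', V') Γ((Scheme.Modules.pullback i).obj ΩZ', i ⁻¹ᵁ V') :=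
    Module.compHom _ (i.appLE V' (i ⁻¹ᵁ V') le_rfl).hom
  haveI : IsScalarTower Γ(Z', V') Γ(Z, i ⁻¹ᵁ V')
      Γ((Scheme.Modules.pullback i).obj ΩZ', i ⁻¹ᵁ V') :=
    IsScalarTower.of_compHom _ _ _
  obtain ⟨ρM, hρM, hbM⟩ := exists_isBaseChange_pbSec i ((Scheme.Modules.pullback h').obj ΩX)
    hV' hV le_rfl
  obtain ⟨ρN, hρN, hbN⟩ := exists_isBaseChange_pbSec i ΩZ' hV' hV le_rfl
  have hbM' : IsBaseChange Γ(Z, i ⁻¹ᵁ V') (ρM ∘ₗ hb₁'.equiv.toLinearMap) :=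
    IsBaseChange.comp_equiv hb₁'.equiv ρM hbM
  have hbN' : IsBaseChange Γ(Z, i ⁻¹ᵁ V') (ρN ∘ₗ εZ'.symm.toLinearMap) :=
    IsBaseChange.comp_equiv εZ'.symm ρN hbN
  exact bijective_of_isBaseChange
    (KaehlerDifferential.mapBaseChange Γ(S, W) Γ(X, U) Γ(Z', V'))
    (ρM ∘ₗ hb₁'.equiv.toLinearMap) hbM' (ρN ∘ₗ εZ'.symm.toLinearMap) hbN'
    (OmegaSeqA.appLin ((Scheme.Modules.pullback i).map c) (i ⁻¹ᵁ V')) (fun m₀ => by
      change ((Scheme.Modules.pullback i).map c).app (i ⁻¹ᵁ V') (ρM (hb₁'.equiv m₀)) =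
        ρN (εZ'.symm (KaehlerDifferential.mapBaseChange Γ(S, W) Γ(X, U) Γ(Z', V') m₀))
      rw [hρM, hρN, ← pbSec_naturality, ← hL m₀]
      change _ = pbSec i ΩZ' V' (i ⁻¹ᵁ V') le_rfl (εZ'.symm (εZ' (c.app V' (hb₁'.equiv m₀))))
      rw [LinearEquiv.symm_apply_apply]) hbij

end Main

end Groth.Agent.Lead.UnivThick7
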