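import Groth.Agent.Lead.UnivThick5
import Groth.Agent.S1434
import Mathlib

set_option autoImplicit false
set_option backward.isDefEq.respectTransparency false
set_option backward.isDefEq.respectTransparency.types false
open CategoryTheory CategoryTheory.Limits AlgebraicGeometry Opposite TopologicalSpace
universe u

namespace Groth.Agent.Lead.UnivThick8

open OmegaSh Groth.Agent.Lead

/-- a closed immersion whose sectionwise kernels have square zero on a basis-like family has
square-zero kernel ideal sheaf -/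
theorem ker_mul_ker_eq_bot {Y Y' : Scheme.{u}} (j : Y ⟶ Y') [IsClosedImmersion j]
    (H : ∀ (y : Y') (O : Y'.Opens), y ∈ O → ∃ P : Y'.Opens, y ∈ P ∧ P ≤ O ∧
      ∀ r s : Γ(Y', P), j.app P r = 0 → j.app P s = 0 → r * s = 0) :
    j.ker * j.ker = ⊥ := by
  rw [eq_bot_iff, Scheme.IdealSheafData.le_def]
  intro O
  rw [Scheme.IdealSheafData.ideal_mul, Pi.mul_apply, Scheme.IdealSheafData.ideal_bot,
    Scheme.Hom.ker_apply, Ideal.mul_le]
  intro r hr s hs
  rw [RingHom.mem_ker] at hr hs
  change r * s = 0
  choose P hyP hPO hP using fun (y : O.1) => H y.1 O.1 y.2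
  apply TopCat.Sheaf.eq_of_locally_eq' Y'.sheaf (fun y : O.1 => P y) O.1 (fun y => homOfLE (hPO y))
  · intro x hx
    exact TopologicalSpace.Opens.mem_iSup.mpr ⟨⟨x, hx⟩, hyP ⟨x, hx⟩⟩
  · intro y
    change Y'.presheaf.map (homOfLE (hPO y)).op (r * s) = Y'.presheaf.map (homOfLE (hPO y)).op 0
    rw [map_zero, map_mul]
    apply hP y
    · have := congr($(j.naturality (homOfLE (hPO y)).op) r)
      simp only [CommRingCat.comp_apply] at this
      refine this.trans ?_
      change (Y.presheaf.map _) ((j.app O.1) r) = 0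
      rw [hr, map_zero]
    · have := congr($(j.naturality (homOfLE (hPO y)).op) s)
      simp only [CommRingCat.comp_apply] at this
      refine this.trans ?_
      change (Y.presheaf.map _) ((j.app O.1) s) = 0
      rw [hs, map_zero]

theorem isFirstOrderThickening_inclusion {X : Scheme.{u}} (I : X.IdealSheafData)
    (h : I ^ 2 ≤ I) : MoreMor.IsFirstOrderThickening (Scheme.IdealSheafData.inclusion h) := by
  have hfac := Scheme.IdealSheafData.inclusion_subschemeι h
  haveI : IsClosedImmersion (Scheme.IdealSheafData.inclusion h ≫ (I ^ 2).subschemeι) := by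
    rw [hfac]; infer_instance
  haveI : IsClosedImmersion (Scheme.IdealSheafData.inclusion h) :=
    IsClosedImmersion.of_comp (Scheme.IdealSheafData.inclusion h) (I ^ 2).subschemeι
  refine ⟨⟨inferInstance, ⟨?_⟩⟩, ?_⟩
  · intro y
    have h1 : (I ^ 2).subschemeι y ∈ Set.range I.subschemeι := by
      rw [Scheme.IdealSheafData.range_subschemeι]
      have : (I ^ 2).subschemeι y ∈ Set.range (I ^ 2).subschemeι := ⟨y, rfl⟩
      rw [Scheme.IdealSheafData.range_subschemeι] at this
      exact this
    obtain ⟨z, hz⟩ := h1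
    refine ⟨z, ?_⟩
    apply (I ^ 2).subschemeι.isClosedEmbedding.injective
    rw [← Scheme.Hom.comp_apply, hfac, hz]
  · apply ker_mul_ker_eq_bot
    intro y O hy
    obtain ⟨O', hO', hOO'⟩ := (I ^ 2).subschemeι.isClosedEmbedding.isInducing.isOpen_iff.mp O.2
    have hy' : (I ^ 2).subschemeι y ∈ O' := by
      have : y ∈ (I ^ 2).subschemeι ⁻¹' O' := by rw [hOO']; exact hy
      exact this
    obtain ⟨_, ⟨W, hW, rfl⟩, hyW, hWO'⟩ :=
      X.isBasis_affineOpens.exists_subset_of_mem_open hy' hO'
    refine ⟨(I ^ 2).subschemeι ⁻¹ᵁ W, hyW, ?_, ?_⟩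
    · intro x hx
      have : x ∈ (I ^ 2).subschemeι ⁻¹' O' := hWO' hx
      rw [hOO'] at this
      exact this
    · intro r s hr hs
      obtain ⟨r', rfl⟩ := (I ^ 2).subschemeι.app_surjective W hW r
      obtain ⟨s', rfl⟩ := (I ^ 2).subschemeι.app_surjective W hW s
      have key : ∀ r' : Γ(X, W),
          (Scheme.IdealSheafData.inclusion h).app ((I ^ 2).subschemeι ⁻¹ᵁ W)
            ((I ^ 2).subschemeι.app W r') = 0 → r' ∈ I.ideal ⟨W, hW⟩ := by
        intro r' hr'
        rw [← Scheme.IdealSheafData.ker_subschemeι_app, RingHom.mem_ker]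
        have h2 := Scheme.Hom.congr_app hfac W
        rw [Scheme.Hom.comp_app] at h2
        have h3 := congr($(h2) r')
        simp only [CommRingCat.comp_apply] at h3
        have hinj := (ConcreteCategory.bijective_of_isIso
          (I.subscheme.presheaf.map (eqToHom (by rw [hfac]) :
            (Scheme.IdealSheafData.inclusion h ≫ (I ^ 2).subschemeι) ⁻¹ᵁ W ⟶
              I.subschemeι ⁻¹ᵁ W).op)).1
        apply hinj
        refine Eq.trans ?_ (map_zero _).symm
        refine h3.symm.trans ?_
        exact hr'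
      have hmem : r' * s' ∈ (I ^ 2).ideal ⟨W, hW⟩ := by
        rw [Scheme.IdealSheafData.ideal_pow, Pi.pow_apply, pow_two]
        exact Ideal.mul_mem_mul (key r' hr) (key s' hs)
      rw [← Scheme.IdealSheafData.ker_subschemeι_app, RingHom.mem_ker] at hmem
      rw [← map_mul]
      exact hmem

/-- a morphism out of a thickening whose restriction to the thin part lands in an open lands in
that open -/
theorem range_subset_of_thickening {T T' X : Scheme.{u}} (t : T ⟶ T') (ht : Function.Surjective t)
    (b : T' ⟶ X) (U : X.Opens) (h : ∀ x : T, b (t x) ∈ U) : Set.range b ⊆ Set.range U.ι := by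
  rintro _ ⟨x', rfl⟩
  obtain ⟨x, rfl⟩ := ht x'
  rw [Scheme.Opens.range_ι]
  exact h x

theorem main {X : Scheme.{u}} (U : X.Opens) (I : (U : Scheme.{u}).IdealSheafData)
    (h : I ^ 2 ≤ I) :
    OmegaSh.IsUnivThickening (I.subschemeι ≫ U.ι) (Scheme.IdealSheafData.inclusion h)
      ((I ^ 2).subschemeι ≫ U.ι) := by
  refine ⟨isFirstOrderThickening_inclusion I h, ?_, ?_⟩
  · rw [← Category.assoc, Scheme.IdealSheafData.inclusion_subschemeι]
  · intro T T' j b a hj w
    have hsurj : Function.Surjective j := hj.1.2.surj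
    have hrange : Set.range b ⊆ Set.range U.ι := by
      apply range_subset_of_thickening j hsurj b U
      intro x
      rw [← Scheme.Hom.comp_apply, w, Scheme.Hom.comp_apply, Scheme.Hom.comp_apply]
      exact (I.subschemeι (a x)).2
    let b₀ : T' ⟶ (U : Scheme.{u}) := IsOpenImmersion.lift U.ι b hrange
    have hb₀ : b₀ ≫ U.ι = b := IsOpenImmersion.lift_fac _ _ _
    have w₀ : a ≫ I.subschemeι = j ≫ b₀ := by
      rw [← cancel_mono U.ι, Category.assoc, Category.assoc, hb₀, w]
    obtain ⟨a', ha', huniq⟩ := Groth.Agent.S1434.result I j hj a b₀ w₀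
    refine ⟨a', ⟨?_, ?_⟩, ?_⟩
    · rw [← cancel_mono (I ^ 2).subschemeι, Category.assoc, ha', Category.assoc,
        Scheme.IdealSheafData.inclusion_subschemeι, w₀]
    · rw [← Category.assoc, ha', hb₀]
    · rintro a'' ⟨-, h2⟩
      apply huniq
      rw [← cancel_mono U.ι, Category.assoc, h2, hb₀]

end Groth.Agent.Lead.UnivThick8
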