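import Mathlib

/-! # Morphisms into an unramified scheme agreeing at a point agree near it -/

namespace Groth.Agent.Lead
open AlgebraicGeometry CategoryTheory Limits

universe u

theorem eq_on_nhd {X Y S : Scheme.{u}} (p : Y ⟶ S) [FormallyUnramified p] [LocallyOfFiniteType p] (f g : X ⟶ Y) (hfg : f ≫ p = g ≫ p)
    (x : X) (h1 : f x = g x) (h2 : f.residueFieldMap x = (Y.residueFieldCongr h1).hom ≫ g.residueFieldMap x) :
    ∃ U : X.Opens, x ∈ U ∧ U.ι ≫ f = U.ι ≫ g := by
  -- the morphism into the fibre product
  let φ : X ⟶ pullback p p := pullback.lift f g hfg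
  have hΔ : IsOpenImmersion (pullback.diagonal p) := inferInstance
  let W : (pullback p p).Opens := (pullback.diagonal p).opensRange
  let U : X.Opens := φ ⁻¹ᵁ W
  -- the key: Spec κ(x) ⟶ X equalizes f and g
  have key : X.fromSpecResidueField x ≫ f = X.fromSpecResidueField x ≫ g := by
    rw [← Scheme.Hom.SpecMap_residueFieldMap_fromSpecResidueField,
      ← Scheme.Hom.SpecMap_residueFieldMap_fromSpecResidueField, h2, Spec.map_comp,
      Category.assoc, Scheme.residueFieldCongr_fromSpecResidueField]
  have hx : x ∈ U := by
    show φ x ∈ Set.range (pullback.diagonal p)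
    have hpt : Nonempty (Spec (X.residueField x)) := inferInstance
    obtain ⟨t⟩ := hpt
    have e1 : X.fromSpecResidueField x ≫ φ =
        (X.fromSpecResidueField x ≫ f) ≫ pullback.diagonal p := by
      apply pullback.hom_ext
      · simp only [φ, Category.assoc, pullback.diagonal_fst, Category.comp_id]
        rw [pullback.lift_fst]
      · simp only [φ, Category.assoc, pullback.diagonal_snd, Category.comp_id]
        rw [pullback.lift_snd, key]
    have e2 : φ x = pullback.diagonal p ((X.fromSpecResidueField x ≫ f) t) := by
      have := congrArg (fun ψ : Spec (X.residueField x) ⟶ pullback p p => ψ t) e1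
      simpa using this
    exact ⟨_, e2.symm⟩
  refine ⟨U, hx, ?_⟩
  -- on U, φ factors through the diagonal
  have hU : Set.range (U.ι ≫ φ) ⊆ Set.range (pullback.diagonal p) := by
    rintro _ ⟨y, rfl⟩
    exact y.2
  let ψ : (U : Scheme) ⟶ Y := IsOpenImmersion.lift (pullback.diagonal p) (U.ι ≫ φ) hU
  have hψ : ψ ≫ pullback.diagonal p = U.ι ≫ φ := IsOpenImmersion.lift_fac _ _ _
  have e3 : U.ι ≫ f = ψ := by
    have := congrArg (· ≫ pullback.fst p p) hψ
    simp only [φ, Category.assoc, pullback.diagonal_fst, Category.comp_id] at this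
    rw [pullback.lift_fst] at this
    exact this.symm
  have e4 : U.ι ≫ g = ψ := by
    have := congrArg (· ≫ pullback.snd p p) hψ
    simp only [φ, Category.assoc, pullback.diagonal_snd, Category.comp_id] at this
    rw [pullback.lift_snd] at this
    exact this.symm
  rw [e3, e4]

end Groth.Agent.Lead
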