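import Mathlib

set_option autoImplicit false
universe w u
open CategoryTheory CategoryTheory.Limits AlgebraicGeometry Opposite

namespace Groth.Agent.Lead.ZarLocal

theorem zariski_ofArrows_mem {X : Scheme.{u}} {ι : Type*} (Y : ι → Scheme.{u}) (f : ∀ i, Y i ⟶ X)
    [∀ i, IsOpenImmersion (f i)] (hcov : ∀ x : X, ∃ i y, f i y = x) :
    Sieve.ofArrows Y f ∈ Scheme.zariskiTopology X :=
  (Scheme.Cover.mkOfCovers (P := @IsOpenImmersion) ι Y f hcov).mem_grothendieckTopology

variable (F : Scheme.{u}ᵒᵖ ⥤ Type w)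

/-- a Zariski sheaf satisfies the sheaf condition for jointly surjective open immersions -/
theorem isSheafFor_ofArrows (hZ : Presieve.IsSheaf Scheme.zariskiTopology F) {X : Scheme.{u}}
    {ι : Type*} (Y : ι → Scheme.{u}) (f : ∀ i, Y i ⟶ X)
    [∀ i, IsOpenImmersion (f i)] (hcov : ∀ x : X, ∃ i y, f i y = x) :
    Presieve.IsSheafFor F (Presieve.ofArrows Y f) := by
  rw [Presieve.isSheafFor_iff_generate]
  exact hZ _ (zariski_ofArrows_mem Y f hcov)

theorem affine_cover (X : Scheme.{u}) :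
    ∀ x : X, ∃ (U : X.affineOpens) (y : (U.1 : Scheme.{u})), U.1.ι y = x := by
  intro x
  obtain ⟨U, hU, hxU, -⟩ := exists_isAffineOpen_mem_and_subset (x := x) (U := ⊤) trivial
  exact ⟨⟨U, hU⟩, ⟨x, hxU⟩, rfl⟩

theorem isAmalgamation_pullback {X Y : Scheme.{u}} (S : Sieve X) (f : Y ⟶ X)
    (x : Presieve.FamilyOfElements F S.arrows) (t : F.obj (op X)) (ht : x.IsAmalgamation t) :
    (x.pullback f).IsAmalgamation (F.map f.op t) := by
  intro W g hg
  have := ht (g ≫ f) hg
  rw [op_comp, F.map_comp] at this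
  exact this

/-- separatedness is Zariski local -/
theorem isSeparatedFor_of_affine (hZ : Presieve.IsSheaf Scheme.zariskiTopology F) {Z : Scheme.{u}}
    (S : Sieve Z)
    (hS : ∀ (V : Scheme.{u}) (j : V ⟶ Z), IsAffine V → IsOpenImmersion j →
      Presieve.IsSeparatedFor F (S.pullback j).arrows) :
    Presieve.IsSeparatedFor F S.arrows := by
  intro x t₁ t₂ h₁ h₂
  have hsh := isSheafFor_ofArrows F hZ (fun U : Z.affineOpens => (U.1 : Scheme.{u}))
    (fun U => U.1.ι) (affine_cover Z)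
  apply hsh.isSeparatedFor.ext
  rintro _ _ ⟨U⟩
  exact hS _ U.1.ι U.2 inferInstance (x.pullback U.1.ι) _ _
    (isAmalgamation_pullback F S _ x t₁ h₁) (isAmalgamation_pullback F S _ x t₂ h₂)

theorem family_congr {X : Scheme.{u}} {S : Sieve X} (x : Presieve.FamilyOfElements F S.arrows)
    {W : Scheme.{u}} {f f' : W ⟶ X} (h : f = f') (hf : S f) (hf' : S f') : x f hf = x f' hf' := by
  subst h; rfl

/-- the sheaf condition for a sieve is Zariski local on the target -/
theorem isSheafFor_of_affine (hZ : Presieve.IsSheaf Scheme.zariskiTopology F) {Y : Scheme.{u}}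
    (S : Sieve Y)
    (hS : ∀ (V : Scheme.{u}) (j : V ⟶ Y), IsAffine V → IsOpenImmersion j →
      Presieve.IsSheafFor F (S.pullback j).arrows) :
    Presieve.IsSheafFor F S.arrows := by
  rw [← Presieve.isSeparatedFor_and_exists_isAmalgamation_iff_isSheafFor]
  have hsep : ∀ (W : Scheme.{u}) (h : W ⟶ Y), IsOpenImmersion h →
      Presieve.IsSeparatedFor F (S.pullback h).arrows := by
    intro W h hh
    refine isSeparatedFor_of_affine F hZ _ (fun V j hV hj => ?_)
    rw [← Sieve.pullback_comp]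
    exact (hS V (j ≫ h) hV inferInstance).isSeparatedFor
  refine ⟨isSeparatedFor_of_affine F hZ S (fun V j hV hj => (hS V j hV hj).isSeparatedFor), ?_⟩
  intro x hx
  let tU : ∀ U : Y.affineOpens, F.obj (op (U.1 : Scheme.{u})) := fun U =>
    (hS _ U.1.ι U.2 inferInstance).amalgamate (x.pullback U.1.ι) (hx.pullback U.1.ι)
  have htU : ∀ U : Y.affineOpens, (x.pullback U.1.ι).IsAmalgamation (tU U) := fun U =>
    (hS _ U.1.ι U.2 inferInstance).isAmalgamation _
  have htU' : ∀ (U : Y.affineOpens) {W : Scheme.{u}} (g : W ⟶ (U.1 : Scheme.{u})) (f : W ⟶ Y)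
      (hgf : g ≫ U.1.ι = f) (hf : S f), F.map g.op (tU U) = x f hf := by
    intro U W g f hgf hf
    have h1 : S (g ≫ U.1.ι) := by rw [hgf]; exact hf
    exact (htU U g h1).trans (family_congr F x hgf _ _)
  have hsh := isSheafFor_ofArrows F hZ (fun U : Y.affineOpens => (U.1 : Scheme.{u}))
    (fun U => U.1.ι) (affine_cover Y)
  rw [Presieve.isSheafFor_arrows_iff_pullbacks] at hsh
  have hcompat : Presieve.Arrows.PullbackCompatible F (fun U : Y.affineOpens => U.1.ι) tU := by
    intro U U'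
    let h : pullback U.1.ι U'.1.ι ⟶ Y := pullback.fst U.1.ι U'.1.ι ≫ U.1.ι
    refine hsep _ h inferInstance (x.pullback h) _ _ ?_ ?_
    · intro W g hg
      rw [← FunctorToTypes.map_comp_apply, ← op_comp]
      exact htU' U _ _ (Category.assoc _ _ _) hg
    · intro W g hg
      rw [← FunctorToTypes.map_comp_apply, ← op_comp]
      refine htU' U' _ _ ?_ hg
      rw [Category.assoc, ← pullback.condition]
  obtain ⟨t, ht, -⟩ := hsh tU hcompat
  refine ⟨t, ?_⟩
  intro W f hf
  have hshW := isSheafFor_ofArrows F hZ (fun U : Y.affineOpens => ((f ⁻¹ᵁ U.1 : W.Opens) : Scheme.{u}))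
    (fun U => (f ⁻¹ᵁ U.1).ι) (fun x => by
      obtain ⟨U, y, hy⟩ := affine_cover Y (f x)
      refine ⟨U, ⟨x, ?_⟩, rfl⟩
      show f x ∈ U.1
      rw [← hy]; exact y.2)
  apply hshW.isSeparatedFor.ext
  rintro _ _ ⟨U⟩
  have h1 : (f ∣_ U.1) ≫ U.1.ι = (f ⁻¹ᵁ U.1).ι ≫ f := morphismRestrict_ι f U.1
  have hf' : S ((f ⁻¹ᵁ U.1).ι ≫ f) := S.downward_closed hf _
  calc F.map (f ⁻¹ᵁ U.1).ι.op (F.map f.op t)
      = F.map (f ∣_ U.1).op (F.map U.1.ι.op t) := by
        rw [← FunctorToTypes.map_comp_apply, ← op_comp, ← FunctorToTypes.map_comp_apply, ← op_comp,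
          h1]
    _ = F.map (f ∣_ U.1).op (tU U) := by rw [ht U]
    _ = x _ hf' := htU' U _ _ h1 hf'
    _ = F.map (f ⁻¹ᵁ U.1).ι.op (x f hf) :=
        Presieve.FamilyOfElements.comp_of_compatible S hx hf _

end Groth.Agent.Lead.ZarLocal
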