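import Mathlib
import Groth.Agent.Lead.ZarLocal
import Groth.Agent.Lead.Finest
import Groth.Agent.Lead.HCovVal
import Groth.Agent.Lead.HCovFlat

set_option autoImplicit false
universe w w' w'' u
open CategoryTheory CategoryTheory.Limits AlgebraicGeometry Opposite

namespace Groth.Agent.Lead.VSheaf
open Groth.Agent.Lead

variable (F : Scheme.{u}ᵒᵖ ⥤ Type w)

/-- a sieve all of whose pullbacks to affine schemes satisfy the sheaf condition is covering for the
finest topology making the Zariski sheaf `F` a sheaf. -/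
theorem mem_finest_of_affine (hZ : Presieve.IsSheaf Scheme.zariskiTopology F) {X : Scheme.{u}}
    (S : Sieve X)
    (hS : ∀ (V : Scheme.{u}) (g : V ⟶ X), IsAffine V → Presieve.IsSheafFor F (S.pullback g).arrows) :
    S ∈ Sheaf.finestTopologySingle F X := by
  intro Y f
  apply ZarLocal.isSheafFor_of_affine F hZ
  intro V j hV hj
  rw [← Sieve.pullback_comp]
  exact hS V (j ≫ f) hV

theorem hasValLift_singleton_snd {X Y Y' : Scheme.{u}} (f : X ⟶ Y) (g : Y' ⟶ Y)
    (h : HTop.HasValLift (PreZeroHypercover.singleton.{w'} f)) :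
    HTop.HasValLift (PreZeroHypercover.singleton.{w''} (pullback.snd f g)) := by
  intro V _ _ a
  obtain ⟨W, hW1, hW2, φ, hφ, j, ℓ, hℓ⟩ := h V (a ≫ g)
  have hℓ' : ℓ ≫ f = (Spec.map φ ≫ a) ≫ g := by rw [Category.assoc]; exact hℓ
  exact ⟨W, hW1, hW2, φ, hφ, PUnit.unit, pullback.lift ℓ (Spec.map φ ≫ a) hℓ',
    pullback.lift_snd _ _ _⟩

/-- the sheaf hypothesis on one-arrow standard V coverings of affine schemes -/
def SingletonHyp : Prop :=
  ∀ (U V : Scheme.{u}) (f : V ⟶ U), IsAffine U → IsAffine V →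
    HTop.HasValLift (PreZeroHypercover.singleton.{0} f) → Presieve.IsSheafFor F (Presieve.singleton f)

variable {F}

theorem generate_singleton_mem (hZ : Presieve.IsSheaf Scheme.zariskiTopology F)
    (H : SingletonHyp F) {U V : Scheme.{u}} (σ : V ⟶ U) [IsAffine U] [IsAffine V]
    (hσ : HTop.HasValLift (PreZeroHypercover.singleton.{0} σ)) :
    Sieve.generate (Presieve.singleton σ) ∈ Sheaf.finestTopologySingle F U := by
  apply mem_finest_of_affine F hZ
  intro W g hW
  rw [← Sieve.pullbackArrows_comm, ← Presieve.isSheafFor_iff_generate, Presieve.pullback_singleton]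
  exact H _ _ _ hW inferInstance (hasValLift_singleton_snd σ g hσ)

theorem generate_standardV_mem (hZ : Presieve.IsSheaf Scheme.zariskiTopology F)
    (H : SingletonHyp F) {T : Scheme.{u}} (G : PreZeroHypercover.{w'} T) (hG : HTop.IsStandardV G) :
    Sieve.generate G.presieve₀ ∈ Sheaf.finestTopologySingle F T := by
  haveI := hG.finite_index
  haveI := hG.isAffine_obj
  haveI := hG.isAffine
  have hZJ : Scheme.zariskiTopology ≤ Sheaf.finestTopologySingle F :=
    Finest.le_finestTopologySingle F _ hZ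
  let σ : ∐ G.X ⟶ T := Sigma.desc G.f
  have hσ : HTop.HasValLift (PreZeroHypercover.singleton.{0} σ) := by
    intro V _ _ g
    obtain ⟨W, hW1, hW2, φ, hφ, j, ℓ, hℓ⟩ := hG.lift V g
    refine ⟨W, hW1, hW2, φ, hφ, PUnit.unit, ℓ ≫ Sigma.ι G.X j, ?_⟩
    show (ℓ ≫ Sigma.ι G.X j) ≫ σ = _
    rw [Category.assoc, Sigma.ι_desc]
    exact hℓ
  refine Finest.mem_of_singleton σ (generate_singleton_mem hZ H σ hσ) _ ?_
  refine (Sheaf.finestTopologySingle F).superset_covering ?_
    (hZJ _ (ZarLocal.zariski_ofArrows_mem G.X (Sigma.ι G.X) (fun x => by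
      obtain ⟨i, y, hy⟩ := (sigmaOpenCover G.X).exists_eq x
      exact ⟨i, y, hy⟩)))
  rintro Z g ⟨W, a, b, ⟨k⟩, rfl⟩
  show (Sieve.generate G.presieve₀).arrows ((a ≫ Sigma.ι G.X k) ≫ σ)
  rw [Category.assoc, Sigma.ι_desc]
  exact ⟨_, a, G.f k, ⟨k⟩, rfl⟩

theorem generate_vCover_mem (hZ : Presieve.IsSheaf Scheme.zariskiTopology F)
    (H : SingletonHyp F) {T : Scheme.{u}} (E : PreZeroHypercover.{w'} T) (hE : HTop.IsVCover E) :
    Sieve.generate E.presieve₀ ∈ Sheaf.finestTopologySingle F T := by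
  have hZJ : Scheme.zariskiTopology ≤ Sheaf.finestTopologySingle F :=
    Finest.le_finestTopologySingle F _ hZ
  refine Finest.mem_of_ofArrows (fun U : T.affineOpens => (U.1 : Scheme.{u}))
    (fun U => U.1.ι) ?_ _ ?_
  · exact hZJ _ (ZarLocal.zariski_ofArrows_mem _ _ (ZarLocal.affine_cover T))
  · intro U
    obtain ⟨G, hG, hr⟩ := hE U
    refine (Sheaf.finestTopologySingle F).superset_covering ?_
      (generate_standardV_mem hZ H G hG)
    rintro Z g ⟨W, a, b, ⟨k⟩, rfl⟩
    obtain ⟨i, h, hh⟩ := hr k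
    show (Sieve.generate E.presieve₀).arrows ((a ≫ G.f k) ≫ U.1.ι)
    have : (a ≫ G.f k) ≫ U.1.ι = (a ≫ h) ≫ E.f i := by
      rw [Category.assoc, Category.assoc, hh]
    rw [this]
    exact ⟨_, a ≫ h, E.f i, ⟨i⟩, rfl⟩

/-- the core: Zariski sheaf + sheaf for one-arrow standard V coverings of affines ⇒ V sheaf -/
theorem isVSheaf_of_singletonHyp (hZ : Presieve.IsSheaf Scheme.zariskiTopology F)
    (H : SingletonHyp F) : HTop.IsVSheaf F := by
  intro X R hR
  obtain ⟨E, rfl⟩ := R.exists_eq_preZeroHypercover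
  rw [HTop.presieve₀_mem_vPrecoverage_iff] at hR
  exact Finest.isSheafFor_of_generate_mem F _ (generate_vCover_mem hZ H E hR)

/-- a standard V covering is a V covering -/
theorem isVCover_of_isStandardV {T : Scheme.{u}} (E : PreZeroHypercover.{w'} T)
    (hE : HTop.IsStandardV E) : HTop.IsVCover E := by
  intro U
  haveI : IsAffine ((U : T.Opens) : Scheme.{u}) := U.2
  haveI := hE.finite_index
  have hP := HCov.isStandardV_pullback U.1.ι E hE
  obtain ⟨n, ⟨e⟩⟩ := Finite.exists_equiv_fin E.I₀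
  refine ⟨(E.pullback₁ U.1.ι).restrictIndex e.symm, ⟨inferInstance, ?_, ?_, ?_⟩, ?_⟩
  · exact inferInstanceAs (Finite (Fin n))
  · intro k
    exact hP.isAffine_obj (e.symm k)
  · intro V _ _ g
    obtain ⟨W, hW1, hW2, φ, hφ, j, ℓ, hℓ⟩ := hP.lift V g
    obtain ⟨k, rfl⟩ := e.symm.surjective j
    exact ⟨W, hW1, hW2, φ, hφ, k, ℓ, hℓ⟩
  · intro k
    exact ⟨e.symm k, pullback.snd _ _, pullback.condition.symm⟩

theorem zariski_le_v {X : Scheme.{u}} (R : Presieve X) (hR : R ∈ Scheme.zariskiPrecoverage X) :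
    R ∈ HTop.vPrecoverage X := by
  obtain ⟨E, rfl⟩ := R.exists_eq_preZeroHypercover
  let 𝒰 : Scheme.Cover Scheme.zariskiPrecoverage X := ⟨E, hR⟩
  rw [HTop.presieve₀_mem_vPrecoverage_iff]
  exact HCov.isVCover_of_fpqc (𝒰.weaken Scheme.zariskiPrecoverage_le_fpqcPrecoverage)

theorem isSheaf_zariski_of_isVSheaf (hV : HTop.IsVSheaf F) :
    Presieve.IsSheaf Scheme.zariskiTopology F := by
  rw [Precoverage.isSheaf_toGrothendieck_iff_of_isStableUnderBaseChange]
  intro X R hR
  exact hV R (zariski_le_v R hR)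

theorem isSheafFor_of_isStandardV (hV : HTop.IsVSheaf F) {T : Scheme.{u}}
    (E : PreZeroHypercover.{w'} T) (hE : HTop.IsStandardV E) :
    Presieve.IsSheafFor F E.presieve₀ :=
  hV _ ((HTop.presieve₀_mem_vPrecoverage_iff E).mpr (isVCover_of_isStandardV E hE))

end Groth.Agent.Lead.VSheaf
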