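import Mathlib

/-!
# Lead: independence of the virtual relative dimension of the factorisation (algebra core)
-/

set_option autoImplicit false
set_option linter.style.haveILetI false
open TensorProduct KaehlerDifferential Function
universe u

namespace Groth.Agent.Lead.VirtDim

section Ext
variable (P : Type u) {Q T : Type u} [CommRing P] [CommRing Q] [CommRing T]
  [Algebra P Q] [Algebra P T] [Algebra Q T] [IsScalarTower P Q T]

/-- the extension `Q → T` of `P`-algebras attached to a surjection -/
noncomputable abbrev ext (hQ : Surjective (algebraMap Q T)) : Algebra.Extension.{u} P T where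
  Ring := Q
  σ := surjInv hQ
  algebraMap_σ := surjInv_eq hQ

end Ext

section Split
variable {P Q T : Type u} [CommRing P] [CommRing Q] [CommRing T]
  [Algebra P Q] [Algebra P T] [Algebra Q T] [IsScalarTower P Q T]

theorem subsingleton_tensor_of_right {R M N : Type u} [CommRing R] [AddCommGroup M] [Module R M]
    [AddCommGroup N] [Module R N] [Subsingleton N] : Subsingleton (M ⊗[R] N) := by
  refine ⟨fun a b => ?_⟩
  have h0 : ∀ z : M ⊗[R] N, z = 0 := by
    intro z
    induction z using TensorProduct.induction_on with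
    | zero => rfl
    | tmul x y => rw [Subsingleton.elim y 0, TensorProduct.tmul_zero]
    | add x y hx hy => rw [hx, hy, add_zero]
  rw [h0 a, h0 b]

/-- the conormal module of a formally smooth extension splits off the differentials -/
theorem cotangent_split [Algebra.FormallySmooth P Q] (hP : Surjective (algebraMap P T))
    (hQ : Surjective (algebraMap Q T)) :
    Nonempty ((ext P hQ).Cotangent ≃ₗ[T]
      ((ext P (Q := P) hP).Cotangent × (T ⊗[Q] Ω[Q⁄P]))) := by
  let E := ext P hQ
  let E₀ := ext P (Q := P) hP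
  haveI : Algebra.FormallySmooth P E.Ring := inferInstanceAs (Algebra.FormallySmooth P Q)
  haveI : Algebra.FormallySmooth P E₀.Ring := inferInstanceAs (Algebra.FormallySmooth P P)
  let h1 : E.H1Cotangent ≃ₗ[T] E₀.H1Cotangent :=
    Algebra.Extension.H1Cotangent.equivOfFormallySmooth E E₀
  -- `H¹` of the trivial extension is the whole conormal module
  haveI : Subsingleton Ω[E₀.Ring⁄P] := KaehlerDifferential.subsingleton_of_surjective P P
    (fun x => ⟨x, rfl⟩)
  haveI : Subsingleton E₀.CotangentSpace :=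
    subsingleton_tensor_of_right (R := E₀.Ring) (M := T) (N := Ω[E₀.Ring⁄P])
  have htop : LinearMap.ker E₀.cotangentComplex = ⊤ := by
    rw [eq_top_iff]
    intro x _
    exact Subsingleton.elim _ _
  let h2 : E₀.H1Cotangent ≃ₗ[T] E₀.Cotangent := LinearEquiv.ofTop _ htop
  -- surjectivity of the cotangent complex
  haveI : Subsingleton Ω[T⁄P] := KaehlerDifferential.subsingleton_of_surjective P T hP
  have hsurj : Surjective E.cotangentComplex := by
    intro w
    have := (E.exact_cotangentComplex_toKaehler w).mp (Subsingleton.elim _ _)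
    exact this
  haveI : Module.Projective Q Ω[Q⁄P] := inferInstance
  haveI : Module.Projective T E.CotangentSpace :=
    inferInstanceAs (Module.Projective T (T ⊗[Q] Ω[Q⁄P]))
  obtain ⟨l, hl⟩ := Module.projective_lifting_property E.cotangentComplex LinearMap.id hsurj
  let e := (E.exact_hCotangentι_cotangentComplex.splitSurjectiveEquiv
    E.h1Cotangentι_injective ⟨l, hl⟩).1
  exact ⟨e.trans ((h1.trans h2).prodCongr (LinearEquiv.refl T _))⟩

end Split

section Base
variable (P P' : Type u) {Q T : Type u} [CommRing P] [CommRing P'] [CommRing Q] [CommRing T]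
  [Algebra P Q] [Algebra P T] [Algebra P' Q] [Algebra P' T] [Algebra Q T] [IsScalarTower P Q T]
  [IsScalarTower P' Q T]

/-- the conormal module does not depend on the base ring of the extension -/
noncomputable def cotEquiv (hQ : Surjective (algebraMap Q T)) :
    (ext P hQ).Cotangent ≃ₗ[T] (ext P' hQ).Cotangent where
  toFun x := .of x.val
  invFun x := .of x.val
  map_add' _ _ := rfl
  map_smul' _ _ := rfl
  left_inv _ := rfl
  right_inv _ := rfl

end Base

section Pushout
variable (R P P' Q T : Type u) [CommRing R] [CommRing P] [CommRing P'] [CommRing Q] [CommRing T]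
  [Algebra R P] [Algebra R P'] [Algebra R Q] [Algebra P Q] [Algebra P' Q]
  [IsScalarTower R P Q] [IsScalarTower R P' Q] [Algebra.IsPushout R P P' Q]
  [Algebra R T] [Algebra P T] [Algebra P' T] [Algebra Q T]
  [IsScalarTower P Q T] [IsScalarTower P' Q T] [IsScalarTower R P T] [IsScalarTower R P' T]
  [Algebra.FormallySmooth R P] [Algebra.FormallySmooth R P']

include Q in
theorem core_pushout (hP : Surjective (algebraMap P T)) (hP' : Surjective (algebraMap P' T)) :
    Nonempty (((ext R hP).Cotangent × (T ⊗[P'] Ω[P'⁄R])) ≃ₗ[T]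
      ((ext R hP').Cotangent × (T ⊗[P] Ω[P⁄R]))) := by
  have hQ : Surjective (algebraMap Q T) := by
    intro t
    obtain ⟨p, rfl⟩ := hP t
    exact ⟨algebraMap P Q p, (IsScalarTower.algebraMap_apply P Q T p).symm⟩
  haveI h' : Algebra.IsPushout R P' P Q := Algebra.IsPushout.symm inferInstance
  haveI : Algebra.FormallySmooth P Q :=
    Algebra.FormallySmooth.of_equiv (Algebra.IsPushout.equiv R P P' Q)
  haveI : Algebra.FormallySmooth P' Q :=
    Algebra.FormallySmooth.of_equiv (Algebra.IsPushout.equiv R P' P Q)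
  obtain ⟨e₁⟩ := cotangent_split (P := P) (Q := Q) (T := T) hP hQ
  obtain ⟨e₂⟩ := cotangent_split (P := P') (Q := Q) (T := T) hP' hQ
  -- differentials of the pushout
  let k₁ : T ⊗[Q] Ω[Q⁄P] ≃ₗ[T] T ⊗[P'] Ω[P'⁄R] :=
    (AlgebraTensorModule.congr (LinearEquiv.refl T T)
      (tensorKaehlerEquiv R P P' Q).symm).trans
      (AlgebraTensorModule.cancelBaseChange P' Q T T Ω[P'⁄R])
  let k₂ : T ⊗[Q] Ω[Q⁄P'] ≃ₗ[T] T ⊗[P] Ω[P⁄R] :=
    (AlgebraTensorModule.congr (LinearEquiv.refl T T)
      (tensorKaehlerEquiv R P' P Q).symm).trans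
      (AlgebraTensorModule.cancelBaseChange P Q T T Ω[P⁄R])
  let c₁ : (ext P (Q := P) hP).Cotangent ≃ₗ[T] (ext R hP).Cotangent := cotEquiv P R hP
  let c₂ : (ext P' (Q := P') hP').Cotangent ≃ₗ[T] (ext R hP').Cotangent := cotEquiv P' R hP'
  let m : (ext P hQ).Cotangent ≃ₗ[T] (ext P' hQ).Cotangent := cotEquiv P P' hQ
  exact ⟨((c₁.prodCongr k₁).symm.trans e₁.symm).trans (m.trans (e₂.trans (c₂.prodCongr k₂)))⟩

end Pushout

section Tensor
variable (R P P' T : Type u) [CommRing R] [CommRing P] [CommRing P'] [CommRing T]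
  [Algebra R P] [Algebra R P'] [Algebra R T] [Algebra P T] [Algebra P' T]
  [IsScalarTower R P T] [IsScalarTower R P' T]
  [Algebra.FormallySmooth R P] [Algebra.FormallySmooth R P']

attribute [local instance] Algebra.TensorProduct.rightAlgebra

/-- **Schanuel-type lemma for conormal modules**: for two surjections `P → T`, `P' → T` from
formally smooth `R`-algebras, `I/I² ⊕ (T ⊗ Ω_{P'/R}) ≃ I'/I'² ⊕ (T ⊗ Ω_{P/R})`. -/
theorem core (hP : Surjective (algebraMap P T)) (hP' : Surjective (algebraMap P' T)) :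
    Nonempty (((ext R hP).Cotangent × (T ⊗[P'] Ω[P'⁄R])) ≃ₗ[T]
      ((ext R hP').Cotangent × (T ⊗[P] Ω[P⁄R]))) := by
  let φ : P ⊗[R] P' →ₐ[R] T := Algebra.TensorProduct.lift (IsScalarTower.toAlgHom R P T)
    (IsScalarTower.toAlgHom R P' T) (fun _ _ => Commute.all _ _)
  letI : Algebra (P ⊗[R] P') T := φ.toRingHom.toAlgebra
  haveI : IsScalarTower P (P ⊗[R] P') T := IsScalarTower.of_algebraMap_eq (fun p => by
    change algebraMap P T p = φ (algebraMap P (P ⊗[R] P') p)
    rw [Algebra.TensorProduct.algebraMap_apply]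
    simp [φ])
  haveI : IsScalarTower P' (P ⊗[R] P') T := IsScalarTower.of_algebraMap_eq (fun p => by
    change algebraMap P' T p = φ (algebraMap P' (P ⊗[R] P') p)
    rw [Algebra.TensorProduct.algebraMap_eq_includeRight]
    simp [φ])
  exact core_pushout R P P' (P ⊗[R] P') T hP hP'

end Tensor

section Model
variable (R : Type u) {P T : Type u} [CommRing R] [CommRing P] [CommRing T]
  [Algebra R P] [Algebra R T] [Algebra P T] [IsScalarTower R P T]

/-- a module receiving a surjection from the ideal with kernel the square is the conormal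
module -/
theorem cotangent_model (hP : Surjective (algebraMap P T))
    {M N : Type u} [AddCommGroup M] [Module P M] [AddCommGroup N] [Module T N] [Module P N]
    [IsScalarTower P T N]
    (ι : M →ₗ[P] P) (hιr : ∀ p, algebraMap P T p = 0 → ∃ m, ι m = p)
    (hιk : ∀ m, algebraMap P T (ι m) = 0)
    (c : M →ₗ[P] N) (hc : Surjective c)
    (hck : ∀ m, c m = 0 ↔ ι m ∈ (RingHom.ker (algebraMap P T)) ^ 2) :
    Nonempty (N ≃ₗ[T] (ext R hP).Cotangent) := by
  let E := ext R hP
  let ι' : M →ₗ[P] E.ker := ι.codRestrict E.ker (fun m => hιk m)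
  let q : M →ₗ[P] E.Cotangent := (Algebra.Extension.Cotangent.mk (P := E)).comp ι'
  have hq : Surjective q := by
    intro z
    obtain ⟨⟨p, hp⟩, rfl⟩ := Algebra.Extension.Cotangent.mk_surjective z
    obtain ⟨m, hm⟩ := hιr p hp
    exact ⟨m, congrArg Algebra.Extension.Cotangent.mk (Subtype.ext hm)⟩
  have hker : LinearMap.ker c = LinearMap.ker q := by
    ext m
    rw [LinearMap.mem_ker, LinearMap.mem_ker, hck m]
    exact (Algebra.Extension.Cotangent.mk_eq_zero_iff (ι' m)).symm
  let e : N ≃ₗ[P] E.Cotangent :=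
    ((LinearMap.quotKerEquivOfSurjective c hc).symm.trans
      (Submodule.quotEquivOfEq _ _ hker)).trans (LinearMap.quotKerEquivOfSurjective q hq)
  exact ⟨e.extendScalarsOfSurjective hP⟩

end Model

section Rank
variable {R P P' T : Type u} [CommRing R] [CommRing P] [CommRing P'] [CommRing T]
  [Algebra R P] [Algebra R P'] [Algebra R T] [Algebra P T] [Algebra P' T]
  [IsScalarTower R P T] [IsScalarTower R P' T]
  [Algebra.FormallySmooth R P] [Algebra.FormallySmooth R P'] [Nontrivial T]

/-- **the virtual relative dimension does not depend on the factorisation** (algebra form) -/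
theorem rank_eq (hP : Surjective (algebraMap P T)) (hP' : Surjective (algebraMap P' T))
    {M N W : Type u} [AddCommGroup M] [Module P M] [AddCommGroup N] [Module T N] [Module P N]
    [IsScalarTower P T N] [AddCommGroup W] [Module T W]
    (ι : M →ₗ[P] P) (hιr : ∀ p, algebraMap P T p = 0 → ∃ m, ι m = p)
    (hιk : ∀ m, algebraMap P T (ι m) = 0)
    (c : M →ₗ[P] N) (hc : Surjective c)
    (hck : ∀ m, c m = 0 ↔ ι m ∈ (RingHom.ker (algebraMap P T)) ^ 2)
    (eW : W ≃ₗ[T] T ⊗[P] Ω[P⁄R])
    {M' N' W' : Type u} [AddCommGroup M'] [Module P' M'] [AddCommGroup N'] [Module T N']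
    [Module P' N'] [IsScalarTower P' T N'] [AddCommGroup W'] [Module T W']
    (ι' : M' →ₗ[P'] P') (hιr' : ∀ p, algebraMap P' T p = 0 → ∃ m, ι' m = p)
    (hιk' : ∀ m, algebraMap P' T (ι' m) = 0)
    (c' : M' →ₗ[P'] N') (hc' : Surjective c')
    (hck' : ∀ m, c' m = 0 ↔ ι' m ∈ (RingHom.ker (algebraMap P' T)) ^ 2)
    (eW' : W' ≃ₗ[T] T ⊗[P'] Ω[P'⁄R])
    {a b a' b' : ℕ} (bN : Module.Basis (Fin b) T N) (bW : Module.Basis (Fin a) T W)
    (bN' : Module.Basis (Fin b') T N') (bW' : Module.Basis (Fin a') T W') :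
    (a : ℤ) - b = (a' : ℤ) - b' := by
  obtain ⟨eN⟩ := cotangent_model R hP ι hιr hιk c hc hck
  obtain ⟨eN'⟩ := cotangent_model R hP' ι' hιr' hιk' c' hc' hck'
  obtain ⟨Φ⟩ := core R P P' T hP hP'
  let Ψ : (N × W') ≃ₗ[T] (N' × W) :=
    ((eN.prodCongr eW').trans Φ).trans (eN'.prodCongr eW).symm
  have h1 : Module.finrank T (N × W') = b + a' := by
    rw [Module.finrank_eq_card_basis (bN.prod bW')]
    simp
  have h2 : Module.finrank T (N' × W) = b' + a := by
    rw [Module.finrank_eq_card_basis (bN'.prod bW)]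
    simp
  have h3 := Ψ.finrank_eq
  omega

end Rank

section PresSec

/-- algebraic data of a factorisation `R → P ↠ T` with `P` formally smooth over `R`, together
with models of the conormal module (free of rank `b`) and of `T ⊗ Ω_{P/R}` (free of rank `a`) -/
structure Pres (R T : Type u) [CommRing R] [CommRing T] [Algebra R T] (a b : ℕ) where
  P : Type u
  [commRing : CommRing P]
  [algRP : Algebra R P]
  [algPT : Algebra P T]
  [tower : IsScalarTower R P T]
  [smooth : Algebra.FormallySmooth R P]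
  surj : Surjective (algebraMap P T)
  M : Type u
  N : Type u
  W : Type u
  [acgM : AddCommGroup M]
  [modM : Module P M]
  [acgN : AddCommGroup N]
  [modN : Module T N]
  [modPN : Module P N]
  [towerN : IsScalarTower P T N]
  [acgW : AddCommGroup W]
  [modW : Module T W]
  ι : M →ₗ[P] P
  hιr : ∀ p, algebraMap P T p = 0 → ∃ m, ι m = p
  hιk : ∀ m, algebraMap P T (ι m) = 0
  c : M →ₗ[P] N
  hc : Surjective c
  hck : ∀ m, c m = 0 ↔ ι m ∈ (RingHom.ker (algebraMap P T)) ^ 2
  eW : W ≃ₗ[T] T ⊗[P] Ω[P⁄R]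
  bN : Module.Basis (Fin b) T N
  bW : Module.Basis (Fin a) T W

attribute [instance] Pres.commRing Pres.algRP Pres.algPT Pres.tower Pres.smooth Pres.acgM
  Pres.modM Pres.acgN Pres.modN Pres.modPN Pres.towerN Pres.acgW Pres.modW

theorem Pres.rank_eq {R T : Type u} [CommRing R] [CommRing T] [Algebra R T] [Nontrivial T]
    {a b a' b' : ℕ} (D : Pres R T a b) (D' : Pres R T a' b') :
    (a : ℤ) - b = (a' : ℤ) - b' :=
  VirtDim.rank_eq D.surj D'.surj D.ι D.hιr D.hιk D.c D.hc D.hck D.eW
    D'.ι D'.hιr D'.hιk D'.c D'.hc D'.hck D'.eW D.bN D.bW D'.bN D'.bW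

end PresSec

end Groth.Agent.Lead.VirtDim
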