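import Mathlib
import Groth.Agent.Lead.VirtDim
import Groth.Agent.Helper8.H1Inter
import Groth.Agent.Lead.KoszulH1
import Groth.Prelude.Def_LCI2

/-!
# Lead: additivity of the virtual relative dimension under composition (algebra core)
-/

set_option autoImplicit false
set_option linter.style.haveILetI false
open TensorProduct KaehlerDifferential Function
universe u

namespace Groth.Agent.Lead.VirtComp
open Groth.Agent.Lead.VirtDim

/-- the first fundamental sequence of differentials is split exact for a formally smooth top -/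
theorem kaehler_split (R S T : Type u) [CommRing R] [CommRing S] [CommRing T] [Algebra R S]
    [Algebra S T] [Algebra R T] [IsScalarTower R S T] [Algebra.FormallySmooth S T] :
    Nonempty (Ω[T⁄R] ≃ₗ[T] (T ⊗[S] Ω[S⁄R]) × Ω[T⁄S]) := by
  have hex : Function.Exact (mapBaseChange R S T) (KaehlerDifferential.map R S T T) :=
    KaehlerDifferential.exact_mapBaseChange_map R S T
  have hsurj : Surjective (KaehlerDifferential.map R S T T) :=
    KaehlerDifferential.map_surjective R S T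
  haveI : Subsingleton (Algebra.H1Cotangent S T) := inferInstance
  have hinj : Injective (mapBaseChange R S T) := by
    rw [injective_iff_map_eq_zero]
    intro x hx
    obtain ⟨y, rfl⟩ := (Algebra.H1Cotangent.exact_δ_mapBaseChange R S T x).mp hx
    rw [Subsingleton.elim y 0, map_zero]
  haveI : Module.Projective T Ω[T⁄S] := inferInstance
  obtain ⟨l, hl⟩ := Module.projective_lifting_property (KaehlerDifferential.map R S T T)
    LinearMap.id hsurj
  exact ⟨(hex.splitSurjectiveEquiv hinj ⟨l, hl⟩).1⟩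

/-- `H1Inter.main` for a general surjection instead of the quotient map -/
theorem h1inter {A L₀ : Type u} [CommRing A] [CommRing L₀] (ψ : A →+* L₀) (hψ : Surjective ψ)
    (I J : Ideal A) (hkerψ : RingHom.ker ψ = I) (hIJ : I ≤ J)
    (h : ∀ (𝔮 : Ideal L₀) [𝔮.IsPrime], J.map ψ ≤ 𝔮 →
      ∃ g : L₀, g ∉ 𝔮 ∧ ∃ (c : ℕ) (f : Fin c → Localization.Away g),
        CAlgX.IsH1Regular f ∧
          Ideal.span (Set.range f) = (J.map ψ).map (algebraMap L₀ (Localization.Away g))) :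
    I ⊓ J ^ 2 ≤ I * J := by
  have hmemI : ∀ x, ψ x = 0 ↔ x ∈ I := fun x => by rw [← hkerψ, RingHom.mem_ker]
  rintro x ⟨hxI, hxJ2⟩
  set 𝔞 : Ideal A := Submodule.comap (LinearMap.toSpanSingleton A A x) (I * J) with h𝔞
  have hmem : ∀ s, s ∈ 𝔞 ↔ s * x ∈ I * J := by
    intro s
    rw [h𝔞, Submodule.mem_comap, LinearMap.toSpanSingleton_apply, smul_eq_mul]
  by_contra hx
  have hne : 𝔞 ≠ ⊤ := by
    intro htop
    have : (1 : A) ∈ 𝔞 := by rw [htop]; trivial
    rw [hmem, one_mul] at this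
    exact hx this
  obtain ⟨𝔪, h𝔪, hle⟩ := Ideal.exists_le_maximal 𝔞 hne
  have hJ𝔞 : J ≤ 𝔞 := by
    intro s hs
    rw [hmem]
    have : x * s ∈ I * J := Ideal.mul_mem_mul hxI hs
    rwa [mul_comm x s] at this
  have hJ𝔪 : J ≤ 𝔪 := hJ𝔞.trans hle
  have hI𝔪 : I ≤ 𝔪 := hIJ.trans hJ𝔪
  haveI hprime : (𝔪.map ψ).IsPrime := by
    apply Ideal.map_isPrime_of_surjective hψ
    rw [hkerψ]; exact hI𝔪
  obtain ⟨gbar, hg𝔮, c, f, hf, hspan⟩ := h (𝔪.map ψ) (Ideal.map_mono hJ𝔪)
  obtain ⟨g, rfl⟩ := hψ gbar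
  have hg𝔪 : g ∉ 𝔪 := fun hg => hg𝔮 (Ideal.mem_map_of_mem _ hg)
  let B := Localization.Away g
  let L := Localization.Away (ψ g)
  have hcomap : Submonoid.powers g ≤ (Submonoid.powers (ψ g)).comap ψ := by
    rintro _ ⟨n, rfl⟩
    exact ⟨n, by simp⟩
  let φ : B →+* L := IsLocalization.map L ψ hcomap
  have hφ : Function.Surjective φ := by
    have : IsLocalization ((Submonoid.powers g).map ψ) L := by
      rw [Submonoid.map_powers]; infer_instance
    exact IsLocalization.map_surjective_of_surjective _ _ _ hψ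
  have hker : RingHom.ker φ = I.map (algebraMap A B) := by
    ext y
    obtain ⟨y, s, rfl⟩ := IsLocalization.exists_mk'_eq (Submonoid.powers g) y
    simp only [φ, RingHom.mem_ker, IsLocalization.map_mk', IsLocalization.mk'_eq_zero_iff,
      IsLocalization.mk'_mem_map_algebraMap_iff]
    constructor
    · rintro ⟨⟨_, n, rfl⟩, hm⟩
      refine ⟨g ^ n, ⟨n, rfl⟩, ?_⟩
      rw [← hmemI, map_mul, map_pow]
      exact hm
    · rintro ⟨_, ⟨n, rfl⟩, hm⟩
      refine ⟨⟨ψ g ^ n, n, rfl⟩, ?_⟩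
      rw [← hmemI, map_mul, map_pow] at hm
      exact hm
  have hspan' : Ideal.span (Set.range f) = (J.map (algebraMap A B)).map φ := by
    rw [hspan, Ideal.map_map, Ideal.map_map]
    congr 1
    exact (IsLocalization.map_comp _).symm
  have key := Groth.Agent.Helper8.H1Inter.global φ hφ (I.map (algebraMap A B))
    (J.map (algebraMap A B)) (Ideal.map_mono hIJ) hker f hf hspan'
  have hxB : algebraMap A B x ∈ I.map (algebraMap A B) ⊓ (J.map (algebraMap A B)) ^ 2 := by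
    refine ⟨Ideal.mem_map_of_mem _ hxI, ?_⟩
    rw [← Ideal.map_pow]
    exact Ideal.mem_map_of_mem _ hxJ2
  have hxB' := key hxB
  rw [← Ideal.map_mul, IsLocalization.algebraMap_mem_map_algebraMap_iff (Submonoid.powers g)]
    at hxB'
  obtain ⟨_, ⟨n, rfl⟩, hm⟩ := hxB'
  have : g ^ n ∈ 𝔪 := hle ((hmem _).mpr hm)
  exact hg𝔪 (h𝔪.isPrime.mem_of_pow_mem n this)


section E3
variable {Q L T : Type u} [CommRing Q] [CommRing L] [CommRing T] [Algebra Q L] [Algebra L T]
  [Algebra Q T] [IsScalarTower Q L T]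

/-- the hom of extensions of `T` induced by `Q → L` -/
noncomputable def extHom (hQT : Surjective (algebraMap Q T)) (hLT : Surjective (algebraMap L T)) :
    (ext Q (Q := Q) hQT).Hom (ext Q (Q := L) hLT) where
  toRingHom := algebraMap Q L
  toRingHom_algebraMap _ := rfl
  algebraMap_toRingHom x := (IsScalarTower.algebraMap_apply Q L T x).symm

/-- elements of `I₀ K` are combinations of the `a j` with coefficients in `K`, modulo `I₀²` -/
theorem mulK (I₀ K : Ideal Q) {b : ℕ} (a : Fin b → Q)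
    (hgen : I₀ ≤ Ideal.span (Set.range a) ⊔ I₀ ^ 2) (y : Q) (hy : y ∈ I₀ * K) :
    ∃ κ : Fin b → Q, (∀ j, κ j ∈ K) ∧ y - ∑ j, κ j * a j ∈ I₀ ^ 2 := by
  refine Submodule.mul_induction_on hy ?_ ?_
  · intro i hi k hk
    obtain ⟨s, hs, t, ht, rfl⟩ := Submodule.mem_sup.mp (hgen hi)
    obtain ⟨c, rfl⟩ := (Ideal.mem_span_range_iff_exists_fun).mp hs
    refine ⟨fun j => c j * k, fun j => K.mul_mem_left _ hk, ?_⟩
    have : (∑ j, c j * a j + t) * k - ∑ j, c j * k * a j = t * k := by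
      rw [add_mul, Finset.sum_mul]
      have : ∑ j, c j * a j * k = ∑ j, c j * k * a j :=
        Finset.sum_congr rfl (fun j _ => by ring)
      rw [this]; ring
    rw [this]
    exact Ideal.mul_mem_right _ _ ht
  · intro x y hx hy
    obtain ⟨κ₁, h₁, h₁'⟩ := hx
    obtain ⟨κ₂, h₂, h₂'⟩ := hy
    refine ⟨fun j => κ₁ j + κ₂ j, fun j => K.add_mem (h₁ j) (h₂ j), ?_⟩
    have : x + y - ∑ j, (κ₁ j + κ₂ j) * a j =
        (x - ∑ j, κ₁ j * a j) + (y - ∑ j, κ₂ j * a j) := by
      simp only [add_mul, Finset.sum_add_distrib]; ring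
    rw [this]
    exact Ideal.add_mem _ h₁' h₂'


open Algebra.Extension in
theorem e3 (hQL : Surjective (algebraMap Q L)) (hLT : Surjective (algebraMap L T))
    (hQT : Surjective (algebraMap Q T))
    (hint : RingHom.ker (algebraMap Q L) ⊓ RingHom.ker (algebraMap Q T) ^ 2 ≤
      RingHom.ker (algebraMap Q L) * RingHom.ker (algebraMap Q T))
    {b : ℕ} (a : Fin b → Q) (ha : ∀ j, a j ∈ RingHom.ker (algebraMap Q L))
    (hgen : RingHom.ker (algebraMap Q L) ≤
      Ideal.span (Set.range a) ⊔ RingHom.ker (algebraMap Q L) ^ 2)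
    (hind : ∀ p : Fin b → Q, ∑ j, p j * a j ∈ RingHom.ker (algebraMap Q L) ^ 2 →
      ∀ j, p j ∈ RingHom.ker (algebraMap Q L))
    [Module.Projective T (ext Q (Q := L) hLT).Cotangent] :
    Nonempty ((ext Q (Q := Q) hQT).Cotangent ≃ₗ[T]
      (Fin b → T) × (ext Q (Q := L) hLT).Cotangent) := by
  set I₀ := RingHom.ker (algebraMap Q L) with hI₀
  set K := RingHom.ker (algebraMap Q T) with hK
  have hI₀K : I₀ ≤ K := by
    intro q hq
    rw [hK, RingHom.mem_ker, IsScalarTower.algebraMap_apply Q L T, (RingHom.mem_ker).mp hq,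
      map_zero]
  let EQ := ext Q (Q := Q) hQT
  let EL := ext Q (Q := L) hLT
  have hEQ : EQ.ker = K := rfl
  let π : EQ.Cotangent →ₗ[T] EL.Cotangent := Cotangent.map (extHom hQT hLT)
  have hmemL : ∀ k ∈ K, algebraMap Q L k ∈ EL.ker := by
    intro k hk
    change algebraMap L T (algebraMap Q L k) = 0
    rw [← IsScalarTower.algebraMap_apply Q L T]; exact hk
  have hπmk : ∀ (k : Q) (hk : k ∈ K), π (Cotangent.mk ⟨k, hk⟩) =
      Cotangent.mk ⟨algebraMap Q L k, hmemL k hk⟩ := fun k hk => rfl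
  have hπsurj : Surjective π := by
    intro z
    obtain ⟨⟨l, hl⟩, rfl⟩ := Cotangent.mk_surjective z
    obtain ⟨q, rfl⟩ := hQL l
    have hq : q ∈ K := by
      rw [hK, RingHom.mem_ker, IsScalarTower.algebraMap_apply Q L T]; exact hl
    exact ⟨Cotangent.mk ⟨q, hq⟩, hπmk q hq⟩
  -- the kernel
  have hJ : EL.ker = K.map (algebraMap Q L) := by
    have h1 : K = EL.ker.comap (algebraMap Q L) := by
      ext q
      rw [Ideal.mem_comap]
      change algebraMap Q T q = 0 ↔ algebraMap L T (algebraMap Q L q) = 0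
      rw [← IsScalarTower.algebraMap_apply Q L T]
    rw [h1, Ideal.map_comap_of_surjective _ hQL]
  have hkerπ : ∀ (k : Q) (hk : k ∈ K), π (Cotangent.mk ⟨k, hk⟩) = 0 →
      ∃ i ∈ I₀, k - i ∈ K ^ 2 := by
    intro k hk h0
    rw [hπmk, Cotangent.mk_eq_zero_iff] at h0
    change algebraMap Q L k ∈ EL.ker ^ 2 at h0
    rw [hJ, ← Ideal.map_pow, Ideal.mem_map_iff_of_surjective _ hQL] at h0
    obtain ⟨k', hk', he⟩ := h0
    refine ⟨k - k', ?_, by simpa using hk'⟩
    rw [hI₀, RingHom.mem_ker, map_sub, he, sub_self]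
  have hv0 : ∀ j, π (Cotangent.mk ⟨a j, hI₀K (ha j)⟩) = 0 := by
    intro j
    rw [hπmk, Cotangent.mk_eq_zero_iff]
    have : algebraMap Q L (a j) = 0 := ha j
    change algebraMap Q L (a j) ∈ EL.ker ^ 2
    rw [this]; exact zero_mem _
  let v : Fin b → LinearMap.ker π := fun j => ⟨Cotangent.mk ⟨a j, hI₀K (ha j)⟩, hv0 j⟩
  have hsum : ∀ p : Fin b → Q, ∀ hp : ∑ j, p j * a j ∈ K,
      ∑ j, (algebraMap Q T (p j)) • (Cotangent.mk ⟨a j, hI₀K (ha j)⟩ : EQ.Cotangent) =
        Cotangent.mk ⟨∑ j, p j * a j, hp⟩ := by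
    intro p hp
    have : (⟨∑ j, p j * a j, hp⟩ : EQ.ker) = ∑ j, p j • (⟨a j, hI₀K (ha j)⟩ : EQ.ker) := by
      apply Subtype.ext
      simp
    rw [this, map_sum]
    refine Finset.sum_congr rfl (fun j _ => ?_)
    rw [map_smul, algebraMap_smul]
  have hli : LinearIndependent T v := by
    rw [Fintype.linearIndependent_iff]
    intro g hg j
    choose p hp using fun j => hQT (g j)
    have hpK : ∑ j, p j * a j ∈ K := Ideal.sum_mem _ (fun j _ => K.mul_mem_left _ (hI₀K (ha j)))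
    have h1 : ∑ j, g j • (Cotangent.mk ⟨a j, hI₀K (ha j)⟩ : EQ.Cotangent) = 0 := by
      have := congrArg Subtype.val hg
      simpa [v] using this
    have h2 : (Cotangent.mk ⟨∑ j, p j * a j, hpK⟩ : EQ.Cotangent) = 0 := by
      rw [← hsum p hpK, ← h1]
      exact Finset.sum_congr rfl (fun j _ => by rw [hp j])
    rw [Cotangent.mk_eq_zero_iff] at h2
    change ∑ j, p j * a j ∈ K ^ 2 at h2
    have h3 : ∑ j, p j * a j ∈ I₀ * K :=
      hint ⟨Ideal.sum_mem _ (fun j _ => I₀.mul_mem_left _ (ha j)), h2⟩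
    obtain ⟨κ, hκ, hκ'⟩ := mulK I₀ K a hgen _ h3
    have h4 : ∑ j, (p j - κ j) * a j ∈ I₀ ^ 2 := by
      have : ∑ j, (p j - κ j) * a j = ∑ j, p j * a j - ∑ j, κ j * a j := by
        simp only [sub_mul, Finset.sum_sub_distrib]
      rw [this]; exact hκ'
    have h5 := hI₀K (hind _ h4 j)
    have h6 : p j ∈ K := by
      have := K.add_mem h5 (hκ j)
      simpa using this
    rw [← hp j]; exact h6
  have hsp : ⊤ ≤ Submodule.span T (Set.range v) := by
    rintro ⟨y, hy⟩ -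
    obtain ⟨⟨k, hk⟩, rfl⟩ := Cotangent.mk_surjective y
    obtain ⟨i, hi, hki⟩ := hkerπ k hk hy
    obtain ⟨s, hs, t, ht, hst⟩ := Submodule.mem_sup.mp (hgen hi)
    obtain ⟨c, rfl⟩ := (Ideal.mem_span_range_iff_exists_fun).mp hs
    have hcK : ∑ j, c j * a j ∈ K := Ideal.sum_mem _ (fun j _ => K.mul_mem_left _ (hI₀K (ha j)))
    have hsq : I₀ ^ 2 ≤ K ^ 2 := Ideal.pow_right_mono hI₀K 2
    have he : (Cotangent.mk ⟨k, hk⟩ : EQ.Cotangent) = Cotangent.mk ⟨∑ j, c j * a j, hcK⟩ := by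
      rw [Cotangent.mk_eq_mk_iff_sub_mem]
      change k - ∑ j, c j * a j ∈ K ^ 2
      have : k - ∑ j, c j * a j = (k - i) + t := by rw [← hst]; ring
      rw [this]
      exact Ideal.add_mem _ hki (hsq ht)
    have hx : (⟨Cotangent.mk ⟨k, hk⟩, hy⟩ : LinearMap.ker π) =
        ∑ j, (algebraMap Q T (c j)) • v j := by
      apply Subtype.ext
      change (Cotangent.mk ⟨k, hk⟩ : EQ.Cotangent) =
        ((∑ j, (algebraMap Q T (c j)) • v j : LinearMap.ker π) : EQ.Cotangent)
      rw [he, ← hsum c hcK, Submodule.coe_sum]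
      exact Finset.sum_congr rfl (fun j _ => rfl)
    rw [hx]
    exact Submodule.sum_mem _ (fun j _ => Submodule.smul_mem _ _ (Submodule.subset_span ⟨j, rfl⟩))
  let bs : Module.Basis (Fin b) T (LinearMap.ker π) := Module.Basis.mk hli hsp
  obtain ⟨l, hl⟩ := Module.projective_lifting_property π LinearMap.id hπsurj
  have hex : Function.Exact (LinearMap.ker π).subtype π := LinearMap.exact_subtype_ker_map π
  let e := (hex.splitSurjectiveEquiv (Submodule.injective_subtype _) ⟨l, hl⟩).1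
  exact ⟨e.trans (bs.equivFun.prodCongr (LinearEquiv.refl T _))⟩

end E3


section Gens

/-- lifts of a basis of the conormal model generate the ideal modulo its square and are
independent modulo the square -/
theorem Pres.exists_gens {R T : Type u} [CommRing R] [CommRing T] [Algebra R T] {a b : ℕ}
    (D : Pres R T a b) :
    ∃ a' : Fin b → D.P, (∀ j, a' j ∈ RingHom.ker (algebraMap D.P T)) ∧
      RingHom.ker (algebraMap D.P T) ≤
        Ideal.span (Set.range a') ⊔ RingHom.ker (algebraMap D.P T) ^ 2 ∧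
      ∀ q : Fin b → D.P, ∑ j, q j * a' j ∈ RingHom.ker (algebraMap D.P T) ^ 2 →
        ∀ j, q j ∈ RingHom.ker (algebraMap D.P T) := by
  choose m hm using fun j => D.hc (D.bN j)
  have hsm : ∀ q : Fin b → D.P, D.ι (∑ j, q j • m j) = ∑ j, q j * D.ι (m j) := by
    intro q
    rw [map_sum]
    exact Finset.sum_congr rfl (fun j _ => by rw [map_smul, smul_eq_mul])
  have hcm : ∀ q : Fin b → D.P, D.c (∑ j, q j • m j) = ∑ j, algebraMap D.P T (q j) • D.bN j := by
    intro q
    rw [map_sum]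
    exact Finset.sum_congr rfl (fun j _ => by rw [map_smul, hm, algebraMap_smul])
  refine ⟨fun j => D.ι (m j), fun j => D.hιk _, ?_, ?_⟩
  · intro i hi
    obtain ⟨m₀, rfl⟩ := D.hιr i hi
    choose q hq using fun j => D.surj (D.bN.repr (D.c m₀) j)
    have h0 : D.c (m₀ - ∑ j, q j • m j) = 0 := by
      rw [map_sub, hcm, sub_eq_zero]
      conv_lhs => rw [← D.bN.sum_repr (D.c m₀)]
      exact Finset.sum_congr rfl (fun j _ => by rw [hq])
    rw [D.hck, map_sub, hsm] at h0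
    rw [Submodule.mem_sup]
    refine ⟨∑ j, q j * D.ι (m j), ?_, _, h0, by ring⟩
    exact Ideal.sum_mem _ (fun j _ => Ideal.mul_mem_left _ _ (Ideal.subset_span ⟨j, rfl⟩))
  · intro q hq j
    rw [← hsm, ← D.hck, hcm] at hq
    have := Fintype.linearIndependent_iff.mp D.bN.linearIndependent _ hq j
    exact this

variable {Pg B : Type u} [CommRing Pg] [CommRing B] [Algebra Pg B]

theorem poly_gen (n : ℕ) (I : Ideal Pg) {b : ℕ} (a' : Fin b → Pg)
    (hgen : I ≤ Ideal.span (Set.range a') ⊔ I ^ 2) :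
    Ideal.map (MvPolynomial.C (σ := Fin n)) I ≤
      Ideal.span (Set.range (fun j => MvPolynomial.C (σ := Fin n) (a' j))) ⊔
        (Ideal.map (MvPolynomial.C (σ := Fin n)) I) ^ 2 := by
  refine (Ideal.map_mono hgen).trans ?_
  rw [Ideal.map_sup, Ideal.map_span, Ideal.map_pow, ← Set.range_comp]
  rfl

theorem poly_ind (n : ℕ) (I : Ideal Pg) {b : ℕ} (a' : Fin b → Pg)
    (hind : ∀ q : Fin b → Pg, ∑ j, q j * a' j ∈ I ^ 2 → ∀ j, q j ∈ I)
    (p : Fin b → MvPolynomial (Fin n) Pg)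
    (hp : ∑ j, p j * MvPolynomial.C (a' j) ∈ (Ideal.map (MvPolynomial.C (σ := Fin n)) I) ^ 2)
    (j : Fin b) : p j ∈ Ideal.map (MvPolynomial.C (σ := Fin n)) I := by
  rw [← Ideal.map_pow, MvPolynomial.mem_map_C_iff] at hp
  rw [MvPolynomial.mem_map_C_iff]
  intro m
  refine hind (fun j => (p j).coeff m) ?_ j
  have := hp m
  rw [MvPolynomial.coeff_sum] at this
  have h2 : ∀ j, MvPolynomial.coeff m (p j * MvPolynomial.C (a' j)) =
      MvPolynomial.coeff m (p j) * a' j := fun j => by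
    rw [mul_comm, MvPolynomial.coeff_C_mul, mul_comm]
  simpa [h2] using this

end Gens


section Main
variable {A B C : Type u} [CommRing A] [CommRing B] [CommRing C] [Algebra A B] [Algebra B C]
  [Algebra A C] [IsScalarTower A B C] [Nontrivial C]

/-- reshuffling a fourfold product -/
def shuffle (R G Y H F : Type u) [CommRing R] [AddCommGroup G] [Module R G] [AddCommGroup Y]
    [Module R Y] [AddCommGroup H] [Module R H] [AddCommGroup F] [Module R F] :
    (((G × Y) × H) × F) ≃ₗ[R] ((G × H) × (Y × F)) where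
  toFun x := ((x.1.1.1, x.1.2), (x.1.1.2, x.2))
  invFun x := (((x.1.1, x.2.1), x.1.2), x.2.2)
  map_add' _ _ := rfl
  map_smul' _ _ := rfl
  left_inv _ := rfl
  right_inv _ := rfl

/-- **virtual relative dimensions add under composition** (algebra form) -/
theorem comp_rank {ag bg af bf ah bh : ℕ} (Dg : Pres A B ag bg) (Df : Pres B C af bf)
    (Dh : Pres A C ah bh) (hL : LCI.IsLCI B C) :
    (ah : ℤ) - bh = ((af : ℤ) - bf) + ((ag : ℤ) - bg) := by
  obtain ⟨-, n, α, hα, hKos⟩ := hL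
  let Q := MvPolynomial (Fin n) Dg.P
  let L := MvPolynomial (Fin n) B
  let ψ : Q →+* L := MvPolynomial.map (algebraMap Dg.P B)
  letI algQL : Algebra Q L := ψ.toAlgebra
  letI algLC : Algebra L C := α.toRingHom.toAlgebra
  haveI twBLC : IsScalarTower B L C :=
    IsScalarTower.of_algebraMap_eq (fun b => (α.commutes b).symm)
  letI algQC : Algebra Q C := ((algebraMap L C).comp (algebraMap Q L)).toAlgebra
  haveI twQLC : IsScalarTower Q L C := IsScalarTower.of_algebraMap_eq (fun _ => rfl)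
  letI algPgC : Algebra Dg.P C := ((algebraMap B C).comp (algebraMap Dg.P B)).toAlgebra
  haveI twPgBC : IsScalarTower Dg.P B C := IsScalarTower.of_algebraMap_eq (fun _ => rfl)
  have hQC_C : ∀ p : Dg.P, algebraMap Q C (MvPolynomial.C p) =
      algebraMap B C (algebraMap Dg.P B p) := by
    intro p
    change α (MvPolynomial.map (algebraMap Dg.P B) (MvPolynomial.C p)) = _
    rw [MvPolynomial.map_C]
    exact α.commutes _
  haveI twPgQC : IsScalarTower Dg.P Q C :=
    IsScalarTower.of_algebraMap_eq (fun p => (hQC_C p).symm)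
  haveI twAQC : IsScalarTower A Q C := IsScalarTower.of_algebraMap_eq (fun a => by
    rw [IsScalarTower.algebraMap_apply A Dg.P Q, ← IsScalarTower.algebraMap_apply Dg.P Q C,
      IsScalarTower.algebraMap_apply Dg.P B C, ← IsScalarTower.algebraMap_apply A Dg.P B,
      ← IsScalarTower.algebraMap_apply A B C])
  haveI : Algebra.FormallySmooth Dg.P Q := inferInstance
  haveI : Algebra.FormallySmooth A Q := Algebra.FormallySmooth.comp A Dg.P Q
  haveI : Algebra.FormallySmooth B L := inferInstance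
  have hQL : Surjective (algebraMap Q L) := MvPolynomial.map_surjective _ Dg.surj
  have hLC : Surjective (algebraMap L C) := hα
  have hQC : Surjective (algebraMap Q C) := hLC.comp hQL
  -- the presentation of `C` over `B`
  obtain ⟨E2⟩ := core B L Df.P C hLC Df.surj
  obtain ⟨eNf⟩ := cotangent_model B Df.surj Df.ι Df.hιr Df.hιk Df.c Df.hc Df.hck
  let fWf : (C ⊗[Df.P] Ω[Df.P⁄B]) ≃ₗ[C] (Fin af → C) := Df.eW.symm.trans Df.bW.equivFun
  let fNf : (ext B Df.surj).Cotangent ≃ₗ[C] (Fin bf → C) := eNf.symm.trans Df.bN.equivFun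
  let fLn : (C ⊗[L] Ω[L⁄B]) ≃ₗ[C] (Fin n → C) :=
    ((mvPolynomialBasis B (Fin n)).baseChange C).equivFun
  let E2' : ((ext B hLC).Cotangent × (Fin af → C)) ≃ₗ[C] ((Fin bf → C) × (Fin n → C)) :=
    ((LinearEquiv.refl C _).prodCongr fWf).symm.trans (E2.trans (fNf.prodCongr fLn))
  -- the presentation of `C` over `A`
  obtain ⟨E1⟩ := core A Q Dh.P C hQC Dh.surj
  obtain ⟨eNh⟩ := cotangent_model A Dh.surj Dh.ι Dh.hιr Dh.hιk Dh.c Dh.hc Dh.hck
  let fWh : (C ⊗[Dh.P] Ω[Dh.P⁄A]) ≃ₗ[C] (Fin ah → C) := Dh.eW.symm.trans Dh.bW.equivFun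
  let fNh : (ext A Dh.surj).Cotangent ≃ₗ[C] (Fin bh → C) := eNh.symm.trans Dh.bN.equivFun
  obtain ⟨ks⟩ := kaehler_split A Dg.P Q
  let t1 : C ⊗[Q] Ω[Q⁄A] ≃ₗ[C] C ⊗[Q] ((Q ⊗[Dg.P] Ω[Dg.P⁄A]) × Ω[Q⁄Dg.P]) :=
    AlgebraTensorModule.congr (LinearEquiv.refl C C) ks
  let t2 := TensorProduct.prodRight Q C C (Q ⊗[Dg.P] Ω[Dg.P⁄A]) Ω[Q⁄Dg.P]
  let t3 : C ⊗[Q] (Q ⊗[Dg.P] Ω[Dg.P⁄A]) ≃ₗ[C] C ⊗[Dg.P] Ω[Dg.P⁄A] :=
    AlgebraTensorModule.cancelBaseChange Dg.P Q C C Ω[Dg.P⁄A]
  let t4 : C ⊗[B] (B ⊗[Dg.P] Ω[Dg.P⁄A]) ≃ₗ[C] C ⊗[Dg.P] Ω[Dg.P⁄A] :=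
    AlgebraTensorModule.cancelBaseChange Dg.P B C C Ω[Dg.P⁄A]
  let t5 : C ⊗[B] Dg.W ≃ₗ[C] C ⊗[B] (B ⊗[Dg.P] Ω[Dg.P⁄A]) :=
    AlgebraTensorModule.congr (LinearEquiv.refl C C) Dg.eW
  let t6 : C ⊗[B] Dg.W ≃ₗ[C] (Fin ag → C) := (Dg.bW.baseChange C).equivFun
  let t7 : C ⊗[Q] Ω[Q⁄Dg.P] ≃ₗ[C] (Fin n → C) :=
    ((mvPolynomialBasis Dg.P (Fin n)).baseChange C).equivFun
  let fQ : C ⊗[Q] Ω[Q⁄A] ≃ₗ[C] (Fin ag → C) × (Fin n → C) :=
    (t1.trans t2).trans (((t3.trans t4.symm).trans (t5.symm.trans t6)).prodCongr t7)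
  let E1' : ((ext A hQC).Cotangent × (Fin ah → C)) ≃ₗ[C]
      ((Fin bh → C) × ((Fin ag → C) × (Fin n → C))) :=
    ((LinearEquiv.refl C _).prodCongr fWh).symm.trans (E1.trans (fNh.prodCongr fQ))
  -- the conormal sequence
  haveI : Module.Projective C ((ext B hLC).Cotangent × (Fin af → C)) :=
    Module.Projective.of_equiv E2'.symm
  haveI : Module.Projective C (ext B hLC).Cotangent :=
    Module.Projective.of_split (LinearMap.inl C _ (Fin af → C)) (LinearMap.fst C _ _)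
      (by ext; simp)
  haveI : Module.Projective C (ext Q (Q := L) hLC).Cotangent :=
    Module.Projective.of_equiv (cotEquiv B Q hLC)
  obtain ⟨a', ha', hgen, hind⟩ := Pres.exists_gens Dg
  have hkerQL : RingHom.ker (algebraMap Q L) =
      Ideal.map MvPolynomial.C (RingHom.ker (algebraMap Dg.P B)) := MvPolynomial.ker_map _
  have hJmap : (RingHom.ker (algebraMap Q C)).map (algebraMap Q L) = RingHom.ker α.toRingHom := by
    have : RingHom.ker (algebraMap Q C) = (RingHom.ker (algebraMap L C)).comap (algebraMap Q L) :=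
      (RingHom.comap_ker _ _).symm
    rw [this, Ideal.map_comap_of_surjective _ hQL]
    rfl
  have hI₀K : RingHom.ker (algebraMap Q L) ≤ RingHom.ker (algebraMap Q C) := by
    intro q hq
    rw [RingHom.mem_ker, IsScalarTower.algebraMap_apply Q L C, (RingHom.mem_ker).mp hq, map_zero]
  have hint : RingHom.ker (algebraMap Q L) ⊓ RingHom.ker (algebraMap Q C) ^ 2 ≤
      RingHom.ker (algebraMap Q L) * RingHom.ker (algebraMap Q C) := by
    refine h1inter (algebraMap Q L) hQL _ _ rfl hI₀K ?_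
    intro 𝔮 h𝔮 hle
    rw [hJmap] at hle
    obtain ⟨g, hg, l, hl, hspan⟩ := hKos ⟨𝔮, h𝔮⟩ hle
    refine ⟨g, hg, l.length, l.get,
      Groth.Agent.Lead.KoszulH1.isH1Regular_of_isKoszulRegularSeq l hl, ?_⟩
    rw [hJmap, hspan]
    congr 1
    ext x
    simp only [Set.mem_range, List.mem_iff_get]
    exact Iff.rfl
  obtain ⟨E3⟩ := e3 hQL hLC hQC hint (fun j => MvPolynomial.C (a' j))
    (fun j => by rw [hkerQL]; exact Ideal.mem_map_of_mem _ (ha' j))
    (by rw [hkerQL]; exact poly_gen n _ a' hgen)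
    (by rw [hkerQL]; exact poly_ind n _ a' hind)
  let E3' : (ext A hQC).Cotangent ≃ₗ[C] ((Fin bg → C) × (ext B hLC).Cotangent) :=
    (cotEquiv A Q hQC).trans (E3.trans ((LinearEquiv.refl C _).prodCongr (cotEquiv Q B hLC)))
  let Φ : (((Fin bh → C) × ((Fin ag → C) × (Fin n → C))) × (Fin af → C)) ≃ₗ[C]
      (((Fin bg → C) × (Fin ah → C)) × ((Fin bf → C) × (Fin n → C))) :=
    (E1'.prodCongr (LinearEquiv.refl C (Fin af → C))).symm.trans
      (((E3'.prodCongr (LinearEquiv.refl C (Fin ah → C))).prodCongr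
        (LinearEquiv.refl C (Fin af → C))).trans
        ((shuffle C _ _ _ _).trans ((LinearEquiv.refl C _).prodCongr E2')))
  have hfin := Φ.finrank_eq
  simp only [Module.finrank_prod, Module.finrank_fin_fun] at hfin
  omega

end Main

end Groth.Agent.Lead.VirtComp
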