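import Groth.Agent.Lead.VirtDim
import Groth.Agent.Lead.CnSplitB
import Groth.Agent.Lead.OmegaLocC
import Groth.Agent.Lead.HomDescC
import Groth.Agent.Helper4.FinLocFree2
import Mathlib

/-!
# Lead: independence of the virtual relative dimension of the factorisation (scheme side)
-/

set_option autoImplicit false
set_option linter.style.haveILetI false
open CategoryTheory CategoryTheory.Limits AlgebraicGeometry Opposite TopologicalSpace TensorProduct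
  KaehlerDifferential Function
universe u

namespace Groth.Agent.Lead.VirtDimB

open Scheme.Modules OmegaSh Groth.Agent.Lead Groth.Agent.Helper4 Groth.Agent.Helper4.FinLocFree

/-- common affine charts for two closed immersions of `X` -/
theorem exists_charts {X Y V V' : Scheme.{u}} (f : X ⟶ Y) (g : V ⟶ Y) (i : X ⟶ V)
    [IsClosedImmersion i] (hi : i ≫ g = f) (g' : V' ⟶ Y) (i' : X ⟶ V') [IsClosedImmersion i']
    (hi' : i' ≫ g' = f) (x : X) (O : X.Opens) (hx : x ∈ O) :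
    ∃ (W : Y.Opens) (V₁ : V.Opens) (V₁' : V'.Opens), IsAffineOpen W ∧ IsAffineOpen V₁ ∧
      IsAffineOpen V₁' ∧ V₁ ≤ g ⁻¹ᵁ W ∧ V₁' ≤ g' ⁻¹ᵁ W ∧ i ⁻¹ᵁ V₁ = i' ⁻¹ᵁ V₁' ∧
      x ∈ i ⁻¹ᵁ V₁ ∧ i ⁻¹ᵁ V₁ ≤ O := by
  obtain ⟨W, hW, hxW, -⟩ := FinLocFree2.exists_affine_nhd_le (f x) ⊤ trivial
  have h1 : i x ∈ g ⁻¹ᵁ W := by
    change g (i x) ∈ W
    rw [← Scheme.Hom.comp_apply, hi]
    exact hxW
  have h1' : i' x ∈ g' ⁻¹ᵁ W := by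
    change g' (i' x) ∈ W
    rw [← Scheme.Hom.comp_apply, hi']
    exact hxW
  obtain ⟨V₂, hV₂, hxV₂, hV₂W⟩ := FinLocFree2.exists_affine_nhd_le (i x) (g ⁻¹ᵁ W) h1
  obtain ⟨V₂', hV₂', hxV₂', hV₂'W⟩ := FinLocFree2.exists_affine_nhd_le (i' x) (g' ⁻¹ᵁ W) h1'
  let O' : X.Opens := O ⊓ i ⁻¹ᵁ V₂ ⊓ i' ⁻¹ᵁ V₂'
  have hxO' : x ∈ O' := ⟨⟨hx, hxV₂⟩, hxV₂'⟩
  obtain ⟨G, hG, hGO⟩ := i.isEmbedding.isInducing.isOpen_iff.mp O'.2
  have hxG : i x ∈ (⟨G, hG⟩ : V.Opens) := by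
    change x ∈ i ⁻¹' G
    rw [hGO]
    exact hxO'
  obtain ⟨h, hle, hxh⟩ := hV₂.exists_basicOpen_le ⟨i x, hxG⟩ hxV₂
  have hV₃ : IsAffineOpen (V.basicOpen h) := hV₂.basicOpen h
  have hX₁O' : i ⁻¹ᵁ (V.basicOpen h) ≤ O' := by
    intro y hy
    have h2 : y ∈ i ⁻¹' G := hle hy
    rw [hGO] at h2
    exact h2
  obtain ⟨G', hG', hG'X⟩ := i'.isEmbedding.isInducing.isOpen_iff.mp (i ⁻¹ᵁ (V.basicOpen h)).2
  have hxG' : i' x ∈ (⟨G', hG'⟩ : V'.Opens) := by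
    change x ∈ i' ⁻¹' G'
    rw [hG'X]
    exact hxh
  obtain ⟨h', hle', hxh'⟩ := hV₂'.exists_basicOpen_le ⟨i' x, hxG'⟩ hxV₂'
  have hX₀X₁ : i' ⁻¹ᵁ (V'.basicOpen h') ≤ i ⁻¹ᵁ (V.basicOpen h) := by
    intro y hy
    have h2 : y ∈ i' ⁻¹' G' := hle' hy
    rw [hG'X] at h2
    exact h2
  have e₁ : i ⁻¹ᵁ (V.basicOpen h) ≤ i' ⁻¹ᵁ V₂' := fun y hy => (hX₁O' hy).2
  obtain ⟨t, ht⟩ := i.app_surjective (V.basicOpen h) hV₃
    (i'.appLE V₂' (i ⁻¹ᵁ (V.basicOpen h)) e₁ h')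
  have hpre : i ⁻¹ᵁ (V.basicOpen t) = i' ⁻¹ᵁ (V'.basicOpen h') := by
    rw [Scheme.preimage_basicOpen, ht, Scheme.basicOpen_appLE]
    exact inf_eq_right.mpr hX₀X₁
  refine ⟨W, V.basicOpen t, V'.basicOpen h', hW, hV₃.basicOpen t, hV₂'.basicOpen h', ?_, ?_,
    hpre, ?_, ?_⟩
  · exact fun y hy => hV₂W (V.basicOpen_le h (V.basicOpen_le t hy))
  · exact fun y hy => hV₂'W (V'.basicOpen_le h' hy)
  · rw [hpre]
    exact hxh'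
  · rw [hpre]
    exact fun y hy => (hX₁O' (hX₀X₁ hy)).1.1

/-- an open neighbourhood over which a module, locally free of rank `r` on an open, is free -/
theorem exists_open_isFreeAlong {X : Scheme.{u}} (F : X.Modules) (W : X.Opens) (r : ℕ)
    (hfree : FlatMod.IsFinLocFreeOfRank r (F.restrict W.ι)) (z : X) (hz : z ∈ W) :
    ∃ O : X.Opens, z ∈ O ∧ IsFreeAlong F O.ι r := by
  obtain ⟨V₀, hzV₀, ⟨iso⟩⟩ := hfree ⟨z, hz⟩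
  have hfa : IsFreeAlong F (V₀.ι ≫ W.ι) r := (IsFreeAlong.restrict_iff _ _).mp ⟨iso⟩
  exact ⟨(V₀.ι ≫ W.ι).opensRange, ⟨⟨⟨z, hz⟩, hzV₀⟩, rfl⟩, hfa.opensRange⟩

set_option backward.isDefEq.respectTransparency false in
/-- the algebraic data attached to a factorisation on a good affine chart -/
theorem exists_pres {X Y V : Scheme.{u}} (f : X ⟶ Y) (g : V ⟶ Y) [Smooth g] (i : X ⟶ V)
    [IsClosedImmersion i] (hi : i ≫ g = f) (Ω : V.Modules) (d : OmegaSh.Der g Ω)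
    (hd : OmegaSh.IsUniversal d) {W : Y.Opens} (hW : IsAffineOpen W) {V₁ : V.Opens}
    (hV₁ : IsAffineOpen V₁) (eV : V₁ ≤ g ⁻¹ᵁ W) (X₀ : X.Opens) (hX₀ : X₀ = i ⁻¹ᵁ V₁)
    (eXW : X₀ ≤ f ⁻¹ᵁ W) {a b : ℕ}
    (ha : IsFreeAlong ((Scheme.Modules.pullback i).obj Ω) X₀.ι a)
    (hb : IsFreeAlong (Omega.conormal i) X₀.ι b) :
    letI := (f.appLE W X₀ eXW).hom.toAlgebra
    Nonempty (VirtDim.Pres Γ(Y, W) Γ(X, X₀) a b) := by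
  subst hX₀
  subst hi
  have hX₀ : IsAffineOpen (i ⁻¹ᵁ V₁) := hV₁.preimage i
  letI algRT := ((i ≫ g).appLE W (i ⁻¹ᵁ V₁) eXW).hom.toAlgebra
  letI algRP := (g.appLE W V₁ eV).hom.toAlgebra
  letI algPT := (i.appLE V₁ (i ⁻¹ᵁ V₁) le_rfl).hom.toAlgebra
  haveI tower : IsScalarTower Γ(Y, W) Γ(V, V₁) Γ(X, i ⁻¹ᵁ V₁) :=
    IsScalarTower.of_algebraMap_eq' (by
      change ((i ≫ g).appLE W (i ⁻¹ᵁ V₁) eXW).hom =
        (i.appLE V₁ (i ⁻¹ᵁ V₁) le_rfl).hom.comp (g.appLE W V₁ eV).hom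
      rw [← CommRingCat.hom_comp, Scheme.Hom.appLE_comp_appLE])
  have hsm : (g.appLE W V₁ eV).hom.Smooth :=
    HasRingHomProperty.appLE (P := @Smooth) g inferInstance ⟨W, hW⟩ ⟨V₁, hV₁⟩ eV
  haveI : Algebra.Smooth Γ(Y, W) Γ(V, V₁) := hsm
  haveI smooth : Algebra.FormallySmooth Γ(Y, W) Γ(V, V₁) := inferInstance
  have hsurj : Function.Surjective (i.app V₁) := i.app_surjective V₁ hV₁
  have surj : Surjective (algebraMap Γ(V, V₁) Γ(X, i ⁻¹ᵁ V₁)) := by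
    intro t
    obtain ⟨s, hs⟩ := hsurj t
    refine ⟨s, ?_⟩
    change i.appLE V₁ (i ⁻¹ᵁ V₁) le_rfl s = t
    rw [Scheme.Hom.appLE_eq_app]
    exact hs
  have halg : ∀ p : Γ(V, V₁), algebraMap Γ(V, V₁) Γ(X, i ⁻¹ᵁ V₁) p = i.app V₁ p := by
    intro p
    change i.appLE V₁ (i ⁻¹ᵁ V₁) le_rfl p = _
    rw [Scheme.Hom.appLE_eq_app]
  have hker : RingHom.ker (algebraMap Γ(V, V₁) Γ(X, i ⁻¹ᵁ V₁)) = RingHom.ker (i.app V₁).hom := by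
    ext p
    rw [RingHom.mem_ker, RingHom.mem_ker, halg]
  -- conormal model
  letI modPN : Module Γ(V, V₁) Γ(Omega.conormal i, i ⁻¹ᵁ V₁) :=
    Module.compHom _ (i.appLE V₁ (i ⁻¹ᵁ V₁) le_rfl).hom
  haveI towerN : IsScalarTower Γ(V, V₁) Γ(X, i ⁻¹ᵁ V₁) Γ(Omega.conormal i, i ⁻¹ᵁ V₁) :=
    IsScalarTower.of_compHom _ _ _
  let ι : Γ(ClSub.idealMod i.ker, V₁) →ₗ[Γ(V, V₁)] Γ(V, V₁) :=
    { toFun := fun m => idealSect i.ker V₁ m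
      map_add' := fun m n => map_add _ m n
      map_smul' := fun t m => by
        rw [OmegaCnC.idealSect_smul]
        rfl }
  let c : Γ(ClSub.idealMod i.ker, V₁) →ₗ[Γ(V, V₁)] Γ(Omega.conormal i, i ⁻¹ᵁ V₁) :=
    { toFun := fun m => conormalSect i V₁ m
      map_add' := fun m n => map_add _ m n
      map_smul' := fun t m => by
        rw [OmegaCnG.conormalSect_smul]
        rfl }
  have hιr : ∀ p, algebraMap Γ(V, V₁) Γ(X, i ⁻¹ᵁ V₁) p = 0 → ∃ m, ι m = p := by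
    intro p hp
    rw [halg] at hp
    exact OmegaCnB.exists_idealSect i hV₁ p hp
  have hιk : ∀ m, algebraMap Γ(V, V₁) Γ(X, i ⁻¹ᵁ V₁) (ι m) = 0 := by
    intro m
    rw [halg]
    exact OmegaCnB.app_idealSect i hV₁ m
  have hc : Surjective c := fun n => OmegaCnH.exists_conormalSect i hV₁ hX₀ hsurj n
  have hck : ∀ m, c m = 0 ↔ ι m ∈ (RingHom.ker (algebraMap Γ(V, V₁) Γ(X, i ⁻¹ᵁ V₁))) ^ 2 := by
    intro m
    rw [hker]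
    exact ⟨fun h => OmegaCnF.idealSect_mem_sq i hV₁ hX₀ hsurj m h,
      fun h => OmegaCnC.conormalSect_eq_zero i hV₁ m h⟩
  -- differentials
  haveI := OmegaLocB.isQuasicoherent_of_isUniversal g d hd
  letI modPW : Module Γ(V, V₁) Γ((Scheme.Modules.pullback i).obj Ω, i ⁻¹ᵁ V₁) :=
    Module.compHom _ (i.appLE V₁ (i ⁻¹ᵁ V₁) le_rfl).hom
  haveI towerW : IsScalarTower Γ(V, V₁) Γ(X, i ⁻¹ᵁ V₁)
      Γ((Scheme.Modules.pullback i).obj Ω, i ⁻¹ᵁ V₁) := IsScalarTower.of_compHom _ _ _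
  obtain ⟨ρ, hρ, hbc⟩ := BCMap.exists_isBaseChange_pbSec i Ω hV₁ hX₀ le_rfl
  obtain ⟨ε, -⟩ := OmegaLocC.exists_sectionsEquiv g d hd hV₁ hW eV
  let eW : Γ((Scheme.Modules.pullback i).obj Ω, i ⁻¹ᵁ V₁) ≃ₗ[Γ(X, i ⁻¹ᵁ V₁)]
      Γ(X, i ⁻¹ᵁ V₁) ⊗[Γ(V, V₁)] Ω[Γ(V, V₁)⁄Γ(Y, W)] :=
    hbc.equiv.symm.trans (TensorProduct.AlgebraTensorModule.congr (LinearEquiv.refl _ _) ε)
  -- bases
  haveI : ((Scheme.Modules.pullback i).obj Ω).IsQuasicoherent :=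
    StalkPull.isQuasicoherent_pullbackObj i Ω
  haveI : (Omega.conormal i).IsQuasicoherent :=
    StalkPull.isQuasicoherent_pullbackObj i (ClSub.idealMod i.ker)
  obtain ⟨bW⟩ := (isFreeAlong_ι_iff_basis hX₀ _).mp ha
  obtain ⟨bN⟩ := (isFreeAlong_ι_iff_basis hX₀ _).mp hb
  exact ⟨{ P := Γ(V, V₁), surj := surj, M := Γ(ClSub.idealMod i.ker, V₁),
           N := Γ(Omega.conormal i, i ⁻¹ᵁ V₁),
           W := Γ((Scheme.Modules.pullback i).obj Ω, i ⁻¹ᵁ V₁),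
           ι := ι, hιr := hιr, hιk := hιk, c := c, hc := hc, hck := hck, eW := eW,
           bN := bN, bW := bW }⟩

/-- **the virtual relative dimension does not depend on the factorisation** -/
theorem main {X Y V V' : Scheme.{u}} (f : X ⟶ Y)
    (g : V ⟶ Y) [Smooth g] (i : X ⟶ V) [IsClosedImmersion i] (hi : i ≫ g = f)
    (g' : V' ⟶ Y) [Smooth g'] (i' : X ⟶ V') [IsClosedImmersion i'] (hi' : i' ≫ g' = f)
    (Ω : V.Modules) (d : OmegaSh.Der g Ω) (hd : OmegaSh.IsUniversal d)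
    (Ω' : V'.Modules) (d' : OmegaSh.Der g' Ω') (hd' : OmegaSh.IsUniversal d')
    (x : X) (a b a' b' : ℕ) (U₁ U₂ U₃ U₄ : X.Opens) (h₁ : x ∈ U₁) (h₂ : x ∈ U₂) (h₃ : x ∈ U₃)
    (h₄ : x ∈ U₄)
    (ha : FlatMod.IsFinLocFreeOfRank a ((Scheme.Modules.restrictFunctor U₁.ι).obj
      ((Scheme.Modules.pullback i).obj Ω)))
    (hb : FlatMod.IsFinLocFreeOfRank b ((Scheme.Modules.restrictFunctor U₂.ι).obj
      (Omega.conormal i)))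
    (ha' : FlatMod.IsFinLocFreeOfRank a' ((Scheme.Modules.restrictFunctor U₃.ι).obj
      ((Scheme.Modules.pullback i').obj Ω')))
    (hb' : FlatMod.IsFinLocFreeOfRank b' ((Scheme.Modules.restrictFunctor U₄.ι).obj
      (Omega.conormal i'))) :
    (a : ℤ) - b = (a' : ℤ) - b' := by
  obtain ⟨O₁, hxO₁, hf₁⟩ := exists_open_isFreeAlong _ U₁ a ha x h₁
  obtain ⟨O₂, hxO₂, hf₂⟩ := exists_open_isFreeAlong _ U₂ b hb x h₂
  obtain ⟨O₃, hxO₃, hf₃⟩ := exists_open_isFreeAlong _ U₃ a' ha' x h₃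
  obtain ⟨O₄, hxO₄, hf₄⟩ := exists_open_isFreeAlong _ U₄ b' hb' x h₄
  obtain ⟨W, V₁, V₁', hW, hV₁, hV₁', eV, eV', hpre, hxX₀, hX₀O⟩ :=
    exists_charts f g i hi g' i' hi' x (O₁ ⊓ O₂ ⊓ O₃ ⊓ O₄) ⟨⟨⟨hxO₁, hxO₂⟩, hxO₃⟩, hxO₄⟩
  have eXW : i ⁻¹ᵁ V₁ ≤ f ⁻¹ᵁ W := by
    intro y hy
    change f y ∈ W
    rw [← hi]
    exact eV hy
  letI := (f.appLE W (i ⁻¹ᵁ V₁) eXW).hom.toAlgebra
  obtain ⟨D⟩ := exists_pres f g i hi Ω d hd hW hV₁ eV (i ⁻¹ᵁ V₁) rfl eXW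
    (hf₁.of_le (fun y hy => (hX₀O hy).1.1.1)) (hf₂.of_le (fun y hy => (hX₀O hy).1.1.2))
  obtain ⟨D'⟩ := exists_pres f g' i' hi' Ω' d' hd' hW hV₁' eV' (i ⁻¹ᵁ V₁) hpre eXW
    (hf₃.of_le (fun y hy => (hX₀O hy).1.2)) (hf₄.of_le (fun y hy => (hX₀O hy).2))
  haveI : Nonempty (i ⁻¹ᵁ V₁ : X.Opens) := ⟨⟨x, hxX₀⟩⟩
  haveI : Nontrivial Γ(X, i ⁻¹ᵁ V₁) := Scheme.component_nontrivial X _
  exact D.rank_eq D'

end Groth.Agent.Lead.VirtDimB
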