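import Groth.Agent.Lead.VirtComp
import Groth.Agent.Lead.VirtDimB
import Groth.Agent.Helper3.KosBridgeC
import Mathlib

/-!
# Lead: additivity of the virtual relative dimension under composition (scheme side)
-/

set_option autoImplicit false
set_option linter.style.haveILetI false
open CategoryTheory CategoryTheory.Limits AlgebraicGeometry Opposite TopologicalSpace TensorProduct
  KaehlerDifferential Function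
universe u

namespace Groth.Agent.Lead.VirtCompB

open Scheme.Modules OmegaSh Groth.Agent.Lead Groth.Agent.Helper4 Groth.Agent.Helper4.FinLocFree

/-- common affine charts for two closed immersions of `X`, inside prescribed opens -/
theorem exists_charts₂ {X V V' : Scheme.{u}} (i : X ⟶ V) [IsClosedImmersion i] (i' : X ⟶ V')
    [IsClosedImmersion i'] (x : X) (O : X.Opens) (hx : x ∈ O) (G : V.Opens) (hG : i x ∈ G)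
    (G' : V'.Opens) (hG' : i' x ∈ G') :
    ∃ (V₁ : V.Opens) (V₁' : V'.Opens), IsAffineOpen V₁ ∧ IsAffineOpen V₁' ∧ V₁ ≤ G ∧ V₁' ≤ G' ∧
      i ⁻¹ᵁ V₁ = i' ⁻¹ᵁ V₁' ∧ x ∈ i ⁻¹ᵁ V₁ ∧ i ⁻¹ᵁ V₁ ≤ O := by
  obtain ⟨V₂, hV₂, hxV₂, hV₂W⟩ := FinLocFree2.exists_affine_nhd_le (i x) G hG
  obtain ⟨V₂', hV₂', hxV₂', hV₂'W⟩ := FinLocFree2.exists_affine_nhd_le (i' x) G' hG'
  let O' : X.Opens := O ⊓ i ⁻¹ᵁ V₂ ⊓ i' ⁻¹ᵁ V₂'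
  have hxO' : x ∈ O' := ⟨⟨hx, hxV₂⟩, hxV₂'⟩
  obtain ⟨G₀, hG₀, hGO⟩ := i.isEmbedding.isInducing.isOpen_iff.mp O'.2
  have hxG : i x ∈ (⟨G₀, hG₀⟩ : V.Opens) := by
    change x ∈ i ⁻¹' G₀
    rw [hGO]
    exact hxO'
  obtain ⟨h, hle, hxh⟩ := hV₂.exists_basicOpen_le ⟨i x, hxG⟩ hxV₂
  have hV₃ : IsAffineOpen (V.basicOpen h) := hV₂.basicOpen h
  have hX₁O' : i ⁻¹ᵁ (V.basicOpen h) ≤ O' := by
    intro y hy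
    have h2 : y ∈ i ⁻¹' G₀ := hle hy
    rw [hGO] at h2
    exact h2
  obtain ⟨G₁, hG₁, hG'X⟩ := i'.isEmbedding.isInducing.isOpen_iff.mp (i ⁻¹ᵁ (V.basicOpen h)).2
  have hxG' : i' x ∈ (⟨G₁, hG₁⟩ : V'.Opens) := by
    change x ∈ i' ⁻¹' G₁
    rw [hG'X]
    exact hxh
  obtain ⟨h', hle', hxh'⟩ := hV₂'.exists_basicOpen_le ⟨i' x, hxG'⟩ hxV₂'
  have hX₀X₁ : i' ⁻¹ᵁ (V'.basicOpen h') ≤ i ⁻¹ᵁ (V.basicOpen h) := by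
    intro y hy
    have h2 : y ∈ i' ⁻¹' G₁ := hle' hy
    rw [hG'X] at h2
    exact h2
  have e₁ : i ⁻¹ᵁ (V.basicOpen h) ≤ i' ⁻¹ᵁ V₂' := fun y hy => (hX₁O' hy).2
  obtain ⟨t, ht⟩ := i.app_surjective (V.basicOpen h) hV₃
    (i'.appLE V₂' (i ⁻¹ᵁ (V.basicOpen h)) e₁ h')
  have hpre : i ⁻¹ᵁ (V.basicOpen t) = i' ⁻¹ᵁ (V'.basicOpen h') := by
    rw [Scheme.preimage_basicOpen, ht, Scheme.basicOpen_appLE]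
    exact inf_eq_right.mpr hX₀X₁
  refine ⟨V.basicOpen t, V'.basicOpen h', hV₃.basicOpen t, hV₂'.basicOpen h', ?_, ?_,
    hpre, ?_, ?_⟩
  · exact fun y hy => hV₂W (V.basicOpen_le h (V.basicOpen_le t hy))
  · exact fun y hy => hV₂'W (V'.basicOpen_le h' hy)
  · rw [hpre]
    exact hxh'
  · rw [hpre]
    exact fun y hy => (hX₁O' (hX₀X₁ hy)).1.1

/-- **virtual relative dimensions add under composition** -/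
theorem main {X Y Z V W T : Scheme.{u}} (f : X ⟶ Y) (g : Y ⟶ Z)
    (hf : ∀ x : X, Synt.IsKoszulAt f x)
    (gf : V ⟶ Y) [Smooth gf] (jf : X ⟶ V) [IsClosedImmersion jf] (hjf : jf ≫ gf = f)
    (gg : W ⟶ Z) [Smooth gg] (jg : Y ⟶ W) [IsClosedImmersion jg] (hjg : jg ≫ gg = g)
    (gh : T ⟶ Z) [Smooth gh] (jh : X ⟶ T) [IsClosedImmersion jh] (hjh : jh ≫ gh = f ≫ g)
    (Ωf : V.Modules) (df : OmegaSh.Der gf Ωf) (hdf : OmegaSh.IsUniversal df)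
    (Ωg : W.Modules) (dg : OmegaSh.Der gg Ωg) (hdg : OmegaSh.IsUniversal dg)
    (Ωh : T.Modules) (dh : OmegaSh.Der gh Ωh) (hdh : OmegaSh.IsUniversal dh)
    (x : X) (af bf ag bg ah bh : ℕ) (U₁ U₂ U₃ U₄ : X.Opens) (U₅ U₆ : Y.Opens)
    (h₁ : x ∈ U₁) (h₂ : x ∈ U₂) (h₃ : x ∈ U₃) (h₄ : x ∈ U₄) (h₅ : f x ∈ U₅) (h₆ : f x ∈ U₆)
    (haf : FlatMod.IsFinLocFreeOfRank af ((Scheme.Modules.restrictFunctor U₁.ι).obj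
      ((Scheme.Modules.pullback jf).obj Ωf)))
    (hbf : FlatMod.IsFinLocFreeOfRank bf ((Scheme.Modules.restrictFunctor U₂.ι).obj
      (Omega.conormal jf)))
    (hah : FlatMod.IsFinLocFreeOfRank ah ((Scheme.Modules.restrictFunctor U₃.ι).obj
      ((Scheme.Modules.pullback jh).obj Ωh)))
    (hbh : FlatMod.IsFinLocFreeOfRank bh ((Scheme.Modules.restrictFunctor U₄.ι).obj
      (Omega.conormal jh)))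
    (hag : FlatMod.IsFinLocFreeOfRank ag ((Scheme.Modules.restrictFunctor U₅.ι).obj
      ((Scheme.Modules.pullback jg).obj Ωg)))
    (hbg : FlatMod.IsFinLocFreeOfRank bg ((Scheme.Modules.restrictFunctor U₆.ι).obj
      (Omega.conormal jg))) :
    (ah : ℤ) - bh = ((af : ℤ) - bf) + ((ag : ℤ) - bg) := by
  obtain ⟨O₁, hxO₁, hf₁⟩ := VirtDimB.exists_open_isFreeAlong _ U₁ af haf x h₁
  obtain ⟨O₂, hxO₂, hf₂⟩ := VirtDimB.exists_open_isFreeAlong _ U₂ bf hbf x h₂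
  obtain ⟨O₃, hxO₃, hf₃⟩ := VirtDimB.exists_open_isFreeAlong _ U₃ ah hah x h₃
  obtain ⟨O₄, hxO₄, hf₄⟩ := VirtDimB.exists_open_isFreeAlong _ U₄ bh hbh x h₄
  obtain ⟨O₅, hxO₅, hf₅⟩ := VirtDimB.exists_open_isFreeAlong _ U₅ ag hag (f x) h₅
  obtain ⟨O₆, hxO₆, hf₆⟩ := VirtDimB.exists_open_isFreeAlong _ U₆ bg hbg (f x) h₆
  obtain ⟨Z₀, hZ₀, hxZ₀, -⟩ := FinLocFree2.exists_affine_nhd_le (g (f x)) ⊤ trivial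
  have hW0 : jg (f x) ∈ gg ⁻¹ᵁ Z₀ := by
    change gg (jg (f x)) ∈ Z₀
    rw [← Scheme.Hom.comp_apply, hjg]
    exact hxZ₀
  obtain ⟨W₁, -, hW₁, -, eW₁, -, -, hfxY₀, hY₀O⟩ :=
    exists_charts₂ jg jg (f x) (O₅ ⊓ O₆) ⟨hxO₅, hxO₆⟩ (gg ⁻¹ᵁ Z₀) hW0 (gg ⁻¹ᵁ Z₀) hW0
  have hY₀ : IsAffineOpen (jg ⁻¹ᵁ W₁) := hW₁.preimage jg
  have hV0 : jf x ∈ gf ⁻¹ᵁ (jg ⁻¹ᵁ W₁) := by
    change gf (jf x) ∈ jg ⁻¹ᵁ W₁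
    rw [← Scheme.Hom.comp_apply, hjf]
    exact hfxY₀
  have hT0 : jh x ∈ gh ⁻¹ᵁ Z₀ := by
    change gh (jh x) ∈ Z₀
    rw [← Scheme.Hom.comp_apply, hjh, Scheme.Hom.comp_apply]
    exact hxZ₀
  obtain ⟨V₁, T₁, hV₁, hT₁, eV₁, eT₁, hpre, hxX₀, hX₀O⟩ :=
    exists_charts₂ jf jh x (O₁ ⊓ O₂ ⊓ O₃ ⊓ O₄) ⟨⟨⟨hxO₁, hxO₂⟩, hxO₃⟩, hxO₄⟩
      (gf ⁻¹ᵁ (jg ⁻¹ᵁ W₁)) hV0 (gh ⁻¹ᵁ Z₀) hT0
  have hX₀ : IsAffineOpen (jf ⁻¹ᵁ V₁) := hV₁.preimage jf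
  have eYZ : jg ⁻¹ᵁ W₁ ≤ g ⁻¹ᵁ Z₀ := by
    intro y hy
    change g y ∈ Z₀
    rw [← hjg]
    exact eW₁ hy
  have eXY : jf ⁻¹ᵁ V₁ ≤ f ⁻¹ᵁ (jg ⁻¹ᵁ W₁) := by
    intro y hy
    change f y ∈ jg ⁻¹ᵁ W₁
    rw [← hjf]
    exact eV₁ hy
  have eXZ : jf ⁻¹ᵁ V₁ ≤ (f ≫ g) ⁻¹ᵁ Z₀ := fun y hy => eYZ (eXY hy)
  letI algAB := (g.appLE Z₀ (jg ⁻¹ᵁ W₁) eYZ).hom.toAlgebra
  letI algBC := (f.appLE (jg ⁻¹ᵁ W₁) (jf ⁻¹ᵁ V₁) eXY).hom.toAlgebra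
  letI algAC := ((f ≫ g).appLE Z₀ (jf ⁻¹ᵁ V₁) eXZ).hom.toAlgebra
  haveI tower : IsScalarTower Γ(Z, Z₀) Γ(Y, jg ⁻¹ᵁ W₁) Γ(X, jf ⁻¹ᵁ V₁) :=
    IsScalarTower.of_algebraMap_eq' (by
      change ((f ≫ g).appLE Z₀ (jf ⁻¹ᵁ V₁) eXZ).hom =
        (f.appLE (jg ⁻¹ᵁ W₁) (jf ⁻¹ᵁ V₁) eXY).hom.comp (g.appLE Z₀ (jg ⁻¹ᵁ W₁) eYZ).hom
      rw [← CommRingCat.hom_comp, Scheme.Hom.appLE_comp_appLE])
  obtain ⟨Dg⟩ := VirtDimB.exists_pres g gg jg hjg Ωg dg hdg hZ₀ hW₁ eW₁ (jg ⁻¹ᵁ W₁) rfl eYZ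
    (hf₅.of_le (fun y hy => (hY₀O hy).1)) (hf₆.of_le (fun y hy => (hY₀O hy).2))
  obtain ⟨Df⟩ := VirtDimB.exists_pres f gf jf hjf Ωf df hdf hY₀ hV₁ eV₁ (jf ⁻¹ᵁ V₁) rfl eXY
    (hf₁.of_le (fun y hy => (hX₀O hy).1.1.1)) (hf₂.of_le (fun y hy => (hX₀O hy).1.1.2))
  obtain ⟨Dh⟩ := VirtDimB.exists_pres (f ≫ g) gh jh hjh Ωh dh hdh hZ₀ hT₁ eT₁ (jf ⁻¹ᵁ V₁) hpre
    eXZ (hf₃.of_le (fun y hy => (hX₀O hy).1.2)) (hf₄.of_le (fun y hy => (hX₀O hy).2))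
  have hL := Groth.Agent.Helper3.KosBridgeC.isLCI_of_isKoszulAt f hf (jf ⁻¹ᵁ V₁) (jg ⁻¹ᵁ W₁) hX₀ hY₀ eXY
  haveI : Nonempty (jf ⁻¹ᵁ V₁ : X.Opens) := ⟨⟨x, hxX₀⟩⟩
  haveI : Nontrivial Γ(X, jf ⁻¹ᵁ V₁) := Scheme.component_nontrivial X _
  exact VirtComp.comp_rank Dg Df Dh hL

end Groth.Agent.Lead.VirtCompB
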