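import Mathlib
import Groth.Prelude

/-!
# Units of a finite algebra over a semilocal ring lift from the residue fibres
-/

set_option autoImplicit false
universe u

open TensorProduct

namespace Groth.Agent.Lead.WeilGm

theorem exists_unit_lift (A B : Type u) [CommRing A] [CommRing B] [Algebra A B]
    [Algebra.IsIntegral A B] [Finite (MaximalSpectrum A)]
    (w : ∀ m : MaximalSpectrum A, ((A ⧸ m.asIdeal) ⊗[A] B)ˣ) :
    ∃ v : Bˣ, ∀ m : MaximalSpectrum A,
      (1 : A ⧸ m.asIdeal) ⊗ₜ[A] (v : B) = (w m : (A ⧸ m.asIdeal) ⊗[A] B) := by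
  classical
  have hsurj : ∀ m : MaximalSpectrum A, ∃ b : B,
      (1 : A ⧸ m.asIdeal) ⊗ₜ[A] b = (w m : (A ⧸ m.asIdeal) ⊗[A] B) := by
    intro m
    obtain ⟨q, hq⟩ := (Algebra.TensorProduct.quotIdealMapEquivQuotTensor B m.asIdeal).surjective
      (w m : (A ⧸ m.asIdeal) ⊗[A] B)
    obtain ⟨b, rfl⟩ := Ideal.Quotient.mk_surjective q
    exact ⟨b, by rw [← hq]; rfl⟩
  choose x hx using hsurj
  have hcop : Pairwise (Function.onFun IsCoprime fun m : MaximalSpectrum A =>
      m.asIdeal.map (algebraMap A B)) := by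
    intro m m' hne
    have h1 : m.asIdeal ⊔ m'.asIdeal = ⊤ :=
      Ideal.IsMaximal.coprime_of_ne m.isMaximal m'.isMaximal
        (fun h => hne (MaximalSpectrum.ext h))
    show IsCoprime (m.asIdeal.map (algebraMap A B)) (m'.asIdeal.map (algebraMap A B))
    rw [Ideal.isCoprime_iff_sup_eq, ← Ideal.map_sup, h1, Ideal.map_top]
  obtain ⟨r, hr⟩ := Ideal.exists_forall_sub_mem_ideal hcop x
  have hrm : ∀ m : MaximalSpectrum A,
      (1 : A ⧸ m.asIdeal) ⊗ₜ[A] r = (w m : (A ⧸ m.asIdeal) ⊗[A] B) := by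
    intro m
    rw [← hx m]
    have h2 : Ideal.Quotient.mk (m.asIdeal.map (algebraMap A B)) r =
        Ideal.Quotient.mk (m.asIdeal.map (algebraMap A B)) (x m) :=
      Ideal.Quotient.eq.mpr (hr m)
    exact congrArg (Algebra.TensorProduct.quotIdealMapEquivQuotTensor B m.asIdeal) h2
  have hunit : IsUnit r := by
    by_contra hnu
    obtain ⟨n, hn, hrn⟩ := exists_max_ideal_of_mem_nonunits hnu
    have hm : (n.comap (algebraMap A B)).IsMaximal :=
      Ideal.isMaximal_comap_of_isIntegral_of_isMaximal n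
    let m : MaximalSpectrum A := ⟨n.comap (algebraMap A B), hm⟩
    have hle : m.asIdeal.map (algebraMap A B) ≤ n := Ideal.map_comap_le
    have hu : IsUnit (Ideal.Quotient.mk (m.asIdeal.map (algebraMap A B)) r) := by
      have h3 : IsUnit (Algebra.TensorProduct.quotIdealMapEquivQuotTensor B m.asIdeal
          (Ideal.Quotient.mk _ r)) := by
        show IsUnit ((1 : A ⧸ m.asIdeal) ⊗ₜ[A] r)
        rw [hrm m]
        exact (w m).isUnit
      exact (MulEquiv.isUnit_map
        (Algebra.TensorProduct.quotIdealMapEquivQuotTensor B m.asIdeal).toMulEquiv).mp h3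
    have hu' : IsUnit (Ideal.Quotient.mk n r) := by
      have h4 := hu.map (Ideal.Quotient.factor hle)
      rwa [Ideal.Quotient.factor_mk] at h4
    rw [Ideal.Quotient.eq_zero_iff_mem.mpr hrn] at hu'
    haveI : Nontrivial (B ⧸ n) := Ideal.Quotient.nontrivial_iff.mpr hn.ne_top
    exact not_isUnit_zero hu'
  exact ⟨hunit.unit, fun m => hrm m⟩

end Groth.Agent.Lead.WeilGm
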