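import Groth.Agent.Lead.WeilGmA

/-!
# Points of the Weil restriction of `G_m` along `Spec B ⟶ Spec A` with values in `Spec C`
are units of `C ⊗[A] B`
-/

set_option autoImplicit false
universe u

open CategoryTheory CategoryTheory.Limits AlgebraicGeometry TensorProduct MonObj

namespace Groth.Agent.Lead.WeilGm

section Geom

variable (A B : Type u) [CommRing A] [CommRing B] [Algebra A B]

/-- `Spec B ⟶ Spec A` -/
noncomputable abbrev ff : Spec (CommRingCat.of B) ⟶ Spec (CommRingCat.of A) :=
  Spec.map (CommRingCat.ofHom (algebraMap A B))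

/-- `Spec C` over `Spec A` -/
noncomputable abbrev TC (C : Type u) [CommRing C] [Algebra A C] :
    Over (Spec (CommRingCat.of A)) :=
  Over.mk (Spec.map (CommRingCat.ofHom (algebraMap A C)))

/-- `Spec (C ⊗ B)` over `Spec B` -/
noncomputable abbrev TC' (C : Type u) [CommRing C] [Algebra A C] :
    Over (Spec (CommRingCat.of B)) :=
  Over.mk (Spec.map (CommRingCat.ofHom
    (Algebra.TensorProduct.includeRight : B →ₐ[A] C ⊗[A] B).toRingHom))

/-- comparison with the base change -/
noncomputable def eC (C : Type u) [CommRing C] [Algebra A C] :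
    TC' A B C ≅ Red.bc (ff A B) (TC A C) :=
  Over.isoMk (pullbackSpecIso A C B).symm (pullbackSpecIso_inv_snd A C B)

theorem eC_hom_left (C : Type u) [CommRing C] [Algebra A C] :
    (eC A B C).hom.left = (pullbackSpecIso A C B).inv := rfl

/-- the morphism `Spec C' ⟶ Spec C` over `Spec A` of an algebra map -/
noncomputable def ιh {C C' : Type u} [CommRing C] [Algebra A C] [CommRing C'] [Algebra A C']
    (h : C →ₐ[A] C') : TC A C' ⟶ TC A C :=
  Over.homMk (Spec.map (CommRingCat.ofHom h.toRingHom)) (by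
    show Spec.map (CommRingCat.ofHom h.toRingHom) ≫
      Spec.map (CommRingCat.ofHom (algebraMap A C)) = Spec.map (CommRingCat.ofHom (algebraMap A C'))
    rw [← Spec.map_comp, ← CommRingCat.ofHom_comp]
    congr 2
    exact h.comp_algebraMap)

/-- the morphism `Spec (C' ⊗ B) ⟶ Spec (C ⊗ B)` over `Spec B` of an algebra map -/
noncomputable def jh {C C' : Type u} [CommRing C] [Algebra A C] [CommRing C'] [Algebra A C']
    (h : C →ₐ[A] C') : TC' A B C' ⟶ TC' A B C :=
  Over.homMk (Spec.map (CommRingCat.ofHom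
    (Algebra.TensorProduct.map h (AlgHom.id A B)).toRingHom)) (by
    show Spec.map (CommRingCat.ofHom (Algebra.TensorProduct.map h (AlgHom.id A B)).toRingHom) ≫
      Spec.map (CommRingCat.ofHom
        (Algebra.TensorProduct.includeRight : B →ₐ[A] C ⊗[A] B).toRingHom) =
      Spec.map (CommRingCat.ofHom
        (Algebra.TensorProduct.includeRight : B →ₐ[A] C' ⊗[A] B).toRingHom)
    rw [← Spec.map_comp, ← CommRingCat.ofHom_comp]
    congr 2
    ext b
    simp)

theorem eC_natural {C C' : Type u} [CommRing C] [Algebra A C] [CommRing C'] [Algebra A C']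
    (h : C →ₐ[A] C') :
    (eC A B C').hom ≫ (Over.pullback (ff A B)).map (ιh A h) = jh A B h ≫ (eC A B C).hom := by
  apply Over.OverMorphism.ext
  show (pullbackSpecIso A C' B).inv ≫
      pullback.lift (pullback.fst _ _ ≫ (ιh A h).left) (pullback.snd _ _) _ =
    Spec.map (CommRingCat.ofHom (Algebra.TensorProduct.map h (AlgHom.id A B)).toRingHom) ≫
      (pullbackSpecIso A C B).inv
  apply pullback.hom_ext
  · rw [Category.assoc, pullback.lift_fst, ← Category.assoc, pullbackSpecIso_inv_fst,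
      Category.assoc, pullbackSpecIso_inv_fst]
    show Spec.map _ ≫ Spec.map (CommRingCat.ofHom h.toRingHom) = _
    rw [← Spec.map_comp, ← Spec.map_comp, ← CommRingCat.ofHom_comp, ← CommRingCat.ofHom_comp]
    congr 2
  · rw [Category.assoc, pullback.lift_snd, pullbackSpecIso_inv_snd,
      Category.assoc, pullbackSpecIso_inv_snd]
    rw [← Spec.map_comp, ← CommRingCat.ofHom_comp]
    congr 2
    ext b
    simp

variable {A B}
variable (P : Over (Spec (CommRingCat.of A)))
  (q : Red.bc (ff A B) P ⟶ Red.Gm (Spec (CommRingCat.of B)))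

/-- the unit of `C ⊗ B` attached to a `Spec C`-point of `P` -/
noncomputable def Φ (C : Type u) [CommRing C] [Algebra A C] (g : TC A C ⟶ P) : (C ⊗[A] B)ˣ :=
  Units.map ((Scheme.ΓSpecIso (CommRingCat.of (C ⊗[A] B))).hom.hom.toMonoidHom)
    (GmPts.unitOfPt ((eC A B C).hom ≫ WeilRes.restr (ff A B) q (TC A C) g))

theorem Φ_injective (hP : WeilRes.IsWeilRes (ff A B) (Red.Gm (Spec (CommRingCat.of B))) P q)
    (C : Type u) [CommRing C] [Algebra A C] : Function.Injective (Φ P q C) := by
  intro g g' h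
  have h1 : GmPts.unitOfPt ((eC A B C).hom ≫ WeilRes.restr (ff A B) q (TC A C) g) =
      GmPts.unitOfPt ((eC A B C).hom ≫ WeilRes.restr (ff A B) q (TC A C) g') := by
    refine Units.map_injective (f := (Scheme.ΓSpecIso (CommRingCat.of (C ⊗[A] B))).hom.hom.toMonoidHom)
      ?_ h
    exact (ConcreteCategory.bijective_of_isIso
      (Scheme.ΓSpecIso (CommRingCat.of (C ⊗[A] B))).hom).1
  have h2 := (GmPts.equiv (TC' A B C)).injective h1
  have h3 := (cancel_epi (eC A B C).hom).mp h2
  exact (hP (TC A C)).1 h3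

theorem Φ_surjective (hP : WeilRes.IsWeilRes (ff A B) (Red.Gm (Spec (CommRingCat.of B))) P q)
    (C : Type u) [CommRing C] [Algebra A C] : Function.Surjective (Φ P q C) := by
  intro v
  let v' : (Γ((TC' A B C).left, ⊤))ˣ :=
    Units.map ((Scheme.ΓSpecIso (CommRingCat.of (C ⊗[A] B))).inv.hom.toMonoidHom) v
  obtain ⟨g, hg⟩ := (hP (TC A C)).2 ((eC A B C).inv ≫ GmPts.ptOfUnit v')
  refine ⟨g, ?_⟩
  rw [Φ, hg, Iso.hom_inv_id_assoc, GmPts.unitOfPt_ptOfUnit]
  ext
  show (Scheme.ΓSpecIso (CommRingCat.of (C ⊗[A] B))).hom.hom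
    ((Scheme.ΓSpecIso (CommRingCat.of (C ⊗[A] B))).inv.hom (v : C ⊗[A] B)) = v
  rw [← CommRingCat.comp_apply, Iso.inv_hom_id]
  rfl

theorem Φ_natural {C C' : Type u} [CommRing C] [Algebra A C] [CommRing C'] [Algebra A C']
    (h : C →ₐ[A] C') (g : TC A C ⟶ P) :
    Φ P q C' (ιh A h ≫ g) =
      Units.map (Algebra.TensorProduct.map h (AlgHom.id A B)).toRingHom.toMonoidHom (Φ P q C g) := by
  rw [Φ, WeilRes.restr_comp, ← Category.assoc, eC_natural, Category.assoc, GmPts.unitOfPt_comp, Φ]
  ext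
  show (Scheme.ΓSpecIso (CommRingCat.of (C' ⊗[A] B))).hom.hom
      ((jh A B h).left.appTop.hom _) =
    (Algebra.TensorProduct.map h (AlgHom.id A B))
      ((Scheme.ΓSpecIso (CommRingCat.of (C ⊗[A] B))).hom.hom _)
  have hn := Scheme.ΓSpecIso_naturality (CommRingCat.ofHom
    (Algebra.TensorProduct.map h (AlgHom.id A B)).toRingHom)
  have hn' := congrArg (fun φ => φ.hom
    ((GmPts.unitOfPt ((eC A B C).hom ≫ WeilRes.restr (ff A B) q (TC A C) g) :
      Γ((TC' A B C).left, ⊤)))) hn
  exact hn'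

end Geom

end Groth.Agent.Lead.WeilGm
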