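import Groth.Agent.Lead.WeilGmB

/-!
# Sections of the Weil restriction of `G_m` over a semilocal ring with prescribed residues
-/

set_option autoImplicit false
universe u

open CategoryTheory CategoryTheory.Limits AlgebraicGeometry TensorProduct MonObj

namespace Groth.Agent.Lead.WeilGm

theorem main (A : Type u) [CommRing A] [Finite (MaximalSpectrum A)] (B : Type u) [CommRing B]
    [Algebra A B] [Module.Finite A B]
    (P : Over (Spec (CommRingCat.of A)))
    (q : Red.bc (Spec.map (CommRingCat.ofHom (algebraMap A B))) P ⟶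
      Red.Gm (Spec (CommRingCat.of B)))
    (hP : WeilRes.IsWeilRes (Spec.map (CommRingCat.ofHom (algebraMap A B)))
      (Red.Gm (Spec (CommRingCat.of B))) P q)
    (u : ∀ m : MaximalSpectrum A, Spec (CommRingCat.of (A ⧸ m.asIdeal)) ⟶ P.left)
    (hu : ∀ m : MaximalSpectrum A,
      u m ≫ P.hom = (Spec.map (CommRingCat.ofHom (Ideal.Quotient.mk m.asIdeal)))) :
    ∃ s : Spec (CommRingCat.of A) ⟶ P.left, s ≫ P.hom = 𝟙 (Spec (CommRingCat.of A)) ∧
      ∀ m : MaximalSpectrum A,
        (Spec.map (CommRingCat.ofHom (Ideal.Quotient.mk m.asIdeal))) ≫ s = u m := by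
  let ub : ∀ m : MaximalSpectrum A, TC A (A ⧸ m.asIdeal) ⟶ P := fun m => Over.homMk (u m) (hu m)
  obtain ⟨v, hv⟩ := exists_unit_lift A B (fun m => Φ P q (A ⧸ m.asIdeal) (ub m))
  let vA : (A ⊗[A] B)ˣ :=
    Units.map (Algebra.TensorProduct.includeRight : B →ₐ[A] A ⊗[A] B).toRingHom.toMonoidHom v
  obtain ⟨g, hg⟩ := Φ_surjective P q hP A vA
  refine ⟨g.left, ?_, fun m => ?_⟩
  · rw [Over.w g]
    show Spec.map (CommRingCat.ofHom (algebraMap A A)) = 𝟙 _
    rw [Algebra.algebraMap_self]
    exact Spec.map_id _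
  · have hm : ιh A (Algebra.ofId A (A ⧸ m.asIdeal)) ≫ g = ub m := by
      apply Φ_injective P q hP
      rw [Φ_natural, hg]
      ext
      show (Algebra.TensorProduct.map (Algebra.ofId A (A ⧸ m.asIdeal)) (AlgHom.id A B))
        ((1 : A) ⊗ₜ[A] (v : B)) = _
      rw [Algebra.TensorProduct.map_tmul, map_one]
      exact hv m
    exact congrArg CommaMorphism.left hm

end Groth.Agent.Lead.WeilGm
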