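import Mathlib
import Groth.Agent.Lead.ZPnA
import Groth.Agent.Helper1.LinEmb2
import Groth.Agent.Helper1.KzPn
import Groth.Agent.Helper6.HProj
import Groth.Agent.Helper8.ZMul
import Groth.Agent.Helper8.ZPtsB
import Groth.Agent.S13055

/-!
# The zeta function of projective space over a finite field
-/

set_option autoImplicit false
set_option linter.unusedSectionVars false
set_option linter.style.haveILetI false

namespace Groth.Agent.Lead.ZPn

open CategoryTheory AlgebraicGeometry HomogeneousLocalization MvPolynomial

universe u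

section AffPts

variable {k : Type u} [Field k] (B : Type u) [CommRing B] [Algebra k B]
  (L : Type u) [Field L] [Algebra k L]

/-- `L`-points of `Spec B` over `k` are `k`-algebra maps `B → L` -/
noncomputable def ptsEquivAlgHom :
    Groth.Agent.Helper8.ZPts.Pts (Spec.map (CommRingCat.ofHom (algebraMap k B))) L ≃
      (B →ₐ[k] L) where
  toFun g :=
    { (Spec.preimage (R := CommRingCat.of B) (S := CommRingCat.of L) g.1).hom with
      commutes' := by
        intro c
        have h1 : CommRingCat.ofHom (algebraMap k B) ≫
            Spec.preimage (R := CommRingCat.of B) (S := CommRingCat.of L) g.1 =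
            CommRingCat.ofHom (algebraMap k L) := by
          apply Spec.map_injective
          rw [Spec.map_comp, Spec.map_preimage]
          exact g.2
        exact congrArg (fun φ => φ.hom c) h1 }
  invFun φ := ⟨Spec.map (CommRingCat.ofHom (φ : B →+* L)), by
    rw [← Spec.map_comp]
    congr 1
    exact CommRingCat.hom_ext (RingHom.ext fun c => φ.commutes c)⟩
  left_inv g := Subtype.ext (Spec.map_preimage _)
  right_inv φ := by
    apply AlgHom.ext
    intro b
    show (Spec.preimage (Spec.map (CommRingCat.ofHom (φ : B →+* L)))).hom b = φ b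
    rw [Spec.preimage_map]
    rfl

theorem pointCount_spec :
    SgaExt.pointCount (Spec.map (CommRingCat.ofHom (algebraMap k B))) L =
      Nat.card (B →ₐ[k] L) :=
  Nat.card_congr (ptsEquivAlgHom B L)

/-- algebra maps out of a polynomial ring -/
noncomputable def mvAlgHomEquiv (n : ℕ) : (MvPolynomial (Fin n) k →ₐ[k] L) ≃ (Fin n → L) where
  toFun φ := fun i => φ (X i)
  invFun v := aeval v
  left_inv φ := (aeval_unique φ).symm
  right_inv v := by funext i; simp

theorem pointCount_affineSpace (n : ℕ) [Finite L] :
    SgaExt.pointCount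
      (Spec.map (CommRingCat.ofHom (algebraMap k (MvPolynomial (Fin n) k)))) L =
      Nat.card L ^ n := by
  rw [pointCount_spec, Nat.card_congr (mvAlgHomEquiv L n), Nat.card_fun, Nat.card_fin]

instance lft_spec_mv (n : ℕ) : LocallyOfFiniteType
    (Spec.map (CommRingCat.ofHom (algebraMap k (MvPolynomial (Fin n) k)))) := by
  rw [HasRingHomProperty.Spec_iff (P := @LocallyOfFiniteType)]
  exact RingHom.finiteType_algebraMap.mpr inferInstance

variable [Finite k]

theorem nPts_affineSpace (n m : ℕ) (hm : 1 ≤ m) :
    Zeta.nPts (Spec.map (CommRingCat.ofHom (algebraMap k (MvPolynomial (Fin n) k)))) m =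
      (Nat.card k ^ m) ^ n := by
  obtain ⟨L, _, _, _, hL⟩ := Groth.Agent.Helper8.ZMul.exists_extension k m hm
  rw [← hL, ← Groth.Agent.Helper8.ZPts.pointCount_eq_nPts, pointCount_affineSpace,
    Module.natCard_eq_pow_finrank (K := k) (V := L)]

/-- the zeta function of affine `n`-space -/
theorem zetaFun_affineSpace (n : ℕ) :
    Zeta.zetaFun (Spec.map (CommRingCat.ofHom (algebraMap k (MvPolynomial (Fin n) k)))) *
      (1 - PowerSeries.C ((Nat.card k : ℚ) ^ n) * PowerSeries.X) = 1 := by
  have h := Groth.Agent.S13055.result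
    (Spec.map (CommRingCat.ofHom (algebraMap k (MvPolynomial (Fin n) k))))
    ((Polynomial.X : Polynomial ℤ) ^ n) (by
      intro m hm
      rw [nPts_affineSpace n m hm, Polynomial.eval_pow, Polynomial.eval_X]
      push_cast
      rfl)
  rw [Polynomial.natDegree_X_pow] at h
  have h1 : ∏ i ∈ Finset.range (n + 1),
      (1 - PowerSeries.C ((Nat.card k : ℚ) ^ i) * PowerSeries.X) ^
        (((Polynomial.X : Polynomial ℤ) ^ n).coeff i).toNat =
      1 - PowerSeries.C ((Nat.card k : ℚ) ^ n) * PowerSeries.X := by
    rw [Finset.prod_eq_single n]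
    · rw [Polynomial.coeff_X_pow, if_pos rfl]
      simp
    · intro i _ hi
      rw [Polynomial.coeff_X_pow, if_neg hi]
      simp
    · intro hn
      exact absurd (Finset.mem_range.mpr (Nat.lt_succ_self n)) hn
  have h2 : ∏ i ∈ Finset.range (n + 1),
      (1 - PowerSeries.C ((Nat.card k : ℚ) ^ i) * PowerSeries.X) ^
        (-((Polynomial.X : Polynomial ℤ) ^ n).coeff i).toNat = 1 := by
    apply Finset.prod_eq_one
    intro i _
    rw [Polynomial.coeff_X_pow]
    split_ifs <;> simp
  rw [h1, h2] at h
  exact h

end AffPts

end Groth.Agent.Lead.ZPn
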