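import Mathlib
import Groth.Agent.Lead.ZPnB

/-!
# The zeta function of projective space: the decomposition `P^n = P^(n-1) ⊔ A^n`
-/

set_option autoImplicit false
set_option linter.unusedSectionVars false
set_option linter.style.haveILetI false

namespace Groth.Agent.Lead.ZPn

open CategoryTheory AlgebraicGeometry HomogeneousLocalization MvPolynomial
open scoped HomogeneousIdeal

universe u

section General

variable {A B σ τ : Type u} [CommRing A] [SetLike σ A] [AddSubgroupClass σ A]
  [CommRing B] [SetLike τ B] [AddSubgroupClass τ B]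
  {𝒜 : ℕ → σ} {ℬ : ℕ → τ} [GradedRing 𝒜] [GradedRing ℬ]

theorem awayMap_fromZero (g : 𝒜 →+*ᵍ ℬ) (f : A) (a : 𝒜 0) :
    Away.map g f (fromZeroRingHom 𝒜 _ a) = fromZeroRingHom ℬ _ ⟨g a, g.map_mem a.2⟩ := by
  apply HomogeneousLocalization.val_injective
  simp [Away.map, fromZeroRingHom, HomogeneousLocalization.map_mk]

end General

section Chart

variable (n : ℕ) (k : Type u) [Field k]

/-- the structure morphism of `P^n`, on `Proj` -/
noncomputable abbrev toSpec' : Proj (CohB1.polyGrading n k) ⟶ Spec (CommRingCat.of k) :=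
  Proj.toSpecZero (CohB1.polyGrading n k) ≫
    Spec.map (CommRingCat.ofHom (algebraMap k (CohB1.polyGrading n k 0)))

/-- the chart `A^n → P^n` -/
noncomputable def jChart :
    Spec (CommRingCat.of (MvPolynomial (Fin n) k)) ⟶ Proj (CohB1.polyGrading n k) :=
  Spec.map (chartEquiv n k).symm.toCommRingCatIso.hom ≫
    Proj.awayι (CohB1.polyGrading n k) (xl n k) (xl_mem n k) Nat.one_pos

instance : IsOpenImmersion (jChart n k) := by
  unfold jChart
  infer_instance

theorem jChart_toSpec : jChart n k ≫ toSpec' n k =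
    Spec.map (CommRingCat.ofHom (algebraMap k (MvPolynomial (Fin n) k))) := by
  unfold jChart
  rw [Category.assoc, Proj.awayι_toSpecZero_assoc, ← Spec.map_comp, ← Spec.map_comp]
  congr 1
  apply CommRingCat.hom_ext
  apply RingHom.ext
  intro c
  show (chartEquiv n k).symm (fromZeroRingHom _ _ (algebraMap k (CohB1.polyGrading n k 0) c)) =
    algebraMap k _ c
  rw [chartEquiv_symm_fromZero, MvPolynomial.algebraMap_eq]

theorem range_jChart : Set.range (jChart n k).base =
    ((Proj.basicOpen (CohB1.polyGrading n k) (xl n k) : (Proj (CohB1.polyGrading n k)).Opens) :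
      Set (Proj (CohB1.polyGrading n k))) := by
  have h : (jChart n k).opensRange = Proj.basicOpen (CohB1.polyGrading n k) (xl n k) := by
    unfold jChart
    rw [Scheme.Hom.opensRange_comp_of_isIso]
    exact Proj.opensRange_awayι _ _ _ _
  exact congrArg (fun U : (Proj (CohB1.polyGrading n k)).Opens => (U : Set (Proj (CohB1.polyGrading n k)))) h

end Chart

section Lin

open Groth.Agent.Helper1.LinEmb

variable (k : Type u) [Field k] (m : ℕ)

/-- the hyperplane `P^m → P^(m+1)`, `X_last = 0` -/
noncomputable def lPiece : Proj (CohB1.polyGrading m k) ⟶ Proj (CohB1.polyGrading (m + 1) k) :=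
  lin k (Fin.castSucc : Fin (m + 1) → Fin (m + 1 + 1)) (Fin.castSucc_injective _)

instance : IsClosedImmersion (lPiece k m) := by
  unfold lPiece
  infer_instance

theorem lPiece_toSpec :
    lPiece k m ≫ toSpec' (m + 1) k = toSpec' m k := by
  let F := φg k (Fin.castSucc : Fin (m + 1) → Fin (m + 1 + 1))
  have hirr := irrelevant_le_of_surjective F
    (φg_surjective k (Fin.castSucc : Fin (m + 1) → Fin (m + 1 + 1)) (Fin.castSucc_injective _))
  show Proj.map F hirr ≫ _ = _
  refine (Proj.mapAffineOpenCover F hirr).openCover.hom_ext _ _ ?_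
  rintro ⟨⟨d, hd⟩, ⟨g, hg⟩⟩
  have hg' : g ∈ CohB1.polyGrading (m + 1) k d := hg
  show Proj.awayι (CohB1.polyGrading m k) (F g) (F.map_mem hg') hd ≫ Proj.map F hirr ≫
      Proj.toSpecZero _ ≫ Spec.map _ =
    Proj.awayι (CohB1.polyGrading m k) (F g) (F.map_mem hg') hd ≫
      Proj.toSpecZero _ ≫ Spec.map _
  rw [Proj.awayι_comp_map_assoc F hirr hd g hg', Proj.awayι_toSpecZero_assoc,
    Proj.awayι_toSpecZero_assoc, ← Spec.map_comp, ← Spec.map_comp, ← Spec.map_comp]
  congr 1
  apply CommRingCat.hom_ext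
  apply RingHom.ext
  intro r
  show Away.map F g (fromZeroRingHom _ _ (algebraMap k (CohB1.polyGrading (m + 1) k 0) r)) =
    fromZeroRingHom _ _ (algebraMap k (CohB1.polyGrading m k 0) r)
  rw [awayMap_fromZero]
  congr 1
  apply Subtype.ext
  show F (algebraMap k (CohB1.polyGrading (m + 1) k 0) r : MvPolynomial (Fin (m + 1 + 1)) k) =
    (algebraMap k (CohB1.polyGrading m k 0) r : MvPolynomial (Fin (m + 1)) k)
  rw [SetLike.GradeZero.coe_algebraMap, SetLike.GradeZero.coe_algebraMap,
    MvPolynomial.algebraMap_eq, MvPolynomial.algebraMap_eq]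
  show φ k _ (C r) = C r
  exact (φ k _).commutes r

/-- elements of the kernel of the projection lie in the ideal of the last variable -/
theorem sub_rename_mem (x : MvPolynomial (Fin (m + 1 + 1)) k) :
    x - rename Fin.castSucc (φ k (Fin.castSucc : Fin (m + 1) → Fin (m + 1 + 1)) x) ∈
      Ideal.span {(X (Fin.last (m + 1)) : MvPolynomial (Fin (m + 1 + 1)) k)} := by
  induction x using MvPolynomial.induction_on with
  | C r =>
    have : φ k (Fin.castSucc : Fin (m + 1) → Fin (m + 1 + 1)) (C r) = C r := (φ k _).commutes r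
    rw [this, rename_C, sub_self]
    exact Ideal.zero_mem _
  | add p q hp hq =>
    rw [map_add, map_add]
    have : p + q - (rename Fin.castSucc (φ k Fin.castSucc p) +
        rename Fin.castSucc (φ k Fin.castSucc q)) =
        (p - rename Fin.castSucc (φ k Fin.castSucc p)) +
        (q - rename Fin.castSucc (φ k Fin.castSucc q)) := by ring
    rw [this]
    exact Ideal.add_mem _ hp hq
  | mul_X p i hp =>
    rw [map_mul, map_mul]
    have hX : (X i : MvPolynomial (Fin (m + 1 + 1)) k) -
        rename Fin.castSucc (φ k (Fin.castSucc : Fin (m + 1) → Fin (m + 1 + 1)) (X i)) ∈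
        Ideal.span {(X (Fin.last (m + 1)) : MvPolynomial (Fin (m + 1 + 1)) k)} := by
      induction i using Fin.lastCases with
      | last =>
        rw [φ_X, vals_of_not k _ _ (fun j => (Fin.castSucc_lt_last j).ne), map_zero, sub_zero]
        exact Ideal.subset_span rfl
      | cast j =>
        rw [φ_X, vals_a k _ (Fin.castSucc_injective _), rename_X, sub_self]
        exact Ideal.zero_mem _
    have : p * X i - rename Fin.castSucc (φ k Fin.castSucc p) *
        rename Fin.castSucc (φ k (Fin.castSucc : Fin (m + 1) → Fin (m + 1 + 1)) (X i)) =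
        (p - rename Fin.castSucc (φ k Fin.castSucc p)) * X i +
        rename Fin.castSucc (φ k Fin.castSucc p) *
          (X i - rename Fin.castSucc (φ k (Fin.castSucc : Fin (m + 1) → Fin (m + 1 + 1)) (X i))) := by
      ring
    rw [this]
    exact Ideal.add_mem _ (Ideal.mul_mem_right _ _ hp) (Ideal.mul_mem_left _ _ hX)

theorem ker_le (q : Ideal (MvPolynomial (Fin (m + 1 + 1)) k))
    (hq : (X (Fin.last (m + 1)) : MvPolynomial (Fin (m + 1 + 1)) k) ∈ q) :
    RingHom.ker (φ k (Fin.castSucc : Fin (m + 1) → Fin (m + 1 + 1))).toRingHom ≤ q := by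
  intro x hx
  have h0 : φ k (Fin.castSucc : Fin (m + 1) → Fin (m + 1 + 1)) x = 0 := hx
  have h1 := sub_rename_mem k m x
  rw [h0, map_zero, sub_zero] at h1
  exact (Ideal.span_le.mpr (Set.singleton_subset_iff.mpr hq)) h1

theorem range_lPiece : Set.range (lPiece k m).base =
    ((Proj.basicOpen (CohB1.polyGrading (m + 1) k) (xl (m + 1) k) :
      (Proj (CohB1.polyGrading (m + 1) k)).Opens) : Set (Proj (CohB1.polyGrading (m + 1) k)))ᶜ := by
  let F := φg k (Fin.castSucc : Fin (m + 1) → Fin (m + 1 + 1))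
  have hsurj : Function.Surjective F :=
    φg_surjective k (Fin.castSucc : Fin (m + 1) → Fin (m + 1 + 1)) (Fin.castSucc_injective _)
  have hirr := irrelevant_le_of_surjective F hsurj
  apply Set.Subset.antisymm
  · rintro _ ⟨y, rfl⟩ hy
    have h1 : y ∈ lPiece k m ⁻¹ᵁ
        Proj.basicOpen (CohB1.polyGrading (m + 1) k) (xl (m + 1) k) := hy
    have h2 := lin_preimage_of_not k (Fin.castSucc : Fin (m + 1) → Fin (m + 1 + 1))
      (Fin.castSucc_injective _) (Fin.last (m + 1)) (fun j => (Fin.castSucc_lt_last j).ne)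
    have h3 : lPiece k m ⁻¹ᵁ Proj.basicOpen (CohB1.polyGrading (m + 1) k) (xl (m + 1) k) = ⊥ := h2
    rw [h3] at h1
    exact h1
  · intro q hq
    have hq' : xl (m + 1) k ∈ (q : Proj (CohB1.polyGrading (m + 1) k)).asHomogeneousIdeal := by
      by_contra hcon
      exact hq ((Proj.mem_basicOpen _ _ q).mpr hcon)
    have hq'' : xl (m + 1) k ∈
        (q : Proj (CohB1.polyGrading (m + 1) k)).asHomogeneousIdeal.toIdeal := hq'
    have hker := ker_le k m _ hq''
    have hcm : ((q : Proj (CohB1.polyGrading (m + 1) k)).asHomogeneousIdeal.toIdeal.map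
        (φ k (Fin.castSucc : Fin (m + 1) → Fin (m + 1 + 1))).toRingHom).comap
        (φ k (Fin.castSucc : Fin (m + 1) → Fin (m + 1 + 1))).toRingHom =
        (q : Proj (CohB1.polyGrading (m + 1) k)).asHomogeneousIdeal.toIdeal :=
      Ideal.comap_map_of_surjective' _ hsurj _ |>.trans (sup_eq_left.mpr hker)
    have hprime : ((q : Proj (CohB1.polyGrading (m + 1) k)).asHomogeneousIdeal.map F).toIdeal.IsPrime :=
      Ideal.map_isPrime_of_surjective hsurj hker
    obtain ⟨j, hj, hjq⟩ := Groth.Agent.Helper1.KzPn.xs_cov (m + 1) k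
      (q : ProjectiveSpectrum (CohB1.polyGrading (m + 1) k))
    have hjm : j < m + 1 := by
      rcases Nat.lt_succ_iff_lt_or_eq.mp hj with h | h
      · exact h
      · exfalso
        apply hjq
        unfold Groth.Agent.Helper1.KzPn.xs
        rw [dif_pos hj]
        have : (⟨j, hj⟩ : Fin (m + 1 + 1)) = Fin.last (m + 1) := Fin.ext h
        rw [this]
        exact hq'
    have hnot : ¬ HomogeneousIdeal.irrelevant (CohB1.polyGrading m k) ≤
        (q : Proj (CohB1.polyGrading (m + 1) k)).asHomogeneousIdeal.map F := by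
      intro hle
      have h1 := ((HomogeneousIdeal.irrelevant_le _).mp hle) 1 Nat.one_pos
      have h2 : (X ⟨j, hjm⟩ : MvPolynomial (Fin (m + 1)) k) ∈
          ((q : Proj (CohB1.polyGrading (m + 1) k)).asHomogeneousIdeal.map F).toIdeal :=
        h1 (isHomogeneous_X k _ : X ⟨j, hjm⟩ ∈ CohB1.polyGrading m k 1)
      have h3 : φ k (Fin.castSucc : Fin (m + 1) → Fin (m + 1 + 1))
          (X (Fin.castSucc ⟨j, hjm⟩)) = X ⟨j, hjm⟩ := by
        rw [φ_X, vals_a k _ (Fin.castSucc_injective _)]
      have h4 : (X (Fin.castSucc ⟨j, hjm⟩) : MvPolynomial (Fin (m + 1 + 1)) k) ∈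
          (q : Proj (CohB1.polyGrading (m + 1) k)).asHomogeneousIdeal.toIdeal := by
        rw [← hcm, Ideal.mem_comap]
        show φ k (Fin.castSucc : Fin (m + 1) → Fin (m + 1 + 1)) (X (Fin.castSucc ⟨j, hjm⟩)) ∈ _
        rw [h3]
        exact h2
      apply hjq
      unfold Groth.Agent.Helper1.KzPn.xs
      rw [dif_pos hj]
      exact h4
    let p : ProjectiveSpectrum (CohB1.polyGrading m k) :=
      ⟨(q : Proj (CohB1.polyGrading (m + 1) k)).asHomogeneousIdeal.map F, hprime, hnot⟩
    refine ⟨p, ?_⟩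
    show ProjectiveSpectrum.comap F hirr p = q
    apply ProjectiveSpectrum.ext
    apply HomogeneousIdeal.ext
    exact hcm

end Lin

end Groth.Agent.Lead.ZPn
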