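import Mathlib
import Groth.Agent.Lead.ZPnC

/-!
# The zeta function of projective space over a finite field: main theorem
-/

set_option autoImplicit false
set_option linter.unusedSectionVars false
set_option linter.style.haveILetI false

namespace Groth.Agent.Lead.ZPn

open CategoryTheory AlgebraicGeometry HomogeneousLocalization MvPolynomial

universe u

variable (k : Type u) [Field k]

instance isProper_toSpec' (n : ℕ) : IsProper (toSpec' n k) :=
  Groth.Agent.Helper6.HProj.isProper_toSpec n k

variable [Finite k]

theorem zeta_succ (m : ℕ) : Zeta.zetaFun (toSpec' (m + 1) k) =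
    Zeta.zetaFun (toSpec' m k) *
      Zeta.zetaFun (Spec.map (CommRingCat.ofHom (algebraMap k (MvPolynomial (Fin (m + 1)) k)))) := by
  let Ys : Bool → Scheme.{u} := fun b =>
    match b with
    | true => Proj (CohB1.polyGrading m k)
    | false => Spec (CommRingCat.of (MvPolynomial (Fin (m + 1)) k))
  let g : ∀ b, Ys b ⟶ Proj (CohB1.polyGrading (m + 1) k) := fun b =>
    match b with
    | true => lPiece k m
    | false => jChart (m + 1) k
  haveI : ∀ b, IsImmersion (g b) := by
    intro b
    cases b
    · show IsImmersion (jChart (m + 1) k)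
      infer_instance
    · show IsImmersion (lPiece k m)
      infer_instance
  have hpart : ∀ x : Proj (CohB1.polyGrading (m + 1) k), IsClosed ({x} : Set _) →
      ∃! b, x ∈ Set.range (g b).base := by
    intro x _
    by_cases hx : x ∈ ((Proj.basicOpen (CohB1.polyGrading (m + 1) k) (xl (m + 1) k) :
        (Proj (CohB1.polyGrading (m + 1) k)).Opens) : Set (Proj (CohB1.polyGrading (m + 1) k)))
    · refine ⟨false, ?_, ?_⟩
      · show x ∈ Set.range (jChart (m + 1) k).base
        rw [range_jChart]
        exact hx
      · intro b hb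
        cases b
        · rfl
        · exfalso
          have h1 : x ∈ Set.range (lPiece k m).base := hb
          rw [range_lPiece] at h1
          exact h1 hx
    · refine ⟨true, ?_, ?_⟩
      · show x ∈ Set.range (lPiece k m).base
        rw [range_lPiece]
        exact hx
      · intro b hb
        cases b
        · exfalso
          have h1 : x ∈ Set.range (jChart (m + 1) k).base := hb
          rw [range_jChart] at h1
          exact hx h1
        · rfl
  have h := Groth.Agent.Helper8.ZMul.zetaFun_eq_prod (toSpec' (m + 1) k) Ys g hpart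
  rw [Fintype.prod_bool] at h
  rw [h]
  congr 1
  · show Zeta.zetaFun (lPiece k m ≫ toSpec' (m + 1) k) = _
    rw [lPiece_toSpec]
  · show Zeta.zetaFun (jChart (m + 1) k ≫ toSpec' (m + 1) k) = _
    rw [jChart_toSpec]

theorem zeta_zero : Zeta.zetaFun (toSpec' 0 k) =
    Zeta.zetaFun (Spec.map (CommRingCat.ofHom (algebraMap k (MvPolynomial (Fin 0) k)))) := by
  let Ys : Unit → Scheme.{u} := fun _ => Spec (CommRingCat.of (MvPolynomial (Fin 0) k))
  let g : ∀ b, Ys b ⟶ Proj (CohB1.polyGrading 0 k) := fun _ => jChart 0 k
  haveI : ∀ b, IsImmersion (g b) := by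
    intro b
    show IsImmersion (jChart 0 k)
    infer_instance
  have hpart : ∀ x : Proj (CohB1.polyGrading 0 k), IsClosed ({x} : Set _) →
      ∃! b, x ∈ Set.range (g b).base := by
    intro x _
    refine ⟨(), ?_, fun _ _ => rfl⟩
    show x ∈ Set.range (jChart 0 k).base
    rw [range_jChart]
    show x ∈ Proj.basicOpen (CohB1.polyGrading 0 k) (xl 0 k)
    rw [Proj.mem_basicOpen]
    obtain ⟨j, hj, hjq⟩ := Groth.Agent.Helper1.KzPn.xs_cov 0 k
      (x : ProjectiveSpectrum (CohB1.polyGrading 0 k))
    intro hcon
    apply hjq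
    unfold Groth.Agent.Helper1.KzPn.xs
    rw [dif_pos hj]
    have : (⟨j, hj⟩ : Fin (0 + 1)) = Fin.last 0 := Fin.ext (by simp at hj ⊢; omega)
    rw [this]
    exact hcon
  have h := Groth.Agent.Helper8.ZMul.zetaFun_eq_prod (toSpec' 0 k) Ys g hpart
  rw [Fintype.prod_unique] at h
  rw [h]
  show Zeta.zetaFun (jChart 0 k ≫ toSpec' 0 k) = _
  rw [jChart_toSpec]

/-- **The zeta function of projective space.** -/
theorem main (n : ℕ) :
    Zeta.zetaFun (CohB1.ProjSpace.toSpec n k) *
        ∏ i ∈ Finset.range (n + 1),
          (1 - PowerSeries.C ((Nat.card k : ℚ) ^ i) * PowerSeries.X) = 1 := by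
  show Zeta.zetaFun (toSpec' n k) * _ = 1
  induction n with
  | zero =>
    rw [zeta_zero, Finset.prod_range_one]
    exact zetaFun_affineSpace 0
  | succ m ih =>
    rw [zeta_succ, Finset.prod_range_succ]
    have h2 := zetaFun_affineSpace (k := k) (m + 1)
    calc Zeta.zetaFun (toSpec' m k) *
          Zeta.zetaFun (Spec.map (CommRingCat.ofHom (algebraMap k (MvPolynomial (Fin (m + 1)) k)))) *
          ((∏ i ∈ Finset.range (m + 1),
            (1 - PowerSeries.C ((Nat.card k : ℚ) ^ i) * PowerSeries.X)) *
            (1 - PowerSeries.C ((Nat.card k : ℚ) ^ (m + 1)) * PowerSeries.X))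
        = (Zeta.zetaFun (toSpec' m k) * ∏ i ∈ Finset.range (m + 1),
            (1 - PowerSeries.C ((Nat.card k : ℚ) ^ i) * PowerSeries.X)) *
          (Zeta.zetaFun (Spec.map (CommRingCat.ofHom
            (algebraMap k (MvPolynomial (Fin (m + 1)) k)))) *
            (1 - PowerSeries.C ((Nat.card k : ℚ) ^ (m + 1)) * PowerSeries.X)) := by ring
      _ = 1 := by rw [ih, h2, one_mul]

end Groth.Agent.Lead.ZPn
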