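import Mathlib

/-!
# Projectivity is Zariski-local (given faithfully flat descent of projectivity)
-/

set_option autoImplicit false
universe u
open TensorProduct

namespace Groth.Agent.Lead.ZarProj

/-- restriction of scalars along `T → B` preserves projectivity when `B` is projective over `T`. -/
theorem projective_restrictScalars (T B Q : Type*) [CommRing T] [CommRing B] [Algebra T B]
    [AddCommGroup Q] [Module B Q] [Module T Q] [IsScalarTower T B Q] [Module.Projective T B]
    [hQ : Module.Projective B Q] : Module.Projective T Q := by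
  classical
  obtain ⟨s, hs⟩ := hQ.out
  haveI : Module.Projective T (Q →₀ B) :=
    Module.Projective.of_equiv' (finsuppLEquivDirectSum T B Q).symm
  refine Module.Projective.of_split (s.restrictScalars T)
    ((Finsupp.linearCombination B id).restrictScalars T) ?_
  ext q
  exact hs q


section Pi
variable {ι : Type u} [Fintype ι] [DecidableEq ι] (A : ι → Type u) [∀ i, CommRing (A i)]

/-- `A i` as an algebra over the product ring. -/
@[reducible] noncomputable def evalAlgebra (i : ι) : Algebra (Π j, A j) (A i) :=
  (Pi.evalRingHom A i).toAlgebra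

/-- `Pi.single i` as a linear map over the product ring. -/
noncomputable def singleLin (i : ι) :
    letI := evalAlgebra A i
    A i →ₗ[Π j, A j] (Π j, A j) :=
  letI := evalAlgebra A i
  { toFun := fun a => Pi.single i a
    map_add' := fun a b => Pi.single_add i a b
    map_smul' := fun t a => by
      show Pi.single i (t i * a) = t * Pi.single i a
      funext j
      by_cases h : j = i
      · subst h; simp
      · simp [Pi.single_eq_of_ne h] }

theorem projective_eval (i : ι) :
    letI := evalAlgebra A i
    Module.Projective (Π j, A j) (A i) := by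
  letI := evalAlgebra A i
  refine Module.Projective.of_split (singleLin A i) (Algebra.linearMap (Π j, A j) (A i)) ?_
  ext a
  show (Pi.single i a : Π j, A j) i = a
  simp

variable (R : Type u) [CommRing R] (M : Type u) [AddCommGroup M] [Module R M]
  [∀ i, Algebra R (A i)]

/-- the data attached to one component of the cover. -/
theorem exists_component (i : ι) (N : Type u) [AddCommGroup N] [Module (A i) N] [Module R N]
    [IsScalarTower R (A i) N] (g : M →ₗ[R] N) (hg : IsBaseChange (A i) g)
    [hN : Module.Projective (A i) N] :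
    ∃ (Q : Type u) (_ : AddCommGroup Q) (_ : Module (Π j, A j) Q)
      (_ : Module.Projective (Π j, A j) Q)
      (a : (Π j, A j) ⊗[R] M →ₗ[Π j, A j] Q) (b : Q →ₗ[Π j, A j] (Π j, A j) ⊗[R] M),
      ∀ (t : Π j, A j) (m : M), b (a (t ⊗ₜ m)) = (Pi.single i (t i) : Π j, A j) ⊗ₜ m := by
  letI algT : Algebra (Π j, A j) (A i) := evalAlgebra A i
  letI modT : Module (Π j, A j) N := Module.compHom N (Pi.evalRingHom A i)
  haveI tow : IsScalarTower (Π j, A j) (A i) N :=
    ⟨fun t a n => by
      show (t i * a) • n = t i • (a • n)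
      exact mul_smul _ _ _⟩
  haveI towR : IsScalarTower R (Π j, A j) N :=
    ⟨fun r t n => by
      show ((r • t) i) • n = r • (t i • n)
      rw [Pi.smul_apply, smul_assoc]⟩
  haveI towA : IsScalarTower R (Π j, A j) (A i) :=
    ⟨fun r t a => by
      show ((r • t) i) * a = r • (t i * a)
      rw [Pi.smul_apply, smul_mul_assoc]⟩
  haveI := projective_eval A i
  haveI : Module.Projective (Π j, A j) N := projective_restrictScalars (Π j, A j) (A i) N
  let a : (Π j, A j) ⊗[R] M →ₗ[Π j, A j] N := LinearMap.liftBaseChange (Π j, A j) g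
  let b1 : A i ⊗[R] M →ₗ[Π j, A j] (Π j, A j) ⊗[R] M :=
    TensorProduct.AlgebraTensorModule.map (singleLin A i) (LinearMap.id (R := R) (M := M))
  let b : N →ₗ[Π j, A j] (Π j, A j) ⊗[R] M :=
    b1.comp ((hg.equiv.symm : N →ₗ[A i] A i ⊗[R] M).restrictScalars (Π j, A j))
  refine ⟨N, inferInstance, modT, inferInstance, a, b, fun t m => ?_⟩
  have h1 : a (t ⊗ₜ m) = t i • g m := by
    simp only [a, LinearMap.liftBaseChange_tmul]
    rfl
  have h2 : hg.equiv.symm (t i • g m) = t i ⊗ₜ m := by
    rw [map_smul, IsBaseChange.equiv_symm_apply, TensorProduct.smul_tmul', smul_eq_mul, mul_one]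
  show b1 (hg.equiv.symm (a (t ⊗ₜ m))) = _
  rw [h1, h2]
  rfl

theorem projective_pi_tensor (N : ι → Type u) [∀ i, AddCommGroup (N i)]
    [∀ i, Module (A i) (N i)] [∀ i, Module R (N i)] [∀ i, IsScalarTower R (A i) (N i)]
    (g : ∀ i, M →ₗ[R] N i) (hg : ∀ i, IsBaseChange (A i) (g i))
    (hN : ∀ i, Module.Projective (A i) (N i)) :
    Module.Projective (Π j, A j) ((Π j, A j) ⊗[R] M) := by
  choose Q iQ1 iQ2 iQ3 a b hab using fun i => exists_component A R M i (N i) (g i) (hg i)
  letI := iQ1
  letI := iQ2
  haveI := iQ3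
  haveI : Module.Projective (Π j, A j) (Π i, Q i) :=
    Module.Projective.of_equiv' (DirectSum.linearEquivFunOnFintype (Π j, A j) ι Q)
  refine Module.Projective.of_split (LinearMap.pi a) (∑ i, (b i).comp (LinearMap.proj i)) ?_
  apply TensorProduct.AlgebraTensorModule.ext
  intro t m
  simp only [LinearMap.comp_apply, LinearMap.sum_apply, LinearMap.pi_apply, LinearMap.proj_apply,
    hab, LinearMap.id_apply]
  rw [← TensorProduct.sum_tmul, Finset.univ_sum_single]

theorem projective_of_cover (N : ι → Type u) [∀ i, AddCommGroup (N i)]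
    [∀ i, Module (A i) (N i)] [∀ i, Module R (N i)] [∀ i, IsScalarTower R (A i) (N i)]
    (g : ∀ i, M →ₗ[R] N i) (hg : ∀ i, IsBaseChange (A i) (g i))
    (hN : ∀ i, Module.Projective (A i) (N i)) (hflat : ∀ i, Module.Flat R (A i))
    (hcov : ∀ p : PrimeSpectrum R, ∃ (i : ι) (q : PrimeSpectrum (A i)),
      PrimeSpectrum.comap (algebraMap R (A i)) q = p)
    (hdesc : ∀ (S : Type u) [CommRing S] [Algebra R S] [Module.FaithfullyFlat R S],
      Module.Projective S (S ⊗[R] M) → Module.Projective R M) :
    Module.Projective R M := by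
  haveI : Module.Flat R (Π₀ j, A j) := inferInstance
  haveI : Module.Flat R (Π j, A j) :=
    Module.Flat.of_linearEquiv (DFinsupp.linearEquivFunOnFintype (R := R) (M := A)).symm
  haveI : Module.FaithfullyFlat R (Π j, A j) := by
    apply Module.FaithfullyFlat.of_comap_surjective
    intro p
    obtain ⟨i, q, hq⟩ := hcov p
    refine ⟨PrimeSpectrum.comap (Pi.evalRingHom A i) q, ?_⟩
    rw [← hq]
    rfl
  exact hdesc (Π j, A j) (projective_pi_tensor A R M N g hg hN)

end Pi

end Groth.Agent.Lead.ZarProj
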