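import Mathlib

set_option autoImplicit false
universe u v
open CategoryTheory CategoryTheory.Limits AlgebraicGeometry TopologicalSpace Opposite

namespace Groth.Agent.Lead.ZarSys

variable {Λ : Type v} [PartialOrder Λ] (X : Λᵒᵖ ⥤ Scheme.{u})

/-- transition map -/
abbrev p {m l : Λ} (h : m ≤ l) : X.obj (op l) ⟶ X.obj (op m) := X.map (homOfLE h).op

lemma map_eq_p {A B : Λᵒᵖ} (f : A ⟶ B) : X.map f = p X (leOfHom f.unop) := by
  congr 1

lemma p_comp {n m l : Λ} (h1 : n ≤ m) (h2 : m ≤ l) : p X h2 ≫ p X h1 = p X (h1.trans h2) := by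
  rw [p, p, ← X.map_comp]
  rfl

/-- prefixes -/
abbrev Pre (m : Λ) := ∀ n : Set.Iio m, (X.obj (op n.1)).Opens

variable (hΛ : ∀ l : Λ, (Set.Iic l).Finite)

include hΛ in
lemma finite_Iio (m : Λ) : Finite (Set.Iio m) :=
  Set.finite_coe_iff.mpr ((hΛ m).subset Set.Iio_subset_Iic_self)

include hΛ in
lemma finite_Iic (m : Λ) : Finite (Set.Iic m) :=
  Set.finite_coe_iff.mpr (hΛ m)

/-- the open set cut out by a prefix -/
def W (m : Λ) (pre : Pre X m) : (X.obj (op m)).Opens :=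
  ⟨{x | ∀ n : Set.Iio m, (p X (le_of_lt n.2)).base x ∈ pre n}, by
    haveI := finite_Iio hΛ m
    have : {x : X.obj (op m) | ∀ n : Set.Iio m, (p X (le_of_lt n.2)).base x ∈ pre n} =
        ⋂ n : Set.Iio m, ((p X (le_of_lt n.2)) ⁻¹ᵁ pre n : Set _) := by
      ext x; simp
    rw [this]
    exact isOpen_iInter_of_finite fun n => ((p X (le_of_lt n.2)) ⁻¹ᵁ pre n).2⟩

lemma mem_W {m : Λ} {pre : Pre X m} {x : X.obj (op m)} :
    x ∈ W X hΛ m pre ↔ ∀ n : Set.Iio m, (p X (le_of_lt n.2)).base x ∈ pre n := Iff.rfl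

/-- finite intersections of compact opens in a compact quasi-separated space are compact -/
lemma isCompact_iInter_of_finite {T : Type*} [TopologicalSpace T] [CompactSpace T]
    [QuasiSeparatedSpace T] {ι : Type*} [Finite ι] (s : ι → Set T) (ho : ∀ i, IsOpen (s i))
    (hc : ∀ i, IsCompact (s i)) : IsCompact (⋂ i, s i) ∧ IsOpen (⋂ i, s i) := by
  classical
  haveI := Fintype.ofFinite ι
  have h : ∀ t : Finset ι, IsCompact (⋂ i ∈ t, s i) ∧ IsOpen (⋂ i ∈ t, s i) := by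
    intro t
    induction t using Finset.induction_on with
    | empty => simpa using isCompact_univ
    | insert a t _ ih =>
      rw [Finset.set_biInter_insert]
      exact ⟨QuasiSeparatedSpace.inter_isCompact _ _ (ho a) (hc a) ih.2 ih.1, (ho a).inter ih.2⟩
  simpa using h Finset.univ

variable (hqc : ∀ l : Λ, CompactSpace (X.obj (op l)))
  (hqs : ∀ l : Λ, QuasiSeparatedSpace (X.obj (op l)))

include hqc hqs in
lemma isCompact_W (m : Λ) (pre : Pre X m) (hpre : ∀ n : Set.Iio m, IsCompact (pre n : Set (X.obj (op n.1)))) :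
    IsCompact (W X hΛ m pre : Set (X.obj (op m))) := by
  haveI := hqc m
  haveI := hqs m
  haveI := finite_Iio hΛ m
  have : ((W X hΛ m pre : (X.obj (op m)).Opens) : Set (X.obj (op m))) =
      ⋂ n : Set.Iio m, ((p X (le_of_lt n.2)) ⁻¹ᵁ pre n : Set _) := by
    ext x; simp [W]
  rw [this]
  refine (isCompact_iInter_of_finite _ (fun n => ((p X (le_of_lt n.2)) ⁻¹ᵁ pre n).2) ?_).1
  intro n
  haveI := hqc n.1
  haveI := hqs n.1
  exact (p X (le_of_lt n.2)).isCompact_preimage (hpre n)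

open Classical in
/-- a chosen finite affine open cover of `W m pre` -/
noncomputable def cov (m : Λ) (pre : Pre X m) : Set (X.obj (op m)).Opens :=
  if h : IsCompact (W X hΛ m pre : Set (X.obj (op m))) then
    (fun i : (X.obj (op m)).affineOpens => (i : (X.obj (op m)).Opens)) ''
      (isCompact_iff_finite_and_eq_biUnion_affineOpens.1 h).choose
  else ∅

lemma cov_finite (m : Λ) (pre : Pre X m) : (cov X hΛ m pre).Finite := by
  unfold cov
  split_ifs with h
  · exact (isCompact_iff_finite_and_eq_biUnion_affineOpens.1 h).choose_spec.1.image _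
  · exact Set.finite_empty

lemma cov_affine {m : Λ} {pre : Pre X m} {V : (X.obj (op m)).Opens} (hV : V ∈ cov X hΛ m pre) :
    IsAffineOpen V := by
  unfold cov at hV
  split_ifs at hV with h
  · obtain ⟨i, -, rfl⟩ := hV
    exact i.2
  · exact hV.elim

lemma cov_le {m : Λ} {pre : Pre X m} {V : (X.obj (op m)).Opens} (hV : V ∈ cov X hΛ m pre) :
    V ≤ W X hΛ m pre := by
  unfold cov at hV
  split_ifs at hV with h
  · obtain ⟨i, hi, rfl⟩ := hV
    have e := (isCompact_iff_finite_and_eq_biUnion_affineOpens.1 h).choose_spec.2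
    rw [e]
    exact le_iSup₂_of_le i hi le_rfl
  · exact hV.elim

lemma cov_cover {m : Λ} {pre : Pre X m} (h : IsCompact (W X hΛ m pre : Set (X.obj (op m))))
    {x : X.obj (op m)} (hx : x ∈ W X hΛ m pre) : ∃ V ∈ cov X hΛ m pre, x ∈ V := by
  have e := (isCompact_iff_finite_and_eq_biUnion_affineOpens.1 h).choose_spec.2
  rw [e] at hx
  simp only [Opens.mem_iSup] at hx
  obtain ⟨i, hi, hxi⟩ := hx
  refine ⟨i, ?_, hxi⟩
  unfold cov
  rw [dif_pos h]
  exact ⟨i, hi, rfl⟩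

include hΛ in
lemma wf_lt : WellFounded ((· < ·) : Λ → Λ → Prop) := by
  have hsub : ∀ n m : Λ, n < m → (hΛ n).toFinset.card < (hΛ m).toFinset.card := by
    intro n m h
    apply Finset.card_lt_card
    rw [Set.Finite.toFinset_ssubset_toFinset]
    exact Set.Iic_ssubset_Iic.mpr h
  exact Subrelation.wf (fun {n m} h => hsub n m h)
    (InvImage.wf (fun m => (hΛ m).toFinset.card) Nat.lt_wfRel.wf)

/-- valid tuples of affine opens -/
def Idx (l : Λ) : Type (max u v) :=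
  {a : ∀ m : Set.Iic l, (X.obj (op m.1)).Opens //
    ∀ m : Set.Iic l, a m ∈ cov X hΛ m.1 (fun n : Set.Iio m.1 => a ⟨n.1, (le_of_lt n.2).trans m.2⟩)}

variable {X hΛ}

/-- restriction of tuples -/
def Idx.res {l l' : Λ} (h : l ≤ l') (a : Idx X hΛ l') : Idx X hΛ l :=
  ⟨fun m => a.1 ⟨m.1, m.2.trans h⟩, fun m => a.2 ⟨m.1, m.2.trans h⟩⟩

/-- the top member -/
def Idx.top {l : Λ} (a : Idx X hΛ l) : (X.obj (op l)).Opens := a.1 ⟨l, le_rfl⟩

lemma Idx.affine {l : Λ} (a : Idx X hΛ l) (m : Set.Iic l) : IsAffineOpen (a.1 m) :=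
  cov_affine X hΛ (a.2 m)

lemma Idx.top_le_preimage {l l' : Λ} (h : l ≤ l') (a : Idx X hΛ l') :
    a.top ≤ (p X h) ⁻¹ᵁ (a.res h).top := by
  rcases h.eq_or_lt with rfl | hlt
  · intro x hx
    show (p X (le_refl l)).base x ∈ a.1 ⟨l, le_rfl⟩
    have : p X (le_refl l) = 𝟙 _ := X.map_id _
    rw [this]
    exact hx
  · intro x hx
    have h1 := cov_le X hΛ (a.2 ⟨l', le_rfl⟩) hx
    exact (mem_W X hΛ).1 h1 ⟨l, hlt⟩

variable (X hΛ) in
/-- the values taken at `m` by valid tuples -/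
def vals (l m : Λ) (hm : m ≤ l) : Set (X.obj (op m)).Opens :=
  {V | ∃ a : Idx X hΛ l, a.1 ⟨m, hm⟩ = V}

lemma vals_finite (l : Λ) : ∀ (m : Λ) (hm : m ≤ l), (vals X hΛ l m hm).Finite := by
  intro m
  induction m using (wf_lt hΛ).induction with
  | _ m ih =>
    intro hm
    haveI := finite_Iio hΛ m
    -- the prefixes
    have hP : (Set.pi Set.univ (fun n : Set.Iio m =>
        vals X hΛ l n.1 ((le_of_lt n.2).trans hm))).Finite :=
      Set.Finite.pi (fun n : Set.Iio m => ih n.1 n.2 _)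
    have hU : (⋃ pre ∈ Set.pi Set.univ (fun n : Set.Iio m =>
        vals X hΛ l n.1 ((le_of_lt n.2).trans hm)), cov X hΛ m pre).Finite :=
      hP.biUnion (fun pre _ => cov_finite X hΛ m pre)
    refine hU.subset ?_
    rintro V ⟨a, rfl⟩
    simp only [Set.mem_iUnion]
    refine ⟨fun n => a.1 ⟨n.1, (le_of_lt n.2).trans hm⟩, ?_, a.2 ⟨m, hm⟩⟩
    intro n _
    exact ⟨a, rfl⟩

instance Idx.finite (l : Λ) : Finite (Idx X hΛ l) := by
  haveI := finite_Iic hΛ l
  have hP : (Set.pi Set.univ (fun m : Set.Iic l => vals X hΛ l m.1 m.2)).Finite :=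
    Set.Finite.pi (fun m : Set.Iic l => vals_finite l m.1 m.2)
  haveI : Finite ↥(Set.pi Set.univ (fun m : Set.Iic l => vals X hΛ l m.1 m.2)) :=
    Set.finite_coe_iff.mpr hP
  refine Finite.of_injective
    (fun a : Idx X hΛ l => (⟨a.1, fun m _ => ⟨a, rfl⟩⟩ :
      ↥(Set.pi Set.univ (fun m : Set.Iic l => vals X hΛ l m.1 m.2)))) ?_
  intro a b hab
  apply Subtype.ext
  have h1 := congrArg Subtype.val hab
  exact h1

variable (X hΛ) in
open Classical in
/-- choice of opens around the images of `x` -/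
noncomputable def ch {l : Λ} (x : X.obj (op l)) : ∀ m : Λ, m ≤ l → (X.obj (op m)).Opens :=
  (wf_lt hΛ).fix (C := fun m => m ≤ l → (X.obj (op m)).Opens) fun m rec hm =>
    if h : ∃ V ∈ cov X hΛ m (fun n : Set.Iio m => rec n.1 n.2 ((le_of_lt n.2).trans hm)),
        (p X hm).base x ∈ V then h.choose else ⊥

open Classical in
lemma ch_eq {l : Λ} (x : X.obj (op l)) (m : Λ) (hm : m ≤ l) :
    ch X hΛ x m hm =
      if h : ∃ V ∈ cov X hΛ m (fun n : Set.Iio m => ch X hΛ x n.1 ((le_of_lt n.2).trans hm)),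
        (p X hm).base x ∈ V then h.choose else ⊥ := by
  have := congrFun ((wf_lt hΛ).fix_eq (C := fun m => m ≤ l → (X.obj (op m)).Opens)
    (fun m rec hm =>
      if h : ∃ V ∈ cov X hΛ m (fun n : Set.Iio m => rec n.1 n.2 ((le_of_lt n.2).trans hm)),
        (p X hm).base x ∈ V then h.choose else ⊥) m) hm
  exact this

include hqc hqs in
lemma ch_spec {l : Λ} (x : X.obj (op l)) : ∀ (m : Λ) (hm : m ≤ l),
    ch X hΛ x m hm ∈ cov X hΛ m (fun n : Set.Iio m => ch X hΛ x n.1 ((le_of_lt n.2).trans hm)) ∧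
      (p X hm).base x ∈ ch X hΛ x m hm := by
  intro m
  induction m using (wf_lt hΛ).induction with
  | _ m ih =>
    intro hm
    have hcomp : IsCompact (W X hΛ m
        (fun n : Set.Iio m => ch X hΛ x n.1 ((le_of_lt n.2).trans hm)) : Set (X.obj (op m))) := by
      apply isCompact_W X hΛ hqc hqs
      intro n
      exact (cov_affine X hΛ (ih n.1 n.2 _).1).isCompact
    have hxW : (p X hm).base x ∈ W X hΛ m
        (fun n : Set.Iio m => ch X hΛ x n.1 ((le_of_lt n.2).trans hm)) := by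
      rw [mem_W]
      intro n
      have h1 := (ih n.1 n.2 ((le_of_lt n.2).trans hm)).2
      have h2 : (p X (le_of_lt n.2)).base ((p X hm).base x) =
          (p X ((le_of_lt n.2).trans hm)).base x := by
        rw [← p_comp X (le_of_lt n.2) hm]
        rfl
      rw [h2]
      exact h1
    have hex := cov_cover X hΛ hcomp hxW
    rw [ch_eq x m hm, dif_pos hex]
    exact hex.choose_spec

include hqc hqs in
lemma exists_idx {l : Λ} (x : X.obj (op l)) : ∃ a : Idx X hΛ l, x ∈ a.top := by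
  refine ⟨⟨fun m => ch X hΛ x m.1 m.2, fun m => (ch_spec (hΛ := hΛ) hqc hqs x m.1 m.2).1⟩, ?_⟩
  have h := (ch_spec (hΛ := hΛ) hqc hqs x l le_rfl).2
  have : p X (le_refl l) = 𝟙 _ := X.map_id _
  rw [this] at h
  exact h

variable (X hΛ) in
/-- the pieces -/
abbrev pc {l : Λ} (a : Idx X hΛ l) : Scheme.{u} := a.top

variable (X hΛ) in
/-- the affine covering scheme -/
noncomputable abbrev Yobj (l : Λ) : Scheme.{u} := ∐ fun a : Idx X hΛ l => pc X hΛ a

instance (l : Λ) : IsAffine (Yobj X hΛ l) := by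
  haveI : ∀ a : Idx X hΛ l, IsAffine (pc X hΛ a) := fun a => a.affine ⟨l, le_rfl⟩
  infer_instance

/-- transition on pieces -/
noncomputable def pcMap {l l' : Λ} (h : l ≤ l') (a : Idx X hΛ l') :
    pc X hΛ a ⟶ pc X hΛ (a.res h) :=
  (p X h).resLE (a.res h).top a.top (a.top_le_preimage h)

@[reassoc]
lemma pcMap_ι {l l' : Λ} (h : l ≤ l') (a : Idx X hΛ l') :
    pcMap h a ≫ (a.res h).top.ι = a.top.ι ≫ p X h :=
  Scheme.Hom.resLE_comp_ι _ _

/-- transition maps of the covering system -/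
noncomputable def Ymap {l l' : Λ} (h : l ≤ l') : Yobj X hΛ l' ⟶ Yobj X hΛ l :=
  Sigma.desc (fun a : Idx X hΛ l' =>
    pcMap h a ≫ Sigma.ι (fun b : Idx X hΛ l => pc X hΛ b) (a.res h))

@[reassoc]
lemma ι_Ymap {l l' : Λ} (h : l ≤ l') (a : Idx X hΛ l') :
    Sigma.ι (fun b : Idx X hΛ l' => pc X hΛ b) a ≫ Ymap h =
      pcMap h a ≫ Sigma.ι (fun b : Idx X hΛ l => pc X hΛ b) (a.res h) := by
  unfold Ymap
  exact Sigma.ι_desc _ _

lemma sigma_congr {l : Λ} {Z : Scheme.{u}} {b c : Idx X hΛ l} (e : b = c)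
    (g : Z ⟶ pc X hΛ b) (g' : Z ⟶ pc X hΛ c) (h : g ≫ b.top.ι = g' ≫ c.top.ι) :
    g ≫ Sigma.ι (fun b : Idx X hΛ l => pc X hΛ b) b =
      g' ≫ Sigma.ι (fun b : Idx X hΛ l => pc X hΛ b) c := by
  subst e
  rw [cancel_mono] at h
  rw [h]

lemma sigma_congr_id {l : Λ} {b a : Idx X hΛ l} (e : b = a)
    (g : pc X hΛ a ⟶ pc X hΛ b) (h : g ≫ b.top.ι = a.top.ι) :
    g ≫ Sigma.ι (fun b : Idx X hΛ l => pc X hΛ b) b =
      Sigma.ι (fun b : Idx X hΛ l => pc X hΛ b) a := by
  subst e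
  have : g = 𝟙 _ := by
    rw [← cancel_mono (b.top.ι), h, Category.id_comp]
  rw [this, Category.id_comp]

lemma Ymap_refl (l : Λ) : Ymap (X := X) (hΛ := hΛ) (le_refl l) = 𝟙 _ := by
  apply Sigma.hom_ext
  intro a
  rw [ι_Ymap, Category.comp_id]
  refine sigma_congr_id (b := a.res (le_refl l)) (a := a) rfl (pcMap (le_refl l) a) ?_
  rw [pcMap_ι]
  have h2 : p X (le_refl l) = 𝟙 _ := X.map_id _
  rw [h2, Category.comp_id]

lemma Ymap_comp {l l' l'' : Λ} (h1 : l ≤ l') (h2 : l' ≤ l'') :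
    Ymap (X := X) (hΛ := hΛ) h2 ≫ Ymap h1 = Ymap (h1.trans h2) := by
  apply Sigma.hom_ext
  intro a
  rw [ι_Ymap_assoc, ι_Ymap, ι_Ymap, ← Category.assoc]
  refine sigma_congr (b := (a.res h2).res h1) (c := a.res (h1.trans h2)) rfl
    (pcMap h2 a ≫ pcMap h1 (a.res h2)) (pcMap (h1.trans h2) a) ?_
  rw [Category.assoc, pcMap_ι, pcMap_ι, pcMap_ι_assoc, p_comp]

variable (X hΛ) in
/-- the covering system as a functor -/
noncomputable def Yfun : Λᵒᵖ ⥤ Scheme.{u} where
  obj A := Yobj X hΛ A.unop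
  map f := Ymap (leOfHom f.unop)
  map_id A := Ymap_refl A.unop
  map_comp f g := (Ymap_comp (leOfHom g.unop) (leOfHom f.unop)).symm

variable (X hΛ) in
/-- the covering maps -/
noncomputable def πapp (l : Λ) : Yobj X hΛ l ⟶ X.obj (op l) :=
  Sigma.desc (fun a : Idx X hΛ l => a.top.ι)

@[reassoc]
lemma ι_πapp {l : Λ} (a : Idx X hΛ l) :
    Sigma.ι (fun b : Idx X hΛ l => pc X hΛ b) a ≫ πapp X hΛ l = a.top.ι := by
  unfold πapp
  exact Sigma.ι_desc _ _

variable (X hΛ) in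
/-- the covering transformation -/
noncomputable def πnat : Yfun X hΛ ⟶ X where
  app A := πapp X hΛ A.unop
  naturality A B f := by
    show Ymap (leOfHom f.unop) ≫ πapp X hΛ B.unop = πapp X hΛ A.unop ≫ X.map f
    apply Sigma.hom_ext
    intro a
    rw [ι_Ymap_assoc, ι_πapp, ι_πapp_assoc, pcMap_ι, map_eq_p]

include hΛ hqc hqs in
theorem main : ∃ (Y : Λᵒᵖ ⥤ Scheme.{u}) (π : Y ⟶ X), ∀ l : Λ,
      IsAffine (Y.obj (Opposite.op l)) ∧ Surjective (π.app (Opposite.op l)) ∧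
        ∃ (ι : Type u) (U : ι → (Y.obj (Opposite.op l)).Opens),
          Pairwise (fun i j => Disjoint (U i) (U j)) ∧ iSup U = ⊤ ∧
            ∀ i, IsOpenImmersion ((U i).ι ≫ π.app (Opposite.op l)) := by
  refine ⟨Yfun X hΛ, πnat X hΛ, fun l => ⟨?_, ?_, ?_⟩⟩
  · show IsAffine (Yobj X hΛ l)
    infer_instance
  · constructor
    intro x
    obtain ⟨a, hxa⟩ := exists_idx (hΛ := hΛ) hqc hqs x
    refine ⟨(Sigma.ι (fun b : Idx X hΛ l => pc X hΛ b) a).base ⟨x, hxa⟩, ?_⟩
    show (πapp X hΛ l).base _ = x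
    rw [← Scheme.Hom.comp_apply, ι_πapp]
    rfl
  · refine ⟨Shrink.{u} (Idx X hΛ l), fun s =>
      (Sigma.ι (fun b : Idx X hΛ l => pc X hΛ b) ((equivShrink _).symm s)).opensRange,
      ?_, ?_, ?_⟩
    · intro s t hst
      exact disjoint_opensRange_sigmaι _ _ _
        (fun h => hst ((equivShrink _).symm.injective h))
    · have h1 := (sigmaOpenCover (fun b : Idx X hΛ l => pc X hΛ b)).iSup_opensRange
      have h2 := (equivShrink.{u} (Idx X hΛ l)).symm.surjective.iSup_comp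
        (fun a => (Sigma.ι (fun b : Idx X hΛ l => pc X hΛ b) a).opensRange)
      exact h2.trans h1
    · intro s
      show IsOpenImmersion ((Sigma.ι (fun b : Idx X hΛ l => pc X hΛ b)
        ((equivShrink _).symm s)).opensRange.ι ≫ πapp X hΛ l)
      rw [← Scheme.Hom.isoOpensRange_inv_comp, Category.assoc, ι_πapp]
      infer_instance

end Groth.Agent.Lead.ZarSys
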