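import Mathlib
import Groth.Prelude.Def_MeroDiv
import Groth.Prelude.Def_Pic
import Groth.Prelude.Def_PicF2
import Groth.Prelude.Def_SecTwist
import Groth.Agent.Lead.MeroU

/-!
# Two nonzero sections of an invertible module on an integral scheme have the same zero scheme
iff they differ by a global unit
-/

set_option autoImplicit false
set_option linter.style.haveILetI false
set_option linter.unusedSectionVars false

universe u

open CategoryTheory CategoryTheory.Limits AlgebraicGeometry TopologicalSpace Opposite IsLocalRing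

namespace Groth.Agent.Lead.ZeroSchEq

open Mero Groth.Agent.Lead.MeroD Groth.Agent.Lead.MeroM Groth.Agent.Lead.MeroT
  Groth.Agent.Lead.MeroU

variable {X : Scheme.{u}} {L : X.Modules} {s s' : Coh.structureModule X ⟶ L}

/-- glue local ratios to a global ratio -/
theorem exists_global_ratio (hreg : IsRegSec L s) (m : Γ(L, ⊤))
    (hloc : ∀ x : X, ∃ (V : X.Opens) (_ : x ∈ V) (b : Γ(X, V)),
      L.presheaf.map (homOfLE (le_top : V ≤ ⊤)).op m = b • sec L s V) :
    ∃ b : Γ(X, ⊤), m = b • sec L s ⊤ := by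
  choose V hyV b hb using hloc
  have hcompat : TopCat.Presheaf.IsCompatible X.presheaf V b := by
    intro i j
    apply section_ext'
    intro z hz
    rw [TopCat.Presheaf.germ_res_apply, TopCat.Presheaf.germ_res_apply, ← sub_eq_zero]
    apply hreg z
    rw [sub_smul, sub_eq_zero]
    have hi : L.presheaf.germ ⊤ z (Opens.mem_top z) m =
        X.presheaf.germ (V i) z hz.1 (b i) • sgerm L s z := by
      rw [← germ_sec L s (V i) z hz.1, ← Mero.germ_smul, ← hb i, TopCat.Presheaf.germ_res_apply]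
    have hj : L.presheaf.germ ⊤ z (Opens.mem_top z) m =
        X.presheaf.germ (V j) z hz.2 (b j) • sgerm L s z := by
      rw [← germ_sec L s (V j) z hz.2, ← Mero.germ_smul, ← hb j, TopCat.Presheaf.germ_res_apply]
    rw [← hi, ← hj]
  have hcover : (⊤ : X.Opens) ≤ iSup V := fun y _ => Opens.mem_iSup.mpr ⟨y, hyV y⟩
  obtain ⟨bb, hbb, -⟩ := TopCat.Sheaf.existsUnique_gluing' X.sheaf V ⊤
    (fun i => homOfLE le_top) hcover b hcompat
  refine ⟨bb, ?_⟩
  apply section_ext_germ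
  intro z hz
  have h1 : L.presheaf.germ ⊤ z hz m =
      X.presheaf.germ (V z) z (hyV z) (b z) • sgerm L s z := by
    rw [← germ_sec L s (V z) z (hyV z), ← Mero.germ_smul, ← hb z,
      TopCat.Presheaf.germ_res_apply]
  rw [h1, Mero.germ_smul, germ_sec, ← hbb z]
  congr 1
  exact TopCat.Presheaf.germ_res_apply X.presheaf (homOfLE le_top) z (hyV z) bb

/-- local ratio from an inclusion of zero schemes -/
theorem exists_local_ratio [IsIntegral X] (hL : PicF.IsInvertible L) (hs : s ≠ 0) (hs' : s' ≠ 0)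
    (h : PicF2.zeroScheme L s' ≤ PicF2.zeroScheme L s) (x : X) :
    ∃ (V : X.Opens) (_ : x ∈ V) (b : Γ(X, V)),
      L.presheaf.map (homOfLE (le_top : V ≤ ⊤)).op (sec L s' ⊤) = b • sec L s V := by
  obtain ⟨U, hxU, e, he, f, -, hf⟩ := exists_local_data hL hs x
  obtain ⟨f', hf', -⟩ := he U.1 le_rfl (sec L s' U.1)
  have e0 : L.presheaf.map (homOfLE (le_refl U.1)).op e = e := by
    change L.presheaf.map (𝟙 _) e = e
    rw [L.presheaf.map_id]; rfl
  rw [e0] at hf'
  have h1 := ideal_zeroScheme_eq hL (isRegSec_of_isIntegral hL hs) U e he f hf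
  have h2 := ideal_zeroScheme_eq hL (isRegSec_of_isIntegral hL hs') U e he f' hf'
  have h3 : f' ∈ Ideal.span {f} := by
    rw [← h1]
    apply h U
    rw [h2]
    exact Ideal.subset_span rfl
  obtain ⟨c, hc⟩ := Ideal.mem_span_singleton'.mp h3
  refine ⟨U.1, hxU, c, ?_⟩
  rw [sec_res, hf', hf, ← mul_smul, hc]

theorem exists_ratio [IsIntegral X] (hL : PicF.IsInvertible L) (hs : s ≠ 0) (hs' : s' ≠ 0)
    (h : PicF2.zeroScheme L s' ≤ PicF2.zeroScheme L s) :
    ∃ b : Γ(X, ⊤), sec L s' ⊤ = b • sec L s ⊤ :=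
  exists_global_ratio (isRegSec_of_isIntegral hL hs) _ (exists_local_ratio hL hs hs' h)

theorem eq_one_of_smul_sec (hreg : IsRegSec L s) (c : Γ(X, ⊤)) (hc : c • sec L s ⊤ = sec L s ⊤) :
    c = 1 := by
  apply section_ext'
  intro y hy
  rw [← sub_eq_zero, ← map_sub]
  apply hreg y
  rw [← germ_sec L s ⊤ y hy, ← Mero.germ_smul, sub_smul, one_smul, hc, sub_self, map_zero]

theorem secVal_eq_of_top (h : Γ(X, ⊤)) (hh : sec L s' ⊤ = h • sec L s ⊤) (U : X.Opens) :
    PicF2.secVal L s' U = X.presheaf.map (homOfLE (le_top : U ≤ ⊤)).op h • PicF2.secVal L s U := by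
  change sec L s' U = _ • sec L s U
  rw [← sec_res L s' (homOfLE (le_top : U ≤ ⊤)), hh, Scheme.Modules.map_smul, sec_res]
  rfl

theorem zeroIdealOn_le_of_top (h : Γ(X, ⊤)) (hu : IsUnit h) (hh : sec L s' ⊤ = h • sec L s ⊤)
    (U : X.Opens) : PicF2.zeroIdealOn L s U ≤ PicF2.zeroIdealOn L s' U := by
  intro a ha m
  obtain ⟨(b₁ : Γ(X, U)), hb⟩ := ha m
  obtain ⟨h', hh'⟩ := hu.exists_left_inv
  refine ⟨(b₁ * X.presheaf.map (homOfLE (le_top : U ≤ ⊤)).op h' : Γ(X, U)), ?_⟩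
  rw [secVal_eq_of_top h hh U]
  have h1 : ((b₁ * X.presheaf.map (homOfLE (le_top : U ≤ ⊤)).op h' : Γ(X, U)) *
      X.presheaf.map (homOfLE (le_top : U ≤ ⊤)).op h : Γ(X, U)) = b₁ := by
    rw [mul_assoc, ← map_mul, hh', map_one, mul_one]
  rw [hb]
  change b₁ • _ = (b₁ * X.presheaf.map (homOfLE (le_top : U ≤ ⊤)).op h' : Γ(X, U)) •
    ((X.presheaf.map (homOfLE (le_top : U ≤ ⊤)).op h : Γ(X, U)) • sec L s U)
  rw [← mul_smul, h1]
  rfl

theorem zeroIdealOn_eq_of_top (h : Γ(X, ⊤)) (hu : IsUnit h) (hh : sec L s' ⊤ = h • sec L s ⊤)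
    (U : X.Opens) : PicF2.zeroIdealOn L s' U = PicF2.zeroIdealOn L s U := by
  apply le_antisymm
  · obtain ⟨h', hh'⟩ := hu.exists_left_inv
    have hu' : IsUnit h' := ⟨⟨h', h, hh', by rw [mul_comm]; exact hh'⟩, rfl⟩
    apply zeroIdealOn_le_of_top h' hu'
    rw [hh, ← mul_smul, hh', one_smul]
  · exact zeroIdealOn_le_of_top h hu hh U

theorem main [IsIntegral X] (hL : PicF.IsInvertible L) (hs : s ≠ 0) (hs' : s' ≠ 0) :
    PicF2.zeroScheme L s' = PicF2.zeroScheme L s ↔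
      ∃ h : Γ(X, ⊤), IsUnit h ∧ (SecTwist.val s' ⊤ : Γ(L, ⊤)) = h • (SecTwist.val s ⊤ : Γ(L, ⊤)) := by
  constructor
  · intro h
    obtain ⟨b, hb⟩ := exists_ratio hL hs hs' h.le
    obtain ⟨b', hb'⟩ := exists_ratio hL hs' hs h.ge
    refine ⟨b, ?_, hb⟩
    have h1 : (b' * b) • sec L s ⊤ = sec L s ⊤ := by
      rw [mul_smul, ← hb, ← hb']
    have h2 := eq_one_of_smul_sec (isRegSec_of_isIntegral hL hs) _ h1
    exact ⟨⟨b, b', by rw [mul_comm]; exact h2, h2⟩, rfl⟩
  · rintro ⟨h, hu, hh⟩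
    have hh' : sec L s' ⊤ = h • sec L s ⊤ := hh
    unfold PicF2.zeroScheme
    congr 1
    funext U
    exact zeroIdealOn_eq_of_top h hu hh' U.1

end Groth.Agent.Lead.ZeroSchEq
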